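import Mathlib
import Groth.Agent.Lib.Helper17.CSA1

/-!
Helper17: base change of semisimple algebras with separable centre (Brauer package, part 1).
-/

namespace Groth.Agent.Helper17.BR

open TensorProduct Groth.Agent.Helper17

/-- In `L ⊗[K] A` with `A` a simple ring, every nonzero two-sided ideal contains a nonzero element
all of whose coefficients (w.r.t. a basis of `L`) are central in `A`. -/
theorem exists_ne_zero_central_coef (K : Type*) [Field K] (L : Type*) [Ring L] [Algebra K L]
    (A : Type*) [Ring A] [Algebra K A] [IsSimpleRing A] {ι : Type*} [DecidableEq ι]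
    (b : Module.Basis ι K L) (I : TwoSidedIdeal (L ⊗[K] A)) (hI : I ≠ ⊥) :
    ∃ x ∈ I, x ≠ 0 ∧ ∀ j, coefT b x j ∈ Subalgebra.center K A := by
  classical
  have hex : ∃ n : ℕ, ∃ x ∈ I, x ≠ 0 ∧ (coefT b x).support.card = n := by
    obtain ⟨x, hxI, hx0⟩ : ∃ x ∈ I, x ≠ 0 := by
      by_contra hcon
      push Not at hcon
      apply hI
      rw [eq_bot_iff]
      intro x hx
      rw [TwoSidedIdeal.mem_bot]
      exact hcon x hx
    exact ⟨_, x, hxI, hx0, rfl⟩
  obtain ⟨x, hxI, hx0, hxn⟩ := Nat.find_spec hex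
  have hmin : ∀ y ∈ I, y ≠ 0 → (coefT b x).support.card ≤ (coefT b y).support.card := by
    intro y hyI hy0
    rw [hxn]
    exact Nat.find_min' hex ⟨y, hyI, hy0, rfl⟩
  have hcx : coefT b x ≠ 0 := fun h => hx0 ((coefT_eq_zero_iff b x).1 h)
  obtain ⟨j0, hj0⟩ : ∃ j0, coefT b x j0 ≠ 0 := by
    by_contra hcon
    push Not at hcon
    exact hcx (Finsupp.ext hcon)
  let T : TwoSidedIdeal A := TwoSidedIdeal.mk'
    {a | ∃ y ∈ I, (∀ j, coefT b x j = 0 → coefT b y j = 0) ∧ coefT b y j0 = a}
    ⟨0, I.zero_mem, fun j _ => by simp [coefT_zero], by simp [coefT_zero]⟩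
    (by
      rintro a a' ⟨y, hy, hy1, hy2⟩ ⟨y', hy', hy1', hy2'⟩
      refine ⟨y + y', I.add_mem hy hy', fun j hj => ?_, ?_⟩
      · rw [coefT_add, Finsupp.add_apply, hy1 j hj, hy1' j hj, add_zero]
      · rw [coefT_add, Finsupp.add_apply, hy2, hy2'])
    (by
      rintro a ⟨y, hy, hy1, hy2⟩
      refine ⟨-y, I.neg_mem hy, fun j hj => ?_, ?_⟩
      · have : coefT b (-y) = - coefT b y := map_neg _ _
        rw [this, Finsupp.neg_apply, hy1 j hj, neg_zero]
      · have : coefT b (-y) = - coefT b y := map_neg _ _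
        rw [this, Finsupp.neg_apply, hy2])
    (by
      rintro a a' ⟨y, hy, hy1, hy2⟩
      refine ⟨((1 : L) ⊗ₜ[K] a) * y, I.mul_mem_left _ _ hy, fun j hj => ?_, ?_⟩
      · rw [coefT_mul_left, hy1 j hj, mul_zero]
      · rw [coefT_mul_left, hy2])
    (by
      rintro a a' ⟨y, hy, hy1, hy2⟩
      refine ⟨y * ((1 : L) ⊗ₜ[K] a'), I.mul_mem_right _ _ hy, fun j hj => ?_, ?_⟩
      · rw [coefT_mul_right, hy1 j hj, zero_mul]
      · rw [coefT_mul_right, hy2])
  have hTmem : ∀ a, a ∈ T ↔ ∃ y ∈ I, (∀ j, coefT b x j = 0 → coefT b y j = 0) ∧ coefT b y j0 = a := by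
    intro a
    exact TwoSidedIdeal.mem_mk' _ _ _ _ _ _ _
  have hT1 : (1 : A) ∈ T := by
    apply IsSimpleRing.one_mem_of_ne_zero_mem T hj0
    rw [hTmem]
    exact ⟨x, hxI, fun j hj => hj, rfl⟩
  rw [hTmem] at hT1
  obtain ⟨x', hx'I, hx'supp, hx'1⟩ := hT1
  have hsmall : ∀ y ∈ I, (∀ j, coefT b x j = 0 → coefT b y j = 0) → coefT b y j0 = 0 → y = 0 := by
    intro y hyI hy1 hy2
    by_contra hy0
    have h1 := hmin y hyI hy0
    have h2 : (coefT b y).support ⊂ (coefT b x).support := by
      rw [Finset.ssubset_iff_of_subset]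
      · exact ⟨j0, Finsupp.mem_support_iff.2 hj0, fun h => (Finsupp.mem_support_iff.1 h) hy2⟩
      · intro j hj
        rw [Finsupp.mem_support_iff] at hj ⊢
        exact fun h => hj (hy1 j h)
    exact absurd (Finset.card_lt_card h2) (not_lt.2 h1)
  have hcentral : ∀ j, ∀ a : A, a * coefT b x' j = coefT b x' j * a := by
    intro j a
    have hy : ((1 : L) ⊗ₜ[K] a) * x' - x' * ((1 : L) ⊗ₜ[K] a) = 0 := by
      apply hsmall
      · exact I.sub_mem (I.mul_mem_left _ _ hx'I) (I.mul_mem_right _ _ hx'I)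
      · intro j hj
        rw [coefT_sub, Finsupp.sub_apply, coefT_mul_left, coefT_mul_right, hx'supp j hj, mul_zero,
          zero_mul, sub_zero]
      · rw [coefT_sub, Finsupp.sub_apply, coefT_mul_left, coefT_mul_right, hx'1, mul_one, one_mul,
          sub_self]
    have := congrArg (fun z => coefT b z j) hy
    simp only [coefT_sub, Finsupp.sub_apply, coefT_mul_left, coefT_mul_right, coefT_zero,
      Finsupp.zero_apply] at this
    exact sub_eq_zero.1 this
  refine ⟨x', hx'I, ?_, fun j => ?_⟩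
  · intro h
    rw [h, coefT_zero, Finsupp.zero_apply] at hx'1
    exact one_ne_zero hx'1.symm
  · rw [Subalgebra.mem_center_iff]
    exact fun a => hcentral j a

/-- A commutative algebra over a field all of whose elements are separable is formally
unramified (no field hypothesis on the algebra). -/
theorem formallyUnramified_of_isSeparable (K : Type*) [Field K] (A : Type*) [CommRing A] [Algebra K A]
    [Algebra.IsSeparable K A] : Algebra.FormallyUnramified K A := by
  rw [Algebra.FormallyUnramified.iff_comp_injective]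
  intro B _ _ I hI f₁ f₂ e
  ext x
  have h1 : f₁ x - f₂ x ∈ I := by
    simpa [Ideal.Quotient.mk_eq_mk_iff_sub_mem] using AlgHom.congr_fun e x
  have := Polynomial.eval_add_of_sq_eq_zero ((minpoly K x).map (algebraMap K B)) (f₂ x)
    (f₁ x - f₂ x) (show (f₁ x - f₂ x) ^ 2 ∈ ⊥ from hI ▸ Ideal.pow_mem_pow h1 2)
  simp only [add_sub_cancel, Polynomial.eval_map_algebraMap, Polynomial.aeval_algHom_apply,
    minpoly.aeval, map_zero, Polynomial.derivative_map, zero_add] at this
  have hu : IsUnit (Polynomial.aeval x (Polynomial.derivative (minpoly K x))) := by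
    obtain ⟨a, b', hab⟩ := Algebra.IsSeparable.isSeparable K x
    have h2 := congrArg (Polynomial.aeval x) hab
    simp only [map_add, map_mul, minpoly.aeval, mul_zero, zero_add, map_one] at h2
    exact IsUnit.of_mul_eq_one _ (by rw [mul_comm]; exact h2)
  rwa [eq_comm, (hu.map f₂).mul_right_eq_zero, sub_eq_zero] at this


theorem isReduced_tensor_of_isSeparable (k : Type*) [Field k] (k' : Type*) [Field k'] [Algebra k k']
    (Z : Type*) [CommRing Z] [Algebra k Z] [Module.Finite k Z] (hsep : Algebra.IsSeparable k Z) :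
    IsReduced (k' ⊗[k] Z) := by
  haveI := formallyUnramified_of_isSeparable k Z
  exact Algebra.FormallyUnramified.isReduced_of_field k' (k' ⊗[k] Z)

/-- `k' ⊗ D` is semisimple if `D` is a finite-dimensional simple algebra with separable centre. -/
theorem isSemisimpleRing_tensor_of_isSimpleRing (k : Type*) [Field k] (k' : Type*) [Field k']
    [Algebra k k'] (D : Type*) [Ring D] [Algebra k D] [FiniteDimensional k D] [IsSimpleRing D]
    (hsep : Algebra.IsSeparable k (Subalgebra.center k D)) : IsSemisimpleRing (k' ⊗[k] D) := by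
  classical
  haveI : IsArtinianRing (k' ⊗[k] D) := IsArtinianRing.of_finite k' _
  rw [IsArtinianRing.isSemisimpleRing_iff_jacobson]
  by_contra hJ
  let b := Module.Basis.ofVectorSpace k k'
  have hJ' : (Ring.jacobson (k' ⊗[k] D)).toTwoSided ≠ ⊥ := by
    intro h
    apply hJ
    rw [eq_bot_iff]
    intro x hx
    have : x ∈ (Ring.jacobson (k' ⊗[k] D)).toTwoSided := Ideal.mem_toTwoSided.2 hx
    rw [h, TwoSidedIdeal.mem_bot] at this
    rw [this]
    exact Submodule.zero_mem _
  obtain ⟨x, hxJ, hx0, hxc⟩ := exists_ne_zero_central_coef k k' D b _ hJ'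
  rw [Ideal.mem_toTwoSided] at hxJ
  -- x is nilpotent
  obtain ⟨n, hn⟩ := IsSemiprimaryRing.isNilpotent (R := k' ⊗[k] D)
  have hxn : x ^ n = 0 := by
    have := Ideal.pow_mem_pow hxJ n
    rw [hn] at this
    exact this
  -- lift x to k' ⊗ Z
  let Z := Subalgebra.center k D
  let ιZ : k' ⊗[k] Z →ₐ[k'] k' ⊗[k] D := Algebra.TensorProduct.map (AlgHom.id k' k') Z.val
  have hιZ : Function.Injective ιZ := by
    have : Function.Injective (LinearMap.lTensor k' Z.val.toLinearMap) :=
      Module.Flat.lTensor_preserves_injective_linearMap _ Subtype.val_injective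
    exact this
  let x' : k' ⊗[k] Z := (coefT b x).sum fun i a => if h : a ∈ Z then b i ⊗ₜ[k] (⟨a, h⟩ : Z) else 0
  have hx' : ιZ x' = x := by
    conv_rhs => rw [eq_sum_coefT b x]
    simp only [x', Finsupp.sum, map_sum]
    refine Finset.sum_congr rfl fun i _ => ?_
    rw [dif_pos (hxc i)]
    simp [ιZ]
  haveI : IsReduced (k' ⊗[k] Z) := isReduced_tensor_of_isSeparable k k' (Subalgebra.center k D) ‹_›
  have hx'n : x' ^ n = 0 := by
    apply hιZ
    rw [map_pow, hx', hxn, map_zero]
  have : x' = 0 := IsReduced.eq_zero _ ⟨n, hx'n⟩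
  apply hx0
  rw [← hx', this, map_zero]

/-- Base change of a finite-dimensional semisimple algebra with separable centre is semisimple. -/
theorem isSemisimpleRing_baseChange (k : Type*) [Field k] (A : Type*) [Ring A] [Algebra k A]
    [FiniteDimensional k A] [IsSemisimpleRing A]
    (hsep : Algebra.IsSeparable k (Subalgebra.center k A))
    (k' : Type*) [Field k'] [Algebra k k'] : IsSemisimpleRing (k' ⊗[k] A) := by
  classical
  obtain ⟨n, D, d, _, _, _, hd, ⟨φ⟩⟩ :=
    IsSemisimpleRing.exists_algEquiv_pi_matrix_divisionRing_finite k A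
  have hcomp : ∀ i, IsSemisimpleRing (k' ⊗[k] Matrix (Fin (d i)) (Fin (d i)) (D i)) := by
    intro i
    haveI := hd i
    apply isSemisimpleRing_tensor_of_isSimpleRing
    rw [Subalgebra.isSeparable_iff]
    intro z hz
    rw [Subalgebra.mem_center_iff] at hz
    let zh : A := φ.symm (Pi.single i z)
    have hzh : zh ∈ Subalgebra.center k A := by
      rw [Subalgebra.mem_center_iff]
      intro a
      apply φ.injective
      rw [map_mul, map_mul, AlgEquiv.apply_symm_apply]
      funext j
      by_cases hj : j = i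
      · subst hj
        simp only [Pi.mul_apply, Pi.single_eq_same]
        exact hz _
      · simp only [Pi.mul_apply, Pi.single_eq_of_ne hj, mul_zero, zero_mul]
    have hs : IsSeparable k zh := (Subalgebra.isSeparable_iff.1 hsep) zh hzh
    let g : A →ₐ[k] Matrix (Fin (d i)) (Fin (d i)) (D i) :=
      (Pi.evalAlgHom k (fun i => Matrix (Fin (d i)) (Fin (d i)) (D i)) i).comp φ.toAlgHom
    have hg : g zh = z := by
      simp [g, zh]
    have hdvd : minpoly k z ∣ minpoly k zh := by
      apply minpoly.dvd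
      rw [← hg, Polynomial.aeval_algHom_apply, minpoly.aeval, map_zero]
    exact Polynomial.Separable.of_dvd hs hdvd
  let e1 : k' ⊗[k] A ≃ₐ[k'] k' ⊗[k] (Π i, Matrix (Fin (d i)) (Fin (d i)) (D i)) :=
    Algebra.TensorProduct.congr AlgEquiv.refl φ
  let e2 := Algebra.TensorProduct.piRight k k' k' (fun i => Matrix (Fin (d i)) (Fin (d i)) (D i))
  exact (e1.trans e2).symm.toRingEquiv.isSemisimpleRing

end Groth.Agent.Helper17.BR
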