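import Groth.Agent.Lib.Helper17.CSA3

/-!
# Helper17: involutions on simple algebras differ by an inner automorphism
-/

set_option autoImplicit false

namespace Groth.Agent.Helper17

theorem invol_mem_center {k : Type*} [Field k] {A : Type*} [Ring A] [Algebra k A] (s : A →ₗ[k] A)
    (hsmul : ∀ x y : A, s (x * y) = s y * s x) (hss : ∀ x : A, s (s x) = x) {c : A}
    (hc : c ∈ Subalgebra.center k A) : s c ∈ Subalgebra.center k A := by
  rw [Subalgebra.mem_center_iff] at hc ⊢
  intro y
  have h1 : y * s c = s (c * s y) := by rw [hsmul, hss]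
  have h2 : s c * y = s (s y * c) := by rw [hsmul, hss]
  rw [h1, h2, hc (s y)]

theorem exists_unit_conj_of_involutions (k : Type*) [Field k]
    (A : Type*) [Ring A] [Algebra k A] [IsSimpleRing A] [FiniteDimensional k A]
    (s t : A →ₗ[k] A) (hs1 : s 1 = 1) (hsmul : ∀ x y : A, s (x * y) = s y * s x)
    (ht1 : t 1 = 1) (htmul : ∀ x y : A, t (x * y) = t y * t x) (htt : ∀ x : A, t (t x) = x)
    (hagree : ∀ c ∈ Subalgebra.center k A, s c = t c) :
    ∃ a : Aˣ, ∀ x : A, s x = (a : A) * t x * ((a⁻¹ : Aˣ) : A) := by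
  let ψ : A →+* A :=
    { toFun := fun x => s (t x)
      map_one' := by rw [ht1, hs1]
      map_mul' := fun x y => by rw [htmul, hsmul]
      map_zero' := by rw [map_zero, map_zero]
      map_add' := fun x y => by rw [map_add, map_add] }
  have hψ : ∀ z ∈ Subring.center A, ψ z = z := by
    intro z hz
    have hz' : z ∈ Subalgebra.center k A := by
      rw [Subalgebra.mem_center_iff]
      exact Subring.mem_center_iff.mp hz
    change s (t z) = z
    rw [hagree (t z) (invol_mem_center t htmul htt hz'), htt]
  obtain ⟨u, hu⟩ := exists_conj_of_ringHom_fix_center k A ψ hψ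
  refine ⟨u, fun x => ?_⟩
  have h1 := hu (t x)
  change s (t (t x)) = _ at h1
  rw [htt] at h1
  exact h1

end Groth.Agent.Helper17
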