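import Groth.Agent.Lib.Helper17.SN1
import Groth.Agent.Lib.Helper18.CSATensor

/-!
# Helper17: base change of central algebras and of involutions
-/

set_option autoImplicit false
open scoped TensorProduct

namespace Groth.Agent.Helper17

open Groth.Agent.Helper18

theorem isCentral_baseChange (k : Type*) [Field k] (L : Type*) [Field L] [Algebra k L]
    (A : Type*) [Ring A] [Algebra k A] [Algebra.IsCentral k A] : Algebra.IsCentral L (L ⊗[k] A) := by
  classical
  constructor
  intro x hx
  rw [Subalgebra.mem_center_iff] at hx
  let b := Module.Basis.ofVectorSpace k L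
  have hcoef : ∀ i, coef b x i ∈ Subalgebra.center k A := by
    intro i
    rw [Subalgebra.mem_center_iff]
    intro a
    have h1 := congrArg (fun y => coef b y i) (hx ((1 : L) ⊗ₜ[k] a))
    simp only [coef_mul_left, coef_mul_right] at h1
    exact h1
  have hc : ∀ i, ∃ c : k, coef b x i = algebraMap k A c := fun i =>
    (Algebra.IsCentral.mem_center_iff k).mp (hcoef i)
  choose c hc using hc
  rw [Algebra.mem_bot]
  refine ⟨∑ i ∈ (coef b x).support, c i • b i, ?_⟩
  refine Eq.trans ?_ (eq_sum_coef b x).symm
  rw [Algebra.TensorProduct.algebraMap_apply, Algebra.algebraMap_self, RingHom.id_apply,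
    TensorProduct.sum_tmul, Finsupp.sum]
  refine Finset.sum_congr rfl fun i _ => ?_
  rw [hc i, Algebra.algebraMap_eq_smul_one, TensorProduct.smul_tmul]

section Invol

variable {k : Type*} [Field k] {A : Type*} [Ring A] [Algebra k A] (L : Type*) [Field L] [Algebra k L]
  (s : A →ₗ[k] A)

theorem baseChange_one (hs1 : s 1 = 1) : s.baseChange L 1 = 1 := by
  rw [Algebra.TensorProduct.one_def, LinearMap.baseChange_tmul, hs1]

theorem baseChange_mul (hsmul : ∀ x y : A, s (x * y) = s y * s x) (x y : L ⊗[k] A) :
    s.baseChange L (x * y) = s.baseChange L y * s.baseChange L x := by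
  induction x using TensorProduct.induction_on with
  | zero => simp
  | tmul l a =>
    induction y using TensorProduct.induction_on with
    | zero => simp
    | tmul l' a' =>
      rw [Algebra.TensorProduct.tmul_mul_tmul, LinearMap.baseChange_tmul, LinearMap.baseChange_tmul,
        LinearMap.baseChange_tmul, Algebra.TensorProduct.tmul_mul_tmul, hsmul, mul_comm]
    | add y y' hy hy' => rw [mul_add, map_add, map_add, add_mul, hy, hy']
  | add x x' hx hx' => rw [add_mul, map_add, map_add, mul_add, hx, hx']

theorem baseChange_invol (hss : ∀ x : A, s (s x) = x) (x : L ⊗[k] A) :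
    s.baseChange L (s.baseChange L x) = x := by
  induction x using TensorProduct.induction_on with
  | zero => simp
  | tmul l a => rw [LinearMap.baseChange_tmul, LinearMap.baseChange_tmul, hss]
  | add x x' hx hx' => rw [map_add, map_add, hx, hx']

end Invol

end Groth.Agent.Helper17
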