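import Mathlib
import Groth.Agent.Lib.Helper17.BR1
import Groth.Agent.Lib.Helper17.SN2
import Groth.Agent.Lib.Helper17.Invol3

/-!
Helper17: Brauer package, part 2: `L ⊗ A ≃ B × Bᵒᵖ` for an involution of the second kind.
-/

namespace Groth.Agent.Helper17.BR

open TensorProduct Groth.Agent.Helper17

/-- Swap lemma: an anti-involution `σ` exchanging a central idempotent `e` with `1 - e` identifies
`R` with `B × Bᵒᵖ`, where `B` is the quotient of `R` killing `1 - e`. -/
theorem exists_algEquiv_prod_op {L : Type*} [Field L] {R : Type*} [Ring R] [Algebra L R]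
    (σ : R →ₗ[L] R) (hσ1 : σ 1 = 1) (hσmul : ∀ x y : R, σ (x * y) = σ y * σ x)
    (hσσ : ∀ x : R, σ (σ x) = x) (e : R) (hecen : ∀ x : R, x * e = e * x) (hee : e * e = e)
    (hσe : σ e = 1 - e) {B : Type*} [Ring B] [Algebra L B] (π : R →ₐ[L] B)
    (hπ : Function.Surjective π) (hker : ∀ x : R, π x = 0 ↔ e * x = 0) :
    ∃ E : R ≃ₐ[L] (B × Bᵐᵒᵖ), (∀ x : R, E (σ x) =
      (MulOpposite.unop (E x).2, MulOpposite.op (E x).1)) ∧ ∀ x : R, (E x).1 = π x := by
  let π' : R →ₐ[L] Bᵐᵒᵖ :=
    { toFun := fun x => MulOpposite.op (π (σ x))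
      map_one' := by rw [hσ1, map_one, MulOpposite.op_one]
      map_mul' := fun x y => by rw [hσmul, map_mul, MulOpposite.op_mul]
      map_zero' := by rw [map_zero, map_zero, MulOpposite.op_zero]
      map_add' := fun x y => by rw [map_add, map_add, MulOpposite.op_add]
      commutes' := fun r => by
        rw [Algebra.algebraMap_eq_smul_one, map_smul, hσ1, map_smul, map_one,
          MulOpposite.algebraMap_apply, Algebra.algebraMap_eq_smul_one] }
  have hπ' : ∀ x, π' x = MulOpposite.op (π (σ x)) := fun x => rfl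
  have hπe : π e = 1 := by
    have h0 : π (1 - e) = 0 := by
      rw [hker, mul_sub, mul_one, hee, sub_self]
    rw [map_sub, map_one, sub_eq_zero] at h0
    exact h0.symm
  have hπ1e : π (1 - e) = 0 := by rw [map_sub, map_one, hπe, sub_self]
  let E0 : R →ₐ[L] (B × Bᵐᵒᵖ) := AlgHom.prod π π'
  have hE0 : ∀ x, E0 x = (π x, MulOpposite.op (π (σ x))) := fun x => rfl
  have hinj : Function.Injective E0 := by
    rw [injective_iff_map_eq_zero]
    intro x hx
    rw [hE0, Prod.mk_eq_zero, MulOpposite.op_eq_zero_iff] at hx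
    obtain ⟨h1, h2⟩ := hx
    rw [hker] at h1 h2
    have h3 : x * (1 - e) = 0 := by
      have := congrArg σ h2
      rw [hσmul, hσσ, hσe, map_zero] at this
      exact this
    have h4 : x = x * e := by
      rw [mul_sub, mul_one, sub_eq_zero] at h3
      exact h3
    rw [h4, hecen, h1]
  have hsurj : Function.Surjective E0 := by
    rintro ⟨b, b'⟩
    obtain ⟨x, hx⟩ := hπ b
    obtain ⟨x', hx'⟩ := hπ (MulOpposite.unop b')
    refine ⟨e * x + σ (e * x'), ?_⟩
    rw [hE0]
    refine Prod.ext ?_ ?_
    · change π (e * x + σ (e * x')) = b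
      rw [map_add, map_mul, hπe, one_mul, hσmul, hσe, map_mul, hπ1e, mul_zero, add_zero, hx]
    · change MulOpposite.op (π (σ (e * x + σ (e * x')))) = b'
      rw [map_add, hσσ, hσmul, hσe, map_add, map_mul, hπ1e, mul_zero, zero_add, map_mul, hπe,
        one_mul, hx', MulOpposite.op_unop]
  refine ⟨AlgEquiv.ofBijective E0 ⟨hinj, hsurj⟩, fun x => ?_, fun x => rfl⟩
  change E0 (σ x) = (MulOpposite.unop (E0 x).2, MulOpposite.op (E0 x).1)
  rw [hE0, hE0, hσσ]
  rfl

/-- A nontrivial semisimple ring whose central idempotents are trivial is simple. -/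
theorem isSimpleRing_of_central_idempotents (B : Type*) [Ring B] [IsSemisimpleRing B] [Nontrivial B]
    (h : ∀ ε : B, (∀ x : B, x * ε = ε * x) → ε * ε = ε → ε = 0 ∨ ε = 1) : IsSimpleRing B := by
  classical
  obtain ⟨n, D, d, _, hd, ⟨φ⟩⟩ := IsSemisimpleRing.exists_ringEquiv_pi_matrix_divisionRing B
  rcases isEmpty_or_nonempty (Fin n) with hE | ⟨⟨i0⟩⟩
  · exfalso
    have : Subsingleton B := φ.injective.subsingleton
    exact not_subsingleton B this
  have hall : ∀ j : Fin n, j = i0 := by
    intro j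
    by_contra hj
    let ε : B := φ.symm (Pi.single i0 1)
    have hεc : ∀ x : B, x * ε = ε * x := by
      intro x
      apply φ.injective
      rw [map_mul, map_mul, RingEquiv.apply_symm_apply]
      funext j'
      by_cases hj' : j' = i0
      · subst hj'
        simp only [Pi.mul_apply, Pi.single_eq_same, mul_one, one_mul]
      · simp only [Pi.mul_apply, Pi.single_eq_of_ne hj', mul_zero, zero_mul]
    have hεε : ε * ε = ε := by
      apply φ.injective
      rw [map_mul, RingEquiv.apply_symm_apply]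
      funext j'
      by_cases hj' : j' = i0
      · subst hj'
        simp only [Pi.mul_apply, Pi.single_eq_same, mul_one]
      · simp only [Pi.mul_apply, Pi.single_eq_of_ne hj', mul_zero]
    rcases h ε hεc hεε with h0 | h1
    · have h2 := congrArg (fun f => (φ f) i0) h0
      simp only [ε, RingEquiv.apply_symm_apply, Pi.single_eq_same, map_zero, Pi.zero_apply] at h2
      haveI := hd i0
      exact one_ne_zero h2
    · have h2 := congrArg (fun f => (φ f) j) h1
      simp only [ε, RingEquiv.apply_symm_apply, Pi.single_eq_of_ne hj, map_one, Pi.one_apply] at h2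
      haveI := hd j
      exact zero_ne_one h2
  let ψ : B →+* Matrix (Fin (d i0)) (Fin (d i0)) (D i0) :=
    (Pi.evalRingHom (fun i => Matrix (Fin (d i)) (Fin (d i)) (D i)) i0).comp φ.toRingHom
  have hψ : ∀ x, ψ x = φ x i0 := fun x => rfl
  have hψinj : Function.Injective ψ := by
    rw [injective_iff_map_eq_zero]
    intro x hx
    rw [hψ] at hx
    apply φ.injective
    rw [map_zero]
    funext j
    rw [hall j]
    exact hx
  have hψsurj : Function.Surjective ψ := by
    intro m
    refine ⟨φ.symm (Pi.single i0 m), ?_⟩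
    rw [hψ, RingEquiv.apply_symm_apply, Pi.single_eq_same]
  haveI := hd i0
  exact IsSimpleRing.of_ringEquiv (RingEquiv.ofBijective ψ ⟨hψinj, hψsurj⟩).symm inferInstance

section Quad

variable {k : Type*} [Field k] {A : Type*} [Ring A] [Algebra k A] (s : A →ₗ[k] A)

/-- trace and norm of a central element under an involution whose central fixed points are `k` -/
theorem exists_trace_norm (hsmul : ∀ x y : A, s (x * y) = s y * s x) (hss : ∀ x : A, s (s x) = x)
    (hfix : ∀ c ∈ Subalgebra.center k A, s c = c → c ∈ Set.range (algebraMap k A))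
    {c : A} (hc : c ∈ Subalgebra.center k A) :
    ∃ t n : k, c + s c = algebraMap k A t ∧ c * s c = algebraMap k A n := by
  have hsc := invol_mem_center s hsmul hss hc
  obtain ⟨t, ht⟩ := hfix (c + s c) (add_mem hc hsc) (by rw [map_add, hss, add_comm])
  obtain ⟨n, hn⟩ := hfix (c * s c) (mul_mem hc hsc) (by rw [hsmul, hss])
  exact ⟨t, n, ht.symm, hn.symm⟩

/-- the discriminant is nonzero when the centre is separable -/
theorem disc_ne_zero (hsep : Algebra.IsSeparable k (Subalgebra.center k A))
    (hsmul : ∀ x y : A, s (x * y) = s y * s x) (hss : ∀ x : A, s (s x) = x)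
    {c : A} (hc : c ∈ Subalgebra.center k A) (hsc : s c ≠ c) (t n : k)
    (ht : c + s c = algebraMap k A t) (hn : c * s c = algebraMap k A n) :
    (c - s c) * (c - s c) = algebraMap k A (t ^ 2 - 4 * n) ∧ t ^ 2 - 4 * n ≠ 0 := by
  have hsc' := invol_mem_center s hsmul hss hc
  have hcomm : s c * c = c * s c := ((Subalgebra.mem_center_iff.1 hc) (s c))
  have hsq : (c - s c) * (c - s c) = algebraMap k A (t ^ 2 - 4 * n) := by
    have h1 : (c - s c) * (c - s c) = (c + s c) * (c + s c) - 4 * (c * s c) := by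
      simp only [mul_sub, sub_mul, mul_add, add_mul, hcomm]
      noncomm_ring
    rw [h1, ht, hn, map_sub, map_mul, map_pow, map_ofNat, pow_two]
  refine ⟨hsq, fun h0 => ?_⟩
  rw [h0, map_zero] at hsq
  have hδc : c - s c ∈ Subalgebra.center k A := sub_mem hc hsc'
  have hsepδ : IsSeparable k (c - s c) := (Subalgebra.isSeparable_iff.1 hsep) _ hδc
  have h1 : minpoly k (c - s c) ∣ (Polynomial.X : Polynomial k) ^ 2 := by
    apply minpoly.dvd
    rw [map_pow, Polynomial.aeval_X, pow_two, hsq]
  have h2 : minpoly k (c - s c) ∣ Polynomial.X :=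
    (Polynomial.Separable.squarefree hsepδ).isRadical 2 _ h1
  have h3 : Polynomial.aeval (c - s c) (Polynomial.X : Polynomial k) = 0 := by
    obtain ⟨q, hq⟩ := h2
    rw [hq, map_mul, minpoly.aeval, zero_mul]
  rw [Polynomial.aeval_X, sub_eq_zero] at h3
  exact hsc h3.symm

/-- the centre is spanned by `1` and `c` -/
theorem center_eq_span (hsep : Algebra.IsSeparable k (Subalgebra.center k A))
    (hsmul : ∀ x y : A, s (x * y) = s y * s x) (hss : ∀ x : A, s (s x) = x)
    (hfix : ∀ c ∈ Subalgebra.center k A, s c = c → c ∈ Set.range (algebraMap k A))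
    {c : A} (hc : c ∈ Subalgebra.center k A) (hsc : s c ≠ c)
    {z : A} (hz : z ∈ Subalgebra.center k A) :
    ∃ l m : k, z = algebraMap k A l + m • c := by
  obtain ⟨t, n, ht, hn⟩ := exists_trace_norm s hsmul hss hfix hc
  obtain ⟨hsq, hdisc⟩ := disc_ne_zero s hsep hsmul hss hc hsc t n ht hn
  have hsc' := invol_mem_center s hsmul hss hc
  have hsz := invol_mem_center s hsmul hss hz
  have hδc : c - s c ∈ Subalgebra.center k A := sub_mem hc hsc'
  have hwc : z - s z ∈ Subalgebra.center k A := sub_mem hz hsz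
  have hcomm : (c - s c) * (z - s z) = (z - s z) * (c - s c) :=
    (Subalgebra.mem_center_iff.1 hwc) (c - s c)
  obtain ⟨m', hm'⟩ := hfix ((z - s z) * (c - s c)) (mul_mem hwc hδc) (by
    rw [hsmul, map_sub, map_sub, hss, hss, ← neg_sub c, ← neg_sub z, neg_mul_neg]
    exact hcomm)
  -- w * disc = m' δ
  have h1 : (t ^ 2 - 4 * n) • (z - s z) = m' • (c - s c) := by
    rw [Algebra.smul_def, Algebra.smul_def, ← hsq, hm', mul_assoc, hcomm, ← mul_assoc, hcomm]
  have h2 : z - s z = (m' / (t ^ 2 - 4 * n)) • (c - s c) := by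
    rw [div_eq_inv_mul, mul_smul, ← h1, smul_smul, inv_mul_cancel₀ hdisc, one_smul]
  set m := m' / (t ^ 2 - 4 * n) with hm
  have hfixed : s (z - m • c) = z - m • c := by
    rw [map_sub, map_smul]
    have : z - m • c - (s z - m • s c) = 0 := by
      have : z - m • c - (s z - m • s c) = (z - s z) - m • (c - s c) := by
        rw [smul_sub]; abel
      rw [this, h2, sub_self]
    rw [sub_eq_zero] at this
    exact this.symm
  obtain ⟨l, hl⟩ := hfix (z - m • c) (sub_mem hz (Subalgebra.smul_mem _ hc m)) hfixed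
  exact ⟨l, m, by rw [hl]; abel⟩

end Quad

section Main

universe u v w

/-- central elements of `L ⊗ A` are combinations of `1` and `1 ⊗ c` -/
theorem center_tensor_eq_span {k : Type*} [Field k] {A : Type*} [Ring A] [Algebra k A]
    (s : A →ₗ[k] A) (L : Type*) [Field L] [Algebra k L]
    (hsep : Algebra.IsSeparable k (Subalgebra.center k A))
    (hsmul : ∀ x y : A, s (x * y) = s y * s x) (hss : ∀ x : A, s (s x) = x)
    (hfix : ∀ c ∈ Subalgebra.center k A, s c = c → c ∈ Set.range (algebraMap k A))
    {c : A} (hc : c ∈ Subalgebra.center k A) (hsc : s c ≠ c)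
    {x : L ⊗[k] A} (hx : x ∈ Subalgebra.center L (L ⊗[k] A)) :
    ∃ α β : L, x = α • (1 : L ⊗[k] A) + β • ((1 : L) ⊗ₜ[k] c) := by
  classical
  rw [Subalgebra.mem_center_iff] at hx
  let b := Module.Basis.ofVectorSpace k L
  have hcoef : ∀ i, coefT b x i ∈ Subalgebra.center k A := by
    intro i
    rw [Subalgebra.mem_center_iff]
    intro a
    have h1 := congrArg (fun y => coefT b y i) (hx ((1 : L) ⊗ₜ[k] a))
    simp only [coefT_mul_left, coefT_mul_right] at h1
    exact h1
  have hlm : ∀ i, ∃ l m : k, coefT b x i = algebraMap k A l + m • c := fun i =>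
    center_eq_span s hsep hsmul hss hfix hc hsc (hcoef i)
  choose l m hlm using hlm
  refine ⟨∑ i ∈ (coefT b x).support, l i • b i, ∑ i ∈ (coefT b x).support, m i • b i, ?_⟩
  conv_lhs => rw [eq_sum_coefT b x]
  rw [Finsupp.sum, Finset.sum_smul, Finset.sum_smul, ← Finset.sum_add_distrib]
  refine Finset.sum_congr rfl fun i _ => ?_
  rw [hlm i, TensorProduct.tmul_add, Algebra.algebraMap_eq_smul_one, TensorProduct.tmul_smul,
    TensorProduct.tmul_smul, Algebra.TensorProduct.one_def, TensorProduct.smul_tmul',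
    TensorProduct.smul_tmul', TensorProduct.smul_tmul', TensorProduct.smul_tmul', smul_eq_mul,
    mul_one, smul_eq_mul, mul_one]

theorem exists_prod_op {k : Type u} [Field k] {A : Type v} [Ring A] [Algebra k A]
    [FiniteDimensional k A] [IsSemisimpleRing A]
    (hsep : Algebra.IsSeparable k (Subalgebra.center k A))
    (s : A →ₗ[k] A) (hs1 : s 1 = 1) (hsmul : ∀ x y : A, s (x * y) = s y * s x)
    (hss : ∀ x : A, s (s x) = x)
    (hfix : ∀ c ∈ Subalgebra.center k A, s c = c → c ∈ Set.range (algebraMap k A))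
    {c : A} (hc : c ∈ Subalgebra.center k A) (hsc : s c ≠ c)
    (L : Type w) [Field L] [Algebra k L] (t n : k) (ht : c + s c = algebraMap k A t)
    (hn : c * s c = algebraMap k A n)
    (a b : L) (hab : a ≠ b) (hsum : a + b = algebraMap k L t) (hprod : a * b = algebraMap k L n) :
    ∃ (B : Type (max w v)) (_ : Ring B) (_ : Algebra L B), Algebra.IsCentral L B ∧ IsSimpleRing B ∧
      FiniteDimensional L B ∧ ∃ E : (L ⊗[k] A) ≃ₐ[L] (B × Bᵐᵒᵖ),
        ∀ x : L ⊗[k] A, E (LinearMap.baseChange L s x) =
          (MulOpposite.unop (E x).2, MulOpposite.op (E x).1) := by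
  classical
  have hσ1 : LinearMap.baseChange L s 1 = 1 := baseChange_one L s hs1
  have hσmul := baseChange_mul L s hsmul
  have hσσ := baseChange_invol L s hss
  set σ := LinearMap.baseChange L s with hσ
  let u : L ⊗[k] A := (1 : L) ⊗ₜ[k] c
  have hucen : ∀ x : L ⊗[k] A, x * u = u * x := by
    intro x
    induction x using TensorProduct.induction_on with
    | zero => simp
    | tmul l a' =>
      simp only [u, Algebra.TensorProduct.tmul_mul_tmul, mul_one, one_mul]
      rw [(Subalgebra.mem_center_iff.1 hc) a']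
    | add x y hx hy => rw [add_mul, mul_add, hx, hy]
  have hcc : c * c = t • c - n • (1 : A) := by
    have h1 : c * (c + s c) = c * algebraMap k A t := by rw [ht]
    rw [mul_add, hn] at h1
    rw [Algebra.smul_def, Algebra.smul_def, mul_one, Algebra.commutes t c, ← h1]
    abel
  have huu : u * u = (a + b) • u - (a * b) • (1 : L ⊗[k] A) := by
    simp only [u, Algebra.TensorProduct.tmul_mul_tmul, mul_one, hcc, TensorProduct.tmul_sub,
      TensorProduct.tmul_smul]
    rw [hsum, hprod, algebraMap_smul, algebraMap_smul, Algebra.TensorProduct.one_def]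
  have hσu : σ u = (a + b) • (1 : L ⊗[k] A) - u := by
    have h1 : s c = t • (1 : A) - c := by
      rw [Algebra.smul_def, mul_one, ← ht]; abel
    simp only [u, σ, LinearMap.baseChange_tmul]
    rw [h1, TensorProduct.tmul_sub, TensorProduct.tmul_smul, hsum, algebraMap_smul,
      Algebra.TensorProduct.one_def]
  set γ : L := (a - b)⁻¹ with hγ
  have hγab : γ * (a - b) = 1 := inv_mul_cancel₀ (sub_ne_zero.2 hab)
  let e' : L ⊗[k] A := u - b • (1 : L ⊗[k] A)
  let e : L ⊗[k] A := γ • e'
  have he'e' : e' * e' = (a - b) • e' := by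
    simp only [e', mul_sub, sub_mul, smul_mul_assoc, mul_smul_comm, mul_one, one_mul]
    rw [huu]
    module
  have hee : e * e = e := by
    simp only [e]
    rw [smul_mul_smul_comm, he'e', smul_smul, mul_assoc, hγab, mul_one]
  have hecen : ∀ x : L ⊗[k] A, x * e = e * x := by
    intro x
    simp only [e, e', mul_smul_comm, smul_mul_assoc, mul_sub, sub_mul, mul_one, one_mul, hucen x]
  have hσe : σ e = 1 - e := by
    rw [eq_sub_iff_add_eq]
    have h2 : σ e + e = (γ * (a - b)) • (1 : L ⊗[k] A) := by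
      simp only [e, e', map_smul, map_sub, hσu, hσ1]
      module
    rw [h2, hγab, one_smul]
  have heu : e * (u - a • (1 : L ⊗[k] A)) = 0 := by
    simp only [e, e', smul_mul_assoc, mul_sub, sub_mul, mul_smul_comm, mul_one, one_mul]
    rw [huu]
    module
  let I : Ideal (L ⊗[k] A) :=
    { carrier := {x | e * x = 0}
      add_mem' := fun {x y} hx hy => by
        simp only [Set.mem_ofPred_eq] at *
        rw [mul_add, hx, hy, add_zero]
      zero_mem' := by simp
      smul_mem' := fun r x hx => by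
        simp only [Set.mem_ofPred_eq, smul_eq_mul] at *
        rw [← mul_assoc, ← hecen, mul_assoc, hx, mul_zero] }
  have hImem : ∀ x, x ∈ I ↔ e * x = 0 := fun x => Iff.rfl
  haveI : I.IsTwoSided := ⟨fun {x} y hx => by
    rw [hImem] at *
    rw [← mul_assoc, hx, zero_mul]⟩
  let π : L ⊗[k] A →ₐ[L] (L ⊗[k] A) ⧸ I := Ideal.Quotient.mkₐ L I
  have hπ : Function.Surjective π := Ideal.Quotient.mkₐ_surjective L I
  have hker : ∀ x, π x = 0 ↔ e * x = 0 := fun x => by
    rw [Ideal.Quotient.mkₐ_eq_mk, Ideal.Quotient.eq_zero_iff_mem]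
    exact hImem x
  obtain ⟨E, hE, hE1⟩ := exists_algEquiv_prod_op σ hσ1 hσmul hσσ e hecen hee hσe π hπ hker
  haveI : IsSemisimpleRing (L ⊗[k] A) := isSemisimpleRing_baseChange k A hsep L
  haveI : IsSemisimpleRing ((L ⊗[k] A) ⧸ I) :=
    RingHom.isSemisimpleRing_of_surjective (Ideal.Quotient.mk I) Ideal.Quotient.mk_surjective
  have hπe : π e = 1 := by
    have h0 : π (1 - e) = 0 := by
      rw [hker, mul_sub, mul_one, hee, sub_self]
    rw [map_sub, map_one, sub_eq_zero] at h0
    exact h0.symm
  haveI : Nontrivial A := ⟨⟨s c, c, hsc⟩⟩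
  haveI : Nontrivial (L ⊗[k] A) :=
    (Algebra.TensorProduct.includeRight_injective (R := k) (A := L) (B := A)
      (algebraMap k L).injective).nontrivial
  haveI : Nontrivial ((L ⊗[k] A) ⧸ I) := by
    refine ⟨⟨0, 1, fun h => ?_⟩⟩
    have h1 : π 1 = 0 := by rw [map_one]; exact h.symm
    rw [hker, mul_one] at h1
    rw [h1, map_zero, sub_zero] at hσe
    exact zero_ne_one hσe
  have hcentral : Algebra.IsCentral L ((L ⊗[k] A) ⧸ I) := by
    constructor
    intro zb hzb
    rw [Subalgebra.mem_center_iff] at hzb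
    obtain ⟨z, rfl⟩ := hπ zb
    have hez : e * z ∈ Subalgebra.center L (L ⊗[k] A) := by
      rw [Subalgebra.mem_center_iff]
      intro x
      have h1 : π (x * z - z * x) = 0 := by
        rw [map_sub, map_mul, map_mul, hzb (π x), sub_self]
      rw [hker, mul_sub, sub_eq_zero] at h1
      rw [← mul_assoc, hecen x, mul_assoc, h1, mul_assoc]
    obtain ⟨α, β, hαβ⟩ := center_tensor_eq_span s L hsep hsmul hss hfix hc hsc hez
    have hπu : π u = a • (1 : (L ⊗[k] A) ⧸ I) := by
      have h1 : π (u - a • 1) = 0 := (hker _).2 heu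
      rw [map_sub, map_smul, map_one, sub_eq_zero] at h1
      exact h1
    have h3 : π z = (α + β * a) • (1 : (L ⊗[k] A) ⧸ I) := by
      have h2 : π (e * z) = π z := by rw [map_mul, hπe, one_mul]
      rw [← h2, hαβ, map_add, map_smul, map_smul, map_one, hπu, smul_smul, add_smul]
    rw [h3, Algebra.mem_bot]
    exact ⟨α + β * a, by rw [Algebra.algebraMap_eq_smul_one]⟩
  have hsimple : IsSimpleRing ((L ⊗[k] A) ⧸ I) := by
    apply isSimpleRing_of_central_idempotents
    intro ε hεc hεε
    have hεmem : ε ∈ Subalgebra.center L ((L ⊗[k] A) ⧸ I) := Subalgebra.mem_center_iff.2 hεc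
    obtain ⟨r, hr⟩ := Algebra.mem_bot.1 (hcentral.out hεmem)
    have hrr : IsIdempotentElem r := by
      apply (algebraMap L ((L ⊗[k] A) ⧸ I)).injective
      rw [map_mul, hr, hεε]
    rcases IsIdempotentElem.iff_eq_zero_or_one.1 hrr with h0 | h1
    · left; rw [← hr, h0, map_zero]
    · right; rw [← hr, h1, map_one]
  have hfin : FiniteDimensional L ((L ⊗[k] A) ⧸ I) := Module.Finite.of_surjective π.toLinearMap hπ
  exact ⟨(L ⊗[k] A) ⧸ I, inferInstance, inferInstance, hcentral, hsimple, hfin, E, hE⟩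

end Main

end Groth.Agent.Helper17.BR
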