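import Mathlib
import Groth.Agent.Lib.Helper17.BR2

/-!
Helper17: Brauer package, part 3: central simple algebras over separably closed fields split;
roots of separable quadratics.
-/

namespace Groth.Agent.Helper17.BR

open TensorProduct Groth.Agent.Helper17 Polynomial

/-- A finite-dimensional central simple algebra over a separably closed field is a matrix algebra. -/
theorem exists_algEquiv_matrix_of_isSepClosed (L : Type*) [Field L] [IsSepClosed L]
    (B : Type*) [Ring B] [Algebra L B] [Algebra.IsCentral L B] [IsSimpleRing B]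
    [FiniteDimensional L B] :
    ∃ m : ℕ, Nonempty (B ≃ₐ[L] Matrix (Fin m) (Fin m) L) := by
  classical
  haveI := IsArtinianRing.of_finite L B
  obtain ⟨n, hn, D, _, _, _, ⟨e⟩⟩ := IsSimpleRing.exists_algEquiv_matrix_divisionRing_finite L B
  haveI hDc : Algebra.IsCentral L D := by
    constructor
    intro x hx
    rw [Subalgebra.mem_center_iff] at hx
    have h1 : Matrix.scalar (Fin n) x ∈ Subalgebra.center L (Matrix (Fin n) (Fin n) D) := by
      rw [Subalgebra.mem_center_iff]
      intro M
      exact ((Matrix.scalar_commute x (fun r => (hx r).symm) M).eq).symm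
    have h2 : e.symm (Matrix.scalar (Fin n) x) ∈ Subalgebra.center L B := by
      rw [Subalgebra.mem_center_iff]
      intro y
      apply e.injective
      rw [map_mul, map_mul, AlgEquiv.apply_symm_apply]
      exact (Subalgebra.mem_center_iff.1 h1) (e y)
    obtain ⟨l, hl⟩ := Algebra.mem_bot.1 (Algebra.IsCentral.out h2)
    have h3 : Matrix.scalar (Fin n) (algebraMap L D l) = Matrix.scalar (Fin n) x := by
      have h4 := congrArg e hl
      rw [AlgEquiv.commutes, AlgEquiv.apply_symm_apply] at h4
      rw [← h4]
      ext i j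
      simp [Matrix.algebraMap_matrix_apply, Matrix.diagonal_apply]
    rw [Algebra.mem_bot]
    exact ⟨l, Matrix.scalar_inj.1 h3⟩
  have htop : (⊥ : Subalgebra L D) = ⊤ := by
    by_contra hne
    obtain ⟨x, hxbot, hxsep⟩ := JacobsonNoether.exists_separable_and_not_isCentral' hne
    apply hxbot
    have hint : IsIntegral L x := Algebra.IsIntegral.isIntegral x
    have hdeg : (minpoly L x).degree = 1 :=
      IsSepClosed.degree_eq_one_of_irreducible L (minpoly.irreducible hint) hxsep
    have := minpoly.mem_range_of_degree_eq_one L x hdeg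
    rw [Algebra.mem_bot]
    exact this
  have hbij : Function.Bijective (Algebra.ofId L D) := by
    refine ⟨(algebraMap L D).injective, fun x => ?_⟩
    have : x ∈ (⊥ : Subalgebra L D) := by rw [htop]; exact Algebra.mem_top
    exact Algebra.mem_bot.1 this
  exact ⟨n, ⟨e.trans (AlgEquiv.mapMatrix (AlgEquiv.ofBijective (Algebra.ofId L D) hbij).symm)⟩⟩

/-- roots of a quadratic with nonzero discriminant over a separably closed field -/
theorem exists_roots_of_isSepClosed (L : Type*) [Field L] [IsSepClosed L] (T N : L)
    (hD : T ^ 2 - 4 * N ≠ 0) : ∃ a b : L, a ≠ b ∧ a + b = T ∧ a * b = N := by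
  let f : L[X] := C 1 * X ^ 2 + C (-T) * X + C N
  have hf' : derivative f = C 2 * X + C (-T) := by
    simp only [f, derivative_add, derivative_mul, derivative_C, zero_mul, zero_add, derivative_X_pow,
      derivative_X, mul_one, C_1, one_mul, Nat.cast_ofNat, Nat.add_one_sub_one, pow_one,
      add_zero]
  have hsep : f.Separable := by
    refine ⟨C (-4 / (T ^ 2 - 4 * N)), C (1 / (T ^ 2 - 4 * N)) * (C 2 * X + C (-T)), ?_⟩
    rw [hf']
    have h1 : (C (T ^ 2 - 4 * N) : L[X]) * C (1 / (T ^ 2 - 4 * N)) = 1 := by
      rw [← C_mul, mul_one_div_cancel hD, C_1]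
    have h2 : (C (-4 / (T ^ 2 - 4 * N)) : L[X]) = C (-4) * C (1 / (T ^ 2 - 4 * N)) := by
      rw [← C_mul]; congr 1; ring
    rw [h2]
    simp only [f, C_neg, C_1, C_sub, C_mul, C_pow, C_ofNat] at h1 ⊢
    linear_combination h1
  have hdeg : f.degree ≠ 0 := by
    rw [degree_quadratic one_ne_zero]
    norm_num
  obtain ⟨a, ha⟩ := IsSepClosed.exists_root f hdeg hsep
  have ha' : a ^ 2 - T * a + N = 0 := by
    have : eval a f = 0 := ha
    simp only [f, eval_add, eval_mul, eval_C, eval_pow, eval_X] at this
    linear_combination this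
  refine ⟨a, T - a, fun h => hD ?_, by ring, by linear_combination -ha'⟩
  have h2 : T = 2 * a := by linear_combination -h
  linear_combination (T - 2 * a) * h2 - 4 * ha'
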