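import Mathlib

set_option autoImplicit false
universe u
open CategoryTheory AlgebraicGeometry Limits MvPolynomial

namespace Groth.Agent.Helper17.JT

section Ring

variable {A : Type u} [CommRing A] {r : ℕ} (f : Fin r → A)

/-- the Jouanolou relation `∑ fᵢ xᵢ - 1` -/
noncomputable def rel : MvPolynomial (Option (Fin r)) A :=
  (∑ i, C (f i) * X (some i)) - 1

/-- the Jouanolou algebra `A[x₁,…,x_r,t]/(∑ fᵢ xᵢ - 1)` -/
abbrev JA : Type u := MvPolynomial (Option (Fin r)) A ⧸ Ideal.span {rel f}

noncomputable def xi (i : Fin r) : JA f := Ideal.Quotient.mk _ (X (some i))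

noncomputable def tau : JA f := Ideal.Quotient.mk _ (X none)

theorem algebraMap_JA (a : A) :
    algebraMap A (JA f) a = Ideal.Quotient.mk (Ideal.span {rel f}) (C a) := rfl

theorem rel_eq : ∑ i, algebraMap A (JA f) (f i) * xi f i = 1 := by
  have h : Ideal.Quotient.mk (Ideal.span {rel f}) (rel f) = 0 :=
    Ideal.Quotient.eq_zero_iff_mem.2 (Ideal.subset_span rfl)
  unfold rel at h
  rw [map_sub, map_one, sub_eq_zero, map_sum] at h
  refine Eq.trans ?_ h
  refine Finset.sum_congr rfl (fun i _ => ?_)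
  rw [map_mul]
  rfl

/-- maps out of the Jouanolou algebra -/
noncomputable def lift {S : Type u} [CommRing S] (φ : A →+* S) (x : Fin r → S) (t : S)
    (h : ∑ i, φ (f i) * x i = 1) : JA f →+* S :=
  Ideal.Quotient.lift _ (eval₂Hom φ (fun o => Option.elim o t x)) (by
    intro a ha
    have hle : Ideal.span {rel f} ≤ RingHom.ker (eval₂Hom φ (fun o => Option.elim o t x)) := by
      rw [Ideal.span_le, Set.singleton_subset_iff]
      show eval₂Hom φ (fun o => Option.elim o t x) (rel f) = 0
      unfold rel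
      rw [map_sub, map_one, map_sum, sub_eq_zero, ← h]
      refine Finset.sum_congr rfl (fun i _ => ?_)
      rw [map_mul, eval₂Hom_C, eval₂Hom_X']
      rfl
    exact hle ha)

theorem lift_algebraMap {S : Type u} [CommRing S] (φ : A →+* S) (x : Fin r → S) (t : S)
    (h : ∑ i, φ (f i) * x i = 1) (a : A) : lift f φ x t h (algebraMap A (JA f) a) = φ a := by
  rw [algebraMap_JA]
  show eval₂Hom φ (fun o => Option.elim o t x) (C a) = φ a
  rw [eval₂Hom_C]

theorem lift_xi {S : Type u} [CommRing S] (φ : A →+* S) (x : Fin r → S) (t : S)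
    (h : ∑ i, φ (f i) * x i = 1) (i : Fin r) : lift f φ x t h (xi f i) = x i := by
  show eval₂Hom φ (fun o => Option.elim o t x) (X (some i)) = x i
  rw [eval₂Hom_X']
  rfl

theorem lift_tau {S : Type u} [CommRing S] (φ : A →+* S) (x : Fin r → S) (t : S)
    (h : ∑ i, φ (f i) * x i = 1) : lift f φ x t h (tau f) = t := by
  show eval₂Hom φ (fun o => Option.elim o t x) (X none) = t
  rw [eval₂Hom_X']
  rfl

theorem hom_ext {S : Type u} [CommRing S] (g₁ g₂ : JA f →+* S)
    (h1 : ∀ a, g₁ (algebraMap A (JA f) a) = g₂ (algebraMap A (JA f) a))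
    (h2 : ∀ i, g₁ (xi f i) = g₂ (xi f i)) (h3 : g₁ (tau f) = g₂ (tau f)) : g₁ = g₂ := by
  apply Ideal.Quotient.ringHom_ext
  apply MvPolynomial.ringHom_ext
  · intro a
    exact h1 a
  · intro o
    cases o with
    | none => exact h3
    | some i => exact h2 i

end Ring

end Groth.Agent.Helper17.JT
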