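import Mathlib
import Groth.Agent.Lib.Helper17.JT1

set_option autoImplicit false
universe u
open CategoryTheory AlgebraicGeometry Limits

namespace Groth.Agent.Helper17.JT

/-- the Jouanolou scheme over a quasi-affine scheme -/
theorem exists_jouanolou (X : Scheme.{u}) [X.IsQuasiAffine] :
    ∃ (r : ℕ) (f : Fin r → Γ(X, ⊤)) (p : Spec (CommRingCat.of (JA f)) ⟶ X),
      p ≫ X.toSpecΓ = Spec.map (CommRingCat.ofHom (algebraMap Γ(X, ⊤) (JA f))) ∧
      ∀ (X' : Scheme.{u}) [IsAffine X'] (g : X' ⟶ X),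
        Ideal.span (Set.range fun i => g.appTop.hom (f i)) = ⊤ := by
  classical
  have hco : IsCompact (Set.range X.toSpecΓ : Set (PrimeSpectrum Γ(X, ⊤))) ∧
      IsOpen (Set.range X.toSpecΓ : Set (PrimeSpectrum Γ(X, ⊤))) :=
    ⟨isCompact_range X.toSpecΓ.continuous, X.toSpecΓ.isOpenEmbedding.isOpen_range⟩
  obtain ⟨s, hs⟩ := PrimeSpectrum.isCompact_isOpen_iff.1 hco
  obtain ⟨r, f, hmem⟩ : ∃ (r : ℕ) (f : Fin r → Γ(X, ⊤)), ∀ z : PrimeSpectrum Γ(X, ⊤),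
      z ∈ (Set.range X.toSpecΓ : Set (PrimeSpectrum Γ(X, ⊤))) ↔ ∃ i, f i ∉ z.asIdeal := by
    refine ⟨s.card, fun i => ((s.equivFin.symm i : s) : Γ(X, ⊤)), ?_⟩
    intro z
    rw [← hs, Set.mem_compl_iff, PrimeSpectrum.mem_zeroLocus, Set.not_subset]
    constructor
    · rintro ⟨a, ha, haz⟩
      refine ⟨s.equivFin ⟨a, Finset.mem_coe.1 ha⟩, ?_⟩
      show ((s.equivFin.symm (s.equivFin ⟨a, Finset.mem_coe.1 ha⟩) : s) : Γ(X, ⊤)) ∉ z.asIdeal
      rw [Equiv.symm_apply_apply]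
      exact haz
    · rintro ⟨i, hi⟩
      exact ⟨_, Finset.mem_coe.2 (s.equivFin.symm i).2, hi⟩
  have hq : Set.range (Spec.map (CommRingCat.ofHom (algebraMap Γ(X, ⊤) (JA f)))) ⊆
      Set.range X.toSpecΓ := by
    rintro _ ⟨y, rfl⟩
    refine (hmem _).2 ?_
    by_contra hcon
    push Not at hcon
    have h1 : ∀ i, algebraMap Γ(X, ⊤) (JA f) (f i) ∈
        (y : PrimeSpectrum (JA f)).asIdeal := fun i => hcon i
    have h2 : (1 : JA f) ∈ (y : PrimeSpectrum (JA f)).asIdeal := by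
      rw [← rel_eq f]
      exact Ideal.sum_mem _ (fun i _ => Ideal.mul_mem_right _ _ (h1 i))
    exact (y : PrimeSpectrum (JA f)).isPrime.ne_top ((Ideal.eq_top_iff_one _).2 h2)
  refine ⟨r, f, IsOpenImmersion.lift X.toSpecΓ _ hq, IsOpenImmersion.lift_fac _ _ _, ?_⟩
  intro X' _ g
  rw [← (isAffineOpen_top X').iSup_basicOpen_eq_self_iff, eq_top_iff]
  intro x' _
  obtain ⟨i, hi⟩ := (hmem (X.toSpecΓ (g x'))).1 ⟨g x', rfl⟩
  refine TopologicalSpace.Opens.mem_iSup.2 ⟨⟨g.appTop.hom (f i), i, rfl⟩, ?_⟩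
  show x' ∈ X'.basicOpen (g.appTop.hom (f i))
  have h1 : g x' ∈ X.basicOpen (f i) := by
    rw [← Scheme.toSpecΓ_preimage_basicOpen]
    exact hi
  have h2 : x' ∈ g ⁻¹ᵁ X.basicOpen (f i) := h1
  rw [Scheme.preimage_basicOpen] at h2
  exact h2

end Groth.Agent.Helper17.JT
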