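import Mathlib
import Groth.Agent.Lib.Helper17.JT2

set_option autoImplicit false
universe u
open CategoryTheory AlgebraicGeometry Limits

namespace Groth.Agent.Helper17.JT

theorem comp_appTop_apply {X Y Z : Scheme.{u}} (f : X ⟶ Y) (g : Y ⟶ Z) (a : Γ(Z, ⊤)) :
    (f ≫ g).appTop.hom a = f.appTop.hom (g.appTop.hom a) := by
  rw [Scheme.Hom.comp_appTop]
  rfl

theorem hom_ext_of_quasiAffine {Z X : Scheme.{u}} [X.IsQuasiAffine] (v₁ v₂ : Z ⟶ X)
    (h : ∀ a, v₁.appTop.hom a = v₂.appTop.hom a) : v₁ = v₂ := by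
  have h' : v₁.appTop = v₂.appTop := CommRingCat.hom_ext (RingHom.ext h)
  rw [← cancel_mono X.toSpecΓ, Scheme.toSpecΓ_naturality, Scheme.toSpecΓ_naturality, h']

/-- the canonical identification `R ≅ Γ(Spec R, ⊤)` as a ring hom -/
noncomputable def iot (R : Type u) [CommRing R] : R →+* Γ(Spec (CommRingCat.of R), ⊤) :=
  (Scheme.ΓSpecIso (CommRingCat.of R)).inv.hom

theorem iot_surj (R : Type u) [CommRing R] (z : Γ(Spec (CommRingCat.of R), ⊤)) :
    ∃ a, iot R a = z :=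
  ⟨(Scheme.ΓSpecIso (CommRingCat.of R)).hom.hom z, Iso.hom_inv_id_apply (C := CommRingCat) _ _⟩

theorem exists_toSpec {R : Type u} [CommRing R] (Z : Scheme.{u}) (ψ : R →+* Γ(Z, ⊤)) :
    ∃ uu : Z ⟶ Spec (CommRingCat.of R), ∀ a, uu.appTop.hom (iot R a) = ψ a := by
  refine ⟨Z.toSpecΓ ≫ Spec.map (CommRingCat.ofHom ψ), ?_⟩
  intro a
  have h : (Z.toSpecΓ ≫ Spec.map (CommRingCat.ofHom ψ)).appTop =
      (Scheme.ΓSpecIso (CommRingCat.of R)).hom ≫ CommRingCat.ofHom ψ := by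
    rw [Scheme.Hom.comp_appTop, Scheme.toSpecΓ_appTop, Scheme.ΓSpecIso_naturality]
  rw [h]
  show ψ ((Scheme.ΓSpecIso (CommRingCat.of R)).hom.hom
    ((Scheme.ΓSpecIso (CommRingCat.of R)).inv.hom a)) = ψ a
  congr 1
  exact Iso.inv_hom_id_apply (C := CommRingCat) _ _

theorem toSpec_ext {R : Type u} [CommRing R] {Z : Scheme.{u}}
    (v₁ v₂ : Z ⟶ Spec (CommRingCat.of R))
    (h : ∀ a, v₁.appTop.hom (iot R a) = v₂.appTop.hom (iot R a)) : v₁ = v₂ := by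
  apply ext_of_isAffine
  apply CommRingCat.hom_ext
  apply RingHom.ext
  intro z
  obtain ⟨a, rfl⟩ := iot_surj R z
  exact h a

theorem appTop_of_fac {X : Scheme.{u}} {R : Type u} [CommRing R] (φ : Γ(X, ⊤) →+* R)
    (p : Spec (CommRingCat.of R) ⟶ X) (hp : p ≫ X.toSpecΓ = Spec.map (CommRingCat.ofHom φ))
    (a : Γ(X, ⊤)) : p.appTop.hom a = iot R (φ a) := by
  have h1 := congrArg Scheme.Hom.appTop hp
  rw [Scheme.Hom.comp_appTop, Scheme.toSpecΓ_appTop] at h1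
  have h2 : p.appTop = CommRingCat.ofHom φ ≫ (Scheme.ΓSpecIso (CommRingCat.of R)).inv := by
    rw [Scheme.ΓSpecIso_inv_naturality, ← h1]
    exact (Iso.inv_hom_id_assoc (Scheme.ΓSpecIso Γ(X, ⊤)) p.appTop).symm
  rw [h2]
  rfl

end Groth.Agent.Helper17.JT
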