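import Mathlib
import Groth.Prelude.Def_CohB1

set_option autoImplicit false
universe u
open HomogeneousLocalization

namespace Groth.Agent.Helper17.SG

section EvalAway

variable {C σC : Type*} [CommRing C] [SetLike σC C] [AddSubgroupClass σC C]
  (𝒞 : ℕ → σC) [GradedRing 𝒞]
variable {G : Type*} [CommRing G]

/-- evaluate a degree-zero fraction through a ring hom inverting the denominator -/
noncomputable def evalAway (s : C →+* G) (h : C) (hu : IsUnit (s h)) : Away 𝒞 h →+* G :=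
  (IsLocalization.Away.lift (S := Localization.Away h) h hu).comp
    (algebraMap (Away 𝒞 h) (Localization.Away h))

theorem evalAway_apply (s : C →+* G) (h : C) (hu : IsUnit (s h)) (z : Away 𝒞 h) :
    evalAway 𝒞 s h hu z = IsLocalization.Away.lift (S := Localization.Away h) h hu z.val := rfl

theorem evalAway_mk (s : C →+* G) (h : C) (hu : IsUnit (s h)) {d : ℕ} (hh : h ∈ 𝒞 d) (k : ℕ)
    (a : C) (ha : a ∈ 𝒞 (k • d)) :
    evalAway 𝒞 s h hu (Away.mk 𝒞 hh k a ha) * s h ^ k = s a := by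
  have h1 : (Away.mk 𝒞 hh k a ha).val * algebraMap C (Localization.Away h) (h ^ k) =
      algebraMap C (Localization.Away h) a := by
    rw [Away.val_mk, Localization.mk_eq_mk']
    exact IsLocalization.mk'_spec _ _ _
  have h2 := congrArg (IsLocalization.Away.lift (S := Localization.Away h) h hu) h1
  rw [map_mul, IsLocalization.Away.lift_eq, IsLocalization.Away.lift_eq, map_pow] at h2
  exact h2

theorem evalAway_unique (s : C →+* G) (h : C) (hu : IsUnit (s h)) {d : ℕ} (hh : h ∈ 𝒞 d)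
    (ρ : Away 𝒞 h →+* G)
    (hρ : ∀ (k : ℕ) (a : C) (ha : a ∈ 𝒞 (k • d)), ρ (Away.mk 𝒞 hh k a ha) * s h ^ k = s a) :
    ρ = evalAway 𝒞 s h hu := by
  apply RingHom.ext
  intro z
  obtain ⟨k, a, ha, rfl⟩ := Away.mk_surjective 𝒞 hh z
  have h1 := hρ k a ha
  have h2 := evalAway_mk 𝒞 s h hu hh k a ha
  exact (hu.pow k).mul_left_injective (h1.trans h2.symm)

theorem comp_evalAway {G' : Type*} [CommRing G'] (g : G →+* G') (s : C →+* G) (h : C)
    (hu : IsUnit (s h)) {d : ℕ} (hh : h ∈ 𝒞 d) (hu' : IsUnit ((g.comp s) h)) :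
    g.comp (evalAway 𝒞 s h hu) = evalAway 𝒞 (g.comp s) h hu' := by
  apply evalAway_unique 𝒞 (g.comp s) h hu' hh
  intro k a ha
  rw [RingHom.comp_apply, RingHom.comp_apply, RingHom.comp_apply, ← map_pow, ← map_mul,
    evalAway_mk]

theorem evalAway_comp_awayMap (s : C →+* G) {f g x : C} {d e : ℕ} (hf : f ∈ 𝒞 d) (hg : g ∈ 𝒞 e)
    (hx : x = f * g) (hux : IsUnit (s x)) (huf : IsUnit (s f)) :
    (evalAway 𝒞 s x hux).comp (awayMap 𝒞 hg hx) = evalAway 𝒞 s f huf := by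
  subst hx
  have hug : IsUnit (s g) := by
    rw [map_mul] at hux
    exact isUnit_of_mul_isUnit_right hux
  apply evalAway_unique 𝒞 s f huf hf
  intro k a ha
  rw [RingHom.comp_apply, awayMap_mk 𝒞 hg rfl k hf a ha]
  have h1 := evalAway_mk 𝒞 s (f * g) hux (SetLike.mul_mem_graded hf hg) k (a * g ^ k)
    (by rw [smul_add]; exact SetLike.mul_mem_graded ha (SetLike.pow_mem_graded k hg))
  have h3 : s (f * g) ^ k = s f ^ k * s g ^ k := by rw [map_mul, mul_pow]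
  have h4 : s (a * g ^ k) = s a * s g ^ k := by rw [map_mul, map_pow]
  rw [h3, h4, ← mul_assoc] at h1
  exact (hug.pow k).mul_left_injective h1

theorem evalAway_scale (s s' : C →+* G) (u : G) (hu : IsUnit u)
    (hs : ∀ (k : ℕ) (a : C), a ∈ 𝒞 k → s' a = u ^ k * s a)
    {h : C} {d : ℕ} (hh : h ∈ 𝒞 d) (hus : IsUnit (s h)) (hus' : IsUnit (s' h)) :
    evalAway 𝒞 s' h hus' = evalAway 𝒞 s h hus := by
  apply evalAway_unique 𝒞 s h hus hh
  intro k a ha
  have h1 := evalAway_mk 𝒞 s' h hus' hh k a ha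
  have e1 : s' h ^ k = u ^ (k • d) * s h ^ k := by
    rw [hs d h hh, mul_pow, ← pow_mul, smul_eq_mul, mul_comm d k]
  rw [e1, hs (k • d) a ha] at h1
  have h2 : u ^ (k • d) * (evalAway 𝒞 s' h hus' (Away.mk 𝒞 hh k a ha) * s h ^ k) =
      u ^ (k • d) * s a := by
    rw [← h1]; ring
  exact (hu.pow (k • d)).mul_right_injective h2

theorem evalAway_fromZero (s : C →+* G) (h : C) (hu : IsUnit (s h)) (c : 𝒞 0) :
    evalAway 𝒞 s h hu (fromZeroRingHom 𝒞 (Submonoid.powers h) c) = s (c : C) := by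
  have h1 : (fromZeroRingHom 𝒞 (Submonoid.powers h) c).val =
      algebraMap C (Localization.Away h) (c : C) := by
    rw [← Localization.mk_one_eq_algebraMap]
    rfl
  rw [evalAway_apply, h1, IsLocalization.Away.lift_eq]

theorem mk_self {f : C} {d : ℕ} (hf : f ∈ 𝒞 d) (hf' : f ∈ 𝒞 (1 • d)) :
    Away.mk 𝒞 hf 1 f hf' = 1 := by
  apply val_injective
  rw [Away.val_mk, val_one]
  have : (⟨f ^ 1, ⟨1, rfl⟩⟩ : Submonoid.powers f) = ⟨f, Submonoid.mem_powers f⟩ :=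
    Subtype.ext (pow_one f)
  rw [this]
  exact Localization.mk_self (⟨f, Submonoid.mem_powers f⟩ : Submonoid.powers f)

/-- relation (A1) in `Away (f₁ * f₂)` -/
theorem awayMap_rel {f₁ f₂ a : C} (hf₁ : f₁ ∈ 𝒞 1) (hf₂ : f₂ ∈ 𝒞 1) (ha : a ∈ 𝒞 1)
    (h1 : f₁ ∈ 𝒞 (1 • 1)) (h2 : f₂ ∈ 𝒞 (1 • 1)) (h3 : a ∈ 𝒞 (1 • 1)) :
    awayMap 𝒞 hf₁ (mul_comm f₁ f₂) (Away.mk 𝒞 hf₂ 1 a h3) =
      awayMap 𝒞 hf₂ (rfl : f₁ * f₂ = f₁ * f₂) (Away.mk 𝒞 hf₁ 1 a h3) *
        awayMap 𝒞 hf₁ (mul_comm f₁ f₂) (Away.mk 𝒞 hf₂ 1 f₁ h1) := by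
  apply val_injective
  rw [val_mul, awayMap_mk, awayMap_mk, awayMap_mk, Away.val_mk, Away.val_mk, Away.val_mk,
    Localization.mk_mul, Localization.mk_eq_mk_iff, Localization.r_iff_exists]
  refine ⟨1, ?_⟩
  simp only [OneMemClass.coe_one, one_mul, Submonoid.coe_mul, pow_one]
  ring

/-- relation (A2) in `Away (f₁ * f₂)` -/
theorem awayMap_inv {f₁ f₂ : C} (hf₁ : f₁ ∈ 𝒞 1) (hf₂ : f₂ ∈ 𝒞 1)
    (h1 : f₁ ∈ 𝒞 (1 • 1)) (h2 : f₂ ∈ 𝒞 (1 • 1)) :
    awayMap 𝒞 hf₂ (rfl : f₁ * f₂ = f₁ * f₂) (Away.mk 𝒞 hf₁ 1 f₂ h2) *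
        awayMap 𝒞 hf₁ (mul_comm f₁ f₂) (Away.mk 𝒞 hf₂ 1 f₁ h1) = 1 := by
  apply val_injective
  rw [val_mul, awayMap_mk, awayMap_mk, Away.val_mk, Away.val_mk, val_one,
    Localization.mk_mul, ← Localization.mk_one, Localization.mk_eq_mk_iff,
    Localization.r_iff_exists]
  refine ⟨1, ?_⟩
  simp only [OneMemClass.coe_one, one_mul, Submonoid.coe_mul, pow_one, mul_one]
  ring

end EvalAway

section Poly

open MvPolynomial

theorem map_monomial_eq {ι R G : Type*} [CommRing R] [CommRing G] (s : MvPolynomial ι R →+* G)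
    (v : ι →₀ ℕ) (c : R) :
    s (monomial v c) = s (C c) * ∏ n ∈ v.support, s (X n) ^ (v n) := by
  rw [monomial_eq, map_mul, Finsupp.prod, map_prod]
  congr 1
  refine Finset.prod_congr rfl (fun n _ => ?_)
  rw [map_pow]

theorem scale_of_homogeneous {ι R G : Type*} [CommRing R] [CommRing G]
    (s₁ s₂ : MvPolynomial ι R →+* G) (u : G)
    (hC : ∀ r, s₂ (C r) = s₁ (C r)) (hX : ∀ q, s₂ (X q) = u * s₁ (X q))
    (k : ℕ) (a : MvPolynomial ι R) (ha : a.IsHomogeneous k) : s₂ a = u ^ k * s₁ a := by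
  classical
  have h := a.as_sum
  have e₂ : s₂ a = ∑ v ∈ a.support, s₂ (monomial v (coeff v a)) := by
    conv_lhs => rw [h]
    rw [map_sum]
  have e₁ : s₁ a = ∑ v ∈ a.support, s₁ (monomial v (coeff v a)) := by
    conv_lhs => rw [h]
    rw [map_sum]
  rw [e₁, e₂, Finset.mul_sum]
  refine Finset.sum_congr rfl (fun v hv => ?_)
  rw [map_monomial_eq s₂, map_monomial_eq s₁, hC]
  have hk : k = ∑ i ∈ v.support, v i := ha.degree_eq_sum_deg_support hv
  have hp : ∏ n ∈ v.support, s₂ (X n) ^ v n = u ^ k * ∏ n ∈ v.support, s₁ (X n) ^ v n := by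
    rw [hk, ← Finset.prod_pow_eq_pow_sum, ← Finset.prod_mul_distrib]
    refine Finset.prod_congr rfl (fun n _ => ?_)
    rw [hX, mul_pow]
  rw [hp]
  ring

theorem loc_mk_eq {A : Type*} [CommRing A] (f a : A) (k : ℕ)
    (hk : f ^ k ∈ Submonoid.powers f) :
    (Localization.mk a ⟨f ^ k, hk⟩ : Localization.Away f) =
      (Localization.mk 1 ⟨f, Submonoid.mem_powers f⟩ : Localization.Away f) ^ k *
        algebraMap A (Localization.Away f) a := by
  rw [Localization.mk_pow, ← Localization.mk_one_eq_algebraMap, Localization.mk_mul, one_pow,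
    one_mul]
  congr 1
  apply Subtype.ext
  simp

end Poly

end Groth.Agent.Helper17.SG
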