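import Mathlib
import Groth.Agent.Lib.Helper17.SG1

set_option autoImplicit false
universe u
open HomogeneousLocalization MvPolynomial

namespace Groth.Agent.Helper17.SG

variable (n : ℕ) (R : Type u) [CommRing R]

theorem X_mem (i : Fin (n + 1)) :
    (X i : MvPolynomial (Fin (n + 1)) R) ∈ CohB1.polyGrading n R 1 :=
  isHomogeneous_X R i

theorem X_mem' (i : Fin (n + 1)) :
    (X i : MvPolynomial (Fin (n + 1)) R) ∈ CohB1.polyGrading n R (1 • 1) := by
  rw [one_smul]; exact X_mem n R i

/-- `x_k / x_i` -/
noncomputable def fr (i k : Fin (n + 1)) :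
    Away (CohB1.polyGrading n R) (X i : MvPolynomial (Fin (n + 1)) R) :=
  Away.mk (CohB1.polyGrading n R) (X_mem n R i) 1 (X k) (X_mem' n R k)

theorem fr_self (i : Fin (n + 1)) : fr n R i i = 1 := mk_self _ _ _

/-- structure map -/
noncomputable def strA (i : Fin (n + 1)) :
    R →+* Away (CohB1.polyGrading n R) (X i : MvPolynomial (Fin (n + 1)) R) :=
  (fromZeroRingHom (CohB1.polyGrading n R) _).comp (algebraMap R (CohB1.polyGrading n R 0))

/-- dehomogenisation -/
noncomputable def ev (i : Fin (n + 1)) : MvPolynomial (Fin (n + 1)) R →+*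
    Away (CohB1.polyGrading n R) (X i : MvPolynomial (Fin (n + 1)) R) :=
  eval₂Hom (strA n R i) (fun k => fr n R i k)

theorem ev_C (i : Fin (n + 1)) (r : R) : ev n R i (C r) = strA n R i r := by
  unfold ev
  rw [eval₂Hom_C]

theorem ev_X (i k : Fin (n + 1)) : ev n R i (X k) = fr n R i k := by
  unfold ev
  rw [eval₂Hom_X']

theorem mk_eq_ev (i : Fin (n + 1)) (k : ℕ) (a : MvPolynomial (Fin (n + 1)) R)
    (ha : a ∈ CohB1.polyGrading n R (k • 1)) :
    Away.mk (CohB1.polyGrading n R) (X_mem n R i) k a ha = ev n R i a := by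
  apply val_injective
  have hk : a.IsHomogeneous k := by
    have := ha; rw [smul_eq_mul, mul_one] at this; exact this
  have h1 := scale_of_homogeneous
    (algebraMap (MvPolynomial (Fin (n + 1)) R)
      (Localization.Away (X i : MvPolynomial (Fin (n + 1)) R)))
    ((algebraMap (Away (CohB1.polyGrading n R) (X i : MvPolynomial (Fin (n + 1)) R))
      (Localization.Away (X i : MvPolynomial (Fin (n + 1)) R))).comp (ev n R i))
    (Localization.mk 1 ⟨X i, Submonoid.mem_powers _⟩) ?_ ?_ k a hk
  · rw [Away.val_mk, loc_mk_eq]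
    exact h1.symm
  · intro r
    rw [RingHom.comp_apply, ev_C]
    show (fromZeroRingHom (CohB1.polyGrading n R) _
      (algebraMap R (CohB1.polyGrading n R 0) r)).val = _
    rw [← Localization.mk_one_eq_algebraMap]
    rfl
  · intro q
    rw [RingHom.comp_apply, ev_X]
    show (fr n R i q).val = _
    unfold fr
    rw [Away.val_mk, loc_mk_eq, pow_one]

theorem ev_surjective (i : Fin (n + 1))
    (z : Away (CohB1.polyGrading n R) (X i : MvPolynomial (Fin (n + 1)) R)) :
    ∃ a, ev n R i a = z := by
  obtain ⟨k, a, ha, rfl⟩ := Away.mk_surjective (CohB1.polyGrading n R) (X_mem n R i) z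
  exact ⟨a, (mk_eq_ev n R i k a ha).symm⟩

theorem irrelevant_le_span :
    (HomogeneousIdeal.irrelevant (CohB1.polyGrading n R)).toIdeal ≤
      Ideal.span (Set.range (fun i : Fin (n + 1) => (X i : MvPolynomial (Fin (n + 1)) R))) := by
  intro p hp
  have h0 : GradedRing.proj (CohB1.polyGrading n R) 0 p = 0 :=
    (HomogeneousIdeal.mem_irrelevant_iff _ _).1 hp
  have h1 : homogeneousComponent 0 p = 0 := by
    rw [← h0, GradedRing.proj_apply]
    exact (decomposition.decompose'_apply p 0).symm
  rw [homogeneousComponent_zero] at h1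
  have h2 : coeff 0 p = 0 := by
    have := congrArg (coeff 0) h1
    simpa using this
  have hr : Set.range (fun i : Fin (n + 1) => (X i : MvPolynomial (Fin (n + 1)) R)) =
      X '' Set.univ := by
    rw [Set.image_univ]
  rw [hr, mem_ideal_span_X_image]
  intro m hm
  by_contra hcon
  push Not at hcon
  have hm0 : m = 0 := by
    ext i
    simpa using hcon i (Set.mem_univ i)
  rw [hm0, mem_support_iff] at hm
  exact hm h2

end Groth.Agent.Helper17.SG
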