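import Mathlib
import Groth.Agent.Lib.Helper17.SG2
import Groth.Agent.Lib.Helper17.JT3

set_option autoImplicit false
universe u
open CategoryTheory AlgebraicGeometry Limits HomogeneousLocalization

namespace Groth.Agent.Helper17.SG

open Groth.Agent.Helper17.JT (iot iot_surj toSpec_ext comp_appTop_apply)

section Flat

variable {V V' : Scheme.{u}} {S S' : Type u} [CommRing S] [CommRing S']

/-- the ring hom associated to a morphism to an affine scheme -/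
noncomputable def flat (e : V ⟶ Spec (CommRingCat.of S)) : S →+* Γ(V, ⊤) :=
  e.appTop.hom.comp (iot S)

theorem flat_apply (e : V ⟶ Spec (CommRingCat.of S)) (a : S) :
    flat e a = e.appTop.hom (iot S a) := rfl

/-- the morphism to an affine scheme associated to a ring hom -/
noncomputable def ofRing (V : Scheme.{u}) (ψ : S →+* Γ(V, ⊤)) : V ⟶ Spec (CommRingCat.of S) :=
  V.toSpecΓ ≫ Spec.map (CommRingCat.ofHom ψ)

theorem flat_ofRing (ψ : S →+* Γ(V, ⊤)) : flat (ofRing V ψ) = ψ := by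
  apply RingHom.ext
  intro a
  have h : (V.toSpecΓ ≫ Spec.map (CommRingCat.ofHom ψ)).appTop =
      (Scheme.ΓSpecIso (CommRingCat.of S)).hom ≫ CommRingCat.ofHom ψ := by
    rw [Scheme.Hom.comp_appTop, Scheme.toSpecΓ_appTop, Scheme.ΓSpecIso_naturality]
  show (V.toSpecΓ ≫ Spec.map (CommRingCat.ofHom ψ)).appTop.hom (iot S a) = ψ a
  rw [h]
  show ψ ((Scheme.ΓSpecIso (CommRingCat.of S)).hom.hom
    ((Scheme.ΓSpecIso (CommRingCat.of S)).inv.hom a)) = ψ a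
  congr 1
  exact Iso.inv_hom_id_apply (C := CommRingCat) _ _

theorem flat_injective (e₁ e₂ : V ⟶ Spec (CommRingCat.of S)) (h : flat e₁ = flat e₂) : e₁ = e₂ :=
  toSpec_ext e₁ e₂ (fun a => RingHom.congr_fun h a)

theorem ofRing_flat (e : V ⟶ Spec (CommRingCat.of S)) : ofRing V (flat e) = e :=
  flat_injective _ _ (flat_ofRing _)

theorem flat_comp (g : V' ⟶ V) (e : V ⟶ Spec (CommRingCat.of S)) :
    flat (g ≫ e) = g.appTop.hom.comp (flat e) := by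
  apply RingHom.ext
  intro a
  exact comp_appTop_apply g e (iot S a)

theorem comp_ofRing (g : V' ⟶ V) (ψ : S →+* Γ(V, ⊤)) :
    g ≫ ofRing V ψ = ofRing V' (g.appTop.hom.comp ψ) := by
  apply flat_injective
  rw [flat_comp, flat_ofRing, flat_ofRing]

theorem flat_SpecMap (φ : S' →+* S) :
    flat (Spec.map (CommRingCat.ofHom φ)) = (iot S).comp φ := by
  apply RingHom.ext
  intro a
  have h := Scheme.ΓSpecIso_inv_naturality (CommRingCat.ofHom φ)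
  have h2 := congrArg (fun k => k.hom a) h
  exact h2.symm

theorem flat_comp_SpecMap (e : V ⟶ Spec (CommRingCat.of S)) (φ : S' →+* S) :
    flat (e ≫ Spec.map (CommRingCat.ofHom φ)) = (flat e).comp φ := by
  rw [flat_comp, flat_SpecMap]
  rfl

theorem ofRing_comp (ψ : S →+* Γ(V, ⊤)) (φ : S' →+* S) :
    ofRing V (ψ.comp φ) = ofRing V ψ ≫ Spec.map (CommRingCat.ofHom φ) := by
  apply flat_injective
  rw [flat_comp_SpecMap, flat_ofRing, flat_ofRing]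

theorem preimage_basicOpen (e : V ⟶ Spec (CommRingCat.of S)) (t : S) :
    e ⁻¹ᵁ (PrimeSpectrum.basicOpen t) = V.basicOpen (flat e t) := by
  rw [← basicOpen_eq_of_affine (R := CommRingCat.of S) t, Scheme.preimage_basicOpen_top]
  rfl

end Flat

section Generic

theorem of_openCover_isPullback' {P : MorphismProperty Scheme.{u}} [IsZariskiLocalAtTarget P]
    {X Y : Scheme.{u}} (f : X ⟶ Y) (𝒰 : Y.OpenCover) (W : 𝒰.I₀ → Scheme.{u})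
    (g : ∀ i, W i ⟶ 𝒰.X i) (iU : ∀ i, W i ⟶ X)
    (h : ∀ i, IsPullback (g i) (iU i) (𝒰.f i) f) (hg : ∀ i, P (g i)) : P f := by
  apply IsZariskiLocalAtTarget.of_openCover 𝒰
  intro i
  have h2 : (h i).flip.isoPullback.hom ≫ pullback.snd f (𝒰.f i) = g i :=
    (h i).flip.isoPullback_hom_snd
  have h3 : P ((h i).flip.isoPullback.hom ≫ pullback.snd f (𝒰.f i)) := by
    rw [h2]; exact hg i
  exact (P.cancel_left_of_respectsIso (h i).flip.isoPullback.hom _).mp h3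

end Generic

section Chart

variable {C : Type u} {σC : Type*} [CommRing C] [SetLike σC C] [AddSubgroupClass σC C]
  (𝒞 : ℕ → σC) [GradedRing 𝒞]
variable {V V' : Scheme.{u}}

/-- a morphism to `Proj` landing in a basic open, from a ring hom -/
noncomputable def chart (V : Scheme.{u}) (h : C) {d : ℕ} (hh : h ∈ 𝒞 d) (hd : 0 < d)
    (θ : Away 𝒞 h →+* Γ(V, ⊤)) : V ⟶ Proj 𝒞 :=
  ofRing V θ ≫ Proj.awayι 𝒞 h hh hd

theorem comp_chart (g : V' ⟶ V) (h : C) {d : ℕ} (hh : h ∈ 𝒞 d) (hd : 0 < d)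
    (θ : Away 𝒞 h →+* Γ(V, ⊤)) :
    g ≫ chart 𝒞 V h hh hd θ = chart 𝒞 V' h hh hd (g.appTop.hom.comp θ) := by
  unfold chart
  rw [← Category.assoc, comp_ofRing]

theorem chart_mul {f g x : C} {d e : ℕ} (hf : f ∈ 𝒞 d) (hd : 0 < d) (hg : g ∈ 𝒞 e)
    (hx : x = f * g) {dx : ℕ} (hxd : x ∈ 𝒞 dx) (hdx : 0 < dx) (θ : Away 𝒞 x →+* Γ(V, ⊤)) :
    chart 𝒞 V f hf hd (θ.comp (awayMap 𝒞 hg hx)) = chart 𝒞 V x hxd hdx θ := by
  unfold chart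
  rw [ofRing_comp, Category.assoc, Proj.SpecMap_awayMap_awayι 𝒞 hf hd hg hx]
  rfl

theorem chart_eq_of_scale (V : Scheme.{u}) (s₁ s₂ : C →+* Γ(V, ⊤)) (u : Γ(V, ⊤)) (hu : IsUnit u)
    (hs : ∀ (k : ℕ) (a : C), a ∈ 𝒞 k → s₂ a = u ^ k * s₁ a)
    {h₁ h₂ : C} {d₁ d₂ : ℕ} (hh₁ : h₁ ∈ 𝒞 d₁) (hd₁ : 0 < d₁) (hh₂ : h₂ ∈ 𝒞 d₂) (hd₂ : 0 < d₂)
    (hu₁ : IsUnit (s₁ h₁)) (hu₂ : IsUnit (s₂ h₂)) :
    chart 𝒞 V h₁ hh₁ hd₁ (evalAway 𝒞 s₁ h₁ hu₁) =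
      chart 𝒞 V h₂ hh₂ hd₂ (evalAway 𝒞 s₂ h₂ hu₂) := by
  have hu₂' : IsUnit (s₁ h₂) := by
    have h := hs d₂ h₂ hh₂
    rw [h] at hu₂
    exact isUnit_of_mul_isUnit_right hu₂
  have hu12 : IsUnit (s₁ (h₁ * h₂)) := by rw [map_mul]; exact hu₁.mul hu₂'
  have hmem : h₁ * h₂ ∈ 𝒞 (d₁ + d₂) := SetLike.mul_mem_graded hh₁ hh₂
  have hpos : 0 < d₁ + d₂ := by omega
  have e1 : evalAway 𝒞 s₂ h₂ hu₂ = evalAway 𝒞 s₁ h₂ hu₂' :=
    evalAway_scale 𝒞 s₁ s₂ u hu hs hh₂ hu₂' hu₂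
  have e2 : evalAway 𝒞 s₁ h₁ hu₁ =
      (evalAway 𝒞 s₁ (h₁ * h₂) hu12).comp (awayMap 𝒞 hh₂ rfl) :=
    (evalAway_comp_awayMap 𝒞 s₁ hh₁ hh₂ rfl hu12 hu₁).symm
  have e3 : evalAway 𝒞 s₁ h₂ hu₂' =
      (evalAway 𝒞 s₁ (h₁ * h₂) hu12).comp (awayMap 𝒞 hh₁ (mul_comm h₁ h₂)) :=
    (evalAway_comp_awayMap 𝒞 s₁ hh₂ hh₁ (mul_comm h₁ h₂) hu12 hu₂').symm
  rw [e1, e2, e3, chart_mul 𝒞 hh₁ hd₁ hh₂ rfl hmem hpos,
    chart_mul 𝒞 hh₂ hd₂ hh₁ (mul_comm h₁ h₂) hmem hpos]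

theorem exists_glue {X : Scheme.{u}} (𝒰 : X.OpenCover) (h : 𝒰.I₀ → C) (hh : ∀ i, h i ∈ 𝒞 1)
    (s : ∀ i, C →+* Γ(𝒰.X i, ⊤)) (hu : ∀ i, IsUnit (s i (h i)))
    (hcompat : ∀ i j, ∃ u : Γ(pullback (𝒰.f i) (𝒰.f j), ⊤), IsUnit u ∧
      ∀ (k : ℕ) (a : C), a ∈ 𝒞 k →
        ((pullback.snd (𝒰.f i) (𝒰.f j)).appTop.hom.comp (s j)) a =
          u ^ k * ((pullback.fst (𝒰.f i) (𝒰.f j)).appTop.hom.comp (s i)) a) :
    ∃ φ : X ⟶ Proj 𝒞, ∀ i, 𝒰.f i ≫ φ =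
      chart 𝒞 (𝒰.X i) (h i) (hh i) one_pos (evalAway 𝒞 (s i) (h i) (hu i)) := by
  refine ⟨𝒰.glueMorphisms (fun i => chart 𝒞 (𝒰.X i) (h i) (hh i) one_pos
    (evalAway 𝒞 (s i) (h i) (hu i))) ?_, fun i => 𝒰.ι_glueMorphisms _ _ i⟩
  intro i j
  obtain ⟨u, hu', hs⟩ := hcompat i j
  rw [comp_chart, comp_chart]
  have hu₁ : IsUnit (((pullback.fst (𝒰.f i) (𝒰.f j)).appTop.hom.comp (s i)) (h i)) :=
    (hu i).map (pullback.fst (𝒰.f i) (𝒰.f j)).appTop.hom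
  have hu₂ : IsUnit (((pullback.snd (𝒰.f i) (𝒰.f j)).appTop.hom.comp (s j)) (h j)) :=
    (hu j).map (pullback.snd (𝒰.f i) (𝒰.f j)).appTop.hom
  rw [comp_evalAway 𝒞 _ (s i) (h i) (hu i) (hh i) hu₁,
    comp_evalAway 𝒞 _ (s j) (h j) (hu j) (hh j) hu₂]
  exact chart_eq_of_scale 𝒞 _ _ _ u hu' hs (hh i) one_pos (hh j) one_pos hu₁ hu₂

theorem glue_over {X : Scheme.{u}} (𝒰 : X.OpenCover) {R : Type u} [CommRing R]
    (alg : R →+* 𝒞 0) (h : 𝒰.I₀ → C) (hh : ∀ i, h i ∈ 𝒞 1)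
    (s : ∀ i, C →+* Γ(𝒰.X i, ⊤)) (hu : ∀ i, IsUnit (s i (h i))) (φ : X ⟶ Proj 𝒞)
    (hφ : ∀ i, 𝒰.f i ≫ φ =
      chart 𝒞 (𝒰.X i) (h i) (hh i) one_pos (evalAway 𝒞 (s i) (h i) (hu i)))
    (pX : X ⟶ Spec (CommRingCat.of R))
    (hp : ∀ i r, s i ((alg r : 𝒞 0) : C) = flat (𝒰.f i ≫ pX) r) :
    φ ≫ Proj.toSpecZero 𝒞 ≫ Spec.map (CommRingCat.ofHom alg) = pX := by
  apply 𝒰.hom_ext
  intro i
  have hθ : ((evalAway 𝒞 (s i) (h i) (hu i)).comp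
      (fromZeroRingHom 𝒞 (Submonoid.powers (h i)))).comp alg = flat (𝒰.f i ≫ pX) := by
    apply RingHom.ext
    intro r
    rw [RingHom.comp_apply, RingHom.comp_apply, evalAway_fromZero, hp]
  calc 𝒰.f i ≫ φ ≫ Proj.toSpecZero 𝒞 ≫ Spec.map (CommRingCat.ofHom alg)
      = (ofRing (𝒰.X i) (evalAway 𝒞 (s i) (h i) (hu i)) ≫ Proj.awayι 𝒞 (h i) (hh i) one_pos) ≫
          Proj.toSpecZero 𝒞 ≫ Spec.map (CommRingCat.ofHom alg) := by
        rw [← Category.assoc, hφ i]; rfl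
    _ = ofRing (𝒰.X i) (evalAway 𝒞 (s i) (h i) (hu i)) ≫
          Spec.map (CommRingCat.ofHom (fromZeroRingHom 𝒞 (Submonoid.powers (h i)))) ≫
            Spec.map (CommRingCat.ofHom alg) := by
        rw [Category.assoc, Proj.awayι_toSpecZero_assoc]
    _ = ofRing (𝒰.X i) (((evalAway 𝒞 (s i) (h i) (hu i)).comp
          (fromZeroRingHom 𝒞 (Submonoid.powers (h i)))).comp alg) := by
        rw [ofRing_comp, ofRing_comp, Category.assoc]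
    _ = 𝒰.f i ≫ pX := by rw [hθ, ofRing_flat]

theorem isClosedImmersion_of_charts {X : Scheme.{u}} (𝒰 : X.OpenCover) (h : 𝒰.I₀ → C)
    (hh : ∀ i, h i ∈ 𝒞 1)
    (hcov : (HomogeneousIdeal.irrelevant 𝒞).toIdeal ≤ Ideal.span (Set.range h))
    (θ : ∀ i, Away 𝒞 (h i) →+* Γ(𝒰.X i, ⊤)) (φ : X ⟶ Proj 𝒞)
    (hφ : ∀ i, 𝒰.f i ≫ φ = chart 𝒞 (𝒰.X i) (h i) (hh i) one_pos (θ i))
    (haff : ∀ i, IsAffine (𝒰.X i)) (hsurj : ∀ i, Function.Surjective (θ i))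
    (hpre : ∀ i (p : X), φ p ∈ Proj.basicOpen 𝒞 (h i) → p ∈ Set.range (𝒰.f i)) :
    IsClosedImmersion φ := by
  refine of_openCover_isPullback' (P := @IsClosedImmersion) φ
    (Proj.affineOpenCoverOfIrrelevantLESpan 𝒞 h hh (fun _ => one_pos) hcov).openCover
    (fun i => 𝒰.X i) (fun i => ofRing (𝒰.X i) (θ i)) (fun i => 𝒰.f i) ?_ ?_
  · intro i
    apply IsOpenImmersion.isPullback
    · exact hφ i
    · show φ ⁻¹ᵁ (Proj.awayι 𝒞 (h i) (hh i) one_pos).opensRange = (𝒰.f i).opensRange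
      rw [Proj.opensRange_awayι]
      apply le_antisymm
      · intro p hp
        exact hpre i p hp
      · rintro _ ⟨w, rfl⟩
        show φ ((𝒰.f i) w) ∈ Proj.basicOpen 𝒞 (h i)
        rw [← Scheme.Hom.comp_apply, hφ i, ← Proj.opensRange_awayι 𝒞 (h i) (hh i) one_pos]
        exact ⟨ofRing _ (θ i) w, rfl⟩
  · intro i
    haveI := haff i
    haveI : IsClosedImmersion (Spec.map (CommRingCat.ofHom (θ i))) :=
      IsClosedImmersion.spec_of_surjective _ (hsurj i)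
    show IsClosedImmersion ((𝒰.X i).toSpecΓ ≫ Spec.map (CommRingCat.ofHom (θ i)))
    infer_instance

end Chart

end Groth.Agent.Helper17.SG
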