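import Mathlib
import Groth.Agent.Lib.Helper17.SG3

set_option autoImplicit false
universe u
open CategoryTheory AlgebraicGeometry Limits HomogeneousLocalization

namespace Groth.Agent.Helper17.SG

open Groth.Agent.Helper17.JT (iot iot_surj toSpec_ext comp_appTop_apply)

section ProjRel

variable {A : Type u} {σA : Type*} [CommRing A] [SetLike σA A] [AddSubgroupClass σA A]
  (𝒜 : ℕ → σA) [GradedRing 𝒜]
variable {V : Scheme.{u}}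

theorem exists_common {f₁ f₂ : A} {d₁ d₂ : ℕ} (hf₁ : f₁ ∈ 𝒜 d₁) (hd₁ : 0 < d₁) (hf₂ : f₂ ∈ 𝒜 d₂)
    (hd₂ : 0 < d₂)
    (e₁ : V ⟶ Spec (CommRingCat.of (Away 𝒜 f₁))) (e₂ : V ⟶ Spec (CommRingCat.of (Away 𝒜 f₂)))
    (h : e₁ ≫ Proj.awayι 𝒜 f₁ hf₁ hd₁ = e₂ ≫ Proj.awayι 𝒜 f₂ hf₂ hd₂) :
    ∃ e'' : V ⟶ Spec (CommRingCat.of (Away 𝒜 (f₁ * f₂))),
      e₁ = e'' ≫ Spec.map (CommRingCat.ofHom (awayMap 𝒜 hf₂ (rfl : f₁ * f₂ = f₁ * f₂))) ∧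
      e₂ = e'' ≫ Spec.map (CommRingCat.ofHom (awayMap 𝒜 hf₁ (mul_comm f₁ f₂))) := by
  refine ⟨pullback.lift e₁ e₂ h ≫ (Proj.pullbackAwayιIso 𝒜 hf₁ hd₁ hf₂ hd₂ rfl).hom, ?_, ?_⟩
  · rw [Category.assoc, Proj.pullbackAwayιIso_hom_SpecMap_awayMap_left, pullback.lift_fst]
  · have h2 := Proj.pullbackAwayιIso_hom_SpecMap_awayMap_right 𝒜 hf₁ hd₁ hf₂ hd₂
      (rfl : f₁ * f₂ = f₁ * f₂)
    rw [Category.assoc, h2, pullback.lift_snd]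

theorem flat_rel {f₁ f₂ a : A} (hf₁ : f₁ ∈ 𝒜 1) (hf₂ : f₂ ∈ 𝒜 1) (ha : a ∈ 𝒜 1)
    (h1 : f₁ ∈ 𝒜 (1 • 1)) (h2 : f₂ ∈ 𝒜 (1 • 1)) (h3 : a ∈ 𝒜 (1 • 1))
    (e₁ : V ⟶ Spec (CommRingCat.of (Away 𝒜 f₁))) (e₂ : V ⟶ Spec (CommRingCat.of (Away 𝒜 f₂)))
    (h : e₁ ≫ Proj.awayι 𝒜 f₁ hf₁ one_pos = e₂ ≫ Proj.awayι 𝒜 f₂ hf₂ one_pos) :
    flat e₂ (Away.mk 𝒜 hf₂ 1 a h3) =
        flat e₁ (Away.mk 𝒜 hf₁ 1 a h3) * flat e₂ (Away.mk 𝒜 hf₂ 1 f₁ h1) ∧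
      flat e₁ (Away.mk 𝒜 hf₁ 1 f₂ h2) * flat e₂ (Away.mk 𝒜 hf₂ 1 f₁ h1) = 1 := by
  obtain ⟨e'', he₁, he₂⟩ := exists_common 𝒜 hf₁ one_pos hf₂ one_pos e₁ e₂ h
  have hfl₁ : flat e₁ = (flat e'').comp (awayMap 𝒜 hf₂ rfl) := by
    rw [he₁, flat_comp_SpecMap]
  have hfl₂ : flat e₂ = (flat e'').comp (awayMap 𝒜 hf₁ (mul_comm f₁ f₂)) := by
    rw [he₂, flat_comp_SpecMap]
  constructor
  · have h4 := congrArg (flat e'') (awayMap_rel 𝒜 hf₁ hf₂ ha h1 h2 h3)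
    rw [map_mul] at h4
    rw [hfl₁, hfl₂]
    exact h4
  · have h4 := congrArg (flat e'') (awayMap_inv 𝒜 hf₁ hf₂ h1 h2)
    rw [map_mul, map_one] at h4
    rw [hfl₁, hfl₂]
    exact h4

end ProjRel

section Tensor

open TensorProduct Algebra.TensorProduct

theorem mem_of_isPullback {V : Scheme.{u}} {R S₁ S₂ : Type u} [CommRing R] [CommRing S₁]
    [CommRing S₂] (α₁ : R →+* S₁) (α₂ : R →+* S₂)
    (e₁ : V ⟶ Spec (CommRingCat.of S₁)) (e₂ : V ⟶ Spec (CommRingCat.of S₂))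
    (hpb : IsPullback e₁ e₂ (Spec.map (CommRingCat.ofHom α₁)) (Spec.map (CommRingCat.ofHom α₂)))
    (T : Subring Γ(V, ⊤)) (h₁ : ∀ a, flat e₁ a ∈ T) (h₂ : ∀ b, flat e₂ b ∈ T) :
    ∀ d, d ∈ T := by
  letI : Algebra R S₁ := α₁.toAlgebra
  letI : Algebra R S₂ := α₂.toAlgebra
  have hpb' : IsPullback e₁ e₂ (Spec.map (CommRingCat.ofHom (algebraMap R S₁)))
      (Spec.map (CommRingCat.ofHom (algebraMap R S₂))) := hpb
  obtain ⟨E, hE⟩ : ∃ E : V ≅ Spec (CommRingCat.of (S₁ ⊗[R] S₂)),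
      E = hpb'.isoPullback ≪≫ pullbackSpecIso R S₁ S₂ := ⟨_, rfl⟩
  have hE₁ : E.hom ≫ Spec.map (CommRingCat.ofHom
      (includeLeftRingHom : S₁ →+* S₁ ⊗[R] S₂)) = e₁ := by
    rw [hE, Iso.trans_hom, Category.assoc, pullbackSpecIso_hom_fst]
    exact hpb'.isoPullback_hom_fst
  have hE₂ : E.hom ≫ Spec.map (CommRingCat.ofHom
      (RingHomClass.toRingHom (includeRight : S₂ →ₐ[R] S₁ ⊗[R] S₂))) = e₂ := by
    rw [hE, Iso.trans_hom, Category.assoc, pullbackSpecIso_hom_snd]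
    exact hpb'.isoPullback_hom_snd
  have hfl₁ : ∀ a, flat E.hom (includeLeftRingHom a) = flat e₁ a := by
    intro a
    rw [← hE₁, flat_comp_SpecMap]
    rfl
  have hfl₂ : ∀ b, flat E.hom
      (RingHomClass.toRingHom (includeRight : S₂ →ₐ[R] S₁ ⊗[R] S₂) b) = flat e₂ b := by
    intro b
    rw [← hE₂, flat_comp_SpecMap]
    rfl
  intro d
  have hd : E.hom.appTop.hom (E.inv.appTop.hom d) = d := by
    rw [← comp_appTop_apply, E.hom_inv_id]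
    simp only [Scheme.Hom.id_appTop, CommRingCat.hom_id, RingHom.id_apply]
  obtain ⟨t, ht⟩ := iot_surj (S₁ ⊗[R] S₂) (E.inv.appTop.hom d)
  have hd' : flat E.hom t = d := by
    rw [flat_apply, ht, hd]
  rw [← hd']
  clear hd' ht hd
  induction t using TensorProduct.induction_on with
  | zero => rw [map_zero]; exact T.zero_mem
  | tmul a b =>
    have hab : a ⊗ₜ[R] b = (includeLeftRingHom a : S₁ ⊗[R] S₂) *
        (RingHomClass.toRingHom (includeRight : S₂ →ₐ[R] S₁ ⊗[R] S₂) b) := by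
      show a ⊗ₜ[R] b = (a ⊗ₜ[R] (1 : S₂)) * ((1 : S₁) ⊗ₜ[R] b)
      rw [tmul_mul_tmul, mul_one, one_mul]
    rw [hab, map_mul, hfl₁, hfl₂]
    exact T.mul_mem (h₁ a) (h₂ b)
  | add x y hx hy => rw [map_add]; exact T.add_mem hx hy

end Tensor

end Groth.Agent.Helper17.SG
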