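import Mathlib
import Groth.Agent.Lib.Helper17.SG4

set_option autoImplicit false
universe u
open CategoryTheory AlgebraicGeometry Limits HomogeneousLocalization MvPolynomial

namespace Groth.Agent.Helper17.SG

/-- the chart ring `R[x_0..x_n]_(x_i)` -/
abbrev Aw (n : ℕ) (R : Type u) [CommRing R] (i : Fin (n + 1)) : Type u :=
  Away (CohB1.polyGrading n R) (X i : MvPolynomial (Fin (n + 1)) R)

/-- index bijection -/
def idx (n m : ℕ) : Fin (n + 1) × Fin (m + 1) ≃ Fin (n * m + n + m + 1) :=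
  finProdFinEquiv.trans (finCongr (by ring))

variable (n m : ℕ) (R : Type u) [CommRing R]

theorem flat_rel_fr {V : Scheme.{u}} (i i' k : Fin (n + 1))
    (e₁ : V ⟶ Spec (CommRingCat.of (Aw n R i))) (e₁' : V ⟶ Spec (CommRingCat.of (Aw n R i')))
    (h : e₁ ≫ Proj.awayι (CohB1.polyGrading n R) (X i) (X_mem n R i) one_pos =
      e₁' ≫ Proj.awayι (CohB1.polyGrading n R) (X i') (X_mem n R i') one_pos) :
    flat e₁' (fr n R i' k) = flat e₁ (fr n R i k) * flat e₁' (fr n R i' i) ∧
      flat e₁ (fr n R i i') * flat e₁' (fr n R i' i) = 1 :=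
  flat_rel (CohB1.polyGrading n R) (X_mem n R i) (X_mem n R i') (X_mem n R k)
    (X_mem' n R i) (X_mem' n R i') (X_mem' n R k) e₁ e₁' h

variable {V V' : Scheme.{u}}

/-- the Segre ring hom on a chart -/
noncomputable def segS (ρ : R →+* Γ(V, ⊤)) (i : Fin (n + 1)) (j : Fin (m + 1))
    (e₁ : V ⟶ Spec (CommRingCat.of (Aw n R i))) (e₂ : V ⟶ Spec (CommRingCat.of (Aw m R j))) :
    MvPolynomial (Fin (n * m + n + m + 1)) R →+* Γ(V, ⊤) :=
  eval₂Hom ρ (fun q => flat e₁ (fr n R i ((idx n m).symm q).1) *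
    flat e₂ (fr m R j ((idx n m).symm q).2))

variable (ρ : R →+* Γ(V, ⊤)) (i : Fin (n + 1)) (j : Fin (m + 1))
  (e₁ : V ⟶ Spec (CommRingCat.of (Aw n R i))) (e₂ : V ⟶ Spec (CommRingCat.of (Aw m R j)))

theorem segS_C (r : R) : segS n m R ρ i j e₁ e₂ (C r) = ρ r := by
  unfold segS
  rw [eval₂Hom_C]

theorem segS_X (k : Fin (n + 1)) (l : Fin (m + 1)) :
    segS n m R ρ i j e₁ e₂ (X (idx n m (k, l))) = flat e₁ (fr n R i k) * flat e₂ (fr m R j l) := by
  unfold segS
  rw [eval₂Hom_X', Equiv.symm_apply_apply]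

theorem segS_self : segS n m R ρ i j e₁ e₂ (X (idx n m (i, j))) = 1 := by
  rw [segS_X, fr_self, fr_self, map_one, map_one, mul_one]

theorem comp_segS (g : V' ⟶ V) :
    g.appTop.hom.comp (segS n m R ρ i j e₁ e₂) =
      segS n m R (g.appTop.hom.comp ρ) i j (g ≫ e₁) (g ≫ e₂) := by
  apply MvPolynomial.ringHom_ext
  · intro r
    rw [RingHom.comp_apply, segS_C, segS_C]
    rfl
  · intro q
    obtain ⟨⟨k, l⟩, rfl⟩ := (idx n m).surjective q
    rw [RingHom.comp_apply, segS_X, segS_X, map_mul, flat_comp, flat_comp]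
    rfl

theorem segS_scale (i' : Fin (n + 1)) (j' : Fin (m + 1))
    (e₁' : V ⟶ Spec (CommRingCat.of (Aw n R i'))) (e₂' : V ⟶ Spec (CommRingCat.of (Aw m R j')))
    (hA : e₁ ≫ Proj.awayι (CohB1.polyGrading n R) (X i) (X_mem n R i) one_pos =
      e₁' ≫ Proj.awayι (CohB1.polyGrading n R) (X i') (X_mem n R i') one_pos)
    (hB : e₂ ≫ Proj.awayι (CohB1.polyGrading m R) (X j) (X_mem m R j) one_pos =
      e₂' ≫ Proj.awayι (CohB1.polyGrading m R) (X j') (X_mem m R j') one_pos) :
    ∃ u : Γ(V, ⊤), IsUnit u ∧ ∀ (k : ℕ) (a : MvPolynomial (Fin (n * m + n + m + 1)) R),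
      a ∈ CohB1.polyGrading (n * m + n + m) R k →
        segS n m R ρ i' j' e₁' e₂' a = u ^ k * segS n m R ρ i j e₁ e₂ a := by
  have hAi := (flat_rel_fr n R i i' i e₁ e₁' hA).2
  have hBj := (flat_rel_fr m R j j' j e₂ e₂' hB).2
  refine ⟨flat e₁' (fr n R i' i) * flat e₂' (fr m R j' j), ?_, ?_⟩
  · refine IsUnit.of_mul_eq_one (flat e₁ (fr n R i i') * flat e₂ (fr m R j j')) ?_
    calc (flat e₁' (fr n R i' i) * flat e₂' (fr m R j' j)) *
          (flat e₁ (fr n R i i') * flat e₂ (fr m R j j'))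
        = (flat e₁ (fr n R i i') * flat e₁' (fr n R i' i)) *
          (flat e₂ (fr m R j j') * flat e₂' (fr m R j' j)) := by ring
      _ = 1 := by rw [hAi, hBj, mul_one]
  · intro k a ha
    refine scale_of_homogeneous _ _ _ ?_ ?_ k a ha
    · intro r
      rw [segS_C, segS_C]
    · intro q
      obtain ⟨⟨k', l'⟩, rfl⟩ := (idx n m).surjective q
      rw [segS_X, segS_X, (flat_rel_fr n R i i' k' e₁ e₁' hA).1,
        (flat_rel_fr m R j j' l' e₂ e₂' hB).1]
      ring

theorem evalAway_segS_surjective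
    (hpb : IsPullback e₁ e₂ (Spec.map (CommRingCat.ofHom (strA n R i)))
      (Spec.map (CommRingCat.ofHom (strA m R j))))
    (hρ₁ : ∀ r, ρ r = flat e₁ (strA n R i r)) (hρ₂ : ∀ r, ρ r = flat e₂ (strA m R j r))
    (hu : IsUnit (segS n m R ρ i j e₁ e₂ (X (idx n m (i, j))))) :
    Function.Surjective (evalAway (CohB1.polyGrading (n * m + n + m) R)
      (segS n m R ρ i j e₁ e₂) (X (idx n m (i, j))) hu) := by
  obtain ⟨θ, hθ⟩ : ∃ θ, θ = evalAway (CohB1.polyGrading (n * m + n + m) R)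
      (segS n m R ρ i j e₁ e₂) (X (idx n m (i, j))) hu := ⟨_, rfl⟩
  rw [← hθ]
  have hconst : ∀ r, ρ r ∈ θ.range := by
    intro r
    refine ⟨fromZeroRingHom (CohB1.polyGrading (n * m + n + m) R) _
      (algebraMap R (CohB1.polyGrading (n * m + n + m) R 0) r), ?_⟩
    rw [hθ, evalAway_fromZero]
    exact segS_C n m R ρ i j e₁ e₂ r
  have hgen : ∀ (k : Fin (n + 1)) (l : Fin (m + 1)),
      flat e₁ (fr n R i k) * flat e₂ (fr m R j l) ∈ θ.range := by
    intro k l
    refine ⟨Away.mk (CohB1.polyGrading (n * m + n + m) R)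
      (X_mem (n * m + n + m) R (idx n m (i, j))) 1 (X (idx n m (k, l)))
      (X_mem' (n * m + n + m) R (idx n m (k, l))), ?_⟩
    have h1 := evalAway_mk (CohB1.polyGrading (n * m + n + m) R) (segS n m R ρ i j e₁ e₂)
      (X (idx n m (i, j))) hu (X_mem (n * m + n + m) R (idx n m (i, j))) 1 (X (idx n m (k, l)))
      (X_mem' (n * m + n + m) R (idx n m (k, l)))
    rw [segS_self, one_pow, mul_one, segS_X] at h1
    rw [hθ]
    exact h1
  have h₁ : ∀ a, flat e₁ a ∈ θ.range := by
    intro a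
    obtain ⟨p, rfl⟩ := ev_surjective n R i a
    induction p using MvPolynomial.induction_on with
    | C r =>
      rw [ev_C, ← hρ₁]
      exact hconst r
    | add p q hp hq =>
      rw [map_add, map_add]
      exact θ.range.add_mem hp hq
    | mul_X p k hp =>
      rw [map_mul, map_mul, ev_X]
      refine θ.range.mul_mem hp ?_
      have h2 := hgen k j
      rw [fr_self, map_one, mul_one] at h2
      exact h2
  have h₂ : ∀ b, flat e₂ b ∈ θ.range := by
    intro b
    obtain ⟨p, rfl⟩ := ev_surjective m R j b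
    induction p using MvPolynomial.induction_on with
    | C r =>
      rw [ev_C, ← hρ₂]
      exact hconst r
    | add p q hp hq =>
      rw [map_add, map_add]
      exact θ.range.add_mem hp hq
    | mul_X p l hp =>
      rw [map_mul, map_mul, ev_X]
      refine θ.range.mul_mem hp ?_
      have h2 := hgen i l
      rw [fr_self, map_one, one_mul] at h2
      exact h2
  intro d
  exact (RingHom.mem_range).1
    (mem_of_isPullback (strA n R i) (strA m R j) e₁ e₂ hpb θ.range h₁ h₂ d)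

end Groth.Agent.Helper17.SG
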