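import Mathlib
import Groth.Agent.Lib.Helper17.SG5

set_option autoImplicit false
universe u
open CategoryTheory AlgebraicGeometry Limits HomogeneousLocalization MvPolynomial

namespace Groth.Agent.Helper17.SG

variable (n m : ℕ) (R : Type u) [CommRing R]

theorem isLocElem_eq (i' i : Fin (n + 1)) :
    Away.isLocalizationElem (X_mem n R i') (X_mem n R i) = fr n R i' i := by
  apply val_injective
  unfold fr
  show (Away.mk (CohB1.polyGrading n R) (X_mem n R i') 1 (X i ^ 1) _).val = _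
  rw [Away.val_mk, Away.val_mk]
  simp only [pow_one]

theorem mem_basicOpen_of_flat {W : Scheme.{u}} (i' i : Fin (n + 1))
    (e : W ⟶ Spec (CommRingCat.of (Aw n R i'))) (w : W)
    (hw : w ∈ W.basicOpen (flat e (fr n R i' i))) :
    (e ≫ Proj.awayι (CohB1.polyGrading n R) (X i') (X_mem n R i') one_pos) w ∈
      Proj.basicOpen (CohB1.polyGrading n R) (X i : MvPolynomial (Fin (n + 1)) R) := by
  rw [← preimage_basicOpen, ← isLocElem_eq,
    ← Proj.awayι_preimage_basicOpen (CohB1.polyGrading n R) (X_mem n R i') one_pos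
      (X_mem n R i) one_pos] at hw
  exact hw

theorem segre_abstract {Z : Scheme.{u}}
    (p₁ : Z ⟶ Proj (CohB1.polyGrading n R)) (p₂ : Z ⟶ Proj (CohB1.polyGrading m R))
    (pZ : Z ⟶ Spec (CommRingCat.of R)) (𝒰 : Z.OpenCover)
    (ii : 𝒰.I₀ → Fin (n + 1)) (jj : 𝒰.I₀ → Fin (m + 1))
    (hsurj : ∀ i j, ∃ t, ii t = i ∧ jj t = j)
    (e₁ : ∀ t, 𝒰.X t ⟶ Spec (CommRingCat.of (Aw n R (ii t))))
    (e₂ : ∀ t, 𝒰.X t ⟶ Spec (CommRingCat.of (Aw m R (jj t))))
    (H1 : ∀ t, 𝒰.f t ≫ p₁ = e₁ t ≫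
      Proj.awayι (CohB1.polyGrading n R) (X (ii t)) (X_mem n R (ii t)) one_pos)
    (H1' : ∀ t, 𝒰.f t ≫ p₂ = e₂ t ≫
      Proj.awayι (CohB1.polyGrading m R) (X (jj t)) (X_mem m R (jj t)) one_pos)
    (H2 : ∀ t, IsPullback (e₁ t) (e₂ t) (Spec.map (CommRingCat.ofHom (strA n R (ii t))))
      (Spec.map (CommRingCat.ofHom (strA m R (jj t)))))
    (H3 : ∀ t (p : Z),
      p₁ p ∈ Proj.basicOpen (CohB1.polyGrading n R) (X (ii t) : MvPolynomial (Fin (n + 1)) R) →
      p₂ p ∈ Proj.basicOpen (CohB1.polyGrading m R) (X (jj t) : MvPolynomial (Fin (m + 1)) R) →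
      p ∈ Set.range (𝒰.f t))
    (H4 : ∀ t, 𝒰.f t ≫ pZ = e₁ t ≫ Spec.map (CommRingCat.ofHom (strA n R (ii t))))
    (H5 : ∀ t, IsAffine (𝒰.X t)) :
    ∃ φ : Z ⟶ Proj (CohB1.polyGrading (n * m + n + m) R), IsClosedImmersion φ ∧
      φ ≫ Proj.toSpecZero (CohB1.polyGrading (n * m + n + m) R) ≫
        Spec.map (CommRingCat.ofHom
          (algebraMap R (CohB1.polyGrading (n * m + n + m) R 0))) = pZ := by
  obtain ⟨ρ, hρ⟩ : ∃ ρ : ∀ t, R →+* Γ(𝒰.X t, ⊤), ∀ t, ρ t = flat (𝒰.f t ≫ pZ) :=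
    ⟨_, fun _ => rfl⟩
  obtain ⟨s, hs⟩ : ∃ s : ∀ t, MvPolynomial (Fin (n * m + n + m + 1)) R →+* Γ(𝒰.X t, ⊤),
      ∀ t, s t = segS n m R (ρ t) (ii t) (jj t) (e₁ t) (e₂ t) := ⟨_, fun _ => rfl⟩
  obtain ⟨h, hdef⟩ : ∃ h : 𝒰.I₀ → MvPolynomial (Fin (n * m + n + m + 1)) R,
      ∀ t, h t = X (idx n m (ii t, jj t)) := ⟨_, fun _ => rfl⟩
  have hh : ∀ t, h t ∈ CohB1.polyGrading (n * m + n + m) R 1 := by
    intro t
    rw [hdef]
    exact X_mem (n * m + n + m) R _
  have hone : ∀ t, s t (h t) = 1 := by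
    intro t
    rw [hs, hdef]
    exact segS_self n m R _ _ _ _ _
  have hu : ∀ t, IsUnit (s t (h t)) := by
    intro t
    rw [hone]
    exact isUnit_one
  have hρ₁ : ∀ t r, ρ t r = flat (e₁ t) (strA n R (ii t) r) := by
    intro t r
    rw [hρ, H4 t, flat_comp_SpecMap]
    rfl
  have hρ₂ : ∀ t r, ρ t r = flat (e₂ t) (strA m R (jj t) r) := by
    intro t r
    rw [hρ, H4 t, (H2 t).w, flat_comp_SpecMap]
    rfl
  have hcompat : ∀ t t', ∃ u : Γ(pullback (𝒰.f t) (𝒰.f t'), ⊤), IsUnit u ∧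
      ∀ (k : ℕ) (a : MvPolynomial (Fin (n * m + n + m + 1)) R),
        a ∈ CohB1.polyGrading (n * m + n + m) R k →
        ((pullback.snd (𝒰.f t) (𝒰.f t')).appTop.hom.comp (s t')) a =
          u ^ k * ((pullback.fst (𝒰.f t) (𝒰.f t')).appTop.hom.comp (s t)) a := by
    intro t t'
    rw [hs t, hs t', comp_segS, comp_segS]
    have hρ' : (pullback.snd (𝒰.f t) (𝒰.f t')).appTop.hom.comp (ρ t') =
        (pullback.fst (𝒰.f t) (𝒰.f t')).appTop.hom.comp (ρ t) := by
      rw [hρ, hρ, ← flat_comp, ← flat_comp, ← Category.assoc, ← Category.assoc,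
        pullback.condition]
    rw [hρ']
    have hA : (pullback.fst (𝒰.f t) (𝒰.f t') ≫ e₁ t) ≫
        Proj.awayι (CohB1.polyGrading n R) (X (ii t)) (X_mem n R (ii t)) one_pos =
        (pullback.snd (𝒰.f t) (𝒰.f t') ≫ e₁ t') ≫
        Proj.awayι (CohB1.polyGrading n R) (X (ii t')) (X_mem n R (ii t')) one_pos := by
      rw [Category.assoc, ← H1 t, Category.assoc, ← H1 t', ← Category.assoc, ← Category.assoc,
        pullback.condition]
    have hB : (pullback.fst (𝒰.f t) (𝒰.f t') ≫ e₂ t) ≫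
        Proj.awayι (CohB1.polyGrading m R) (X (jj t)) (X_mem m R (jj t)) one_pos =
        (pullback.snd (𝒰.f t) (𝒰.f t') ≫ e₂ t') ≫
        Proj.awayι (CohB1.polyGrading m R) (X (jj t')) (X_mem m R (jj t')) one_pos := by
      rw [Category.assoc, ← H1' t, Category.assoc, ← H1' t', ← Category.assoc, ← Category.assoc,
        pullback.condition]
    exact segS_scale n m R _ (ii t) (jj t) (pullback.fst (𝒰.f t) (𝒰.f t') ≫ e₁ t)
      (pullback.fst (𝒰.f t) (𝒰.f t') ≫ e₂ t) (ii t') (jj t')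
      (pullback.snd (𝒰.f t) (𝒰.f t') ≫ e₁ t') (pullback.snd (𝒰.f t) (𝒰.f t') ≫ e₂ t') hA hB
  obtain ⟨φ, hφ⟩ := exists_glue (CohB1.polyGrading (n * m + n + m) R) 𝒰 h hh s hu hcompat
  obtain ⟨θ, hθ⟩ : ∃ θ : ∀ t, Away (CohB1.polyGrading (n * m + n + m) R) (h t) →+* Γ(𝒰.X t, ⊤),
      ∀ t, θ t = evalAway (CohB1.polyGrading (n * m + n + m) R) (s t) (h t) (hu t) :=
    ⟨_, fun _ => rfl⟩
  have hφ' : ∀ t, 𝒰.f t ≫ φ =
      chart (CohB1.polyGrading (n * m + n + m) R) (𝒰.X t) (h t) (hh t) one_pos (θ t) := by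
    intro t
    rw [hθ]
    exact hφ t
  have hval : ∀ t' t, θ t' (Away.isLocalizationElem (hh t') (hh t)) =
      flat (e₁ t') (fr n R (ii t') (ii t)) * flat (e₂ t') (fr m R (jj t') (jj t)) := by
    intro t' t
    have h1 := evalAway_mk (CohB1.polyGrading (n * m + n + m) R) (s t') (h t') (hu t') (hh t') 1
      (h t ^ 1) (SetLike.pow_mem_graded 1 (hh t))
    have e1 : s t' (h t ^ 1) = s t' (h t) := by rw [pow_one]
    have e2 : s t' (h t') ^ 1 = 1 := by rw [hone t', one_pow]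
    have e3 : s t' (h t) =
        flat (e₁ t') (fr n R (ii t') (ii t)) * flat (e₂ t') (fr m R (jj t') (jj t)) := by
      rw [hs t', hdef t]
      exact segS_X n m R _ _ _ _ _ (ii t) (jj t)
    rw [e1, e2, mul_one, e3] at h1
    rw [hθ t']
    exact h1
  have hcov : (HomogeneousIdeal.irrelevant (CohB1.polyGrading (n * m + n + m) R)).toIdeal ≤
      Ideal.span (Set.range h) := by
    refine le_trans (irrelevant_le_span (n * m + n + m) R) (Ideal.span_mono ?_)
    rintro _ ⟨q, rfl⟩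
    obtain ⟨⟨i, j⟩, rfl⟩ := (idx n m).surjective q
    obtain ⟨t, rfl, rfl⟩ := hsurj i j
    exact ⟨t, hdef t⟩
  refine ⟨φ, ?_, ?_⟩
  · refine isClosedImmersion_of_charts (CohB1.polyGrading (n * m + n + m) R) 𝒰 h hh hcov θ φ hφ'
      H5 ?_ ?_
    · intro t
      have key : ∀ (s' : MvPolynomial (Fin (n * m + n + m + 1)) R →+* Γ(𝒰.X t, ⊤))
          (h' : MvPolynomial (Fin (n * m + n + m + 1)) R)
          (_ : s' = segS n m R (ρ t) (ii t) (jj t) (e₁ t) (e₂ t))
          (_ : h' = X (idx n m (ii t, jj t))) (hu' : IsUnit (s' h')),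
          Function.Surjective
            (evalAway (CohB1.polyGrading (n * m + n + m) R) s' h' hu') := by
        intro s' h' hs' hh' hu'
        subst hs' hh'
        exact evalAway_segS_surjective n m R (ρ t) (ii t) (jj t) (e₁ t) (e₂ t) (H2 t)
          (hρ₁ t) (hρ₂ t) hu'
      rw [hθ t]
      exact key (s t) (h t) (hs t) (hdef t) (hu t)
    · intro t p hp
      obtain ⟨t', w, rfl⟩ := 𝒰.exists_eq p
      have hφw : φ (𝒰.f t' w) =
          (Proj.awayι (CohB1.polyGrading (n * m + n + m) R) (h t') (hh t') one_pos)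
            (ofRing (𝒰.X t') (θ t') w) := by
        rw [← Scheme.Hom.comp_apply, hφ' t']
        rfl
      rw [hφw] at hp
      have hp2 : ofRing (𝒰.X t') (θ t') w ∈
          (Proj.awayι (CohB1.polyGrading (n * m + n + m) R) (h t') (hh t') one_pos) ⁻¹ᵁ
            Proj.basicOpen (CohB1.polyGrading (n * m + n + m) R) (h t) := hp
      rw [Proj.awayι_preimage_basicOpen (CohB1.polyGrading (n * m + n + m) R) (hh t') one_pos
        (hh t) one_pos] at hp2
      have hp3 : w ∈ (ofRing (𝒰.X t') (θ t')) ⁻¹ᵁ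
          PrimeSpectrum.basicOpen (Away.isLocalizationElem (hh t') (hh t)) := hp2
      rw [preimage_basicOpen, flat_ofRing, hval t' t, Scheme.basicOpen_mul] at hp3
      obtain ⟨hp4, hp5⟩ := hp3
      apply H3 t
      · have h6 := mem_basicOpen_of_flat n R (ii t') (ii t) (e₁ t') w hp4
        rw [← H1 t'] at h6
        exact h6
      · have h6 := mem_basicOpen_of_flat m R (jj t') (jj t) (e₂ t') w hp5
        rw [← H1' t'] at h6
        exact h6
  · refine glue_over (CohB1.polyGrading (n * m + n + m) R) 𝒰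
      (algebraMap R (CohB1.polyGrading (n * m + n + m) R 0)) h hh s hu φ hφ pZ ?_
    intro t r
    rw [hs, ← hρ]
    exact segS_C n m R _ _ _ _ _ r

end Groth.Agent.Helper17.SG
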