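import Mathlib
import Groth.Agent.Lib.Helper17.SG6

set_option autoImplicit false
universe u
open CategoryTheory AlgebraicGeometry Limits HomogeneousLocalization MvPolynomial

namespace Groth.Agent.Helper17.SG

theorem isPullback_congr {𝒞 : Type*} [Category 𝒞] {P X Y Z : 𝒞} {fst : P ⟶ X} {snd : P ⟶ Y}
    {f f' : X ⟶ Z} {g g' : Y ⟶ Z} (h : IsPullback fst snd f g) (hf : f = f') (hg : g = g') :
    IsPullback fst snd f' g' := by
  subst hf hg
  exact h

variable (n m : ℕ) (R : Type u) [CommRing R]

/-- the structure morphism of projective space over `R` -/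
noncomputable def πP : Proj (CohB1.polyGrading n R) ⟶ Spec (CommRingCat.of R) :=
  Proj.toSpecZero (CohB1.polyGrading n R) ≫
    Spec.map (CommRingCat.ofHom (algebraMap R (CohB1.polyGrading n R 0)))

/-- the standard affine cover of projective space -/
noncomputable def coverP : (Proj (CohB1.polyGrading n R)).OpenCover :=
  (Proj.affineOpenCoverOfIrrelevantLESpan (CohB1.polyGrading n R)
    (fun i : Fin (n + 1) => (X i : MvPolynomial (Fin (n + 1)) R)) (fun i => X_mem n R i)
    (fun _ => one_pos) (irrelevant_le_span n R)).openCover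

theorem coverP_I₀ : (coverP n R).I₀ = Fin (n + 1) := rfl

theorem coverP_X (i : Fin (n + 1)) :
    (coverP n R).X i = Spec (CommRingCat.of (Aw n R i)) := rfl

theorem coverP_f (i : Fin (n + 1)) :
    (coverP n R).f i = Proj.awayι (CohB1.polyGrading n R) (X i) (X_mem n R i) one_pos := rfl

theorem awayι_πP (i : Fin (n + 1)) :
    Proj.awayι (CohB1.polyGrading n R) (X i) (X_mem n R i) one_pos ≫ πP n R =
      Spec.map (CommRingCat.ofHom (strA n R i)) := by
  unfold πP strA
  rw [Proj.awayι_toSpecZero_assoc, ← Spec.map_comp]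
  rfl

theorem segre_ring :
    ∃ φ : pullback (πP n R) (πP m R) ⟶ Proj (CohB1.polyGrading (n * m + n + m) R),
      IsClosedImmersion φ ∧
        φ ≫ πP (n * m + n + m) R = pullback.fst (πP n R) (πP m R) ≫ πP n R := by
  have hH1 : ∀ t : Fin (n + 1) × Fin (m + 1),
      (Scheme.Pullback.openCoverOfLeftRight (coverP n R) (coverP m R) (πP n R) (πP m R)).f t ≫
        pullback.fst (πP n R) (πP m R) =
      pullback.fst ((coverP n R).f t.1 ≫ πP n R) ((coverP m R).f t.2 ≫ πP m R) ≫
        Proj.awayι (CohB1.polyGrading n R) (X t.1) (X_mem n R t.1) one_pos :=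
    fun t => pullback.lift_fst _ _ _
  have hH1' : ∀ t : Fin (n + 1) × Fin (m + 1),
      (Scheme.Pullback.openCoverOfLeftRight (coverP n R) (coverP m R) (πP n R) (πP m R)).f t ≫
        pullback.snd (πP n R) (πP m R) =
      pullback.snd ((coverP n R).f t.1 ≫ πP n R) ((coverP m R).f t.2 ≫ πP m R) ≫
        Proj.awayι (CohB1.polyGrading m R) (X t.2) (X_mem m R t.2) one_pos :=
    fun t => pullback.lift_snd _ _ _
  have key := segre_abstract n m R (Z := pullback (πP n R) (πP m R))
    (pullback.fst (πP n R) (πP m R)) (pullback.snd (πP n R) (πP m R))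
    (pullback.fst (πP n R) (πP m R) ≫ πP n R)
    (Scheme.Pullback.openCoverOfLeftRight (coverP n R) (coverP m R) (πP n R) (πP m R))
    (fun t => t.1) (fun t => t.2) (fun i j => ⟨(i, j), rfl, rfl⟩)
    (fun t => pullback.fst ((coverP n R).f t.1 ≫ πP n R) ((coverP m R).f t.2 ≫ πP m R))
    (fun t => pullback.snd ((coverP n R).f t.1 ≫ πP n R) ((coverP m R).f t.2 ≫ πP m R))
    hH1 hH1' ?_ ?_ ?_ ?_
  · exact key
  · intro (t : Fin (n + 1) × Fin (m + 1))
    exact isPullback_congr (IsPullback.of_hasPullback _ _) (awayι_πP n R t.1) (awayι_πP m R t.2)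
  · intro (t : Fin (n + 1) × Fin (m + 1)) p hp₁ hp₂
    have hr := Scheme.Pullback.range_map ((coverP n R).f t.1 ≫ πP n R)
      ((coverP m R).f t.2 ≫ πP m R) (πP n R) (πP m R) ((coverP n R).f t.1) ((coverP m R).f t.2)
      (𝟙 _) (Category.comp_id _) (Category.comp_id _)
    show p ∈ Set.range (pullback.map ((coverP n R).f t.1 ≫ πP n R)
      ((coverP m R).f t.2 ≫ πP m R) (πP n R) (πP m R) ((coverP n R).f t.1) ((coverP m R).f t.2)
      (𝟙 _) (Category.comp_id _) (Category.comp_id _))
    rw [hr]
    refine ⟨?_, ?_⟩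
    · have h2 : (pullback.fst (πP n R) (πP m R)) p ∈
          (Proj.awayι (CohB1.polyGrading n R) (X t.1) (X_mem n R t.1) one_pos).opensRange := by
        rw [Proj.opensRange_awayι]
        exact hp₁
      exact h2
    · have h2 : (pullback.snd (πP n R) (πP m R)) p ∈
          (Proj.awayι (CohB1.polyGrading m R) (X t.2) (X_mem m R t.2) one_pos).opensRange := by
        rw [Proj.opensRange_awayι]
        exact hp₂
      exact h2
  · intro (t : Fin (n + 1) × Fin (m + 1))
    exact ((Category.assoc _ _ _).symm.trans (congrArg (· ≫ πP n R) (hH1 t))).trans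
      ((Category.assoc _ _ _).trans (congrArg (fun k => pullback.fst ((coverP n R).f t.1 ≫ πP n R)
        ((coverP m R).f t.2 ≫ πP m R) ≫ k) (awayι_πP n R t.1)))
  · intro (t : Fin (n + 1) × Fin (m + 1))
    show IsAffine (pullback ((coverP n R).f t.1 ≫ πP n R) ((coverP m R).f t.2 ≫ πP m R))
    haveI : IsAffine ((coverP n R).X t.1) := by
      rw [coverP_X]; infer_instance
    haveI : IsAffine ((coverP m R).X t.2) := by
      rw [coverP_X]; infer_instance
    infer_instance

end Groth.Agent.Helper17.SG
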