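import Mathlib
import Groth.Agent.Lib.Helper17.SG7

set_option autoImplicit false
universe u
open CategoryTheory AlgebraicGeometry Limits

namespace Groth.Agent.Helper17.SG

theorem isPullback_congr4 {𝒞 : Type*} [Category 𝒞] {P X Y Z : 𝒞} {f₁ f₁' : P ⟶ X}
    {f₂ f₂' : P ⟶ Y} {f₃ f₃' : X ⟶ Z} {f₄ f₄' : Y ⟶ Z} (h : IsPullback f₁ f₂ f₃ f₄)
    (e₁ : f₁ = f₁') (e₂ : f₂ = f₂') (e₃ : f₃ = f₃') (e₄ : f₄ = f₄') :
    IsPullback f₁' f₂' f₃' f₄' := by
  subst e₁ e₂ e₃ e₄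
  exact h

theorem bc_abstract {𝒞 : Type*} [Category 𝒞] [HasPullbacks 𝒞] {P Q T B S : 𝒞} (a : P ⟶ B)
    (b : Q ⟶ B) (c : T ⟶ B) (τ : S ⟶ B) (σ : pullback a b ⟶ T)
    (hσ : σ ≫ c = pullback.fst a b ≫ a) :
    ∃ (ξ : pullback (pullback.snd a τ) (pullback.snd b τ) ⟶ pullback a b)
      (φ : pullback (pullback.snd a τ) (pullback.snd b τ) ⟶ pullback c τ),
      φ ≫ pullback.snd c τ =
        pullback.fst (pullback.snd a τ) (pullback.snd b τ) ≫ pullback.snd a τ ∧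
      IsPullback ξ φ σ (pullback.fst c τ) := by
  obtain ⟨y₁, hy₁⟩ : ∃ y₁ : pullback (pullback.snd a τ) (pullback.snd b τ) ⟶ pullback a τ,
      y₁ = pullback.fst (pullback.snd a τ) (pullback.snd b τ) := ⟨_, rfl⟩
  obtain ⟨y₂, hy₂⟩ : ∃ y₂ : pullback (pullback.snd a τ) (pullback.snd b τ) ⟶ pullback b τ,
      y₂ = pullback.snd (pullback.snd a τ) (pullback.snd b τ) := ⟨_, rfl⟩
  have sqY : IsPullback y₁ y₂ (pullback.snd a τ) (pullback.snd b τ) := by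
    rw [hy₁, hy₂]; exact IsPullback.of_hasPullback _ _
  have sqQ : IsPullback (pullback.fst b τ) (pullback.snd b τ) b τ := IsPullback.of_hasPullback _ _
  have sqP : IsPullback (pullback.fst a τ) (pullback.snd a τ) a τ := IsPullback.of_hasPullback _ _
  have sqT : IsPullback (pullback.fst c τ) (pullback.snd c τ) c τ := IsPullback.of_hasPullback _ _
  have sqAB : IsPullback (pullback.fst a b) (pullback.snd a b) a b :=
    IsPullback.of_hasPullback _ _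
  have hξc : (y₁ ≫ pullback.fst a τ) ≫ a = (y₂ ≫ pullback.fst b τ) ≫ b := by
    rw [Category.assoc, sqP.w, ← Category.assoc, sqY.w, Category.assoc, ← sqQ.w, Category.assoc]
  obtain ⟨ξ, hξ1, hξ2⟩ : ∃ ξ : pullback (pullback.snd a τ) (pullback.snd b τ) ⟶ pullback a b,
      ξ ≫ pullback.fst a b = y₁ ≫ pullback.fst a τ ∧
      ξ ≫ pullback.snd a b = y₂ ≫ pullback.fst b τ :=
    ⟨pullback.lift _ _ hξc, pullback.lift_fst _ _ _, pullback.lift_snd _ _ _⟩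
  have hφc : (ξ ≫ σ) ≫ c = (y₁ ≫ pullback.snd a τ) ≫ τ := by
    rw [Category.assoc, hσ, ← Category.assoc, hξ1, Category.assoc, sqP.w, Category.assoc]
  obtain ⟨φ, hφ1, hφ2⟩ : ∃ φ : pullback (pullback.snd a τ) (pullback.snd b τ) ⟶ pullback c τ,
      φ ≫ pullback.fst c τ = ξ ≫ σ ∧ φ ≫ pullback.snd c τ = y₁ ≫ pullback.snd a τ :=
    ⟨pullback.lift _ _ hφc, pullback.lift_fst _ _ _, pullback.lift_snd _ _ _⟩
  refine ⟨ξ, φ, ?_, ?_⟩
  · rw [hφ2, hy₁]
  · have s' : IsPullback (y₂ ≫ pullback.fst b τ) y₁ b (pullback.snd a τ ≫ τ) :=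
      sqY.flip.paste_horiz sqQ
    have s : IsPullback (ξ ≫ pullback.snd a b) y₁ b (pullback.fst a τ ≫ a) :=
      isPullback_congr4 s' hξ2.symm rfl rfl sqP.w.symm
    have sq4 : IsPullback ξ y₁ (pullback.fst a b) (pullback.fst a τ) :=
      IsPullback.of_right s hξ1 sqAB.flip
    have big : IsPullback ξ (y₁ ≫ pullback.snd a τ) (pullback.fst a b ≫ a) τ :=
      sq4.paste_vert sqP
    have big' : IsPullback ξ (φ ≫ pullback.snd c τ) (σ ≫ c) τ :=
      isPullback_congr4 big rfl hφ2.symm hσ.symm rfl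
    exact IsPullback.of_bot big' hφ1.symm sqT

theorem main1616 (S : Scheme.{u}) (n m : ℕ) :
    ∃ φ : pullback (CohB1.ProjSpaceOver.toBase n S) (CohB1.ProjSpaceOver.toBase m S) ⟶
        CohB1.ProjSpaceOver (n * m + n + m) S,
      IsClosedImmersion φ ∧ φ ≫ CohB1.ProjSpaceOver.toBase (n * m + n + m) S =
        pullback.fst (CohB1.ProjSpaceOver.toBase n S) (CohB1.ProjSpaceOver.toBase m S) ≫
          CohB1.ProjSpaceOver.toBase n S := by
  obtain ⟨σ, hσ1, hσ2⟩ := segre_ring n m (ULift.{u} ℤ)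
  obtain ⟨ξ, φ, h1, h2⟩ := bc_abstract (πP n (ULift.{u} ℤ)) (πP m (ULift.{u} ℤ))
    (πP (n * m + n + m) (ULift.{u} ℤ)) (specULiftZIsTerminal.from S) σ hσ2
  exact ⟨φ, MorphismProperty.of_isPullback (P := @IsClosedImmersion) h2 hσ1, h1⟩

end Groth.Agent.Helper17.SG
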