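import Mathlib

set_option autoImplicit false
universe u
open CategoryTheory AlgebraicGeometry Limits

namespace Groth.Agent.Helper17.QP

section Avoid

variable {A : Type u} {σ : Type*} [CommRing A] [SetLike σ A] [AddSubgroupClass σ A]
  (𝒜 : ℕ → σ) [GradedRing 𝒜]

/-- A homogeneous element of positive degree outside a relevant homogeneous prime. -/
theorem exists_pos_notMem (x : ProjectiveSpectrum 𝒜) :
    ∃ k, 0 < k ∧ ∃ h ∈ 𝒜 k, h ∉ x.asHomogeneousIdeal := by
  classical
  by_contra hcon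
  push_neg at hcon
  apply x.not_irrelevant_le
  intro a ha
  have ha' : a ∈ (HomogeneousIdeal.irrelevant 𝒜).toIdeal := ha
  rw [HomogeneousIdeal.irrelevant_eq_span] at ha'
  have hle : Ideal.span (⋃ i > 0, (𝒜 i : Set A)) ≤ x.asHomogeneousIdeal.toIdeal := by
    rw [Ideal.span_le]
    intro b hb
    simp only [Set.mem_iUnion] at hb
    obtain ⟨i, hi, hb⟩ := hb
    exact hcon i hi b hb
  exact hle ha'

theorem avoid_one (I : Ideal A) (hI : I.IsHomogeneous 𝒜) (x : ProjectiveSpectrum 𝒜)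
    (hx : ¬ I ≤ x.asHomogeneousIdeal.toIdeal) :
    ∃ m, 0 < m ∧ ∃ f ∈ 𝒜 m, f ∈ I ∧ f ∉ x.asHomogeneousIdeal := by
  classical
  obtain ⟨g, hgI, hgx⟩ := SetLike.not_le_iff_exists.mp hx
  have hcomp : ∃ i, ((DirectSum.decompose 𝒜 g) i : A) ∉ x.asHomogeneousIdeal.toIdeal := by
    by_contra h
    push_neg at h
    apply hgx
    rw [← DirectSum.sum_support_decompose 𝒜 g]
    exact Ideal.sum_mem _ (fun i _ => h i)
  obtain ⟨i, hi⟩ := hcomp
  obtain ⟨k, hk, h, hh, hhx⟩ := exists_pos_notMem 𝒜 x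
  refine ⟨i + k, by omega, ((DirectSum.decompose 𝒜 g) i : A) * h,
    SetLike.mul_mem_graded (SetLike.coe_mem _) hh, I.mul_mem_right _ (hI i hgI), ?_⟩
  intro hmem
  rcases x.isPrime.mem_or_mem hmem with h1 | h1
  · exact hi h1
  · exact hhx h1

theorem avoid_finset (I : Ideal A) (hI : I.IsHomogeneous 𝒜) :
    ∀ (n : ℕ) (T : Finset (ProjectiveSpectrum 𝒜)), T.card = n →
      (∀ x ∈ T, ¬ I ≤ x.asHomogeneousIdeal.toIdeal) →
      ∃ m, 0 < m ∧ ∃ f ∈ 𝒜 m, f ∈ I ∧ ∀ x ∈ T, f ∉ x.asHomogeneousIdeal := by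
  classical
  intro n
  induction n with
  | zero =>
    intro T hT _
    refine ⟨1, one_pos, 0, zero_mem _, zero_mem _, ?_⟩
    intro x hx
    rw [Finset.card_eq_zero] at hT
    rw [hT] at hx
    exact absurd hx (Finset.notMem_empty x)
  | succ n ih =>
    intro T hT hTI
    rcases Nat.eq_zero_or_pos n with hn | hn
    · subst hn
      obtain ⟨x, rfl⟩ := Finset.card_eq_one.mp hT
      obtain ⟨m, hm, f, hf, hfI, hfx⟩ :=
        avoid_one 𝒜 I hI x (hTI x (Finset.mem_singleton_self x))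
      refine ⟨m, hm, f, hf, hfI, ?_⟩
      intro y hy
      rw [Finset.mem_singleton] at hy
      rw [hy]; exact hfx
    · have hstep : ∀ t ∈ T, ∃ m, 0 < m ∧ ∃ f ∈ 𝒜 m, f ∈ I ∧
          ∀ x ∈ T.erase t, f ∉ x.asHomogeneousIdeal := by
        intro t ht
        apply ih (T.erase t)
        · rw [Finset.card_erase_of_mem ht, hT]; omega
        · intro x hx; exact hTI x (Finset.mem_of_mem_erase hx)
      choose! m hm f hf hfI hfav using hstep
      by_cases hex : ∃ t ∈ T, f t ∉ t.asHomogeneousIdeal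
      · obtain ⟨t, ht, hft⟩ := hex
        refine ⟨m t, hm t ht, f t, hf t ht, hfI t ht, ?_⟩
        intro x hx
        by_cases hxt : x = t
        · rw [hxt]; exact hft
        · exact hfav t ht x (Finset.mem_erase.mpr ⟨hxt, hx⟩)
      · push_neg at hex
        have hne : T.Nonempty := by
          rw [← Finset.card_pos, hT]; omega
        obtain ⟨t₁, ht₁⟩ := hne
        obtain ⟨T', hT'⟩ : ∃ T', T' = T.erase t₁ := ⟨_, rfl⟩
        have hT'sub : ∀ u ∈ T', u ∈ T ∧ u ≠ t₁ := by
          intro u hu; rw [hT'] at hu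
          exact ⟨Finset.mem_of_mem_erase hu, Finset.ne_of_mem_erase hu⟩
        have hT'ne : T'.Nonempty := by
          rw [← Finset.card_pos, hT', Finset.card_erase_of_mem ht₁, hT]; omega
        obtain ⟨g, hg⟩ : ∃ g, g = ∏ u ∈ T', f u := ⟨_, rfl⟩
        obtain ⟨D, hD⟩ : ∃ D, D = ∑ u ∈ T', m u := ⟨_, rfl⟩
        have hgD : g ∈ 𝒜 D := by
          rw [hg, hD]
          exact SetLike.prod_mem_graded 𝒜 m f (fun u hu => hf u (hT'sub u hu).1)
        have hDpos : 0 < D := by
          rw [hD]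
          exact Finset.sum_pos (fun u hu => hm u (hT'sub u hu).1) hT'ne
        have hgI : g ∈ I := by
          obtain ⟨u, hu⟩ := hT'ne
          rw [hg]
          exact Ideal.prod_mem I hu (hfI u (hT'sub u hu).1)
        refine ⟨D * m t₁, Nat.mul_pos hDpos (hm t₁ ht₁), f t₁ ^ D + g ^ m t₁, ?_, ?_, ?_⟩
        · apply add_mem
          · have := SetLike.pow_mem_graded D (hf t₁ ht₁)
            rwa [smul_eq_mul] at this
          · have := SetLike.pow_mem_graded (m t₁) hgD
            rwa [smul_eq_mul, mul_comm] at this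
        · exact I.add_mem (I.pow_mem_of_mem (hfI t₁ ht₁) D hDpos)
            (I.pow_mem_of_mem hgI (m t₁) (hm t₁ ht₁))
        · intro x hx hmem
          by_cases hxt : x = t₁
          · have h1 : f t₁ ^ D ∈ x.asHomogeneousIdeal.toIdeal := by
              rw [hxt]
              exact Ideal.pow_mem_of_mem _ (hex t₁ ht₁) D hDpos
            have h2 : g ^ m t₁ ∈ x.asHomogeneousIdeal.toIdeal :=
              (Ideal.add_mem_iff_right _ h1).mp hmem
            have h3 : g ∈ x.asHomogeneousIdeal.toIdeal := x.isPrime.mem_of_pow_mem _ h2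
            rw [hg, Ideal.IsPrime.prod_mem_iff] at h3
            obtain ⟨u, hu, hfu⟩ := h3
            obtain ⟨huT, hune⟩ := hT'sub u hu
            exact hfav u huT x
              (Finset.mem_erase.mpr ⟨fun h => hune (h.symm.trans hxt), hx⟩) hfu
          · have hxT' : x ∈ T' := by rw [hT']; exact Finset.mem_erase.mpr ⟨hxt, hx⟩
            have h1 : g ∈ x.asHomogeneousIdeal.toIdeal := by
              rw [hg]
              exact Ideal.prod_mem _ hxT' (hex x hx)
            have h2 : f t₁ ^ D ∈ x.asHomogeneousIdeal.toIdeal :=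
              (Ideal.add_mem_iff_left _
                (Ideal.pow_mem_of_mem _ h1 (m t₁) (hm t₁ ht₁))).mp hmem
            have h3 : f t₁ ∈ x.asHomogeneousIdeal.toIdeal := x.isPrime.mem_of_pow_mem _ h2
            exact hfav t₁ ht₁ x (Finset.mem_erase.mpr ⟨hxt, hx⟩) h3

/-- Homogeneous prime avoidance: a homogeneous ideal not contained in any of finitely many
relevant homogeneous primes contains a homogeneous element of positive degree outside all of
them. -/
theorem avoid (I : Ideal A) (hI : I.IsHomogeneous 𝒜) (T : Set (ProjectiveSpectrum 𝒜))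
    (hT : T.Finite) (hTI : ∀ x ∈ T, ¬ I ≤ x.asHomogeneousIdeal.toIdeal) :
    ∃ m, 0 < m ∧ ∃ f ∈ 𝒜 m, f ∈ I ∧ ∀ x ∈ T, f ∉ x.asHomogeneousIdeal := by
  classical
  obtain ⟨m, hm, f, hf, hfI, hfT⟩ := avoid_finset 𝒜 I hI hT.toFinset.card hT.toFinset rfl
    (fun x hx => hTI x (hT.mem_toFinset.mp hx))
  exact ⟨m, hm, f, hf, hfI, fun x hx => hfT x (hT.mem_toFinset.mpr hx)⟩

theorem noetherianSpace_projectiveSpectrum [IsNoetherianRing A] :
    TopologicalSpace.NoetherianSpace (ProjectiveSpectrum 𝒜) := by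
  refine ((TopologicalSpace.noetherianSpace_TFAE (ProjectiveSpectrum 𝒜)).out 0 1).mpr ?_
  have hsm : StrictMono (fun Z : TopologicalSpace.Closeds (ProjectiveSpectrum 𝒜) =>
      OrderDual.toDual
        (ProjectiveSpectrum.vanishingIdeal (Z : Set (ProjectiveSpectrum 𝒜))).toIdeal) := by
    intro Z Z' hZ
    show (ProjectiveSpectrum.vanishingIdeal (Z' : Set (ProjectiveSpectrum 𝒜))).toIdeal <
      (ProjectiveSpectrum.vanishingIdeal (Z : Set (ProjectiveSpectrum 𝒜))).toIdeal
    rw [lt_iff_le_not_ge] at hZ ⊢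
    refine ⟨fun a ha => ProjectiveSpectrum.vanishingIdeal_anti_mono 𝒜
      (SetLike.coe_subset_coe.mpr hZ.1) ha, fun h => hZ.2 ?_⟩
    have h1 : ProjectiveSpectrum.zeroLocus 𝒜
        ((ProjectiveSpectrum.vanishingIdeal (Z' : Set (ProjectiveSpectrum 𝒜)) :
          HomogeneousIdeal 𝒜) : Set A) ⊆
        ProjectiveSpectrum.zeroLocus 𝒜
        ((ProjectiveSpectrum.vanishingIdeal (Z : Set (ProjectiveSpectrum 𝒜)) :
          HomogeneousIdeal 𝒜) : Set A) :=
      ProjectiveSpectrum.zeroLocus_anti_mono 𝒜 (fun a ha => h ha)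
    rw [ProjectiveSpectrum.zeroLocus_vanishingIdeal_eq_closure,
      ProjectiveSpectrum.zeroLocus_vanishingIdeal_eq_closure, Z.isClosed.closure_eq,
      Z'.isClosed.closure_eq] at h1
    exact SetLike.coe_subset_coe.mp h1
  exact hsm.wellFoundedLT

end Avoid

end Groth.Agent.Helper17.QP
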