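import Mathlib
import Groth.Agent.Lib.Helper17.QP1

set_option autoImplicit false
universe u
open CategoryTheory AlgebraicGeometry Limits

namespace Groth.Agent.Helper17.QP

section Cover

variable {A : Type u} {σ : Type*} [CommRing A] [SetLike σ A] [AddSubgroupClass σ A]
  (𝒜 : ℕ → σ) [GradedRing 𝒜]

variable {X : Scheme.{u}} (j : X ⟶ Proj 𝒜)

/-- The common vanishing locus of a family of elements is closed in the source. -/
theorem isClosed_vanish {ι : Type*} (fs : ι → A) :
    IsClosed {x : X | ∀ t, fs t ∈ (j x).asHomogeneousIdeal} := by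
  have h := (ProjectiveSpectrum.isClosed_zeroLocus 𝒜 (Set.range fs)).preimage j.continuous
  convert h using 1
  ext x
  constructor
  · intro hx
    show Set.range fs ⊆ ((j x).asHomogeneousIdeal : Set A)
    rintro _ ⟨t, rfl⟩
    exact hx t
  · intro hx t
    have hx' : Set.range fs ⊆ ((j x).asHomogeneousIdeal : Set A) := hx
    exact hx' (Set.mem_range_self t)

/-- A scheme of dimension at most `r` immersed in `Proj` of a Noetherian graded ring is covered
by `r + 1` affine opens. -/
theorem affine_cover_abstract [IsNoetherianRing A] [IsImmersion j] (r : ℕ)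
    (hX : topologicalKrullDim X ≤ (r : WithBot ℕ∞)) :
    ∃ U : Fin (r + 1) → X.Opens, (∀ i, IsAffineOpen (U i)) ∧ ⨆ i, U i = ⊤ := by
  classical
  haveI hNP : TopologicalSpace.NoetherianSpace (Proj 𝒜) :=
    noetherianSpace_projectiveSpectrum 𝒜
  haveI hNX : TopologicalSpace.NoetherianSpace X := j.isEmbedding.isInducing.noetherianSpace
  obtain ⟨Bs, hBs⟩ : ∃ Bs : Set (ProjectiveSpectrum 𝒜), Bs = (coborder (Set.range j))ᶜ :=
    ⟨_, rfl⟩
  have hBc : IsClosed Bs := by
    rw [hBs]; exact j.isLocallyClosed_range.isOpen_coborder.isClosed_compl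
  obtain ⟨I, hIdef⟩ : ∃ I : Ideal A, I = (ProjectiveSpectrum.vanishingIdeal Bs).toIdeal :=
    ⟨_, rfl⟩
  have hIhom : I.IsHomogeneous 𝒜 := by
    rw [hIdef]; exact (ProjectiveSpectrum.vanishingIdeal Bs).isHomogeneous
  have factA : ∀ x : X, ¬ I ≤ (j x).asHomogeneousIdeal.toIdeal := by
    intro x hle
    have h1 : (j x : ProjectiveSpectrum 𝒜) ∈ ProjectiveSpectrum.zeroLocus 𝒜
        ((ProjectiveSpectrum.vanishingIdeal Bs : HomogeneousIdeal 𝒜) : Set A) := by
      show ((ProjectiveSpectrum.vanishingIdeal Bs : HomogeneousIdeal 𝒜) : Set A) ⊆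
        ((j x).asHomogeneousIdeal : Set A)
      intro a ha
      exact hle (by rw [hIdef]; exact ha)
    rw [ProjectiveSpectrum.zeroLocus_vanishingIdeal_eq_closure, hBc.closure_eq, hBs] at h1
    exact h1 (subset_coborder (Set.mem_range_self x))
  have factB : ∀ f ∈ I, Proj.basicOpen 𝒜 f ≤ j.coborderRange := by
    intro f hf y hy
    show y ∈ coborder (Set.range j)
    by_contra hy'
    have hyB : (y : ProjectiveSpectrum 𝒜) ∈ Bs := by rw [hBs]; exact hy'
    rw [hIdef] at hf
    have := (ProjectiveSpectrum.mem_vanishingIdeal Bs f).mp hf y hyB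
    exact ((Proj.mem_basicOpen 𝒜 f y).mp hy) this
  have hAff : ∀ (f : A) (m : ℕ), 0 < m → f ∈ 𝒜 m → f ∈ I →
      IsAffineOpen (j ⁻¹ᵁ Proj.basicOpen 𝒜 f) := by
    intro f m hm hf hfI
    have hD : IsAffineOpen (Proj.basicOpen 𝒜 f) := Proj.isAffineOpen_basicOpen 𝒜 f hf hm
    have h1 : IsAffineOpen (j.coborderRange.ι ⁻¹ᵁ Proj.basicOpen 𝒜 f) :=
      hD.preimage_of_isOpenImmersion j.coborderRange.ι
        (by rw [Scheme.Opens.opensRange_ι]; exact factB f hfI)
    have h2 : IsAffineOpen
        (j.liftCoborder ⁻¹ᵁ (j.coborderRange.ι ⁻¹ᵁ Proj.basicOpen 𝒜 f)) :=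
      h1.preimage j.liftCoborder
    have h3 : j.liftCoborder ⁻¹ᵁ (j.coborderRange.ι ⁻¹ᵁ Proj.basicOpen 𝒜 f) =
        j ⁻¹ᵁ Proj.basicOpen 𝒜 f := by
      rw [← Scheme.Hom.comp_preimage, j.liftCoborder_ι]
    rw [← h3]; exact h2
  have key : ∀ i : ℕ, ∃ fs : Fin i → A, (∀ t, ∃ m, 0 < m ∧ fs t ∈ 𝒜 m ∧ fs t ∈ I) ∧
      ∀ Z : TopologicalSpace.IrreducibleCloseds X,
        (∀ x ∈ Z, ∀ t, fs t ∈ (j x).asHomogeneousIdeal) →
        Order.height Z + (i : ℕ∞) ≤ (r : ℕ∞) := by
    intro i
    induction i with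
    | zero =>
      refine ⟨fun t => t.elim0, fun t => t.elim0, ?_⟩
      intro Z _
      have h1 : ((Order.height Z : ℕ∞) : WithBot ℕ∞) ≤ (r : WithBot ℕ∞) :=
        (Order.height_le_krullDim Z).trans hX
      simp only [Nat.cast_zero, add_zero]
      exact_mod_cast h1
    | succ i ih =>
      obtain ⟨fs, hfs, hht⟩ := ih
      obtain ⟨Y, hY⟩ : ∃ Y : Set X, Y = {x : X | ∀ t, fs t ∈ (j x).asHomogeneousIdeal} :=
        ⟨_, rfl⟩
      have hYc : IsClosed Y := by rw [hY]; exact isClosed_vanish 𝒜 j fs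
      obtain ⟨S, hSf, hSc, hSi, hSU⟩ :=
        TopologicalSpace.NoetherianSpace.exists_finite_set_isClosed_irreducible hYc
      lift S to Finset (Set X) using hSf
      choose η hη using fun t : {t // t ∈ S} =>
        QuasiSober.sober (hSi t.1 (Finset.mem_coe.mpr t.2)) (hSc t.1 (Finset.mem_coe.mpr t.2))
      obtain ⟨m, hm, f, hf, hfI, hfT⟩ := avoid 𝒜 I hIhom
        (Set.range (fun t : {t // t ∈ S} => (j (η t) : ProjectiveSpectrum 𝒜)))
        (Set.finite_range _) (by rintro _ ⟨t, rfl⟩; exact factA (η t))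
      refine ⟨Fin.cons f fs, ?_, ?_⟩
      · intro t
        refine Fin.cases ?_ (fun t' => ?_) t
        · rw [Fin.cons_zero]; exact ⟨m, hm, hf, hfI⟩
        · rw [Fin.cons_succ]; exact hfs t'
      · intro Z hZ
        have hZf : ∀ x ∈ Z, f ∈ (j x).asHomogeneousIdeal := by
          intro x hx
          have := hZ x hx 0
          rwa [Fin.cons_zero] at this
        have hZY : (Z : Set X) ⊆ Y := by
          intro x hx
          rw [hY]
          intro t
          have := hZ x hx t.succ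
          rwa [Fin.cons_succ] at this
        obtain ⟨t, htS, hZt⟩ := isIrreducible_iff_sUnion_isClosed.1 Z.isIrreducible S
          (fun z hz => hSc z (Finset.mem_coe.mpr hz)) (by rw [← hSU]; exact hZY)
        have htY : t ⊆ Y := by
          rw [hSU]; exact Set.subset_sUnion_of_mem (Finset.mem_coe.mpr htS)
        obtain ⟨t', ht'⟩ : ∃ t' : TopologicalSpace.IrreducibleCloseds X, (t' : Set X) = t :=
          ⟨⟨t, hSi t (Finset.mem_coe.mpr htS), hSc t (Finset.mem_coe.mpr htS)⟩, rfl⟩
        have hηt : η ⟨t, htS⟩ ∈ t := (hη ⟨t, htS⟩).mem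
        have hηZ : η ⟨t, htS⟩ ∉ (Z : Set X) := by
          intro hmem
          exact hfT _ ⟨⟨t, htS⟩, rfl⟩ (hZf _ hmem)
        have hlt : Z < t' := by
          rw [lt_iff_le_not_ge]
          constructor
          · rw [← SetLike.coe_subset_coe, ht']; exact hZt
          · intro hle
            rw [← SetLike.coe_subset_coe, ht'] at hle
            exact hηZ (hle hηt)
        have h1 : Order.height Z + 1 ≤ Order.height t' := Order.height_add_one_le hlt
        have h2 : Order.height t' + (i : ℕ∞) ≤ (r : ℕ∞) := by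
          apply hht t'
          intro x hx t₀
          have hx' : x ∈ t := by rw [← ht']; exact hx
          have := htY hx'
          rw [hY] at this
          exact this t₀
        calc Order.height Z + ((i + 1 : ℕ) : ℕ∞) = (Order.height Z + 1) + (i : ℕ∞) := by
              push_cast; ring
          _ ≤ Order.height t' + (i : ℕ∞) := by gcongr
          _ ≤ (r : ℕ∞) := h2
  obtain ⟨fs, hfs, hht⟩ := key (r + 1)
  refine ⟨fun t => j ⁻¹ᵁ Proj.basicOpen 𝒜 (fs t), ?_, ?_⟩
  · intro t
    obtain ⟨m, hm, hf, hfI⟩ := hfs t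
    exact hAff (fs t) m hm hf hfI
  · rw [eq_top_iff]
    intro x _
    rw [TopologicalSpace.Opens.mem_iSup]
    by_contra hcon
    push_neg at hcon
    have hx : ∀ t, fs t ∈ (j x).asHomogeneousIdeal := by
      intro t
      by_contra h
      exact hcon t h
    obtain ⟨Z, hZ⟩ : ∃ Z : TopologicalSpace.IrreducibleCloseds X,
        (Z : Set X) = closure {x} :=
      ⟨⟨closure {x}, isIrreducible_singleton.closure, isClosed_closure⟩, rfl⟩
    have hZY : ∀ y ∈ Z, ∀ t, fs t ∈ (j y).asHomogeneousIdeal := by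
      intro y hy
      have hcl : closure {x} ⊆ {y : X | ∀ t, fs t ∈ (j y).asHomogeneousIdeal} :=
        closure_minimal (Set.singleton_subset_iff.mpr hx) (isClosed_vanish 𝒜 j fs)
      have hy' : y ∈ closure {x} := by rw [← hZ]; exact hy
      exact hcl hy'
    have h1 := hht Z hZY
    have h2 : ((r + 1 : ℕ) : ℕ∞) ≤ (r : ℕ∞) := le_trans le_add_self h1
    have h3 : r + 1 ≤ r := by exact_mod_cast h2
    omega

end Cover

end Groth.Agent.Helper17.QP
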