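import Mathlib
import Groth.Agent.Lib.Helper17.SG7

set_option autoImplicit false
universe u
open CategoryTheory AlgebraicGeometry Limits HomogeneousLocalization MvPolynomial

namespace Groth.Agent.Helper17.QP

open Groth.Agent.Helper17.SG

/-- Ring homs out of `ULift ℤ` are unique. -/
theorem hom_unique {T : Type*} [CommRing T] (f g : ULift.{u} ℤ →+* T) : f = g := by
  apply RingHom.ext
  intro x
  have hx : x = ((x.down : ℤ) : ULift.{u} ℤ) := by
    apply ULift.ext
    simp
  rw [hx, map_intCast, map_intCast]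

theorem mk_congr {C σC : Type*} [CommRing C] [SetLike σC C] [AddSubgroupClass σC C]
    (𝒞 : ℕ → σC) [GradedRing 𝒞] {h : C} {d : ℕ} (hh : h ∈ 𝒞 d) (k : ℕ) {a a' : C} (e : a = a')
    (ha : a ∈ 𝒞 (k • d)) (ha' : a' ∈ 𝒞 (k • d)) :
    Away.mk 𝒞 hh k a ha = Away.mk 𝒞 hh k a' ha' := by
  subst e; rfl

section Chart

variable (n : ℕ) (A : Type u) [CommRing A] (i : Fin (n + 1))
variable {T : Type*} [CommRing T]

/-- the ring hom out of `A[x]` defining the map out of the chart ring -/
noncomputable def sT (α : Aw n (ULift.{u} ℤ) i →+* T) (β : A →+* T) :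
    MvPolynomial (Fin (n + 1)) A →+* T :=
  eval₂Hom β (fun k => α (fr n (ULift.{u} ℤ) i k))

theorem sT_X (α : Aw n (ULift.{u} ℤ) i →+* T) (β : A →+* T) (k : Fin (n + 1)) :
    sT n A i α β (X k) = α (fr n (ULift.{u} ℤ) i k) := by
  unfold sT; rw [eval₂Hom_X']

theorem sT_C (α : Aw n (ULift.{u} ℤ) i →+* T) (β : A →+* T) (a : A) :
    sT n A i α β (C a) = β a := by
  unfold sT; rw [eval₂Hom_C]

theorem sT_unit (α : Aw n (ULift.{u} ℤ) i →+* T) (β : A →+* T) :
    IsUnit (sT n A i α β (X i)) := by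
  rw [sT_X, fr_self, map_one]; exact isUnit_one

noncomputable def gam (α : Aw n (ULift.{u} ℤ) i →+* T) (β : A →+* T) : Aw n A i →+* T :=
  evalAway (CohB1.polyGrading n A) (sT n A i α β) (X i) (sT_unit n A i α β)

theorem gam_ev (α : Aw n (ULift.{u} ℤ) i →+* T) (β : A →+* T) :
    (gam n A i α β).comp (ev n A i) = sT n A i α β := by
  apply MvPolynomial.ringHom_ext
  · intro a
    rw [RingHom.comp_apply, ev_C]
    unfold gam strA
    rw [RingHom.comp_apply, evalAway_fromZero]
    rfl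
  · intro k
    rw [RingHom.comp_apply, ev_X]
    have h := evalAway_mk (CohB1.polyGrading n A) (sT n A i α β) (X i) (sT_unit n A i α β)
      (X_mem n A i) 1 (X k) (X_mem' n A k)
    have h1 : sT n A i α β (X i) = 1 := by rw [sT_X, fr_self, map_one]
    rw [h1, one_pow, mul_one] at h
    exact h

theorem gam_str (α : Aw n (ULift.{u} ℤ) i →+* T) (β : A →+* T) (a : A) :
    gam n A i α β (strA n A i a) = β a := by
  have h := RingHom.congr_fun (gam_ev n A i α β) (C a)
  rw [RingHom.comp_apply, ev_C, sT_C] at h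
  exact h

theorem gam_fr (α : Aw n (ULift.{u} ℤ) i →+* T) (β : A →+* T) (k : Fin (n + 1)) :
    gam n A i α β (fr n A i k) = α (fr n (ULift.{u} ℤ) i k) := by
  have h := RingHom.congr_fun (gam_ev n A i α β) (X k)
  rw [RingHom.comp_apply, ev_X, sT_X] at h
  exact h

theorem gam_theta (θ : Aw n (ULift.{u} ℤ) i →+* Aw n A i)
    (H1 : ∀ k, θ (fr n (ULift.{u} ℤ) i k) = fr n A i k)
    (α : Aw n (ULift.{u} ℤ) i →+* T) (β : A →+* T) :
    (gam n A i α β).comp θ = α := by
  apply RingHom.ext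
  intro z
  obtain ⟨p, rfl⟩ := ev_surjective n (ULift.{u} ℤ) i z
  have h : ((gam n A i α β).comp θ).comp (ev n (ULift.{u} ℤ) i) =
      α.comp (ev n (ULift.{u} ℤ) i) := by
    apply MvPolynomial.ringHom_ext
    · intro r
      exact RingHom.congr_fun (hom_unique
        ((((gam n A i α β).comp θ).comp (ev n (ULift.{u} ℤ) i)).comp C)
        ((α.comp (ev n (ULift.{u} ℤ) i)).comp C)) r
    · intro k
      rw [RingHom.comp_apply, RingHom.comp_apply, RingHom.comp_apply, ev_X, H1, gam_fr]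
  exact RingHom.congr_fun h p

theorem gam_unique (θ : Aw n (ULift.{u} ℤ) i →+* Aw n A i)
    (H1 : ∀ k, θ (fr n (ULift.{u} ℤ) i k) = fr n A i k)
    (α : Aw n (ULift.{u} ℤ) i →+* T) (β : A →+* T) (γ' : Aw n A i →+* T)
    (h1 : γ'.comp θ = α) (h2 : γ'.comp (strA n A i) = β) : γ' = gam n A i α β := by
  apply RingHom.ext
  intro z
  obtain ⟨p, rfl⟩ := ev_surjective n A i z
  have h : γ'.comp (ev n A i) = (gam n A i α β).comp (ev n A i) := by
    rw [gam_ev]
    apply MvPolynomial.ringHom_ext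
    · intro a
      rw [RingHom.comp_apply, ev_C, sT_C, ← h2, RingHom.comp_apply]
    · intro k
      rw [RingHom.comp_apply, ev_X, sT_X, ← H1, ← h1, RingHom.comp_apply]
  exact RingHom.congr_fun h p

theorem chart_isPushout (ρ : ULift.{u} ℤ →+* A) (θ : Aw n (ULift.{u} ℤ) i →+* Aw n A i)
    (H1 : ∀ k, θ (fr n (ULift.{u} ℤ) i k) = fr n A i k) :
    IsPushout (CommRingCat.ofHom (strA n (ULift.{u} ℤ) i)) (CommRingCat.ofHom ρ)
      (CommRingCat.ofHom θ) (CommRingCat.ofHom (strA n A i)) := by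
  have w : CommRingCat.ofHom (strA n (ULift.{u} ℤ) i) ≫ CommRingCat.ofHom θ =
      CommRingCat.ofHom ρ ≫ CommRingCat.ofHom (strA n A i) := by
    rw [← CommRingCat.ofHom_comp, ← CommRingCat.ofHom_comp]
    exact congrArg CommRingCat.ofHom (hom_unique _ _)
  refine ⟨⟨w⟩, ⟨PushoutCocone.IsColimit.mk w
    (fun s => CommRingCat.ofHom (gam n A i s.inl.hom s.inr.hom)) ?_ ?_ ?_⟩⟩
  · intro s
    apply CommRingCat.hom_ext
    rw [CommRingCat.hom_comp, CommRingCat.hom_ofHom, CommRingCat.hom_ofHom]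
    exact gam_theta n A i θ H1 s.inl.hom s.inr.hom
  · intro s
    apply CommRingCat.hom_ext
    rw [CommRingCat.hom_comp, CommRingCat.hom_ofHom, CommRingCat.hom_ofHom]
    apply RingHom.ext
    intro a
    exact gam_str n A i s.inl.hom s.inr.hom a
  · intro s m hm1 hm2
    apply CommRingCat.hom_ext
    rw [CommRingCat.hom_ofHom]
    apply gam_unique n A i θ H1
    · have := congrArg CommRingCat.Hom.hom hm1
      rw [CommRingCat.hom_comp, CommRingCat.hom_ofHom] at this
      exact this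
    · have := congrArg CommRingCat.Hom.hom hm2
      rw [CommRingCat.hom_comp, CommRingCat.hom_ofHom] at this
      exact this

theorem chart_isPullback (ρ : ULift.{u} ℤ →+* A) (θ : Aw n (ULift.{u} ℤ) i →+* Aw n A i)
    (H1 : ∀ k, θ (fr n (ULift.{u} ℤ) i k) = fr n A i k) :
    IsPullback (Spec.map (CommRingCat.ofHom θ)) (Spec.map (CommRingCat.ofHom (strA n A i)))
      (Spec.map (CommRingCat.ofHom (strA n (ULift.{u} ℤ) i)))
      (Spec.map (CommRingCat.ofHom ρ)) :=
  isPullback_SpecMap_of_isPushout _ _ _ _ (chart_isPushout n A i ρ θ H1)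

theorem chart_isPullback_var (hA : MvPolynomial (Fin (n + 1)) A) (e : hA = X i)
    (hh : hA ∈ CohB1.polyGrading n A 1) (ρ : ULift.{u} ℤ →+* A)
    (θ : Aw n (ULift.{u} ℤ) i →+* Away (CohB1.polyGrading n A) hA)
    (H1 : ∀ k, θ (fr n (ULift.{u} ℤ) i k) =
      Away.mk (CohB1.polyGrading n A) hh 1 (X k) (X_mem' n A k)) :
    IsPullback (Spec.map (CommRingCat.ofHom θ))
      (Spec.map (CommRingCat.ofHom
        ((fromZeroRingHom (CohB1.polyGrading n A) (Submonoid.powers hA)).comp
          (algebraMap A (CohB1.polyGrading n A 0)))))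
      (Spec.map (CommRingCat.ofHom (strA n (ULift.{u} ℤ) i)))
      (Spec.map (CommRingCat.ofHom ρ)) := by
  subst e
  exact chart_isPullback n A i ρ θ H1

end Chart

end Groth.Agent.Helper17.QP
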