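import Mathlib
import Groth.Agent.Lib.Helper17.QP4
import Groth.Agent.Lib.Helper17.QP2

set_option autoImplicit false
universe u
open CategoryTheory AlgebraicGeometry Limits HomogeneousLocalization MvPolynomial

namespace Groth.Agent.Helper17.QP

open Groth.Agent.Helper17.SG

section Global

variable (n : ℕ) (A : Type u) [CommRing A]

/-- the canonical ring hom `ULift ℤ → A` -/
noncomputable def rho : ULift.{u} ℤ →+* A :=
  (Int.castRingHom A).comp (ULift.ringEquiv : ULift.{u} ℤ ≃+* ℤ).toRingHom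

/-- the graded ring hom `ℤ[x] → A[x]` -/
noncomputable def gradedMap :
    CohB1.polyGrading n (ULift.{u} ℤ) →+*ᵍ CohB1.polyGrading n A :=
  ⟨MvPolynomial.map (rho A), fun hx => MvPolynomial.IsHomogeneous.map hx (rho A)⟩

theorem gradedMap_apply (p : MvPolynomial (Fin (n + 1)) (ULift.{u} ℤ)) :
    gradedMap n A p = MvPolynomial.map (rho A) p := rfl

theorem gradedMap_X (k : Fin (n + 1)) :
    gradedMap n A (X k : MvPolynomial (Fin (n + 1)) (ULift.{u} ℤ)) = X k := by
  rw [gradedMap_apply, MvPolynomial.map_X]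

theorem irrelevant_le_map :
    HomogeneousIdeal.irrelevant (CohB1.polyGrading n A) ≤
      (HomogeneousIdeal.irrelevant (CohB1.polyGrading n (ULift.{u} ℤ))).map (gradedMap n A) := by
  intro a ha
  have h1 : a ∈ Ideal.span (Set.range
      (fun k : Fin (n + 1) => (X k : MvPolynomial (Fin (n + 1)) A))) :=
    irrelevant_le_span n A ha
  have h2 : Ideal.span (Set.range
      (fun k : Fin (n + 1) => (X k : MvPolynomial (Fin (n + 1)) A))) ≤
      Ideal.map (gradedMap n A)
        (HomogeneousIdeal.irrelevant (CohB1.polyGrading n (ULift.{u} ℤ))).toIdeal := by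
    rw [Ideal.span_le]
    rintro _ ⟨k, rfl⟩
    have h3 : (X k : MvPolynomial (Fin (n + 1)) (ULift.{u} ℤ)) ∈
        (HomogeneousIdeal.irrelevant (CohB1.polyGrading n (ULift.{u} ℤ))).toIdeal :=
      HomogeneousIdeal.mem_irrelevant_of_mem _ one_pos (X_mem n (ULift.{u} ℤ) k)
    have h4 := Ideal.mem_map_of_mem (gradedMap n A) h3
    rw [gradedMap_X] at h4
    exact h4
  exact h2 h1

/-- the morphism `P^n_A → P^n_ℤ` -/
noncomputable def gmap :
    Proj (CohB1.polyGrading n A) ⟶ Proj (CohB1.polyGrading n (ULift.{u} ℤ)) :=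
  Proj.map (gradedMap n A) (irrelevant_le_map n A)

theorem hh (i : Fin (n + 1)) :
    gradedMap n A (X i : MvPolynomial (Fin (n + 1)) (ULift.{u} ℤ)) ∈ CohB1.polyGrading n A 1 :=
  (gradedMap n A).map_mem (X_mem n (ULift.{u} ℤ) i)

theorem sq1 (i : Fin (n + 1)) :
    IsPullback (Spec.map (CommRingCat.ofHom (Away.map (gradedMap n A)
        (X i : MvPolynomial (Fin (n + 1)) (ULift.{u} ℤ)))))
      (Proj.awayι (CohB1.polyGrading n A) (gradedMap n A (X i)) (hh n A i) one_pos)
      (Proj.awayι (CohB1.polyGrading n (ULift.{u} ℤ)) (X i) (X_mem n (ULift.{u} ℤ) i) one_pos)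
      (gmap n A) := by
  apply IsOpenImmersion.isPullback
  · exact Proj.awayι_comp_map (gradedMap n A) (irrelevant_le_map n A) one_pos (X i)
      (X_mem n (ULift.{u} ℤ) i)
  · rw [Proj.opensRange_awayι, Proj.opensRange_awayι]
    exact Proj.map_preimage_basicOpen _ _ _

theorem theta_fr (i k : Fin (n + 1)) :
    Away.map (gradedMap n A) (X i : MvPolynomial (Fin (n + 1)) (ULift.{u} ℤ))
        (fr n (ULift.{u} ℤ) i k) =
      Away.mk (CohB1.polyGrading n A) (hh n A i) 1 (X k) (X_mem' n A k) := by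
  unfold fr
  rw [Away.map_mk]
  exact mk_congr (CohB1.polyGrading n A) _ 1 (gradedMap_X n A k) _ _

theorem awayι_πP_var (h : MvPolynomial (Fin (n + 1)) A) (hh' : h ∈ CohB1.polyGrading n A 1) :
    Proj.awayι (CohB1.polyGrading n A) h hh' one_pos ≫ πP n A =
      Spec.map (CommRingCat.ofHom
        ((fromZeroRingHom (CohB1.polyGrading n A) (Submonoid.powers h)).comp
          (algebraMap A (CohB1.polyGrading n A 0)))) := by
  unfold πP
  rw [Proj.awayι_toSpecZero_assoc, ← Spec.map_comp]
  rfl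

theorem projSpace_isPullback :
    IsPullback (gmap n A) (πP n A) (πP n (ULift.{u} ℤ))
      (Spec.map (CommRingCat.ofHom (rho A))) := by
  apply Scheme.isPullback_of_openCover (gmap n A) (πP n A) (πP n (ULift.{u} ℤ)) _
    (coverP n (ULift.{u} ℤ))
  intro (i : Fin (n + 1))
  have s1 := (sq1 n A i).flip
  have s2 := chart_isPullback_var n A i (gradedMap n A (X i)) (gradedMap_X n A i) (hh n A i)
    (rho A) (Away.map (gradedMap n A) (X i)) (theta_fr n A i)
  refine IsPullback.of_iso s2 s1.isoPullback (Iso.refl _) (Iso.refl _) (Iso.refl _) ?_ ?_ ?_ ?_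
  · rw [Iso.refl_hom]
    exact (Category.comp_id _).trans (s1.isoPullback_hom_snd).symm
  · rw [Iso.refl_hom]
    have h1 : s1.isoPullback.hom ≫ pullback.fst (gmap n A) ((coverP n (ULift.{u} ℤ)).f i) =
        Proj.awayι (CohB1.polyGrading n A) (gradedMap n A (X i)) (hh n A i) one_pos :=
      s1.isoPullback_hom_fst
    have h2 : s1.isoPullback.hom ≫
        (pullback.fst (gmap n A) ((coverP n (ULift.{u} ℤ)).f i) ≫ πP n A) =
        Spec.map (CommRingCat.ofHom
          ((fromZeroRingHom (CohB1.polyGrading n A)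
            (Submonoid.powers (gradedMap n A (X i)))).comp
            (algebraMap A (CohB1.polyGrading n A 0)))) := by
      rw [← Category.assoc, h1, awayι_πP_var]
    exact (Category.comp_id _).trans h2.symm
  · rw [Iso.refl_hom, Iso.refl_hom]
    exact (Category.comp_id _).trans
      ((Category.id_comp _).trans (awayι_πP n (ULift.{u} ℤ) i)).symm
  · rw [Iso.refl_hom, Iso.refl_hom]
    exact (Category.comp_id _).trans (Category.id_comp _).symm

end Global

theorem main11556 (A : Type u) [CommRing A] [IsNoetherianRing A] (n d : ℕ) {X : Scheme.{u}}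
    (j : X ⟶ CohB1.ProjSpaceOver n (Spec (CommRingCat.of A))) [IsImmersion j]
    (hX : topologicalKrullDim ↥X = d) :
    ∃ U : Fin (d + 1) → X.Opens, (∀ i, IsAffineOpen (U i)) ∧ ⨆ i, U i = ⊤ := by
  have hpb : IsPullback (gmap n A) (πP n A) (CohB1.ProjSpace.toSpec n (ULift.{u} ℤ))
      (specULiftZIsTerminal.from (Spec (CommRingCat.of A))) :=
    isPullback_congr (projSpace_isPullback n A) rfl (specULiftZIsTerminal.hom_ext _ _)
  obtain ⟨E, hE⟩ : ∃ E : Proj (CohB1.polyGrading n A) ≅
      CohB1.ProjSpaceOver n (Spec (CommRingCat.of A)), E = hpb.isoPullback := ⟨_, rfl⟩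
  haveI : IsImmersion (j ≫ E.inv) := inferInstance
  exact affine_cover_abstract (CohB1.polyGrading n A) (j ≫ E.inv) d (le_of_eq hX)

end Groth.Agent.Helper17.QP
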