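import Mathlib

/-!
# Pushforward of sheaves of modules along a continuous and cocontinuous functor is a left adjoint
(special adjoint functor theorem).
-/

open CategoryTheory Limits

namespace Groth.Agent.Helper17.MP

universe u

variable {C : Type u} [SmallCategory C] {D : Type u} [SmallCategory D]
  {J : GrothendieckTopology C} {K : GrothendieckTopology D}

section
variable (R : Sheaf K RingCat.{u})

/-- `toSheaf` preserves colimits. -/
theorem preservesColimit_toSheaf {I : Type u} [SmallCategory I] (F : I ⥤ SheafOfModules.{u} R) :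
    PreservesColimit F (SheafOfModules.toSheaf.{u} R) := by
  let L := PresheafOfModules.sheafification.{u} (𝟙 R.obj)
  let G := F ⋙ SheafOfModules.forget R
  let e : F ≅ G ⋙ L := Functor.isoWhiskerLeft F
    (asIso (PresheafOfModules.sheafificationAdjunction (𝟙 R.obj)).counit).symm
  have hL : L.IsLeftAdjoint := ⟨_, ⟨PresheafOfModules.sheafificationAdjunction (𝟙 R.obj)⟩⟩
  have : PreservesColimit (G ⋙ L) (SheafOfModules.toSheaf R) := by
    have hc := colimit.isColimit G
    have h1 : IsColimit (L.mapCocone (colimit.cocone G)) := isColimitOfPreserves L hc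
    have : PreservesColimitsOfSize.{u, u} (L ⋙ SheafOfModules.toSheaf R) :=
      preservesColimits_of_natIso (PresheafOfModules.sheafificationCompToSheaf (𝟙 R.obj)).symm
    have h2 : IsColimit ((L ⋙ SheafOfModules.toSheaf R).mapCocone (colimit.cocone G)) :=
      isColimitOfPreserves _ hc
    exact preservesColimit_of_preserves_colimit_cocone h1 h2
  exact preservesColimit_of_iso_diagram _ e.symm

instance preservesColimits_toSheaf :
    PreservesColimitsOfSize.{u, u} (SheafOfModules.toSheaf.{u} R) :=
  ⟨fun {_} _ => ⟨fun {F} => preservesColimit_toSheaf R F⟩⟩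

/-- The sheafified free modules on representables. -/
noncomputable def sepProp : ObjectProperty (SheafOfModules.{u} R) :=
  .ofObj (fun X : D => (PresheafOfModules.sheafification.{u} (𝟙 R.obj)).obj
    ((yoneda ⋙ PresheafOfModules.free R.obj).obj X))

instance : ObjectProperty.Small.{u} (sepProp R) := by
  dsimp [sepProp]
  infer_instance

theorem isSeparating_sepProp : (sepProp R).IsSeparating := by
  intro M N f g h
  apply (SheafOfModules.forget R).map_injective
  apply PresheafOfModules.freeYoneda.isSeparating R.obj
  rintro G ⟨X⟩ k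
  have adj := PresheafOfModules.sheafificationAdjunction.{u} (𝟙 R.obj)
  have h1 := h _ ⟨X⟩ ((adj.homEquiv _ _).symm k)
  have h2 := congrArg (adj.homEquiv _ _) h1
  rw [Adjunction.homEquiv_naturality_right, Adjunction.homEquiv_naturality_right] at h2
  have h3 : (adj.homEquiv ((yoneda ⋙ PresheafOfModules.free R.obj).obj X) M)
        ((adj.homEquiv ((yoneda ⋙ PresheafOfModules.free R.obj).obj X) M).symm k) = k :=
    (adj.homEquiv _ _).apply_symm_apply k
  rw [h3] at h2
  exact h2

instance wellPowered : WellPowered.{u} (SheafOfModules.{u} R) :=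
  wellPowered_of_isDetecting (isSeparating_sepProp R).isDetecting

end

theorem main11131
    (J : GrothendieckTopology C) (K : GrothendieckTopology D) (F : C ⥤ D)
    [F.IsContinuous J K] [F.IsCocontinuous J K]
    {S : Sheaf J RingCat.{u}} {R : Sheaf K RingCat.{u}}
    (φ : S ⟶ (F.sheafPushforwardContinuous RingCat.{u} J K).obj R) :
    (SheafOfModules.pushforward.{u} φ).IsLeftAdjoint := by
  have e : SheafOfModules.pushforward.{u} φ ⋙ SheafOfModules.toSheaf S ≅
      SheafOfModules.toSheaf R ⋙ F.sheafPushforwardContinuous AddCommGrpCat.{u} J K :=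
    Iso.refl _
  have : (F.sheafPushforwardContinuous AddCommGrpCat.{u} J K).IsLeftAdjoint :=
    ⟨_, ⟨F.sheafAdjunctionCocontinuous AddCommGrpCat.{u} J K⟩⟩
  have : PreservesColimitsOfSize.{u, u}
      (SheafOfModules.pushforward.{u} φ ⋙ SheafOfModules.toSheaf S) :=
    preservesColimits_of_natIso e.symm
  have : ReflectsColimitsOfSize.{u, u} (SheafOfModules.toSheaf.{u} S) :=
    reflectsColimits_of_reflectsIsomorphisms
  have : PreservesColimitsOfSize.{u, u} (SheafOfModules.pushforward.{u} φ) :=
    preservesColimits_of_reflects_of_preserves _ (SheafOfModules.toSheaf.{u} S)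
  exact isLeftAdjoint_of_preservesColimits_of_isSeparating (isSeparating_sepProp R) _

end Groth.Agent.Helper17.MP
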