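import Mathlib
import Groth.Agent.Lib.Helper17.MP1

/-!
# Restriction of scalars for sheaves of modules; exactness of filtered colimits
-/

open CategoryTheory Limits

namespace Groth.Agent.Helper17.MP

universe u

variable {C : Type u} [SmallCategory C] {J : GrothendieckTopology C}

section
variable (R : Sheaf J RingCat.{u})

instance preservesLimits_toSheaf :
    PreservesLimitsOfSize.{u, u} (SheafOfModules.toSheaf.{u} R) := by
  have : PreservesLimitsOfSize.{u, u}
      (SheafOfModules.toSheaf.{u} R ⋙ sheafToPresheaf J AddCommGrpCat.{u}) :=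
    inferInstanceAs (PreservesLimitsOfSize.{u, u}
      (SheafOfModules.forget.{u} R ⋙ PresheafOfModules.toPresheaf R.obj))
  exact preservesLimits_of_reflects_of_preserves _ (sheafToPresheaf J AddCommGrpCat.{u})

instance reflectsLimits_toSheaf :
    ReflectsLimitsOfSize.{u, u} (SheafOfModules.toSheaf.{u} R) :=
  reflectsLimits_of_reflectsIsomorphisms

instance reflectsColimits_toSheaf :
    ReflectsColimitsOfSize.{u, u} (SheafOfModules.toSheaf.{u} R) :=
  reflectsColimits_of_reflectsIsomorphisms

end

theorem main6160 {A B : Sheaf J RingCat.{u}} (φ : A ⟶ B) :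
    PreservesLimitsOfSize.{u, u} (SheafOfModules.restrictScalars.{u} φ) ∧
    PreservesColimitsOfSize.{u, u} (SheafOfModules.restrictScalars.{u} φ) ∧
    (SheafOfModules.restrictScalars.{u} φ).ReflectsIsomorphisms := by
  have e : SheafOfModules.restrictScalars.{u} φ ⋙ SheafOfModules.toSheaf A ≅
      SheafOfModules.toSheaf B := Iso.refl _
  have h1 : PreservesLimitsOfSize.{u, u}
      (SheafOfModules.restrictScalars.{u} φ ⋙ SheafOfModules.toSheaf A) :=
    preservesLimits_of_natIso e.symm
  have h2 : PreservesColimitsOfSize.{u, u}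
      (SheafOfModules.restrictScalars.{u} φ ⋙ SheafOfModules.toSheaf A) :=
    preservesColimits_of_natIso e.symm
  have h3 : (SheafOfModules.restrictScalars.{u} φ ⋙ SheafOfModules.toSheaf A).ReflectsIsomorphisms :=
    ⟨fun f hf => by
      have : IsIso ((SheafOfModules.toSheaf B).map f) := hf
      exact isIso_of_reflects_iso f (SheafOfModules.toSheaf B)⟩
  exact ⟨preservesLimits_of_reflects_of_preserves _ (SheafOfModules.toSheaf A),
    preservesColimits_of_reflects_of_preserves _ (SheafOfModules.toSheaf A),
    reflectsIsomorphisms_of_comp _ (SheafOfModules.toSheaf A)⟩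

theorem hasExactColimitsOfShape_filtered (R : Sheaf J RingCat.{u})
    (Λ : Type u) [SmallCategory Λ] [IsFiltered Λ] :
    HasExactColimitsOfShape Λ (SheafOfModules.{u} R) :=
  HasExactColimitsOfShape.domain_of_functor Λ (SheafOfModules.toSheaf.{u} R)

end Groth.Agent.Helper17.MP
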