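import Mathlib
import Groth.Prelude.Def_ModSite

/-!
# Sheafification of presheaves of modules is compatible with the tensor product

* `isLocallySurjective_whiskerRight`, `isLocallyInjective_whiskerRight_of_flat`
* `isIso_app_pt_of_isColimit` : a natural transformation between cokernel-preserving functors that
  is invertible on a presentation is invertible on the cokernel
* `isIso_sheafify_whiskerRight`, `isIso_sheafify_whiskerLeft`, `isIso_sheafify_tensorHom`
-/

open CategoryTheory Limits MonoidalCategory Opposite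

namespace Groth.Agent.Helper17.MT

universe u

variable {C : Type u} [SmallCategory C] (J : GrothendieckTopology C)
  {R₀ : Cᵒᵖ ⥤ CommRingCat.{u}}

variable {A B : PresheafOfModules.{u} (R₀ ⋙ forget₂ CommRingCat RingCat)} (f : A ⟶ B)
  (Q : PresheafOfModules.{u} (R₀ ⋙ forget₂ CommRingCat RingCat))

theorem isLocallySurjective_whiskerRight
    [Presheaf.IsLocallySurjective J ((PresheafOfModules.toPresheaf _).map f)] :
    Presheaf.IsLocallySurjective J ((PresheafOfModules.toPresheaf _).map (f ▷ Q)) := by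
  constructor
  intro U s
  change TensorProduct (R₀.obj (op U)) (B.obj (op U)) (Q.obj (op U)) at s
  induction s using TensorProduct.induction_on with
  | zero =>
    refine J.superset_covering ?_ (J.top_mem U)
    intro V g _
    refine ⟨0, ?_⟩
    exact (map_zero _).trans (map_zero _).symm
  | tmul b q =>
    have hb := Presheaf.imageSieve_mem J ((PresheafOfModules.toPresheaf _).map f) (U := op U) b
    refine J.superset_covering ?_ hb
    rintro V g ⟨a, ha⟩
    refine ⟨(a ⊗ₜ[R₀.obj (op V)] (Q.map g.op q) : TensorProduct (R₀.obj (op V)) (A.obj (op V)) (Q.obj (op V))), ?_⟩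
    have ha' : (f.app (op V)).hom a = (B.map g.op).hom b := ha
    change ((f ▷ Q).app (op V)).hom (a ⊗ₜ _) = ((B ⊗ Q).map g.op).hom (b ⊗ₜ q)
    rw [PresheafOfModules.whiskerRight_app]
    erw [ModuleCat.MonoidalCategory.whiskerRight_apply, PresheafOfModules.Monoidal.tensorObj_map_tmul]
    rw [ha']
    rfl
  | add x y hx hy =>
    refine J.superset_covering ?_ (J.intersection_covering hx hy)
    rintro V g ⟨⟨tx, htx⟩, ⟨ty, hty⟩⟩
    refine ⟨tx + ty, ?_⟩
    exact (map_add _ tx ty).trans ((congrArg₂ (· + ·) htx hty).trans (map_add _ _ _).symm)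

theorem isLocallyInjective_whiskerRight_of_flat
    [Presheaf.IsLocallyInjective J ((PresheafOfModules.toPresheaf _).map f)]
    (hQ : ∀ X : Cᵒᵖ, Module.Flat ((R₀ ⋙ forget₂ CommRingCat RingCat).obj X) (Q.obj X)) :
    Presheaf.IsLocallyInjective J ((PresheafOfModules.toPresheaf _).map (f ▷ Q)) := by
  constructor
  intro X x y h
  have key2 : ∀ t' : TensorProduct ((R₀ ⋙ forget₂ CommRingCat RingCat).obj X)
      (LinearMap.ker (f.app X).hom) (Q.obj X),
      Presheaf.equalizerSieve (F := (PresheafOfModules.toPresheaf _).obj (A ⊗ Q)) (X := X)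
        (LinearMap.rTensor (Q.obj X) (LinearMap.ker (f.app X).hom).subtype t') 0 ∈ J X.unop := by
    intro t'
    induction t' using TensorProduct.induction_on with
    | zero =>
      refine J.superset_covering ?_ (J.top_mem _)
      intro V g _
      exact congrArg _ (map_zero _)
    | tmul k q =>
      have hk := Presheaf.equalizerSieve_mem J ((PresheafOfModules.toPresheaf _).map f) (X := X)
        (k : A.obj X) 0 ((LinearMap.mem_ker.mp k.2).trans (map_zero _).symm)
      refine J.superset_covering ?_ hk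
      intro V g hg
      have hg' : (ConcreteCategory.hom (A.map g.op))
          ((LinearMap.ker (f.app X).hom).subtype k) = 0 := hg.trans (map_zero _)
      change ((A ⊗ Q).map g.op).hom (LinearMap.rTensor _ _ (k ⊗ₜ q)) = ((A ⊗ Q).map g.op).hom 0
      rw [LinearMap.rTensor_tmul]
      erw [PresheafOfModules.Monoidal.tensorObj_map_tmul]
      refine Eq.trans ?_ (map_zero _).symm
      rw [hg', TensorProduct.zero_tmul]
      rfl
    | add a b ha hb =>
      refine J.superset_covering ?_ (J.intersection_covering ha hb)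
      rintro V g ⟨h1, h2⟩
      have h1' := h1.trans (map_zero _)
      have h2' := h2.trans (map_zero _)
      exact ((congrArg _ (map_add _ a b)).trans ((map_add _ _ _).trans
        ((congrArg₂ (· + ·) h1' h2').trans (add_zero _)))).trans (map_zero _).symm
  have key : ∀ t : TensorProduct ((R₀ ⋙ forget₂ CommRingCat RingCat).obj X) (A.obj X) (Q.obj X),
      LinearMap.rTensor (Q.obj X) (f.app X).hom t = 0 →
      Presheaf.equalizerSieve (F := (PresheafOfModules.toPresheaf _).obj (A ⊗ Q)) (X := X) t 0
        ∈ J X.unop := by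
    intro t ht
    have := hQ X
    have hex := Module.Flat.rTensor_exact (Q.obj X)
      (LinearMap.exact_subtype_ker_map (f.app X).hom)
    obtain ⟨t', rfl⟩ := (hex t).mp ht
    exact key2 t'
  have h' : LinearMap.rTensor (Q.obj X) (f.app X).hom x =
      LinearMap.rTensor (Q.obj X) (f.app X).hom y := h
  have h0 := key (x - y) ((map_sub _ x y).trans (sub_eq_zero.mpr h'))
  refine J.superset_covering ?_ h0
  intro V g hg
  have h3 := hg.trans (map_zero _)
  exact sub_eq_zero.mp ((map_sub _ x y).symm.trans h3)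


section Abstract

theorem isIso_app_pt_of_isColimit {𝒜 ℬ : Type*} [Category 𝒜] [Category ℬ] [HasZeroMorphisms 𝒜]
    [HasZeroMorphisms ℬ] (T T' : 𝒜 ⥤ ℬ) [T.PreservesZeroMorphisms] [T'.PreservesZeroMorphisms]
    (τ : T ⟶ T') {F₁ F₀ : 𝒜} {d : F₁ ⟶ F₀} (c : CokernelCofork d) (hc : IsColimit c)
    [PreservesColimit (parallelPair d 0) T] [PreservesColimit (parallelPair d 0) T']
    [IsIso (τ.app F₁)] [IsIso (τ.app F₀)] : IsIso (τ.app c.pt) := by
  have h1 := CokernelCofork.mapIsColimit c hc T
  have h2 := CokernelCofork.mapIsColimit c hc T'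
  have hkill : T'.map d ≫ (inv (τ.app F₀) ≫ T.map c.π) = 0 := by
    have hn : T'.map d ≫ inv (τ.app F₀) = inv (τ.app F₁) ≫ T.map d := by
      rw [IsIso.comp_inv_eq, Category.assoc, τ.naturality, IsIso.inv_hom_id_assoc]
    rw [← Category.assoc, hn, Category.assoc, ← T.map_comp, c.condition, T.map_zero, comp_zero]
  obtain ⟨l₀, hl⟩ := CokernelCofork.IsColimit.desc' h2 _ hkill
  let l : T'.obj c.pt ⟶ T.obj c.pt := l₀
  have hl' : T'.map c.π ≫ l = inv (τ.app F₀) ≫ T.map c.π := hl
  refine ⟨l, ?_, ?_⟩
  · apply Cofork.IsColimit.hom_ext h1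
    change T.map c.π ≫ τ.app c.pt ≫ l = T.map c.π ≫ 𝟙 _
    rw [← Category.assoc, τ.naturality, Category.assoc, hl', IsIso.hom_inv_id_assoc,
      Category.comp_id]
  · apply Cofork.IsColimit.hom_ext h2
    change T'.map c.π ≫ l ≫ τ.app c.pt = T'.map c.π ≫ 𝟙 _
    rw [← Category.assoc, hl', Category.assoc, τ.naturality, IsIso.inv_hom_id_assoc,
      Category.comp_id]

end Abstract

section Sheaf

variable {C : Type u} [SmallCategory C] {J : GrothendieckTopology C} (O : Sheaf J CommRingCat.{u})

/-- presheaves of modules over the underlying presheaf of rings of `O` -/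
abbrev PSh := PresheafOfModules.{u} (O.obj ⋙ forget₂ CommRingCat.{u} RingCat.{u})

/-- sheafification, with source typed so that the monoidal structure is visible -/
noncomputable abbrev shf : PSh O ⥤ ModSite.Mod O := ModSite.sheafify O

theorem isIso_sheafify_map_iff {X Y : PSh O} (g : X ⟶ Y) :
    IsIso ((shf O).map g) ↔ J.W ((PresheafOfModules.toPresheaf _).map g) := by
  rw [J.W_iff, ← isIso_iff_of_reflects_iso _ (SheafOfModules.toSheaf (ModSite.ringSh O))]
  exact Iff.rfl

theorem W_whiskerRight_of_flat {A B : PSh O} (f : A ⟶ B)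
    (hf : J.W ((PresheafOfModules.toPresheaf _).map f)) (Q : PSh O)
    (hQ : ∀ X : Cᵒᵖ, Module.Flat ((O.obj ⋙ forget₂ CommRingCat RingCat).obj X) (Q.obj X)) :
    J.W ((PresheafOfModules.toPresheaf _).map (f ▷ Q)) := by
  rw [J.W_iff_isLocallyBijective] at hf ⊢
  obtain ⟨h1, h2⟩ := hf
  exact ⟨isLocallyInjective_whiskerRight_of_flat J f Q hQ, isLocallySurjective_whiskerRight J f Q⟩

/-- the free presheaf of modules on the underlying presheaf of sets of `Q` -/
noncomputable def freeCover (Q : PSh O) : PSh O :=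
  PresheafOfModules.freeObj (Q.presheaf ⋙ forget Ab)

noncomputable def freeCoverπ (Q : PSh O) : freeCover O Q ⟶ Q :=
  PresheafOfModules.freeObjDesc (𝟙 _)

instance (Q : PSh O) : Epi (freeCoverπ O Q) :=
  PresheafOfModules.epi_of_surjective (fun X m => ⟨ModuleCat.freeMk m, by
    dsimp [freeCoverπ]
    erw [ModuleCat.freeDesc_apply]
    rfl⟩)

theorem flat_freeCover (Q : PSh O) (X : Cᵒᵖ) :
    Module.Flat ((O.obj ⋙ forget₂ CommRingCat RingCat).obj X) ((freeCover O Q).obj X) := by
  change Module.Flat ((O.obj ⋙ forget₂ CommRingCat RingCat).obj X)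
    (((Q.presheaf ⋙ forget Ab).obj X) →₀ ((O.obj ⋙ forget₂ CommRingCat RingCat).obj X))
  infer_instance

instance : PreservesColimitsOfSize.{u, u} (shf O) :=
  (PresheafOfModules.sheafificationAdjunction _).leftAdjoint_preservesColimits

theorem isIso_app_of_flat {T T' : PSh O ⥤ ModSite.Mod O} (τ : T ⟶ T')
    [PreservesColimitsOfSize.{u, u} T] [PreservesColimitsOfSize.{u, u} T']
    (hτ : ∀ F : PSh O,
      (∀ X : Cᵒᵖ, Module.Flat ((O.obj ⋙ forget₂ CommRingCat RingCat).obj X) (F.obj X)) →
      IsIso (τ.app F)) (Q : PSh O) : IsIso (τ.app Q) := by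
  let p₀ := freeCoverπ O Q
  let p₁ := freeCoverπ O (kernel p₀)
  let d := p₁ ≫ kernel.ι p₀
  have hc0 : IsColimit (CokernelCofork.ofπ p₀ (kernel.condition p₀)) :=
    Abelian.epiIsCokernelOfKernel (KernelFork.ofι (kernel.ι p₀) (kernel.condition p₀))
      (kernelIsKernel p₀)
  have hc := isCokernelEpiComp hc0 p₁ (rfl : d = p₁ ≫ kernel.ι p₀)
  have : IsIso (τ.app (freeCover O (kernel p₀))) := hτ _ (flat_freeCover O _)
  have : IsIso (τ.app (freeCover O Q)) := hτ _ (flat_freeCover O _)
  have : PreservesColimitsOfSize.{0, 0} T := preservesColimitsOfSize_shrink.{0, u, 0, u} T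
  have : PreservesColimitsOfSize.{0, 0} T' := preservesColimitsOfSize_shrink.{0, u, 0, u} T'
  exact isIso_app_pt_of_isColimit T T' τ _ hc

theorem isIso_sheafify_whiskerRight {A B : PSh O} (f : A ⟶ B)
    [IsIso ((shf O).map f)] (Q : PSh O) :
    IsIso ((shf O).map (f ▷ Q)) := by
  have hfW : J.W ((PresheafOfModules.toPresheaf _).map f) :=
    (isIso_sheafify_map_iff O f).mp inferInstance
  have hfin := isIso_app_of_flat O
    (Functor.whiskerRight ((tensoringLeft (PSh O)).map f) (shf O)) (fun F hF =>
    (isIso_sheafify_map_iff O (f ▷ F)).mpr (W_whiskerRight_of_flat O f hfW F hF)) Q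
  exact hfin

theorem isIso_sheafify_whiskerLeft (Q : PSh O) {A B : PSh O} (f : A ⟶ B)
    [IsIso ((shf O).map f)] :
    IsIso ((shf O).map (Q ◁ f)) := by
  have h := BraidedCategory.braiding_naturality_right Q f
  have h2 : Q ◁ f = (β_ Q A).hom ≫ (f ▷ Q) ≫ (β_ Q B).inv := by
    rw [← Category.assoc, ← h, Category.assoc, Iso.hom_inv_id, Category.comp_id]
  have := isIso_sheafify_whiskerRight O f Q
  rw [h2, Functor.map_comp, Functor.map_comp]
  infer_instance

theorem isIso_sheafify_tensorHom {A B A' B' : PSh O} (f : A ⟶ B) (g : A' ⟶ B')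
    [IsIso ((shf O).map f)] [IsIso ((shf O).map g)] :
    IsIso ((shf O).map (f ⊗ₘ g)) := by
  have := isIso_sheafify_whiskerRight O f A'
  have := isIso_sheafify_whiskerLeft O B g
  rw [MonoidalCategory.tensorHom_def, Functor.map_comp]
  infer_instance

end Sheaf

end Groth.Agent.Helper17.MT
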