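import Mathlib
import Groth.Prelude.Def_ModSite
import Groth.Agent.Lib.Helper17.MT1
import Groth.Agent.Lib.Helper17.MP1

/-!
# Tensor products of sheaves of modules: compatibility with sheafification, internal hom exists
-/

open CategoryTheory Limits MonoidalCategory Opposite

namespace Groth.Agent.Helper17.MT

universe u

variable {C : Type u} [SmallCategory C] {J : GrothendieckTopology C} (O : Sheaf J CommRingCat.{u})

/-- the forgetful functor to presheaves of modules, typed so that the monoidal structure is
visible -/
noncomputable abbrev fgt : ModSite.Mod O ⥤ PSh O := SheafOfModules.forget (ModSite.ringSh O)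

/-- the unit of the sheafification adjunction -/
noncomputable def η (M : PSh O) : M ⟶ (fgt O).obj ((shf O).obj M) :=
  (PresheafOfModules.sheafificationAdjunction (𝟙 (ModSite.ringSh O).obj)).unit.app M

instance isIso_shf_map_η (M : PSh O) : IsIso ((shf O).map (η O M)) :=
  (isIso_sheafify_map_iff O (η O M)).mpr (J.W_toSheafify _)

theorem main12505
    (M N : PresheafOfModules.{u} (O.obj ⋙ forget₂ CommRingCat.{u} RingCat.{u})) :
    IsIso ((ModSite.sheafify O).map
      (MonoidalCategoryStruct.tensorHom (C := PresheafOfModules.{u} (O.obj ⋙ forget₂ CommRingCat.{u} RingCat.{u}))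
        ((PresheafOfModules.sheafificationAdjunction (𝟙 (ModSite.ringSh O).obj)).unit.app M)
        ((PresheafOfModules.sheafificationAdjunction (𝟙 (ModSite.ringSh O).obj)).unit.app N))) :=
  isIso_sheafify_tensorHom O (η O M) (η O N)

theorem main6168
    (M' N' : PresheafOfModules.{u} (O.obj ⋙ forget₂ CommRingCat.{u} RingCat.{u})) :
    Nonempty ((ModSite.sheafify O).obj (M' ⊗ N' : PresheafOfModules.{u} (O.obj ⋙ forget₂ CommRingCat.{u} RingCat.{u})) ≅
      ((ModSite.tensorBi O).obj ((ModSite.sheafify O).obj M')).obj ((ModSite.sheafify O).obj N')) := by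
  have := main12505 O M' N'
  exact ⟨@asIso _ _ _ _ _ this⟩

/-- a functor out of sheaves of modules whose precomposition with sheafification preserves
colimits preserves colimits -/
theorem preservesColimits_of_shf_comp {𝒟 : Type*} [Category 𝒟] (G : ModSite.Mod O ⥤ 𝒟)
    [PreservesColimitsOfSize.{u, u} (shf O ⋙ G)] : PreservesColimitsOfSize.{u, u} G := by
  refine ⟨fun {K} _ => ⟨fun {F} => ?_⟩⟩
  let L := shf O
  let G' : K ⥤ PSh O := F ⋙ fgt O
  let e : F ≅ G' ⋙ L := Functor.isoWhiskerLeft F
    (asIso (PresheafOfModules.sheafificationAdjunction (𝟙 (ModSite.ringSh O).obj)).counit).symm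
  have : PreservesColimit (G' ⋙ L) G := by
    have hc := colimit.isColimit G'
    have h1 : IsColimit (L.mapCocone (colimit.cocone G')) := isColimitOfPreserves L hc
    have h2 : IsColimit ((L ⋙ G).mapCocone (colimit.cocone G')) := isColimitOfPreserves _ hc
    exact preservesColimit_of_preserves_colimit_cocone h1 h2
  exact preservesColimit_of_iso_diagram _ e.symm

theorem tensorBi_flip_obj_map (N : ModSite.Mod O) {M M' : ModSite.Mod O} (h : M ⟶ M') :
    ((ModSite.tensorBi O).flip.obj N).map h =
      (shf O).map ((fgt O).map h ▷ (fgt O).obj N) := rfl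

theorem η_naturality {P P' : PSh O} (g : P ⟶ P') :
    g ≫ η O P' = η O P ≫ (fgt O).map ((shf O).map g) :=
  (PresheafOfModules.sheafificationAdjunction (𝟙 (ModSite.ringSh O).obj)).unit.naturality g

/-- `a(P ⊗ iN) ≅ a(iaP ⊗ iN)`, naturally in the presheaf `P` -/
noncomputable def tensorRightIso (N : ModSite.Mod O) :
    tensorRight ((fgt O).obj N) ⋙ shf O ≅
      shf O ⋙ (ModSite.tensorBi O).flip.obj N :=
  NatIso.ofComponents (fun P => @asIso _ _ _ _ _
      (isIso_sheafify_whiskerRight O (η O P) ((fgt O).obj N)))
    (fun {P P'} g => by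
      change (shf O).map (g ▷ (fgt O).obj N) ≫ (shf O).map (η O P' ▷ (fgt O).obj N) =
        (shf O).map (η O P ▷ (fgt O).obj N) ≫
          (shf O).map ((fgt O).map ((shf O).map g) ▷ (fgt O).obj N)
      rw [← Functor.map_comp, ← Functor.map_comp, ← comp_whiskerRight, ← comp_whiskerRight,
        η_naturality])

theorem main6165 (N : ModSite.Mod O) : ModSite.HasSheafHom N := by
  have : PreservesColimitsOfSize.{u, u} (shf O ⋙ (ModSite.tensorBi O).flip.obj N) :=
    preservesColimits_of_natIso (tensorRightIso O N)
  have : PreservesColimitsOfSize.{u, u} ((ModSite.tensorBi O).flip.obj N) :=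
    preservesColimits_of_shf_comp O _
  exact isLeftAdjoint_of_preservesColimits_of_isSeparating
    (MP.isSeparating_sepProp (ModSite.ringSh O)) _

end Groth.Agent.Helper17.MT
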