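import Mathlib
import Groth.Prelude.Def_ModSite
import Groth.Agent.Lib.Helper17.MT2
import Groth.Agent.Lib.Helper17.MP2

/-!
# Flatness for sheaves of modules on a small ringed site: formal properties
-/

open CategoryTheory Limits MonoidalCategory Opposite

namespace Groth.Agent.Helper17.MT

universe u

variable {C : Type u} [SmallCategory C] {J : GrothendieckTopology C} (O : Sheaf J CommRingCat.{u})

/-- `- ⊗ N` -/
noncomputable abbrev TR (N : ModSite.Mod O) : ModSite.Mod O ⥤ ModSite.Mod O :=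
  (ModSite.tensorBi O).flip.obj N

/-- `M ⊗ -` -/
noncomputable abbrev TL (M : ModSite.Mod O) : ModSite.Mod O ⥤ ModSite.Mod O :=
  (ModSite.tensorBi O).obj M

theorem TL_map (M : ModSite.Mod O) {X X' : ModSite.Mod O} (h : X ⟶ X') :
    (TL O M).map h = (shf O).map ((fgt O).obj M ◁ (fgt O).map h) := rfl

theorem TR_map (N : ModSite.Mod O) {X X' : ModSite.Mod O} (h : X ⟶ X') :
    (TR O N).map h = (shf O).map ((fgt O).map h ▷ (fgt O).obj N) := rfl

instance preservesColimits_TR (N : ModSite.Mod O) :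
    PreservesColimitsOfSize.{u, u} (TR O N) := by
  have : PreservesColimitsOfSize.{u, u} (shf O ⋙ (ModSite.tensorBi O).flip.obj N) :=
    preservesColimits_of_natIso (tensorRightIso O N)
  exact preservesColimits_of_shf_comp O _

/-- the symmetry `M ⊗ - ≅ - ⊗ M` -/
noncomputable def TLIsoTR (M : ModSite.Mod O) : TL O M ≅ TR O M :=
  NatIso.ofComponents (fun X => (shf O).mapIso (β_ ((fgt O).obj M) ((fgt O).obj X)))
    (fun {X X'} h => by
      change (shf O).map ((fgt O).obj M ◁ (fgt O).map h) ≫ (shf O).map (β_ _ _).hom =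
        (shf O).map (β_ _ _).hom ≫ (shf O).map ((fgt O).map h ▷ (fgt O).obj M)
      rw [← Functor.map_comp, ← Functor.map_comp, BraidedCategory.braiding_naturality_right])

instance preservesColimits_TL (M : ModSite.Mod O) :
    PreservesColimitsOfSize.{u, u} (TL O M) :=
  preservesColimits_of_natIso (TLIsoTR O M).symm

theorem isFlat_iff (N : ModSite.Mod O) :
    ModSite.IsFlat N ↔ PreservesFiniteLimits (TR O N) := by
  constructor
  · intro h; exact h.1
  · intro h
    refine ⟨h, ?_⟩
    have : PreservesColimitsOfSize.{0, 0} (TR O N) :=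
      preservesColimitsOfSize_shrink.{0, u, 0, u} (TR O N)
    exact PreservesColimitsOfSize.preservesFiniteColimits _

section AbstractColim

variable {𝒜 : Type*} [Category 𝒜] (B : 𝒜 ⥤ 𝒜 ⥤ 𝒜) {𝒦 : Type*} [Category 𝒦]
  [HasColimitsOfShape 𝒦 𝒜] [HasExactColimitsOfShape 𝒦 𝒜]
  {D : 𝒦 ⥤ 𝒜} (c : Cocone D) (hc : IsColimit c)

/-- `X ↦ (i ↦ B(X, D i))` -/
abbrev Efun (D : 𝒦 ⥤ 𝒜) : 𝒜 ⥤ 𝒦 ⥤ 𝒜 := (D ⋙ B.flip).flip

/-- `B(X, colim D) ≅ colim_i B(X, D i)`, naturally in `X` -/
noncomputable def flipObjPtIso [∀ X, PreservesColimitsOfShape 𝒦 (B.obj X)] :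
    B.flip.obj c.pt ≅ Efun B D ⋙ colim :=
  NatIso.ofComponents
    (fun X => (isColimitOfPreserves (B.obj X) hc).coconePointUniqueUpToIso
      (colimit.isColimit ((Efun B D).obj X)))
    (fun {X X'} f => by
      apply (isColimitOfPreserves (B.obj X) hc).hom_ext
      intro i
      have h1 := (isColimitOfPreserves (B.obj X) hc).comp_coconePointUniqueUpToIso_hom
        (colimit.isColimit ((Efun B D).obj X)) i
      have h2 := (isColimitOfPreserves (B.obj X') hc).comp_coconePointUniqueUpToIso_hom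
        (colimit.isColimit ((Efun B D).obj X')) i
      dsimp at h1 h2 ⊢
      rw [← Category.assoc, (B.map f).naturality, Category.assoc, h2, reassoc_of% h1,
        ι_colimMap]
      rfl)

include hc in
theorem preservesFiniteLimits_flip_obj_pt [∀ X, PreservesColimitsOfShape 𝒦 (B.obj X)]
    (h : ∀ i, PreservesFiniteLimits (B.flip.obj (D.obj i))) :
    PreservesFiniteLimits (B.flip.obj c.pt) := by
  have hE : PreservesFiniteLimits (Efun B D) := by
    refine ⟨fun 𝒥 _ _ => ⟨fun {K} => ?_⟩⟩
    apply preservesLimit_of_evaluation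
    intro i
    have := h i
    exact inferInstanceAs (PreservesLimit K (B.flip.obj (D.obj i)))
  have hcolim : PreservesFiniteLimits (colim : (𝒦 ⥤ 𝒜) ⥤ 𝒜) :=
    HasExactColimitsOfShape.preservesFiniteLimits
  have : PreservesFiniteLimits (Efun B D ⋙ colim) := comp_preservesFiniteLimits _ _
  exact preservesFiniteLimits_of_natIso (flipObjPtIso B c hc).symm

end AbstractColim

section Colim

theorem isFlat_of_isColimit {𝒦 : Type u} [SmallCategory 𝒦]
    [HasExactColimitsOfShape 𝒦 (ModSite.Mod O)]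
    (D : 𝒦 ⥤ ModSite.Mod O) (hD : ∀ i, ModSite.IsFlat (D.obj i)) (c : Cocone D)
    (hc : IsColimit c) : ModSite.IsFlat c.pt := by
  rw [isFlat_iff]
  have : ∀ X, PreservesColimitsOfShape 𝒦 ((ModSite.tensorBi O).obj X) := fun X =>
    inferInstanceAs (PreservesColimitsOfShape 𝒦 (TL O X))
  exact preservesFiniteLimits_flip_obj_pt (ModSite.tensorBi O) c hc (fun i => (hD i).1)

theorem hasExactColimitsOfShape_discrete (ι : Type u) :
    HasExactColimitsOfShape (Discrete ι) (ModSite.Mod O) :=
  haveI := MP.hasExactColimitsOfShape_filtered (ModSite.ringSh O) (Finset (Discrete ι))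
  haveI : HasFiniteBiproducts (ModSite.Mod O) := Abelian.hasFiniteBiproducts
  hasExactColimitsOfShape_discrete_of_hasExactColimitsOfShape_finset_discrete _ _

theorem main6148 {I : Type u} [SmallCategory I] [IsFiltered I] (D : I ⥤ ModSite.Mod O)
    (hD : ∀ i, ModSite.IsFlat (D.obj i)) (c : Cocone D) (hc : IsColimit c) :
    ModSite.IsFlat c.pt :=
  haveI := MP.hasExactColimitsOfShape_filtered (ModSite.ringSh O) I
  isFlat_of_isColimit O D hD c hc

theorem main9084 {ι : Type u} (F : ι → ModSite.Mod O)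
    (hF : ∀ i, ModSite.IsFlat (F i)) (c : Cofan F) (hc : IsColimit c) : ModSite.IsFlat c.pt :=
  haveI := hasExactColimitsOfShape_discrete O ι
  isFlat_of_isColimit O (Discrete.functor F) (fun i => hF i.as) c hc

theorem isFlat_sigmaObj {ι : Type u} (F : ι → ModSite.Mod O)
    (hF : ∀ i, ModSite.IsFlat (F i)) : ModSite.IsFlat (∐ F) :=
  main9084 O F hF _ (coproductIsCoproduct F)

end Colim

end Groth.Agent.Helper17.MT
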