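import Mathlib
import Groth.Prelude.Def_ModSite
import Groth.Agent.Lib.Helper17.MT3

/-!
# Flat covers of sheaves of modules
-/

open CategoryTheory Limits MonoidalCategory Opposite

namespace Groth.Agent.Helper17.MT

universe u

variable {C : Type u} [SmallCategory C] {J : GrothendieckTopology C} (O : Sheaf J CommRingCat.{u})

instance : PreservesFiniteLimits (shf O) :=
  inferInstanceAs (PreservesFiniteLimits (ModSite.sheafify O))

instance : PreservesFiniteLimits (fgt O) :=
  inferInstanceAs (PreservesFiniteLimits (SheafOfModules.forget (ModSite.ringSh O)))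

theorem preservesFiniteLimits_tensorRight_of_flat (P : PSh O)
    (hP : ∀ X : Cᵒᵖ, Module.Flat ((O.obj ⋙ forget₂ CommRingCat RingCat).obj X) (P.obj X)) :
    PreservesFiniteLimits (tensorRight P) := by
  refine ⟨fun 𝒥 _ _ => ⟨fun {K} => ⟨fun {c} hc => ⟨?_⟩⟩⟩⟩
  apply PresheafOfModules.evaluationJointlyReflectsLimits
  intro X
  have hfl := (Module.Flat.iff_preservesFiniteLimits_tensorRight
    (show ModuleCat (O.obj.obj X) from P.obj X)).mp (hP X)
  have h2 : PreservesLimit (K ⋙ PresheafOfModules.evaluation _ X)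
      (tensorRight (show ModuleCat (O.obj.obj X) from P.obj X)) :=
    (hfl.preservesFiniteLimits 𝒥).preservesLimit
  exact (h2.preserves (isLimitOfPreserves (PresheafOfModules.evaluation _ X) hc)).some

/-- `a(iX ⊗ P) ≅ a(iX ⊗ iaP)`, naturally in the sheaf `X` -/
noncomputable def TRshfIso (P : PSh O) :
    fgt O ⋙ tensorRight P ⋙ shf O ≅ TR O ((shf O).obj P) :=
  NatIso.ofComponents (fun X => @asIso _ _ _ _ _
      (isIso_sheafify_whiskerLeft O ((fgt O).obj X) (η O P)))
    (fun {X X'} h => by
      change (shf O).map ((fgt O).map h ▷ P) ≫ (shf O).map ((fgt O).obj X' ◁ η O P) =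
        (shf O).map ((fgt O).obj X ◁ η O P) ≫
          (shf O).map ((fgt O).map h ▷ (fgt O).obj ((shf O).obj P))
      rw [← Functor.map_comp, ← Functor.map_comp, whisker_exchange])

theorem isFlat_shf_of_flat (P : PSh O)
    (hP : ∀ X : Cᵒᵖ, Module.Flat ((O.obj ⋙ forget₂ CommRingCat RingCat).obj X) (P.obj X)) :
    ModSite.IsFlat ((shf O).obj P) := by
  rw [isFlat_iff]
  have := preservesFiniteLimits_tensorRight_of_flat O P hP
  have h1 : PreservesFiniteLimits (tensorRight P ⋙ shf O) := comp_preservesFiniteLimits _ _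
  have h2 : PreservesFiniteLimits (fgt O ⋙ tensorRight P ⋙ shf O) :=
    comp_preservesFiniteLimits _ _
  exact preservesFiniteLimits_of_natIso (TRshfIso O P)

theorem main9094 (F : ModSite.Mod O) :
    ∃ (G : ModSite.Mod O) (π : G ⟶ F), ModSite.IsFlat G ∧ Epi π := by
  refine ⟨(shf O).obj (freeCover O ((fgt O).obj F)),
    (shf O).map (freeCoverπ O ((fgt O).obj F)) ≫
      (PresheafOfModules.sheafificationAdjunction (𝟙 (ModSite.ringSh O).obj)).counit.app F,
    isFlat_shf_of_flat O _ (flat_freeCover O _), ?_⟩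
  have h5 : Epi ((shf O).map (freeCoverπ O ((fgt O).obj F))) := inferInstance
  have h3 : IsIso ((PresheafOfModules.sheafificationAdjunction
    (𝟙 (ModSite.ringSh O).obj)).counit.app F) := inferInstance
  have h4 : Epi ((PresheafOfModules.sheafificationAdjunction
    (𝟙 (ModSite.ringSh O).obj)).counit.app F) := IsIso.epi_of_iso _
  exact epi_comp' h5 h4

end Groth.Agent.Helper17.MT
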