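import Mathlib
import Groth.Prelude.Def_ModSite
import Groth.Agent.Lib.Helper17.MT4

/-!
# Associativity of the tensor product of sheaves of modules; tensor products of flat modules
-/

open CategoryTheory Limits MonoidalCategory Opposite

namespace Groth.Agent.Helper17.MT

universe u

variable {C : Type u} [SmallCategory C] {J : GrothendieckTopology C} (O : Sheaf J CommRingCat.{u})

noncomputable def TRdefIso (N : ModSite.Mod O) :
    TR O N ≅ fgt O ⋙ tensorRight ((fgt O).obj N) ⋙ shf O :=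
  NatIso.ofComponents (fun _ => Iso.refl _) (by
    intro X Y f
    simp only [Iso.refl_hom, Category.comp_id, Category.id_comp]
    rfl)

/-- `(X ⊗ G) ⊗ F ≅ X ⊗ (G ⊗ F)`, naturally in `X` -/
noncomputable def TRcompIso (G F : ModSite.Mod O) :
    TR O G ⋙ TR O F ≅ TR O ((TL O G).obj F) :=
  Functor.isoWhiskerRight (TRdefIso O G) (TR O F) ≪≫
    (Iso.refl _ : (fgt O ⋙ tensorRight ((fgt O).obj G) ⋙ shf O) ⋙ TR O F ≅
      fgt O ⋙ tensorRight ((fgt O).obj G) ⋙ (shf O ⋙ TR O F)) ≪≫
    Functor.isoWhiskerLeft (fgt O) (Functor.isoWhiskerLeft (tensorRight ((fgt O).obj G))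
      (tensorRightIso O F).symm) ≪≫
    (Iso.refl _ : fgt O ⋙ tensorRight ((fgt O).obj G) ⋙ (tensorRight ((fgt O).obj F) ⋙ shf O) ≅
      fgt O ⋙ (tensorRight ((fgt O).obj G) ⋙ tensorRight ((fgt O).obj F)) ⋙ shf O) ≪≫
    Functor.isoWhiskerLeft (fgt O) (Functor.isoWhiskerRight
      (tensorRightTensor ((fgt O).obj G) ((fgt O).obj F)).symm (shf O)) ≪≫
    TRshfIso O ((fgt O).obj G ⊗ (fgt O).obj F)

theorem main9085 (G F : ModSite.Mod O) (hG : ModSite.IsFlat G) (hF : ModSite.IsFlat F) :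
    ModSite.IsFlat (((ModSite.tensorBi O).obj G).obj F) := by
  rw [isFlat_iff] at hG hF ⊢
  have : PreservesFiniteLimits (TR O G ⋙ TR O F) := comp_preservesFiniteLimits _ _
  exact preservesFiniteLimits_of_natIso (TRcompIso O G F)

end Groth.Agent.Helper17.MT
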