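import Mathlib
import Groth.Prelude.Def_ModSite
import Groth.Agent.Lib.Helper17.MT5

/-!
# Short exact sequences of flat sheaves of modules
-/

open CategoryTheory Limits MonoidalCategory Opposite

namespace Groth.Agent.Helper17.MT

universe u

section Abstract

variable {A : Type*} [Category A] [Abelian A]

/-- snake-lemma consequence: if `φ : L₁ ⟶ L₂` with `L₁` right exact, `L₂` left exact and `φ.τ₃` mono,
then the cokernel complex has a mono first map -/
theorem mono_f_of_cokernel {L₁ L₂ L₃ : ShortComplex A} (φ : L₁ ⟶ L₂) (π : L₂ ⟶ L₃)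
    (w : φ ≫ π = 0) (h₃ : IsColimit (CokernelCofork.ofπ π w))
    (h1 : L₁.Exact) [Epi L₁.g] (h2 : L₂.Exact) [Mono L₂.f] [Mono φ.τ₃] : Mono L₃.f := by
  let SI : ShortComplex.SnakeInput A :=
    { L₀ := kernel φ
      L₁ := L₁
      L₂ := L₂
      L₃ := L₃
      v₀₁ := kernel.ι φ
      v₁₂ := φ
      v₂₃ := π
      w₀₂ := kernel.condition φ
      w₁₃ := w
      h₀ := kernelIsKernel φ
      h₃ := h₃
      L₁_exact := h1
      epi_L₁_g := inferInstance
      L₂_exact := h2
      mono_L₂_f := inferInstance }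
  have hz : SI.v₀₁.τ₃ = 0 := by
    have h := SI.w₀₂_τ₃
    have : Mono SI.v₁₂.τ₃ := inferInstanceAs (Mono φ.τ₃)
    rw [← cancel_mono SI.v₁₂.τ₃, h, zero_comp]
  have hδ : SI.δ = 0 := by
    have hm : Mono SI.v₀₁.τ₃ := SI.mono_v₀₁_τ₃
    have hZ : IsZero SI.L₀.X₃ := IsZero.of_mono_eq_zero SI.v₀₁.τ₃ hz
    exact hZ.eq_of_src _ _
  exact SI.L₂'_exact.mono_g hδ

variable (B : A ⥤ A ⥤ A)

theorem mono_flip_map_f_of_cover
    [∀ X, PreservesFiniteColimits (B.obj X)] [∀ N, PreservesFiniteColimits (B.flip.obj N)]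
    (S : ShortComplex A) (hS : S.ShortExact) {K P G : A} (j : K ⟶ P) (p : P ⟶ G) (w : j ≫ p = 0)
    (hp : IsColimit (CokernelCofork.ofπ p w))
    (hP : PreservesFiniteLimits (B.flip.obj P))
    (h3 : Mono ((B.obj S.X₃).map j)) : Mono ((B.flip.obj G).map S.f) := by
  have hmS := hS.mono_f
  have heS := hS.epi_g
  let φ : S.map (B.flip.obj K) ⟶ S.map (B.flip.obj P) := S.mapNatTrans (B.flip.map j)
  let π : S.map (B.flip.obj P) ⟶ S.map (B.flip.obj G) := S.mapNatTrans (B.flip.map p)
  have hw : ∀ X : A, (B.obj X).map j ≫ (B.obj X).map p = 0 := fun X => by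
    rw [← Functor.map_comp, w, Functor.map_zero]
  have w' : φ ≫ π = 0 := by
    ext
    · exact hw _
    · exact hw _
    · exact hw _
  have h₃ : IsColimit (CokernelCofork.ofπ π w') := by
    apply ShortComplex.isColimitOfIsColimitπ <;>
      apply (CokernelCofork.isColimitMapCoconeEquiv _ _).2
    · exact CokernelCofork.mapIsColimit _ hp (B.obj S.X₁)
    · exact CokernelCofork.mapIsColimit _ hp (B.obj S.X₂)
    · exact CokernelCofork.mapIsColimit _ hp (B.obj S.X₃)
  have h1 : (S.map (B.flip.obj K)).Exact :=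
    hS.exact.map_of_epi_of_preservesCokernel (B.flip.obj K) heS inferInstance
  have : Epi (S.map (B.flip.obj K)).g := inferInstanceAs (Epi ((B.flip.obj K).map S.g))
  have h2 : (S.map (B.flip.obj P)).Exact :=
    hS.exact.map_of_mono_of_preservesKernel (B.flip.obj P) hmS inferInstance
  have : Mono (S.map (B.flip.obj P)).f := inferInstanceAs (Mono ((B.flip.obj P).map S.f))
  have : Mono φ.τ₃ := h3
  exact mono_f_of_cokernel φ π w' h₃ h1 h2

end Abstract

variable {C : Type u} [SmallCategory C] {J : GrothendieckTopology C} (O : Sheaf J CommRingCat.{u})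

instance preservesFiniteColimits_TR (N : ModSite.Mod O) : PreservesFiniteColimits (TR O N) := by
  have : PreservesColimitsOfSize.{0, 0} (TR O N) :=
    preservesColimitsOfSize_shrink.{0, u, 0, u} (TR O N)
  exact PreservesColimitsOfSize.preservesFiniteColimits _

instance preservesFiniteColimits_TL (N : ModSite.Mod O) : PreservesFiniteColimits (TL O N) := by
  have : PreservesColimitsOfSize.{0, 0} (TL O N) :=
    preservesColimitsOfSize_shrink.{0, u, 0, u} (TL O N)
  exact PreservesColimitsOfSize.preservesFiniteColimits _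

instance preservesZeroMorphisms_TL (N : ModSite.Mod O) : (TL O N).PreservesZeroMorphisms := by
  have : PreservesColimit (Functor.empty.{0} (ModSite.Mod O)) (TL O N) :=
    (PreservesFiniteColimits.preservesFiniteColimits (F := TL O N)
      (Discrete PEmpty.{1})).preservesColimit
  exact Functor.preservesZeroMorphisms_of_preserves_initial_object

instance preservesZeroMorphisms_TR (N : ModSite.Mod O) : (TR O N).PreservesZeroMorphisms := by
  have : PreservesColimit (Functor.empty.{0} (ModSite.Mod O)) (TR O N) :=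
    (PreservesFiniteColimits.preservesFiniteColimits (F := TR O N)
      (Discrete PEmpty.{1})).preservesColimit
  exact Functor.preservesZeroMorphisms_of_preserves_initial_object

theorem preservesFiniteLimits_TL_of_isFlat (N : ModSite.Mod O) (hN : ModSite.IsFlat N) :
    PreservesFiniteLimits (TL O N) := by
  have := hN.1
  exact preservesFiniteLimits_of_natIso (TLIsoTR O N).symm

theorem mono_TR_map_of_isFlat {S : ShortComplex (ModSite.Mod O)} (hS : S.ShortExact)
    (hF : ModSite.IsFlat S.X₃) (G : ModSite.Mod O) : Mono ((TR O G).map S.f) := by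
  obtain ⟨P, p, hP, hp⟩ := main9094 O G
  have h1 : ∀ X, PreservesFiniteColimits ((ModSite.tensorBi O).obj X) := fun X =>
    preservesFiniteColimits_TL O X
  have h2 : ∀ N, PreservesFiniteColimits ((ModSite.tensorBi O).flip.obj N) := fun N =>
    preservesFiniteColimits_TR O N
  have h3 := preservesFiniteLimits_TL_of_isFlat O S.X₃ hF
  have h4 : Mono ((TL O S.X₃).map (kernel.ι p)) := inferInstance
  exact mono_flip_map_f_of_cover (ModSite.tensorBi O) S hS (kernel.ι p) p (kernel.condition p)
    (Abelian.epiIsCokernelOfKernel (KernelFork.ofι (kernel.ι p) (kernel.condition p))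
      (kernelIsKernel p)) hP.1 h4

theorem main9081 (S : ShortComplex (ModSite.Mod O)) (hS : S.ShortExact)
    (hF : ModSite.IsFlat S.X₃) (G : ModSite.Mod O)
    [((ModSite.tensorBi O).flip.obj G).PreservesZeroMorphisms] :
    (S.map ((ModSite.tensorBi O).flip.obj G)).ShortExact := by
  have heS := hS.epi_g
  have h1 : (S.map (TR O G)).Exact :=
    hS.exact.map_of_epi_of_preservesCokernel (TR O G) heS inferInstance
  have h2 : Mono ((TR O G).map S.f) := mono_TR_map_of_isFlat O hS hF G
  have h3 : Epi ((TR O G).map S.g) := inferInstance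
  exact ShortComplex.ShortExact.mk' h1 h2 h3

theorem mono_TL_map_of_isFlat {S : ShortComplex (ModSite.Mod O)} (hS : S.ShortExact)
    (hF : ModSite.IsFlat S.X₃) (G : ModSite.Mod O) : Mono ((TL O G).map S.f) := by
  have h1 := mono_TR_map_of_isFlat O hS hF G
  have h2 := (TLIsoTR O G).hom.naturality S.f
  have h3 : Mono ((TL O G).map S.f ≫ (TLIsoTR O G).hom.app S.X₂) := by
    rw [h2]
    exact mono_comp _ _
  exact mono_of_mono _ ((TLIsoTR O G).hom.app S.X₂)

theorem preservesFiniteLimits_of_preservesMono {A A' : Type*} [Category A] [Category A']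
    [Abelian A] [Abelian A'] (F : A ⥤ A') [PreservesFiniteColimits F]
    (h : ∀ {X Y : A} (m : X ⟶ Y), Mono m → Mono (F.map m)) : PreservesFiniteLimits F := by
  have := preservesBinaryBiproducts_of_preservesBinaryCoproducts F
  have : F.Additive := Functor.additive_of_preservesBinaryBiproducts F
  rw [Functor.preservesFiniteLimits_iff_forall_exact_map_and_mono]
  intro S hS
  exact ⟨hS.exact.map_of_epi_of_preservesCokernel F hS.epi_g inferInstance, h _ hS.mono_f⟩

theorem isFlat_of_preservesMono (N : ModSite.Mod O)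
    (h : ∀ {X Y : ModSite.Mod O} (m : X ⟶ Y), Mono m → Mono ((TR O N).map m)) :
    ModSite.IsFlat N := by
  rw [isFlat_iff]
  exact preservesFiniteLimits_of_preservesMono _ h

theorem mono_TR_map_of_mono {N : ModSite.Mod O} (hN : ModSite.IsFlat N)
    {X Y : ModSite.Mod O} (m : X ⟶ Y) [Mono m] : Mono ((TR O N).map m) := by
  have := hN.1
  infer_instance

theorem main9083 (S : ShortComplex (ModSite.Mod O)) (hS : S.ShortExact)
    (h₁ : ModSite.IsFlat S.X₂) (h₀ : ModSite.IsFlat S.X₃) : ModSite.IsFlat S.X₁ := by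
  apply isFlat_of_preservesMono
  intro X Y m hm
  have e : (TR O S.X₁).map m ≫ (TL O Y).map S.f = (TL O X).map S.f ≫ (TR O S.X₂).map m :=
    (((ModSite.tensorBi O).map m).naturality S.f).symm
  have h1 := mono_TL_map_of_isFlat O hS h₀ X
  have h2 := mono_TR_map_of_mono O h₁ m
  have h3 : Mono ((TR O S.X₁).map m ≫ (TL O Y).map S.f) := by
    rw [e]
    exact mono_comp _ _
  exact mono_of_mono _ ((TL O Y).map S.f)

theorem main9082 (S : ShortComplex (ModSite.Mod O)) (hS : S.ShortExact)
    (h₂ : ModSite.IsFlat S.X₁) (h₀ : ModSite.IsFlat S.X₃) : ModSite.IsFlat S.X₂ := by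
  apply isFlat_of_preservesMono
  intro X Y m hm
  let φ : S.map (TL O X) ⟶ S.map (TL O Y) := S.mapNatTrans ((ModSite.tensorBi O).map m)
  have h1 : (S.map (TL O X)).Exact :=
    hS.exact.map_of_epi_of_preservesCokernel (TL O X) hS.epi_g inferInstance
  have : Mono (S.map (TL O X)).f := mono_TL_map_of_isFlat O hS h₀ X
  have : Mono (S.map (TL O Y)).f := mono_TL_map_of_isFlat O hS h₀ Y
  have : Mono φ.τ₁ := mono_TR_map_of_mono O h₂ m
  have : Mono φ.τ₃ := mono_TR_map_of_mono O h₀ m
  exact ShortComplex.mono_τ₂_of_exact_of_mono φ h1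

end Groth.Agent.Helper17.MT
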