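import Mathlib
import Groth.Prelude.Def_ModSite
import Groth.Agent.Lib.Helper17.MT6

/-!
# Unit of the tensor product of sheaves of modules, invertible modules
-/

open CategoryTheory Limits MonoidalCategory Opposite

namespace Groth.Agent.Helper17.MT

universe u

variable {C : Type u} [SmallCategory C] {J : GrothendieckTopology C} (O : Sheaf J CommRingCat.{u})

noncomputable def TLdefIso (M : ModSite.Mod O) :
    TL O M ≅ fgt O ⋙ tensorLeft ((fgt O).obj M) ⋙ shf O :=
  NatIso.ofComponents (fun _ => Iso.refl _) (by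
    intro X Y f
    exact (Category.comp_id _).trans (Category.id_comp _).symm)

/-- `a i ≅ 𝟭` -/
noncomputable def fgtShfIso : fgt O ⋙ shf O ≅ 𝟭 (ModSite.Mod O) :=
  (asIso (PresheafOfModules.sheafificationAdjunction (𝟙 (ModSite.ringSh O).obj)).counit :)

/-- the left unitor `O ⊗ X ≅ X`, naturally in `X` -/
noncomputable def TLunitIso : TL O (ModSite.unit O) ≅ 𝟭 (ModSite.Mod O) :=
  TLdefIso O (ModSite.unit O) ≪≫
    Functor.isoWhiskerLeft (fgt O) (Functor.isoWhiskerRight (leftUnitorNatIso (PSh O)) (shf O)) ≪≫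
    (Iso.refl _ : fgt O ⋙ 𝟭 (PSh O) ⋙ shf O ≅ fgt O ⋙ shf O) ≪≫ fgtShfIso O

/-- `(A ⊗ X) ⊗ L ≅ (A ⊗ L) ⊗ X`, naturally in `X` -/
noncomputable def TLcompIso (A L : ModSite.Mod O) :
    TL O A ⋙ TR O L ≅ TL O ((TL O A).obj L) :=
  Functor.isoWhiskerRight (TLIsoTR O A) (TR O L) ≪≫ TRcompIso O A L ≪≫
    (TLIsoTR O ((TL O A).obj L)).symm

theorem isEquivalence_TR_of_TL (L : ModSite.Mod O) (hL : (TL O L).IsEquivalence) :
    (TR O L).IsEquivalence :=
  Functor.isEquivalence_of_iso (TLIsoTR O L)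

theorem isEquivalence_TL_tensor (L N : ModSite.Mod O) (hL : (TL O L).IsEquivalence)
    (hN : (TL O N).IsEquivalence) : (TL O ((TL O L).obj N)).IsEquivalence := by
  have := isEquivalence_TR_of_TL O N hN
  have : (TL O L ⋙ TR O N).IsEquivalence := inferInstance
  exact Functor.isEquivalence_of_iso (TLcompIso O L N)

theorem main6856 (L N : ModSite.Mod O) (hL : ((ModSite.tensorBi O).obj L).IsEquivalence)
    [ModSite.HasSheafHom L] :
    (((ModSite.tensorBi O).obj N).IsEquivalence →
        ((ModSite.tensorBi O).obj (((ModSite.tensorBi O).obj L).obj N)).IsEquivalence) ∧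
      ((ModSite.tensorBi O).obj ((ModSite.sheafHom L).obj (ModSite.unit O))).IsEquivalence ∧
      IsIso ((ModSite.sheafHomAdj L).counit.app (ModSite.unit O)) := by
  have hE : (TR O L).IsEquivalence := isEquivalence_TR_of_TL O L hL
  have hH : (ModSite.sheafHom L).IsEquivalence :=
    (ModSite.sheafHomAdj L).isEquivalence_right_of_isEquivalence_left
  have hc : IsIso ((ModSite.sheafHomAdj L).counit.app (ModSite.unit O)) := inferInstance
  refine ⟨fun hN => isEquivalence_TL_tensor O L N hL hN, ?_, hc⟩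
  let L' := (ModSite.sheafHom L).obj (ModSite.unit O)
  have e : TL O L' ⋙ TR O L ≅ 𝟭 (ModSite.Mod O) :=
    TLcompIso O L' L ≪≫
      (ModSite.tensorBi O).mapIso (asIso ((ModSite.sheafHomAdj L).counit.app (ModSite.unit O))) ≪≫
      TLunitIso O
  have : (TL O L' ⋙ TR O L).IsEquivalence := Functor.isEquivalence_of_iso e.symm
  exact Functor.isEquivalence_of_comp_right (TL O L') (TR O L)

end Groth.Agent.Helper17.MT
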