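import Mathlib
import Groth.Prelude.Def_ModSite
import Groth.Agent.Lib.Helper17.MT8

/-!
# Restriction to `C/X` commutes with the tensor product of sheaves of modules
-/

open CategoryTheory Limits MonoidalCategory Opposite

namespace Groth.Agent.Helper17.MT

universe u

section Over

variable {C : Type u} [SmallCategory C] (J : GrothendieckTopology C) (X : C)
  {F₁ F₂ : Cᵒᵖ ⥤ Ab.{u}} (φ : F₁ ⟶ F₂)

theorem isLocallyInjective_over [Presheaf.IsLocallyInjective J φ] :
    Presheaf.IsLocallyInjective (J.over X) (Functor.whiskerLeft (Over.forget X).op φ) where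
  equalizerSieve_mem {Y} x y h := by
    rw [GrothendieckTopology.mem_over_iff]
    have h0 := Presheaf.equalizerSieve_mem J φ (X := op Y.unop.left) x y h
    refine J.superset_covering ?_ h0
    intro Z g hg
    rw [Sieve.overEquiv_iff]
    exact hg

theorem isLocallySurjective_over [Presheaf.IsLocallySurjective J φ] :
    Presheaf.IsLocallySurjective (J.over X) (Functor.whiskerLeft (Over.forget X).op φ) where
  imageSieve_mem {Y} s := by
    rw [GrothendieckTopology.mem_over_iff]
    have h0 := Presheaf.imageSieve_mem J φ (U := op Y.left) s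
    refine J.superset_covering ?_ h0
    intro Z g hg
    rw [Sieve.overEquiv_iff]
    exact hg

theorem W_over (h : J.W φ) : (J.over X).W (Functor.whiskerLeft (Over.forget X).op φ) := by
  rw [GrothendieckTopology.W_iff_isLocallyBijective] at h ⊢
  obtain ⟨h1, h2⟩ := h
  exact ⟨isLocallyInjective_over J X φ, isLocallySurjective_over J X φ⟩

end Over

variable {C : Type u} [SmallCategory C] {J : GrothendieckTopology C} (O : Sheaf J CommRingCat.{u})

/-- restriction of presheaves of modules to `Over X` -/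
noncomputable def rP (X : C) : PSh O ⥤ PSh (O.over X) :=
  PresheafOfModules.pushforward (F := Over.forget X) (𝟙 _)

theorem fgt_restr (X : C) (M : ModSite.Mod O) :
    (fgt (O.over X)).obj ((ModSite.restr O X).obj M) = (rP O X).obj ((fgt O).obj M) := rfl

noncomputable def rPTensorIso (X : C) (P Q : PSh O) :
    (rP O X).obj (P ⊗ Q) ≅ (rP O X).obj P ⊗ (rP O X).obj Q :=
  PresheafOfModules.isoMk (fun U => Iso.refl _) (by
    intro U V f
    refine ModuleCat.MonoidalCategory.tensor_ext (M₁ := ((rP O X).obj P).obj U)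
      (M₂ := ((rP O X).obj Q).obj U) (fun m n => ?_)
    rfl)

theorem isIso_shf_rP_map (X : C) {P P' : PSh O} (g : P ⟶ P') [IsIso ((shf O).map g)] :
    IsIso ((shf (O.over X)).map ((rP O X).map g)) := by
  have h1 : J.W ((PresheafOfModules.toPresheaf _).map g) :=
    (isIso_sheafify_map_iff O g).mp inferInstance
  rw [isIso_sheafify_map_iff]
  exact W_over J X _ h1

theorem main6154 (X : C) (M N : ModSite.Mod O) :
    Nonempty ((ModSite.restr O X).obj (((ModSite.tensorBi O).obj M).obj N) ≅
      ((ModSite.tensorBi (O.over X)).obj ((ModSite.restr O X).obj M)).obj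
        ((ModSite.restr O X).obj N)) := by
  let P := (fgt O).obj M
  let Q := (fgt O).obj N
  -- `a_X ((P ⊗ Q)|X) ≅ a_X (i a (P ⊗ Q) |X)`
  have h1 : IsIso ((shf (O.over X)).map ((rP O X).map (η O (P ⊗ Q)))) :=
    isIso_shf_rP_map O X (η O (P ⊗ Q))
  let e1 : (shf (O.over X)).obj ((rP O X).obj (P ⊗ Q)) ≅
      (shf (O.over X)).obj ((rP O X).obj ((fgt O).obj ((shf O).obj (P ⊗ Q)))) :=
    @asIso _ _ _ _ _ h1
  let e2 : (shf (O.over X)).obj ((fgt (O.over X)).obj
      ((ModSite.restr O X).obj ((shf O).obj (P ⊗ Q)))) ≅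
      (ModSite.restr O X).obj ((shf O).obj (P ⊗ Q)) :=
    (fgtShfIso (O.over X)).app _
  let e3 : (shf (O.over X)).obj ((rP O X).obj (P ⊗ Q)) ≅
      (shf (O.over X)).obj ((rP O X).obj P ⊗ (rP O X).obj Q) :=
    (shf (O.over X)).mapIso (rPTensorIso O X P Q)
  exact ⟨e2.symm ≪≫ e1.symm ≪≫ e3⟩

end Groth.Agent.Helper17.MT
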