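import Mathlib
import Groth.Prelude.Def_ModSite
import Groth.Agent.Lib.Helper17.MT10

/-!
# Extension by zero for presheaves of modules: `(j_! G)(W) = ⨁_{φ : W ⟶ U} G(φ)`
-/

open CategoryTheory Limits MonoidalCategory Opposite DirectSum

namespace Groth.Agent.Helper17.MT

universe u

open scoped Classical

variable {C : Type u} [SmallCategory C] {J : GrothendieckTopology C} (O : Sheaf J CommRingCat.{u})
  (U : C)

/-- the summand indexed by `φ : W ⟶ U` -/
noncomputable abbrev ePc (G : PSh (O.over U)) (W : Cᵒᵖ) (φ : W.unop ⟶ U) : Ab.{u} :=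
  G.presheaf.obj (op (Over.mk φ))

noncomputable instance ePcModule (G : PSh (O.over U)) (W : Cᵒᵖ) (φ : W.unop ⟶ U) :
    Module (O.obj.obj W) (ePc O U G W φ) :=
  (G.obj (op (Over.mk φ))).isModule

/-- the underlying abelian group of `(j_! G)(W)` -/
abbrev ePS (G : PSh (O.over U)) (W : Cᵒᵖ) : Type u :=
  ⨁ φ : (W.unop ⟶ U), ePc O U G W φ

/-- casting lemma: the summand inclusions only depend on the underlying map to `U` -/
theorem of_map_eq (G : PSh (O.over U)) {W : Cᵒᵖ} {Y : Over U} {ψ ψ' : W.unop ⟶ U}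
    (k : Over.mk ψ ⟶ Y) (k' : Over.mk ψ' ⟶ Y) (h : k.left = k'.left)
    (x : G.presheaf.obj (op Y)) :
    DirectSum.of (fun φ : (W.unop ⟶ U) => ePc O U G W φ) ψ (G.presheaf.map k.op x) =
      DirectSum.of (fun φ : (W.unop ⟶ U) => ePc O U G W φ) ψ' (G.presheaf.map k'.op x) := by
  have h1 : ψ = ψ' := by
    have e1 := Over.w k
    have e2 := Over.w k'
    simp only [Over.mk_hom] at e1 e2
    rw [← e1, ← e2, h]
  subst h1
  have h2 : k = k' := Over.OverMorphism.ext h
  rw [h2]

/-- restriction maps of `j_! G` -/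
noncomputable def ePAbMap (G : PSh (O.over U)) {W W' : Cᵒᵖ} (g : W ⟶ W') :
    ePS O U G W →+ ePS O U G W' :=
  DirectSum.toAddMonoid (fun φ =>
    (DirectSum.of (fun ψ : (W'.unop ⟶ U) => ePc O U G W' ψ) (g.unop ≫ φ)).comp
      (G.presheaf.map (Over.homMk g.unop : Over.mk (g.unop ≫ φ) ⟶ Over.mk φ).op).hom)

theorem ePAbMap_of (G : PSh (O.over U)) {W W' : Cᵒᵖ} (g : W ⟶ W') (φ : W.unop ⟶ U)
    (x : ePc O U G W φ) :
    ePAbMap O U G g (DirectSum.of (fun φ : (W.unop ⟶ U) => ePc O U G W φ) φ x) =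
      DirectSum.of (fun ψ : (W'.unop ⟶ U) => ePc O U G W' ψ) (g.unop ≫ φ)
        (G.presheaf.map (Over.homMk g.unop : Over.mk (g.unop ≫ φ) ⟶ Over.mk φ).op x) := by
  unfold ePAbMap
  rw [DirectSum.toAddMonoid_of]
  rfl

/-- the abelian presheaf underlying `j_! G` -/
noncomputable def ePAb (G : PSh (O.over U)) : Cᵒᵖ ⥤ Ab.{u} where
  obj W := AddCommGrpCat.of (ePS O U G W)
  map g := AddCommGrpCat.ofHom (ePAbMap O U G g)
  map_id W := by
    ext : 1
    refine DirectSum.addHom_ext (fun φ x => ?_)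
    change ePAbMap O U G (𝟙 W) (DirectSum.of _ φ x) = DirectSum.of _ φ x
    rw [ePAbMap_of]
    have := of_map_eq O U G (W := W) (Y := Over.mk φ)
      (Over.homMk (𝟙 W).unop : Over.mk ((𝟙 W).unop ≫ φ) ⟶ Over.mk φ) (𝟙 (Over.mk φ)) rfl x
    rw [this, op_id, G.presheaf.map_id]
    rfl
  map_comp {W W' W''} g g' := by
    ext : 1
    refine DirectSum.addHom_ext (fun φ x => ?_)
    change ePAbMap O U G (g ≫ g') (DirectSum.of _ φ x) =
      ePAbMap O U G g' (ePAbMap O U G g (DirectSum.of _ φ x))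
    rw [ePAbMap_of, ePAbMap_of, ePAbMap_of]
    rw [← ConcreteCategory.comp_apply, ← G.presheaf.map_comp, ← op_comp]
    exact of_map_eq O U G _ _ (by simp) x

noncomputable instance ePAbModule (G : PSh (O.over U)) (W : Cᵒᵖ) :
    Module ((O.obj ⋙ forget₂ CommRingCat.{u} RingCat.{u}).obj W) ((ePAb O U G).obj W) :=
  inferInstanceAs (Module (O.obj.obj W) (⨁ φ : (W.unop ⟶ U), ePc O U G W φ))

theorem ePAbMap_smul (G : PSh (O.over U)) {W W' : Cᵒᵖ} (g : W ⟶ W')
    (r : O.obj.obj W) (m : ePS O U G W) :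
    ePAbMap O U G g (r • m) = (O.obj.map g r : O.obj.obj W') • ePAbMap O U G g m := by
  induction m using DirectSum.induction_on with
  | zero => rw [smul_zero, map_zero, smul_zero]
  | of φ x =>
    rw [← DirectSum.of_smul, ePAbMap_of, ePAbMap_of, ← DirectSum.of_smul]
    congr 1
    exact PresheafOfModules.map_smul G
      (Over.homMk g.unop : Over.mk (g.unop ≫ φ) ⟶ Over.mk φ).op r x
  | add a b ha hb =>
    rw [smul_add, map_add, map_add, smul_add, ha, hb]

theorem ePAb_map_smul (G : PSh (O.over U)) ⦃W W' : Cᵒᵖ⦄ (g : W ⟶ W')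
    (r : (O.obj ⋙ forget₂ CommRingCat.{u} RingCat.{u}).obj W) (m : (ePAb O U G).obj W) :
    (ePAb O U G).map g (r • m) =
      (O.obj ⋙ forget₂ CommRingCat.{u} RingCat.{u}).map g r • (ePAb O U G).map g m :=
  ePAbMap_smul O U G g r m

/-- extension by zero of a presheaf of modules on `C/U` -/
noncomputable def ePObj (G : PSh (O.over U)) : PSh O :=
  PresheafOfModules.ofPresheaf (ePAb O U G) (ePAb_map_smul O U G)

variable {O U}

/-- `α` on the summand `φ` -/
noncomputable abbrev cmpHom {G G' : PSh (O.over U)} (α : G ⟶ G') (W : Cᵒᵖ) (φ : W.unop ⟶ U) :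
    ePc O U G W φ →+ ePc O U G' W φ :=
  (((PresheafOfModules.toPresheaf _).map α).app (op (Over.mk φ))).hom

noncomputable def ePMapAb {G G' : PSh (O.over U)} (α : G ⟶ G') (W : Cᵒᵖ) :
    ePS O U G W →+ ePS O U G' W :=
  DirectSum.map (fun φ => cmpHom α W φ)

theorem ePMapAb_of {G G' : PSh (O.over U)} (α : G ⟶ G') (W : Cᵒᵖ) (φ : W.unop ⟶ U)
    (x : ePc O U G W φ) :
    ePMapAb α W (DirectSum.of (fun φ : (W.unop ⟶ U) => ePc O U G W φ) φ x) =
      DirectSum.of (fun φ : (W.unop ⟶ U) => ePc O U G' W φ) φ (cmpHom α W φ x) := by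
  unfold ePMapAb
  rw [DirectSum.map_of]

theorem ePMapAb_naturality {G G' : PSh (O.over U)} (α : G ⟶ G') {W W' : Cᵒᵖ} (g : W ⟶ W')
    (m : ePS O U G W) :
    ePMapAb α W' (ePAbMap O U G g m) = ePAbMap O U G' g (ePMapAb α W m) := by
  induction m using DirectSum.induction_on with
  | zero => simp
  | of φ x =>
    rw [ePAbMap_of, ePMapAb_of, ePMapAb_of, ePAbMap_of]
    congr 1
    exact CategoryTheory.congr_fun (((PresheafOfModules.toPresheaf _).map α).naturality
      (Over.homMk g.unop : Over.mk (g.unop ≫ φ) ⟶ Over.mk φ).op) x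
  | add a b ha hb => rw [map_add, map_add, map_add, map_add, ha, hb]

theorem ePMapAb_smul {G G' : PSh (O.over U)} (α : G ⟶ G') (W : Cᵒᵖ) (r : O.obj.obj W)
    (m : ePS O U G W) : ePMapAb α W (r • m) = r • ePMapAb α W m := by
  induction m using DirectSum.induction_on with
  | zero => rw [smul_zero, map_zero, smul_zero]
  | of φ x =>
    rw [← DirectSum.of_smul, ePMapAb_of, ePMapAb_of, ← DirectSum.of_smul]
    congr 1
    exact (α.app (op (Over.mk φ))).hom.map_smul r x
  | add a b ha hb => rw [smul_add, map_add, map_add, smul_add, ha, hb]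

variable (O U)

/-- extension by zero on presheaves of modules -/
noncomputable def eP : PSh (O.over U) ⥤ PSh O where
  obj G := ePObj O U G
  map {G G'} α := PresheafOfModules.homMk
    (M₁ := ePObj O U G) (M₂ := ePObj O U G')
    { app := fun W => AddCommGrpCat.ofHom (ePMapAb α W)
      naturality := fun W W' g => by
        ext m
        exact ePMapAb_naturality α g m }
    (fun W r m => ePMapAb_smul α W r m)
  map_id G := by
    apply (PresheafOfModules.toPresheaf _).map_injective
    ext W m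
    change ePMapAb (𝟙 G) W m = m
    induction m using DirectSum.induction_on with
    | zero => simp
    | of φ x => rw [ePMapAb_of]; rfl
    | add a b ha hb => rw [map_add, ha, hb]
  map_comp {G G' G''} α β := by
    apply (PresheafOfModules.toPresheaf _).map_injective
    ext W m
    change ePMapAb (α ≫ β) W m = ePMapAb β W (ePMapAb α W m)
    induction m using DirectSum.induction_on with
    | zero => simp
    | of φ x => rw [ePMapAb_of, ePMapAb_of, ePMapAb_of]; rfl
    | add a b ha hb => rw [map_add, map_add, map_add, ha, hb]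

end Groth.Agent.Helper17.MT
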