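import Mathlib
import Groth.Prelude.Def_ModSite
import Groth.Agent.Lib.Helper17.MT11

/-!
# The adjunction `j_! ⊣ j^*` on presheaves of modules
-/

open CategoryTheory Limits MonoidalCategory Opposite DirectSum

namespace Groth.Agent.Helper17.MT

universe u

open scoped Classical

variable {C : Type u} [SmallCategory C] {J : GrothendieckTopology C} {O : Sheaf J CommRingCat.{u}}
  {U : C}

/-- underlying map of abelian groups of a morphism of presheaves of modules -/
noncomputable abbrev appAb {D : Type u} [SmallCategory D] {R : Dᵒᵖ ⥤ RingCat.{u}}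
    {M N : PresheafOfModules.{u} R} (f : M ⟶ N) (X : Dᵒᵖ) :
    M.presheaf.obj X →+ N.presheaf.obj X :=
  (((PresheafOfModules.toPresheaf _).map f).app X).hom

/-- `Hom(j_! G, P) → Hom(G, P|U)` on sections -/
noncomputable def adjToAb {G : PSh (O.over U)} {P : PSh O} (f : (eP O U).obj G ⟶ P)
    (Y : (Over U)ᵒᵖ) : G.presheaf.obj Y →+ P.presheaf.obj (op Y.unop.left) :=
  (appAb f (op Y.unop.left)).comp
    (DirectSum.of (fun φ : (Y.unop.left ⟶ U) => ePc O U G (op Y.unop.left) φ) Y.unop.hom)

theorem adjToAb_naturality {G : PSh (O.over U)} {P : PSh O} (f : (eP O U).obj G ⟶ P)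
    {Y Y' : (Over U)ᵒᵖ} (k : Y ⟶ Y') (x : G.presheaf.obj Y) :
    adjToAb f Y' (G.presheaf.map k x) = P.presheaf.map k.unop.left.op (adjToAb f Y x) := by
  have h1 := CategoryTheory.congr_fun (((PresheafOfModules.toPresheaf _).map f).naturality
    k.unop.left.op) (DirectSum.of (fun φ : (Y.unop.left ⟶ U) => ePc O U G (op Y.unop.left) φ)
      Y.unop.hom x)
  refine Eq.trans ?_ h1
  change appAb f (op Y'.unop.left) _ = appAb f (op Y'.unop.left)
    (ePAbMap O U G k.unop.left.op (DirectSum.of _ Y.unop.hom x))
  rw [ePAbMap_of]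
  congr 1
  exact of_map_eq O U G (W := op Y'.unop.left) (Y := Y.unop) (ψ := Y'.unop.hom)
    (ψ' := k.unop.left ≫ Y.unop.hom) k.unop
    (Over.homMk k.unop.left : Over.mk (k.unop.left ≫ Y.unop.hom) ⟶ Y.unop) rfl x

theorem adjToAb_smul {G : PSh (O.over U)} {P : PSh O} (f : (eP O U).obj G ⟶ P)
    (Y : (Over U)ᵒᵖ) (r : ((O.over U).obj ⋙ forget₂ CommRingCat.{u} RingCat.{u}).obj Y)
    (x : G.obj Y) :
    adjToAb f Y (r • x) = (show O.obj.obj (op Y.unop.left) from r) •
      (show P.obj (op Y.unop.left) from adjToAb f Y x) := by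
  change appAb f (op Y.unop.left) (DirectSum.of (fun φ : (Y.unop.left ⟶ U) =>
    ePc O U G (op Y.unop.left) φ) Y.unop.hom ((show O.obj.obj (op Y.unop.left) from r) •
      (show ePc O U G (op Y.unop.left) Y.unop.hom from x))) = _
  rw [DirectSum.of_smul]
  exact (f.app (op Y.unop.left)).hom.map_smul r _

/-- `Hom(j_! G, P) → Hom(G, P|U)` -/
noncomputable def adjTo {G : PSh (O.over U)} {P : PSh O} (f : (eP O U).obj G ⟶ P) :
    G ⟶ (rP O U).obj P :=
  PresheafOfModules.homMk (M₁ := G) (M₂ := (rP O U).obj P)
    { app := fun Y => AddCommGrpCat.ofHom (adjToAb f Y)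
      naturality := fun Y Y' k => by
        ext x
        exact adjToAb_naturality f k x }
    (fun Y r m => adjToAb_smul f Y r m)

/-- `Hom(G, P|U) → Hom(j_! G, P)` on sections -/
noncomputable def adjFromAb {G : PSh (O.over U)} {P : PSh O} (h : G ⟶ (rP O U).obj P)
    (W : Cᵒᵖ) : ePS O U G W →+ P.presheaf.obj W :=
  DirectSum.toAddMonoid (fun φ =>
    (show ePc O U G W φ →+ P.presheaf.obj W from appAb h (op (Over.mk φ))))

theorem adjFromAb_of {G : PSh (O.over U)} {P : PSh O} (h : G ⟶ (rP O U).obj P)
    (W : Cᵒᵖ) (φ : W.unop ⟶ U) (x : ePc O U G W φ) :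
    adjFromAb h W (DirectSum.of (fun φ : (W.unop ⟶ U) => ePc O U G W φ) φ x) =
      (show P.presheaf.obj W from appAb h (op (Over.mk φ)) x) := by
  unfold adjFromAb
  rw [DirectSum.toAddMonoid_of]
  rfl

theorem adjFromAb_naturality {G : PSh (O.over U)} {P : PSh O} (h : G ⟶ (rP O U).obj P)
    {W W' : Cᵒᵖ} (g : W ⟶ W') (m : ePS O U G W) :
    adjFromAb h W' (ePAbMap O U G g m) = P.presheaf.map g (adjFromAb h W m) := by
  induction m using DirectSum.induction_on with
  | zero => rw [map_zero, map_zero, map_zero]; exact (map_zero _).symm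
  | of φ x =>
    rw [ePAbMap_of, adjFromAb_of, adjFromAb_of]
    exact CategoryTheory.congr_fun (((PresheafOfModules.toPresheaf _).map h).naturality
      (Over.homMk g.unop : Over.mk (g.unop ≫ φ) ⟶ Over.mk φ).op) x
  | add a b ha hb => rw [map_add, map_add, map_add, ha, hb, map_add]

theorem adjFromAb_smul {G : PSh (O.over U)} {P : PSh O} (h : G ⟶ (rP O U).obj P)
    (W : Cᵒᵖ) (r : O.obj.obj W) (m : ePS O U G W) :
    adjFromAb h W (r • m) = r • (show P.obj W from adjFromAb h W m) := by
  induction m using DirectSum.induction_on with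
  | zero => rw [smul_zero, map_zero]; exact (smul_zero (A := P.obj W) r).symm
  | of φ x =>
    rw [← DirectSum.of_smul, adjFromAb_of, adjFromAb_of]
    exact (h.app (op (Over.mk φ))).hom.map_smul r x
  | add a b ha hb =>
    rw [smul_add, map_add, map_add, ha, hb]
    exact (smul_add (A := P.obj W) r _ _).symm

/-- `Hom(G, P|U) → Hom(j_! G, P)` -/
noncomputable def adjFrom {G : PSh (O.over U)} {P : PSh O} (h : G ⟶ (rP O U).obj P) :
    (eP O U).obj G ⟶ P :=
  PresheafOfModules.homMk (M₁ := (eP O U).obj G) (M₂ := P)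
    { app := fun W => AddCommGrpCat.ofHom (adjFromAb h W)
      naturality := fun W W' g => by
        ext m
        exact adjFromAb_naturality h g m }
    (fun W r m => adjFromAb_smul h W r m)

theorem adjFrom_adjTo {G : PSh (O.over U)} {P : PSh O} (f : (eP O U).obj G ⟶ P) :
    adjFrom (adjTo f) = f := by
  apply (PresheafOfModules.toPresheaf _).map_injective
  ext W m
  have : adjFromAb (adjTo f) W = (show ePS O U G W →+ P.presheaf.obj W from appAb f W) :=
    DirectSum.addHom_ext (fun φ x => by rw [adjFromAb_of]; rfl)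
  exact DFunLike.congr_fun this m

theorem adjTo_adjFrom {G : PSh (O.over U)} {P : PSh O} (h : G ⟶ (rP O U).obj P) :
    adjTo (adjFrom h) = h := by
  apply (PresheafOfModules.toPresheaf _).map_injective
  ext Y x
  exact (adjFromAb_of h (op Y.unop.left) Y.unop.hom x).trans rfl

variable (O U)

/-- the adjunction `j_! ⊣ j^*` on presheaves of modules -/
noncomputable def ePAdj : eP O U ⊣ rP O U :=
  Adjunction.mkOfHomEquiv
    { homEquiv := fun G P =>
        { toFun := adjTo
          invFun := adjFrom
          left_inv := adjFrom_adjTo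
          right_inv := adjTo_adjFrom }
      homEquiv_naturality_left_symm := by
        intro G' G P α h
        apply (PresheafOfModules.toPresheaf _).map_injective
        ext W m
        have : adjFromAb (α ≫ h) W = (adjFromAb h W).comp (ePMapAb α W) :=
          DirectSum.addHom_ext (fun φ x => by
            rw [adjFromAb_of, AddMonoidHom.comp_apply, ePMapAb_of, adjFromAb_of]; rfl)
        exact DFunLike.congr_fun this m
      homEquiv_naturality_right := by
        intro G P P' f β
        apply (PresheafOfModules.toPresheaf _).map_injective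
        ext Y x
        rfl }

end Groth.Agent.Helper17.MT
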