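import Mathlib
import Groth.Prelude.Def_ModSite
import Groth.Agent.Lib.Helper17.MT12

/-!
# Exactness of extension by zero
-/

open CategoryTheory Limits MonoidalCategory Opposite DirectSum

namespace Groth.Agent.Helper17.MT

universe u

open scoped Classical

variable {C : Type u} [SmallCategory C] {J : GrothendieckTopology C} (O : Sheaf J CommRingCat.{u})
  (U : C)

instance isLeftAdjoint_eP : (eP O U).IsLeftAdjoint := (ePAdj O U).isLeftAdjoint

instance preservesFiniteColimits_eP : PreservesFiniteColimits (eP O U) := by
  have : PreservesColimitsOfSize.{0, 0} (eP O U) := (ePAdj O U).leftAdjoint_preservesColimits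
  exact PreservesColimitsOfSize.preservesFiniteColimits _

theorem mono_eP_map {G G' : PSh (O.over U)} (α : G ⟶ G') [Mono α] : Mono ((eP O U).map α) := by
  apply PresheafOfModules.mono_of_injective
  intro W
  change Function.Injective (ePMapAb α W)
  unfold ePMapAb
  rw [DirectSum.map_injective]
  intro φ
  exact PresheafOfModules.injective_of_mono α (op (Over.mk φ))

instance preservesFiniteLimits_eP : PreservesFiniteLimits (eP O U) :=
  preservesFiniteLimits_of_preservesMono _ (fun α _ => mono_eP_map O U α)

/-- extension by zero on sheaves of modules, explicit model -/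
noncomputable def eS : ModSite.Mod (O.over U) ⥤ ModSite.Mod O :=
  fgt (O.over U) ⋙ eP O U ⋙ shf O

/-- `i ⋙ j^* = j^* ⋙ i` -/
noncomputable def fgtRPIso : fgt O ⋙ rP O U ≅ ModSite.restr O U ⋙ fgt (O.over U) :=
  NatIso.ofComponents (fun _ => Iso.refl _) (by
    intro X Y f
    exact (Category.comp_id _).trans (Category.id_comp _).symm)

/-- `a j_! ⊣ j^* i` -/
noncomputable def ePShfAdj : eP O U ⋙ shf O ⊣ fgt O ⋙ rP O U :=
  (ePAdj O U).comp (PresheafOfModules.sheafificationAdjunction (𝟙 (ModSite.ringSh O).obj))

/-- the adjunction `j_! ⊣ j^*` for the explicit model -/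
noncomputable def eSAdj : eS O U ⊣ ModSite.restr O U :=
  Adjunction.restrictFullyFaithful (iC := fgt (O.over U)) (iD := 𝟭 (ModSite.Mod O))
    (ePShfAdj O U) (SheafOfModules.fullyFaithfulForget _) (Functor.FullyFaithful.id _)
    (Functor.rightUnitor _).symm (Functor.leftUnitor _ ≪≫ fgtRPIso O U)

/-- Mathlib's extension by zero is isomorphic to the explicit model -/
noncomputable def extZeroIso : ModSite.extZero O U ≅ eS O U :=
  (ModSite.extZeroAdj O U).leftAdjointUniq (eSAdj O U)

instance preservesFiniteLimits_eS : PreservesFiniteLimits (eS O U) := by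
  have h1 : PreservesFiniteLimits (eP O U ⋙ shf O) := comp_preservesFiniteLimits _ _
  exact comp_preservesFiniteLimits _ _

theorem main9086 : PreservesFiniteLimits (ModSite.extZero O U) :=
  preservesFiniteLimits_of_natIso (extZeroIso O U).symm

end Groth.Agent.Helper17.MT
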