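import Mathlib
import Groth.Prelude.Def_ModSite
import Groth.Agent.Lib.Helper17.MT13

/-!
# Extension by zero is faithful and reflects exactness
-/

open CategoryTheory Limits MonoidalCategory Opposite DirectSum

namespace Groth.Agent.Helper17.MT

universe u

open scoped Classical

variable {C : Type u} [SmallCategory C] {J : GrothendieckTopology C} (O : Sheaf J CommRingCat.{u})
  (U : C)

theorem isLocallyInjective_η (P : PSh O) :
    Presheaf.IsLocallyInjective J ((PresheafOfModules.toPresheaf _).map (η O P)) := by
  have hW : J.W ((PresheafOfModules.toPresheaf _).map (η O P)) :=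
    (isIso_sheafify_map_iff O _).mp inferInstance
  rw [J.W_iff_isLocallyBijective] at hW
  exact hW.1

theorem isSeparated_val (G : ModSite.Mod (O.over U)) :
    Presieve.IsSeparated (J.over U) (G.val.presheaf ⋙ forget Ab) :=
  ((isSheaf_iff_isSheaf_of_type _ _).mp
    ((Presheaf.isSheaf_iff_isSheaf_forget (J.over U) G.val.presheaf (forget Ab)).mp
      G.isSheaf)).isSeparated

theorem unit_inj (G : ModSite.Mod (O.over U)) (Y : (Over U)ᵒᵖ)
    (x : ((fgt (O.over U)).obj G).presheaf.obj Y)
    (hx : appAb (η O ((eP O U).obj ((fgt (O.over U)).obj G))) (op Y.unop.left)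
      (DirectSum.of (fun φ : (Y.unop.left ⟶ U) =>
        ePc O U ((fgt (O.over U)).obj G) (op Y.unop.left) φ) Y.unop.hom x) = 0) : x = 0 := by
  have := isLocallyInjective_η O ((eP O U).obj ((fgt (O.over U)).obj G))
  have hS := Presheaf.equalizerSieve_mem J
    ((PresheafOfModules.toPresheaf _).map (η O ((eP O U).obj ((fgt (O.over U)).obj G))))
    (X := op Y.unop.left)
    (DirectSum.of (fun φ : (Y.unop.left ⟶ U) =>
        ePc O U ((fgt (O.over U)).obj G) (op Y.unop.left) φ) Y.unop.hom x) 0
    (hx.trans (map_zero _).symm)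
  have hT := GrothendieckTopology.overEquiv_symm_mem_over J Y.unop _ hS
  refine (isSeparated_val O U G _ hT).ext (fun Z k hk => ?_)
  rw [Sieve.overEquiv_symm_iff] at hk
  have hk' : ePAbMap O U ((fgt (O.over U)).obj G) k.left.op
      (DirectSum.of (fun φ : (Y.unop.left ⟶ U) =>
        ePc O U ((fgt (O.over U)).obj G) (op Y.unop.left) φ) Y.unop.hom x) =
      ePAbMap O U ((fgt (O.over U)).obj G) k.left.op 0 := hk
  rw [ePAbMap_of, map_zero] at hk'
  have h2 := of_map_eq O U ((fgt (O.over U)).obj G) (W := op Z.left) (Y := Y.unop)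
    (ψ := Z.hom) (ψ' := k.left ≫ Y.unop.hom) k
    (Over.homMk k.left : Over.mk (k.left ≫ Y.unop.hom) ⟶ Y.unop) rfl x
  have h3 := h2.trans hk'
  have h4 := DirectSum.of_injective (β := fun φ : (Z.left ⟶ U) =>
    ePc O U ((fgt (O.over U)).obj G) (op Z.left) φ) Z.hom (h3.trans (map_zero _).symm)
  exact h4.trans (map_zero (G.val.presheaf.map k.op).hom).symm

theorem fgt_map_unit (G : ModSite.Mod (O.over U)) :
    (fgt (O.over U)).map ((eSAdj O U).unit.app G) =
      adjTo (𝟙 ((eP O U).obj ((fgt (O.over U)).obj G))) ≫
        (rP O U).map (η O ((eP O U).obj ((fgt (O.over U)).obj G))) := by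
  refine (Adjunction.map_restrictFullyFaithful_unit_app (ePShfAdj O U) _ _ _ _ G).trans ?_
  apply (PresheafOfModules.toPresheaf _).map_injective
  ext Y x
  rfl

instance mono_unit (G : ModSite.Mod (O.over U)) : Mono ((eSAdj O U).unit.app G) := by
  have : (fgt (O.over U)).Faithful :=
    inferInstanceAs (SheafOfModules.forget (ModSite.ringSh (O.over U))).Faithful
  apply Functor.mono_of_mono_map (fgt (O.over U))
  rw [fgt_map_unit]
  apply PresheafOfModules.mono_of_injective
  intro Y
  rw [injective_iff_map_eq_zero]
  intro x hx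
  exact unit_inj O U G Y x hx

instance faithful_eS : (eS O U).Faithful := (eSAdj O U).faithful_L_of_mono_unit_app

instance faithful_extZero : (ModSite.extZero O U).Faithful :=
  Functor.Faithful.of_iso (extZeroIso O U).symm

instance preservesFiniteColimits_extZero : PreservesFiniteColimits (ModSite.extZero O U) := by
  have : PreservesColimitsOfSize.{0, 0} (ModSite.extZero O U) :=
    (ModSite.extZeroAdj O U).leftAdjoint_preservesColimits
  exact PreservesColimitsOfSize.preservesFiniteColimits _

theorem main9087 (S : ShortComplex (ModSite.Mod (O.over U)))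
    (h : (S.map (ModSite.extZero O U)).Exact) : S.Exact := by
  have := main9086 O U
  have : (ModSite.extZero O U).PreservesHomology := inferInstance
  exact (S.exact_map_iff_of_faithful (ModSite.extZero O U)).mp h

end Groth.Agent.Helper17.MT
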