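import Mathlib
import Groth.Prelude.Def_ModSite
import Groth.Agent.Lib.Helper17.MT14

/-!
# The projection formula for extension by zero (presheaf level)
-/

open CategoryTheory Limits MonoidalCategory Opposite DirectSum

namespace Groth.Agent.Helper17.MT

universe u

open scoped Classical

variable {C : Type u} [SmallCategory C] {J : GrothendieckTopology C} (O : Sheaf J CommRingCat.{u})
  (U : C)

theorem rPTensorIso_inv_naturality_left {P P' : PSh O} (f : P ⟶ P') (N : PSh O) :
    ((rP O U).map f ▷ (rP O U).obj N) ≫ (rPTensorIso O U P' N).inv =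
      (rPTensorIso O U P N).inv ≫ (rP O U).map (f ▷ N) := by
  apply PresheafOfModules.hom_ext
  intro Y
  refine ModuleCat.MonoidalCategory.tensor_ext (M₁ := ((rP O U).obj P).obj Y)
      (M₂ := ((rP O U).obj N).obj Y) (fun m n => ?_)
  rfl

theorem rPTensorIso_inv_naturality_right (P : PSh O) {N N' : PSh O} (g : N ⟶ N') :
    ((rP O U).obj P ◁ (rP O U).map g) ≫ (rPTensorIso O U P N').inv =
      (rPTensorIso O U P N).inv ≫ (rP O U).map (P ◁ g) := by
  apply PresheafOfModules.hom_ext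
  intro Y
  refine ModuleCat.MonoidalCategory.tensor_ext (M₁ := ((rP O U).obj P).obj Y)
      (M₂ := ((rP O U).obj N).obj Y) (fun m n => ?_)
  rfl

variable {O U}

theorem ePAdj_homEquiv_symm {G : PSh (O.over U)} {P : PSh O} (h : G ⟶ (rP O U).obj P) :
    ((ePAdj O U).homEquiv G P).symm h = adjFrom h := by
  unfold ePAdj
  rw [Adjunction.mkOfHomEquiv_homEquiv]
  rfl

theorem ePAdj_homEquiv {G : PSh (O.over U)} {P : PSh O} (f : (eP O U).obj G ⟶ P) :
    (ePAdj O U).homEquiv G P f = adjTo f := by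
  unfold ePAdj
  rw [Adjunction.mkOfHomEquiv_homEquiv]
  rfl

theorem adjFrom_comp_left {G' G : PSh (O.over U)} {P : PSh O} (α : G' ⟶ G)
    (h : G ⟶ (rP O U).obj P) : adjFrom (α ≫ h) = (eP O U).map α ≫ adjFrom h := by
  rw [← ePAdj_homEquiv_symm, ← ePAdj_homEquiv_symm]
  exact (ePAdj O U).homEquiv_naturality_left_symm α h

theorem adjFrom_comp_right {G : PSh (O.over U)} {P P' : PSh O} (h : G ⟶ (rP O U).obj P)
    (γ : P ⟶ P') : adjFrom (h ≫ (rP O U).map γ) = adjFrom h ≫ γ := by
  rw [← ePAdj_homEquiv_symm, ← ePAdj_homEquiv_symm]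
  exact (ePAdj O U).homEquiv_naturality_right_symm h γ

theorem ePAdj_unit_app (Q : PSh (O.over U)) : (ePAdj O U).unit.app Q = adjTo (𝟙 _) := by
  rw [← ePAdj_homEquiv, Adjunction.homEquiv_unit]
  exact ((congrArg (fun t => (ePAdj O U).unit.app Q ≫ t) ((rP O U).map_id _)).trans
    (Category.comp_id _)).symm

/-- unit of `ePAdj` -/
noncomputable abbrev uP (Q : PSh (O.over U)) : Q ⟶ (rP O U).obj ((eP O U).obj Q) := adjTo (𝟙 _)

theorem uP_naturality {Q Q' : PSh (O.over U)} (α : Q ⟶ Q') :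
    α ≫ uP Q' = uP Q ≫ (rP O U).map ((eP O U).map α) := by
  have := (ePAdj O U).unit.naturality α
  rw [ePAdj_unit_app, ePAdj_unit_app] at this
  exact this

variable (O U)

/-- the projection formula map `j_!(Q ⊗ N|U) ⟶ j_! Q ⊗ N` -/
noncomputable def pfHom (Q : PSh (O.over U)) (N : PSh O) :
    (eP O U).obj (Q ⊗ (rP O U).obj N) ⟶ (eP O U).obj Q ⊗ N :=
  adjFrom ((uP Q ▷ (rP O U).obj N) ≫ (rPTensorIso O U ((eP O U).obj Q) N).inv)

theorem pfHom_naturality_left {Q Q' : PSh (O.over U)} (α : Q ⟶ Q') (N : PSh O) :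
    (eP O U).map (α ▷ (rP O U).obj N) ≫ pfHom O U Q' N =
      pfHom O U Q N ≫ ((eP O U).map α ▷ N) := by
  unfold pfHom
  rw [← adjFrom_comp_left, ← adjFrom_comp_right]
  congr 1
  rw [← Category.assoc, ← comp_whiskerRight, uP_naturality, comp_whiskerRight, Category.assoc,
    Category.assoc, rPTensorIso_inv_naturality_left]

theorem pfHom_naturality_right (Q : PSh (O.over U)) {N N' : PSh O} (γ : N ⟶ N') :
    (eP O U).map (Q ◁ (rP O U).map γ) ≫ pfHom O U Q N' =
      pfHom O U Q N ≫ ((eP O U).obj Q ◁ γ) := by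
  unfold pfHom
  rw [← adjFrom_comp_left, ← adjFrom_comp_right]
  congr 1
  rw [← Category.assoc, whisker_exchange, Category.assoc, Category.assoc,
    rPTensorIso_inv_naturality_right]

/-- the ring of sections, in the form used by the monoidal structure -/
abbrev RW (W : Cᵒᵖ) : Type u := (O.obj ⋙ forget₂ CommRingCat.{u} RingCat.{u}).obj W

noncomputable instance ePcModule' (G : PSh (O.over U)) (W : Cᵒᵖ) (φ : W.unop ⟶ U) :
    Module (RW O W) (ePc O U G W φ) :=
  (G.obj (op (Over.mk φ))).isModule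

noncomputable instance objModule' (G : PSh (O.over U)) (W : Cᵒᵖ) (φ : W.unop ⟶ U) :
    Module (RW O W) (G.obj (op (Over.mk φ))) :=
  (G.obj (op (Over.mk φ))).isModule

theorem pfHom_apply (Q : PSh (O.over U)) (N : PSh O) (W : Cᵒᵖ) (φ : W.unop ⟶ U)
    (q : ePc O U Q W φ) (n : N.obj W) :
    appAb (pfHom O U Q N) W (DirectSum.of (fun φ : (W.unop ⟶ U) =>
      ePc O U (Q ⊗ (rP O U).obj N) W φ) φ (q ⊗ₜ[RW O W] n)) =
    ((DirectSum.of (fun φ : (W.unop ⟶ U) => ePc O U Q W φ) φ q : ePS O U Q W) ⊗ₜ[RW O W] n :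
      TensorProduct (RW O W) (ePS O U Q W) (N.obj W)) := by
  unfold pfHom
  exact (adjFromAb_of _ W φ _).trans rfl

/-- `⨁_φ (Q(φ) ⊗ N(W)) ≃ (⨁_φ Q(φ)) ⊗ N(W)` -/
noncomputable def dsl (Q : PSh (O.over U)) (N : PSh O) (W : Cᵒᵖ) :
    (⨁ φ : (W.unop ⟶ U), TensorProduct (RW O W) (ePc O U Q W φ) (N.obj W)) ≃ₗ[RW O W]
      TensorProduct (RW O W) (⨁ φ : (W.unop ⟶ U), ePc O U Q W φ) (N.obj W) :=
  (TensorProduct.directSumLeft (RW O W) (RW O W) (fun φ : (W.unop ⟶ U) => ePc O U Q W φ)
    (N.obj W)).symm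

theorem pfHom_eq_dsl (Q : PSh (O.over U)) (N : PSh O) (W : Cᵒᵖ)
    (m : ⨁ φ : (W.unop ⟶ U), TensorProduct (RW O W) (ePc O U Q W φ) (N.obj W)) :
    appAb (pfHom O U Q N) W m = dsl O U Q N W m := by
  induction m using DirectSum.induction_on with
  | zero => exact (map_zero _).trans (map_zero _).symm
  | of φ t =>
    induction t using TensorProduct.induction_on with
    | zero =>
      rw [map_zero]
      exact (map_zero _).trans (map_zero _).symm
    | tmul q n =>
      refine (pfHom_apply O U Q N W φ q n).trans ?_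
      exact (TensorProduct.directSumLeft_symm_lof_tmul (R := RW O W) (S := RW O W)
        (M₁ := fun φ : (W.unop ⟶ U) => ePc O U Q W φ) (M₂' := N.obj W) φ q n).symm
    | add a b ha hb =>
      rw [map_add]
      exact (map_add _ _ _).trans ((congrArg₂ (· + ·) ha hb).trans (map_add _ _ _).symm)
  | add a b ha hb =>
    exact (map_add _ _ _).trans ((congrArg₂ (· + ·) ha hb).trans (map_add _ _ _).symm)

instance isIso_pfHom (Q : PSh (O.over U)) (N : PSh O) : IsIso (pfHom O U Q N) := by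
  have h1 : ∀ W, IsIso (((PresheafOfModules.toPresheaf _).map (pfHom O U Q N)).app W) := by
    intro W
    rw [ConcreteCategory.isIso_iff_bijective]
    have h2 : Function.Bijective (dsl O U Q N W) := (dsl O U Q N W).bijective
    have h3 : (fun m => dsl O U Q N W m) = (fun m => appAb (pfHom O U Q N) W m) :=
      funext (fun m => (pfHom_eq_dsl O U Q N W m).symm)
    have h5 : Function.Bijective (fun m => appAb (pfHom O U Q N) W m) := by
      rw [← h3]
      exact h2
    exact h5
  have h4 : IsIso ((PresheafOfModules.toPresheaf _).map (pfHom O U Q N)) :=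
    NatIso.isIso_of_isIso_app _
  exact isIso_of_reflects_iso _ (PresheafOfModules.toPresheaf _)

end Groth.Agent.Helper17.MT
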