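import Mathlib
import Groth.Prelude.Def_ModSite
import Groth.Agent.Lib.Helper17.MT15

/-!
# The projection formula for extension by zero (sheaf level)
-/

open CategoryTheory Limits MonoidalCategory Opposite DirectSum

namespace Groth.Agent.Helper17.MT

universe u

open scoped Classical

variable {C : Type u} [SmallCategory C] {J : GrothendieckTopology C} (O : Sheaf J CommRingCat.{u})
  (U : C)

/-- `a_U ⊣ i_U` typed with `shf`, `fgt` -/
noncomputable def shfAdj : shf O ⊣ fgt O :=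
  PresheafOfModules.sheafificationAdjunction (𝟙 (ModSite.ringSh O).obj)

/-- `a j_! ≅ j_! a_U` -/
noncomputable def AIso : eP O U ⋙ shf O ≅ shf (O.over U) ⋙ eS O U :=
  (ePShfAdj O U).leftAdjointUniq
    (((shfAdj (O.over U)).comp (eSAdj O U)).ofNatIsoRight (fgtRPIso O U).symm)

/-- the presheaf projection formula, natural in the first variable -/
noncomputable def pfNatIsoLeft (N : PSh O) :
    tensorRight ((rP O U).obj N) ⋙ eP O U ≅ eP O U ⋙ tensorRight N :=
  NatIso.ofComponents (fun Q => asIso (pfHom O U Q N))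
    (fun α => pfHom_naturality_left O U α N)

/-- the presheaf projection formula, natural in the second variable -/
noncomputable def pfNatIsoRight (Q : PSh (O.over U)) :
    rP O U ⋙ tensorLeft Q ⋙ eP O U ≅ tensorLeft ((eP O U).obj Q) :=
  NatIso.ofComponents (fun N => asIso (pfHom O U Q N))
    (fun γ => pfHom_naturality_right O U Q γ)

/-- `a(P ⊗ iX) ≅ a(iaP ⊗ iX)`, naturally in the sheaf `X` -/
noncomputable def TLshfIso (P : PSh O) :
    fgt O ⋙ tensorLeft P ⋙ shf O ≅ TL O ((shf O).obj P) :=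
  NatIso.ofComponents (fun X => @asIso _ _ _ _ _
      (isIso_sheafify_whiskerRight O (η O P) ((fgt O).obj X)))
    (fun {X X'} h => by
      change (shf O).map (P ◁ (fgt O).map h) ≫ (shf O).map (η O P ▷ (fgt O).obj X') =
        (shf O).map (η O P ▷ (fgt O).obj X) ≫
          (shf O).map ((fgt O).obj ((shf O).obj P) ◁ (fgt O).map h)
      rw [← Functor.map_comp, ← Functor.map_comp, whisker_exchange])

/-- projection formula `j_!(P ⊗ N|U) ≅ j_! P ⊗ N`, naturally in `P` -/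
noncomputable def PsiIso (N : ModSite.Mod O) :
    TR (O.over U) ((ModSite.restr O U).obj N) ⋙ eS O U ≅ eS O U ⋙ TR O N :=
  Functor.isoWhiskerRight (TRdefIso (O.over U) ((ModSite.restr O U).obj N)) (eS O U) ≪≫
    (Iso.refl _ : (fgt (O.over U) ⋙ tensorRight ((rP O U).obj ((fgt O).obj N)) ⋙
        shf (O.over U)) ⋙ eS O U ≅
      fgt (O.over U) ⋙ tensorRight ((rP O U).obj ((fgt O).obj N)) ⋙
        (shf (O.over U) ⋙ eS O U)) ≪≫
    Functor.isoWhiskerLeft (fgt (O.over U)) (Functor.isoWhiskerLeft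
      (tensorRight ((rP O U).obj ((fgt O).obj N))) (AIso O U).symm) ≪≫
    (Iso.refl _ : fgt (O.over U) ⋙ tensorRight ((rP O U).obj ((fgt O).obj N)) ⋙
        (eP O U ⋙ shf O) ≅
      fgt (O.over U) ⋙ (tensorRight ((rP O U).obj ((fgt O).obj N)) ⋙ eP O U) ⋙ shf O) ≪≫
    Functor.isoWhiskerLeft (fgt (O.over U)) (Functor.isoWhiskerRight
      (pfNatIsoLeft O U ((fgt O).obj N)) (shf O)) ≪≫
    (Iso.refl _ : fgt (O.over U) ⋙ (eP O U ⋙ tensorRight ((fgt O).obj N)) ⋙ shf O ≅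
      (fgt (O.over U) ⋙ eP O U) ⋙ (tensorRight ((fgt O).obj N) ⋙ shf O)) ≪≫
    Functor.isoWhiskerLeft (fgt (O.over U) ⋙ eP O U) (tensorRightIso O N) ≪≫
    (Iso.refl _ : (fgt (O.over U) ⋙ eP O U) ⋙ (shf O ⋙ TR O N) ≅ eS O U ⋙ TR O N)

/-- projection formula `j_!(P ⊗ N|U) ≅ j_! P ⊗ N`, naturally in `N` -/
noncomputable def PhiIso (P : ModSite.Mod (O.over U)) :
    ModSite.restr O U ⋙ TL (O.over U) P ⋙ eS O U ≅ TL O ((eS O U).obj P) :=
  Functor.isoWhiskerLeft (ModSite.restr O U)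
    (Functor.isoWhiskerRight (TLdefIso (O.over U) P) (eS O U)) ≪≫
    (Iso.refl _ : ModSite.restr O U ⋙ (fgt (O.over U) ⋙
        tensorLeft ((fgt (O.over U)).obj P) ⋙ shf (O.over U)) ⋙ eS O U ≅
      (ModSite.restr O U ⋙ fgt (O.over U)) ⋙ tensorLeft ((fgt (O.over U)).obj P) ⋙
        (shf (O.over U) ⋙ eS O U)) ≪≫
    Functor.isoWhiskerRight (fgtRPIso O U).symm (tensorLeft ((fgt (O.over U)).obj P) ⋙
        (shf (O.over U) ⋙ eS O U)) ≪≫
    Functor.isoWhiskerLeft (fgt O ⋙ rP O U) (Functor.isoWhiskerLeft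
      (tensorLeft ((fgt (O.over U)).obj P)) (AIso O U).symm) ≪≫
    (Iso.refl _ : (fgt O ⋙ rP O U) ⋙ tensorLeft ((fgt (O.over U)).obj P) ⋙ (eP O U ⋙ shf O) ≅
      fgt O ⋙ (rP O U ⋙ tensorLeft ((fgt (O.over U)).obj P) ⋙ eP O U) ⋙ shf O) ≪≫
    Functor.isoWhiskerLeft (fgt O) (Functor.isoWhiskerRight
      (pfNatIsoRight O U ((fgt (O.over U)).obj P)) (shf O)) ≪≫
    TLshfIso O ((eP O U).obj ((fgt (O.over U)).obj P))

end Groth.Agent.Helper17.MT
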