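import Mathlib
import Groth.Prelude.Def_ModSite
import Groth.Agent.Lib.Helper17.MT16

/-!
# Consequences of the projection formula: flatness of `j_!` and of restrictions
-/

open CategoryTheory Limits MonoidalCategory Opposite DirectSum

namespace Groth.Agent.Helper17.MT

universe u

open scoped Classical

variable {C : Type u} [SmallCategory C] {J : GrothendieckTopology C} (O : Sheaf J CommRingCat.{u})
  (U : C)

theorem main6169 (P : ModSite.Mod (O.over U)) (N : ModSite.Mod O) :
    Nonempty ((ModSite.extZero O U).obj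
        (((ModSite.tensorBi (O.over U)).obj P).obj ((ModSite.restr O U).obj N)) ≅
      ((ModSite.tensorBi O).obj ((ModSite.extZero O U).obj P)).obj N) :=
  ⟨(extZeroIso O U).app _ ≪≫ (PsiIso O U N).app P ≪≫
    ((ModSite.tensorBi O).mapIso ((extZeroIso O U).app P).symm).app N⟩

theorem isFlat_of_iso {M M' : ModSite.Mod O} (e : M ≅ M') (h : ModSite.IsFlat M) :
    ModSite.IsFlat M' := by
  rw [isFlat_iff] at h ⊢
  exact preservesFiniteLimits_of_natIso ((ModSite.tensorBi O).flip.mapIso e)

theorem isFlat_unit : ModSite.IsFlat (ModSite.unit O) := by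
  rw [isFlat_iff]
  have : PreservesFiniteLimits (𝟭 (ModSite.Mod O)) := inferInstance
  exact preservesFiniteLimits_of_natIso ((TLunitIso O).symm ≪≫ TLIsoTR O (ModSite.unit O))

theorem isFlat_eS (M : ModSite.Mod (O.over U)) (hM : ModSite.IsFlat M) :
    ModSite.IsFlat ((eS O U).obj M) := by
  rw [isFlat_iff]
  have h1 := preservesFiniteLimits_TL_of_isFlat (O.over U) M hM
  have h2 : PreservesFiniteLimits (TL (O.over U) M ⋙ eS O U) := comp_preservesFiniteLimits _ _
  have h3 : PreservesFiniteLimits (ModSite.restr O U) := by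
    have : PreservesLimitsOfSize.{0, 0} (ModSite.restr O U) :=
      (ModSite.extZeroAdj O U).rightAdjoint_preservesLimits
    exact PreservesLimitsOfSize.preservesFiniteLimits _
  have h4 : PreservesFiniteLimits (ModSite.restr O U ⋙ TL (O.over U) M ⋙ eS O U) :=
    comp_preservesFiniteLimits _ _
  have h5 : PreservesFiniteLimits (TL O ((eS O U).obj M)) :=
    preservesFiniteLimits_of_natIso (PhiIso O U M)
  exact preservesFiniteLimits_of_natIso (TLIsoTR O _)

theorem main6146 :
    (∀ M : ModSite.Mod (O.over U), ModSite.IsFlat M →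
      ModSite.IsFlat ((ModSite.extZero O U).obj M)) ∧
    ModSite.IsFlat (ModSite.freeOn O U) := by
  have h : ∀ M : ModSite.Mod (O.over U), ModSite.IsFlat M →
      ModSite.IsFlat ((ModSite.extZero O U).obj M) := fun M hM =>
    isFlat_of_iso O ((extZeroIso O U).app M).symm (isFlat_eS O U M hM)
  exact ⟨h, h _ (isFlat_unit (O.over U))⟩

theorem main6147 (M : ModSite.Mod O) (hM : ModSite.IsFlat M) :
    ModSite.IsFlat ((ModSite.restr O U).obj M) := by
  apply isFlat_of_preservesMono
  intro X Y m hm
  have h1 : Mono ((eS O U).map m) := inferInstance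
  have h2 : Mono ((eS O U ⋙ TR O M).map m) := mono_TR_map_of_mono O hM _
  have h3 := (PsiIso O U M).hom.naturality m
  have h4 : Mono ((TR (O.over U) ((ModSite.restr O U).obj M) ⋙ eS O U).map m ≫
      (PsiIso O U M).hom.app Y) := by
    rw [h3]
    exact mono_comp _ _
  have h5 : Mono ((TR (O.over U) ((ModSite.restr O U).obj M) ⋙ eS O U).map m) :=
    mono_of_mono _ ((PsiIso O U M).hom.app Y)
  exact Functor.mono_of_mono_map (eS O U) h5

theorem main6155 (M : ModSite.Mod O) :
    Nonempty (((ModSite.tensorBi O).obj (ModSite.freeOn O U)).obj M ≅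
      (ModSite.extZero O U).obj ((ModSite.restr O U).obj M)) := by
  obtain ⟨e⟩ := main6169 O U (ModSite.unit (O.over U)) M
  exact ⟨e.symm ≪≫ (ModSite.extZero O U).mapIso
    ((TLunitIso (O.over U)).app ((ModSite.restr O U).obj M))⟩

end Groth.Agent.Helper17.MT
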