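import Mathlib
import Groth.Prelude.Def_ModSite
import Groth.Agent.Lib.Helper17.MT17

/-!
# Restriction commutes with the internal hom
-/

open CategoryTheory Limits MonoidalCategory Opposite DirectSum

namespace Groth.Agent.Helper17.MT

universe u

open scoped Classical

variable {C : Type u} [SmallCategory C] {J : GrothendieckTopology C} (O : Sheaf J CommRingCat.{u})
  (U : C)

theorem main6156 (M N : ModSite.Mod O) [ModSite.HasSheafHom M]
    [ModSite.HasSheafHom ((ModSite.restr O U).obj M)] :
    Nonempty ((ModSite.restr O U).obj ((ModSite.sheafHom M).obj N) ≅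
      (ModSite.sheafHom ((ModSite.restr O U).obj M)).obj ((ModSite.restr O U).obj N)) := by
  have adjL : TR (O.over U) ((ModSite.restr O U).obj M) ⋙ eS O U ⊣
      ModSite.restr O U ⋙ ModSite.sheafHom ((ModSite.restr O U).obj M) :=
    (ModSite.sheafHomAdj ((ModSite.restr O U).obj M)).comp (eSAdj O U)
  have adjR : eS O U ⋙ TR O M ⊣ ModSite.sheafHom M ⋙ ModSite.restr O U :=
    (eSAdj O U).comp (ModSite.sheafHomAdj M)
  have adjL' := adjL.ofNatIsoLeft (PsiIso O U M)
  exact ⟨(adjR.rightAdjointUniq adjL').app N⟩

end Groth.Agent.Helper17.MT
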