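import Mathlib
import Groth.Prelude.Def_ModSite
import Groth.Agent.Lib.Helper17.MT18

/-!
# `j_{U!} O_U` corepresents sections over `U`
-/

open CategoryTheory Limits MonoidalCategory Opposite DirectSum

namespace Groth.Agent.Helper17.MT

universe u

variable {C : Type u} [SmallCategory C] {J : GrothendieckTopology C} (O : Sheaf J CommRingCat.{u})
  (U : C)

/-- sections of a presheaf of modules on `C/U` are its value at the terminal object -/
noncomputable def sectionsEquivTerminal (P : PSh (O.over U)) :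
    P.sections ≃ P.obj (op (Over.mk (𝟙 U))) where
  toFun s := s.1 (op (Over.mk (𝟙 U)))
  invFun p := PresheafOfModules.sectionsMk
    (fun Y => P.map (Over.homMk Y.unop.hom : Y.unop ⟶ Over.mk (𝟙 U)).op p)
    (fun Y Y' k => by
      have hk : (Over.homMk Y.unop.hom : Y.unop ⟶ Over.mk (𝟙 U)).op ≫ k =
          (Over.homMk Y'.unop.hom : Y'.unop ⟶ Over.mk (𝟙 U)).op := by
        apply Quiver.Hom.unop_inj
        apply Over.OverMorphism.ext
        simp
      rw [← PresheafOfModules.map_comp_apply]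
      exact PresheafOfModules.congr_map_apply P hk p)
  left_inv s := by
    apply PresheafOfModules.sections_ext
    intro Y
    exact PresheafOfModules.sections_property s _
  right_inv p := by
    change P.map (Over.homMk (𝟙 U) : Over.mk (𝟙 U) ⟶ Over.mk (𝟙 U)).op p = p
    have : (Over.homMk (𝟙 U) : Over.mk (𝟙 U) ⟶ Over.mk (𝟙 U)) = 𝟙 _ := rfl
    rw [this]
    exact (PresheafOfModules.congr_map_apply P (op_id) p).trans
      (CategoryTheory.congr_fun (P.presheaf.map_id _) p)

/-- `Hom(j_! O_U, M) ≃ M(U)` -/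
noncomputable def freeOnHomEquiv (M : ModSite.Mod O) :
    (ModSite.freeOn O U ⟶ M) ≃ M.val.obj (op U) :=
  ((ModSite.extZeroAdj O U).homEquiv (SheafOfModules.unit _) M).trans
    ((SheafOfModules.unitHomEquiv ((ModSite.restr O U).obj M)).trans
      (sectionsEquivTerminal O U ((ModSite.restr O U).obj M).val))

theorem freeOnHomEquiv_comp {M M' : ModSite.Mod O} (f : ModSite.freeOn O U ⟶ M) (g : M ⟶ M') :
    freeOnHomEquiv O U M' (f ≫ g) = g.val.app (op U) (freeOnHomEquiv O U M f) := by
  unfold freeOnHomEquiv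
  simp only [Equiv.trans_apply]
  rw [Adjunction.homEquiv_naturality_right, SheafOfModules.unitHomEquiv_comp_apply]
  rfl

/-- the universal section of `j_! O_U` over `U` -/
noncomputable def freeOnGen : (ModSite.freeOn O U).val.obj (op U) :=
  freeOnHomEquiv O U _ (𝟙 _)

theorem freeOnHomEquiv_apply {M : ModSite.Mod O} (f : ModSite.freeOn O U ⟶ M) :
    freeOnHomEquiv O U M f = f.val.app (op U) (freeOnGen O U) := by
  have := freeOnHomEquiv_comp O U (𝟙 _) f
  rwa [Category.id_comp] at this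

theorem nonempty_iso_of_homEquiv {𝒜 : Type*} [Category 𝒜] {A B : 𝒜}
    (ε : ∀ M, (A ⟶ M) ≃ (B ⟶ M))
    (hε : ∀ {M M' : 𝒜} (h : A ⟶ M) (g : M ⟶ M'), ε M' (h ≫ g) = ε M h ≫ g) :
    Nonempty (A ≅ B) := by
  refine ⟨⟨(ε B).symm (𝟙 B), ε A (𝟙 A), ?_, ?_⟩⟩
  · apply (ε A).injective
    rw [hε, Equiv.apply_symm_apply, Category.id_comp]
  · rw [← hε, Category.id_comp, Equiv.apply_symm_apply]

variable {O}

theorem main6153 {D : Type u} [SmallCategory D] {K : GrothendieckTopology D}
    {O_D : Sheaf K CommRingCat.{u}} (f : ModSite.RMor O O_D) (X : D) :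
    Nonempty (f.pull.obj (ModSite.freeOn O_D X) ≅ ModSite.freeOn O (f.fn.obj X)) := by
  let e₁ : ∀ M : ModSite.Mod O, (f.pull.obj (ModSite.freeOn O_D X) ⟶ M) ≃
      M.val.obj (op (f.fn.obj X)) := fun M =>
    (f.adj.homEquiv (ModSite.freeOn O_D X) M).trans (freeOnHomEquiv O_D X (f.push.obj M))
  have h₁ : ∀ {M M' : ModSite.Mod O} (h : f.pull.obj (ModSite.freeOn O_D X) ⟶ M) (g : M ⟶ M'),
      e₁ M' (h ≫ g) = g.val.app (op (f.fn.obj X)) (e₁ M h) := by
    intro M M' h g
    change freeOnHomEquiv O_D X (f.push.obj M') (f.adj.homEquiv _ M' (h ≫ g)) = _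
    rw [Adjunction.homEquiv_naturality_right, freeOnHomEquiv_comp]
    rfl
  refine nonempty_iso_of_homEquiv
    (fun M => (e₁ M).trans (freeOnHomEquiv O (f.fn.obj X) M).symm) ?_
  intro M M' h g
  apply (freeOnHomEquiv O (f.fn.obj X) M').injective
  rw [freeOnHomEquiv_comp]
  simp only [Equiv.trans_apply, Equiv.apply_symm_apply]
  exact h₁ h g

end Groth.Agent.Helper17.MT
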