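import Mathlib
import Groth.Prelude.Def_ModSite
import Groth.Agent.Lib.Helper17.MT8

/-!
# Tensoring an acyclic bounded below complex of flat modules
-/

open CategoryTheory Limits MonoidalCategory Opposite

namespace Groth.Agent.Helper17.MT

universe u

section Abstract

variable {A B : Type*} [Category A] [Category B] [Abelian A] [Abelian B]
  {ι : Type*} {c : ComplexShape ι}

/-- the short complex `0 → Z_i → K_i → Z_{i'} → 0` -/
noncomputable def cyclesSC (K : HomologicalComplex A c) (i j : ι) : ShortComplex A :=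
  ShortComplex.mk (K.iCycles i) (K.toCycles i j) (by
    rw [← cancel_mono (K.iCycles j), Category.assoc, HomologicalComplex.toCycles_i,
      HomologicalComplex.iCycles_d, zero_comp])

theorem epi_toCycles_of_exactAt (K : HomologicalComplex A c) (i j : ι) (hj : c.prev j = i)
    (h : K.ExactAt j) : Epi (K.toCycles i j) := by
  subst hj
  have := (HomologicalComplex.exactAt_iff K j).mp h
  exact this.epi_toCycles

theorem cyclesSC_shortExact (K : HomologicalComplex A c) (i j : ι) (hij : c.Rel i j)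
    (h : K.ExactAt j) : (cyclesSC K i j).ShortExact := by
  have he : Epi (K.toCycles i j) := epi_toCycles_of_exactAt K i j (c.prev_eq' hij) h
  have hm : Mono (K.iCycles i) := inferInstance
  refine ShortComplex.ShortExact.mk' ?_ hm he
  apply ShortComplex.exact_of_f_is_kernel
  have hk := K.cyclesIsKernel i j (c.next_eq' hij)
  have : Mono (cyclesSC K i j).f := hm
  refine KernelFork.IsLimit.ofι' _ _ (fun {X} k hk' => ?_)
  have hk2 : k ≫ K.d i j = 0 := by
    rw [← HomologicalComplex.toCycles_i]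
    exact (Category.assoc _ _ _).symm.trans
      ((congrArg (· ≫ K.iCycles j) hk').trans zero_comp)
  exact ⟨hk.lift (KernelFork.ofι k hk2), hk.fac _ WalkingParallelPair.zero⟩

theorem acyclic_map_of_cycles (T : A ⥤ B) [T.Additive] [T.PreservesEpimorphisms]
    (K : HomologicalComplex A c) (hK : K.Acyclic)
    (ha : ∀ i, Mono (T.map (K.iCycles i)))
    (hb : ∀ i, ((cyclesSC K i (c.next i)).map T).Exact) :
    ((T.mapHomologicalComplex c).obj K).Acyclic := by
  intro i
  rw [HomologicalComplex.exactAt_iff]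
  let i' := c.prev i
  let j := c.next i
  have hf : T.map (K.d i' i) = T.map (K.toCycles i' i) ≫ T.map (K.iCycles i) := by
    rw [← T.map_comp, HomologicalComplex.toCycles_i]
  have hg : T.map (K.d i j) = T.map (K.toCycles i j) ≫ T.map (K.iCycles j) := by
    rw [← T.map_comp, HomologicalComplex.toCycles_i]
  have hz : T.map (K.d i' i) ≫ T.map (K.toCycles i j) = 0 := by
    rw [← T.map_comp, HomologicalComplex.d_toCycles, T.map_zero]
  let S₀ : ShortComplex B := (cyclesSC K i j).map T
  let S₁ : ShortComplex B := ShortComplex.mk (T.map (K.d i' i)) (T.map (K.toCycles i j)) hz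
  let S' : ShortComplex B := ((T.mapHomologicalComplex c).obj K).sc i
  let φ : S₁ ⟶ S₀ :=
    { τ₁ := T.map (K.toCycles i' i)
      τ₂ := 𝟙 _
      τ₃ := 𝟙 _
      comm₁₂ := by
        change T.map (K.toCycles i' i) ≫ T.map (K.iCycles i) = T.map (K.d i' i) ≫ 𝟙 _
        rw [Category.comp_id, hf]
      comm₂₃ := by
        change 𝟙 _ ≫ T.map (K.toCycles i j) = T.map (K.toCycles i j) ≫ 𝟙 _
        rw [Category.comp_id, Category.id_comp] }
  let ψ : S₁ ⟶ S' :=
    { τ₁ := 𝟙 _
      τ₂ := 𝟙 _
      τ₃ := T.map (K.iCycles j)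
      comm₁₂ := by
        change 𝟙 _ ≫ T.map (K.d i' i) = T.map (K.d i' i) ≫ 𝟙 _
        rw [Category.comp_id, Category.id_comp]
      comm₂₃ := by
        change 𝟙 _ ≫ T.map (K.d i j) = T.map (K.toCycles i j) ≫ T.map (K.iCycles j)
        rw [Category.id_comp, hg] }
  have : Epi (K.toCycles i' i) := epi_toCycles_of_exactAt K i' i rfl (hK i)
  have : Epi φ.τ₁ := inferInstanceAs (Epi (T.map (K.toCycles i' i)))
  have : IsIso φ.τ₂ := inferInstanceAs (IsIso (𝟙 _))
  have : Mono φ.τ₃ := inferInstanceAs (Mono (𝟙 _))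
  have h1 : S₁.Exact := (ShortComplex.exact_iff_of_epi_of_isIso_of_mono φ).mpr (hb i)
  have : Epi ψ.τ₁ := inferInstanceAs (Epi (𝟙 _))
  have : IsIso ψ.τ₂ := inferInstanceAs (IsIso (𝟙 _))
  have : Mono ψ.τ₃ := ha j
  exact (ShortComplex.exact_iff_of_epi_of_isIso_of_mono ψ).mp h1

end Abstract

variable {C : Type u} [SmallCategory C] {J : GrothendieckTopology C} (O : Sheaf J CommRingCat.{u})

instance additive_TR (N : ModSite.Mod O) : (TR O N).Additive := by
  have := preservesBinaryBiproducts_of_preservesBinaryCoproducts (TR O N)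
  exact Functor.additive_of_preservesBinaryBiproducts (TR O N)

instance additive_TL (N : ModSite.Mod O) : (TL O N).Additive := by
  have := preservesBinaryBiproducts_of_preservesBinaryCoproducts (TL O N)
  exact Functor.additive_of_preservesBinaryBiproducts (TL O N)

theorem isFlat_of_isZero (N : ModSite.Mod O) (h : IsZero N) : ModSite.IsFlat N := by
  apply isFlat_of_preservesMono
  intro X Y m _
  have hz : IsZero ((TR O N).obj X) := (TL O X).map_isZero h
  exact ⟨fun a b _ => hz.eq_of_tgt a b⟩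

theorem isFlat_cycles_of_boundedBelow (M : ChainComplex (ModSite.Mod O) ℤ)
    (hb : ∃ i₀ : ℤ, ∀ i, i < i₀ → IsZero (M.X i)) (hM : ∀ i, ModSite.IsFlat (M.X i))
    (hac : M.Acyclic) (i : ℤ) : ModSite.IsFlat (M.cycles i) := by
  obtain ⟨i₀, hi₀⟩ := hb
  have hzero : ∀ i, i < i₀ → ModSite.IsFlat (M.cycles i) := fun i hi =>
    isFlat_of_isZero O _ (IsZero.of_mono (M.iCycles i) (hi₀ i hi))
  have hind : ∀ n : ℕ, ModSite.IsFlat (M.cycles (i₀ - 1 + n)) := by
    intro n
    induction n with
    | zero => exact hzero _ (by simp)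
    | succ n ih =>
      have hrel : (ComplexShape.down ℤ).Rel (i₀ - 1 + ((n + 1 : ℕ) : ℤ)) (i₀ - 1 + (n : ℤ)) := by
        simp only [ComplexShape.down_Rel]
        push_cast
        ring
      have hse := cyclesSC_shortExact M _ _ hrel (hac _)
      have h2 : ModSite.IsFlat (cyclesSC M (i₀ - 1 + ((n + 1 : ℕ) : ℤ)) (i₀ - 1 + (n : ℤ))).X₂ :=
        hM _
      have h3 : ModSite.IsFlat (cyclesSC M (i₀ - 1 + ((n + 1 : ℕ) : ℤ)) (i₀ - 1 + (n : ℤ))).X₃ :=
        ih
      exact main9083 O (cyclesSC M (i₀ - 1 + ((n + 1 : ℕ) : ℤ)) (i₀ - 1 + (n : ℤ))) hse h2 h3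
  by_cases hi : i < i₀
  · exact hzero i hi
  · have : i = i₀ - 1 + ((i - i₀ + 1).toNat : ℤ) := by
      rw [Int.toNat_of_nonneg (by omega)]
      ring
    rw [this]
    exact hind _

theorem main6149 (M : ChainComplex (ModSite.Mod O) ℤ) (F : ModSite.Mod O)
    [((ModSite.tensorBi O).flip.obj F).PreservesZeroMorphisms]
    (hb : ∃ i₀ : ℤ, ∀ i, i < i₀ → IsZero (M.X i)) (hM : ∀ i, ModSite.IsFlat (M.X i))
    (hac : M.Acyclic) :
    ((((ModSite.tensorBi O).flip.obj F).mapHomologicalComplex (ComplexShape.down ℤ)).obj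
      M).Acyclic := by
  have hfl := isFlat_cycles_of_boundedBelow O M hb hM hac
  have hrel : ∀ i : ℤ, (ComplexShape.down ℤ).Rel i ((ComplexShape.down ℤ).next i) := by
    intro i
    rw [ChainComplex.next]
    simp
  have hse : ∀ i : ℤ, (cyclesSC M i ((ComplexShape.down ℤ).next i)).ShortExact := fun i =>
    cyclesSC_shortExact M _ _ (hrel i) (hac _)
  have : (TR O F).PreservesEpimorphisms := inferInstance
  exact acyclic_map_of_cycles (TR O F) M hac
    (fun i => mono_TR_map_of_isFlat O (hse i) (hfl _) F)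
    (fun i => (main9081 O _ (hse i) (hfl _) F).exact)

end Groth.Agent.Helper17.MT
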