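import Mathlib
import Groth.Prelude.Def_ModSite
import Groth.Agent.Lib.Helper17.MT19
import Groth.Agent.Lib.Helper17.MT9

/-!
# Free modules on a topologically generating family are separating; sections of the internal hom
-/

open CategoryTheory Limits MonoidalCategory Opposite DirectSum

namespace Groth.Agent.Helper17.MT

universe u

variable {C : Type u} [SmallCategory C] {J : GrothendieckTopology C} (O : Sheaf J CommRingCat.{u})

theorem isSeparated_val' (N : ModSite.Mod O) :
    Presieve.IsSeparated J (N.val.presheaf ⋙ forget Ab) :=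
  ((isSheaf_iff_isSheaf_of_type _ _).mp
    ((Presheaf.isSheaf_iff_isSheaf_forget J N.val.presheaf (forget Ab)).mp
      N.isSheaf)).isSeparated

theorem main6152 (G : Set C)
    (hG : ∀ X : C, ∃ (ι : Type u) (Y : ι → C) (f : ∀ i, Y i ⟶ X),
      Sieve.ofArrows Y f ∈ J X ∧ ∀ i, Y i ∈ G) :
    (ObjectProperty.ofObj fun X : G => ModSite.freeOn O (X : C)).IsDetecting ∧
    (ObjectProperty.ofObj fun X : G => ModSite.freeOn O (X : C)).IsSeparating := by
  have hsep : (ObjectProperty.ofObj fun X : G => ModSite.freeOn O (X : C)).IsSeparating := by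
    intro M N f g h
    have key : ∀ (X : C), X ∈ G → ∀ s : M.val.obj (op X),
        f.val.app (op X) s = g.val.app (op X) s := by
      intro X hX s
      have h1 := h _ (ObjectProperty.ofObj.mk (⟨X, hX⟩ : G)) ((freeOnHomEquiv O X M).symm s)
      have h2 := congrArg (freeOnHomEquiv O X N) h1
      rw [freeOnHomEquiv_comp, freeOnHomEquiv_comp, Equiv.apply_symm_apply] at h2
      exact h2
    apply (SheafOfModules.forget _).map_injective
    apply (PresheafOfModules.toPresheaf _).map_injective
    ext W s
    obtain ⟨ι, Y, φ, hcov, hY⟩ := hG W.unop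
    refine (isSeparated_val' O N _ hcov).ext (fun Z k hk => ?_)
    rw [Sieve.mem_ofArrows_iff] at hk
    obtain ⟨i, a, rfl⟩ := hk
    have e1 := key (Y i) (hY i) (M.val.map (φ i).op s)
    have n1 := PresheafOfModules.naturality_apply f.val (φ i).op s
    have n2 := PresheafOfModules.naturality_apply g.val (φ i).op s
    have e2 : N.val.map (φ i).op (f.val.app W s) = N.val.map (φ i).op (g.val.app W s) :=
      n1.symm.trans (e1.trans n2)
    have e3 := congrArg (N.val.map a.op) e2
    rw [← PresheafOfModules.map_comp_apply, ← PresheafOfModules.map_comp_apply] at e3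
    exact e3
  exact ⟨hsep.isDetecting, hsep⟩

/-- `Hom(j_! O_U, M) ≃+ M(U)` -/
noncomputable def freeOnAddEquiv (U : C) (M : ModSite.Mod O) :
    (ModSite.freeOn O U ⟶ M) ≃+ M.val.obj (op U) :=
  { freeOnHomEquiv O U M with
    map_add' := fun f g => by
      change freeOnHomEquiv O U M (f + g) = freeOnHomEquiv O U M f + freeOnHomEquiv O U M g
      rw [freeOnHomEquiv_apply, freeOnHomEquiv_apply, freeOnHomEquiv_apply]
      rfl }

/-- precomposition with an isomorphism, additively -/
def isoHomAddEquiv {𝒜 : Type*} [Category 𝒜] [Preadditive 𝒜] {A B : 𝒜} (e : A ≅ B) (N : 𝒜) :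
    (A ⟶ N) ≃+ (B ⟶ N) where
  toFun f := e.inv ≫ f
  invFun g := e.hom ≫ g
  left_inv f := by simp
  right_inv g := by simp
  map_add' f g := Preadditive.comp_add _ _ _ _ _ _

instance additive_restr (U : C) : (ModSite.restr O U).Additive where

instance additive_extZero (U : C) : (ModSite.extZero O U).Additive :=
  (ModSite.extZeroAdj O U).left_adjoint_additive

theorem main6170 (M N : ModSite.Mod O) [ModSite.HasSheafHom M] (X : C) :
    Nonempty (ModSite.sect ((ModSite.sheafHom M).obj N) X ≃+
      ((ModSite.restr O X).obj M ⟶ (ModSite.restr O X).obj N)) := by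
  obtain ⟨e⟩ := main6155 O X M
  have : (TR O M).Additive := additive_TR O M
  exact ⟨(freeOnAddEquiv O X ((ModSite.sheafHom M).obj N)).symm.trans
    ((((ModSite.sheafHomAdj M).homAddEquiv (ModSite.freeOn O X) N).symm).trans
      ((isoHomAddEquiv e N).trans
        ((ModSite.extZeroAdj O X).homAddEquiv ((ModSite.restr O X).obj M) N)))⟩

end Groth.Agent.Helper17.MT
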