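import Mathlib
import Groth.Prelude.Def_ModSite
import Groth.Agent.Lib.Helper17.MT20
import Groth.Agent.Lib.Helper17.MT16

/-!
# Equational criterion of flatness on a site with a terminal object (forward direction)
-/

open CategoryTheory Limits MonoidalCategory Opposite

namespace Groth.Agent.Helper17.MT

universe u

variable {C : Type u} [SmallCategory C] {J : GrothendieckTopology C} (O : Sheaf J CommRingCat.{u})

section Elements

/-- the image in the sheafified tensor product of a tensor of local sections -/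
theorem TR_map_η_apply (N : ModSite.Mod O) {M M' : ModSite.Mod O} (φ : M ⟶ M') (V : C)
    (z : ((fgt O).obj M ⊗ (fgt O).obj N : PSh O).obj (op V)) :
    ((TR O N).map φ).val.app (op V) ((η O _).app (op V) z) =
      (η O _).app (op V) (((fgt O).map φ ▷ (fgt O).obj N).app (op V) z) := by
  have h := congrArg (fun k => (k.app (op V)) z) (η_naturality O ((fgt O).map φ ▷ (fgt O).obj N))
  exact h.symm

theorem η_unitor (N : ModSite.Mod O) :
    η O (𝟙_ (PSh O) ⊗ (fgt O).obj N) ≫ (fgt O).map ((shf O).map (λ_ ((fgt O).obj N)).hom ≫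
      (shfAdj O).counit.app N) = (λ_ ((fgt O).obj N)).hom := by
  have h2 : η O ((fgt O).obj N) ≫ (fgt O).map ((shfAdj O).counit.app N) = 𝟙 _ :=
    (shfAdj O).right_triangle_components N
  have h3 := η_naturality O (λ_ ((fgt O).obj N)).hom
  rw [Functor.map_comp, ← Category.assoc]
  refine (congrArg (· ≫ _) h3.symm).trans ?_
  rw [Category.assoc]
  exact (congrArg (_ ≫ ·) h2).trans (Category.comp_id _)

theorem TLunitIso_hom_app (N : ModSite.Mod O) :
    (TLunitIso O).hom.app N = (shf O).map (λ_ ((fgt O).obj N)).hom ≫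
      (shfAdj O).counit.app N := by
  simp [TLunitIso, TLdefIso, fgtShfIso, shfAdj]
  exact Category.id_comp _

theorem unitor_η_apply (N : ModSite.Mod O) (V : C) (a : O.obj.obj (op V)) (t : N.val.obj (op V)) :
    ((TLunitIso O).hom.app N).val.app (op V)
      ((η O ((fgt O).obj (ModSite.unit O) ⊗ (fgt O).obj N)).app (op V)
        (a ⊗ₜ[O.obj.obj (op V)] t)) = a • t := by
  have h := congrArg (fun k => (k.app (op V)) (a ⊗ₜ[O.obj.obj (op V)] t)) (η_unitor O N)
  rw [TLunitIso_hom_app]
  refine Eq.trans ?_ (h.trans ?_)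
  · rfl
  · exact ModuleCat.MonoidalCategory.leftUnitor_hom_apply a t

end Elements

section Terminal

variable {X₀ : C} (hX : IsTerminal X₀)

/-- a section over the terminal object gives a global section -/
noncomputable def sectionsOfTerminal (P : PSh O) (p : P.obj (op X₀)) : P.sections :=
  PresheafOfModules.sectionsMk (fun Y => P.map (hX.from Y.unop).op p)
    (fun Y Y' k => by
      have hk : (hX.from Y.unop).op ≫ k = (hX.from Y'.unop).op := by
        apply Quiver.Hom.unop_inj
        exact hX.hom_ext _ _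
      rw [← PresheafOfModules.map_comp_apply]
      exact PresheafOfModules.congr_map_apply P hk p)

/-- the morphism `O ⟶ M` attached to a section of `M` over the terminal object -/
noncomputable def homOfSection (M : ModSite.Mod O) (p : M.val.obj (op X₀)) :
    ModSite.unit O ⟶ M :=
  (SheafOfModules.unitHomEquiv M).symm (sectionsOfTerminal O hX M.val p)

theorem homOfSection_app_one (M : ModSite.Mod O) (p : M.val.obj (op X₀)) (V : C) :
    (homOfSection O hX M p).val.app (op V) (1 : (ModSite.ringSh O).obj.obj (op V)) =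
      M.val.map (hX.from V).op p := by
  have h := SheafOfModules.unitHomEquiv_apply_coe M (homOfSection O hX M p) (op V)
  rw [← h]
  unfold homOfSection
  rw [Equiv.apply_symm_apply]
  rfl

theorem unit_app_one (M : ModSite.Mod O) (σ : ModSite.unit O ⟶ M) (V : C) :
    σ.val.app (op V) (1 : (ModSite.ringSh O).obj.obj (op V)) =
      M.val.map (hX.from V).op (σ.val.app (op X₀) (1 : (ModSite.ringSh O).obj.obj (op X₀))) := by
  have h := PresheafOfModules.sections_property (SheafOfModules.unitHomEquiv M σ)
    (hX.from V).op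
  exact h.symm

include hX in
theorem unit_hom_ext (M : ModSite.Mod O) (σ τ : ModSite.unit O ⟶ M)
    (h : σ.val.app (op X₀) (1 : (ModSite.ringSh O).obj.obj (op X₀)) =
      τ.val.app (op X₀) (1 : (ModSite.ringSh O).obj.obj (op X₀))) : σ = τ := by
  apply (SheafOfModules.unitHomEquiv M).injective
  apply PresheafOfModules.sections_ext
  intro Y
  change σ.val.app Y (1 : (ModSite.ringSh O).obj.obj Y) = τ.val.app Y (1 : (ModSite.ringSh O).obj.obj Y)
  have h1 := unit_app_one O hX M σ Y.unop
  have h2 := unit_app_one O hX M τ Y.unop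
  exact h1.trans ((congrArg _ h).trans h2.symm)

end Terminal

section Forward

theorem exists_fin_sum_tmul {R M N : Type*} [CommRing R] [AddCommGroup M] [Module R M]
    [AddCommGroup N] [Module R N] (z : TensorProduct R M N) :
    ∃ (l : ℕ) (κ : Fin l → M) (t : Fin l → N), z = ∑ k, κ k ⊗ₜ[R] t k := by
  obtain ⟨S, hS⟩ := TensorProduct.exists_finset z
  refine ⟨S.card, fun k => (S.equivFin.symm k).1.1, fun k => (S.equivFin.symm k).1.2, ?_⟩
  rw [hS, ← Finset.sum_coe_sort S]
  exact (Fintype.sum_equiv S.equivFin.symm _ _ (fun _ => rfl)).symm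

theorem isLocallySurjective_η (P : PSh O) :
    Presheaf.IsLocallySurjective J ((PresheafOfModules.toPresheaf _).map (η O P)) := by
  change Presheaf.IsLocallySurjective J (toSheafify J _)
  infer_instance

variable {X₀ : C} (hX : IsTerminal X₀)

/-- multiplication by a global function -/
theorem mul_hom_apply (a : O.obj.obj (op X₀)) (N : ModSite.Mod O) (V : C) (t : N.val.obj (op V)) :
    ((TLunitIso O).hom.app N).val.app (op V)
      (((TR O N).map (homOfSection O hX (ModSite.unit O) a)).val.app (op V)
        (((TLunitIso O).inv.app N).val.app (op V) t)) =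
      ((O.obj.map (hX.from V).op).hom a) • t := by
  let y := (η O ((fgt O).obj (ModSite.unit O) ⊗ (fgt O).obj N)).app (op V)
    ((1 : O.obj.obj (op V)) ⊗ₜ[O.obj.obj (op V)] t)
  have h1 : ((TLunitIso O).hom.app N).val.app (op V) y = t :=
    (unitor_η_apply O N V 1 t).trans (one_smul _ t)
  have h2 : ((TLunitIso O).inv.app N).val.app (op V) t = y := by
    have h := congrArg (fun k => k.val.app (op V) y) ((TLunitIso O).hom_inv_id_app N)
    refine Eq.trans ?_ h
    exact congrArg _ h1.symm
  rw [h2]
  refine (congrArg _ (TR_map_η_apply O N (homOfSection O hX (ModSite.unit O) a) V _)).trans ?_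
  have h3 : ((fgt O).map (homOfSection O hX (ModSite.unit O) a) ▷ (fgt O).obj N).app (op V)
      ((1 : O.obj.obj (op V)) ⊗ₜ[O.obj.obj (op V)] t) =
      ((O.obj.map (hX.from V).op).hom a) ⊗ₜ[O.obj.obj (op V)] t := by
    rw [PresheafOfModules.whiskerRight_app]
    erw [ModuleCat.MonoidalCategory.whiskerRight_apply]
    congr 1
    exact homOfSection_app_one O hX (ModSite.unit O) a V
  rw [h3]
  exact unitor_η_apply O N V _ t

/-- value of `TR φ ≫ λ` on a tensor of local sections -/
theorem TR_unitor_apply (N : ModSite.Mod O) {M : ModSite.Mod O} (φ : M ⟶ ModSite.unit O) (V : C)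
    (κ : M.val.obj (op V)) (t : N.val.obj (op V)) :
    ((TLunitIso O).hom.app N).val.app (op V) (((TR O N).map φ).val.app (op V)
      ((η O ((fgt O).obj M ⊗ (fgt O).obj N)).app (op V) (κ ⊗ₜ[O.obj.obj (op V)] t))) =
      (show O.obj.obj (op V) from φ.val.app (op V) κ) • t := by
  refine (congrArg _ (TR_map_η_apply O N φ V _)).trans ?_
  have h3 : ((fgt O).map φ ▷ (fgt O).obj N).app (op V) (κ ⊗ₜ[O.obj.obj (op V)] t) =
      (show O.obj.obj (op V) from φ.val.app (op V) κ) ⊗ₜ[O.obj.obj (op V)] t := by
    rw [PresheafOfModules.whiskerRight_app]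
    erw [ModuleCat.MonoidalCategory.whiskerRight_apply]
    rfl
  rw [h3]
  exact unitor_η_apply O N V _ t

/-- evaluation at `1` as an additive map -/
noncomputable def evalOne (M : ModSite.Mod O) (V : C) :
    (ModSite.unit O ⟶ M) →+ M.val.obj (op V) where
  toFun σ := σ.val.app (op V) (1 : (ModSite.ringSh O).obj.obj (op V))
  map_zero' := rfl
  map_add' := fun _ _ => rfl

/-- application of a morphism at local sections as an additive map in the morphism -/
noncomputable def appHom (M M' : ModSite.Mod O) (V : C) (x : M.val.obj (op V)) :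
    (M ⟶ M') →+ M'.val.obj (op V) where
  toFun σ := σ.val.app (op V) x
  map_zero' := rfl
  map_add' := fun _ _ => rfl

include hX in
theorem equational_of_isFlat_terminal (F : ModSite.Mod O) (hF : ModSite.IsFlat F) {n : ℕ}
    (f : Fin n → O.obj.obj (op X₀)) (s : Fin n → ModSite.sect F X₀)
    (hrel : ∑ j, f j • s j = 0) :
    ∃ S ∈ J X₀, ∀ ⦃V : C⦄ (g : V ⟶ X₀), S g →
      ∃ (l : ℕ) (t : Fin l → ModSite.sect F V) (a : Fin n → Fin l → O.obj.obj (op V)),
        (∀ j, (F.val.map g.op).hom (s j) = ∑ k, a j k • t k) ∧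
        (∀ k, ∑ j, a j k * (O.obj.map g.op).hom (f j) = 0) := by
  classical
  have hfb : HasFiniteBiproducts (ModSite.Mod O) := Abelian.hasFiniteBiproducts
  let u : ModSite.Mod O := ModSite.unit O
  let fh : Fin n → (u ⟶ u) := fun j => homOfSection O hX u (f j)
  let sh : Fin n → (u ⟶ F) := fun j => homOfSection O hX F (s j)
  let B : ModSite.Mod O := ⨁ (fun _ : Fin n => u)
  let θ : B ⟶ u := biproduct.desc fh
  let lam : (TR O F).obj u ⟶ F := (TLunitIso O).hom.app F
  let lami : F ⟶ (TR O F).obj u := (TLunitIso O).inv.app F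
  have hli : lami ≫ lam = 𝟙 _ := (TLunitIso O).inv_hom_id_app F
  have hil : lam ≫ lami = 𝟙 _ := (TLunitIso O).hom_inv_id_app F
  have hTRadd : (TR O F).Additive := additive_TR O F
  let stot : u ⟶ (TR O F).obj B :=
    ∑ j, sh j ≫ lami ≫ (TR O F).map (biproduct.ι (fun _ : Fin n => u) j)
  have hstot_π : ∀ j, stot ≫ (TR O F).map (biproduct.π (fun _ : Fin n => u) j) =
      sh j ≫ lami := by
    intro j
    change (∑ i, sh i ≫ lami ≫ (TR O F).map (biproduct.ι (fun _ : Fin n => u) i)) ≫ _ = _
    rw [Preadditive.sum_comp, Finset.sum_eq_single j]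
    · rw [Category.assoc, Category.assoc, ← Functor.map_comp, biproduct.ι_π_self,
        CategoryTheory.Functor.map_id, Category.comp_id]
    · intro i _ hij
      rw [Category.assoc, Category.assoc, ← Functor.map_comp, biproduct.ι_π_ne _ hij,
        Functor.map_zero, comp_zero, comp_zero]
    · intro h
      exact absurd (Finset.mem_univ j) h
  have hid : hX.from X₀ = 𝟙 X₀ := hX.hom_ext _ _
  have hs : stot ≫ (TR O F).map θ = 0 := by
    have h1 : stot ≫ (TR O F).map θ = ∑ i, sh i ≫ lami ≫ (TR O F).map (fh i) := by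
      change (∑ i, sh i ≫ lami ≫ (TR O F).map (biproduct.ι (fun _ : Fin n => u) i)) ≫ _ = _
      rw [Preadditive.sum_comp]
      refine Finset.sum_congr rfl (fun i _ => ?_)
      rw [Category.assoc, Category.assoc, ← Functor.map_comp, biproduct.ι_desc]
    rw [h1, ← cancel_mono lam, zero_comp, Preadditive.sum_comp]
    apply unit_hom_ext O hX
    change evalOne O F X₀ (∑ i, (sh i ≫ lami ≫ (TR O F).map (fh i)) ≫ lam) = evalOne O F X₀ 0
    rw [map_sum, map_zero]
    refine Eq.trans (Finset.sum_congr rfl (fun i _ => ?_)) hrel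
    change lam.val.app (op X₀) (((TR O F).map (fh i)).val.app (op X₀)
      (lami.val.app (op X₀) ((sh i).val.app (op X₀)
        (1 : (ModSite.ringSh O).obj.obj (op X₀))))) = f i • s i
    rw [homOfSection_app_one]
    refine (mul_hom_apply O hX (f i) F X₀ _).trans ?_
    rw [hid]
    have e1 : (O.obj.map (𝟙 X₀).op).hom (f i) = f i := by
      rw [op_id, O.obj.map_id]
      rfl
    have e2 : F.val.map (𝟙 X₀).op (s i) = s i :=
      (PresheafOfModules.congr_map_apply F.val (op_id) (s i)).trans
        (CategoryTheory.congr_fun (F.val.presheaf.map_id _) (s i))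
    rw [e1]
    exact congrArg _ e2
  have hpl : PreservesFiniteLimits (TR O F) := hF.1
  let K : ModSite.Mod O := kernel θ
  let ι : K ⟶ B := kernel.ι θ
  obtain ⟨σ, hσ⟩ : ∃ σ : u ⟶ (TR O F).obj K, σ ≫ (TR O F).map ι = stot := by
    have : PreservesLimit (parallelPair θ 0) (TR O F) := inferInstance
    refine ⟨kernel.lift ((TR O F).map θ) stot hs ≫ (PreservesKernel.iso (TR O F) θ).inv, ?_⟩
    have h1 : (PreservesKernel.iso (TR O F) θ).inv ≫ (TR O F).map ι =
        kernel.ι ((TR O F).map θ) := by
      rw [Iso.inv_comp_eq, PreservesKernel.iso_hom]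
      exact (kernelComparison_comp_ι θ (TR O F)).symm
    rw [Category.assoc, h1, kernel.lift_ι]
  let σ₀ := σ.val.app (op X₀) (1 : (ModSite.ringSh O).obj.obj (op X₀))
  have hls := isLocallySurjective_η O ((fgt O).obj K ⊗ (fgt O).obj F)
  refine ⟨_, Presheaf.imageSieve_mem J
    ((PresheafOfModules.toPresheaf _).map (η O ((fgt O).obj K ⊗ (fgt O).obj F))) σ₀, ?_⟩
  intro V g hg
  obtain ⟨z, hz⟩ := hg
  obtain ⟨l, κ, t, hzt⟩ := exists_fin_sum_tmul z
  refine ⟨l, t, fun j k => (ι ≫ biproduct.π (fun _ : Fin n => u) j).val.app (op V) (κ k), ?_, ?_⟩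
  · intro j
    let φ : K ⟶ u := ι ≫ biproduct.π (fun _ : Fin n => u) j
    have h1 : σ ≫ (TR O F).map φ ≫ lam = sh j := by
      change σ ≫ (TR O F).map (ι ≫ biproduct.π (fun _ : Fin n => u) j) ≫ lam = sh j
      rw [Functor.map_comp, Category.assoc, ← Category.assoc σ, hσ, ← Category.assoc, hstot_π,
        Category.assoc, hli, Category.comp_id]
    have hg : g = hX.from V := hX.hom_ext _ _
    have h2 : (sh j).val.app (op V) (1 : (ModSite.ringSh O).obj.obj (op V)) =
        F.val.map g.op (s j) := by
      rw [hg]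
      exact homOfSection_app_one O hX F (s j) V
    have h3 : σ.val.app (op V) (1 : (ModSite.ringSh O).obj.obj (op V)) =
        (η O ((fgt O).obj K ⊗ (fgt O).obj F)).app (op V) z := by
      rw [unit_app_one O hX _ σ V, ← hg]
      exact hz.symm
    have h4 : (sh j).val.app (op V) (1 : (ModSite.ringSh O).obj.obj (op V)) =
        lam.val.app (op V) (((TR O F).map φ).val.app (op V)
          (σ.val.app (op V) (1 : (ModSite.ringSh O).obj.obj (op V)))) := by
      rw [← h1]
      rfl
    refine h2.symm.trans (h4.trans ?_)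
    rw [h3, hzt]
    refine (congrArg _ (congrArg _ (map_sum _ _ _))).trans
      ((congrArg _ (map_sum _ _ _)).trans ((map_sum _ _ _).trans ?_))
    exact Finset.sum_congr rfl (fun k _ => TR_unitor_apply O F φ V (κ k) (t k))
  · intro k
    have hg : g = hX.from V := hX.hom_ext _ _
    have hθ : ι ≫ θ = ∑ j, (ι ≫ biproduct.π (fun _ : Fin n => u) j) ≫ fh j := by
      change ι ≫ biproduct.desc fh = _
      rw [biproduct.desc_eq, Preadditive.comp_sum]
      exact Finset.sum_congr rfl (fun j _ => (Category.assoc _ _ _).symm)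
    have h0 : appHom O K u V (κ k) (ι ≫ θ) = 0 := by
      have : ι ≫ θ = 0 := kernel.condition θ
      rw [this, map_zero]
    rw [hθ, map_sum] at h0
    refine Eq.trans (Finset.sum_congr rfl (fun j _ => ?_)) h0
    change (show O.obj.obj (op V) from
        (ι ≫ biproduct.π (fun _ : Fin n => u) j).val.app (op V) (κ k)) *
        (O.obj.map g.op).hom (f j) = (fh j).val.app (op V)
      ((ι ≫ biproduct.π (fun _ : Fin n => u) j).val.app (op V) (κ k))
    generalize (ι ≫ biproduct.π (fun _ : Fin n => u) j).val.app (op V) (κ k) = a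
    have h1 : (fh j).val.app (op V) (1 : (ModSite.ringSh O).obj.obj (op V)) =
        (O.obj.map g.op).hom (f j) := by
      rw [hg]
      exact homOfSection_app_one O hX u (f j) V
    have h2 := ((fh j).val.app (op V)).hom.map_smul
      (show (ModSite.ringSh O).obj.obj (op V) from a)
      (show u.val.obj (op V) from (1 : (ModSite.ringSh O).obj.obj (op V)))
    have h3 : (show (ModSite.ringSh O).obj.obj (op V) from a) •
        (show u.val.obj (op V) from (1 : (ModSite.ringSh O).obj.obj (op V))) = a :=
      mul_one (show (ModSite.ringSh O).obj.obj (op V) from a)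
    rw [h3] at h2
    refine Eq.trans ?_ h2.symm
    refine (congrArg (fun y => (show (ModSite.ringSh O).obj.obj (op V) from a) * y) h1.symm).trans ?_
    rfl

end Forward

section General

/-- forward direction of the equational criterion of flatness on a ringed site -/
theorem equational_of_isFlat (F : ModSite.Mod O) (hF : ModSite.IsFlat F) (U : C) (n : ℕ)
    (f : Fin n → O.obj.obj (op U)) (s : Fin n → ModSite.sect F U)
    (hrel : ∑ j, f j • s j = 0) :
    ∃ S ∈ J U, ∀ ⦃V : C⦄ (g : V ⟶ U), S g →
      ∃ (l : ℕ) (t : Fin l → ModSite.sect F V) (a : Fin n → Fin l → O.obj.obj (op V)),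
        (∀ j, (F.val.map g.op).hom (s j) = ∑ k, a j k • t k) ∧
        (∀ k, ∑ j, a j k * (O.obj.map g.op).hom (f j) = 0) := by
  have hF' : ModSite.IsFlat ((ModSite.restr O U).obj F) := main6147 O U F hF
  obtain ⟨S, hS, h⟩ := equational_of_isFlat_terminal (O.over U) (X₀ := Over.mk (𝟙 U))
    Over.mkIdTerminal ((ModSite.restr O U).obj F) hF' f s hrel
  refine ⟨Sieve.overEquiv _ S, (J.mem_over_iff S).mp hS, ?_⟩
  intro V g hg
  have hg' := (Sieve.overEquiv_iff S g).mp hg
  obtain ⟨l, t, a, h1, h2⟩ := h _ hg'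
  exact ⟨l, t, a, h1, h2⟩

end General

end Groth.Agent.Helper17.MT
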