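import Mathlib
import Groth.Prelude.Def_ModSite
import Groth.Agent.Lib.Helper17.MT22

/-!
# Equational criterion of flatness: several relations at once, and the converse
-/

open CategoryTheory Limits MonoidalCategory Opposite

namespace Groth.Agent.Helper17.MT

universe u

variable {C : Type u} [SmallCategory C] {J : GrothendieckTopology C} (O : Sheaf J CommRingCat.{u})

/-- the equational condition for flatness -/
def EqProp (F : ModSite.Mod O) : Prop :=
  ∀ (U : C) (n : ℕ) (f : Fin n → O.obj.obj (op U)) (s : Fin n → ModSite.sect F U),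
    ∑ j, f j • s j = 0 →
    ∃ S ∈ J U, ∀ ⦃V : C⦄ (g : V ⟶ U), S g →
      ∃ (l : ℕ) (t : Fin l → ModSite.sect F V) (a : Fin n → Fin l → O.obj.obj (op V)),
        (∀ j, (F.val.map g.op).hom (s j) = ∑ k, a j k • t k) ∧
        (∀ k, ∑ j, a j k * (O.obj.map g.op).hom (f j) = 0)

variable {O}

section Res

variable (F : ModSite.Mod O) {U V W : C} (g : V ⟶ U) (h : W ⟶ V)

/-- restriction of sections -/
noncomputable def res (x : ModSite.sect F U) : ModSite.sect F V := (F.val.map g.op).hom x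

/-- restriction of functions -/
noncomputable def rres (a : O.obj.obj (op U)) : O.obj.obj (op V) := (O.obj.map g.op).hom a

theorem res_smul (a : O.obj.obj (op U)) (x : ModSite.sect F U) :
    res F g (a • x) = rres g a • res F g x :=
  PresheafOfModules.map_smul F.val g.op a x

theorem res_add (x y : ModSite.sect F U) : res F g (x + y) = res F g x + res F g y :=
  map_add (F.val.map g.op).hom x y

theorem res_zero : res F g (0 : ModSite.sect F U) = 0 :=
  map_zero (F.val.map g.op).hom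

theorem res_sum {ι : Type*} (s : Finset ι) (x : ι → ModSite.sect F U) :
    res F g (∑ i ∈ s, x i) = ∑ i ∈ s, res F g (x i) :=
  map_sum (F.val.map g.op).hom x s

theorem res_comp (x : ModSite.sect F U) :
    res F (h ≫ g) x = res F h (res F g x) :=
  (PresheafOfModules.congr_map_apply F.val (op_comp) x).trans
    (PresheafOfModules.map_comp_apply F.val g.op h.op x)

theorem rres_comp (a : O.obj.obj (op U)) :
    rres (h ≫ g) a = rres h (rres g a) := by
  unfold rres
  rw [op_comp, O.obj.map_comp]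
  rfl

theorem rres_mul (a b : O.obj.obj (op U)) : rres g (a * b) = rres g a * rres g b :=
  map_mul (O.obj.map g.op).hom a b

theorem rres_sum {ι : Type*} (s : Finset ι) (x : ι → O.obj.obj (op U)) :
    rres g (∑ i ∈ s, x i) = ∑ i ∈ s, rres g (x i) :=
  map_sum (O.obj.map g.op).hom x s

theorem rres_zero : rres g (0 : O.obj.obj (op U)) = 0 :=
  map_zero (O.obj.map g.op).hom

end Res

section Multi

variable (F : ModSite.Mod O)

/-- the equational condition for several relations at once -/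
def MultiProp (m : ℕ) : Prop :=
  ∀ (U : C) (n : ℕ) (A : Fin m → Fin n → O.obj.obj (op U)) (s : Fin n → ModSite.sect F U),
    (∀ i, ∑ j, A i j • s j = 0) →
    ∃ S ∈ J U, ∀ ⦃V : C⦄ (g : V ⟶ U), S g →
      ∃ (l : ℕ) (t : Fin l → ModSite.sect F V) (B : Fin n → Fin l → O.obj.obj (op V)),
        (∀ j, res F g (s j) = ∑ k, B j k • t k) ∧
        (∀ i k, ∑ j, B j k * rres g (A i j) = 0)

theorem multiProp_of_eqProp (hF : EqProp O F) : ∀ m, MultiProp F m := by
  intro m
  induction m with
  | zero =>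
    intro U n A s _
    refine ⟨⊤, J.top_mem U, fun V g _ => ⟨n, fun j => res F g (s j),
      fun j k => if j = k then 1 else 0, ?_, fun i => i.elim0⟩⟩
    intro j
    simp
  | succ m ih =>
    intro U n A s hrel
    obtain ⟨S₁, hS₁, h₁⟩ := hF U n (A 0) s (hrel 0)
    choose l₁ t₁ B₁ hB₁a hB₁b using h₁
    have hB₁a' : ∀ ⦃V : C⦄ (g : V ⟶ U) (hg : S₁ g) (j : Fin n),
        res F g (s j) = ∑ k, B₁ g hg j k • t₁ g hg k := fun V g hg j => hB₁a g hg j
    have hB₁b' : ∀ ⦃V : C⦄ (g : V ⟶ U) (hg : S₁ g) (k : Fin (l₁ g hg)),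
        ∑ j, B₁ g hg j k * rres g (A 0 j) = 0 := fun V g hg k => hB₁b g hg k
    let A' : ∀ ⦃V : C⦄ (g : V ⟶ U) (hg : S₁ g), Fin m → Fin (l₁ g hg) → O.obj.obj (op V) :=
      fun V g hg i k => ∑ j, B₁ g hg j k * rres g (A i.succ j)
    have rel' : ∀ ⦃V : C⦄ (g : V ⟶ U) (hg : S₁ g) (i : Fin m),
        ∑ k, A' g hg i k • t₁ g hg k = 0 := by
      intro V g hg i
      have h0 : res F g (∑ j, A i.succ j • s j) = 0 := by
        rw [hrel i.succ, res_zero]
      rw [res_sum] at h0
      simp_rw [res_smul, hB₁a' g hg, Finset.smul_sum, smul_smul] at h0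
      rw [Finset.sum_comm] at h0
      refine Eq.trans (Finset.sum_congr rfl (fun k _ => ?_)) h0
      rw [Finset.sum_smul]
      refine Finset.sum_congr rfl (fun j _ => ?_)
      rw [mul_comm]
    have h₂ := fun (V : C) (g : V ⟶ U) (hg : S₁ g) =>
      ih V (l₁ g hg) (A' g hg) (t₁ g hg) (rel' g hg)
    choose S₂ hS₂ h₂' using h₂
    refine ⟨Sieve.bind S₁ (fun V g hg => S₂ V g hg),
      J.bind_covering hS₁ (fun V g hg => hS₂ V g hg), ?_⟩
    intro W g hg
    obtain ⟨V₁, g₂, g₁, hg₁, hg₂, rfl⟩ := hg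
    obtain ⟨l₂, t₂, B₂, hB₂a, hB₂b⟩ := h₂' V₁ g₁ hg₁ g₂ hg₂
    refine ⟨l₂, t₂, fun j p => ∑ k, rres g₂ (B₁ g₁ hg₁ j k) * B₂ k p, ?_, ?_⟩
    · intro j
      rw [res_comp, hB₁a' g₁ hg₁, res_sum]
      simp_rw [res_smul, hB₂a, Finset.smul_sum, smul_smul]
      rw [Finset.sum_comm]
      refine Finset.sum_congr rfl (fun p _ => ?_)
      rw [Finset.sum_smul]
    · intro i p
      have key : ∑ j, (∑ k, rres g₂ (B₁ g₁ hg₁ j k) * B₂ k p) * rres (g₂ ≫ g₁) (A i j) =
          ∑ k, B₂ k p * rres g₂ (∑ j, B₁ g₁ hg₁ j k * rres g₁ (A i j)) := by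
        simp_rw [rres_comp, Finset.sum_mul, rres_sum, rres_mul, Finset.mul_sum]
        rw [Finset.sum_comm]
        refine Finset.sum_congr rfl (fun k _ => Finset.sum_congr rfl (fun j _ => ?_))
        ring
      rw [key]
      refine Fin.cases ?_ (fun i' => ?_) i
      · simp_rw [hB₁b' g₁ hg₁, rres_zero, mul_zero]
        exact Finset.sum_const_zero
      · exact hB₂b i' p

end Multi

section Algebra

open TensorProduct in
theorem exists_trivialization_with_extra {R M' N : Type*} [CommRing R] [AddCommGroup M']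
    [Module R M'] [AddCommGroup N] [Module R N] {n : ℕ} (x : Fin n → M') (y : Fin n → N)
    (h : ∑ j, x j ⊗ₜ[R] y j = 0) :
    ∃ (p q : ℕ) (x' : Fin p → M') (w : Fin q → N) (c₁ : Fin n → Fin q → R)
      (c₂ : Fin p → Fin q → R),
      (∀ j, y j = ∑ l, c₁ j l • w l) ∧ (∀ k, ∑ l, c₂ k l • w l = 0) ∧
      (∀ l, ∑ j, c₁ j l • x j + ∑ k, c₂ k l • x' k = 0) := by
  classical
  let P : Submodule R M' := Submodule.span R (Set.range x)
  have hP : P.FG := Submodule.fg_span (Set.finite_range x)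
  have hxP : ∀ j, x j ∈ P := fun j => Submodule.subset_span ⟨j, rfl⟩
  let t : P ⊗[R] N := ∑ j, (⟨x j, hxP j⟩ : P) ⊗ₜ[R] y j
  have ht : LinearMap.rTensor N P.subtype t = 0 := by
    simp only [t, map_sum, LinearMap.rTensor_tmul, Submodule.coe_subtype]
    exact h
  obtain ⟨Q, hPQ, hQ, hQ0⟩ := TensorProduct.eq_zero_of_fg_of_subtype_eq_zero hP ht
  obtain ⟨p, x'', hx''⟩ := Submodule.fg_iff_exists_fin_generating_family.mp hQ
  have hx''Q : ∀ k, x'' k ∈ Q := fun k => hx'' ▸ Submodule.subset_span ⟨k, rfl⟩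
  let X : Fin n ⊕ Fin p → Q := Sum.elim (fun j => ⟨x j, hPQ (hxP j)⟩) (fun k => ⟨x'' k, hx''Q k⟩)
  let Y : Fin n ⊕ Fin p → N := Sum.elim y (fun _ => 0)
  have hspan : Submodule.span R (Set.range X) = ⊤ := by
    apply Submodule.map_injective_of_injective (Submodule.injective_subtype Q)
    rw [Submodule.map_span, Submodule.map_top, Submodule.range_subtype, ← Set.range_comp]
    apply le_antisymm
    · rw [Submodule.span_le]
      rintro _ ⟨i, rfl⟩
      exact (X i).2
    · have hle : Submodule.span R (Set.range x'') ≤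
          Submodule.span R (Set.range (⇑Q.subtype ∘ X)) := by
        rw [Submodule.span_le]
        rintro _ ⟨k, rfl⟩
        exact Submodule.subset_span ⟨Sum.inr k, rfl⟩
      exact hx''.symm.le.trans hle
  have hsum : ∑ i, X i ⊗ₜ[R] Y i = (0 : Q ⊗[R] N) := by
    rw [Fintype.sum_sum_type]
    simp only [X, Y, Sum.elim_inl, Sum.elim_inr, tmul_zero, Finset.sum_const_zero, add_zero]
    have hQ0' := hQ0
    simp only [t, map_sum, LinearMap.rTensor_tmul] at hQ0'
    exact hQ0'
  obtain ⟨q, a, w, h1, h2⟩ := TensorProduct.vanishesTrivially_of_sum_tmul_eq_zero R hspan hsum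
  refine ⟨p, q, x'', w, fun j l => a (Sum.inl j) l, fun k l => a (Sum.inr k) l, ?_, ?_, ?_⟩
  · intro j
    exact h1 (Sum.inl j)
  · intro k
    exact (h1 (Sum.inr k)).symm
  · intro l
    have h3 := congrArg Q.subtype (h2 l)
    rw [map_sum, Fintype.sum_sum_type, map_zero] at h3
    simpa only [map_smul, X, Sum.elim_inl, Sum.elim_inr, Submodule.coe_subtype] using h3

end Algebra

section Converse

open TensorProduct in
theorem sum_tmul_eq_zero_of_data {R R' : Type*} [CommRing R] [CommRing R'] (ρ : R →+* R')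
    {M M' N M₁ M₁' N₁ : Type*} [AddCommGroup M] [AddCommGroup M'] [AddCommGroup N]
    [AddCommGroup M₁] [AddCommGroup M₁'] [AddCommGroup N₁]
    [Module R M] [Module R M'] [Module R N] [Module R' M₁] [Module R' M₁'] [Module R' N₁]
    (ι : M → M') (ι₁ : M₁ →ₗ[R'] M₁') (hinj : Function.Injective ι₁)
    (rM : M → M₁) (rM' : M' →ₛₗ[ρ] M₁') (rN : N →ₛₗ[ρ] N₁)
    (hnat : ∀ z, ι₁ (rM z) = rM' (ι z))
    {n p q r : ℕ} (m : Fin n → M) (y : Fin n → N) (x' : Fin p → M') (w : Fin q → N)
    (c₁ : Fin n → Fin q → R) (c₂ : Fin p → Fin q → R)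
    (hy : ∀ j, y j = ∑ l, c₁ j l • w l)
    (hx : ∀ l, ∑ j, c₁ j l • ι (m j) + ∑ k, c₂ k l • x' k = 0)
    (t : Fin r → N₁) (B : Fin q → Fin r → R')
    (hw : ∀ l, rN (w l) = ∑ e, B l e • t e)
    (hB : ∀ k e, ∑ l, B l e * ρ (c₂ k l) = 0) :
    ∑ j, rM (m j) ⊗ₜ[R'] rN (y j) = 0 := by
  let d : Fin n → Fin r → R' := fun j e => ∑ l, ρ (c₁ j l) * B l e
  have h1 : ∀ j, rN (y j) = ∑ e, d j e • t e := by
    intro j
    rw [hy, map_sum]
    simp_rw [LinearMap.map_smulₛₗ, hw, Finset.smul_sum, smul_smul]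
    rw [Finset.sum_comm]
    refine Finset.sum_congr rfl (fun e _ => ?_)
    rw [Finset.sum_smul]
  let μ : Fin r → M₁ := fun e => ∑ j, d j e • rM (m j)
  have h2 : ∑ j, rM (m j) ⊗ₜ[R'] rN (y j) = ∑ e, μ e ⊗ₜ[R'] t e := by
    have h : ∀ j, rM (m j) ⊗ₜ[R'] rN (y j) = ∑ e, (d j e • rM (m j)) ⊗ₜ[R'] t e := by
      intro j
      rw [h1, TensorProduct.tmul_sum]
      refine Finset.sum_congr rfl (fun e _ => ?_)
      rw [TensorProduct.smul_tmul]
    rw [Finset.sum_congr rfl (fun j _ => h j), Finset.sum_comm]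
    refine Finset.sum_congr rfl (fun e _ => ?_)
    rw [TensorProduct.sum_tmul]
  have h3 : ∀ e, μ e = 0 := by
    intro e
    apply hinj
    rw [map_zero]
    have hx' : ∀ l, ∑ j, ρ (c₁ j l) • rM' (ι (m j)) + ∑ k, ρ (c₂ k l) • rM' (x' k) = 0 := by
      intro l
      have := congrArg rM' (hx l)
      rw [map_add, map_sum, map_sum, map_zero] at this
      simp_rw [LinearMap.map_smulₛₗ] at this
      exact this
    have h4 : ∑ l, B l e • (∑ j, ρ (c₁ j l) • rM' (ι (m j)) +
        ∑ k, ρ (c₂ k l) • rM' (x' k)) = 0 := by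
      simp_rw [hx', smul_zero]
      exact Finset.sum_const_zero
    simp_rw [smul_add, Finset.smul_sum, smul_smul] at h4
    rw [Finset.sum_add_distrib] at h4
    have h5 : ∑ l, ∑ k, (B l e * ρ (c₂ k l)) • rM' (x' k) = 0 := by
      rw [Finset.sum_comm]
      refine Finset.sum_eq_zero (fun k _ => ?_)
      rw [← Finset.sum_smul, hB k e, zero_smul]
    rw [h5, add_zero] at h4
    refine Eq.trans ?_ h4
    change ι₁ (∑ j, d j e • rM (m j)) = _
    rw [map_sum, Finset.sum_comm]
    refine Finset.sum_congr rfl (fun j _ => ?_)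
    rw [map_smul, hnat, Finset.sum_smul]
    refine Finset.sum_congr rfl (fun l _ => ?_)
    rw [mul_comm]
  rw [h2]
  simp_rw [h3, TensorProduct.zero_tmul]
  exact Finset.sum_const_zero

/-- restriction as a semilinear map -/
noncomputable def resSL (F : ModSite.Mod O) {U V : C} (g : V ⟶ U) :
    ModSite.sect F U →ₛₗ[(O.obj.map g.op).hom] ModSite.sect F V where
  toFun := res F g
  map_add' := res_add F g
  map_smul' := res_smul F g

variable (O) in
theorem mono_shf_map_of_isLocallyInjective {X Y : PSh O} (g : X ⟶ Y)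
    [Presheaf.IsLocallyInjective J ((PresheafOfModules.toPresheaf _).map g)] :
    Mono ((shf O).map g) := by
  apply (SheafOfModules.toSheaf (ModSite.ringSh O)).mono_of_mono_map
  change Mono ((presheafToSheaf J AddCommGrpCat).map ((PresheafOfModules.toPresheaf _).map g))
  have := (Presheaf.isLocallyInjective_presheafToSheaf_map_iff J
    ((PresheafOfModules.toPresheaf _).map g)).mpr inferInstance
  exact Sheaf.mono_of_isLocallyInjective _

theorem injective_app_of_mono {G H : ModSite.Mod O} (i : G ⟶ H) [Mono i] (W : C) :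
    Function.Injective (i.val.app (op W)) := by
  have h1 : Mono ((fgt O).map i) := inferInstance
  have h2 : Mono ((PresheafOfModules.evaluation _ (op W)).map ((fgt O).map i)) := inferInstance
  exact (ModuleCat.mono_iff_injective _).mp h2

theorem isLocallyInjective_whiskerRight_of_eqProp (F : ModSite.Mod O) (hF : EqProp O F)
    {G H : ModSite.Mod O} (i : G ⟶ H) [Mono i] :
    Presheaf.IsLocallyInjective J
      ((PresheafOfModules.toPresheaf _).map ((fgt O).map i ▷ (fgt O).obj F)) := by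
  have hM := multiProp_of_eqProp F hF
  have key : ∀ (V : C) (z : TensorProduct (O.obj.obj (op V)) (((fgt O).obj G).obj (op V))
      (((fgt O).obj F).obj (op V))),
      LinearMap.rTensor (((fgt O).obj F).obj (op V)) (((fgt O).map i).app (op V)).hom z = 0 →
      Presheaf.equalizerSieve
        (F := (PresheafOfModules.toPresheaf _).obj ((fgt O).obj G ⊗ (fgt O).obj F))
        (X := op V) z 0 ∈ J V := by
    intro V z hz
    obtain ⟨n, m, y, rfl⟩ := exists_fin_sum_tmul z
    simp only [map_sum] at hz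
    obtain ⟨p, q, x', w, c₁, c₂, h1, h2, h3⟩ := exists_trivialization_with_extra _ _ hz
    obtain ⟨S, hS, hS'⟩ := hM p V q c₂ w h2
    refine J.superset_covering ?_ hS
    intro W g hg
    obtain ⟨r, t, B, hB1, hB2⟩ := hS' g hg
    change (((fgt O).obj G ⊗ (fgt O).obj F).map g.op).hom (∑ k, m k ⊗ₜ[O.obj.obj (op V)] y k) =
      (((fgt O).obj G ⊗ (fgt O).obj F).map g.op).hom 0
    rw [map_sum, map_zero]
    have h4 : ∀ k, (((fgt O).obj G ⊗ (fgt O).obj F).map g.op).hom (m k ⊗ₜ[O.obj.obj (op V)] y k) =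
        (res G g (m k)) ⊗ₜ[O.obj.obj (op W)] (res F g (y k)) := by
      intro k
      erw [PresheafOfModules.Monoidal.tensorObj_map_tmul]
      rfl
    rw [Finset.sum_congr rfl (fun k _ => h4 k)]
    exact sum_tmul_eq_zero_of_data (O.obj.map g.op).hom (i.val.app (op V)) (i.val.app (op W)).hom
      (injective_app_of_mono i W) (res G g) (resSL H g) (resSL F g)
      (fun z => (PresheafOfModules.naturality_apply i.val g.op z))
      m y x' w c₁ c₂ h1 h3 t B hB1 hB2
  constructor
  intro X x y h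
  have h' : LinearMap.rTensor (((fgt O).obj F).obj X) (((fgt O).map i).app X).hom x =
      LinearMap.rTensor (((fgt O).obj F).obj X) (((fgt O).map i).app X).hom y := h
  have h0 := key X.unop (x - y) ((map_sub _ x y).trans (sub_eq_zero.mpr h'))
  refine J.superset_covering ?_ h0
  intro V g hg
  have h3 := hg.trans (map_zero _)
  exact sub_eq_zero.mp ((map_sub _ x y).symm.trans h3)

theorem isFlat_of_eqProp (F : ModSite.Mod O) (hF : EqProp O F) : ModSite.IsFlat F := by
  apply isFlat_of_preservesMono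
  intro G H i hi
  rw [TR_map]
  have := isLocallyInjective_whiskerRight_of_eqProp F hF i
  exact mono_shf_map_of_isLocallyInjective O _

variable (O) in
theorem main9095 (F : ModSite.Mod O) :
    ModSite.IsFlat F ↔
      ∀ (U : C) (n : ℕ) (f : Fin n → O.obj.obj (op U)) (s : Fin n → ModSite.sect F U),
        ∑ j, f j • s j = 0 →
        ∃ S ∈ J U, ∀ ⦃V : C⦄ (g : V ⟶ U), S g →
          ∃ (l : ℕ) (t : Fin l → ModSite.sect F V) (a : Fin n → Fin l → O.obj.obj (op V)),
            (∀ j, (F.val.map g.op).hom (s j) = ∑ k, a j k • t k) ∧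
            (∀ k, ∑ j, a j k * (O.obj.map g.op).hom (f j) = 0) :=
  ⟨fun hF U n f s hrel => equational_of_isFlat O F hF U n f s hrel, fun h => isFlat_of_eqProp F h⟩

end Converse

end Groth.Agent.Helper17.MT
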