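import Mathlib
import Groth.Prelude.Def_ModSite
import Groth.Agent.Lib.Helper17.MT24

/-!
# Epimorphisms of sheaves of modules; restriction along `Over.map` is exact
-/

open CategoryTheory Limits MonoidalCategory Opposite

namespace Groth.Agent.Helper17.MT

universe u

section General

variable {C : Type u} [SmallCategory C] {J : GrothendieckTopology C} (R : Sheaf J RingCat.{u})

theorem preservesColimits_of_sheafification_comp {𝒟 : Type*} [Category 𝒟]
    (G : SheafOfModules.{u} R ⥤ 𝒟)
    [PreservesColimitsOfSize.{u, u} (PresheafOfModules.sheafification.{u} (𝟙 R.obj) ⋙ G)] :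
    PreservesColimitsOfSize.{u, u} G := by
  refine ⟨fun {K} _ => ⟨fun {F} => ?_⟩⟩
  let L := PresheafOfModules.sheafification.{u} (𝟙 R.obj)
  let G' : K ⥤ PresheafOfModules.{u} R.obj := F ⋙ SheafOfModules.forget R
  let e : F ≅ G' ⋙ L := Functor.isoWhiskerLeft F
    (asIso (PresheafOfModules.sheafificationAdjunction (𝟙 R.obj)).counit).symm
  have : PreservesColimitsOfSize.{u, u} L :=
    (PresheafOfModules.sheafificationAdjunction (𝟙 R.obj)).leftAdjoint_preservesColimits
  have : PreservesColimit (G' ⋙ L) G := by
    have hc := colimit.isColimit G'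
    have h1 : IsColimit (L.mapCocone (colimit.cocone G')) := isColimitOfPreserves L hc
    have h2 : IsColimit ((L ⋙ G).mapCocone (colimit.cocone G')) := isColimitOfPreserves _ hc
    exact preservesColimit_of_preserves_colimit_cocone h1 h2
  exact preservesColimit_of_iso_diagram _ e.symm

instance preservesColimits_toSheaf :
    PreservesColimitsOfSize.{u, u} (SheafOfModules.toSheaf.{u} R) := by
  have h1 : PreservesColimitsOfSize.{u, u} (PresheafOfModules.toPresheaf.{u} R.obj) :=
    inferInstance
  have h2 : PreservesColimitsOfSize.{u, u} (presheafToSheaf J AddCommGrpCat.{u}) :=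
    (sheafificationAdjunction J AddCommGrpCat.{u}).leftAdjoint_preservesColimits
  have h3 : PreservesColimitsOfSize.{u, u}
      (PresheafOfModules.toPresheaf.{u} R.obj ⋙ presheafToSheaf J AddCommGrpCat.{u}) :=
    inferInstance
  have : PreservesColimitsOfSize.{u, u}
      (PresheafOfModules.sheafification.{u} (𝟙 R.obj) ⋙ SheafOfModules.toSheaf.{u} R) := h3
  exact preservesColimits_of_sheafification_comp R _

variable {R}

theorem epi_iff_isLocallySurjective {N N' : SheafOfModules.{u} R} (p : N ⟶ N') :
    Epi p ↔ Sheaf.IsLocallySurjective ((SheafOfModules.toSheaf.{u} R).map p) := by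
  rw [Sheaf.isLocallySurjective_iff_epi']
  constructor
  · intro h
    infer_instance
  · intro h
    exact (SheafOfModules.toSheaf.{u} R).epi_of_epi_map h

end General

section OverMap

variable {C : Type u} [SmallCategory C] {J : GrothendieckTopology C} (R : Sheaf J RingCat.{u})
  {X Y : C} (g : Y ⟶ X)

/-- restriction of modules from `C/X` to `C/Y` along `g : Y ⟶ X` -/
noncomputable abbrev oM : SheafOfModules.{u} (R.over X) ⥤ SheafOfModules.{u} (R.over Y) :=
  SheafOfModules.overMap.{u} R g

set_option backward.isDefEq.respectTransparency.types false in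
instance isRightAdjoint_oM : (oM R g).IsRightAdjoint :=
  inferInstanceAs (SheafOfModules.pushforward.{u} (F := Over.map g)
    (Sheaf.pushforwardOverMapIso R g).inv).IsRightAdjoint

instance additive_oM : (oM R g).Additive where

theorem epi_oM_map {N N' : SheafOfModules.{u} (R.over X)} (p : N ⟶ N') [Epi p] :
    Epi ((oM R g).map p) := by
  have h : Sheaf.IsLocallySurjective ((SheafOfModules.toSheaf.{u} (R.over X)).map p) :=
    (epi_iff_isLocallySurjective p).mp inferInstance
  rw [epi_iff_isLocallySurjective]
  have h' : Presheaf.IsLocallySurjective (J.over X)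
      ((SheafOfModules.toSheaf.{u} (R.over X)).map p).hom := h
  exact Presheaf.isLocallySurjective_whisker (J.over Y) (J.over X) (Over.map g)
    ((SheafOfModules.toSheaf.{u} (R.over X)).map p).hom

instance preservesEpimorphisms_oM : (oM R g).PreservesEpimorphisms where
  preserves p _ := epi_oM_map R g p

instance preservesFiniteColimits_oM : PreservesFiniteColimits (oM R g) := by
  have hl : PreservesFiniteLimits (oM R g) := inferInstance
  rw [Functor.preservesFiniteColimits_iff_forall_exact_map_and_epi]
  intro S hS
  have := hS.epi_g
  have := hS.mono_f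
  refine ⟨?_, inferInstance⟩
  exact hS.exact.map_of_mono_of_preservesKernel (oM R g) inferInstance inferInstance

end OverMap

end Groth.Agent.Helper17.MT
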