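import Groth.Agent.Lib.Helper13.AffineVanish
import Groth.Prelude.Def_LocCohZ

/-!
# helper17: connecting maps of cohomology with supports on an affine scheme
-/

open CategoryTheory CategoryTheory.Limits TopologicalSpace AlgebraicGeometry Opposite
universe u

namespace Groth.Agent.Helper17.LZ

open LocCohZ

theorem delta_surjective {X : TopCat.{u}} (F : CohTop.Ab X) (i : ℕ) {W V : Opens X} (h : W ≤ V)
    (hV : Subsingleton (CohTop.HU F (i + 1) V)) :
    Function.Surjective (LocCohZ.delta F i h) := by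
  intro x₃
  have h0 : (Abelian.Ext.mk₀ (zqSeq h).g).comp x₃ (zero_add (i + 1)) = 0 :=
    Subsingleton.elim (α := CohTop.HU F (i + 1) V) _ _
  obtain ⟨x₁, hx₁⟩ := Abelian.Ext.contravariant_sequence_exact₃ (zqSeq_shortExact h) F x₃ h0
    (show 1 + i = i + 1 by omega)
  exact ⟨x₁, hx₁⟩

theorem delta_injective {X : TopCat.{u}} (F : CohTop.Ab X) (i : ℕ) {W V : Opens X} (h : W ≤ V)
    (hV : Subsingleton (CohTop.HU F i V)) :
    Function.Injective (LocCohZ.delta F i h) := by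
  rw [injective_iff_map_eq_zero]
  intro x₁ hx₁
  obtain ⟨x₂, hx₂⟩ := Abelian.Ext.contravariant_sequence_exact₁ (zqSeq_shortExact h) F x₁
    (show 1 + i = i + 1 by omega) hx₁
  have : x₂ = 0 := Subsingleton.elim (α := CohTop.HU F i V) _ _
  rw [← hx₂, this, Abelian.Ext.comp_zero]
  rfl

theorem main6031 (Y : Scheme.{u}) [IsAffine Y] (M : Y.Modules)
    (hM : Coh.IsQCoh M) (U : Y.Opens) :
    Function.Surjective (LocCohZ.delta (X := Y.carrier) (Coh.toAb M) 0 (le_top : U ≤ ⊤)) ∧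
      ∀ i : ℕ, 1 ≤ i →
        Function.Bijective (LocCohZ.delta (X := Y.carrier) (Coh.toAb M) i (le_top : U ≤ ⊤)) := by
  have hQ : M.IsQuasicoherent := hM
  have hv : ∀ p : ℕ, Subsingleton (CohTop.HU (X := Y.toTopCat) (Coh.toAb M) (p + 1) ⊤) := fun p =>
    Groth.Agent.Helper13.AffineVanish.HU_subsingleton_of_isAffineOpen M ⊤ (isAffineOpen_top Y) p
  refine ⟨delta_surjective _ 0 _ (hv 0), fun i hi => ⟨?_, delta_surjective _ i _ (hv i)⟩⟩
  obtain ⟨j, rfl⟩ : ∃ j, i = j + 1 := ⟨i - 1, by omega⟩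
  exact delta_injective _ (j + 1) _ (hv j)

end Groth.Agent.Helper17.LZ
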