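import Groth.Agent.Lib.Helper17.FCH4
import Groth.Agent.Lib.Helper17.LZ1
import Groth.Agent.Lib.Helper9.LocLES
import Groth.Agent.Lib.Helper13.AffineVanish
import Groth.Agent.S0464

/-!
# helper17: S6032 — cohomology with supports in `V(f)` of `M̃` on `Spec A` is the colimit of the
Koszul cohomologies
-/

set_option autoImplicit false
set_option linter.unusedSectionVars false
set_option linter.unusedVariables false

universe u

open CategoryTheory CategoryTheory.Limits Opposite TopologicalSpace AlgebraicGeometry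

namespace Groth.Agent.Helper17.FCH

open Groth.Agent.Helper24.CechEv Groth.Agent.Helper13.CechAcyc DerCA

section supp

variable {R : CommRingCat.{u}} (fs : List R) (N : ModuleCat.{u} R)

theorem iInf_Dv {n : ℕ} (a : Fin (n+1) → ULift.{u} (Fin fs.length)) :
    (iInf fun k => Dv fs (a k)) = bD (gA fs a) := by
  rw [← Va_Dv]
  apply le_antisymm
  · exact le_Va (Dv fs) a (fun k => iInf_le _ k)
  · exact le_iInf fun k => Va_le (Dv fs) a k

theorem isAffineOpen_bD (g : R) : IsAffineOpen (bD g) := by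
  have h : (Spec R).basicOpen ((Scheme.ΓSpecIso R).inv g) = bD g := basicOpen_eq_of_affine g
  rw [← h]
  exact (isAffineOpen_top (Spec R)).basicOpen _

theorem HU_Dv_subsingleton (p : ℕ) (a : Fin (p + 1) → ULift.{u} (Fin fs.length)) (q : ℕ) :
    Subsingleton (CohTop.HU (X := (Spec R).toTopCat) (Coh.toAb (tilde N)) (q + 1)
      (iInf fun k => Dv fs (a k))) := by
  apply Groth.Agent.Helper13.AffineVanish.HU_subsingleton_of_isAffineOpen
  rw [iInf_Dv]
  exact isAffineOpen_bD _

/-- higher degrees: extended Čech cohomology is the cohomology of the complement -/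
theorem nonempty_extCechH_equiv_HU (p : ℕ) (hp : 1 ≤ p) :
    Nonempty (extCechH fs N ((p + 1 : ℕ) : ℤ) ≃+
      CohTop.HU (X := (Spec R).toTopCat) (Coh.toAb (tilde N)) p (iSup (Dv fs))) := by
  obtain ⟨e1⟩ := main_alg fs p hp N
  obtain ⟨e2⟩ := Groth.Agent.S0464.result (X := (Spec R).toTopCat) (Coh.toAb (tilde N)) (Dv fs)
    (HU_Dv_subsingleton fs N) p
  exact ⟨e1.symm.trans e2⟩

end supp

theorem puncturedOpen_aux (A : Type u) [CommRing A] (fs : List A) (y : PrimeSpectrum A) :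
    y ∈ (PrimeSpectrum.zeroLocus (R := A) ((Ideal.span {a | a ∈ fs} : Ideal A) : Set A))ᶜ ↔
      ∃ i : ULift.{u} (Fin fs.length), y ∈ PrimeSpectrum.basicOpen (fs.get i.down) := by
  rw [Set.mem_compl_iff, PrimeSpectrum.zeroLocus_span, PrimeSpectrum.mem_zeroLocus,
    Set.not_subset]
  constructor
  · rintro ⟨f, hf, hfx⟩
    obtain ⟨i, rfl⟩ := List.mem_iff_get.1 hf
    exact ⟨⟨i⟩, hfx⟩
  · rintro ⟨i, hi⟩
    exact ⟨fs.get i.down, List.get_mem fs i.down, hi⟩

theorem puncturedOpen_eq (A : Type u) [CommRing A] (fs : List A) :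
    LocCoh.puncturedOpen A (Ideal.span {a | a ∈ fs}) = iSup (Dv (R := CommRingCat.of A) fs) := by
  apply Opens.ext
  ext x
  rw [Opens.coe_iSup, Set.mem_iUnion]
  exact puncturedOpen_aux A fs x

section high

variable (A : Type u) [CommRing A] (fs : List A) (M : Type u) [AddCommGroup M] [Module A M]

theorem high_case (p : ℕ) (hp : 1 ≤ p) :
    Nonempty (CohIII.koszulHLim fs (ModuleCat.of A M) (p + 1) ≃+
      LocCohZ.HZM (Spec (CommRingCat.of A))
        (AlgebraicGeometry.tilde (R := CommRingCat.of A) (ModuleCat.of A M)) (p + 1)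
        (LocCoh.puncturedOpen A (Ideal.span {a | a ∈ fs}))) := by
  rw [puncturedOpen_eq]
  obtain ⟨k⟩ := Groth.Agent.Helper17.KC.nonempty_koszulHLim_equiv (M := ModuleCat.of A M) fs (p+1)
  obtain ⟨e1⟩ := nonempty_extCechH_equiv_HU (R := CommRingCat.of A) fs (ModuleCat.of A M) p hp
  have hb := (Groth.Agent.Helper17.LZ.main6031 (Spec (CommRingCat.of A))
    (AlgebraicGeometry.tilde (R := CommRingCat.of A) (ModuleCat.of A M))
    (inferInstance : (AlgebraicGeometry.tilde (R := CommRingCat.of A)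
      (ModuleCat.of A M)).IsQuasicoherent)
    (iSup (Dv (R := CommRingCat.of A) fs))).2 p hp
  exact ⟨k.toAddEquiv.trans (e1.trans (AddEquiv.ofBijective _ hb))⟩

end high

/-! ### degree zero cohomology is the group of sections -/

section deg0

variable {X : TopCat.{u}} (F : CohTop.Ab X)

/-- `H⁰(V, F) = F(V)` -/
noncomputable def psi (V : Opens X) : CohTop.HU F 0 V ≃+ F.obj.obj (op V) :=
  (Abelian.Ext.addEquiv₀ (X := CohCx.freeSheaf (Opens.grothendieckTopology X) V) (Y := F)).trans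
    (CohFree.homEquivSect (Opens.grothendieckTopology X) V F)

theorem psi_apply (V : Opens X) (x : CohTop.HU F 0 V) :
    psi F V x = CohFree.evalGen (Opens.grothendieckTopology X) V F (Abelian.Ext.addEquiv₀ x) :=
  rfl

theorem psi_res {W V : Opens X} (h : W ≤ V) (x : CohTop.HU F 0 V) :
    psi F W (CohTop.res F 0 h x) = (F.obj.map (homOfLE h).op).hom (psi F V x) := by
  rw [psi_apply, psi_apply, ← CohFree.evalGen_freeSheafMap_comp]
  congr 1
  apply (Abelian.Ext.mk₀_bijective _ _).1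
  rw [Abelian.Ext.mk₀_addEquiv₀_apply, ← Abelian.Ext.mk₀_comp_mk₀,
    Abelian.Ext.mk₀_addEquiv₀_apply]
  rfl

end deg0

/-! ### degrees zero and one -/

section low

open Groth.Agent.Helper17.CK Groth.Agent.Helper17.CE Groth.Agent.Helper26.ExtCechH0b
  Groth.Agent.Helper8.LC

variable {R : CommRingCat.{u}} (fs : List R) (N : ModuleCat.{u} R)

theorem tO_top_bijective : Function.Bijective (tO N ⊤) :=
  (ConcreteCategory.isIso_iff_bijective (tilde.toOpen N ⊤)).1 (tilde.isIso_toOpen_top (M := N))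

theorem tO_iSup_eq_zero_iff (m : N) :
    (tO N (iSup (Dv fs)) m = 0) ↔ ∀ f ∈ fs, ∃ n : ℕ, f ^ n • m = 0 := by
  constructor
  · intro h0 f hf
    obtain ⟨i, rfl⟩ := List.mem_iff_get.1 hf
    apply tO_eq_zero N (fs.get i) m
    have h1 : bD (fs.get i) ≤ iSup (Dv fs) := le_iSup (Dv fs) ⟨i⟩
    rw [← rs_tO N h1 m, h0, map_zero]
  · intro hm
    refine TopCat.Sheaf.eq_of_locally_eq' ⟨Pt N, isSheaf_Pt N⟩ (Dv fs) (iSup (Dv fs))
      (fun i => homOfLE (le_iSup (Dv fs) i)) le_rfl (tO N (iSup (Dv fs)) m) 0 (fun i => ?_)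
    obtain ⟨n, hn⟩ := hm (fs.get i.down) (List.get_mem fs i.down)
    have h2 : tO N (bD (fs.get i.down)) m = 0 :=
      (IsLocalizedModule.eq_zero_iff (Submonoid.powers (fs.get i.down))
        (tO N (bD (fs.get i.down)))).2 ⟨⟨fs.get i.down ^ n, n, rfl⟩, hn⟩
    rw [map_zero]
    exact h2

theorem case_zero :
    Nonempty (extCechH fs N 0 ≃+ LocCohZ.HZ (X := (Spec R).toTopCat) (Coh.toAb (tilde N)) 0
      (le_top : iSup (Dv fs) ≤ ⊤)) := by
  have hmem : ∀ m : gam (Ifs fs) N,
      tO N ⊤ (m : N) ∈ LocCohZ.sectZ (X := (Spec R).toTopCat) (Coh.toAb (tilde N))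
        (le_top : iSup (Dv fs) ≤ ⊤) := by
    intro m
    change tO N (iSup (Dv fs)) (m : N) = 0
    exact (tO_iSup_eq_zero_iff fs N m.1).2 ((mem_gam_iff fs N m.1).1 m.2)
  let Φ : gam (Ifs fs) N →+ LocCohZ.sectZ (X := (Spec R).toTopCat) (Coh.toAb (tilde N))
      (le_top : iSup (Dv fs) ≤ ⊤) :=
    AddMonoidHom.mk' (fun m => ⟨tO N ⊤ (m : N), hmem m⟩) (fun a b => by
      apply Subtype.ext
      show tO N ⊤ ((a + b : gam (Ifs fs) N) : N) = tO N ⊤ (a : N) + tO N ⊤ (b : N)
      rw [Submodule.coe_add, map_add])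
  have hΦ : Function.Bijective Φ := by
    constructor
    · intro a b hab
      apply Subtype.ext
      exact (tO_top_bijective N).1 (congrArg Subtype.val hab)
    · rintro ⟨t, ht⟩
      obtain ⟨m, rfl⟩ := (tO_top_bijective N).2 t
      have ht' : tO N (iSup (Dv fs)) m = 0 := ht
      have hm : m ∈ gam (Ifs fs) N :=
        (mem_gam_iff fs N m).2 ((tO_iSup_eq_zero_iff fs N m).1 ht')
      exact ⟨⟨m, hm⟩, rfl⟩
  exact ⟨(h0Equiv fs N).toAddEquiv.trans ((AddEquiv.ofBijective Φ hΦ).trans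
    (LocCohZ.sect0Equiv (X := (Spec R).toTopCat) (Coh.toAb (tilde N))
      (le_top : iSup (Dv fs) ≤ ⊤)).symm)⟩

theorem case_one :
    Nonempty (extCechH fs N 1 ≃+ LocCohZ.HZ (X := (Spec R).toTopCat) (Coh.toAb (tilde N)) 1
      (le_top : iSup (Dv fs) ≤ ⊤)) := by
  obtain ⟨c, hc, kc⟩ := exists_coker_map fs N
  have hQ : (tilde N).IsQuasicoherent := inferInstance
  have hδ := (Groth.Agent.Helper17.LZ.main6031 (Spec R) (tilde N) hQ (iSup (Dv fs))).1
  have hg : Function.Surjective ((LocCohZ.delta (X := (Spec R).toTopCat) (Coh.toAb (tilde N)) 0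
      (le_top : iSup (Dv fs) ≤ ⊤)).comp
      (psi (X := (Spec R).toTopCat) (Coh.toAb (tilde N)) (iSup (Dv fs))).symm.toAddMonoidHom) :=
    hδ.comp (psi (X := (Spec R).toTopCat) (Coh.toAb (tilde N)) (iSup (Dv fs))).symm.surjective
  have hk : ∀ s, c s = 0 ↔
      ((LocCohZ.delta (X := (Spec R).toTopCat) (Coh.toAb (tilde N)) 0
        (le_top : iSup (Dv fs) ≤ ⊤)).comp
        (psi (X := (Spec R).toTopCat) (Coh.toAb (tilde N))
          (iSup (Dv fs))).symm.toAddMonoidHom) s = 0 := by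
    intro s
    rw [kc s]
    constructor
    · rintro ⟨x, rfl⟩
      have h3 : (psi (X := (Spec R).toTopCat) (Coh.toAb (tilde N)) (iSup (Dv fs))).symm
          (tO N (iSup (Dv fs)) x) =
          CohTop.res (X := (Spec R).toTopCat) (Coh.toAb (tilde N)) 0
            (le_top : iSup (Dv fs) ≤ ⊤)
            ((psi (X := (Spec R).toTopCat) (Coh.toAb (tilde N)) ⊤).symm (tO N ⊤ x)) := by
        apply (psi (X := (Spec R).toTopCat) (Coh.toAb (tilde N)) (iSup (Dv fs))).injective
        rw [AddEquiv.apply_symm_apply, psi_res, AddEquiv.apply_symm_apply]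
        rfl
      show LocCohZ.delta (X := (Spec R).toTopCat) (Coh.toAb (tilde N)) 0
        (le_top : iSup (Dv fs) ≤ ⊤) ((psi (X := (Spec R).toTopCat) (Coh.toAb (tilde N))
          (iSup (Dv fs))).symm (tO N (iSup (Dv fs)) x)) = 0
      rw [h3]
      exact ShortComplex.ShortExact.extClass_comp_assoc (h := (by omega : 1 + 0 = 0 + 1)) _ _
    · intro h0
      obtain ⟨x₂, hx₂⟩ := Abelian.Ext.contravariant_sequence_exact₁
        (LocCohZ.zqSeq_shortExact (le_top : iSup (Dv fs) ≤ (⊤ : Opens (Spec R).toTopCat)))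
        (Coh.toAb (tilde N))
        ((psi (X := (Spec R).toTopCat) (Coh.toAb (tilde N)) (iSup (Dv fs))).symm s)
        (show 1 + 0 = 0 + 1 by omega) h0
      have h1 : CohTop.res (X := (Spec R).toTopCat) (Coh.toAb (tilde N)) 0
          (le_top : iSup (Dv fs) ≤ ⊤) x₂ =
          (psi (X := (Spec R).toTopCat) (Coh.toAb (tilde N)) (iSup (Dv fs))).symm s := hx₂
      have h2 := psi_res (X := (Spec R).toTopCat) (Coh.toAb (tilde N))
        (le_top : iSup (Dv fs) ≤ ⊤) x₂
      rw [h1, AddEquiv.apply_symm_apply] at h2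
      obtain ⟨x, hx⟩ := (tO_top_bijective N).2
        (psi (X := (Spec R).toTopCat) (Coh.toAb (tilde N)) ⊤ x₂)
      refine ⟨x, ?_⟩
      rw [h2, ← hx]
      rfl
  obtain ⟨e⟩ := nonempty_addEquiv_of_surjective_of_ker_eq c _ hc hg hk
  exact ⟨e⟩

end low

theorem main6032 (A : Type u) [CommRing A] (fs : List A) (M : Type u)
    [AddCommGroup M] [Module A M] (i : ℕ) :
    Nonempty (CohIII.koszulHLim fs (ModuleCat.of A M) i ≃+
      LocCohZ.HZM (Spec (CommRingCat.of A)) (AlgebraicGeometry.tilde (R := CommRingCat.of A) (ModuleCat.of A M)) i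
        (LocCoh.puncturedOpen A (Ideal.span {a | a ∈ fs}))) := by
  match i with
  | 0 =>
    rw [puncturedOpen_eq]
    obtain ⟨k⟩ := Groth.Agent.Helper17.KC.nonempty_koszulHLim_equiv (M := ModuleCat.of A M) fs 0
    obtain ⟨e⟩ := case_zero (R := CommRingCat.of A) fs (ModuleCat.of A M)
    exact ⟨k.toAddEquiv.trans e⟩
  | 1 =>
    rw [puncturedOpen_eq]
    obtain ⟨k⟩ := Groth.Agent.Helper17.KC.nonempty_koszulHLim_equiv (M := ModuleCat.of A M) fs 1
    obtain ⟨e⟩ := case_one (R := CommRingCat.of A) fs (ModuleCat.of A M)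
    exact ⟨k.toAddEquiv.trans e⟩
  | (p+2) => exact high_case A fs M (p+1) (by omega)

end Groth.Agent.Helper17.FCH
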