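import Mathlib
import Groth.Prelude.Def_CxOX
import Groth.Agent.Lib.Helper17.MT13

/-!
# Restriction of an injective module to an open subscheme is injective
-/

open CategoryTheory Limits AlgebraicGeometry

namespace Groth.Agent.Helper17.IR

universe u

theorem preservesFiniteLimits_extZero (X : Scheme.{u}) (U : X.Opens) :
    PreservesFiniteLimits (CxOX.extZero U.ι) := by
  have h1 : PreservesFiniteLimits (ModSite.extZero X.sheaf U) :=
    Groth.Agent.Helper17.MT.main9086 X.sheaf U
  have h0 : PreservesFiniteLimits (Scheme.Modules.overEquiv U).inverse := inferInstance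
  have h2 : PreservesFiniteLimits ((Scheme.Modules.overEquiv U).inverse ⋙ ModSite.extZero X.sheaf U) :=
    @comp_preservesFiniteLimits _ _ _ _ _ _ _ _ h0 h1
  exact @preservesFiniteLimits_of_natIso _ _ _ _ _ _ (CxOX.extZeroIsoSite U).symm h2

theorem main11327 (X : Scheme.{u}) (U : X.Opens) (I : X.Modules)
    (hI : Injective I) : Injective (I.restrict U.ι) := by
  have h1 : PreservesFiniteLimits (CxOX.extZero U.ι) := preservesFiniteLimits_extZero X U
  have h2 : (CxOX.extZero U.ι).PreservesMonomorphisms := inferInstance
  exact Injective.injective_of_adjoint (CxOX.extZeroAdj U.ι) I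

end Groth.Agent.Helper17.IR
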