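import Mathlib
import Groth.Agent.Lib.Helper18.Schl.PSComplete

/-!
# Connecting homomorphisms for covariant `Ext` (helper17)
-/

set_option autoImplicit false
universe w v u

namespace Groth.Agent.Helper17.PS

open CategoryTheory Abelian

variable {C : Type u} [Category.{v} C] [Abelian C] [HasExt.{w} C]
variable {S : ShortComplex C} (hS : S.ShortExact) (X : C)

/-- the connecting homomorphism `Ext^n(X, S.X₃) → Ext^{n+1}(X, S.X₁)` -/
noncomputable def δ (n : ℕ) : Ext X S.X₃ n →+ Ext X S.X₁ (n + 1) :=
  hS.extClass.postcomp X rfl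

/-- the map induced by `S.g` -/
noncomputable def gmap (n : ℕ) : Ext X S.X₂ n →+ Ext X S.X₃ n :=
  (Ext.mk₀ S.g).postcomp X (add_zero n)

theorem δ_injective (n : ℕ) (h : Subsingleton (Ext X S.X₂ n)) :
    Function.Injective (δ hS X n) := by
  rw [injective_iff_map_eq_zero]
  intro x hx
  obtain ⟨x₂, hx₂⟩ := Ext.covariant_sequence_exact₃ X hS x rfl hx
  rw [← hx₂, Subsingleton.elim x₂ 0, Ext.zero_comp]

theorem δ_surjective (n : ℕ) (h : Subsingleton (Ext X S.X₂ (n + 1))) :
    Function.Surjective (δ hS X n) := by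
  intro x₁
  exact Ext.covariant_sequence_exact₁ X hS x₁ (Subsingleton.elim _ _) rfl

theorem ker_δ (n : ℕ) : (δ hS X n).ker = (gmap (S := S) X n).range := by
  ext x
  rw [AddMonoidHom.mem_ker, AddMonoidHom.mem_range]
  constructor
  · intro hx
    exact Ext.covariant_sequence_exact₃ X hS x rfl hx
  · rintro ⟨y, rfl⟩
    change ((y.comp (Ext.mk₀ S.g) (add_zero n)).comp hS.extClass rfl) = 0
    rw [Ext.comp_assoc_of_second_deg_zero, ShortComplex.ShortExact.comp_extClass, Ext.comp_zero]

/-- dimension shift -/
noncomputable def δEquiv (n : ℕ) (h0 : Subsingleton (Ext X S.X₂ n))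
    (h1 : Subsingleton (Ext X S.X₂ (n + 1))) : Ext X S.X₃ n ≃+ Ext X S.X₁ (n + 1) :=
  AddEquiv.ofBijective (δ hS X n) ⟨δ_injective hS X n h0, δ_surjective hS X n h1⟩

/-- `Ext^{n+1}(X, S.X₁)` is the cokernel of `Ext^n(X, S.X₂) → Ext^n(X, S.X₃)` -/
noncomputable def cokerEquiv (n : ℕ) (h1 : Subsingleton (Ext X S.X₂ (n + 1))) :
    (Ext X S.X₃ n ⧸ (gmap (S := S) X n).range) ≃+ Ext X S.X₁ (n + 1) :=
  (QuotientAddGroup.quotientAddEquivOfEq (ker_δ hS X n).symm).trans
    (QuotientAddGroup.quotientKerEquivOfSurjective (δ hS X n) (δ_surjective hS X n h1))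

end Groth.Agent.Helper17.PS

/-! ## Restored by helper7: the original power-series content of this file (commit 17cea8a3),
which was overwritten by 20ce0f6d and is imported by S11740, S11741, S2472, S9310, Helper3.WildQuot,
Helper14.AdicFSRegular2. -/

section RestoredPowerSeries

/-!
Helper17: formal power series rings over a field and complete local rings with the same residue
field: the maximal ideal of `k[[t_1..t_d]]` is generated by the variables, the dimension is `d`,
and a map to a complete local ring sending the variables to a basis of the cotangent space is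
surjective with kernel in the square of the maximal ideal.
-/

namespace Groth.Agent.Helper17.PS

open MvPowerSeries IsLocalRing Groth.Agent.Helper18

section Basic

variable {σ : Type*} [Finite σ] {k : Type*} [Field k]

omit [Finite σ] in
theorem map_idealOfVars_eq_span :
    Ideal.map (algebraMap (MvPolynomial σ k) (MvPowerSeries σ k)) (MvPolynomial.idealOfVars σ k)
      = Ideal.span (Set.range (X : σ → MvPowerSeries σ k)) := by
  rw [MvPolynomial.idealOfVars, Ideal.map_span, ← Set.range_comp]
  congr 2
  funext i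
  rw [Function.comp_apply, MvPowerSeries.algebraMap_apply', Algebra.algebraMap_self,
    MvPowerSeries.map_id, RingHom.id_apply, MvPolynomial.coe_X]

theorem maximalIdeal_eq_span_X :
    maximalIdeal (MvPowerSeries σ k) = Ideal.span (Set.range (X : σ → MvPowerSeries σ k)) := by
  apply le_antisymm
  · intro f hf
    rw [ps_mem_maximalIdeal_iff, maximalIdeal_eq_bot, Ideal.mem_bot] at hf
    have h := mem_map_idealOfVars_pow 1 f (fun β hβ => by
      have hβ0 : β = 0 := by
        rw [← Finsupp.degree_eq_zero_iff]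
        omega
      rw [hβ0]
      exact hf)
    rw [pow_one, map_idealOfVars_eq_span] at h
    exact h
  · rw [Ideal.span_le]
    rintro _ ⟨i, rfl⟩
    exact ps_X_mem_maximalIdeal i

theorem ringKrullDim_le (d : ℕ) : ringKrullDim (MvPowerSeries (Fin d) k) ≤ d := by
  have h1 := ringKrullDim_le_spanFinrank_maximalIdeal (MvPowerSeries (Fin d) k)
  have h2 : (maximalIdeal (MvPowerSeries (Fin d) k)).spanFinrank ≤ d := by
    rw [maximalIdeal_eq_span_X]
    refine (Submodule.spanFinrank_span_le_ncard_of_finite (Set.finite_range _)).trans ?_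
    rw [← Set.image_univ]
    refine (Set.ncard_image_le Set.finite_univ).trans ?_
    rw [Set.ncard_univ, Nat.card_fin]
  refine h1.trans ?_
  exact_mod_cast h2

theorem le_ringKrullDim (d : ℕ) : (d : WithBot ℕ∞) ≤ ringKrullDim (MvPowerSeries (Fin d) k) := by
  induction d with
  | zero => exact ringKrullDim_nonneg_of_nontrivial
  | succ n ih =>
    have h1 := ringKrullDim_succ_le_ringKrullDim_powerseries (R := MvPowerSeries (Fin n) k)
    have h2 := ringKrullDim_eq_of_ringEquiv (MvPowerSeries.finSuccEquiv k n).toRingEquiv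
    rw [h2]
    push_cast
    exact (add_le_add ih le_rfl).trans h1

end Basic

section Map

variable {k R : Type*} [Field k] [CommRing R] [IsLocalRing R] [IsNoetherianRing R] [Algebra k R]
  {d : ℕ} (ψ : MvPowerSeries (Fin d) k →ₐ[k] R)

omit [IsNoetherianRing R] in
theorem map_span_X_le (hψ : ∀ i : Fin d, ψ (X i) ∈ maximalIdeal R) :
    Ideal.map ψ (Ideal.span (Set.range (X : Fin d → MvPowerSeries (Fin d) k))) ≤
      maximalIdeal R := by
  rw [Ideal.map_le_iff_le_comap, Ideal.span_le]
  rintro _ ⟨i, rfl⟩
  exact hψ i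

theorem map_span_X_eq_maximalIdeal (hψ : ∀ i : Fin d, ψ (X i) ∈ maximalIdeal R)
    (hsp : Submodule.span (ResidueField R) (Set.range (fun i : Fin d =>
      (maximalIdeal R).toCotangent ⟨ψ (X i), hψ i⟩)) = ⊤) :
    Ideal.map ψ (Ideal.span (Set.range (X : Fin d → MvPowerSeries (Fin d) k))) =
      maximalIdeal R := by
  have h1 : Submodule.span R (Set.range (fun i : Fin d =>
      (⟨ψ (X i), hψ i⟩ : maximalIdeal R))) = ⊤ := by
    rw [← CotangentSpace.span_image_eq_top_iff, ← Set.range_comp]
    exact hsp
  rw [Ideal.map_span, ← Set.range_comp]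
  have h2 := congrArg (Submodule.map (Submodule.subtype (maximalIdeal R))) h1
  rw [Submodule.map_span, ← Set.range_comp, Submodule.map_top, Submodule.range_subtype] at h2
  exact h2

theorem surjective_of_map_span_X [IsAdicComplete (maximalIdeal R) R]
    (hR : Function.Surjective ((residue R).comp (algebraMap k R)))
    (hmap : Ideal.map ψ (Ideal.span (Set.range (X : Fin d → MvPowerSeries (Fin d) k))) =
      maximalIdeal R) :
    Function.Surjective ψ := by
  have hmap' : Ideal.map (ψ : MvPowerSeries (Fin d) k →+* R)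
      (Ideal.span (Set.range (X : Fin d → MvPowerSeries (Fin d) k))) = maximalIdeal R := hmap
  have haus : IsHausdorff (Ideal.map (ψ : MvPowerSeries (Fin d) k →+* R)
      (Ideal.span (Set.range (X : Fin d → MvPowerSeries (Fin d) k)))) R := by
    rw [hmap']
    infer_instance
  have key : Function.Surjective (ψ : MvPowerSeries (Fin d) k →+* R) := by
    apply surjective_of_mk_map_comp_surjective
      (I := Ideal.span (Set.range (X : Fin d → MvPowerSeries (Fin d) k)))
      (f := (ψ : MvPowerSeries (Fin d) k →+* R))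
    intro y
    obtain ⟨s, rfl⟩ := Ideal.Quotient.mk_surjective y
    obtain ⟨c, hc⟩ := hR (residue R s)
    have hc' : s - algebraMap k R c ∈ maximalIdeal R := by
      rw [← residue_eq_zero_iff, map_sub, sub_eq_zero]
      exact hc.symm
    refine ⟨algebraMap k _ c, ?_⟩
    rw [RingHom.comp_apply, RingHom.coe_coe, AlgHom.commutes]
    rw [Ideal.Quotient.eq, hmap']
    have := (maximalIdeal R).neg_mem hc'
    simpa using this
  exact key

omit [IsNoetherianRing R] in
theorem ker_le_sq (hψ : ∀ i : Fin d, ψ (X i) ∈ maximalIdeal R)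
    (hb : LinearIndependent (ResidueField R) (fun i : Fin d =>
      (maximalIdeal R).toCotangent ⟨ψ (X i), hψ i⟩)) :
    RingHom.ker ψ.toRingHom ≤ maximalIdeal (MvPowerSeries (Fin d) k) ^ 2 := by
  intro f hf
  have hf0 : ψ f = 0 := hf
  have hmem : ∀ q ∈ maximalIdeal (MvPowerSeries (Fin d) k), ψ q ∈ maximalIdeal R := by
    intro q hq
    rw [maximalIdeal_eq_span_X] at hq
    exact map_span_X_le ψ hψ (Ideal.mem_map_of_mem _ hq)
  -- `f` lies in the maximal ideal
  have hfm : f ∈ maximalIdeal (MvPowerSeries (Fin d) k) := by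
    rw [mem_maximalIdeal, mem_nonunits_iff]
    intro hu
    have h1 : IsUnit (ψ f) := hu.map ψ
    rw [hf0] at h1
    exact not_isUnit_zero h1
  rw [maximalIdeal_eq_span_X, Ideal.mem_span_range_iff_exists_fun] at hfm
  obtain ⟨p, hp⟩ := hfm
  -- the constant coefficients of the `p i` vanish
  have hsum : ∑ i, ψ (p i) * ψ (X i) = 0 := by
    rw [← hf0, ← hp, map_sum]
    exact Finset.sum_congr rfl (fun i _ => (map_mul ψ _ _).symm)
  have hpi : ∀ i, ψ (p i) = algebraMap k R (constantCoeff (p i)) +
      ψ (p i - C (constantCoeff (p i))) := by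
    intro i
    rw [map_sub, c_eq_algebraMap, AlgHom.commutes]
    ring
  have hqi : ∀ i, ψ (p i - C (constantCoeff (p i))) ∈ maximalIdeal R := by
    intro i
    apply hmem
    rw [ps_mem_maximalIdeal_iff, map_sub, constantCoeff_C, sub_self]
    exact zero_mem _
  have hsq : ∑ i, algebraMap k R (constantCoeff (p i)) * ψ (X i) ∈ maximalIdeal R ^ 2 := by
    have h1 : ∑ i, algebraMap k R (constantCoeff (p i)) * ψ (X i) =
        - ∑ i, ψ (p i - C (constantCoeff (p i))) * ψ (X i) := by
      rw [eq_neg_iff_add_eq_zero, ← Finset.sum_add_distrib, ← hsum]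
      refine Finset.sum_congr rfl (fun i _ => ?_)
      rw [hpi i, map_sub, c_eq_algebraMap, AlgHom.commutes]
      ring
    rw [h1]
    apply neg_mem
    apply Ideal.sum_mem
    intro i _
    rw [pow_two]
    exact Ideal.mul_mem_mul (hqi i) (hψ i)
  have hzero : ∑ i, (residue R (algebraMap k R (constantCoeff (p i)))) •
      (maximalIdeal R).toCotangent ⟨ψ (X i), hψ i⟩ = 0 := by
    have h2 : ∀ i, (residue R (algebraMap k R (constantCoeff (p i)))) •
        (maximalIdeal R).toCotangent ⟨ψ (X i), hψ i⟩ =
        (maximalIdeal R).toCotangent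
          ((algebraMap k R (constantCoeff (p i))) • (⟨ψ (X i), hψ i⟩ : maximalIdeal R)) := by
      intro i
      rw [map_smul]
      rfl
    rw [Finset.sum_congr rfl (fun i _ => h2 i), ← map_sum, Ideal.toCotangent_eq_zero]
    have h3 : ((∑ i, (algebraMap k R (constantCoeff (p i))) •
        (⟨ψ (X i), hψ i⟩ : maximalIdeal R) : maximalIdeal R) : R) =
        ∑ i, algebraMap k R (constantCoeff (p i)) * ψ (X i) := by
      rw [AddSubmonoidClass.coe_finsetSum]
      rfl
    rw [h3]
    exact hsq
  have hc0 : ∀ i, constantCoeff (p i) = 0 := by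
    intro i
    have h4 := (Fintype.linearIndependent_iff.1 hb) _ hzero i
    exact ((residue R).comp (algebraMap k R)).injective (h4.trans (map_zero _).symm)
  rw [← hp]
  apply Ideal.sum_mem
  intro i _
  rw [pow_two]
  refine Ideal.mul_mem_mul ?_ (ps_X_mem_maximalIdeal i)
  rw [ps_mem_maximalIdeal_iff, hc0 i]
  exact zero_mem _

end Map

end Groth.Agent.Helper17.PS

end RestoredPowerSeries
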