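import Mathlib
import Groth.Prelude.Def_ModSite
import Groth.Agent.Lib.Helper17.MT25

/-!
# Morphisms from a module of finite presentation to a flat module factor locally through
finite free modules
-/

open CategoryTheory Limits MonoidalCategory Opposite

namespace Groth.Agent.Helper17.MT

universe u

section Hat

variable {C : Type u} [SmallCategory C] {J : GrothendieckTopology C} (O : Sheaf J CommRingCat.{u})
  {X₀ : C} (hX : IsTerminal X₀)

theorem evalOne_homOfSection (M : ModSite.Mod O) (p : M.val.obj (op X₀)) :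
    evalOne O M X₀ (homOfSection O hX M p) = p := by
  have hid : hX.from X₀ = 𝟙 X₀ := hX.hom_ext _ _
  change (homOfSection O hX M p).val.app (op X₀) (1 : (ModSite.ringSh O).obj.obj (op X₀)) = p
  rw [homOfSection_app_one, hid]
  exact (PresheafOfModules.congr_map_apply M.val (op_id) p).trans
    (CategoryTheory.congr_fun (M.val.presheaf.map_id _) p)

theorem homOfSection_evalOne (M : ModSite.Mod O) (σ : ModSite.unit O ⟶ M) :
    homOfSection O hX M (evalOne O M X₀ σ) = σ := by
  apply unit_hom_ext O hX
  exact evalOne_homOfSection O hX M _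

/-- global sections over the terminal object as morphisms from the unit -/
noncomputable def hatEquiv (M : ModSite.Mod O) : M.val.obj (op X₀) ≃+ (ModSite.unit O ⟶ M) :=
  AddEquiv.symm
    { toFun := evalOne O M X₀
      invFun := homOfSection O hX M
      left_inv := homOfSection_evalOne O hX M
      right_inv := evalOne_homOfSection O hX M
      map_add' := map_add _ }

theorem hatEquiv_apply (M : ModSite.Mod O) (p : M.val.obj (op X₀)) :
    hatEquiv O hX M p = homOfSection O hX M p := rfl

theorem hatEquiv_symm_apply (M : ModSite.Mod O) (σ : ModSite.unit O ⟶ M) :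
    (hatEquiv O hX M).symm σ = σ.val.app (op X₀) (1 : (ModSite.ringSh O).obj.obj (op X₀)) := rfl

theorem hat_comp {M M' : ModSite.Mod O} (p : M.val.obj (op X₀)) (φ : M ⟶ M') :
    hatEquiv O hX M p ≫ φ = hatEquiv O hX M' (φ.val.app (op X₀) p) := by
  apply (hatEquiv O hX M').symm.injective
  rw [AddEquiv.symm_apply_apply, hatEquiv_symm_apply]
  change φ.val.app (op X₀) ((hatEquiv O hX M p).val.app (op X₀) _) = _
  congr 1
  exact evalOne_homOfSection O hX M p

theorem hat_smul (M : ModSite.Mod O) (a : O.obj.obj (op X₀)) (p : M.val.obj (op X₀)) :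
    hatEquiv O hX (ModSite.unit O) a ≫ hatEquiv O hX M p = hatEquiv O hX M (a • p) := by
  rw [hat_comp]
  congr 1
  have h1 : (hatEquiv O hX M p).val.app (op X₀) (1 : (ModSite.ringSh O).obj.obj (op X₀)) = p :=
    evalOne_homOfSection O hX M p
  have h2 := ((hatEquiv O hX M p).val.app (op X₀)).hom.map_smul
    (show (ModSite.ringSh O).obj.obj (op X₀) from a)
    (show (ModSite.unit O).val.obj (op X₀) from (1 : (ModSite.ringSh O).obj.obj (op X₀)))
  have h3 : (show (ModSite.ringSh O).obj.obj (op X₀) from a) •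
      (show (ModSite.unit O).val.obj (op X₀) from (1 : (ModSite.ringSh O).obj.obj (op X₀))) = a :=
    mul_one (show (ModSite.ringSh O).obj.obj (op X₀) from a)
  rw [h3] at h2
  refine h2.trans ?_
  exact congrArg (fun y => (show (ModSite.ringSh O).obj.obj (op X₀) from a) • y) h1

end Hat

section Coord

variable {C : Type u} [SmallCategory C] {J : GrothendieckTopology C} (R : Sheaf J RingCat.{u})
  {I : Type u} [Fintype I] [DecidableEq I]

/-- projection of `free I` to the `k`-th coordinate -/
noncomputable def freeπ (k : I) : SheafOfModules.free (R := R) I ⟶ SheafOfModules.unit R :=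
  Cofan.IsColimit.desc (SheafOfModules.isColimitFreeCofan I)
    (fun j => if j = k then 𝟙 _ else 0)

omit [Fintype I] in
theorem ιFree_freeπ (j k : I) :
    SheafOfModules.ιFree j ≫ freeπ R k = if j = k then 𝟙 _ else 0 :=
  Cofan.IsColimit.fac (SheafOfModules.isColimitFreeCofan I) _ j

theorem sum_freeπ_ιFree :
    ∑ k, freeπ R k ≫ SheafOfModules.ιFree k = 𝟙 (SheafOfModules.free (R := R) I) := by
  apply Cofan.IsColimit.hom_ext (SheafOfModules.isColimitFreeCofan I)
  intro j
  change SheafOfModules.ιFree j ≫ _ = SheafOfModules.ιFree j ≫ _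
  rw [Preadditive.comp_sum, Category.comp_id, Finset.sum_eq_single j]
  · rw [← Category.assoc, ιFree_freeπ, if_pos rfl, Category.id_comp]
  · intro k _ hkj
    rw [← Category.assoc, ιFree_freeπ, if_neg (Ne.symm hkj), zero_comp]
  · intro h
    exact absurd (Finset.mem_univ j) h

/-- a morphism from the unit to a finite free module is the sum of its coordinates -/
theorem eq_sum_coord (σ : SheafOfModules.unit R ⟶ SheafOfModules.free (R := R) I) :
    σ = ∑ k, (σ ≫ freeπ R k) ≫ SheafOfModules.ιFree k := by
  have h := congrArg (σ ≫ ·) (sum_freeπ_ιFree R (I := I))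
  simp only [Preadditive.comp_sum, Category.comp_id] at h
  exact h.symm.trans (Finset.sum_congr rfl (fun k _ => (Category.assoc _ _ _).symm))

end Coord

section Transport

variable {C : Type u} [SmallCategory C] {J : GrothendieckTopology C} (O : Sheaf J CommRingCat.{u})
  {X Y : C} (g : Y ⟶ X)

/-- `oM` typed on `ModSite.Mod` -/
noncomputable abbrev oMod : ModSite.Mod (O.over X) ⥤ ModSite.Mod (O.over Y) :=
  oM (ModSite.ringSh O) g

theorem oMod_map_hat (N : ModSite.Mod (O.over X)) (p : N.val.obj (op (Over.mk (𝟙 X)))) :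
    (oMod O g).map (hatEquiv (O.over X) Over.mkIdTerminal N p) =
      hatEquiv (O.over Y) Over.mkIdTerminal ((oMod O g).obj N)
        (N.val.map (Over.mkIdTerminal.from ((Over.map g).obj (Over.mk (𝟙 Y)))).op p) := by
  apply unit_hom_ext (O.over Y) Over.mkIdTerminal
  refine Eq.trans ?_ (evalOne_homOfSection (O.over Y) Over.mkIdTerminal _ _).symm
  have h1 := unit_app_one (O.over X) Over.mkIdTerminal N
    (hatEquiv (O.over X) Over.mkIdTerminal N p) ((Over.map g).obj (Over.mk (𝟙 Y)))
  have h2 := evalOne_homOfSection (O.over X) Over.mkIdTerminal N p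
  refine Eq.trans ?_ (h1.trans (congrArg _ h2))
  rfl

theorem from_left_eq :
    (Over.mkIdTerminal.from ((Over.map g).obj (Over.mk (𝟙 Y))) :
      (Over.map g).obj (Over.mk (𝟙 Y)) ⟶ Over.mk (𝟙 X)).left = g := by
  have := Over.w (Over.mkIdTerminal.from ((Over.map g).obj (Over.mk (𝟙 Y))) :
      (Over.map g).obj (Over.mk (𝟙 Y)) ⟶ Over.mk (𝟙 X))
  simpa using this

theorem restr_map_from (H : ModSite.Mod O) (p : H.val.obj (op X)) :
    ((ModSite.restr O X).obj H).val.map
      (Over.mkIdTerminal.from ((Over.map g).obj (Over.mk (𝟙 Y)))).op p = res H g p := by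
  change H.val.map ((Over.mkIdTerminal.from ((Over.map g).obj (Over.mk (𝟙 Y))) :
      (Over.map g).obj (Over.mk (𝟙 Y)) ⟶ Over.mk (𝟙 X)).left).op p = _
  exact PresheafOfModules.congr_map_apply H.val (congrArg Quiver.Hom.op (from_left_eq g)) p

theorem unit_map_from (a : O.obj.obj (op X)) :
    (ModSite.unit (O.over X)).val.map
      (Over.mkIdTerminal.from ((Over.map g).obj (Over.mk (𝟙 Y)))).op a = rres g a := by
  change (O.obj.map ((Over.mkIdTerminal.from ((Over.map g).obj (Over.mk (𝟙 Y))) :
      (Over.map g).obj (Over.mk (𝟙 Y)) ⟶ Over.mk (𝟙 X)).left).op).hom a = _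
  rw [from_left_eq]
  rfl

end Transport

section Core

variable {C : Type u} [SmallCategory C] {J : GrothendieckTopology C} (O : Sheaf J CommRingCat.{u})
  {X : C} (F H : ModSite.Mod O) (φ : F ⟶ H)
  {I I' : Type u} [Fintype I] [DecidableEq I] [Fintype I'] [DecidableEq I']
  (f : SheafOfModules.free (R := ModSite.ringSh (O.over X)) I' ⟶ SheafOfModules.free I)
  (π : SheafOfModules.free I ⟶ (ModSite.restr O X).obj F)

/-- images in `H(X)` of the generators -/
noncomputable def genImg (k : I) : H.val.obj (op X) :=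
  (hatEquiv (O.over X) Over.mkIdTerminal ((ModSite.restr O X).obj H)).symm
    (SheafOfModules.ιFree k ≫ π ≫ (ModSite.restr O X).map φ)

/-- coefficients in `O(X)` of the relations -/
noncomputable def relCoef (e : I') (k : I) : O.obj.obj (op X) :=
  (hatEquiv (O.over X) Over.mkIdTerminal (ModSite.unit (O.over X))).symm
    (SheafOfModules.ιFree e ≫ f ≫ freeπ _ k)

omit [Fintype I] [DecidableEq I] in
theorem hat_genImg (k : I) :
    hatEquiv (O.over X) Over.mkIdTerminal ((ModSite.restr O X).obj H) (genImg O F H φ π k) =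
      SheafOfModules.ιFree k ≫ π ≫ (ModSite.restr O X).map φ :=
  AddEquiv.apply_symm_apply _ _

omit [Fintype I] [Fintype I'] [DecidableEq I'] in
theorem hat_relCoef (e : I') (k : I) :
    hatEquiv (O.over X) Over.mkIdTerminal (ModSite.unit (O.over X)) (relCoef O f e k) =
      SheafOfModules.ιFree e ≫ f ≫ freeπ _ k :=
  AddEquiv.apply_symm_apply _ _

theorem ιFree_comp_eq_sum (e : I') :
    SheafOfModules.ιFree e ≫ f = ∑ k,
      hatEquiv (O.over X) Over.mkIdTerminal (ModSite.unit (O.over X)) (relCoef O f e k) ≫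
        SheafOfModules.ιFree k := by
  rw [eq_sum_coord _ (SheafOfModules.ιFree e ≫ f)]
  refine Finset.sum_congr rfl (fun k _ => ?_)
  rw [hat_relCoef]
  simp only [Category.assoc]

theorem sum_relCoef_smul_genImg (w : f ≫ π = 0) (e : I') :
    ∑ k, relCoef O f e k • genImg O F H φ π k = 0 := by
  have h1 : (SheafOfModules.ιFree e ≫ f) ≫ π ≫ (ModSite.restr O X).map φ = 0 := by
    rw [Category.assoc, ← Category.assoc f, w, zero_comp, comp_zero]
  rw [ιFree_comp_eq_sum, Preadditive.sum_comp] at h1
  have key : hatEquiv (O.over X) Over.mkIdTerminal ((ModSite.restr O X).obj H)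
      (∑ k, relCoef O f e k • genImg O F H φ π k) = 0 := by
    refine (map_sum (hatEquiv (O.over X) Over.mkIdTerminal ((ModSite.restr O X).obj H))
      (fun k => (show ((ModSite.restr O X).obj H).val.obj (op (Over.mk (𝟙 X))) from
        relCoef O f e k • genImg O F H φ π k)) Finset.univ).trans ?_
    refine Eq.trans (Finset.sum_congr rfl (fun k _ => ?_)) h1
    rw [Category.assoc, ← hat_genImg]
    exact (hat_smul (O.over X) Over.mkIdTerminal ((ModSite.restr O X).obj H) _ _).symm
  exact (hatEquiv (O.over X) Over.mkIdTerminal ((ModSite.restr O X).obj H)).injective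
    (key.trans (map_zero _).symm)

section Fact

variable {Y : C} (g : Y ⟶ X) {l : ℕ} (t : Fin l → H.val.obj (op Y))
  (B : I → Fin l → O.obj.obj (op Y))

/-- the free module of rank `l` on `C/Y` -/
noncomputable abbrev freeL (Y : C) (l : ℕ) : ModSite.Mod (O.over Y) :=
  SheafOfModules.free (R := ModSite.ringSh (O.over Y)) (ULift.{u} (Fin l))

noncomputable abbrev ιL (Y : C) {l : ℕ} (j : Fin l) : ModSite.unit (O.over Y) ⟶ freeL O Y l :=
  SheafOfModules.ιFree (ULift.up j)

/-- the `k`-th column of the matrix `B` as a morphism `O_Y ⟶ O_Y^l` -/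
noncomputable def alpha (k : I) : ModSite.unit (O.over Y) ⟶ freeL O Y l :=
  ∑ j, hatEquiv (O.over Y) Over.mkIdTerminal (ModSite.unit (O.over Y)) (B k j) ≫ ιL O Y j

instance preservesFiniteColimits_oMod : PreservesFiniteColimits (oMod O g) :=
  preservesFiniteColimits_oM (ModSite.ringSh O) g

instance additive_oMod : (oMod O g).Additive := additive_oM (ModSite.ringSh O) g

instance preservesColimitsOfShape_oMod (I : Type u) [Fintype I] [DecidableEq I] :
    PreservesColimitsOfShape (Discrete I) (oMod O g) :=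
  preservesColimitsOfShapeOfPreservesFiniteColimits _ (Discrete I)

/-- the restricted free module is a coproduct -/
noncomputable def isColimitMapFreeCofan (I : Type u) [Fintype I] [DecidableEq I] :
    IsColimit ((oMod O g).mapCocone
      (SheafOfModules.freeCofan (R := ModSite.ringSh (O.over X)) I)) :=
  isColimitOfPreserves (oMod O g) (SheafOfModules.isColimitFreeCofan I)

/-- the matrix `B` as a morphism out of the restricted free module -/
noncomputable def aPP : (oMod O g).obj (SheafOfModules.free (R := ModSite.ringSh (O.over X)) I) ⟶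
    freeL O Y l :=
  (isColimitMapFreeCofan O g I).desc
    { pt := freeL O Y l
      ι := Discrete.natTrans (fun k => alpha O B k.as) }

theorem map_ιFree_aPP (k : I) :
    (oMod O g).map (SheafOfModules.ιFree k) ≫ aPP O g B = alpha O B k :=
  (isColimitMapFreeCofan O g I).fac _ ⟨k⟩

/-- the sections `t` as a morphism `O_Y^l ⟶ H|_Y` -/
noncomputable def bPP : freeL O Y l ⟶ (oMod O g).obj ((ModSite.restr O X).obj H) :=
  Cofan.IsColimit.desc (SheafOfModules.isColimitFreeCofan _)
    (fun j => hatEquiv (O.over Y) Over.mkIdTerminal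
      ((oMod O g).obj ((ModSite.restr O X).obj H)) (t j.down))

theorem ιL_bPP (j : Fin l) :
    ιL O Y j ≫ bPP O H g t = hatEquiv (O.over Y) Over.mkIdTerminal
      ((oMod O g).obj ((ModSite.restr O X).obj H)) (t j) :=
  Cofan.IsColimit.fac (SheafOfModules.isColimitFreeCofan _) _ (ULift.up j)

theorem map_f_aPP (hB2 : ∀ e j, ∑ k, B k j * rres g (relCoef O f e k) = 0) :
    (oMod O g).map f ≫ aPP O g B = 0 := by
  apply (isColimitMapFreeCofan O g I').hom_ext
  rintro ⟨e⟩
  change (oMod O g).map (SheafOfModules.ιFree e) ≫ (oMod O g).map f ≫ aPP O g B =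
    (oMod O g).map (SheafOfModules.ιFree e) ≫ 0
  rw [comp_zero, ← Category.assoc, ← (oMod O g).map_comp, ιFree_comp_eq_sum, (oMod O g).map_sum,
    Preadditive.sum_comp]
  have h1 : ∀ k, (oMod O g).map (hatEquiv (O.over X) Over.mkIdTerminal (ModSite.unit (O.over X))
      (relCoef O f e k) ≫ SheafOfModules.ιFree k) ≫ aPP O g B =
      hatEquiv (O.over Y) Over.mkIdTerminal (ModSite.unit (O.over Y))
        (rres (O := O) g (relCoef O f e k)) ≫ alpha O B k := by
    intro k
    rw [(oMod O g).map_comp, Category.assoc, map_ιFree_aPP]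
    have h2 := oMod_map_hat O g (ModSite.unit (O.over X)) (relCoef O f e k)
    rw [unit_map_from] at h2
    exact congrArg (· ≫ alpha O B k) h2
  rw [Finset.sum_congr rfl (fun k _ => h1 k)]
  simp only [alpha, Preadditive.comp_sum]
  refine Finset.sum_comm.trans ?_
  refine Finset.sum_eq_zero (fun j _ => ?_)
  have h3 : ∀ k, hatEquiv (O.over Y) Over.mkIdTerminal (ModSite.unit (O.over Y))
      (rres (O := O) g (relCoef O f e k)) ≫
      hatEquiv (O.over Y) Over.mkIdTerminal (ModSite.unit (O.over Y)) (B k j) ≫ ιL O Y j =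
      hatEquiv (O.over Y) Over.mkIdTerminal (ModSite.unit (O.over Y))
        (B k j * rres (O := O) g (relCoef O f e k)) ≫ ιL O Y j := by
    intro k
    rw [← Category.assoc]
    refine congrArg (· ≫ ιL O Y j) ?_
    refine (hat_smul (O.over Y) Over.mkIdTerminal (ModSite.unit (O.over Y)) _ _).trans ?_
    congr 1
    exact mul_comm (G := O.obj.obj (op Y)) _ _
  refine (Finset.sum_congr rfl (fun k _ => h3 k)).trans ?_
  rw [← Preadditive.sum_comp]
  refine (congrArg (· ≫ ιL O Y j) ?_).trans zero_comp
  refine (map_sum (hatEquiv (O.over Y) Over.mkIdTerminal (ModSite.unit (O.over Y))) _ _).symm.trans ?_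
  exact (congrArg _ (hB2 e j)).trans (map_zero _)

theorem alpha_bPP (k : I) :
    alpha O B k ≫ bPP O H g t = hatEquiv (O.over Y) Over.mkIdTerminal
      ((oMod O g).obj ((ModSite.restr O X).obj H))
      (show H.val.obj (op Y) from ∑ j, B k j • t j) := by
  unfold alpha
  rw [Preadditive.sum_comp]
  refine Eq.trans (Finset.sum_congr rfl (fun j _ => ?_))
    (map_sum (hatEquiv (O.over Y) Over.mkIdTerminal
      ((oMod O g).obj ((ModSite.restr O X).obj H)))
      (fun j => (show H.val.obj (op Y) from B k j • t j)) Finset.univ).symm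
  rw [Category.assoc, ιL_bPP]
  exact hat_smul (O.over Y) Over.mkIdTerminal _ _ _

include φ in
theorem exists_factorization_of_data (w : f ≫ π = 0)
    (hc : IsColimit (CokernelCofork.ofπ π w))
    (hB1 : ∀ k, res H g (genImg O F H φ π k) = ∑ j, B k j • t j)
    (hB2 : ∀ e j, ∑ k, B k j * rres g (relCoef O f e k) = 0) :
    ∃ (a : (ModSite.restr O Y).obj F ⟶ SheafOfModules.free (ULift.{u} (Fin l)))
      (b : SheafOfModules.free (ULift.{u} (Fin l)) ⟶ (ModSite.restr O Y).obj H),
      a ≫ b = (ModSite.restr O Y).map φ := by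
  have hcΦ := CokernelCofork.mapIsColimit _ hc (oMod O g)
  let a' : (oMod O g).obj ((ModSite.restr O X).obj F) ⟶ freeL O Y l :=
    hcΦ.desc (CokernelCofork.ofπ (aPP O g B) (map_f_aPP O f g B hB2))
  have ha' : (oMod O g).map π ≫ a' = aPP O g B :=
    hcΦ.fac (CokernelCofork.ofπ (aPP O g B) (map_f_aPP O f g B hB2)) WalkingParallelPair.one
  have hπ : Epi π := epi_of_isColimit_cofork hc
  have hπ' : Epi ((oMod O g).map π) :=
    @epi_oM_map C _ J (ModSite.ringSh O) X Y g _ _ π hπ
  have key : a' ≫ bPP O H g t = (oMod O g).map ((ModSite.restr O X).map φ) := by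
    rw [← cancel_epi ((oMod O g).map π), ← Category.assoc, ha', ← (oMod O g).map_comp]
    apply (isColimitMapFreeCofan O g I).hom_ext
    rintro ⟨k⟩
    change (oMod O g).map (SheafOfModules.ιFree k) ≫ aPP O g B ≫ bPP O H g t =
      (oMod O g).map (SheafOfModules.ιFree k) ≫ (oMod O g).map (π ≫ (ModSite.restr O X).map φ)
    rw [← Category.assoc, map_ιFree_aPP]
    have e1 := alpha_bPP O H g t B k
    have e2 : (oMod O g).map (SheafOfModules.ιFree k) ≫
        (oMod O g).map (π ≫ (ModSite.restr O X).map φ) =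
        (oMod O g).map (hatEquiv (O.over X) Over.mkIdTerminal ((ModSite.restr O X).obj H)
          (genImg O F H φ π k)) := by
      rw [← Functor.map_comp, hat_genImg]
    have e3 := oMod_map_hat O g ((ModSite.restr O X).obj H) (genImg O F H φ π k)
    rw [restr_map_from] at e3
    exact e1.trans ((congrArg _ (hB1 k).symm).trans (e3.symm.trans e2.symm))
  let θ := SheafOfModules.overFunctorMap.{u} (ModSite.ringSh O) g
  refine ⟨θ.inv.app F ≫ a', bPP O H g t ≫ θ.hom.app H, ?_⟩
  have hnat := θ.hom.naturality φ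
  rw [Category.assoc, ← Category.assoc a', key]
  refine (Iso.inv_comp_eq (θ.app F)).mpr ?_
  exact hnat

end Fact

/-- local factorisation over a member of a cover on which `F` has a finite presentation -/
theorem exists_sieve_factorization (hH : ModSite.IsFlat H) (w : f ≫ π = 0)
    (hc : IsColimit (CokernelCofork.ofπ π w)) :
    ∃ S ∈ J X, ∀ ⦃Y : C⦄ (g : Y ⟶ X), S g →
      ∃ (n : ℕ) (a : (ModSite.restr O Y).obj F ⟶ SheafOfModules.free (ULift.{u} (Fin n)))
        (b : SheafOfModules.free (ULift.{u} (Fin n)) ⟶ (ModSite.restr O Y).obj H),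
        a ≫ b = (ModSite.restr O Y).map φ := by
  have hE : EqProp O H := fun U n f s hrel => equational_of_isFlat O H hH U n f s hrel
  have hM := multiProp_of_eqProp H hE
  let eI := Fintype.equivFin I
  let eI' := Fintype.equivFin I'
  let A : Fin (Fintype.card I') → Fin (Fintype.card I) → O.obj.obj (op X) :=
    fun a b => relCoef O f (eI'.symm a) (eI.symm b)
  let s : Fin (Fintype.card I) → ModSite.sect H X := fun b => genImg O F H φ π (eI.symm b)
  have hrel : ∀ a, ∑ b, A a b • s b = 0 := by
    intro a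
    have h := sum_relCoef_smul_genImg O F H φ f π w (eI'.symm a)
    rw [← Equiv.sum_comp eI.symm] at h
    exact h
  obtain ⟨S, hS, hS'⟩ := hM (Fintype.card I') X (Fintype.card I) A s hrel
  refine ⟨S, hS, ?_⟩
  intro Y g hg
  obtain ⟨l, t, B', hB1, hB2⟩ := hS' g hg
  refine ⟨l, ?_⟩
  refine exists_factorization_of_data O F H φ f π g t (fun k j => B' (eI k) j) w hc ?_ ?_
  · intro k
    have h := hB1 (eI k)
    simp only [s, Equiv.symm_apply_apply] at h
    exact h
  · intro e j
    have h := hB2 (eI' e) j
    simp only [A, Equiv.symm_apply_apply] at h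
    rw [← Equiv.sum_comp eI] at h
    simp only [Equiv.symm_apply_apply] at h
    exact h

end Core

section Main

variable {C : Type u} [SmallCategory C] {J : GrothendieckTopology C} (O : Sheaf J CommRingCat.{u})

theorem main6167 (F H : ModSite.Mod O) [F.IsFinitePresentation] (hH : ModSite.IsFlat H)
    (φ : F ⟶ H) (X : C) :
    ∃ (ι : Type u) (Y : ι → C) (g : ∀ i, Y i ⟶ X), Sieve.ofArrows Y g ∈ J X ∧
      ∀ i, ∃ (n : ℕ) (a : (ModSite.restr O (Y i)).obj F ⟶ SheafOfModules.free (ULift.{u} (Fin n)))
        (b : SheafOfModules.free (ULift.{u} (Fin n)) ⟶ (ModSite.restr O (Y i)).obj H),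
        a ≫ b = (ModSite.restr O (Y i)).map φ := by
  classical
  obtain ⟨σ, hσ⟩ := SheafOfModules.IsFinitePresentation.exists_quasicoherentData F
  -- the property of an object of admitting a factorisation
  let Fact : C → Prop := fun Y =>
    ∃ (n : ℕ) (a : (ModSite.restr O Y).obj F ⟶ SheafOfModules.free (ULift.{u} (Fin n)))
      (b : SheafOfModules.free (ULift.{u} (Fin n)) ⟶ (ModSite.restr O Y).obj H),
      a ≫ b = (ModSite.restr O Y).map φ
  have hloc : ∀ i : σ.I, ∃ S ∈ J (σ.X i), ∀ ⦃Y : C⦄ (g : Y ⟶ σ.X i), S g → Fact Y := by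
    intro i
    let P := σ.presentation i
    have hfin : P.IsFinite := hσ.isFinite_presentation i
    have h1 : Finite P.generators.I := inferInstance
    have h2 : Finite P.relations.I := inferInstance
    have : Fintype P.generators.I := Fintype.ofFinite _
    have : Fintype P.relations.I := Fintype.ofFinite _
    exact exists_sieve_factorization O F H φ _ _ hH _ P.isColimit
  choose S hS hS' using hloc
  -- the covering sieve of `X`
  have hcov := σ.coversTop X
  let T : Sieve X := Sieve.bind (Sieve.ofObjects σ.X X).arrows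
    (fun W w hw => (S hw.choose).pullback hw.choose_spec.some)
  have hT : T ∈ J X := J.bind_covering hcov (fun W w hw => J.pullback_stable _ (hS _))
  have hTF : ∀ ⦃Y : C⦄ (g : Y ⟶ X), T g → Fact Y := by
    rintro Y g ⟨W, y, w, hw, hy, rfl⟩
    exact hS' hw.choose _ hy
  refine ⟨Σ (Y : C), {g : Y ⟶ X // T g}, fun i => i.1, fun i => i.2.1, ?_, ?_⟩
  · refine J.superset_covering ?_ hT
    intro Y g hg
    exact ⟨Y, 𝟙 Y, g, Presieve.ofArrows.mk (⟨Y, g, hg⟩ : Σ (Y : C), {g : Y ⟶ X // T g}),
      Category.id_comp _⟩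
  · rintro ⟨Y, g, hg⟩
    exact hTF g hg

end Main

end Groth.Agent.Helper17.MT
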