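import Mathlib
import Groth.Prelude.Def_ModSite
import Groth.Prelude.Def_AlgSpPerf
import Groth.Agent.Lib.Helper17.MT26

/-!
# Summands of finite free modules on a site with terminal object and finite projective modules
-/

open CategoryTheory Limits Opposite

namespace Groth.Agent.Helper17.FS

open Groth.Agent.Helper17.MT

universe u

variable {C : Type u} [SmallCategory C] {J : GrothendieckTopology C} (O : Sheaf J CommRingCat.{u})
  {X : C} (hX : IsTerminal X)

/-- the value at `r` of the morphism `unit ⟶ M` attached to a section `m` is `r • m` -/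
theorem hat_app (M : ModSite.Mod O) (m : M.val.obj (op X)) (r : (ModSite.ringSh O).obj.obj (op X)) :
    (hatEquiv O hX M m).val.app (op X) r = r • m := by
  have h1 : (hatEquiv O hX M m).val.app (op X) (1 : (ModSite.ringSh O).obj.obj (op X)) = m :=
    evalOne_homOfSection O hX M m
  have h2 := ((hatEquiv O hX M m).val.app (op X)).hom.map_smul r
    (show (ModSite.unit O).val.obj (op X) from (1 : (ModSite.ringSh O).obj.obj (op X)))
  have h3 : r • (show (ModSite.unit O).val.obj (op X) from
      (1 : (ModSite.ringSh O).obj.obj (op X))) = r := mul_one r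
  rw [h3] at h2
  exact h2.trans (congrArg (fun y => r • y) h1)

section Free

variable {I : Type u} [Fintype I] [DecidableEq I]

/-- the basis sections of a finite free module -/
noncomputable def eB (k : I) :
    (SheafOfModules.free (R := ModSite.ringSh O) I).val.obj (op X) :=
  (SheafOfModules.ιFree (R := ModSite.ringSh O) k).val.app (op X)
    (1 : (ModSite.ringSh O).obj.obj (op X))

/-- the coordinates of a section of a finite free module -/
noncomputable def cB (k : I) (s : (SheafOfModules.free (R := ModSite.ringSh O) I).val.obj (op X)) :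
    (ModSite.ringSh O).obj.obj (op X) :=
  (freeπ (ModSite.ringSh O) k).val.app (op X) s

theorem ιFree_app (k : I) (r : (ModSite.ringSh O).obj.obj (op X)) :
    (SheafOfModules.ιFree (R := ModSite.ringSh O) k).val.app (op X) r = r • eB O k (X := X) := by
  have h2 := ((SheafOfModules.ιFree (R := ModSite.ringSh O) k).val.app (op X)).hom.map_smul r
    (show (ModSite.unit O).val.obj (op X) from (1 : (ModSite.ringSh O).obj.obj (op X)))
  have h3 : r • (show (ModSite.unit O).val.obj (op X) from
      (1 : (ModSite.ringSh O).obj.obj (op X))) = r := mul_one r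
  rw [h3] at h2
  exact h2

theorem eq_sum_cB (s : (SheafOfModules.free (R := ModSite.ringSh O) I).val.obj (op X)) :
    s = ∑ k, cB O k s • eB O k (X := X) := by
  have h := congrArg (fun φ => appHom O _ _ X s φ) (sum_freeπ_ιFree (ModSite.ringSh O) (I := I))
  simp only [map_sum] at h
  refine Eq.trans ?_ (Eq.trans h.symm (Finset.sum_congr rfl (fun k _ => ?_)))
  · rfl
  · exact ιFree_app O k _

theorem cB_eB (j k : I) : cB O k (eB O j (X := X)) = if j = k then 1 else 0 := by
  have h := congrArg (fun φ => evalOne O _ X φ) (ιFree_freeπ (ModSite.ringSh O) j k)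
  refine Eq.trans ?_ (h.trans ?_)
  · rfl
  · by_cases hjk : j = k
    · simp only [if_pos hjk]
      rfl
    · simp only [if_neg hjk]
      rfl

include hX in
theorem free_app_injective (M : ModSite.Mod O)
    (φ φ' : SheafOfModules.free (R := ModSite.ringSh O) I ⟶ M)
    (h : φ.val.app (op X) = φ'.val.app (op X)) : φ = φ' := by
  apply Cofan.IsColimit.hom_ext (SheafOfModules.isColimitFreeCofan I)
  intro k
  change SheafOfModules.ιFree k ≫ φ = SheafOfModules.ιFree k ≫ φ'
  apply unit_hom_ext O hX
  change φ.val.app (op X) (eB O k) = φ'.val.app (op X) (eB O k)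
  rw [h]

include hX in
theorem free_app_surjective (M : ModSite.Mod O)
    (ψ : (SheafOfModules.free (R := ModSite.ringSh O) I).val.obj (op X) ⟶ M.val.obj (op X)) :
    ∃ φ : SheafOfModules.free (R := ModSite.ringSh O) I ⟶ M, φ.val.app (op X) = ψ := by
  refine ⟨∑ k, freeπ (ModSite.ringSh O) k ≫ hatEquiv O hX M (ψ (eB O k)), ?_⟩
  ext s
  have h1 : (∑ k, freeπ (ModSite.ringSh O) k ≫ hatEquiv O hX M (ψ (eB O k))).val.app (op X) s =
      ∑ k, (freeπ (ModSite.ringSh O) k ≫ hatEquiv O hX M (ψ (eB O k))).val.app (op X) s :=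
    map_sum (appHom O _ M X s) _ _
  refine h1.trans ?_
  have h2 : ∀ k, (freeπ (ModSite.ringSh O) k ≫ hatEquiv O hX M (ψ (eB O k))).val.app (op X) s =
      cB O k s • ψ (eB O k) := fun k => hat_app O hX M _ _
  rw [Finset.sum_congr rfl (fun k _ => h2 k)]
  conv_rhs => rw [eq_sum_cB O s]
  rw [map_sum]
  exact Finset.sum_congr rfl (fun k _ => (ψ.hom.map_smul _ _).symm)

/-- coordinates as a linear map -/
noncomputable def ofFr : (SheafOfModules.free (R := ModSite.ringSh O) I).val.obj (op X)
    →ₗ[(ModSite.ringSh O).obj.obj (op X)] (I → (ModSite.ringSh O).obj.obj (op X)) :=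
  LinearMap.pi (fun k => ((freeπ (ModSite.ringSh O) k).val.app (op X)).hom)

/-- linear combinations of the basis sections -/
noncomputable def toFr : (I → (ModSite.ringSh O).obj.obj (op X))
    →ₗ[(ModSite.ringSh O).obj.obj (op X)]
      (SheafOfModules.free (R := ModSite.ringSh O) I).val.obj (op X) :=
  Fintype.linearCombination _ (fun k => eB O k (X := X))

theorem toFr_ofFr (s : (SheafOfModules.free (R := ModSite.ringSh O) I).val.obj (op X)) :
    toFr O (ofFr O s) = s := by
  refine Eq.trans ?_ (eq_sum_cB O s).symm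
  exact Fintype.linearCombination_apply _ _ _

theorem ofFr_toFr (r : I → (ModSite.ringSh O).obj.obj (op X)) :
    ofFr O (toFr O r (X := X)) = r := by
  funext j
  have h1 : toFr O r (X := X) = ∑ k, r k • eB O k (X := X) :=
    Fintype.linearCombination_apply _ _ _
  change cB O j (toFr O r) = r j
  rw [h1]
  have h2 : cB O j (∑ k, r k • eB O k (X := X)) = ∑ k, r k • cB O j (eB O k (X := X)) := by
    unfold cB
    rw [map_sum]
    exact Finset.sum_congr rfl (fun k _ =>
      ((freeπ (ModSite.ringSh O) j).val.app (op X)).hom.map_smul _ _)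
  rw [h2]
  simp only [cB_eB]
  rw [Finset.sum_eq_single j]
  · rw [if_pos rfl]
    exact mul_one _
  · intro k _ hk
    rw [if_neg hk]
    exact mul_zero _
  · intro h
    exact absurd (Finset.mem_univ j) h

end Free

section Main

include hX in
theorem summand_app_bijective (E E' : ModSite.Mod O)
    (hE : DCoh.IsFinFreeSummandMod (ModSite.ringSh O) E) :
    Function.Bijective (fun φ : E ⟶ E' => φ.val.app (op X)) := by
  obtain ⟨n, i, p, hip⟩ := hE
  constructor
  · intro φ φ' h
    have h0 : φ.val.app (op X) = φ'.val.app (op X) := h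
    have h' : (p ≫ φ).val.app (op X) = (p ≫ φ').val.app (op X) := by
      change p.val.app (op X) ≫ φ.val.app (op X) = p.val.app (op X) ≫ φ'.val.app (op X)
      rw [h0]
    have h2 := free_app_injective O hX E' _ _ h'
    calc φ = (i ≫ p) ≫ φ := by rw [hip, Category.id_comp]
      _ = i ≫ (p ≫ φ') := by rw [Category.assoc, h2]
      _ = φ' := by rw [← Category.assoc, hip, Category.id_comp]
  · intro ψ
    obtain ⟨Φ, hΦ⟩ := free_app_surjective O hX E' (p.val.app (op X) ≫ ψ)
    refine ⟨i ≫ Φ, ?_⟩
    change i.val.app (op X) ≫ Φ.val.app (op X) = ψ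
    rw [hΦ, ← Category.assoc]
    have h1 : i.val.app (op X) ≫ p.val.app (op X) = 𝟙 _ := by
      change (i ≫ p).val.app (op X) = _
      rw [hip]
      rfl
    rw [h1, Category.id_comp]

theorem summand_sections_finite_projective (E : ModSite.Mod O)
    (hE : DCoh.IsFinFreeSummandMod (ModSite.ringSh O) E) :
    Module.Finite ((ModSite.ringSh O).obj.obj (op X)) (E.val.obj (op X)) ∧
      Module.Projective ((ModSite.ringSh O).obj.obj (op X)) (E.val.obj (op X)) := by
  obtain ⟨n, i, p, hip⟩ := hE
  let a : E.val.obj (op X) →ₗ[(ModSite.ringSh O).obj.obj (op X)]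
      (ULift.{u} (Fin n) → (ModSite.ringSh O).obj.obj (op X)) :=
    ofFr O ∘ₗ (i.val.app (op X)).hom
  let b : (ULift.{u} (Fin n) → (ModSite.ringSh O).obj.obj (op X))
      →ₗ[(ModSite.ringSh O).obj.obj (op X)] E.val.obj (op X) :=
    (p.val.app (op X)).hom ∘ₗ toFr O
  have hba : b ∘ₗ a = LinearMap.id := by
    ext s
    change p.val.app (op X) (toFr O (ofFr O (i.val.app (op X) s))) = s
    rw [toFr_ofFr]
    change (i ≫ p).val.app (op X) s = s
    rw [hip]
    rfl
  constructor
  · exact Module.Finite.of_surjective b (fun s => ⟨a s, LinearMap.congr_fun hba s⟩)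
  · exact Module.Projective.of_split a b hba

include hX in
theorem exists_summand_of_finite_projective
    (M : ModuleCat.{u} ((ModSite.ringSh O).obj.obj (op X)))
    (hfin : Module.Finite ((ModSite.ringSh O).obj.obj (op X)) M)
    (hproj : Module.Projective ((ModSite.ringSh O).obj.obj (op X)) M) :
    ∃ E : ModSite.Mod O, DCoh.IsFinFreeSummandMod (ModSite.ringSh O) E ∧
      Nonempty (E.val.obj (op X) ≅ M) := by
  obtain ⟨n, f, g, -, -, hfg⟩ :=
    Module.Finite.exists_comp_eq_id_of_projective ((ModSite.ringSh O).obj.obj (op X)) M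
  let u : (Fin n → (ModSite.ringSh O).obj.obj (op X)) ≃ₗ[(ModSite.ringSh O).obj.obj (op X)]
      (ULift.{u} (Fin n) → (ModSite.ringSh O).obj.obj (op X)) :=
    LinearEquiv.funCongrLeft _ _ Equiv.ulift
  let ιM : M →ₗ[(ModSite.ringSh O).obj.obj (op X)]
      (SheafOfModules.free (R := ModSite.ringSh O) (ULift.{u} (Fin n))).val.obj (op X) :=
    toFr O ∘ₗ u.toLinearMap ∘ₗ g
  let πM : (SheafOfModules.free (R := ModSite.ringSh O) (ULift.{u} (Fin n))).val.obj (op X)
      →ₗ[(ModSite.ringSh O).obj.obj (op X)] M :=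
    f ∘ₗ u.symm.toLinearMap ∘ₗ ofFr O
  have hπι : ∀ m, πM (ιM m) = m := by
    intro m
    change f (u.symm (ofFr O (toFr O (u (g m))))) = m
    rw [ofFr_toFr, LinearEquiv.symm_apply_apply]
    exact LinearMap.congr_fun hfg m
  obtain ⟨ε, hε⟩ := free_app_surjective O hX
    (SheafOfModules.free (R := ModSite.ringSh O) (ULift.{u} (Fin n)))
    (ModuleCat.ofHom (ιM ∘ₗ πM))
  have hεε : ε ≫ ε = ε := by
    apply free_app_injective O hX
    change ε.val.app (op X) ≫ ε.val.app (op X) = ε.val.app (op X)
    rw [hε]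
    ext s
    change ιM (πM (ιM (πM s))) = ιM (πM s)
    rw [hπι]
  obtain ⟨E, i, p, hip, hpi⟩ := IsIdempotentComplete.idempotents_split _ ε hεε
  refine ⟨E, ⟨n, i, p, hip⟩, ⟨?_⟩⟩
  have hpiX : ∀ s, i.val.app (op X) (p.val.app (op X) s) = ιM (πM s) := by
    intro s
    change (p ≫ i).val.app (op X) s = _
    rw [hpi, hε]
    rfl
  have hipX : ∀ s, p.val.app (op X) (i.val.app (op X) s) = s := by
    intro s
    change (i ≫ p).val.app (op X) s = _
    rw [hip]
    rfl
  refine LinearEquiv.toModuleIso (LinearEquiv.ofLinear (πM ∘ₗ (i.val.app (op X)).hom)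
    ((p.val.app (op X)).hom ∘ₗ ιM) ?_ ?_)
  · ext m
    change πM (i.val.app (op X) (p.val.app (op X) (ιM m))) = m
    rw [hpiX, hπι, hπι]
  · ext s
    change p.val.app (op X) (ιM (πM (i.val.app (op X) s))) = s
    rw [← hpiX, hipX, hipX]

include hX in
theorem main9049 :
    (∀ E E' : ModSite.Mod O, DCoh.IsFinFreeSummandMod (ModSite.ringSh O) E →
        DCoh.IsFinFreeSummandMod (ModSite.ringSh O) E' →
        Function.Bijective (fun φ : E ⟶ E' => φ.val.app (op X))) ∧
    (∀ E : ModSite.Mod O, DCoh.IsFinFreeSummandMod (ModSite.ringSh O) E →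
        Module.Finite ((ModSite.ringSh O).obj.obj (op X)) (E.val.obj (op X)) ∧
        Module.Projective ((ModSite.ringSh O).obj.obj (op X)) (E.val.obj (op X))) ∧
    (∀ M : ModuleCat.{u} ((ModSite.ringSh O).obj.obj (op X)),
        Module.Finite ((ModSite.ringSh O).obj.obj (op X)) M →
        Module.Projective ((ModSite.ringSh O).obj.obj (op X)) M →
        ∃ E : ModSite.Mod O, DCoh.IsFinFreeSummandMod (ModSite.ringSh O) E ∧
          Nonempty (E.val.obj (op X) ≅ M)) :=
  ⟨fun E E' hE _ => summand_app_bijective O hX E E' hE,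
    fun E hE => summand_sections_finite_projective O E hE,
    fun M h1 h2 => exists_summand_of_finite_projective O hX M h1 h2⟩

end Main

end Groth.Agent.Helper17.FS
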