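import Mathlib
import Groth.Prelude.Def_ModSite
import Groth.Agent.Lib.Helper17.MT25
import Groth.Agent.Lib.Helper17.FS1

/-!
# Generating sections: every section is locally a combination of the generators
-/

open CategoryTheory Limits Opposite

namespace Groth.Agent.Helper17.GN

open Groth.Agent.Helper17.MT

universe u

variable {C : Type u} [SmallCategory C] {J : GrothendieckTopology C} (O : Sheaf J CommRingCat.{u})

/-- the value of a global section at an object -/
def secAt (N : ModSite.Mod O) (t : N.sections) (W : C) : ModSite.sect N W := t.val (op W)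

theorem res_secAt (N : ModSite.Mod O) (t : N.sections) {V W : C} (g : W ⟶ V) :
    res N g (secAt O N t V) = secAt O N t W :=
  t.property g.op

section Comb

variable {K : Type u} [Fintype K] [DecidableEq K] (N : ModSite.Mod O)
  (s : K → N.sections)

/-- the morphism from the free module attached to a family of global sections -/
noncomputable abbrev πS : SheafOfModules.free (R := ModSite.ringSh O) K ⟶ N :=
  N.freeHomEquiv.symm s

theorem ιFree_πS (k : K) :
    SheafOfModules.ιFree (R := ModSite.ringSh O) k ≫ πS O N s = N.unitHomEquiv.symm (s k) := by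
  have h := SheafOfModules.unitHomEquiv_symm_freeHomEquiv_apply (πS O N s) k
  rw [← h]
  congr 1
  exact congrFun (Equiv.apply_symm_apply N.freeHomEquiv s) k

theorem unitHomEquiv_symm_app_one (t : N.sections) (W : C) :
    (N.unitHomEquiv.symm t).val.app (op W) (1 : (ModSite.ringSh O).obj.obj (op W)) =
      secAt O N t W := by
  have h := SheafOfModules.unitHomEquiv_apply_coe N (N.unitHomEquiv.symm t) (op W)
  rw [Equiv.apply_symm_apply] at h
  exact h.symm

theorem πS_eB (k : K) (W : C) :
    (πS O N s).val.app (op W) (FS.eB O k (X := W)) = secAt O N (s k) W := by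
  have h := congrArg (fun φ => evalOne O N W φ) (ιFree_πS O N s k)
  exact h.trans (unitHomEquiv_symm_app_one O N (s k) W)

/-- if the sections `s` generate `N`, every section is locally a combination of them -/
theorem locally_combination [Epi (πS O N s)] (V : C) (f : N.val.obj (op V)) :
    ∃ S ∈ J V, ∀ ⦃W : C⦄ (g : W ⟶ V), S g →
      ∃ a : K → O.obj.obj (op W), res N g f = ∑ k, a k • secAt O N (s k) W := by
  have hπ : Presheaf.IsLocallySurjective J
      ((SheafOfModules.toSheaf.{u} (ModSite.ringSh O)).map (πS O N s)).hom :=
    (epi_iff_isLocallySurjective (πS O N s)).mp inferInstance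
  refine ⟨Presheaf.imageSieve ((SheafOfModules.toSheaf.{u} (ModSite.ringSh O)).map (πS O N s)).hom f,
    Presheaf.imageSieve_mem J
      ((SheafOfModules.toSheaf.{u} (ModSite.ringSh O)).map (πS O N s)).hom (U := op V) f, ?_⟩
  rintro W g ⟨z, hz⟩
  have hz' : (πS O N s).val.app (op W) z = res N g f := hz
  refine ⟨fun k => FS.cB O k z, ?_⟩
  rw [← hz']
  conv_lhs => rw [FS.eq_sum_cB O z]
  rw [map_sum]
  refine Finset.sum_congr rfl (fun k _ => ?_)
  rw [← πS_eB O N s k W]
  exact ((πS O N s).val.app (op W)).hom.map_smul _ _

end Comb

end Groth.Agent.Helper17.GN
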