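import Mathlib
import Groth.Prelude.Def_ModSite
import Groth.Prelude.Def_ModSite2
import Groth.Agent.Lib.Helper17.MT24

/-!
# Stalks of modules at points of a site: germ calculus, flat modules have flat stalks
-/

open CategoryTheory Limits Opposite

namespace Groth.Agent.Helper17.ST

universe u

variable {C : Type u} [SmallCategory C] {J : GrothendieckTopology C}
  (p : GrothendieckTopology.Point.{u} J)

/-- two neighbourhoods have a common refinement -/
theorem exists_common (X Y : C) (x : p.fiber.obj X) (y : p.fiber.obj Y) :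
    ∃ (W : C) (w : p.fiber.obj W) (a : W ⟶ X) (b : W ⟶ Y),
      p.fiber.map a w = x ∧ p.fiber.map b w = y := by
  let W := IsCofiltered.min (Functor.elementsMk p.fiber X x) (Functor.elementsMk p.fiber Y y)
  let gX := IsCofiltered.minToLeft (Functor.elementsMk p.fiber X x) (Functor.elementsMk p.fiber Y y)
  let gY := IsCofiltered.minToRight (Functor.elementsMk p.fiber X x) (Functor.elementsMk p.fiber Y y)
  exact ⟨W.1, W.2, gX.1, gY.1, gX.2, gY.2⟩

/-- there is a neighbourhood -/
theorem exists_nbhd : ∃ (X : C), Nonempty (p.fiber.obj X) := by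
  obtain ⟨W⟩ := IsCofiltered.nonempty (C := p.fiber.Elements)
  exact ⟨W.1, ⟨W.2⟩⟩

section General

variable {A : Type*} [Category A] [HasColimitsOfSize.{u, u} A]
  {FC : A → A → Type*} {CC : A → Type u}
  [∀ (X Y : A), FunLike (FC X Y) (CC X) (CC Y)]
  [ConcreteCategory.{u} A FC]
  [PreservesFilteredColimitsOfSize.{u, u} (forget A)]

theorem germ_res (P : Cᵒᵖ ⥤ A) {X Y : C} (g : Y ⟶ X) (y : p.fiber.obj Y) (x : p.fiber.obj X)
    (h : p.fiber.map g y = x) (s : ToType (P.obj (op X))) :
    p.toPresheafFiber Y y P (P.map g.op s) = p.toPresheafFiber X x P s := by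
  subst h
  exact p.toPresheafFiber_w_apply g y P s

/-- finitely many germs live on a common neighbourhood refining a given one -/
theorem exists_nbhd_fin (P : Cᵒᵖ ⥤ A) {n : ℕ} (z : Fin n → ToType (p.presheafFiber.obj P))
    (X : C) (x : p.fiber.obj X) :
    ∃ (Y : C) (g : Y ⟶ X) (y : p.fiber.obj Y) (s : Fin n → ToType (P.obj (op Y))),
      p.fiber.map g y = x ∧ ∀ i, p.toPresheafFiber Y y P (s i) = z i := by
  induction n with
  | zero => exact ⟨X, 𝟙 X, x, fun i => i.elim0, by simp, fun i => i.elim0⟩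
  | succ n ih =>
    obtain ⟨Y, g, y, s, hy, hs⟩ := ih (fun i => z i.succ)
    obtain ⟨Y', y', s0, hs0⟩ := p.toPresheafFiber_jointly_surjective (z 0)
    obtain ⟨W, w, a, b, ha, hb⟩ := exists_common p Y Y' y y'
    refine ⟨W, a ≫ g, w, Fin.cons (P.map b.op s0) (fun i => P.map a.op (s i)), ?_, ?_⟩
    · rw [Functor.map_comp]
      change p.fiber.map g (p.fiber.map a w) = x
      rw [ha, hy]
    · intro i
      refine Fin.cases ?_ (fun i => ?_) i
      · rw [Fin.cons_zero]
        exact (germ_res p P b w y' hb s0).trans hs0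
      · rw [Fin.cons_succ]
        exact (germ_res p P a w y ha (s i)).trans (hs i)

end General

section Germ

variable {O : Sheaf J CommRingCat.{u}}

theorem germ_res' (F : ModSite.Mod O) {X Y : C} (g : Y ⟶ X) (y : p.fiber.obj Y) (x : p.fiber.obj X)
    (h : p.fiber.map g y = x) (s : ModSite.sect F X) :
    ModSite.germ p F Y y (MT.res F g s) = ModSite.germ p F X x s :=
  germ_res p (ModSite.toAb F).obj g y x h s

theorem germRing_res' {X Y : C} (g : Y ⟶ X) (y : p.fiber.obj Y) (x : p.fiber.obj X)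
    (h : p.fiber.map g y = x) (r : O.obj.obj (op X)) :
    ModSite.germRing p Y y (MT.rres g r) = ModSite.germRing p X x r :=
  germ_res p O.obj g y x h r

theorem germ_sum (F : ModSite.Mod O) (X : C) (x : p.fiber.obj X) {ι : Type*} (s : Finset ι)
    (f : ι → ModSite.sect F X) :
    ModSite.germ p F X x (∑ i ∈ s, f i) = ∑ i ∈ s, ModSite.germ p F X x (f i) :=
  map_sum (p.toPresheafFiber X x (ModSite.toAb F).obj).hom f s

theorem germ_zero (F : ModSite.Mod O) (X : C) (x : p.fiber.obj X) :
    ModSite.germ p F X x 0 = 0 :=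
  map_zero (p.toPresheafFiber X x (ModSite.toAb F).obj).hom

theorem germRing_sum (X : C) (x : p.fiber.obj X) {ι : Type*} (s : Finset ι)
    (f : ι → O.obj.obj (op X)) :
    ModSite.germRing p X x (∑ i ∈ s, f i) = ∑ i ∈ s, ModSite.germRing p X x (f i) :=
  map_sum (p.toPresheafFiber X x O.obj).hom f s

theorem germRing_mul (X : C) (x : p.fiber.obj X) (a b : O.obj.obj (op X)) :
    ModSite.germRing p X x (a * b) = ModSite.germRing p X x a * ModSite.germRing p X x b :=
  map_mul (p.toPresheafFiber X x O.obj).hom a b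

theorem germRing_zero (X : C) (x : p.fiber.obj X) :
    ModSite.germRing (O := O) p X x 0 = 0 :=
  map_zero (p.toPresheafFiber X x O.obj).hom

theorem germRing_one (X : C) (x : p.fiber.obj X) :
    ModSite.germRing (O := O) p X x 1 = 1 :=
  map_one (p.toPresheafFiber X x O.obj).hom

/-- germs vanish iff the section vanishes on a smaller neighbourhood -/
theorem germ_eq_zero_iff (F : ModSite.Mod O) (X : C) (x : p.fiber.obj X) (s : ModSite.sect F X) :
    ModSite.germ p F X x s = 0 ↔
      ∃ (Y : C) (g : Y ⟶ X) (y : p.fiber.obj Y), p.fiber.map g y = x ∧ MT.res F g s = 0 := by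
  rw [← germ_zero p F X x]
  refine (p.toPresheafFiber_eq_iff' (P := (ModSite.toAb F).obj) X x s 0).trans ?_
  refine exists_congr (fun Y => exists_congr (fun g => exists_congr (fun y => and_congr Iff.rfl ?_)))
  have h0 : ((ModSite.toAb F).obj.map g.op) (0 : ModSite.sect F X) = (0 : ModSite.sect F Y) :=
    map_zero ((ModSite.toAb F).obj.map g.op).hom
  constructor
  · intro h
    exact h.trans h0
  · intro h
    exact h.trans h0.symm

theorem germRing_eq_iff (X : C) (x : p.fiber.obj X) (a b : O.obj.obj (op X)) :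
    ModSite.germRing p X x a = ModSite.germRing p X x b ↔
      ∃ (Y : C) (g : Y ⟶ X) (y : p.fiber.obj Y), p.fiber.map g y = x ∧ MT.rres g a = MT.rres g b :=
  p.toPresheafFiber_eq_iff' (P := O.obj) X x a b

end Germ

section Flat

variable (O : Sheaf J CommRingCat.{u})

theorem main9092 (F : ModSite.Mod O) (hF : ModSite.IsFlat F) :
    Module.Flat (ModSite.stalkRing p O) (ModSite.stalkMod p F) := by
  refine Module.Flat.of_forall_isTrivialRelation ?_
  intro l f x hrel
  obtain ⟨X0, ⟨x0⟩⟩ := exists_nbhd p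
  obtain ⟨X1, g1, x1, f1, hx1, hf1⟩ := exists_nbhd_fin p O.obj f X0 x0
  obtain ⟨X2, g2, x2, (s2 : Fin l → ModSite.sect F X2), hx2, hs2⟩ :=
    exists_nbhd_fin p (ModSite.toAb F).obj x X1 x1
  have hf2 : ∀ i, ModSite.germRing p X2 x2 (MT.rres g2 (f1 i)) = f i := fun i =>
    (germRing_res' p g2 x2 x1 hx2 (f1 i)).trans (hf1 i)
  have hs2' : ∀ i, ModSite.germ p F X2 x2 (s2 i) = x i := hs2
  have hgerm : ModSite.germ p F X2 x2 (∑ i, MT.rres g2 (f1 i) • s2 i) = 0 := by
    rw [germ_sum]
    refine Eq.trans (Finset.sum_congr rfl (fun i _ => ?_)) hrel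
    rw [ModSite.germ_smul, hf2, hs2']
  obtain ⟨X3, g3, x3, hx3, h3⟩ := (germ_eq_zero_iff p F X2 x2 _).mp hgerm
  have hrel3 : ∑ i, MT.rres g3 (MT.rres g2 (f1 i)) • MT.res F g3 (s2 i) = 0 := by
    rw [← h3, MT.res_sum]
    exact Finset.sum_congr rfl (fun i _ => (MT.res_smul F g3 _ _).symm)
  obtain ⟨S, hS, hloc⟩ := MT.equational_of_isFlat O F hF X3 l _ _ hrel3
  obtain ⟨V, g, hg, v, hv⟩ := p.jointly_surjective S hS x3
  obtain ⟨k, t, a, h1, h2⟩ := hloc g hg
  refine ⟨k, fun i j => ModSite.germRing p V v (a i j), fun j => ModSite.germ p F V v (t j), ?_, ?_⟩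
  · intro i
    have e1 : x i = ModSite.germ p F V v (MT.res F g (MT.res F g3 (s2 i))) := by
      rw [germ_res' p F g v x3 hv, germ_res' p F g3 x3 x2 hx3]
      exact (hs2' i).symm
    refine e1.trans ?_
    have e2 : MT.res F g (MT.res F g3 (s2 i)) = ∑ j, a i j • t j := h1 i
    rw [e2, germ_sum]
    exact Finset.sum_congr rfl (fun j _ => ModSite.germ_smul p F V v _ _)
  · intro j
    have e1 : ∀ i, f i = ModSite.germRing p V v (MT.rres g (MT.rres g3 (MT.rres g2 (f1 i)))) := by
      intro i
      rw [germRing_res' p g v x3 hv, germRing_res' p g3 x3 x2 hx3]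
      exact (hf2 i).symm
    have e2 : ∑ i, a i j * MT.rres g (MT.rres g3 (MT.rres g2 (f1 i))) = 0 := h2 j
    refine Eq.trans ?_ ((congrArg (ModSite.germRing p V v) e2).trans (germRing_zero p V v))
    rw [germRing_sum]
    refine Finset.sum_congr rfl (fun i _ => ?_)
    rw [germRing_mul, ← e1 i]
    exact mul_comm _ _

end Flat

end Groth.Agent.Helper17.ST
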