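import Mathlib
import Groth.Prelude.Def_ModSite
import Groth.Prelude.Def_ModSite2
import Groth.Agent.Lib.Helper17.ST1

/-!
# Locally ringed sites: stalks are local
-/

open CategoryTheory Limits Opposite

namespace Groth.Agent.Helper17.ST

universe u

variable {C : Type u} [SmallCategory C] {J : GrothendieckTopology C}
  (O : Sheaf J CommRingCat.{u})

theorem germRing_sub (p : GrothendieckTopology.Point.{u} J) (X : C) (x : p.fiber.obj X)
    (a b : O.obj.obj (op X)) :
    ModSite.germRing p X x (a - b) = ModSite.germRing p X x a - ModSite.germRing p X x b :=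
  map_sub (p.toPresheafFiber X x O.obj).hom a b

theorem isUnit_germRing (p : GrothendieckTopology.Point.{u} J) (X : C) (x : p.fiber.obj X)
    (a : O.obj.obj (op X)) (h : IsUnit a) : IsUnit (ModSite.germRing p X x a) :=
  h.map (p.toPresheafFiber X x O.obj).hom

theorem main9090
    (h : ∀ (U : C) (f : O.obj.obj (op U)), ∃ S ∈ J U, ∀ ⦃V : C⦄ (g : V ⟶ U), S g →
        IsUnit ((O.obj.map g.op).hom f) ∨ IsUnit ((O.obj.map g.op).hom (1 - f)))
    (p : GrothendieckTopology.Point.{u} J) :
    Subsingleton (ModSite.stalkRing p O) ∨ IsLocalRing (ModSite.stalkRing p O) := by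
  by_cases hs : Subsingleton (ModSite.stalkRing p O)
  · exact Or.inl hs
  · right
    have : Nontrivial (ModSite.stalkRing p O) := not_subsingleton_iff_nontrivial.mp hs
    refine IsLocalRing.of_isUnit_or_isUnit_one_sub_self ?_
    intro a
    obtain ⟨X, x, f, rfl⟩ := p.toPresheafFiber_jointly_surjective (P := O.obj) a
    obtain ⟨S, hS, hloc⟩ := h X f
    obtain ⟨V, g, hg, v, hv⟩ := p.jointly_surjective S hS x
    rcases hloc g hg with hu | hu
    · left
      have h1 := isUnit_germRing O p V v _ hu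
      have h2 : ModSite.germRing p V v (MT.rres g f) = ModSite.germRing p X x f :=
        germRing_res' p g v x hv f
      change IsUnit (ModSite.germRing p X x f)
      rw [← h2]
      exact h1
    · right
      have h1 := isUnit_germRing O p V v _ hu
      have h2 : ModSite.germRing p V v (MT.rres g (1 - f)) = ModSite.germRing p X x (1 - f) :=
        germRing_res' p g v x hv (1 - f)
      have h3 : ModSite.germRing p X x (1 - f) = 1 - ModSite.germRing p X x f := by
        rw [germRing_sub, germRing_one]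
      change IsUnit (1 - ModSite.germRing p X x f)
      rw [← h3, ← h2]
      exact h1

theorem rres_one {U V : C} (g : V ⟶ U) : MT.rres g (1 : O.obj.obj (op U)) = 1 :=
  map_one (O.obj.map g.op).hom

theorem rres_sub {U V : C} (g : V ⟶ U) (a b : O.obj.obj (op U)) :
    MT.rres g (a - b) = MT.rres g a - MT.rres g b :=
  map_sub (O.obj.map g.op).hom a b

theorem isUnit_rres {U V : C} (g : V ⟶ U) (a : O.obj.obj (op U)) (h : IsUnit a) :
    IsUnit (MT.rres g a) :=
  h.map (O.obj.map g.op).hom

/-- a section whose germ is a unit is a unit on a smaller neighbourhood -/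
theorem exists_isUnit_of_isUnit_germ (p : GrothendieckTopology.Point.{u} J) (X : C)
    (x : p.fiber.obj X) (f : O.obj.obj (op X)) (h : IsUnit (ModSite.germRing p X x f)) :
    ∃ (V : C) (g : V ⟶ X) (v : p.fiber.obj V), p.fiber.map g v = x ∧ IsUnit (MT.rres g f) := by
  obtain ⟨b, hb⟩ := h.exists_right_inv
  obtain ⟨Y, y, b0, rfl⟩ := p.toPresheafFiber_jointly_surjective (P := O.obj) b
  obtain ⟨W, w, α, β, hα, hβ⟩ := exists_common p X Y x y
  have h1 : ModSite.germRing p W w (MT.rres α f * MT.rres β b0) = ModSite.germRing p W w 1 := by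
    rw [germRing_mul, germRing_one, germRing_res' p α w x hα, germRing_res' p β w y hβ]
    exact hb
  obtain ⟨W', γ, w', hγ, h2⟩ := (germRing_eq_iff p W w _ _).mp h1
  refine ⟨W', γ ≫ α, w', ?_, ?_⟩
  · rw [Functor.map_comp]
    change p.fiber.map α (p.fiber.map γ w') = x
    rw [hγ, hα]
  · rw [MT.rres_mul, rres_one] at h2
    rw [MT.rres_comp]
    exact IsUnit.of_mul_eq_one _ h2

/-- a sieve is covering as soon as it is so at all points of a conservative family -/
theorem sieve_mem_of_points (P : ObjectProperty (GrothendieckTopology.Point.{u} J))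
    (hP : P.IsConservativeFamilyOfPoints) {X : C} (S : Sieve X)
    (h : ∀ (Φ : GrothendieckTopology.Point.{u} J), P Φ → ∀ x : Φ.fiber.obj X,
      ∃ (V : C) (g : V ⟶ X) (_ : S g) (y : Φ.fiber.obj V), Φ.fiber.map g y = x) : S ∈ J X := by
  let ι : Type u := Σ V : C, {g : V ⟶ X // S g}
  let Y : ι → C := fun i => i.1
  let f : ∀ i, Y i ⟶ X := fun i => i.2.1
  refine J.superset_covering (S := Sieve.ofArrows Y f) ?_ ?_
  · rw [Sieve.generate_le_iff, Presieve.ofArrows_le_iff]
    exact fun i => i.2.2
  · rw [hP.jointly_reflect_ofArrows_mem]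
    intro Φ x
    obtain ⟨V, g, hg, y, hy⟩ := h Φ.obj Φ.property x
    exact ⟨⟨V, g, hg⟩, y, hy⟩

/-- the sieve where `f` or `1 - f` becomes a unit -/
def unitSieve {U : C} (f : O.obj.obj (op U)) : Sieve U where
  arrows V g := IsUnit (MT.rres g f) ∨ IsUnit (MT.rres g (1 - f))
  downward_closed := by
    intro V W g hg k
    rcases hg with hg | hg
    · left
      rw [MT.rres_comp]
      exact isUnit_rres O k _ hg
    · right
      rw [MT.rres_comp]
      exact isUnit_rres O k _ hg

theorem main9091 [GrothendieckTopology.HasEnoughPoints.{u} J]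
    (h : ∀ p : GrothendieckTopology.Point.{u} J,
      Subsingleton (ModSite.stalkRing p O) ∨ IsLocalRing (ModSite.stalkRing p O))
    (U : C) (f : O.obj.obj (op U)) :
    ∃ S ∈ J U, ∀ ⦃V : C⦄ (g : V ⟶ U), S g →
        IsUnit ((O.obj.map g.op).hom f) ∨ IsUnit ((O.obj.map g.op).hom (1 - f)) := by
  obtain ⟨P, _, hP⟩ := GrothendieckTopology.HasEnoughPoints.exists_objectProperty.{u} J
  refine ⟨unitSieve O f, ?_, fun V g hg => hg⟩
  refine sieve_mem_of_points P hP _ ?_
  intro Φ _ x
  have hu : IsUnit (ModSite.germRing Φ U x f) ∨ IsUnit (ModSite.germRing Φ U x (1 - f)) := by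
    rcases h Φ with hs | hl
    · exact Or.inl (isUnit_of_subsingleton _)
    · have := hl.isUnit_or_isUnit_one_sub_self (ModSite.germRing Φ U x f)
      rcases this with h1 | h1
      · exact Or.inl h1
      · right
        rw [germRing_sub, germRing_one]
        exact h1
  rcases hu with hu | hu
  · obtain ⟨V, g, v, hv, hg⟩ := exists_isUnit_of_isUnit_germ O Φ U x f hu
    exact ⟨V, g, Or.inl hg, v, hv⟩
  · obtain ⟨V, g, v, hv, hg⟩ := exists_isUnit_of_isUnit_germ O Φ U x (1 - f) hu
    exact ⟨V, g, Or.inr hg, v, hv⟩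

/-- the sieve where some member of a family becomes a unit -/
def someUnitSieve {U : C} {ι : Type*} (f : ι → O.obj.obj (op U)) : Sieve U where
  arrows V g := ∃ i, IsUnit (MT.rres g (f i))
  downward_closed := by
    rintro V W g ⟨i, hg⟩ k
    refine ⟨i, ?_⟩
    rw [MT.rres_comp]
    exact isUnit_rres O k _ hg

theorem someUnitSieve_mem
    (h : ∀ (U : C) (f : O.obj.obj (op U)), ∃ S ∈ J U, ∀ ⦃V : C⦄ (g : V ⟶ U), S g →
        IsUnit ((O.obj.map g.op).hom f) ∨ IsUnit ((O.obj.map g.op).hom (1 - f))) :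
    ∀ (n : ℕ) (U : C) (f : Fin (n + 1) → O.obj.obj (op U)), Ideal.span (Set.range f) = ⊤ →
      someUnitSieve O f ∈ J U := by
  intro n
  induction n with
  | zero =>
    intro U f hf
    refine J.covering_of_eq_top ?_
    rw [← Sieve.id_mem_iff_eq_top]
    refine ⟨0, ?_⟩
    have h1 : Set.range f = {f 0} := by
      ext y
      constructor
      · rintro ⟨i, rfl⟩
        have hi : i = 0 := Fin.ext (by omega)
        rw [hi]
        rfl
      · rintro rfl
        exact ⟨0, rfl⟩
    rw [h1, Ideal.span_singleton_eq_top] at hf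
    have h2 : MT.rres (𝟙 U) (f 0) = f 0 := by
      unfold MT.rres
      rw [op_id, O.obj.map_id]
      rfl
    rw [h2]
    exact hf
  | succ n ih =>
    intro U f hf
    have h1 : (1 : O.obj.obj (op U)) ∈ Ideal.span (Set.range f) := by
      rw [hf]
      exact Submodule.mem_top
    obtain ⟨c, hc⟩ := (Ideal.mem_span_range_iff_exists_fun).mp h1
    rw [Fin.sum_univ_succ] at hc
    obtain ⟨S₁, hS₁, hloc⟩ := h U (c 0 * f 0)
    refine J.transitive hS₁ _ ?_
    intro V g hg
    rcases hloc g hg with hu | hu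
    · refine J.covering_of_eq_top (Sieve.pullback_eq_top_of_mem _ ?_)
      refine ⟨0, ?_⟩
      change IsUnit (MT.rres g (c 0 * f 0)) at hu
      rw [MT.rres_mul] at hu
      exact isUnit_of_mul_isUnit_right hu
    · change IsUnit (MT.rres g (1 - c 0 * f 0)) at hu
      have h2 : 1 - c 0 * f 0 = ∑ i : Fin (n + 1), c i.succ * f i.succ := by
        rw [← hc]
        ring
      rw [h2, MT.rres_sum] at hu
      have h3 : Ideal.span (Set.range (fun i : Fin (n + 1) => MT.rres g (f i.succ))) = ⊤ := by
        refine Ideal.eq_top_of_isUnit_mem _ ?_ hu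
        refine Ideal.sum_mem _ (fun i _ => ?_)
        rw [MT.rres_mul]
        exact Ideal.mul_mem_left _ _ (Ideal.subset_span ⟨i, rfl⟩)
      refine J.superset_covering ?_ (ih V _ h3)
      rintro W k ⟨i, hi⟩
      refine ⟨i.succ, ?_⟩
      rw [MT.rres_comp]
      exact hi

theorem main9089 :
    (∀ (U : C) (f : O.obj.obj (op U)), ∃ S ∈ J U, ∀ ⦃V : C⦄ (g : V ⟶ U), S g →
        IsUnit ((O.obj.map g.op).hom f) ∨ IsUnit ((O.obj.map g.op).hom (1 - f))) ↔
    (∀ (U : C) (n : ℕ) (f : Fin n → O.obj.obj (op U)), 1 ≤ n → Ideal.span (Set.range f) = ⊤ →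
        ∃ S ∈ J U, ∀ ⦃V : C⦄ (g : V ⟶ U), S g → ∃ i, IsUnit ((O.obj.map g.op).hom (f i))) := by
  constructor
  · intro h U n f hn hf
    obtain ⟨m, rfl⟩ : ∃ m, n = m + 1 := ⟨n - 1, by omega⟩
    exact ⟨someUnitSieve O f, someUnitSieve_mem O h m U f hf, fun V g hg => hg⟩
  · intro h U f
    have hspan : Ideal.span (Set.range ![f, 1 - f]) = ⊤ := by
      refine Ideal.eq_top_of_isUnit_mem _ ?_ isUnit_one
      have e : f + (1 - f) = (1 : O.obj.obj (op U)) := by ring
      have hmem : f + (1 - f) ∈ Ideal.span (Set.range ![f, 1 - f]) :=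
        Ideal.add_mem _ (Ideal.subset_span ⟨0, rfl⟩) (Ideal.subset_span ⟨1, rfl⟩)
      rw [e] at hmem
      exact hmem
    obtain ⟨S, hS, hloc⟩ := h U 2 ![f, 1 - f] (by norm_num) hspan
    refine ⟨S, hS, fun V g hg => ?_⟩
    obtain ⟨i, hi⟩ := hloc g hg
    fin_cases i
    · exact Or.inl hi
    · exact Or.inr hi

end Groth.Agent.Helper17.ST
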