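import Mathlib
import Groth.Prelude.Def_ModSite
import Groth.Prelude.Def_ModSite2
import Groth.Agent.Lib.Helper17.ST1
import Groth.Agent.Lib.Helper17.ST3

/-!
# Flatness can be checked on the stalks at a conservative family of points
-/

open CategoryTheory Limits Opposite

namespace Groth.Agent.Helper17.ST

universe u

variable {C : Type u} [SmallCategory C] {J : GrothendieckTopology C}
  (p : GrothendieckTopology.Point.{u} J)

section General

variable {A : Type*} [Category A] [HasColimitsOfSize.{u, u} A]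
  {FC : A → A → Type*} {CC : A → Type u}
  [∀ (X Y : A), FunLike (FC X Y) (CC X) (CC Y)]
  [ConcreteCategory.{u} A FC]
  [PreservesFilteredColimitsOfSize.{u, u} (forget A)]

/-- finitely many germs live on a common neighbourhood refining a given one (finite index) -/
theorem exists_nbhd_finite (P : Cᵒᵖ ⥤ A) {ι : Type*} [Finite ι]
    (z : ι → ToType (p.presheafFiber.obj P)) (X : C) (x : p.fiber.obj X) :
    ∃ (Y : C) (g : Y ⟶ X) (y : p.fiber.obj Y) (s : ι → ToType (P.obj (op Y))),
      p.fiber.map g y = x ∧ ∀ i, p.toPresheafFiber Y y P (s i) = z i := by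
  obtain ⟨n, ⟨e⟩⟩ := Finite.exists_equiv_fin ι
  obtain ⟨Y, g, y, s, hy, hs⟩ := exists_nbhd_fin p P (fun i => z (e.symm i)) X x
  refine ⟨Y, g, y, fun i => s (e i), hy, fun i => ?_⟩
  rw [hs (e i), e.symm_apply_apply]

/-- finitely many equalities of germs hold on a common smaller neighbourhood -/
theorem exists_nbhd_eq_fin (P : Cᵒᵖ ⥤ A) {n : ℕ} (X : C) (x : p.fiber.obj X)
    (s t : Fin n → ToType (P.obj (op X)))
    (h : ∀ i, p.toPresheafFiber X x P (s i) = p.toPresheafFiber X x P (t i)) :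
    ∃ (Y : C) (g : Y ⟶ X) (y : p.fiber.obj Y), p.fiber.map g y = x ∧
      ∀ i, P.map g.op (s i) = P.map g.op (t i) := by
  induction n with
  | zero => exact ⟨X, 𝟙 X, x, by simp, fun i => i.elim0⟩
  | succ n ih =>
    obtain ⟨Y, g, y, hy, hs⟩ := ih (fun i => s i.succ) (fun i => t i.succ) (fun i => h i.succ)
    have h0 : p.toPresheafFiber Y y P (P.map g.op (s 0)) =
        p.toPresheafFiber Y y P (P.map g.op (t 0)) := by
      rw [germ_res p P g y x hy, germ_res p P g y x hy]
      exact h 0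
    obtain ⟨W, k, w, hw, hk⟩ := (p.toPresheafFiber_eq_iff' Y y _ _).mp h0
    refine ⟨W, k ≫ g, w, ?_, ?_⟩
    · rw [Functor.map_comp]
      change p.fiber.map g (p.fiber.map k w) = x
      rw [hw, hy]
    · intro i
      have hc : ∀ a : ToType (P.obj (op X)), P.map (k ≫ g).op a = P.map k.op (P.map g.op a) := by
        intro a
        rw [op_comp, P.map_comp]
        exact ConcreteCategory.comp_apply _ _ _
      rw [hc, hc]
      refine Fin.cases ?_ (fun i => ?_) i
      · exact hk
      · exact congrArg _ (hs i)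

theorem exists_nbhd_eq_finite (P : Cᵒᵖ ⥤ A) {ι : Type*} [Finite ι] (X : C) (x : p.fiber.obj X)
    (s t : ι → ToType (P.obj (op X)))
    (h : ∀ i, p.toPresheafFiber X x P (s i) = p.toPresheafFiber X x P (t i)) :
    ∃ (Y : C) (g : Y ⟶ X) (y : p.fiber.obj Y), p.fiber.map g y = x ∧
      ∀ i, P.map g.op (s i) = P.map g.op (t i) := by
  obtain ⟨n, ⟨e⟩⟩ := Finite.exists_equiv_fin ι
  obtain ⟨Y, g, y, hy, hs⟩ := exists_nbhd_eq_fin p P X x (fun i => s (e.symm i))
    (fun i => t (e.symm i)) (fun i => h (e.symm i))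
  refine ⟨Y, g, y, hy, fun i => ?_⟩
  have := hs (e i)
  rwa [e.symm_apply_apply] at this

end General

section Flat

variable (O : Sheaf J CommRingCat.{u})

/-- the sieve of arrows on which a relation becomes trivial -/
def trivSieve (F : ModSite.Mod O) {U : C} {n : ℕ} (f : Fin n → O.obj.obj (op U))
    (s : Fin n → ModSite.sect F U) : Sieve U where
  arrows V g := ∃ (l : ℕ) (t : Fin l → ModSite.sect F V) (a : Fin n → Fin l → O.obj.obj (op V)),
        (∀ j, MT.res F g (s j) = ∑ k, a j k • t k) ∧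
        (∀ k, ∑ j, a j k * MT.rres g (f j) = 0)
  downward_closed := by
    rintro V W g ⟨l, t, a, h1, h2⟩ k
    refine ⟨l, fun i => MT.res F k (t i), fun j i => MT.rres k (a j i), ?_, ?_⟩
    · intro j
      rw [MT.res_comp, h1 j, MT.res_sum]
      exact Finset.sum_congr rfl (fun i _ => MT.res_smul F k _ _)
    · intro i
      have := congrArg (MT.rres k) (h2 i)
      rw [MT.rres_sum, MT.rres_zero] at this
      refine Eq.trans (Finset.sum_congr rfl (fun j _ => ?_)) this
      rw [MT.rres_mul, MT.rres_comp]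

theorem trivSieve_comp (F : ModSite.Mod O) {U U' : C} (h : U' ⟶ U) {n : ℕ}
    (f : Fin n → O.obj.obj (op U)) (s : Fin n → ModSite.sect F U) {V : C} (g : V ⟶ U')
    (hg : trivSieve O F (fun j => MT.rres h (f j)) (fun j => MT.res F h (s j)) g) :
    trivSieve O F f s (g ≫ h) := by
  obtain ⟨l, t, a, h1, h2⟩ := hg
  refine ⟨l, t, a, ?_, ?_⟩
  · intro j
    rw [MT.res_comp]
    exact h1 j
  · intro k
    refine Eq.trans (Finset.sum_congr rfl (fun j _ => ?_)) (h2 k)
    rw [MT.rres_comp]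

/-- a relation whose germ is trivial is trivial on a smaller neighbourhood -/
theorem exists_trivSieve_of_germ (F : ModSite.Mod O) {X : C} (x : p.fiber.obj X) {n k : ℕ}
    (f : Fin n → O.obj.obj (op X)) (s : Fin n → ModSite.sect F X)
    (a : Fin n → Fin k → O.obj.obj (op X)) (t : Fin k → ModSite.sect F X)
    (E1 : ∀ j, ModSite.germ p F X x (s j) = ModSite.germ p F X x (∑ i, a j i • t i))
    (E2 : ∀ i, ModSite.germRing p X x (∑ j, a j i * f j) = ModSite.germRing p X x 0) :
    ∃ (Y : C) (g : Y ⟶ X) (y : p.fiber.obj Y), p.fiber.map g y = x ∧ trivSieve O F f s g := by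
  obtain ⟨X3, g3, x3, hx3, h3⟩ := exists_nbhd_eq_fin p (ModSite.toAb F).obj X x
    (fun j => s j) (fun j => ∑ i, a j i • t i) E1
  have E2' : ∀ i, ModSite.germRing p X3 x3 (MT.rres g3 (∑ j, a j i * f j)) =
      ModSite.germRing p X3 x3 (MT.rres g3 0) := by
    intro i
    rw [germRing_res' p g3 x3 x hx3, germRing_res' p g3 x3 x hx3]
    exact E2 i
  obtain ⟨X4, g4, x4, hx4, h4⟩ := exists_nbhd_eq_fin p O.obj X3 x3
    (fun i => MT.rres g3 (∑ j, a j i * f j)) (fun _ => MT.rres g3 0) E2'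
  refine ⟨X4, g4 ≫ g3, x4, ?_, ?_⟩
  · rw [Functor.map_comp]
    change p.fiber.map g3 (p.fiber.map g4 x4) = x
    rw [hx4, hx3]
  · refine ⟨k, fun i => MT.res F (g4 ≫ g3) (t i), fun j i => MT.rres (g4 ≫ g3) (a j i), ?_, ?_⟩
    · intro j
      have e3 : MT.res F g3 (s j) = MT.res F g3 (∑ i, a j i • t i) := h3 j
      rw [MT.res_comp, e3, ← MT.res_comp, MT.res_sum]
      exact Finset.sum_congr rfl (fun i _ => MT.res_smul F _ _ _)
    · intro i
      have e4 : MT.rres g4 (MT.rres g3 (∑ j, a j i * f j)) = MT.rres g4 (MT.rres g3 0) := h4 i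
      rw [← MT.rres_comp, ← MT.rres_comp, MT.rres_zero, MT.rres_sum] at e4
      refine Eq.trans (Finset.sum_congr rfl (fun j _ => ?_)) e4
      rw [MT.rres_mul]

theorem eqProp_of_flat_stalks (P : ObjectProperty (GrothendieckTopology.Point.{u} J))
    (hP : P.IsConservativeFamilyOfPoints) (F : ModSite.Mod O)
    (h : ∀ p : GrothendieckTopology.Point.{u} J, P p →
      Module.Flat (ModSite.stalkRing p O) (ModSite.stalkMod p F)) : MT.EqProp O F := by
  intro U n f s hrel
  refine ⟨trivSieve O F f s, ?_, fun V g hg => hg⟩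
  refine sieve_mem_of_points P hP _ ?_
  intro Φ hΦ x
  have hflat := h Φ hΦ
  have hrel' : ∑ j, ModSite.germRing Φ U x (f j) •
      (ModSite.germ Φ F U x (s j) : ModSite.stalkMod Φ F) = 0 := by
    have := congrArg (ModSite.germ Φ F U x) hrel
    rw [germ_sum, germ_zero] at this
    refine Eq.trans (Finset.sum_congr rfl (fun j _ => ?_)) this
    exact (ModSite.germ_smul Φ F U x _ _).symm
  obtain ⟨k, a, y, h1, h2⟩ := Module.Flat.isTrivialRelation_of_sum_smul_eq_zero hrel'
  obtain ⟨X1, g1, x1, a1, hx1, ha1⟩ := exists_nbhd_finite Φ O.obj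
    (fun q : Fin n × Fin k => a q.1 q.2) U x
  obtain ⟨X2, g2, x2, (t2 : Fin k → ModSite.sect F X2), hx2, ht2⟩ :=
    exists_nbhd_fin Φ (ModSite.toAb F).obj y X1 x1
  have hx12 : Φ.fiber.map (g2 ≫ g1) x2 = x := by
    rw [Functor.map_comp]
    change Φ.fiber.map g1 (Φ.fiber.map g2 x2) = x
    rw [hx2, hx1]
  have ha2 : ∀ j i, ModSite.germRing Φ X2 x2 (MT.rres g2 (a1 (j, i))) = a j i := fun j i =>
    (germRing_res' Φ g2 x2 x1 hx2 _).trans (ha1 (j, i))
  have ht2' : ∀ i, ModSite.germ Φ F X2 x2 (t2 i) = y i := ht2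
  have E1 : ∀ j, ModSite.germ Φ F X2 x2 (MT.res F (g2 ≫ g1) (s j)) =
      ModSite.germ Φ F X2 x2 (∑ i, MT.rres g2 (a1 (j, i)) • t2 i) := by
    intro j
    rw [germ_res' Φ F (g2 ≫ g1) x2 x hx12, germ_sum]
    refine (h1 j).trans (Finset.sum_congr rfl (fun i _ => ?_))
    rw [ModSite.germ_smul, ha2, ht2']
  have E2 : ∀ i, ModSite.germRing Φ X2 x2
      (∑ j, MT.rres g2 (a1 (j, i)) * MT.rres (g2 ≫ g1) (f j)) = ModSite.germRing Φ X2 x2 0 := by
    intro i
    rw [germRing_sum, germRing_zero]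
    refine Eq.trans (Finset.sum_congr rfl (fun j _ => ?_)) (h2 i)
    rw [germRing_mul, ha2, germRing_res' Φ (g2 ≫ g1) x2 x hx12]
    exact mul_comm _ _
  obtain ⟨Y, g, y', hy', hg⟩ := exists_trivSieve_of_germ Φ O F x2
    (fun j => MT.rres (g2 ≫ g1) (f j)) (fun j => MT.res F (g2 ≫ g1) (s j))
    (fun j i => MT.rres g2 (a1 (j, i))) t2 E1 E2
  refine ⟨Y, g ≫ (g2 ≫ g1), trivSieve_comp O F (g2 ≫ g1) f s g hg, y', ?_⟩
  rw [Functor.map_comp]
  change Φ.fiber.map (g2 ≫ g1) (Φ.fiber.map g y') = x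
  rw [hy', hx12]

theorem main9093 (P : ObjectProperty (GrothendieckTopology.Point.{u} J))
    (hP : P.IsConservativeFamilyOfPoints) (F : ModSite.Mod O) :
    ModSite.IsFlat F ↔ ∀ p : GrothendieckTopology.Point.{u} J, P p →
      Module.Flat (ModSite.stalkRing p O) (ModSite.stalkMod p F) := by
  constructor
  · intro hF p _
    exact main9092 p O F hF
  · intro h
    exact MT.isFlat_of_eqProp F (eqProp_of_flat_stalks O P hP F h)

theorem main6835 {X : TopCat.{u}} (O : TopCat.Sheaf CommRingCat.{u} X) (F : ModSite.Mod O) :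
    ModSite.IsFlat F ↔ ∀ x : X, Module.Flat (ModSite.stalkRing (Opens.pointGrothendieckTopology x) O)
      (ModSite.stalkMod (Opens.pointGrothendieckTopology x) F) := by
  refine (main9093 O (Opens.pointsGrothendieckTopology X)
    (Opens.isConservativeFamilyOfPoints_pointsGrothendieckTopology X) F).trans ?_
  constructor
  · intro h x
    exact h _ ⟨x⟩
  · rintro h p ⟨x⟩
    exact h x

end Flat

end Groth.Agent.Helper17.ST
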