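import Mathlib
import Groth.Prelude.Def_ModSite
import Groth.Prelude.Def_ModSite2
import Groth.Agent.Lib.Helper17.GN1
import Groth.Agent.Lib.Helper17.ST4

/-!
# Surjectivity on a stalk spreads out for modules of finite type (ringed spaces)
-/

open CategoryTheory Limits Opposite TopologicalSpace

namespace Groth.Agent.Helper17.GN

open Groth.Agent.Helper17.MT Groth.Agent.Helper17.ST

universe u

variable {X : TopCat.{u}} (O : TopCat.Sheaf CommRingCat.{u} X)

/-- the element of the fibre of the point `x` at an open neighbourhood -/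
def fibElt (x : X) (U : Opens X) (h : x ∈ U) :
    (Opens.pointGrothendieckTopology x).fiber.obj U := ⟨⟨h⟩⟩

theorem mem_of_fib (x : X) (U : Opens X) (y : (Opens.pointGrothendieckTopology x).fiber.obj U) :
    x ∈ U := y.down.down

/-- local generators near a point -/
theorem exists_generators_near (F : ModSite.Mod O)
    [SheafOfModules.IsFiniteType (R := ModSite.ringSh O) F] (x : X) :
    ∃ (U₀ : Opens X) (_ : x ∈ U₀) (K : Type u) (_ : Fintype K) (_ : DecidableEq K)
      (s : K → ((ModSite.restr O U₀).obj F).sections),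
      Epi (πS (O.over U₀) ((ModSite.restr O U₀).obj F) s) := by
  obtain ⟨σ, hσ⟩ := SheafOfModules.IsFiniteType.exists_localGeneratorsData (R := ModSite.ringSh O) F
  have hcov := σ.coversTop ⊤
  obtain ⟨V, f, hf, hxV⟩ := hcov x (by trivial)
  obtain ⟨i, ⟨hi⟩⟩ := (Sieve.mem_ofObjects_iff ..).mp hf
  have hfin : Finite (σ.generators i).I := (hσ.isFiniteType i).finite
  classical
  exact ⟨σ.X i, leOfHom hi hxV, (σ.generators i).I, Fintype.ofFinite _, inferInstance,
    (σ.generators i).s, (σ.generators i).epi⟩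

theorem stalkMap_germ {G F : ModSite.Mod O} (φ : G ⟶ F) (p : GrothendieckTopology.Point.{u}
    (Opens.grothendieckTopology X)) (W : Opens X) (w : p.fiber.obj W) (t : ModSite.sect G W) :
    (ModSite.stalkMap p φ).hom (ModSite.germ p G W w t) =
      ModSite.germ p F W w ((φ.val.app (op W)).hom t) :=
  p.toPresheafFiber_naturality_apply ((SheafOfModules.toSheaf (ModSite.ringSh O)).map φ).hom W w t

theorem map_res {G F : ModSite.Mod O} (φ : G ⟶ F) {V W : Opens X} (g : W ⟶ V)
    (t : ModSite.sect G V) :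
    (φ.val.app (op W)).hom (res G g t) = res F g ((φ.val.app (op V)).hom t) :=
  PresheafOfModules.naturality_apply φ.val g.op t

theorem main6831 {G F : ModSite.Mod O} (φ : G ⟶ F)
    [SheafOfModules.IsFiniteType (R := ModSite.ringSh O) F] (x : X)
    (hx : Function.Surjective (ModSite.stalkMap (Opens.pointGrothendieckTopology x) φ).hom) :
    ∃ U : Opens X, x ∈ U ∧ Epi ((ModSite.restr O U).map φ) := by
  obtain ⟨U₀, hxU₀, K, _, _, s, hs⟩ := exists_generators_near O F x
  let p := Opens.pointGrothendieckTopology x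
  let s₀ : K → ModSite.sect F U₀ := fun k =>
    secAt (O.over U₀) ((ModSite.restr O U₀).obj F) (s k) (Over.mk (𝟙 U₀))
  choose τ hτ using fun k => hx (ModSite.germ p F U₀ (fibElt x U₀ hxU₀) (s₀ k))
  obtain ⟨U₁, g₁, y₁, (t : K → ModSite.sect G U₁), hy₁, ht⟩ :=
    exists_nbhd_finite p (ModSite.toAb G).obj τ U₀ (fibElt x U₀ hxU₀)
  have hgerm : ∀ k, p.toPresheafFiber U₁ y₁ (ModSite.toAb F).obj ((φ.val.app (op U₁)).hom (t k)) =
      p.toPresheafFiber U₁ y₁ (ModSite.toAb F).obj (res F g₁ (s₀ k)) := by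
    intro k
    have e1 := stalkMap_germ O φ p U₁ y₁ (t k)
    have e2 : ModSite.germ p G U₁ y₁ (t k) = τ k := ht k
    rw [e2, hτ k] at e1
    refine e1.symm.trans ?_
    exact (germ_res' p F g₁ y₁ (fibElt x U₀ hxU₀) hy₁ (s₀ k)).symm
  obtain ⟨U₂, g₂, y₂, hy₂, heq⟩ := exists_nbhd_eq_finite p (ModSite.toAb F).obj U₁ y₁
    (fun k => (φ.val.app (op U₁)).hom (t k)) (fun k => res F g₁ (s₀ k)) hgerm
  have heq' : ∀ k, res F g₂ ((φ.val.app (op U₁)).hom (t k)) = res F g₂ (res F g₁ (s₀ k)) := heq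
  refine ⟨U₂, mem_of_fib x U₂ y₂, ?_⟩
  rw [epi_iff_isLocallySurjective]
  refine ⟨fun {W} f => ?_⟩
  -- `W : Over U₂`, `f` a section of `F` over `W.left`
  let j : W.left ⟶ U₀ := W.hom ≫ g₂ ≫ g₁
  obtain ⟨S₀, hS₀, hloc⟩ := locally_combination (O.over U₀) ((ModSite.restr O U₀).obj F) s
    (Over.mk j) f
  refine ((Opens.grothendieckTopology X).over U₂).superset_covering ?_
    ((Opens.grothendieckTopology X).overEquiv_symm_mem_over W _
      (((Opens.grothendieckTopology X).mem_over_iff S₀).mp hS₀))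
  intro W' h hh
  have hh' : S₀ (Over.homMk h.left : Over.mk (h.left ≫ j) ⟶ Over.mk j) :=
    (Sieve.overEquiv_iff S₀ h.left).mp ((Sieve.overEquiv_symm_iff _ h).mp hh)
  obtain ⟨(a : K → O.obj.obj (op W'.left)), ha⟩ := hloc _ hh'
  -- the sections `s k` restricted to `W'.left`
  have hsec : ∀ k, secAt (O.over U₀) ((ModSite.restr O U₀).obj F) (s k) (Over.mk (h.left ≫ j)) =
      res F (h.left ≫ j) (s₀ k) := by
    intro k
    exact (res_secAt (O.over U₀) ((ModSite.restr O U₀).obj F) (s k)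
      (Over.homMk (h.left ≫ j) : Over.mk (h.left ≫ j) ⟶ Over.mk (𝟙 U₀))).symm
  have hphi : ∀ k, res F (h.left ≫ j) (s₀ k) =
      (φ.val.app (op W'.left)).hom (res G ((h.left ≫ W.hom) ≫ g₂) (t k)) := by
    intro k
    have e0 : h.left ≫ j = (h.left ≫ W.hom) ≫ g₂ ≫ g₁ := Subsingleton.elim _ _
    rw [e0, res_comp, res_comp (F := F) (g := g₁) (h := g₂), ← heq' k, ← res_comp, map_res]
  have ha' : res F h.left f = ∑ k, a k •
      (φ.val.app (op W'.left)).hom (res G ((h.left ≫ W.hom) ≫ g₂) (t k)) := by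
    refine Eq.trans ha (Finset.sum_congr rfl (fun k _ => ?_))
    rw [hsec k, hphi k]
    rfl
  refine ⟨∑ k, a k • res G ((h.left ≫ W.hom) ≫ g₂) (t k), ?_⟩
  refine Eq.trans ?_ ha'.symm
  change (φ.val.app (op W'.left)).hom _ = _
  exact (map_sum (φ.val.app (op W'.left)).hom _ _).trans
    (Finset.sum_congr rfl (fun k _ => (φ.val.app (op W'.left)).hom.map_smul _ _))

end Groth.Agent.Helper17.GN
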