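import Mathlib
import Groth.Prelude.Def_ModSite
import Groth.Prelude.Def_ModSite2
import Groth.Agent.Lib.Helper17.MT19
import Groth.Agent.Lib.Helper17.GN2

/-!
# Pointwise forms of generation by sections on ringed spaces
-/

open CategoryTheory Limits Opposite TopologicalSpace

namespace Groth.Agent.Helper17.GN

open Groth.Agent.Helper17.MT Groth.Agent.Helper17.ST

universe u

section Site

variable {C : Type u} [SmallCategory C] {J : GrothendieckTopology C} (O : Sheaf J CommRingCat.{u})

/-- evaluation of modules at an object, as abelian groups -/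
noncomputable def evAb (W : C) : ModSite.Mod O ⥤ AddCommGrpCat.{u} :=
  SheafOfModules.toSheaf.{u} (ModSite.ringSh O) ⋙ sheafToPresheaf J AddCommGrpCat.{u} ⋙
    (evaluation Cᵒᵖ AddCommGrpCat.{u}).obj (op W)

instance (W : C) : PreservesFiniteLimits (evAb O W) := by
  unfold evAb
  infer_instance

instance (W : C) : (evAb O W).Additive := Functor.additive_of_preserves_binary_products _

/-- sections are left exact -/
theorem exact_sections (S : ShortComplex (ModSite.Mod O)) (hS : S.ShortExact) (W : C)
    (m : ModSite.sect S.X₂ W) (hm : (S.g.val.app (op W)).hom m = 0) :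
    ∃ n : ModSite.sect S.X₁ W, (S.f.val.app (op W)).hom n = m := by
  have := hS.mono_f
  have hex : (S.map (evAb O W)).Exact :=
    hS.exact.map_of_mono_of_preservesKernel _ inferInstance inferInstance
  exact (ShortComplex.ab_exact_iff _).mp hex m hm

/-- the global section of the restriction to `C/U` attached to a section over `U` -/
noncomputable def secOf (U : C) (M : ModSite.Mod O) (m : ModSite.sect M U) :
    ((ModSite.restr O U).obj M).sections :=
  (sectionsEquivTerminal O U ((ModSite.restr O U).obj M).val).symm m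

theorem secAt_secOf (U : C) (M : ModSite.Mod O) (m : ModSite.sect M U) (W : Over U) :
    secAt (O.over U) ((ModSite.restr O U).obj M) (secOf O U M m) W = res M W.hom m := rfl

end Site

section Space

variable {X : TopCat.{u}} (O : TopCat.Sheaf CommRingCat.{u} X)

theorem loc_comb_space (M : ModSite.Mod O) (U₀ : Opens X) {K : Type u} [Fintype K] [DecidableEq K]
    (s : K → ((ModSite.restr O U₀).obj M).sections)
    [Epi (πS (O.over U₀) ((ModSite.restr O U₀).obj M) s)]
    (W : Opens X) (a : W ⟶ U₀) (m : ModSite.sect M W) (y : X) (hy : y ∈ W) :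
    ∃ (W' : Opens X) (h : W' ⟶ W), y ∈ W' ∧ ∃ c : K → O.obj.obj (op W'),
      res M h m = ∑ k, c k • res M (h ≫ a)
        (secAt (O.over U₀) ((ModSite.restr O U₀).obj M) (s k) (Over.mk (𝟙 U₀))) := by
  obtain ⟨S₀, hS₀, hloc⟩ := locally_combination (O.over U₀) ((ModSite.restr O U₀).obj M) s
    (Over.mk a) m
  have hS : Sieve.overEquiv (Over.mk a) S₀ ∈ Opens.grothendieckTopology X W :=
    ((Opens.grothendieckTopology X).mem_over_iff S₀).mp hS₀
  obtain ⟨W', h, hh, hyW'⟩ := hS y hy
  have hh' : S₀ (Over.homMk h : Over.mk (h ≫ a) ⟶ Over.mk a) :=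
    (Sieve.overEquiv_iff S₀ h).mp hh
  obtain ⟨(c : K → O.obj.obj (op W')), hc⟩ := hloc _ hh'
  refine ⟨W', h, hyW', c, ?_⟩
  refine Eq.trans hc (Finset.sum_congr rfl (fun k _ => ?_))
  congr 1
  exact (res_secAt (O.over U₀) ((ModSite.restr O U₀).obj M) (s k)
    (Over.homMk (h ≫ a) : Over.mk (h ≫ a) ⟶ Over.mk (𝟙 U₀))).symm

theorem epi_πS_of_pointwise (M : ModSite.Mod O) (U : Opens X) {K : Type u} [Fintype K]
    [DecidableEq K] (σ : K → ModSite.sect M U)
    (h : ∀ (W : Opens X) (a : W ⟶ U) (m : ModSite.sect M W) (y : X), y ∈ W →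
      ∃ (W' : Opens X) (h : W' ⟶ W), y ∈ W' ∧ ∃ c : K → O.obj.obj (op W'),
        res M h m = ∑ k, c k • res M (h ≫ a) (σ k)) :
    Epi (πS (O.over U) ((ModSite.restr O U).obj M) (fun k => secOf O U M (σ k))) := by
  rw [epi_iff_isLocallySurjective]
  refine ⟨fun {W} m => ?_⟩
  rw [GrothendieckTopology.mem_over_iff]
  intro y hy
  obtain ⟨W', h', hyW', c, hc⟩ := h W.left W.hom m y hy
  refine ⟨W', h', ?_, hyW'⟩
  rw [Sieve.overEquiv_iff]
  refine ⟨∑ k, (show (O.over U).obj.obj (op (Over.mk (h' ≫ W.hom))) from c k) •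
    FS.eB (O.over U) k (X := Over.mk (h' ≫ W.hom)), ?_⟩
  change (πS (O.over U) ((ModSite.restr O U).obj M) (fun k => secOf O U M (σ k))).val.app
    (op (Over.mk (h' ≫ W.hom))) _ = res M h' m
  rw [hc]
  refine (map_sum (((πS (O.over U) ((ModSite.restr O U).obj M)
    (fun k => secOf O U M (σ k))).val.app (op (Over.mk (h' ≫ W.hom)))).hom) _ _).trans
    (Finset.sum_congr rfl (fun k _ => ?_))
  refine ((((πS (O.over U) ((ModSite.restr O U).obj M)
    (fun k => secOf O U M (σ k))).val.app (op (Over.mk (h' ≫ W.hom)))).hom).map_smul _ _).trans ?_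
  congr 1
  exact πS_eB (O.over U) ((ModSite.restr O U).obj M) (fun k => secOf O U M (σ k)) k
    (Over.mk (h' ≫ W.hom))

/-- an epimorphism is pointwise locally surjective -/
theorem exists_lift_space {M M' : ModSite.Mod O} (g : M ⟶ M') [Epi g] (W : Opens X)
    (m' : ModSite.sect M' W) (y : X) (hy : y ∈ W) :
    ∃ (W' : Opens X) (h : W' ⟶ W), y ∈ W' ∧ ∃ t : ModSite.sect M W',
      (g.val.app (op W')).hom t = res M' h m' := by
  have hg : Presheaf.IsLocallySurjective (Opens.grothendieckTopology X)
      ((SheafOfModules.toSheaf.{u} (ModSite.ringSh O)).map g).hom :=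
    (epi_iff_isLocallySurjective g).mp inferInstance
  have hmem := Presheaf.imageSieve_mem (Opens.grothendieckTopology X)
    ((SheafOfModules.toSheaf.{u} (ModSite.ringSh O)).map g).hom (U := op W) m'
  obtain ⟨W', h, ⟨t, ht⟩, hyW'⟩ := hmem y hy
  exact ⟨W', h, hyW', t, ht⟩

/-- a module which is locally generated by finitely many sections is of finite type -/
theorem isFiniteType_of_local (M : ModSite.Mod O)
    (h : ∀ x : X, ∃ (U : Opens X) (_ : x ∈ U) (K : Type u) (_ : Fintype K) (_ : DecidableEq K)
      (s : K → ((ModSite.restr O U).obj M).sections),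
      Epi (πS (O.over U) ((ModSite.restr O U).obj M) s)) :
    SheafOfModules.IsFiniteType (R := ModSite.ringSh O) M := by
  choose U hU K hK1 hK2 s hs using h
  let σ : SheafOfModules.LocalGeneratorsData.{u} (R := ModSite.ringSh O) M :=
    { I := X
      X := U
      coversTop := by
        intro W y hy
        refine ⟨W ⊓ U y, homOfLE inf_le_left, ?_, ⟨hy, hU y⟩⟩
        exact (Sieve.mem_ofObjects_iff ..).mpr ⟨y, ⟨homOfLE inf_le_right⟩⟩
      generators := fun x =>
        { I := K x
          s := s x
          epi := hs x } }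
  have hσ : σ.IsFiniteType :=
    { isFiniteType := fun x =>
        { finite := (Finite.of_fintype (K x) : Finite (K x)) } }
  constructor
  exact ⟨σ, hσ⟩

end Space

end Groth.Agent.Helper17.GN
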