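import Mathlib
import Groth.Prelude.Def_ModSite
import Groth.Prelude.Def_ModSite2
import Groth.Agent.Lib.Helper17.GN3

/-!
# Extensions of modules of finite type are of finite type (ringed spaces)
-/

open CategoryTheory Limits Opposite TopologicalSpace

namespace Groth.Agent.Helper17.GN

open Groth.Agent.Helper17.MT Groth.Agent.Helper17.ST

universe u

variable {X : TopCat.{u}} (O : TopCat.Sheaf CommRingCat.{u} X)

theorem res_res (M : ModSite.Mod O) {W W' W'' : Opens X} (h : W'' ⟶ W') (g : W' ⟶ W)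
    (k : W'' ⟶ W) (m : ModSite.sect M W) : res M h (res M g m) = res M k m :=
  (res_comp M g h m).symm.trans (congrArg (fun z => res M z m) (Subsingleton.elim _ _))

theorem res_sub (M : ModSite.Mod O) {W W' : Opens X} (g : W' ⟶ W) (a b : ModSite.sect M W) :
    res M g (a - b) = res M g a - res M g b :=
  map_sub (M.val.map g.op).hom a b

theorem map_sum' {G F : ModSite.Mod O} (φ : G ⟶ F) (W : Opens X) {ι : Type*} (s : Finset ι)
    (t : ι → ModSite.sect G W) :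
    (φ.val.app (op W)).hom (∑ i ∈ s, t i) = ∑ i ∈ s, (φ.val.app (op W)).hom (t i) :=
  map_sum (φ.val.app (op W)).hom t s

theorem map_smul' {G F : ModSite.Mod O} (φ : G ⟶ F) (W : Opens X) (a : O.obj.obj (op W))
    (t : ModSite.sect G W) :
    (φ.val.app (op W)).hom (a • t) = a • (φ.val.app (op W)).hom t :=
  (φ.val.app (op W)).hom.map_smul a t

/-- finitely many local conditions at a point hold on a common neighbourhood -/
theorem exists_common_open {K : Type*} [Fintype K] (x : X) (P : K → Opens X → Prop)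
    (hP : ∀ k (W W' : Opens X), W' ≤ W → P k W → P k W')
    (h : ∀ k, ∃ W : Opens X, x ∈ W ∧ P k W) : ∃ W : Opens X, x ∈ W ∧ ∀ k, P k W := by
  classical
  have key : ∀ s : Finset K, ∃ W : Opens X, x ∈ W ∧ ∀ k ∈ s, P k W := by
    intro s
    induction s using Finset.induction_on with
    | empty => exact ⟨⊤, trivial, fun k hk => absurd hk (Finset.notMem_empty k)⟩
    | insert a s _ ih =>
      obtain ⟨W₁, hx₁, h₁⟩ := ih
      obtain ⟨W₂, hx₂, h₂⟩ := h a
      refine ⟨W₁ ⊓ W₂, ⟨hx₁, hx₂⟩, fun k hk => ?_⟩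
      rcases Finset.mem_insert.mp hk with rfl | hk'
      · exact hP k W₂ _ inf_le_right h₂
      · exact hP k W₁ _ inf_le_left (h₁ k hk')
  obtain ⟨W, hx, hW⟩ := key Finset.univ
  exact ⟨W, hx, fun k => hW k (Finset.mem_univ k)⟩

theorem main6839 (S : ShortComplex (ModSite.Mod O)) (hS : S.ShortExact)
    [SheafOfModules.IsFiniteType (R := ModSite.ringSh O) S.X₁]
    [SheafOfModules.IsFiniteType (R := ModSite.ringSh O) S.X₃] :
    SheafOfModules.IsFiniteType (R := ModSite.ringSh O) S.X₂ := by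
  apply isFiniteType_of_local
  intro x
  obtain ⟨U₁, hx₁, K₁, _, _, sA, hA⟩ := exists_generators_near O S.X₁ x
  obtain ⟨U₃, hx₃, K₃, _, _, sC, hC⟩ := exists_generators_near O S.X₃ x
  have := hS.epi_g
  let sA0 : K₁ → ModSite.sect S.X₁ U₁ := fun k =>
    secAt (O.over U₁) ((ModSite.restr O U₁).obj S.X₁) (sA k) (Over.mk (𝟙 U₁))
  let sC0 : K₃ → ModSite.sect S.X₃ U₃ := fun k =>
    secAt (O.over U₃) ((ModSite.restr O U₃).obj S.X₃) (sC k) (Over.mk (𝟙 U₃))
  -- lift the generators of `S.X₃` near `x`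
  obtain ⟨W₀, hxW₀, hW₀⟩ := exists_common_open x
    (fun (k : K₃) (W : Opens X) => ∃ (h : W ⟶ U₃) (t : ModSite.sect S.X₂ W),
      (S.g.val.app (op W)).hom t = res S.X₃ h (sC0 k))
    (by
      rintro k W W' hle ⟨h, t, ht⟩
      refine ⟨homOfLE hle ≫ h, res S.X₂ (homOfLE hle) t, ?_⟩
      rw [map_res, ht, res_comp])
    (by
      intro k
      obtain ⟨W', h, hxW', t, ht⟩ := exists_lift_space O S.g U₃ (sC0 k) x hx₃
      exact ⟨W', hxW', h, t, ht⟩)
  choose h₃ t ht using hW₀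
  let U : Opens X := W₀ ⊓ (U₁ ⊓ U₃)
  have hxU : x ∈ U := ⟨hxW₀, hx₁, hx₃⟩
  let aW : U ⟶ W₀ := homOfLE inf_le_left
  let a₁ : U ⟶ U₁ := homOfLE (inf_le_right.trans inf_le_left)
  let a₃ : U ⟶ U₃ := homOfLE (inf_le_right.trans inf_le_right)
  let σ₂ : K₁ ⊕ K₃ → ModSite.sect S.X₂ U := Sum.elim
    (fun k => (S.f.val.app (op U)).hom (res S.X₁ a₁ (sA0 k)))
    (fun k => res S.X₂ aW (t k))
  refine ⟨U, hxU, K₁ ⊕ K₃, inferInstance, inferInstance, fun k => secOf O U S.X₂ (σ₂ k), ?_⟩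
  apply epi_πS_of_pointwise O S.X₂ U σ₂
  intro W a m y hy
  -- step 1
  obtain ⟨W', h, hyW', c₃, hc₃⟩ := loc_comb_space O S.X₃ U₃ sC W (a ≫ a₃)
    ((S.g.val.app (op W)).hom m) y hy
  -- step 2
  let m' : ModSite.sect S.X₂ W' := res S.X₂ h m - ∑ k, c₃ k • res S.X₂ (h ≫ a ≫ aW) (t k)
  have hm' : (S.g.val.app (op W')).hom m' = 0 := by
    have e1 : (S.g.val.app (op W')).hom (res S.X₂ h m) =
        res S.X₃ h ((S.g.val.app (op W)).hom m) := map_res O S.g h m
    have e2 : (S.g.val.app (op W')).hom (∑ k, c₃ k • res S.X₂ (h ≫ a ≫ aW) (t k)) =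
        ∑ k, c₃ k • res S.X₃ (h ≫ a ≫ a₃) (sC0 k) := by
      rw [map_sum']
      refine Finset.sum_congr rfl (fun k _ => ?_)
      rw [map_smul', map_res, ht k, res_res]
    change (S.g.val.app (op W')).hom (res S.X₂ h m - ∑ k, c₃ k • res S.X₂ (h ≫ a ≫ aW) (t k)) = 0
    rw [map_sub, e1, e2, hc₃]
    exact sub_self _
  -- step 3
  obtain ⟨n, hn⟩ := exact_sections O S hS W' m' hm'
  -- step 4
  obtain ⟨W'', h', hyW'', c₁, hc₁⟩ := loc_comb_space O S.X₁ U₁ sA W' (h ≫ a ≫ a₁) n y hyW'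
  refine ⟨W'', h' ≫ h, hyW'', Sum.elim c₁ (fun k => rres h' (c₃ k)), ?_⟩
  rw [Fintype.sum_sum_type]
  have hmm : res S.X₂ h m = m' + ∑ k, c₃ k • res S.X₂ (h ≫ a ≫ aW) (t k) := by
    change _ = (res S.X₂ h m - ∑ k, c₃ k • res S.X₂ (h ≫ a ≫ aW) (t k)) + _
    abel
  rw [res_comp, hmm, res_add, ← hn, ← map_res, hc₁, map_sum', res_sum]
  congr 1
  · refine Finset.sum_congr rfl (fun k _ => ?_)
    rw [map_smul']
    congr 1
    change _ = res S.X₂ ((h' ≫ h) ≫ a) ((S.f.val.app (op U)).hom (res S.X₁ a₁ (sA0 k)))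
    rw [← map_res, res_res]
  · refine Finset.sum_congr rfl (fun k _ => ?_)
    rw [res_smul]
    congr 1
    change _ = res S.X₂ ((h' ≫ h) ≫ a) (res S.X₂ aW (t k))
    rw [res_res O S.X₂ h' (h ≫ a ≫ aW) (h' ≫ h ≫ a ≫ aW),
      res_res O S.X₂ ((h' ≫ h) ≫ a) aW (h' ≫ h ≫ a ≫ aW)]

end Groth.Agent.Helper17.GN
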