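import Mathlib
import Groth.Prelude.Def_Exal

/-!
Helper17: a uniform power of the maximal ideal splitting off the kernel in every extension of a
Noetherian local ring by its residue field (via Artin–Rees in a polynomial ring).
-/

namespace Groth.Agent.Helper17.EX

open IsLocalRing

universe u

theorem exists_sum_of_mem_smul {ι : Type*} [Fintype ι] {A : Type*} [CommRing A] (v : ι → A)
    (N : Ideal A) {F : A}
    (hF : F ∈ Ideal.span (Set.range v) • (N : Submodule A A)) :
    ∃ G : ι → A, (∀ i, G i ∈ N) ∧ F = ∑ i, v i * G i := by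
  refine Submodule.smul_induction_on hF ?_ ?_
  · intro a ha g hg
    obtain ⟨c, rfl⟩ := Ideal.mem_span_range_iff_exists_fun.1 ha
    refine ⟨fun i => c i * g, fun i => N.mul_mem_left _ hg, ?_⟩
    rw [smul_eq_mul, Finset.sum_mul]
    exact Finset.sum_congr rfl (fun i _ => by ring)
  · rintro F₁ F₂ ⟨G₁, h₁, rfl⟩ ⟨G₂, h₂, rfl⟩
    refine ⟨fun i => G₁ i + G₂ i, fun i => N.add_mem (h₁ i) (h₂ i), ?_⟩
    rw [← Finset.sum_add_distrib]
    exact Finset.sum_congr rfl (fun i _ => by ring)

theorem exists_uniform_pow {Λ : Type*} {R : Type u} [CommRing Λ] [CommRing R] [Algebra Λ R]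
    [IsLocalRing R] [IsNoetherianRing R] :
    ∃ n : ℕ, ∀ X : Exal.Ext Λ R (ResidueField R),
      ∃ I : Ideal X.E, (∀ x ∈ I, X.proj x = 0 → x = 0) ∧
        Ideal.map X.proj I = maximalIdeal R ^ (n + 1) := by
  classical
  obtain ⟨s, hs⟩ := (IsNoetherian.noetherian (maximalIdeal R) : (maximalIdeal R).FG)
  let x : s → R := Subtype.val
  have hxspan : Ideal.span (Set.range x) = maximalIdeal R := by
    rw [← hs]
    congr 1
    exact Subtype.range_coe
  have hxm : ∀ i, x i ∈ maximalIdeal R := fun i => by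
    rw [← hxspan]
    exact Ideal.subset_span (Set.mem_range_self i)
  let 𝔐 : Ideal (MvPolynomial s R) :=
    Ideal.span (Set.range (MvPolynomial.X : s → MvPolynomial s R))
  let 𝒦 : Ideal (MvPolynomial s R) := RingHom.ker (MvPolynomial.eval x)
  obtain ⟨c, hc⟩ := Ideal.exists_pow_inf_eq_pow_smul 𝔐
    (𝒦 : Submodule (MvPolynomial s R) (MvPolynomial s R))
  have hAR : ∀ F ∈ 𝔐 ^ (c + 1), MvPolynomial.eval x F = 0 →
      ∃ G : s → MvPolynomial s R, (∀ i, MvPolynomial.eval x (G i) = 0) ∧
        F = ∑ i, MvPolynomial.X i * G i := by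
    intro F hF hF0
    have h1 : F ∈ 𝔐 ^ (c + 1) • (⊤ : Submodule (MvPolynomial s R) (MvPolynomial s R)) ⊓ 𝒦 := by
      have h : F * 1 ∈ 𝔐 ^ (c + 1) • (⊤ : Submodule (MvPolynomial s R) (MvPolynomial s R)) :=
        Submodule.smul_mem_smul hF (Submodule.mem_top : (1 : MvPolynomial s R) ∈ ⊤)
      rw [mul_one] at h
      exact ⟨h, RingHom.mem_ker.2 hF0⟩
    rw [hc (c + 1) (Nat.le_succ c), Nat.add_sub_cancel_left, pow_one] at h1
    have h2 : F ∈ 𝔐 • (𝒦 : Submodule (MvPolynomial s R) (MvPolynomial s R)) :=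
      Submodule.smul_mono le_rfl inf_le_right h1
    obtain ⟨G, hG, hFG⟩ := exists_sum_of_mem_smul MvPolynomial.X 𝒦 h2
    exact ⟨G, fun i => RingHom.mem_ker.1 (hG i), hFG⟩
  refine ⟨c, fun X => ?_⟩
  have hX := X.isExtension
  have hsurj : Function.Surjective (X.proj : X.E →+* R) := hX.proj_surjective
  choose y hy using fun i : s => hX.proj_surjective (x i)
  have hxy : (⇑(X.proj : X.E →+* R) ∘ y) = x := funext hy
  have hkill : ∀ (i : s) (e : X.E), X.proj e = 0 → y i * e = 0 := by
    intro i e he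
    obtain ⟨z, rfl⟩ := (hX.exact e).1 he
    rw [hX.mul_incl, hy]
    have h1 : x i • z = residue R (x i) * z := rfl
    rw [h1, (residue_eq_zero_iff _).2 (hxm i), zero_mul, map_zero]
  have hev : ∀ Ft : MvPolynomial s X.E, X.proj (MvPolynomial.eval y Ft) =
      MvPolynomial.eval x (MvPolynomial.map (X.proj : X.E →+* R) Ft) := by
    intro Ft
    show (X.proj : X.E →+* R) (MvPolynomial.eval₂ (RingHom.id X.E) y Ft) = _
    rw [MvPolynomial.eval₂_comp_left, MvPolynomial.eval_map, RingHom.comp_id, hxy]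
  refine ⟨Ideal.span (Set.range y) ^ (c + 1), ?_, ?_⟩
  · intro e he hpe
    have hevsurj : Function.Surjective (MvPolynomial.eval y) :=
      fun a => ⟨MvPolynomial.C a, MvPolynomial.eval_C a⟩
    have hmapev : Ideal.map (MvPolynomial.eval y)
        (Ideal.span (Set.range (MvPolynomial.X : s → MvPolynomial s X.E))) =
        Ideal.span (Set.range y) := by
      rw [Ideal.map_span, ← Set.range_comp]
      congr 2
      funext i
      exact MvPolynomial.eval_X i
    rw [← hmapev, ← Ideal.map_pow] at he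
    obtain ⟨Ft, hFt, rfl⟩ := (Ideal.mem_map_iff_of_surjective (MvPolynomial.eval y) hevsurj).1 he
    have hF0 : MvPolynomial.eval x (MvPolynomial.map (X.proj : X.E →+* R) Ft) = 0 := by
      rw [← hev]
      exact hpe
    have hFmem : MvPolynomial.map (X.proj : X.E →+* R) Ft ∈ 𝔐 ^ (c + 1) := by
      have hle : Ideal.span (Set.range (MvPolynomial.X : s → MvPolynomial s X.E)) ≤
          Ideal.comap (MvPolynomial.map (X.proj : X.E →+* R)) 𝔐 := by
        rw [Ideal.span_le]
        rintro _ ⟨i, rfl⟩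
        show MvPolynomial.map (X.proj : X.E →+* R) (MvPolynomial.X i) ∈ 𝔐
        rw [MvPolynomial.map_X]
        exact Ideal.subset_span (Set.mem_range_self i)
      exact Ideal.le_comap_pow _ (c + 1) (Ideal.pow_right_mono hle (c + 1) hFt)
    obtain ⟨G, hG0, hFG⟩ := hAR _ hFmem hF0
    choose Gt hGt using fun i => MvPolynomial.map_surjective (X.proj : X.E →+* R) hsurj (G i)
    have hQ0 : MvPolynomial.map (X.proj : X.E →+* R) (Ft - ∑ i, MvPolynomial.X i * Gt i) = 0 := by
      rw [map_sub, map_sum, hFG, sub_eq_zero]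
      refine Finset.sum_congr rfl (fun i _ => ?_)
      rw [map_mul, MvPolynomial.map_X, hGt]
    have hQcoeff : ∀ m, X.proj (MvPolynomial.coeff m (Ft - ∑ i, MvPolynomial.X i * Gt i)) = 0 := by
      intro m
      have h := MvPolynomial.coeff_map (X.proj : X.E →+* R) (Ft - ∑ i, MvPolynomial.X i * Gt i) m
      rw [hQ0, MvPolynomial.coeff_zero] at h
      exact h.symm
    have hcc𝔐 : ∀ P ∈ Ideal.span (Set.range (MvPolynomial.X : s → MvPolynomial s X.E)),
        MvPolynomial.constantCoeff P = 0 := by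
      intro P hP
      obtain ⟨c', rfl⟩ := Ideal.mem_span_range_iff_exists_fun.1 hP
      rw [map_sum]
      refine Finset.sum_eq_zero (fun i _ => ?_)
      rw [map_mul, MvPolynomial.constantCoeff_X, mul_zero]
    have hQcc : MvPolynomial.constantCoeff (Ft - ∑ i, MvPolynomial.X i * Gt i) = 0 := by
      rw [map_sub, hcc𝔐 Ft (Ideal.pow_le_self (Nat.succ_ne_zero c) hFt), map_sum, zero_sub,
        neg_eq_zero]
      refine Finset.sum_eq_zero (fun i _ => ?_)
      rw [map_mul, MvPolynomial.constantCoeff_X, zero_mul]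
    have hQev : MvPolynomial.eval y (Ft - ∑ i, MvPolynomial.X i * Gt i) = 0 := by
      rw [MvPolynomial.eval_eq]
      refine Finset.sum_eq_zero (fun m _ => ?_)
      by_cases hm : m = 0
      · have h0 : MvPolynomial.coeff 0 (Ft - ∑ i, MvPolynomial.X i * Gt i) = 0 := hQcc
        rw [hm, h0, zero_mul]
      · obtain ⟨i, hi⟩ : ∃ i, m i ≠ 0 := by
          by_contra hcon
          push Not at hcon
          exact hm (Finsupp.ext hcon)
        have hi' : i ∈ m.support := Finsupp.mem_support_iff.2 hi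
        obtain ⟨w, hw⟩ : y i ∣ ∏ j ∈ m.support, y j ^ m j :=
          (dvd_pow_self (y i) hi).trans (Finset.dvd_prod_of_mem (fun j => y j ^ m j) hi')
        rw [hw, ← mul_assoc, mul_comm _ (y i), hkill i _ (hQcoeff m), zero_mul]
    have hsum : MvPolynomial.eval y (∑ i, MvPolynomial.X i * Gt i) = 0 := by
      rw [map_sum]
      refine Finset.sum_eq_zero (fun i _ => ?_)
      rw [map_mul, MvPolynomial.eval_X]
      apply hkill
      rw [hev, hGt]
      exact hG0 i
    have hsplit : Ft = (Ft - ∑ i, MvPolynomial.X i * Gt i) + ∑ i, MvPolynomial.X i * Gt i := by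
      ring
    rw [hsplit, map_add, hQev, hsum, add_zero]
  · rw [Ideal.map_pow, Ideal.map_span, ← Set.range_comp, ← hxspan]
    have hxy' : (⇑X.proj ∘ y) = x := funext hy
    rw [hxy']

end Groth.Agent.Helper17.EX
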