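import Mathlib
import Groth.Prelude.Def_Exal2

/-!
Helper17: general facts on extensions of algebras (`Exal.Ext`): homomorphisms of extensions are
equivalences, trivial extensions, pull-backs, and the Baer difference.
-/

namespace Groth.Agent.Helper17.EX5

universe u v

attribute [local instance] Exal.opModule Exal.isCentralScalar_opModule

section General

variable {A : Type u} {B L : Type v} [CommRing A] [CommRing B] [Algebra A B] [AddCommGroup L]
  [Module B L]

theorem proj_incl (X : Exal.Ext A B L) (z : L) : X.proj (X.incl z) = 0 :=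
  (X.isExtension.exact _).2 ⟨z, rfl⟩

theorem incl_mul_incl (X : Exal.Ext A B L) (z z' : L) : X.incl z * X.incl z' = 0 := by
  rw [X.isExtension.mul_incl, proj_incl, zero_smul, map_zero]

theorem equiv_of_hom (X Y : Exal.Ext A B L) (f : X.E →ₐ[A] Y.E)
    (hp : ∀ x, Y.proj (f x) = X.proj x) (hi : ∀ z, f (X.incl z) = Y.incl z) :
    Nonempty (X.Equiv Y) := by
  have hinj : Function.Injective f := by
    rw [injective_iff_map_eq_zero]
    intro x hx
    have h1 : X.proj x = 0 := by rw [← hp, hx, map_zero]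
    obtain ⟨z, rfl⟩ := (X.isExtension.exact x).1 h1
    rw [hi] at hx
    have h2 : z = 0 := Y.isExtension.incl_injective (hx.trans (map_zero _).symm)
    rw [h2, map_zero]
  have hsurj : Function.Surjective f := by
    intro y
    obtain ⟨x, hx⟩ := X.isExtension.proj_surjective (Y.proj y)
    have h1 : Y.proj (y - f x) = 0 := by rw [map_sub, hp, hx, sub_self]
    obtain ⟨z, hz⟩ := (Y.isExtension.exact _).1 h1
    refine ⟨x + X.incl z, ?_⟩
    rw [map_add, hi, hz]
    abel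
  exact ⟨{ toAlgEquiv := AlgEquiv.ofBijective f ⟨hinj, hsurj⟩
           proj_apply := hp
           apply_incl := hi }⟩

theorem isTrivial_of_equiv {X X' : Exal.Ext A B L} (e : X.Equiv X') (h : X'.IsTrivial) :
    X.IsTrivial := by
  obtain ⟨s', hs'⟩ := h
  refine ⟨(e.symm.toAlgEquiv : X'.E →ₐ[A] X.E).comp s', fun b => ?_⟩
  show X.proj (e.symm.toAlgEquiv (s' b)) = b
  rw [e.symm.proj_apply, hs']

/-- the section of the trivial extension -/
noncomputable def trivSection : B →ₐ[A] (Exal.Ext.trivial A B L).E :=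
  { toFun := fun b => (TrivSqZeroExt.inl b : TrivSqZeroExt B L)
    map_one' := TrivSqZeroExt.inl_one L
    map_mul' := fun a b => TrivSqZeroExt.inl_mul L a b
    map_zero' := TrivSqZeroExt.inl_zero L
    map_add' := fun a b => TrivSqZeroExt.inl_add L a b
    commutes' := fun _ => rfl }

theorem isTrivial_trivial : (Exal.Ext.trivial A B L).IsTrivial :=
  ⟨trivSection, fun _ => rfl⟩

theorem equiv_trivial_of_isTrivial (X : Exal.Ext A B L) (h : X.IsTrivial) :
    Nonempty ((Exal.Ext.trivial A B L).Equiv X) := by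
  obtain ⟨s, hs⟩ := h
  have hfm : ∀ x y : (Exal.Ext.trivial A B L).E,
      TrivSqZeroExt.fst (x * y) = TrivSqZeroExt.fst x * TrivSqZeroExt.fst y :=
    fun x y => TrivSqZeroExt.fst_mul (R := B) (M := L) x y
  have hsm : ∀ x y : (Exal.Ext.trivial A B L).E,
      TrivSqZeroExt.snd (x * y) =
        TrivSqZeroExt.fst x • TrivSqZeroExt.snd y + TrivSqZeroExt.fst y • TrivSqZeroExt.snd x :=
    fun x y => TrivSqZeroExt.snd_mul (R := B) (M := L) x y
  have hfa : ∀ x y : (Exal.Ext.trivial A B L).E,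
      TrivSqZeroExt.fst (x + y) = TrivSqZeroExt.fst x + TrivSqZeroExt.fst y :=
    fun x y => TrivSqZeroExt.fst_add (R := B) (M := L) x y
  have hsa : ∀ x y : (Exal.Ext.trivial A B L).E,
      TrivSqZeroExt.snd (x + y) = TrivSqZeroExt.snd x + TrivSqZeroExt.snd y :=
    fun x y => TrivSqZeroExt.snd_add (R := B) (M := L) x y
  have hf1 : TrivSqZeroExt.fst (1 : (Exal.Ext.trivial A B L).E) = 1 :=
    TrivSqZeroExt.fst_one (R := B) (M := L)
  have hs1 : TrivSqZeroExt.snd (1 : (Exal.Ext.trivial A B L).E) = 0 :=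
    TrivSqZeroExt.snd_one (R := B) (M := L)
  have hf0 : TrivSqZeroExt.fst (0 : (Exal.Ext.trivial A B L).E) = 0 :=
    TrivSqZeroExt.fst_zero (R := B) (M := L)
  have hs0 : TrivSqZeroExt.snd (0 : (Exal.Ext.trivial A B L).E) = 0 :=
    TrivSqZeroExt.snd_zero (R := B) (M := L)
  have hfalg : ∀ a : A, TrivSqZeroExt.fst (algebraMap A (Exal.Ext.trivial A B L).E a) =
      algebraMap A B a := fun a => rfl
  have hsalg : ∀ a : A, TrivSqZeroExt.snd (algebraMap A (Exal.Ext.trivial A B L).E a) = 0 :=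
    fun a => rfl
  let f : (Exal.Ext.trivial A B L).E →ₐ[A] X.E :=
    { toFun := fun x => s (TrivSqZeroExt.fst x) + X.incl (TrivSqZeroExt.snd x)
      map_one' := by
        rw [hf1, hs1, map_one, map_zero, add_zero]
      map_mul' := fun x y => by
        rw [hfm, hsm]
        generalize TrivSqZeroExt.fst x = a
        generalize TrivSqZeroExt.snd x = z
        generalize TrivSqZeroExt.fst y = b
        generalize TrivSqZeroExt.snd y = w
        have e1 : s a * X.incl w = X.incl (a • w) := by rw [X.isExtension.mul_incl, hs]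
        have e2 : s b * X.incl z = X.incl (b • z) := by rw [X.isExtension.mul_incl, hs]
        have e3 : X.incl z * X.incl w = 0 := incl_mul_incl X z w
        rw [map_mul, map_add, ← e1, ← e2]
        have e5 : (s a + X.incl z) * (s b + X.incl w) =
            s a * s b + (s a * X.incl w + s b * X.incl z) + X.incl z * X.incl w := by ring
        rw [e5, e3, add_zero]
      map_zero' := by
        rw [hf0, hs0, map_zero, map_zero, add_zero]
      map_add' := fun x y => by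
        rw [hfa, hsa, map_add, map_add]
        abel
      commutes' := fun a => by
        rw [hfalg, hsalg, map_zero, add_zero, s.commutes] }
  refine equiv_of_hom _ X f (fun x => ?_) (fun z => ?_)
  · show X.proj (s (TrivSqZeroExt.fst x) + X.incl (TrivSqZeroExt.snd x)) = TrivSqZeroExt.fst x
    rw [map_add, hs, proj_incl, add_zero]
  · show s (TrivSqZeroExt.fst (TrivSqZeroExt.inr z : TrivSqZeroExt B L)) +
      X.incl (TrivSqZeroExt.snd (TrivSqZeroExt.inr z : TrivSqZeroExt B L)) = X.incl z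
    rw [TrivSqZeroExt.fst_inr, TrivSqZeroExt.snd_inr, map_zero, zero_add]

theorem equiv_of_isTrivial (X X' : Exal.Ext A B L) (h : X.IsTrivial) (h' : X'.IsTrivial) :
    Nonempty (X.Equiv X') := by
  obtain ⟨e⟩ := equiv_trivial_of_isTrivial X h
  obtain ⟨e'⟩ := equiv_trivial_of_isTrivial X' h'
  exact ⟨e.symm.trans e'⟩

end General

section Pullback

variable {A : Type u} {B L : Type v} [CommRing A] [CommRing B] [Algebra A B] [AddCommGroup L]
  [Module B L]
variable (B₀ : Type v) [CommRing B₀] [Algebra A B₀] [Algebra B₀ B] [IsScalarTower A B₀ B]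
variable [Module B₀ L] [IsScalarTower B₀ B L]

theorem pullback_isTrivial (Y : Exal.Ext A B L) (h : Y.IsTrivial) : (Y.pullback B₀).IsTrivial := by
  obtain ⟨s, hs⟩ := h
  let t : B₀ →ₐ[A] ↥(Y.fiberProd B₀) :=
    AlgHom.codRestrict (AlgHom.prod (s.comp (IsScalarTower.toAlgHom A B₀ B)) (AlgHom.id A B₀))
      (Y.fiberProd B₀) (fun b => by
        show Y.proj (s (algebraMap B₀ B b)) = algebraMap B₀ B b
        exact hs _)
  exact ⟨t, fun b => rfl⟩

end Pullback

theorem restrictBase_pullback_isTrivial {A' : Type u} {A B L : Type v} [CommRing A'] [CommRing A]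
    [CommRing B] [Algebra A B] [AddCommGroup L] [Module B L] [Algebra A' A] [Algebra A' B]
    [IsScalarTower A' A B] [Module A L] [IsScalarTower A B L]
    (X : Exal.Ext A B L) : ((X.restrictBase A').pullback A).IsTrivial := by
  let g : A →ₐ[A'] (X.restrictBase A').E :=
    { toRingHom := (algebraMap A X.E : A →+* X.E)
      commutes' := fun c => rfl }
  let t : A →ₐ[A'] ↥((X.restrictBase A').fiberProd A) :=
    AlgHom.codRestrict (AlgHom.prod g (AlgHom.id A' A)) ((X.restrictBase A').fiberProd A)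
      (fun a => by
        show X.proj (algebraMap A X.E a) = algebraMap A B a
        exact X.proj.commutes a)
  exact ⟨t, fun a => rfl⟩

section Baer

variable {A : Type u} {B L : Type v} [CommRing A] [CommRing B] [Algebra A B] [AddCommGroup L]
  [Module B L] (Y Y' : Exal.Ext A B L)

/-- the fibre product of the middle rings over `B` -/
def fib : Subalgebra A (Y.E × Y'.E) :=
  AlgHom.equalizer (Y.proj.comp (AlgHom.fst A Y.E Y'.E)) (Y'.proj.comp (AlgHom.snd A Y.E Y'.E))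

theorem mem_fib (x : Y.E × Y'.E) : x ∈ fib Y Y' ↔ Y.proj x.1 = Y'.proj x.2 := Iff.rfl

/-- the diagonal copy of `L` -/
def diag : Ideal (fib Y Y') where
  carrier := {x | ∃ z : L, (x : Y.E × Y'.E) = (Y.incl z, Y'.incl z)}
  add_mem' := by
    rintro x x' ⟨z, hz⟩ ⟨z', hz'⟩
    refine ⟨z + z', ?_⟩
    rw [Subalgebra.coe_add, hz, hz', map_add, map_add]
    rfl
  zero_mem' := ⟨0, by rw [map_zero, map_zero]; rfl⟩
  smul_mem' := by
    rintro c x ⟨z, hz⟩
    refine ⟨Y.proj (c : Y.E × Y'.E).1 • z, ?_⟩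
    rw [smul_eq_mul, Subalgebra.coe_mul, hz]
    have h1 : Y.proj (c : Y.E × Y'.E).1 = Y'.proj (c : Y.E × Y'.E).2 := c.2
    apply Prod.ext
    · show (c : Y.E × Y'.E).1 * Y.incl z = Y.incl (Y.proj (c : Y.E × Y'.E).1 • z)
      exact Y.isExtension.mul_incl _ _
    · show (c : Y.E × Y'.E).2 * Y'.incl z = Y'.incl (Y.proj (c : Y.E × Y'.E).1 • z)
      rw [h1]
      exact Y'.isExtension.mul_incl _ _

theorem mem_diag (x : fib Y Y') :
    x ∈ diag Y Y' ↔ ∃ z : L, (x : Y.E × Y'.E) = (Y.incl z, Y'.incl z) := Iff.rfl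

/-- projection of the Baer difference -/
noncomputable def projQ : (fib Y Y' ⧸ diag Y Y') →ₐ[A] B :=
  Ideal.Quotient.liftₐ (diag Y Y')
    (Y.proj.comp ((AlgHom.fst A Y.E Y'.E).comp (fib Y Y').val)) (by
      rintro x ⟨z, hz⟩
      show Y.proj (x : Y.E × Y'.E).1 = 0
      rw [hz]
      exact proj_incl Y z)

theorem projQ_mk (x : fib Y Y') :
    projQ Y Y' (Ideal.Quotient.mk _ x) = Y.proj (x : Y.E × Y'.E).1 := rfl

/-- the inclusion of `L` into the fibre product through the first factor -/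
def inclF : L →+ fib Y Y' :=
  { toFun := fun z => ⟨(Y.incl z, 0), by
      rw [mem_fib]
      show Y.proj (Y.incl z) = Y'.proj 0
      rw [proj_incl, map_zero]⟩
    map_zero' := Subtype.ext (by
      show (Y.incl 0, (0 : Y'.E)) = 0
      rw [map_zero]
      rfl)
    map_add' := fun z z' => Subtype.ext (by
      show (Y.incl (z + z'), (0 : Y'.E)) = (Y.incl z, 0) + (Y.incl z', 0)
      rw [map_add]
      exact Prod.ext rfl (add_zero 0).symm) }

theorem coe_inclF (z : L) : ((inclF Y Y' z : fib Y Y') : Y.E × Y'.E) = (Y.incl z, 0) := rfl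

/-- the inclusion of `L` into the Baer difference -/
noncomputable def inclQ : L →+ (fib Y Y' ⧸ diag Y Y') :=
  (Ideal.Quotient.mk (diag Y Y') : fib Y Y' →+* _).toAddMonoidHom.comp (inclF Y Y')

theorem inclQ_apply (z : L) : inclQ Y Y' z = Ideal.Quotient.mk _ (inclF Y Y' z) := rfl

theorem isExtension_Q :
    Exal.IsExtension (E := fib Y Y' ⧸ diag Y Y') (projQ Y Y') (inclQ Y Y') := by
  refine ⟨?_, ?_, ?_, ?_⟩
  · intro b
    obtain ⟨e, he⟩ := Y.isExtension.proj_surjective b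
    obtain ⟨e', he'⟩ := Y'.isExtension.proj_surjective b
    exact ⟨Ideal.Quotient.mk _ ⟨(e, e'), (mem_fib Y Y' _).2 (he.trans he'.symm)⟩, he⟩
  · rw [injective_iff_map_eq_zero]
    intro z hz
    rw [inclQ_apply, Ideal.Quotient.eq_zero_iff_mem, mem_diag] at hz
    obtain ⟨z', hz'⟩ := hz
    have h1 : Y.incl z = Y.incl z' := congrArg Prod.fst hz'
    have h2 : (0 : Y'.E) = Y'.incl z' := congrArg Prod.snd hz'
    have h3 : z' = 0 := Y'.isExtension.incl_injective (h2.symm.trans (map_zero _).symm)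
    rw [h3] at h1
    exact Y.isExtension.incl_injective h1
  · intro q
    obtain ⟨x, rfl⟩ := Ideal.Quotient.mk_surjective q
    rw [projQ_mk]
    constructor
    · intro h
      have hx : Y.proj (x : Y.E × Y'.E).1 = Y'.proj (x : Y.E × Y'.E).2 := x.2
      obtain ⟨z, hz⟩ := (Y.isExtension.exact _).1 h
      obtain ⟨z', hz'⟩ := (Y'.isExtension.exact _).1 (hx.symm.trans h)
      refine ⟨z - z', ?_⟩
      rw [inclQ_apply, Ideal.Quotient.eq, mem_diag]
      refine ⟨-z', ?_⟩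
      show ((Y.incl (z - z'), (0 : Y'.E)) - (x : Y.E × Y'.E)) = (Y.incl (-z'), Y'.incl (-z'))
      apply Prod.ext
      · show Y.incl (z - z') - (x : Y.E × Y'.E).1 = Y.incl (-z')
        rw [← hz, map_sub, map_neg]
        abel
      · show (0 : Y'.E) - (x : Y.E × Y'.E).2 = Y'.incl (-z')
        rw [← hz', map_neg, zero_sub]
    · rintro ⟨z, hz⟩
      rw [inclQ_apply, Ideal.Quotient.eq, mem_diag] at hz
      obtain ⟨z', hz'⟩ := hz
      have h1 : Y.incl z - (x : Y.E × Y'.E).1 = Y.incl z' := congrArg Prod.fst hz'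
      have h2 : (x : Y.E × Y'.E).1 = Y.incl (z - z') := by
        rw [map_sub, ← h1]
        abel
      rw [h2]
      exact proj_incl Y _
  · intro q z
    obtain ⟨x, rfl⟩ := Ideal.Quotient.mk_surjective q
    rw [projQ_mk, inclQ_apply, inclQ_apply, ← map_mul]
    congr 1
    apply Subtype.ext
    show (x : Y.E × Y'.E) * (Y.incl z, (0 : Y'.E)) =
      (Y.incl (Y.proj (x : Y.E × Y'.E).1 • z), (0 : Y'.E))
    apply Prod.ext
    · exact Y.isExtension.mul_incl _ _
    · exact mul_zero _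

end Baer

section Diff

variable {A : Type u} {B₀ B L : Type v} [CommRing A] [CommRing B₀] [CommRing B] [Algebra A B]
  [AddCommGroup L] [Module B L] [Algebra A B₀] [Algebra B₀ B] [IsScalarTower A B₀ B]
  [Module B₀ L] [IsScalarTower B₀ B L]

theorem exists_tau (Y Y' : Exal.Ext A B L) (θ : (Y.pullback B₀).Equiv (Y'.pullback B₀)) :
    ∃ τ : ↥(Y.fiberProd B₀) →ₐ[A] ↥(fib Y Y'),
      (∀ x, ((τ x : ↥(fib Y Y')) : Y.E × Y'.E).1 = (x : Y.E × B₀).1) ∧
      (∀ z : L, ((τ ((Y.pullback B₀).incl z) : ↥(fib Y Y')) : Y.E × Y'.E).2 = Y'.incl z) := by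
  let θh : ↥(Y.fiberProd B₀) →ₐ[A] ↥(Y'.fiberProd B₀) :=
    (θ.toAlgEquiv : (Y.pullback B₀).E →ₐ[A] (Y'.pullback B₀).E)
  have hP : ∀ x : ↥(Y.fiberProd B₀),
      Y.proj (x : Y.E × B₀).1 = algebraMap B₀ B (x : Y.E × B₀).2 := fun x => x.2
  have hP' : ∀ x : ↥(Y'.fiberProd B₀),
      Y'.proj (x : Y'.E × B₀).1 = algebraMap B₀ B (x : Y'.E × B₀).2 := fun x => x.2
  have hθ2 : ∀ x : ↥(Y.fiberProd B₀),
      ((θh x : ↥(Y'.fiberProd B₀)) : Y'.E × B₀).2 = (x : Y.E × B₀).2 := fun x => θ.proj_apply x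
  have hθi : ∀ z : L,
      ((θh ((Y.pullback B₀).incl z) : ↥(Y'.fiberProd B₀)) : Y'.E × B₀).1 = Y'.incl z := by
    intro z
    have h := θ.apply_incl z
    exact congrArg (fun e : ↥(Y'.fiberProd B₀) => (e : Y'.E × B₀).1) h
  refine ⟨AlgHom.codRestrict
      (AlgHom.prod ((AlgHom.fst A Y.E B₀).comp (Y.fiberProd B₀).val)
        (((AlgHom.fst A Y'.E B₀).comp (Y'.fiberProd B₀).val).comp θh))
      (fib Y Y') (fun x => by
        rw [mem_fib]
        show Y.proj (x : Y.E × B₀).1 = Y'.proj ((θh x : ↥(Y'.fiberProd B₀)) : Y'.E × B₀).1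
        rw [hP, hP', hθ2]), fun x => rfl, fun z => hθi z⟩

theorem exists_sigma (Y Y' : Exal.Ext A B L) (θ : (Y.pullback B₀).Equiv (Y'.pullback B₀)) :
    ∃ σ : B₀ →ₐ[A] (↥(fib Y Y') ⧸ diag Y Y'),
      ∀ b, projQ Y Y' (σ b) = algebraMap B₀ B b := by
  obtain ⟨τ, hτ1, hτ2⟩ := exists_tau Y Y' θ
  have hP : ∀ x : ↥(Y.fiberProd B₀),
      Y.proj (x : Y.E × B₀).1 = algebraMap B₀ B (x : Y.E × B₀).2 := fun x => x.2
  obtain ⟨π, hπd⟩ : ∃ π : ↥(Y.fiberProd B₀) →ₐ[A] B₀, ∀ x, π x = (x : Y.E × B₀).2 :=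
    ⟨(AlgHom.snd A Y.E B₀).comp (Y.fiberProd B₀).val, fun _ => rfl⟩
  have hπ : Function.Surjective π := by
    intro b
    obtain ⟨x, hx⟩ := (Y.pullback B₀).isExtension.proj_surjective b
    exact ⟨x, (hπd x).trans hx⟩
  obtain ⟨τb, hτb⟩ : ∃ τb : ↥(Y.fiberProd B₀) →ₐ[A] (↥(fib Y Y') ⧸ diag Y Y'),
      ∀ x, τb x = Ideal.Quotient.mk (diag Y Y') (τ x) :=
    ⟨(Ideal.Quotient.mkₐ A (diag Y Y')).comp τ, fun _ => rfl⟩
  have hkey : ∀ x y, π x = π y → τb x = τb y := by
    intro x y hxy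
    have hx2 : ((x - y : ↥(Y.fiberProd B₀)) : Y.E × B₀).2 = 0 := by
      rw [← hπd, map_sub, hxy, sub_self]
    have hx1 : Y.proj ((x - y : ↥(Y.fiberProd B₀)) : Y.E × B₀).1 = 0 := by
      rw [hP, hx2, map_zero]
    obtain ⟨z, hz⟩ := (Y.isExtension.exact _).1 hx1
    have hxz : x - y = (Y.pullback B₀).incl z := by
      apply Subtype.ext
      apply Prod.ext
      · exact hz.symm
      · exact hx2
    have h0 : τb (x - y) = 0 := by
      rw [hτb, Ideal.Quotient.eq_zero_iff_mem, mem_diag]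
      refine ⟨z, Prod.ext ?_ ?_⟩
      · rw [hτ1]
        exact hz.symm
      · rw [hxz]
        exact hτ2 z
    rw [map_sub] at h0
    exact sub_eq_zero.1 h0
  have hinv : ∀ b, π (Function.surjInv hπ b) = b := Function.surjInv_eq hπ
  refine ⟨{ toFun := fun b => τb (Function.surjInv hπ b)
            map_one' := (hkey _ 1 (by rw [hinv, map_one])).trans (map_one τb)
            map_mul' := fun a b => (hkey _ (Function.surjInv hπ a * Function.surjInv hπ b)
              (by rw [hinv, map_mul, hinv, hinv])).trans (map_mul τb _ _)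
            map_zero' := (hkey _ 0 (by rw [hinv, map_zero])).trans (map_zero τb)
            map_add' := fun a b => (hkey _ (Function.surjInv hπ a + Function.surjInv hπ b)
              (by rw [hinv, map_add, hinv, hinv])).trans (map_add τb _ _)
            commutes' := fun a => (hkey _ (algebraMap A _ a)
              (by rw [hinv, AlgHom.commutes])).trans (τb.commutes a) }, fun b => ?_⟩
  show projQ Y Y' (τb (Function.surjInv hπ b)) = algebraMap B₀ B b
  rw [hτb, projQ_mk, hτ1, hP, ← hπd, hinv]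

omit [Module B₀ L] [IsScalarTower B₀ B L] in
theorem exists_section (htriv : ∀ X : Exal.Ext B₀ B L, X.IsTrivial) (Y Y' : Exal.Ext A B L)
    (σ : B₀ →ₐ[A] (↥(fib Y Y') ⧸ diag Y Y'))
    (hσ : ∀ b, projQ Y Y' (σ b) = algebraMap B₀ B b) :
    ∃ s : B →ₐ[A] (↥(fib Y Y') ⧸ diag Y Y'), ∀ b, projQ Y Y' (s b) = b := by
  let algQ : Algebra B₀ (↥(fib Y Y') ⧸ diag Y Y') :=
    @RingHom.toAlgebra B₀ (↥(fib Y Y') ⧸ diag Y Y') _ _ σ.toRingHom
  have hQ := isExtension_Q Y Y'
  let pΛ : (↥(fib Y Y') ⧸ diag Y Y') →ₐ[B₀] B :=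
    { toRingHom := (projQ Y Y').toRingHom
      commutes' := fun b => hσ b }
  let XΛ : Exal.Ext B₀ B L :=
    { E := ↥(fib Y Y') ⧸ diag Y Y'
      algebra := algQ
      proj := pΛ
      incl := inclQ Y Y'
      isExtension := ⟨hQ.proj_surjective, hQ.incl_injective, hQ.exact, hQ.mul_incl⟩ }
  obtain ⟨s, hs⟩ := htriv XΛ
  refine ⟨{ toRingHom := s.toRingHom, commutes' := fun a => ?_ }, hs⟩
  show s (algebraMap A B a) = algebraMap A (↥(fib Y Y') ⧸ diag Y Y') a
  rw [IsScalarTower.algebraMap_apply A B₀ B, s.commutes]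
  exact σ.commutes a

omit [Algebra A B₀] [Algebra B₀ B] [IsScalarTower A B₀ B] [Module B₀ L] [IsScalarTower B₀ B L] in
theorem equiv_of_section (Y Y' : Exal.Ext A B L)
    (s : B →ₐ[A] (↥(fib Y Y') ⧸ diag Y Y')) (hs' : ∀ b, projQ Y Y' (s b) = b) :
    Nonempty (Y.Equiv Y') := by
  obtain ⟨θ', hθ'1, hθ'2⟩ : ∃ θ' : ↥(fib Y Y') →ₐ[A] Y.E × (↥(fib Y Y') ⧸ diag Y Y'),
      (∀ x, (θ' x).1 = (x : Y.E × Y'.E).1) ∧
      (∀ x, (θ' x).2 = Ideal.Quotient.mk (diag Y Y') x) :=
    ⟨AlgHom.prod ((AlgHom.fst A Y.E Y'.E).comp (fib Y Y').val)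
      (Ideal.Quotient.mkₐ A (diag Y Y')), fun _ => rfl, fun _ => rfl⟩
  have hθ' : Function.Injective θ' := by
    rw [injective_iff_map_eq_zero]
    intro x hx
    have h1 : (x : Y.E × Y'.E).1 = 0 := by
      rw [← hθ'1, hx]
      rfl
    have h2 : Ideal.Quotient.mk (diag Y Y') x = 0 := by
      rw [← hθ'2, hx]
      rfl
    rw [Ideal.Quotient.eq_zero_iff_mem, mem_diag] at h2
    obtain ⟨z, hz⟩ := h2
    have h3 : Y.incl z = 0 := by
      have h := congrArg Prod.fst hz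
      exact h.symm.trans h1
    have h4 : z = 0 := Y.isExtension.incl_injective (h3.trans (map_zero _).symm)
    apply Subtype.ext
    rw [hz, h4, map_zero, map_zero]
    rfl
  obtain ⟨g, hg1, hg2⟩ : ∃ g : Y.E →ₐ[A] Y.E × (↥(fib Y Y') ⧸ diag Y Y'),
      (∀ e, (g e).1 = e) ∧ (∀ e, (g e).2 = s (Y.proj e)) :=
    ⟨AlgHom.prod (AlgHom.id A Y.E) (s.comp Y.proj), fun _ => rfl, fun _ => rfl⟩
  have hmem : ∀ e : Y.E, g e ∈ θ'.range := by
    intro e
    obtain ⟨x₁, hx₁⟩ := Ideal.Quotient.mk_surjective (s (Y.proj e))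
    have h1 : Y.proj (x₁ : Y.E × Y'.E).1 = Y.proj e := by
      have h := hs' (Y.proj e)
      rw [← hx₁] at h
      exact h
    have h2 : Y.proj (e - (x₁ : Y.E × Y'.E).1) = 0 := by rw [map_sub, h1, sub_self]
    obtain ⟨z, hz⟩ := (Y.isExtension.exact _).1 h2
    let dz : ↥(fib Y Y') := ⟨(Y.incl z, Y'.incl z), by
      rw [mem_fib]
      show Y.proj (Y.incl z) = Y'.proj (Y'.incl z)
      rw [proj_incl, proj_incl]⟩
    have hdz : dz ∈ diag Y Y' := ⟨z, rfl⟩
    rw [AlgHom.mem_range]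
    refine ⟨x₁ + dz, ?_⟩
    apply Prod.ext
    · rw [hθ'1, hg1]
      show (x₁ : Y.E × Y'.E).1 + Y.incl z = e
      rw [hz]
      abel
    · rw [hθ'2, hg2, map_add, Ideal.Quotient.eq_zero_iff_mem.2 hdz, add_zero, hx₁]
  obtain ⟨Ψ, hΨ⟩ : ∃ Ψ : Y.E →ₐ[A] ↥(fib Y Y'), ∀ e, θ' (Ψ e) = g e := by
    refine ⟨(AlgEquiv.ofInjective θ' hθ').symm.toAlgHom.comp (g.codRestrict θ'.range hmem),
      fun e => ?_⟩
    have h2 := (AlgEquiv.ofInjective θ' hθ').apply_symm_apply (g.codRestrict θ'.range hmem e)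
    exact congrArg Subtype.val h2
  have hΨ1 : ∀ e, ((Ψ e : ↥(fib Y Y')) : Y.E × Y'.E).1 = e := by
    intro e
    rw [← hθ'1, hΨ, hg1]
  have hΨ2 : ∀ e, Ideal.Quotient.mk (diag Y Y') (Ψ e) = s (Y.proj e) := by
    intro e
    rw [← hθ'2, hΨ, hg2]
  obtain ⟨Φ, hΦ⟩ : ∃ Φ : Y.E →ₐ[A] Y'.E, ∀ e, Φ e = ((Ψ e : ↥(fib Y Y')) : Y.E × Y'.E).2 :=
    ⟨((AlgHom.snd A Y.E Y'.E).comp (fib Y Y').val).comp Ψ, fun _ => rfl⟩
  refine equiv_of_hom Y Y' Φ (fun e => ?_) (fun z => ?_)
  · rw [hΦ]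
    have h : Y.proj ((Ψ e : ↥(fib Y Y')) : Y.E × Y'.E).1 =
        Y'.proj ((Ψ e : ↥(fib Y Y')) : Y.E × Y'.E).2 := (Ψ e).2
    rw [← h, hΨ1]
  · rw [hΦ]
    have h1 : Ideal.Quotient.mk (diag Y Y') (Ψ (Y.incl z)) = 0 := by
      rw [hΨ2, proj_incl, map_zero]
    rw [Ideal.Quotient.eq_zero_iff_mem, mem_diag] at h1
    obtain ⟨z', hz'⟩ := h1
    have h2 : Y.incl z = Y.incl z' := by
      have h := congrArg Prod.fst hz'
      rw [hΨ1] at h
      exact h
    have h3 : z = z' := Y.isExtension.incl_injective h2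
    have h4 := congrArg Prod.snd hz'
    subst h3
    exact h4

theorem equiv_of_pullback_equiv (htriv : ∀ X : Exal.Ext B₀ B L, X.IsTrivial)
    (Y Y' : Exal.Ext A B L) (θ : (Y.pullback B₀).Equiv (Y'.pullback B₀)) :
    Nonempty (Y.Equiv Y') := by
  obtain ⟨σ, hσ⟩ := exists_sigma Y Y' θ
  obtain ⟨s, hs⟩ := exists_section htriv Y Y' σ hσ
  exact equiv_of_section Y Y' s hs

end Diff

end Groth.Agent.Helper17.EX5
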