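import Mathlib

/-!
Helper17: minimal presentations of local Artinian algebras with residue field `k`
(towards non-trivial extensions by the residue field).
-/

namespace Groth.Agent.Helper17.EX

open IsLocalRing MvPolynomial

variable {k : Type*} [Field k] {A : Type*} [CommRing A] [Algebra k A] [IsLocalRing A]

/-- the augmentation `A → k` -/
theorem exists_rho (hres : ∀ a : A, ∃ c : k, a - algebraMap k A c ∈ maximalIdeal A) :
    ∃ ρ : A →ₐ[k] k, ∀ a : A, a - algebraMap k A (ρ a) ∈ maximalIdeal A := by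
  have hbij : Function.Bijective (Algebra.ofId k (A ⧸ maximalIdeal A)) := by
    refine ⟨(algebraMap k (A ⧸ maximalIdeal A)).injective, fun z => ?_⟩
    obtain ⟨a, rfl⟩ := Ideal.Quotient.mk_surjective z
    obtain ⟨c, hc⟩ := hres a
    refine ⟨c, ?_⟩
    change algebraMap k (A ⧸ maximalIdeal A) c = _
    rw [IsScalarTower.algebraMap_apply k A (A ⧸ maximalIdeal A), Ideal.Quotient.algebraMap_eq, eq_comm,
      Ideal.Quotient.eq]
    exact hc
  let κ : k ≃ₐ[k] (A ⧸ maximalIdeal A) := AlgEquiv.ofBijective _ hbij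
  refine ⟨κ.symm.toAlgHom.comp (Ideal.Quotient.mkₐ k (maximalIdeal A)), fun a => ?_⟩
  rw [← Ideal.Quotient.eq]
  have h1 : (Ideal.Quotient.mk (maximalIdeal A)) (algebraMap k A
      ((κ.symm.toAlgHom.comp (Ideal.Quotient.mkₐ k (maximalIdeal A))) a)) =
      κ (κ.symm (Ideal.Quotient.mk (maximalIdeal A) a)) := by
    rfl
  rw [h1, AlgEquiv.apply_symm_apply]

section Rho

variable (ρ : A →ₐ[k] k) (hρ : ∀ a : A, a - algebraMap k A (ρ a) ∈ maximalIdeal A)

include hρ in
theorem rho_eq_zero {a : A} (ha : a ∈ maximalIdeal A) : ρ a = 0 := by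
  by_contra h
  have h1 : algebraMap k A (ρ a) ∈ maximalIdeal A := by
    have := sub_mem ha (hρ a)
    rwa [sub_sub_cancel] at this
  have h2 : IsUnit (algebraMap k A (ρ a)) := (isUnit_iff_ne_zero.2 h).map _
  exact (IsLocalRing.mem_maximalIdeal _).1 h1 h2

include hρ in
theorem smul_cotangent (a : A) (v : (maximalIdeal A).Cotangent) : a • v = ρ a • v := by
  obtain ⟨y, rfl⟩ := Ideal.toCotangent_surjective _ v
  have h1 : a • (maximalIdeal A).toCotangent y - ρ a • (maximalIdeal A).toCotangent y = 0 := by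
    rw [← algebraMap_smul A (ρ a) ((maximalIdeal A).toCotangent y), ← sub_smul, ← map_smul,
      Ideal.toCotangent_eq_zero]
    change (a - algebraMap k A (ρ a)) * (y : A) ∈ _
    rw [pow_two]
    exact Ideal.mul_mem_mul (hρ a) y.2
  exact sub_eq_zero.1 h1

end Rho

section Presentation

variable (ρ : A →ₐ[k] k) (hρ : ∀ a : A, a - algebraMap k A (ρ a) ∈ maximalIdeal A)
  {ι : Type*} (x : ι → A) (hx : ∀ i, x i ∈ maximalIdeal A)
  (b : Module.Basis ι k (maximalIdeal A).Cotangent)
  (hb : ∀ i, (maximalIdeal A).toCotangent ⟨x i, hx i⟩ = b i)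

include hρ hx in
theorem rho_aeval (p : MvPolynomial ι k) : ρ (aeval x p) = constantCoeff p := by
  induction p using MvPolynomial.induction_on with
  | C c => rw [aeval_C, AlgHom.commutes, constantCoeff_C]; rfl
  | add p q hp hq => rw [map_add, map_add, map_add, hp, hq]
  | mul_X p i hp =>
    rw [map_mul, map_mul, aeval_X, rho_eq_zero ρ hρ (hx i), mul_zero, map_mul, constantCoeff_X,
      mul_zero]

include hρ hx in
theorem aeval_mem_maximalIdeal {p : MvPolynomial ι k} (hp : constantCoeff p = 0) :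
    aeval x p ∈ maximalIdeal A := by
  have := hρ (aeval x p)
  rwa [rho_aeval ρ hρ x hx, hp, map_zero, sub_zero] at this

/-- the "linear part" map `A → m/m²` -/
noncomputable def piLin (a : A) : (maximalIdeal A).Cotangent :=
  (maximalIdeal A).toCotangent ⟨a - algebraMap k A (ρ a), hρ a⟩

theorem piLin_add (a a' : A) : piLin ρ hρ (a + a') = piLin ρ hρ a + piLin ρ hρ a' := by
  unfold piLin
  rw [← map_add]
  congr 1
  apply Subtype.ext
  simp only [map_add, Submodule.coe_add]
  ring

theorem piLin_zero : piLin ρ hρ (0 : A) = 0 := by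
  unfold piLin
  rw [Ideal.toCotangent_eq_zero]
  simp

theorem piLin_of_mem {a : A} (ha : a ∈ maximalIdeal A) :
    piLin ρ hρ a = (maximalIdeal A).toCotangent ⟨a, ha⟩ := by
  unfold piLin
  congr 1
  apply Subtype.ext
  simp only
  rw [rho_eq_zero ρ hρ ha, map_zero, sub_zero]

include hb in
theorem repr_piLin_aeval (p : MvPolynomial ι k) (i : ι) :
    b.repr (piLin ρ hρ (aeval x p)) i = coeff (Finsupp.single i 1) p := by
  classical
  induction p using MvPolynomial.induction_on with
  | C c =>
    have h1 : piLin ρ hρ (aeval x (C c : MvPolynomial ι k)) = 0 := by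
      unfold piLin
      rw [Ideal.toCotangent_eq_zero]
      simp
    rw [h1, map_zero, Finsupp.zero_apply, coeff_C, if_neg]
    intro h
    have := congrArg (fun f => f i) h
    simp at this
  | add p q hp hq =>
    rw [map_add, piLin_add, map_add, Finsupp.add_apply, hp, hq, coeff_add]
  | mul_X p j hp =>
    have hmem : aeval x (p * X j) ∈ maximalIdeal A := by
      rw [map_mul, aeval_X]
      exact Ideal.mul_mem_left _ _ (hx j)
    rw [piLin_of_mem ρ hρ hmem]
    have h1 : (⟨aeval x (p * X j), hmem⟩ : maximalIdeal A) = aeval x p • ⟨x j, hx j⟩ := by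
      apply Subtype.ext
      simp [map_mul, aeval_X]
    rw [h1, map_smul, hb, smul_cotangent ρ hρ, rho_aeval ρ hρ x hx, map_smul, Module.Basis.repr_self,
      Finsupp.smul_apply, smul_eq_mul, coeff_mul_X']
    by_cases hij : j = i
    · subst hij
      simp [constantCoeff_eq]
    · rw [Finsupp.single_eq_of_ne (Ne.symm hij), mul_zero, if_neg]
      simp [Finsupp.mem_support_iff, Finsupp.single_apply, hij, Ne.symm hij]

theorem eq_single_of_degree_eq_one {x : ι →₀ ℕ} (h : Finsupp.degree x = 1) :
    ∃ i, x = Finsupp.single i 1 := by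
  classical
  have hx0 : x ≠ 0 := by
    rintro rfl
    simp at h
  obtain ⟨i, hi⟩ : ∃ i, x i ≠ 0 := by
    by_contra hcon
    push Not at hcon
    exact hx0 (Finsupp.ext hcon)
  have hle : Finsupp.single i 1 ≤ x := by
    intro j
    by_cases hj : j = i
    · subst hj
      simp only [Finsupp.single_eq_same]
      omega
    · rw [Finsupp.single_eq_of_ne hj]
      exact Nat.zero_le _
  have h1 : x = Finsupp.single i 1 + (x - Finsupp.single i 1) := (add_tsub_cancel_of_le hle).symm
  have h2 : Finsupp.degree (x - Finsupp.single i 1) = 0 := by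
    have := congrArg Finsupp.degree h1
    rw [map_add, h, Finsupp.degree_single] at this
    omega
  rw [Finsupp.degree_eq_zero_iff] at h2
  refine ⟨i, ?_⟩
  rw [h1, h2, add_zero]

include hρ hx hb in
theorem ker_le_sq : RingHom.ker (aeval x : MvPolynomial ι k →ₐ[k] A) ≤ idealOfVars ι k ^ 2 := by
  intro f hf
  rw [RingHom.mem_ker] at hf
  rw [mem_pow_idealOfVars_iff']
  intro d hd
  have hd' : Finsupp.degree d = 0 ∨ Finsupp.degree d = 1 := by omega
  rcases hd' with h0 | h1
  · rw [Finsupp.degree_eq_zero_iff] at h0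
    subst h0
    have := rho_aeval ρ hρ x hx f
    rw [hf, map_zero] at this
    exact this.symm
  · obtain ⟨i, rfl⟩ := eq_single_of_degree_eq_one h1
    rw [← repr_piLin_aeval ρ hρ x hx b hb f i]
    rw [hf, piLin_zero, map_zero, Finsupp.zero_apply]

end Presentation

section Surj

variable (ρ : A →ₐ[k] k) (hρ : ∀ a : A, a - algebraMap k A (ρ a) ∈ maximalIdeal A)
  {ι : Type*} (x : ι → A) (hx : ∀ i, x i ∈ maximalIdeal A)
  (b : Module.Basis ι k (maximalIdeal A).Cotangent)
  (hb : ∀ i, (maximalIdeal A).toCotangent ⟨x i, hx i⟩ = b i)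

include hb in
theorem exists_aeval_sub_mem_sq {y : A} (hy : y ∈ maximalIdeal A) :
    ∃ l : MvPolynomial ι k, constantCoeff l = 0 ∧ y - aeval x l ∈ maximalIdeal A ^ 2 := by
  classical
  let c := b.repr ((maximalIdeal A).toCotangent ⟨y, hy⟩)
  refine ⟨∑ i ∈ c.support, C (c i) * X i, ?_, ?_⟩
  · rw [map_sum]
    refine Finset.sum_eq_zero fun i _ => ?_
    rw [map_mul, constantCoeff_X, mul_zero]
  · have h1 : (⟨y, hy⟩ : maximalIdeal A) - ∑ i ∈ c.support, c i • (⟨x i, hx i⟩ : maximalIdeal A) ∈
        LinearMap.ker (maximalIdeal A).toCotangent := by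
      rw [LinearMap.mem_ker, map_sub, map_sum]
      have h2 : ∀ i ∈ c.support, (maximalIdeal A).toCotangent (c i • (⟨x i, hx i⟩ : maximalIdeal A)) =
          c i • b i := by
        intro i _
        rw [LinearMap.map_smul_of_tower, hb]
      rw [Finset.sum_congr rfl h2]
      have h3 := b.linearCombination_repr ((maximalIdeal A).toCotangent ⟨y, hy⟩)
      rw [Finsupp.linearCombination_apply, Finsupp.sum] at h3
      rw [h3, sub_self]
    rw [Ideal.mem_toCotangent_ker] at h1
    convert h1 using 1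
    rw [map_sum]
    simp only [Submodule.coe_sub, Submodule.coe_sum, Submodule.coe_smul_of_tower]
    congr 1
    refine Finset.sum_congr rfl fun i _ => ?_
    rw [map_mul, aeval_C, aeval_X, Algebra.smul_def]

include hρ hx hb in
theorem exists_aeval_sub_mem_pow (n : ℕ) :
    ∀ a : A, ∃ p : MvPolynomial ι k, a - aeval x p ∈ maximalIdeal A ^ (n + 1) := by
  induction n with
  | zero =>
    intro a
    refine ⟨C (ρ a), ?_⟩
    rw [aeval_C, zero_add, pow_one]
    exact hρ a
  | succ n ih =>
    intro a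
    obtain ⟨p, hp⟩ := ih a
    suffices H : ∀ z ∈ maximalIdeal A ^ (n + 1), ∃ q : MvPolynomial ι k,
        z - aeval x q ∈ maximalIdeal A ^ (n + 1 + 1) by
      obtain ⟨q, hq⟩ := H _ hp
      refine ⟨p + q, ?_⟩
      rw [map_add]
      have : a - (aeval x p + aeval x q) = a - aeval x p - aeval x q := by ring
      rw [this]
      exact hq
    intro z hz
    rw [pow_succ] at hz
    refine Submodule.smul_induction_on hz ?_ ?_
    · intro r hr y hy
      obtain ⟨pr, hpr⟩ := ih r
      obtain ⟨l, hl0, hl⟩ := exists_aeval_sub_mem_sq x hx b hb hy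
      refine ⟨pr * l, ?_⟩
      have hlm : aeval x l ∈ maximalIdeal A := aeval_mem_maximalIdeal ρ hρ x hx hl0
      have h1 : r • y - aeval x (pr * l) = r * (y - aeval x l) + (r - aeval x pr) * aeval x l := by
        rw [map_mul, smul_eq_mul]
        ring
      rw [h1]
      apply add_mem
      · have : maximalIdeal A ^ (n + 1 + 1) = maximalIdeal A ^ n * maximalIdeal A ^ 2 := by
          rw [← pow_add]
        rw [this]
        exact Ideal.mul_mem_mul hr hl
      · rw [pow_succ (maximalIdeal A) (n + 1)]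
        exact Ideal.mul_mem_mul hpr hlm
    · rintro z₁ z₂ ⟨q₁, hq₁⟩ ⟨q₂, hq₂⟩
      refine ⟨q₁ + q₂, ?_⟩
      rw [map_add]
      have : z₁ + z₂ - (aeval x q₁ + aeval x q₂) = (z₁ - aeval x q₁) + (z₂ - aeval x q₂) := by ring
      rw [this]
      exact add_mem hq₁ hq₂

include hρ hx hb in
theorem aeval_surjective {N : ℕ} (hN : maximalIdeal A ^ N = ⊥) :
    Function.Surjective (aeval x : MvPolynomial ι k →ₐ[k] A) := by
  intro a
  obtain ⟨p, hp⟩ := exists_aeval_sub_mem_pow ρ hρ x hx b hb N a
  refine ⟨p, ?_⟩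
  have h1 : maximalIdeal A ^ (N + 1) = ⊥ := by
    rw [pow_succ, hN, Ideal.bot_mul]
  rw [h1, Ideal.mem_bot, sub_eq_zero] at hp
  exact hp.symm

end Surj

end Groth.Agent.Helper17.EX
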