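import Mathlib
import Groth.Prelude.Def_Exal
import Groth.Agent.Lib.Helper17.EX1

/-!
Helper17: extensions by the residue field are trivial iff maps lift along small extensions of
local Artinian algebras.
-/

namespace Groth.Agent.Helper17.EX

open IsLocalRing

universe u

theorem exists_rho' {k Λ R : Type*} [Field k] [CommRing Λ] [Algebra k Λ] [CommRing R] [Algebra Λ R]
    [IsLocalRing R]
    (hR : ∀ r : R, ∃ c : k, r - algebraMap Λ R (algebraMap k Λ c) ∈ maximalIdeal R) :
    ∃ ρ : R →+* k, (∀ r, r - algebraMap Λ R (algebraMap k Λ (ρ r)) ∈ maximalIdeal R) ∧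
      (∀ c, ρ (algebraMap Λ R (algebraMap k Λ c)) = c) ∧ (∀ a ∈ maximalIdeal R, ρ a = 0) := by
  let _ : Algebra k R := ((algebraMap Λ R).comp (algebraMap k Λ)).toAlgebra
  obtain ⟨ρ, hρ⟩ := exists_rho (k := k) (A := R) hR
  exact ⟨ρ.toRingHom, hρ, fun c => ρ.commutes c, fun a ha => rho_eq_zero ρ hρ ha⟩

section ExtBasics

variable {Λ : Type*} {R : Type u} [CommRing Λ] [CommRing R] [Algebra Λ R] [IsLocalRing R]
  (X : Exal.Ext Λ R (ResidueField R))

theorem proj_incl (z : ResidueField R) : X.proj (X.incl z) = 0 :=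
  (X.isExtension.exact _).2 ⟨z, rfl⟩

theorem incl_mul_incl (z z' : ResidueField R) : X.incl z * X.incl z' = 0 := by
  rw [X.isExtension.mul_incl, proj_incl, zero_smul, map_zero]

theorem exists_mul_incl (z z' : ResidueField R) (hz : z ≠ 0) :
    ∃ e : X.E, X.incl z' = e * X.incl z := by
  obtain ⟨r, hr⟩ := Ideal.Quotient.mk_surjective (z' * z⁻¹)
  obtain ⟨e, he⟩ := X.isExtension.proj_surjective r
  refine ⟨e, ?_⟩
  rw [X.isExtension.mul_incl, he]
  have h1 : r • z = residue R r * z := rfl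
  have h2 : residue R r = z' * z⁻¹ := hr
  rw [h1, h2, inv_mul_cancel_right₀ hz]

theorem isLocalHom_proj : IsLocalHom (X.proj : X.E →+* R) := by
  constructor
  intro a ha
  obtain ⟨r', hr'⟩ := ha.exists_right_inv
  obtain ⟨e', rfl⟩ := X.isExtension.proj_surjective r'
  have h0 : X.proj (a * e' - 1) = 0 := by
    rw [map_sub, map_mul, map_one]
    exact sub_eq_zero.2 hr'
  obtain ⟨z, hz⟩ := (X.isExtension.exact _).1 h0
  have hn : (a * e' - 1) * (a * e' - 1) = 0 := by
    rw [← hz]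
    exact incl_mul_incl X z z
  refine IsUnit.of_mul_eq_one (e' * (1 - (a * e' - 1))) ?_
  have h1 : a * (e' * (1 - (a * e' - 1))) = 1 - (a * e' - 1) * (a * e' - 1) := by ring
  rw [h1, hn, sub_zero]

theorem isNoetherianRing_E [IsNoetherianRing R] : IsNoetherianRing X.E := by
  rw [isNoetherianRing_iff_ideal_fg]
  intro 𝔞
  have hsurj : Function.Surjective (X.proj : X.E →+* R) := X.isExtension.proj_surjective
  obtain ⟨T, hT⟩ : (Ideal.map (X.proj : X.E →+* R) 𝔞).FG := IsNoetherian.noetherian _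
  have hex : ∀ t : T, ∃ a ∈ 𝔞, (X.proj : X.E →+* R) a = t := by
    intro t
    have ht : (t : R) ∈ Ideal.map (X.proj : X.E →+* R) 𝔞 := by
      rw [← hT]
      exact Submodule.subset_span t.2
    exact (Ideal.mem_map_iff_of_surjective _ hsurj).1 ht
  choose a ha hpa using hex
  have h₀ : (Ideal.span (Set.range a)).FG := Submodule.fg_span (Set.finite_range a)
  have hle₀ : Ideal.span (Set.range a) ≤ 𝔞 := by
    rw [Ideal.span_le]
    rintro _ ⟨t, rfl⟩
    exact ha t
  have hle : Ideal.map (X.proj : X.E →+* R) 𝔞 ≤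
      Ideal.map (X.proj : X.E →+* R) (Ideal.span (Set.range a)) := by
    rw [← hT, Submodule.span_le]
    intro t ht
    have h := Ideal.mem_map_of_mem (X.proj : X.E →+* R)
      (Ideal.subset_span (Set.mem_range_self (f := a) ⟨t, ht⟩))
    rw [hpa] at h
    exact h
  have hc : (𝔞 ⊓ RingHom.ker (X.proj : X.E →+* R)).FG := by
    by_cases hbot : 𝔞 ⊓ RingHom.ker (X.proj : X.E →+* R) = ⊥
    · rw [hbot]
      exact Submodule.fg_bot
    · obtain ⟨c, hc𝔞, hc0⟩ := Submodule.exists_mem_ne_zero_of_ne_bot hbot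
      have hcker : X.proj c = 0 := RingHom.mem_ker.1 hc𝔞.2
      obtain ⟨z, hz⟩ := (X.isExtension.exact c).1 hcker
      have hz0 : z ≠ 0 := by
        rintro rfl
        exact hc0 (by rw [← hz, map_zero])
      have heq : 𝔞 ⊓ RingHom.ker (X.proj : X.E →+* R) = Ideal.span {c} := by
        apply le_antisymm
        · intro c' hc'
          have hc'ker : X.proj c' = 0 := RingHom.mem_ker.1 hc'.2
          obtain ⟨z', hz'⟩ := (X.isExtension.exact c').1 hc'ker
          obtain ⟨e, he⟩ := exists_mul_incl X z z' hz0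
          rw [← hz', he, hz]
          exact Ideal.mul_mem_left _ _ (Ideal.mem_span_singleton_self c)
        · rw [Ideal.span_singleton_le_iff_mem]
          exact hc𝔞
      rw [heq]
      exact Submodule.fg_span_singleton c
  have hsup : 𝔞 = Ideal.span (Set.range a) ⊔ (𝔞 ⊓ RingHom.ker (X.proj : X.E →+* R)) := by
    apply le_antisymm
    · intro x hx
      have hx' : (X.proj : X.E →+* R) x ∈
          Ideal.map (X.proj : X.E →+* R) (Ideal.span (Set.range a)) :=
        hle (Ideal.mem_map_of_mem _ hx)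
      obtain ⟨x₀, hx₀, hpx⟩ := (Ideal.mem_map_iff_of_surjective _ hsurj).1 hx'
      have hk : x - x₀ ∈ 𝔞 ⊓ RingHom.ker (X.proj : X.E →+* R) := by
        refine ⟨sub_mem hx (hle₀ hx₀), RingHom.mem_ker.2 ?_⟩
        rw [map_sub, hpx, sub_self]
      have h := Submodule.add_mem_sup hx₀ hk
      rwa [add_sub_cancel] at h
    · exact sup_le hle₀ inf_le_left
  rw [hsup]
  exact Submodule.FG.sup h₀ hc

end ExtBasics

theorem exists_lift_of_trivial {k Λ R : Type u} [Field k] [CommRing Λ] [Algebra k Λ] [CommRing R]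
    [Algebra Λ R] [IsLocalRing R]
    (hR : ∀ r : R, ∃ c : k, r - algebraMap Λ R (algebraMap k Λ c) ∈ maximalIdeal R)
    (htriv : ∀ X : Exal.Ext Λ R (ResidueField R), X.IsTrivial)
    (B : Type u) [CommRing B] [Algebra Λ B] [IsLocalRing B]
    (hB : ∀ b : B, ∃ c : k, b - algebraMap Λ B (algebraMap k Λ c) ∈ maximalIdeal B)
    (t : B) (ht : t ∈ maximalIdeal B) (htm : ∀ b ∈ maximalIdeal B, b * t = 0)
    (φ : R →ₐ[Λ] B ⧸ Ideal.span {t}) :
    ∃ φ' : R →ₐ[Λ] B, (Ideal.Quotient.mkₐ Λ (Ideal.span {t})).comp φ' = φ := by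
  classical
  by_cases ht0 : t = 0
  · subst ht0
    have hbij : Function.Bijective (Ideal.Quotient.mkₐ Λ (Ideal.span {(0 : B)})) := by
      refine ⟨?_, Ideal.Quotient.mkₐ_surjective Λ _⟩
      rw [injective_iff_map_eq_zero]
      intro b hb
      rw [Ideal.Quotient.mkₐ_eq_mk] at hb
      have hb' : b ∈ Ideal.span {(0 : B)} := Ideal.Quotient.eq_zero_iff_mem.1 hb
      obtain ⟨a, ha⟩ := Ideal.mem_span_singleton'.1 hb'
      rw [← ha, mul_zero]
    refine ⟨(AlgEquiv.ofBijective _ hbij).symm.toAlgHom.comp φ, ?_⟩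
    apply AlgHom.ext
    intro r
    exact (AlgEquiv.ofBijective _ hbij).apply_symm_apply (φ r)
  · obtain ⟨ρ, hρ1, hρ2, hρ3⟩ := exists_rho' hR
    let ιR : k →+* R := (algebraMap Λ R).comp (algebraMap k Λ)
    let ιB : k →+* B := (algebraMap Λ B).comp (algebraMap k Λ)
    let q : B →+* (B ⧸ Ideal.span {t}) := Ideal.Quotient.mk (Ideal.span {t})
    have hq0 : ∀ b : B, q b = 0 ↔ b ∈ Ideal.span {t} := fun b => Ideal.Quotient.eq_zero_iff_mem
    have hspan : Ideal.span {t} ≤ maximalIdeal B := (Ideal.span_singleton_le_iff_mem _).2 ht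
    have hφι : ∀ x : k, φ (ιR x) = q (ιB x) := by
      intro x
      show φ (algebraMap Λ R (algebraMap k Λ x)) =
        algebraMap Λ (B ⧸ Ideal.span {t}) (algebraMap k Λ x)
      exact φ.commutes _
    let ρbar : ResidueField R →+* k := Ideal.Quotient.lift (maximalIdeal R) ρ hρ3
    have hρbar : ∀ r : R, ρbar (residue R r) = ρ r := fun r => rfl
    have KF : ∀ (r : R) (b : B), φ r = q b → b - ιB (ρ r) ∈ maximalIdeal B := by
      intro r b hrb
      obtain ⟨c, hc⟩ := hB (b - ιB (ρ r))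
      have hc' : b - ιB (ρ r) - ιB c ∈ maximalIdeal B := hc
      by_cases hc0 : c = 0
      · rw [hc0, map_zero, sub_zero] at hc'
        exact hc'
      · exfalso
        have h1 : r - ιR (ρ r) ∈ maximalIdeal R := hρ1 r
        have h2 : IsUnit (ιR c) := (isUnit_iff_ne_zero.2 hc0).map ιR
        have h3 : IsUnit (r - ιR (ρ r) - ιR c) := by
          by_contra hnu
          have h4 : r - ιR (ρ r) - ιR c ∈ maximalIdeal R := (mem_maximalIdeal _).2 hnu
          have h5 : ιR c ∈ maximalIdeal R := by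
            have h6 := sub_mem h1 h4
            rwa [sub_sub_cancel] at h6
          exact (mem_maximalIdeal _).1 h5 h2
        have h4 : φ (r - ιR (ρ r) - ιR c) = q (b - ιB (ρ r) - ιB c) := by
          rw [map_sub, map_sub, map_sub, map_sub, hrb, hφι, hφι]
        have h5 : IsUnit (q (b - ιB (ρ r) - ιB c)) := by
          rw [← h4]
          exact h3.map φ
        obtain ⟨y, hy⟩ := h5.exists_right_inv
        obtain ⟨y', rfl⟩ := Ideal.Quotient.mk_surjective y
        have h6 : (b - ιB (ρ r) - ιB c) * y' - 1 ∈ Ideal.span {t} := by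
          rw [← hq0, map_sub, map_mul, map_one]
          exact sub_eq_zero.2 hy
        have h8 : (1 : B) ∈ maximalIdeal B := by
          have h9 := sub_mem (Ideal.mul_mem_right y' _ hc') (hspan h6)
          rwa [sub_sub_cancel] at h9
        exact (Ideal.ne_top_iff_one _).1 (maximalIdeal.isMaximal B).ne_top h8
    have KF' : ∀ (r : R) (b : B), φ r = q b → b * t = ιB (ρ r) * t := by
      intro r b h
      have h1 := htm _ (KF r b h)
      rw [sub_mul, sub_eq_zero] at h1
      exact h1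
    let E : Subalgebra Λ (R × B) := AlgHom.equalizer (φ.comp (AlgHom.fst Λ R B))
      ((Ideal.Quotient.mkₐ Λ (Ideal.span {t})).comp (AlgHom.snd Λ R B))
    have hE : ∀ x : R × B, x ∈ E ↔ φ x.1 = q x.2 := fun x => Iff.rfl
    let proj : E →ₐ[Λ] R := (AlgHom.fst Λ R B).comp E.val
    have hproj : ∀ x : E, proj x = (x : R × B).1 := fun x => rfl
    have hmem : ∀ z : ResidueField R, ((0 : R), ιB (ρbar z) * t) ∈ E := by
      intro z
      rw [hE]
      show φ 0 = q (ιB (ρbar z) * t)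
      rw [map_zero, eq_comm, hq0]
      exact Ideal.mul_mem_left _ _ (Ideal.mem_span_singleton_self t)
    let incl : ResidueField R →+ E :=
      { toFun := fun z => ⟨((0 : R), ιB (ρbar z) * t), hmem z⟩
        map_zero' := by
          apply Subtype.ext
          show ((0 : R), ιB (ρbar 0) * t) = (0 : R × B)
          rw [map_zero, map_zero, zero_mul]
          rfl
        map_add' := fun z z' => by
          apply Subtype.ext
          show ((0 : R), ιB (ρbar (z + z')) * t) =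
            ((0 : R), ιB (ρbar z) * t) + ((0 : R), ιB (ρbar z') * t)
          rw [map_add, map_add, add_mul]
          exact Prod.ext (add_zero 0).symm rfl }
    have hincl : ∀ z, ((incl z : E) : R × B) = ((0 : R), ιB (ρbar z) * t) := fun z => rfl
    have hext : Exal.IsExtension proj incl := by
      refine ⟨?_, ?_, ?_, ?_⟩
      · intro r
        obtain ⟨b, hb⟩ := Ideal.Quotient.mk_surjective (φ r)
        exact ⟨⟨(r, b), (hE _).2 hb.symm⟩, rfl⟩
      · rw [injective_iff_map_eq_zero]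
        intro z hz
        have h1 : ιB (ρbar z) * t = 0 := congrArg (fun x : E => (x : R × B).2) hz
        by_contra hz0
        have h2 : ρbar z ≠ 0 := (map_ne_zero ρbar).2 hz0
        have h3 : IsUnit (ιB (ρbar z)) := (isUnit_iff_ne_zero.2 h2).map ιB
        exact ht0 ((h3.mul_right_eq_zero).1 h1)
      · intro e
        constructor
        · intro he
          have he1 : (e : R × B).1 = 0 := he
          have he2 : φ (e : R × B).1 = q (e : R × B).2 := e.2
          rw [he1, map_zero, eq_comm, hq0] at he2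
          obtain ⟨b', hb'⟩ := Ideal.mem_span_singleton'.1 he2
          obtain ⟨c, hc⟩ := hB b'
          have h1 : (b' - ιB c) * t = 0 := htm _ hc
          rw [sub_mul, sub_eq_zero] at h1
          refine ⟨residue R (ιR c), ?_⟩
          apply Subtype.ext
          rw [hincl, hρbar]
          have h2 : ρ (ιR c) = c := hρ2 c
          rw [h2, ← h1, hb']
          exact Prod.ext he1.symm rfl
        · rintro ⟨z, rfl⟩
          rfl
      · intro e z
        apply Subtype.ext
        have he2 : φ (e : R × B).1 = q (e : R × B).2 := e.2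
        have h1 := KF' _ _ he2
        show (e : R × B) * ((0 : R), ιB (ρbar z) * t) = ((0 : R), ιB (ρbar (proj e • z)) * t)
        have h2 : proj e • z = residue R (proj e) * z := rfl
        rw [h2, map_mul, hρbar, map_mul, hproj]
        apply Prod.ext
        · exact mul_zero _
        · show (e : R × B).2 * (ιB (ρbar z) * t) = ιB (ρ (e : R × B).1) * ιB (ρbar z) * t
          calc (e : R × B).2 * (ιB (ρbar z) * t) = ιB (ρbar z) * ((e : R × B).2 * t) := by ring
            _ = ιB (ρbar z) * (ιB (ρ (e : R × B).1) * t) := by rw [h1]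
            _ = ιB (ρ (e : R × B).1) * ιB (ρbar z) * t := by ring
    let X : Exal.Ext Λ R (ResidueField R) :=
      { E := E, proj := proj, incl := incl, isExtension := hext }
    obtain ⟨s, hs⟩ := htriv X
    refine ⟨(AlgHom.snd Λ R B).comp (E.val.comp s), ?_⟩
    apply AlgHom.ext
    intro r
    have h1 : φ ((s r : E) : R × B).1 = q ((s r : E) : R × B).2 := (s r).2
    have h2 : ((s r : E) : R × B).1 = r := hs r
    rw [h2] at h1
    exact h1.symm

theorem isTrivial_of_lifting {k Λ R : Type u} [Field k] [CommRing Λ] [Algebra k Λ] [CommRing R]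
    [Algebra Λ R] [IsLocalRing R] [IsNoetherianRing R]
    (hR : ∀ r : R, ∃ c : k, r - algebraMap Λ R (algebraMap k Λ c) ∈ maximalIdeal R)
    (hlift : ∀ (B : Type u) [CommRing B] [Algebra Λ B] [IsLocalRing B] [IsArtinianRing B],
      (∀ b : B, ∃ c : k, b - algebraMap Λ B (algebraMap k Λ c) ∈ maximalIdeal B) →
      ∀ t : B, t ∈ maximalIdeal B → (∀ b ∈ maximalIdeal B, b * t = 0) →
      ∀ φ : R →ₐ[Λ] B ⧸ Ideal.span {t},
        ∃ φ' : R →ₐ[Λ] B, (Ideal.Quotient.mkₐ Λ (Ideal.span {t})).comp φ' = φ)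
    (X : Exal.Ext Λ R (ResidueField R)) : X.IsTrivial := by
  haveI : IsLocalHom (X.proj : X.E →+* R) := isLocalHom_proj X
  haveI : IsLocalRing X.E := RingHom.domain_isLocalRing (X.proj : X.E →+* R)
  haveI : IsNoetherianRing X.E := isNoetherianRing_E X
  obtain ⟨ρ, hρ1, hρ2, hρ3⟩ := exists_rho' hR
  have hX := X.isExtension
  let ε : X.E := X.incl 1
  have hε0 : ε ≠ 0 := fun h =>
    one_ne_zero (hX.incl_injective (h.trans (map_zero X.incl).symm))
  have hmE : ∀ e : X.E, e ∈ maximalIdeal X.E ↔ X.proj e ∈ maximalIdeal R := by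
    intro e
    rw [← IsLocalRing.maximalIdeal_comap (X.proj : X.E →+* R)]
    rfl
  obtain ⟨n, hn⟩ : ∃ n : ℕ, ε ∉ maximalIdeal X.E ^ n := by
    by_contra hcon
    push Not at hcon
    have h1 : ε ∈ ⨅ n : ℕ, maximalIdeal X.E ^ n := (Ideal.mem_iInf).2 hcon
    rw [Ideal.iInf_pow_eq_bot_of_isLocalRing _ (maximalIdeal.isMaximal X.E).ne_top] at h1
    exact hε0 (Ideal.mem_bot.1 h1)
  have hK : ∀ e ∈ maximalIdeal X.E ^ n, X.proj e = 0 → e = 0 := by
    intro e he hpe
    obtain ⟨z, rfl⟩ := (hX.exact e).1 hpe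
    by_contra hne
    have hz0 : z ≠ 0 := by
      rintro rfl
      exact hne (map_zero _)
    obtain ⟨e', he'⟩ := exists_mul_incl X z 1 hz0
    apply hn
    show X.incl 1 ∈ _
    rw [he']
    exact Ideal.mul_mem_left _ _ he
  have hntop : maximalIdeal X.E ^ n ≠ ⊤ := by
    intro h
    apply hn
    rw [h]
    exact Submodule.mem_top
  let 𝔞 : Ideal X.E := maximalIdeal X.E ^ n
  haveI : Nontrivial (X.E ⧸ 𝔞) := Ideal.Quotient.nontrivial_iff.2 hntop
  haveI : IsLocalRing (X.E ⧸ 𝔞) :=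
    IsLocalRing.of_surjective' (Ideal.Quotient.mk 𝔞) Ideal.Quotient.mk_surjective
  have hmB : maximalIdeal (X.E ⧸ 𝔞) = Ideal.map (Ideal.Quotient.mk 𝔞) (maximalIdeal X.E) :=
    (IsLocalRing.map_maximalIdeal_of_surjective (Ideal.Quotient.mk 𝔞)
      Ideal.Quotient.mk_surjective).symm
  have hmB' : ∀ b : X.E ⧸ 𝔞, b ∈ maximalIdeal (X.E ⧸ 𝔞) ↔
      ∃ e ∈ maximalIdeal X.E, Ideal.Quotient.mk 𝔞 e = b := by
    intro b
    rw [hmB, Ideal.mem_map_iff_of_surjective _ Ideal.Quotient.mk_surjective]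
  haveI : IsArtinianRing (X.E ⧸ 𝔞) := by
    rw [isArtinianRing_iff_isNilpotent_maximalIdeal]
    refine ⟨n, ?_⟩
    rw [hmB, ← Ideal.map_pow, Ideal.zero_eq_bot]
    exact Ideal.map_quotient_self 𝔞
  have hB : ∀ b : X.E ⧸ 𝔞, ∃ c : k,
      b - algebraMap Λ (X.E ⧸ 𝔞) (algebraMap k Λ c) ∈ maximalIdeal (X.E ⧸ 𝔞) := by
    intro b
    obtain ⟨e, rfl⟩ := Ideal.Quotient.mk_surjective b
    refine ⟨ρ (X.proj e), ?_⟩
    rw [hmB']
    refine ⟨e - algebraMap Λ X.E (algebraMap k Λ (ρ (X.proj e))), ?_, ?_⟩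
    · rw [hmE, map_sub, AlgHom.commutes]
      exact hρ1 _
    · rw [map_sub]
      rfl
  let t : X.E ⧸ 𝔞 := Ideal.Quotient.mk 𝔞 ε
  have hεm : ε ∈ maximalIdeal X.E := by
    rw [hmE]
    show X.proj (X.incl 1) ∈ _
    rw [proj_incl]
    exact Ideal.zero_mem _
  have ht : t ∈ maximalIdeal (X.E ⧸ 𝔞) := (hmB' t).2 ⟨ε, hεm, rfl⟩
  have hmε : ∀ e ∈ maximalIdeal X.E, e * ε = 0 := by
    intro e he
    show e * X.incl 1 = 0
    rw [hX.mul_incl]
    have h1 : X.proj e • (1 : ResidueField R) = residue R (X.proj e) * 1 := rfl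
    rw [h1, (residue_eq_zero_iff _).2 ((hmE e).1 he), zero_mul, map_zero]
  have htm : ∀ b ∈ maximalIdeal (X.E ⧸ 𝔞), b * t = 0 := by
    intro b hb
    obtain ⟨e, he, rfl⟩ := (hmB' b).1 hb
    show Ideal.Quotient.mk 𝔞 e * Ideal.Quotient.mk 𝔞 ε = 0
    rw [← map_mul, hmε e he, map_zero]
  let qB : X.E →ₐ[Λ] (X.E ⧸ 𝔞) := Ideal.Quotient.mkₐ Λ 𝔞
  let qt : (X.E ⧸ 𝔞) →ₐ[Λ] ((X.E ⧸ 𝔞) ⧸ Ideal.span {t}) :=
    Ideal.Quotient.mkₐ Λ (Ideal.span {t})
  have hqt0 : ∀ b : X.E ⧸ 𝔞, qt b = 0 ↔ b ∈ Ideal.span {t} :=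
    fun b => Ideal.Quotient.eq_zero_iff_mem
  have hqB0 : ∀ e : X.E, qB e = 0 ↔ e ∈ 𝔞 := fun e => Ideal.Quotient.eq_zero_iff_mem
  let ψ : X.E →ₐ[Λ] ((X.E ⧸ 𝔞) ⧸ Ideal.span {t}) := qt.comp qB
  have hψ : RingHom.ker X.proj.toRingHom ≤ RingHom.ker ψ.toRingHom := by
    intro e he
    have hpe : X.proj e = 0 := RingHom.mem_ker.1 he
    obtain ⟨z, rfl⟩ := (hX.exact e).1 hpe
    obtain ⟨e', he'⟩ := exists_mul_incl X 1 z one_ne_zero
    refine RingHom.mem_ker.2 ?_
    show qt (qB (X.incl z)) = 0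
    rw [he', map_mul, hqt0]
    exact Ideal.mul_mem_left _ _ (Ideal.mem_span_singleton_self t)
  let φ : R →ₐ[Λ] ((X.E ⧸ 𝔞) ⧸ Ideal.span {t}) :=
    AlgHom.liftOfSurjective X.proj hX.proj_surjective ψ hψ
  have hφ : ∀ e, φ (X.proj e) = ψ e := fun e => AlgHom.liftOfSurjective_apply _ _ _ _ e
  obtain ⟨φ', hφ'⟩ := hlift (X.E ⧸ 𝔞) hB t ht htm φ
  have hφ'' : ∀ r, qt (φ' r) = φ r := fun r => AlgHom.congr_fun hφ' r
  let θ : X.E →ₐ[Λ] R × (X.E ⧸ 𝔞) := AlgHom.prod X.proj qB
  have hθ : Function.Injective θ := by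
    rw [injective_iff_map_eq_zero]
    intro e he
    have h1 : X.proj e = 0 := congrArg Prod.fst he
    have h2 : qB e = 0 := congrArg Prod.snd he
    exact hK e ((hqB0 e).1 h2) h1
  have hmem : ∀ r : R, (AlgHom.prod (AlgHom.id Λ R) φ') r ∈ θ.range := by
    intro r
    obtain ⟨e₀, he₀⟩ := hX.proj_surjective r
    have h1 : qt (qB e₀ - φ' r) = 0 := by
      rw [map_sub, hφ'', ← he₀, hφ]
      exact sub_self _
    have h2 : qB e₀ - φ' r ∈ Ideal.span {t} := (hqt0 _).1 h1
    obtain ⟨b, hb⟩ := Ideal.mem_span_singleton'.1 h2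
    obtain ⟨e', rfl⟩ := Ideal.Quotient.mk_surjective b
    rw [AlgHom.mem_range]
    refine ⟨e₀ - e' * ε, ?_⟩
    apply Prod.ext
    · show X.proj (e₀ - e' * ε) = r
      rw [map_sub, map_mul, he₀]
      have h3 : X.proj ε = 0 := proj_incl X 1
      rw [h3, mul_zero, sub_zero]
    · show qB (e₀ - e' * ε) = φ' r
      rw [map_sub, map_mul]
      have h3 : qB e' * qB ε = qB e₀ - φ' r := hb
      rw [h3, sub_sub_cancel]
  let s : R →ₐ[Λ] X.E := (AlgEquiv.ofInjective θ hθ).symm.toAlgHom.comp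
    ((AlgHom.prod (AlgHom.id Λ R) φ').codRestrict θ.range hmem)
  refine ⟨s, fun r => ?_⟩
  have h1 : θ (s r) = (AlgHom.prod (AlgHom.id Λ R) φ') r := by
    have h2 := (AlgEquiv.ofInjective θ hθ).apply_symm_apply
      ((AlgHom.prod (AlgHom.id Λ R) φ').codRestrict θ.range hmem r)
    exact congrArg Subtype.val h2
  exact congrArg Prod.fst h1

end Groth.Agent.Helper17.EX
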