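import Mathlib

/-!
# Ring-hom functoriality of adic completion; completions of Noetherian rings are Noetherian
(helper17)
-/

set_option autoImplicit false

universe u

namespace Groth.Agent.Helper17.AR

section MapRingHom

variable {Q P : Type u} [CommRing Q] [CommRing P] (I' : Ideal Q) (J : Ideal P) (g : Q →+* P)
  (hg : I'.map g ≤ J)

include hg in
lemma pow_le_comap (k : ℕ) : I' ^ k ≤ (J ^ k).comap g := by
  rw [← Ideal.map_le_iff_le_comap, Ideal.map_pow]
  exact Ideal.pow_right_mono hg k

include hg in
lemma mapRingHom_compat {m n : ℕ} (hle : m ≤ n) :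
    (Ideal.Quotient.factorPow J hle).comp
      ((Ideal.quotientMap (J ^ n) g (pow_le_comap I' J g hg n)).comp
        (AdicCompletion.evalₐ I' n).toRingHom) =
    (Ideal.quotientMap (J ^ m) g (pow_le_comap I' J g hg m)).comp
      (AdicCompletion.evalₐ I' m).toRingHom := by
  ext x
  obtain ⟨c, rfl⟩ := AdicCompletion.mk_surjective I' Q x
  simp only [RingHom.comp_apply, AlgHom.toRingHom_eq_coe, RingHom.coe_coe,
    AdicCompletion.evalₐ_mk, Ideal.quotientMap_mk, Ideal.Quotient.factor_mk]
  rw [Ideal.Quotient.eq, ← map_sub]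
  have h1 : c.val n - c.val m ∈ I' ^ m := by
    rw [← Ideal.Quotient.eq]
    exact AdicCompletion.Ideal.mk_eq_mk I' hle c
  exact pow_le_comap I' J g hg m h1

/-- the ring homomorphism of adic completions induced by a ring homomorphism -/
noncomputable def mapRingHom : AdicCompletion I' Q →+* AdicCompletion J P :=
  AdicCompletion.liftRingHom J
    (fun k => (Ideal.quotientMap (J ^ k) g (pow_le_comap I' J g hg k)).comp
      (AdicCompletion.evalₐ I' k).toRingHom)
    (fun hle => mapRingHom_compat I' J g hg hle)

lemma evalₐ_mapRingHom (k : ℕ) (x : AdicCompletion I' Q) :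
    AdicCompletion.evalₐ J k (mapRingHom I' J g hg x) =
      Ideal.quotientMap (J ^ k) g (pow_le_comap I' J g hg k) (AdicCompletion.evalₐ I' k x) := by
  unfold mapRingHom
  rw [AdicCompletion.evalₐ_liftRingHom J _ (fun hle => mapRingHom_compat I' J g hg hle)]
  rfl

lemma mapRingHom_of (q : Q) :
    mapRingHom I' J g hg (AdicCompletion.of I' Q q) = AdicCompletion.of J P (g q) := by
  apply AdicCompletion.ext_evalₐ
  intro k
  rw [evalₐ_mapRingHom, AdicCompletion.evalₐ_of, AdicCompletion.evalₐ_of, Ideal.quotientMap_mk]

end MapRingHom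

section Noeth

variable {P : Type u} [CommRing P] (J : Ideal P)

lemma exists_of_sub_mem (hJ : J.FG) (x : AdicCompletion J P) :
    ∃ p : P, x - AdicCompletion.of J P p ∈ J.map (algebraMap P (AdicCompletion J P)) := by
  obtain ⟨p, hp⟩ := Ideal.Quotient.mk_surjective (AdicCompletion.evalOneₐ J x)
  refine ⟨p, ?_⟩
  rw [← AdicCompletion.ker_evalOneₐ_eq_map J hJ, RingHom.mem_ker]
  change AdicCompletion.evalOneₐ J (x - AdicCompletion.of J P p) = 0
  rw [map_sub, AdicCompletion.evalOneₐ_of, hp, sub_self]

/-- The adic completion of a Noetherian ring is Noetherian. -/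
theorem isNoetherianRing_adicCompletion [IsNoetherianRing P] :
    IsNoetherianRing (AdicCompletion J P) := by
  have hJfg : J.FG := IsNoetherian.noetherian J
  obtain ⟨s, a, ha⟩ := Submodule.fg_iff_exists_fin_generating_family.mp hJfg
  set g : MvPolynomial (Fin s) P →+* P := (MvPolynomial.aeval a).toRingHom with hgdef
  have hgX : ∀ i, g (MvPolynomial.X i) = a i := fun i => by
    simp [hgdef]
  have hgC : ∀ p, g (MvPolynomial.C p) = p := fun p => by
    simp [hgdef]
  have hmap : (MvPolynomial.idealOfVars (Fin s) P).map g = J := by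
    rw [Ideal.map_span, ← Set.range_comp, ← ha]
    congr 2
    funext i
    exact hgX i
  have hg : (MvPolynomial.idealOfVars (Fin s) P).map g ≤ J := le_of_eq hmap
  have hI'fg := MvPolynomial.idealOfVars_fg (Fin s) P
  -- the source is Noetherian
  have hN : IsNoetherianRing
      (AdicCompletion (MvPolynomial.idealOfVars (Fin s) P) (MvPolynomial (Fin s) P)) :=
    isNoetherianRing_of_ringEquiv (MvPowerSeries (Fin s) P)
      (MvPowerSeries.toAdicCompletionAlgEquiv (Fin s) P).toRingEquiv
  -- completeness properties
  have hprec : IsPrecomplete ((MvPolynomial.idealOfVars (Fin s) P).map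
      (algebraMap (MvPolynomial (Fin s) P)
        (AdicCompletion (MvPolynomial.idealOfVars (Fin s) P) (MvPolynomial (Fin s) P))))
      (AdicCompletion (MvPolynomial.idealOfVars (Fin s) P) (MvPolynomial (Fin s) P)) :=
    IsPrecomplete.map_algebraMap_iff.mpr (AdicCompletion.isAdicComplete hI'fg).toIsPrecomplete
  have hmap2 : (((MvPolynomial.idealOfVars (Fin s) P).map
      (algebraMap (MvPolynomial (Fin s) P)
        (AdicCompletion (MvPolynomial.idealOfVars (Fin s) P) (MvPolynomial (Fin s) P)))).map
        (mapRingHom (MvPolynomial.idealOfVars (Fin s) P) J g hg)) =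
      J.map (algebraMap P (AdicCompletion J P)) := by
    have e1 : (mapRingHom (MvPolynomial.idealOfVars (Fin s) P) J g hg).comp
        (algebraMap (MvPolynomial (Fin s) P)
          (AdicCompletion (MvPolynomial.idealOfVars (Fin s) P) (MvPolynomial (Fin s) P))) =
        (algebraMap P (AdicCompletion J P)).comp g := by
      refine RingHom.ext fun q => ?_
      simp only [RingHom.comp_apply]
      exact mapRingHom_of _ J g hg q
    have e2 : J.map (algebraMap P (AdicCompletion J P)) =
        ((MvPolynomial.idealOfVars (Fin s) P).map g).map (algebraMap P (AdicCompletion J P)) := by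
      rw [hmap]
    rw [Ideal.map_map, e1, e2, Ideal.map_map]
  have hhaus : IsHausdorff (((MvPolynomial.idealOfVars (Fin s) P).map
      (algebraMap (MvPolynomial (Fin s) P)
        (AdicCompletion (MvPolynomial.idealOfVars (Fin s) P) (MvPolynomial (Fin s) P)))).map
        (mapRingHom (MvPolynomial.idealOfVars (Fin s) P) J g hg)) (AdicCompletion J P) := by
    rw [hmap2]
    exact IsHausdorff.map_algebraMap_iff.mpr (AdicCompletion.isAdicComplete hJfg).toIsHausdorff
  have hsurj : Function.Surjective (mapRingHom (MvPolynomial.idealOfVars (Fin s) P) J g hg) := by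
    refine surjective_of_mk_map_comp_surjective (I := (MvPolynomial.idealOfVars (Fin s) P).map
      (algebraMap (MvPolynomial (Fin s) P)
        (AdicCompletion (MvPolynomial.idealOfVars (Fin s) P) (MvPolynomial (Fin s) P))))
      (f := mapRingHom (MvPolynomial.idealOfVars (Fin s) P) J g hg) ?_
    intro y
    obtain ⟨τ, rfl⟩ := Ideal.Quotient.mk_surjective y
    obtain ⟨p, hp⟩ := exists_of_sub_mem J hJfg τ
    refine ⟨AdicCompletion.of _ _ (MvPolynomial.C p), ?_⟩
    rw [RingHom.comp_apply, mapRingHom_of, hgC, Ideal.Quotient.eq, hmap2]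
    rw [← neg_sub]
    exact Ideal.neg_mem_iff _ |>.mpr hp
  exact isNoetherianRing_of_surjective _ _ _ hsurj

end Noeth

end Groth.Agent.Helper17.AR
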