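import Mathlib
import Groth.Prelude.Def_W4bk4boschfrg79

/-!
# Flatness of restricted power series over the base rings of class (N) and (V) (helper17)
-/

set_option autoImplicit false

universe u

namespace Groth.Agent.Helper17.AR

open AdicRing

section Torsion

variable {S : Type u} [CommRing S] [IsDomain S]

/-- The completion of a domain at a principal ideal `(c)`, `c ≠ 0`, has no `c`-torsion. -/
lemma eq_zero_of_smul_eq_zero (J : Ideal S) (c : S) (hJ : J = Ideal.span {c}) (hc : c ≠ 0)
    (x : AdicCompletion J S) (h : c • x = 0) : x = 0 := by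
  subst hJ
  apply AdicCompletion.ext
  intro k
  rw [AdicCompletion.val_zero_apply]
  obtain ⟨y, hy⟩ := Submodule.mkQ_surjective _ (x.val (k + 1))
  have h1 : (c • x).val (k + 1) = 0 := by rw [h]; rfl
  rw [AdicCompletion.val_smul_apply, ← hy, ← map_smul, Submodule.mkQ_apply,
    Submodule.Quotient.mk_eq_zero, smul_eq_mul, Ideal.mul_top, Ideal.span_singleton_pow,
    Ideal.mem_span_singleton'] at h1
  obtain ⟨z, hz⟩ := h1
  have hy2 : y = z * c ^ k := by
    apply mul_left_cancel₀ hc
    rw [smul_eq_mul] at hz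
    rw [← hz]; ring
  have h2 := AdicCompletion.transitionMap_comp_eval_apply (I := Ideal.span {c}) (M := S)
    (Nat.le_succ k) x
  rw [← h2, ← hy]
  show Submodule.factor _ (Submodule.mkQ _ y) = 0
  rw [Submodule.factor_mk, Submodule.mkQ_apply, Submodule.Quotient.mk_eq_zero, smul_eq_mul,
    Ideal.mul_top, Ideal.span_singleton_pow, hy2]
  exact Ideal.mul_mem_left _ _ (Ideal.mem_span_singleton_self _)

end Torsion

theorem flat_N (R : Type u) [CommRing R] [IsNoetherianRing R] (I : Ideal R) (n : ℕ) :
    Module.Flat R (RPow R I n) := by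
  have : Module.Flat (MvPolynomial (Fin n) R) (RPow R I n) :=
    AdicCompletion.flat_of_isNoetherian _
  exact Module.Flat.trans R (MvPolynomial (Fin n) R) (RPow R I n)

theorem flat_V (R : Type u) [CommRing R] [IsDomain R] [ValuationRing R] [Ring.KrullDimLE 1 R]
    (t : R) (ht : t ≠ 0) (hcomp : IsAdicComplete (Ideal.span {t}) R) (n : ℕ) :
    Module.Flat R (RPow R (Ideal.span {t}) n) := by
  -- `t` is not a unit
  have htm : t ∈ IsLocalRing.maximalIdeal R := by
    rw [IsLocalRing.mem_maximalIdeal, mem_nonunits_iff]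
    intro hu
    have htop : Ideal.span {t} = ⊤ := Ideal.span_singleton_eq_top.mpr hu
    have hH : IsHausdorff (Ideal.span {t}) R := hcomp.toIsHausdorff
    have : (1 : R) = 0 := by
      apply hH.haus
      intro k
      rw [htop, Ideal.top_pow, Submodule.top_smul]
      exact SModEq.top
    exact one_ne_zero this
  -- every nonzero element divides a power of `t`
  have hdiv : ∀ r : R, r ≠ 0 → ∃ (N : ℕ) (s : R), t ^ N = s * r := by
    intro r hr
    by_cases hru : IsUnit r
    · obtain ⟨u, rfl⟩ := hru
      exact ⟨0, ↑u⁻¹, by simp⟩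
    have hrad : t ∈ (Ideal.span {r}).radical := by
      rw [Ideal.radical_eq_sInf, Ideal.mem_sInf]
      rintro P ⟨hrP, hP⟩
      have hPne : P ≠ ⊥ := by
        intro e
        rw [e, Ideal.span_le, Set.singleton_subset_iff] at hrP
        exact hr (by simpa using hrP)
      have hPmax : P.IsMaximal := hP.isMaximal_of_ne_bot hPne
      rw [IsLocalRing.eq_maximalIdeal hPmax]
      exact htm
    obtain ⟨N, hN⟩ := hrad
    obtain ⟨s, hs⟩ := Ideal.mem_span_singleton'.mp hN
    exact ⟨N, s, hs.symm⟩
  have hCt : (MvPolynomial.C t : MvPolynomial (Fin n) R) ≠ 0 := by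
    rw [Ne, MvPolynomial.C_eq_zero]; exact ht
  have hJ : (Ideal.span {t}).map (MvPolynomial.C : R →+* MvPolynomial (Fin n) R) =
      Ideal.span {MvPolynomial.C t} := by
    rw [Ideal.map_span, Set.image_singleton]
  have hA : ∀ x : RPow R (Ideal.span {t}) n, t • x = 0 → x = 0 := by
    intro x hx
    apply eq_zero_of_smul_eq_zero _ (MvPolynomial.C t) hJ hCt x
    have e : (MvPolynomial.C t : MvPolynomial (Fin n) R) • x = t • x :=
      algebraMap_smul (MvPolynomial (Fin n) R) t x
    rw [e]
    exact hx
  have hA' : ∀ (N : ℕ) (x : RPow R (Ideal.span {t}) n), t ^ N • x = 0 → x = 0 := by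
    intro N
    induction N with
    | zero => intro x hx; simpa using hx
    | succ N ih =>
      intro x hx
      apply ih
      apply hA
      rw [← mul_smul, ← pow_succ']
      exact hx
  rw [Module.Flat.flat_iff_torsion_eq_bot_of_isBezout, eq_bot_iff]
  rintro x hx
  rw [Submodule.mem_torsion_iff] at hx
  obtain ⟨⟨r, hr⟩, hrx⟩ := hx
  rw [Submodule.mem_bot]
  obtain ⟨N, s, hs⟩ := hdiv r (nonZeroDivisors.ne_zero hr)
  apply hA' N
  rw [hs, mul_smul]
  have : r • x = 0 := hrx
  rw [this, smul_zero]

theorem main11546 (R : Type u) [CommRing R] (I : Ideal R) (hR : AdicRing.IsBase R I) (n : ℕ) :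
    Module.Flat R (AdicRing.RPow R I n) := by
  obtain ⟨hcomp, h | ⟨hdom, hpv, hdim, t, ht, rfl⟩⟩ := hR
  · have := h.1
    exact flat_N R I n
  · have := hdom
    have : ValuationRing R := { toPreValuationRing := hpv }
    have := hdim
    exact flat_V R t ht hcomp n

end Groth.Agent.Helper17.AR
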