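import Mathlib

/-!
# Vector Gröbner division for polynomial vectors (helper17)

`E A p` encodes a vector `p : Fin r → A[ζ₁..ζₙ]` as the `η`-linear polynomial
`∑ j, p j * η j` in `A[ζ, η]`.  We prove a division theorem for such vectors, a version of
Dickson's lemma, and some facts on valuation rings.
-/

set_option autoImplicit false

universe u

open MvPolynomial

namespace Groth.Agent.Helper17.AR

section Emb

variable {n r : ℕ}

/-- the exponent vector of `ζ^α η_j` -/
noncomputable def emb (j : Fin r) (α : Fin n →₀ ℕ) : (Fin n ⊕ Fin r) →₀ ℕ :=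
  α.mapDomain Sum.inl + Finsupp.single (Sum.inr j) 1

lemma emb_inr (j j' : Fin r) (α : Fin n →₀ ℕ) :
    emb j α (Sum.inr j') = if j = j' then 1 else 0 := by
  classical
  unfold emb
  rw [Finsupp.add_apply, Finsupp.mapDomain_of_notMem_range _ _ (by simp), zero_add,
    Finsupp.single_apply]
  simp only [Sum.inr.injEq]

lemma emb_inl (j : Fin r) (α : Fin n →₀ ℕ) (i : Fin n) :
    emb j α (Sum.inl i) = α i := by
  classical
  unfold emb
  rw [Finsupp.add_apply, Finsupp.mapDomain_apply Sum.inl_injective, Finsupp.single_apply]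
  simp

lemma emb_ne_zero (j : Fin r) (α : Fin n →₀ ℕ) : emb j α ≠ 0 := by
  intro h
  have := emb_inr j j α
  rw [h] at this
  simp at this

lemma emb_le_emb {j j' : Fin r} {α β : Fin n →₀ ℕ} (h : emb j' β ≤ emb j α) :
    j' = j ∧ β ≤ α := by
  constructor
  · have h1 := h (Sum.inr j')
    rw [emb_inr, emb_inr, if_pos rfl] at h1
    by_contra hne
    rw [if_neg (fun e => hne e.symm)] at h1
    exact absurd h1 (by norm_num)
  · intro i
    have h1 := h (Sum.inl i)
    rwa [emb_inl, emb_inl] at h1

lemma emb_sub {j : Fin r} {α β : Fin n →₀ ℕ} (h : β ≤ α) :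
    emb j α - emb j β = (α - β).mapDomain Sum.inl := by
  have : emb j α = (α - β).mapDomain Sum.inl + emb j β := by
    unfold emb
    rw [← add_assoc, ← Finsupp.mapDomain_add, tsub_add_cancel_of_le h]
  rw [this, add_tsub_cancel_right]

end Emb

section E

variable (A : Type u) [CommRing A] {n r : ℕ}

/-- encode a vector of polynomials as an `η`-linear polynomial -/
noncomputable def E : (Fin r → MvPolynomial (Fin n) A) →ₗ[A] MvPolynomial (Fin n ⊕ Fin r) A where
  toFun p := ∑ j, rename Sum.inl (p j) * X (Sum.inr j)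
  map_add' p q := by
    simp only [Pi.add_apply, map_add, add_mul, Finset.sum_add_distrib]
  map_smul' c p := by
    simp only [Pi.smul_apply, map_smul, smul_mul_assoc, Finset.smul_sum, RingHom.id_apply]

lemma E_apply (p : Fin r → MvPolynomial (Fin n) A) :
    E A p = ∑ j, rename Sum.inl (p j) * X (Sum.inr j) := rfl

lemma E_smul (g : MvPolynomial (Fin n) A) (p : Fin r → MvPolynomial (Fin n) A) :
    E A (g • p) = rename Sum.inl g * E A p := by
  simp only [E_apply, Pi.smul_apply, smul_eq_mul, map_mul, Finset.mul_sum, mul_assoc]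

lemma E_single (j : Fin r) (g : MvPolynomial (Fin n) A) :
    E A (Pi.single j g) = rename Sum.inl g * X (Sum.inr j) := by
  classical
  rw [E_apply, Finset.sum_eq_single j]
  · rw [Pi.single_eq_same]
  · intro j' _ hne
    rw [Pi.single_eq_of_ne hne, map_zero, zero_mul]
  · intro h; exact absurd (Finset.mem_univ j) h

lemma E_single_monomial (j : Fin r) (α : Fin n →₀ ℕ) (c : A) :
    E A (Pi.single j (monomial α c)) = monomial (emb j α) c := by
  rw [E_single, rename_monomial, X, monomial_mul, mul_one]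
  rfl

lemma coeff_E (p : Fin r → MvPolynomial (Fin n) A) (j : Fin r) (α : Fin n →₀ ℕ) :
    coeff (emb j α) (E A p) = coeff α (p j) := by
  classical
  rw [E_apply, coeff_sum, Finset.sum_eq_single j]
  · rw [coeff_mul_X', if_pos]
    · have : emb j α - Finsupp.single (Sum.inr j) 1 = α.mapDomain Sum.inl := by
        unfold emb; rw [add_tsub_cancel_right]
      rw [this, coeff_rename_mapDomain _ Sum.inl_injective]
    · rw [Finsupp.mem_support_iff, emb_inr, if_pos rfl]; exact one_ne_zero
  · intro j' _ hne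
    rw [coeff_mul_X', if_neg]
    rw [Finsupp.mem_support_iff, emb_inr, if_neg (fun e => hne e.symm)]
    simp
  · intro h; exact absurd (Finset.mem_univ j) h

lemma exists_of_mem_support_E (p : Fin r → MvPolynomial (Fin n) A)
    {μ : (Fin n ⊕ Fin r) →₀ ℕ} (hμ : μ ∈ (E A p).support) :
    ∃ j α, μ = emb j α ∧ α ∈ (p j).support := by
  classical
  rw [mem_support_iff, E_apply, coeff_sum] at hμ
  obtain ⟨j, -, hj⟩ := Finset.exists_ne_zero_of_sum_ne_zero hμ
  rw [coeff_mul_X'] at hj
  split_ifs at hj with hmem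
  · have h2 : ∃ u, Finsupp.mapDomain Sum.inl u = μ - Finsupp.single (Sum.inr j) 1 ∧
        coeff u (p j) ≠ 0 := by
      by_contra hcon
      push Not at hcon
      exact hj (coeff_rename_eq_zero _ _ _ hcon)
    obtain ⟨u, hu, hu0⟩ := h2
    refine ⟨j, u, ?_, mem_support_iff.mpr hu0⟩
    unfold emb
    rw [hu, tsub_add_cancel_of_le]
    rw [Finsupp.single_le_iff]
    exact Nat.one_le_iff_ne_zero.mpr (Finsupp.mem_support_iff.mp hmem)
  · exact absurd rfl hj

lemma E_map {B : Type u} [CommRing B] (f : A →+* B) (p : Fin r → MvPolynomial (Fin n) A) :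
    MvPolynomial.map f (E A p) = E B (fun j => MvPolynomial.map f (p j)) := by
  simp only [E_apply, map_sum, map_mul, map_X, map_rename]

lemma E_eq_zero_iff (p : Fin r → MvPolynomial (Fin n) A) : E A p = 0 ↔ p = 0 := by
  constructor
  · intro h
    funext j
    ext α
    rw [← coeff_E, h]; rfl
  · rintro rfl; exact map_zero _

end E

section Division

open scoped MonomialOrder

variable {A : Type u} [CommRing A] {n r : ℕ} (m : MonomialOrder (Fin n ⊕ Fin r))
  {κ : Type} [Fintype κ] [DecidableEq κ]

/-- Division with remainder for vectors of polynomials, by a family of vectors with unit leading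
coefficients. -/
theorem vdiv (b : κ → (Fin r → MvPolynomial (Fin n) A))
    (hb : ∀ i, IsUnit (m.leadingCoeff (E A (b i))))
    (q : Fin r → MvPolynomial (Fin n) A) :
    ∃ h : κ → MvPolynomial (Fin n) A,
      ∀ μ ∈ (E A (q - ∑ i, h i • b i)).support, ∀ i, ¬ m.degree (E A (b i)) ≤ μ := by
  classical
  suffices H : ∀ (d : m.syn) (q : Fin r → MvPolynomial (Fin n) A),
      m.toSyn (m.degree (E A q)) = d → ∃ h : κ → MvPolynomial (Fin n) A,
      ∀ μ ∈ (E A (q - ∑ i, h i • b i)).support, ∀ i, ¬ m.degree (E A (b i)) ≤ μ from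
    H _ q rfl
  intro d
  induction d using WellFoundedLT.induction with
  | ind d ih =>
  intro q hq
  by_cases hq0 : E A q = 0
  · refine ⟨0, ?_⟩
    intro μ hμ
    simp only [Pi.zero_apply, zero_smul, Finset.sum_const_zero, sub_zero, hq0, support_zero,
      Finset.notMem_empty] at hμ
  have hnt : Nontrivial A := by
    by_contra hcon
    rw [not_nontrivial_iff_subsingleton] at hcon
    exact hq0 (Subsingleton.elim _ _)
  have hdeg := m.degree_mem_support hq0
  obtain ⟨j, α, hμ0, hα⟩ := exists_of_mem_support_E A q hdeg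
  have hdeg0 : m.degree (E A q) ≠ 0 := by rw [hμ0]; exact emb_ne_zero j α
  by_cases hex : ∃ i, m.degree (E A (b i)) ≤ m.degree (E A q)
  · obtain ⟨i, hi⟩ := hex
    have hbi0 : E A (b i) ≠ 0 := by
      intro h0
      have := hb i
      rw [h0, MonomialOrder.leadingCoeff_zero] at this
      exact not_isUnit_zero this
    obtain ⟨j', β, hβ0, -⟩ := exists_of_mem_support_E A (b i) (m.degree_mem_support hbi0)
    rw [hμ0, hβ0] at hi
    obtain ⟨rfl, hβα⟩ := emb_le_emb hi
    set c : A := ((hb i).unit⁻¹ : Aˣ) * m.leadingCoeff (E A q) with hc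
    set q' : Fin r → MvPolynomial (Fin n) A := q - monomial (α - β) c • b i with hq'
    have hE : E A q' = m.reduce (hb i) (E A q) := by
      rw [hq', map_sub, E_smul, rename_monomial, MonomialOrder.reduce, hμ0, hβ0, emb_sub hβα]
    have hlt : m.toSyn (m.degree (E A q')) < d := by
      rw [hE, ← hq]
      apply MonomialOrder.degree_reduce_lt (hb i) _ hdeg0
      rw [hμ0, hβ0]; exact hi
    obtain ⟨h', hh'⟩ := ih _ hlt q' rfl
    refine ⟨fun l => h' l + (Pi.single i (monomial (α - β) c) : κ → MvPolynomial (Fin n) A) l, ?_⟩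
    have e : q - ∑ l, (h' l + (Pi.single i (monomial (α - β) c) : κ → MvPolynomial (Fin n) A) l) •
        b l = q' - ∑ l, h' l • b l := by
      simp only [add_smul, Finset.sum_add_distrib]
      have hs : ∑ l, (Pi.single i (monomial (α - β) c) : κ → MvPolynomial (Fin n) A) l • b l =
          monomial (α - β) c • b i := by
        rw [Finset.sum_eq_single i]
        · rw [Pi.single_eq_same]
        · intro l _ hl
          rw [Pi.single_eq_of_ne hl, zero_smul]
        · intro h; exact absurd (Finset.mem_univ i) h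
      rw [hs, hq']; abel
    rw [e]
    exact hh'
  · push Not at hex
    set c₀ : A := m.leadingCoeff (E A q) with hc₀
    set q' : Fin r → MvPolynomial (Fin n) A := q - Pi.single j (monomial α c₀) with hq'
    have hE : E A q' = m.subLTerm (E A q) := by
      rw [hq', map_sub, E_single_monomial, MonomialOrder.subLTerm, hμ0]
    have hlt : m.toSyn (m.degree (E A q')) < d := by
      rw [hE, ← hq]
      exact MonomialOrder.degree_sub_LTerm_lt hdeg0
    obtain ⟨h', hh'⟩ := ih _ hlt q' rfl
    refine ⟨h', ?_⟩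
    intro μ hμ i
    have e : q - ∑ l, h' l • b l = (q' - ∑ l, h' l • b l) + Pi.single j (monomial α c₀) := by
      rw [hq']; abel
    rw [e, map_add, E_single_monomial] at hμ
    have := MvPolynomial.support_add hμ
    rw [Finset.mem_union] at this
    rcases this with h1 | h1
    · exact hh' μ h1 i
    · have h2 := support_monomial_subset h1
      rw [Finset.mem_singleton] at h2
      rw [h2, ← hμ0]
      exact hex i

end Division

section Dickson

/-- A version of Dickson's lemma: every set of exponent vectors is generated, as an upper set, by a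
finite subset. -/
theorem dickson {σ : Type*} [Finite σ] (Δ : Set (σ →₀ ℕ)) :
    ∃ Δ₀ : Finset (σ →₀ ℕ), (↑Δ₀ : Set (σ →₀ ℕ)) ⊆ Δ ∧ ∀ δ ∈ Δ, ∃ δ₀ ∈ Δ₀, δ₀ ≤ δ := by
  classical
  have hfg : (Ideal.span ((fun s => monomial s (1 : ℚ)) '' Δ) : Ideal (MvPolynomial σ ℚ)).FG :=
    IsNoetherian.noetherian _
  obtain ⟨s', hs', hspan⟩ := (Submodule.fg_span_iff_fg_span_finset_subset _).mp hfg
  obtain ⟨Δ₀, hΔ₀, rfl⟩ := Finset.subset_set_image_iff.mp hs'
  refine ⟨Δ₀, hΔ₀, ?_⟩
  intro δ hδ
  have hmem : monomial δ (1 : ℚ) ∈ Ideal.span ((fun s => monomial s (1 : ℚ)) '' Δ) :=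
    Ideal.subset_span ⟨δ, hδ, rfl⟩
  have hmem' : monomial δ (1 : ℚ) ∈
      Ideal.span ((fun s => monomial s (1 : ℚ)) '' (↑Δ₀ : Set (σ →₀ ℕ))) := by
    have : (Ideal.span ((fun s => monomial s (1 : ℚ)) '' Δ) : Ideal (MvPolynomial σ ℚ)) =
        Ideal.span ((fun s => monomial s (1 : ℚ)) '' (↑Δ₀ : Set (σ →₀ ℕ))) := by
      rw [← Finset.coe_image]; exact hspan
    rw [← this]; exact hmem
  rw [mem_ideal_span_monomial_image] at hmem'
  obtain ⟨δ₀, h1, h2⟩ := hmem' δ (by rw [mem_support_iff, coeff_monomial, if_pos rfl]; norm_num)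
  exact ⟨δ₀, h1, h2⟩

end Dickson

section Valuation

variable {R : Type u} [CommRing R] [IsDomain R] [ValuationRing R]

/-- Choosing a small `ε`: a nonzero nonunit dividing `t` and finitely many given nonzero
nonunits. -/
theorem exists_eps (t : R) (ht0 : t ≠ 0) (htu : ¬ IsUnit t) (S : Finset R)
    (hS : ∀ c ∈ S, c ≠ 0 ∧ ¬ IsUnit c) :
    ∃ ε : R, ε ≠ 0 ∧ ¬ IsUnit ε ∧ ε ∣ t ∧ ∀ c ∈ S, ε ∣ c := by
  classical
  induction S using Finset.induction_on with
  | empty => exact ⟨t, ht0, htu, dvd_refl t, by simp⟩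
  | insert a S ha ih =>
    obtain ⟨ε, h0, hu, ht, hS'⟩ := ih (fun c hc => hS c (Finset.mem_insert_of_mem hc))
    rcases ValuationRing.dvd_total ε a with h | h
    · refine ⟨ε, h0, hu, ht, ?_⟩
      intro c hc
      rcases Finset.mem_insert.mp hc with rfl | hc
      · exact h
      · exact hS' c hc
    · obtain ⟨ha0, hau⟩ := hS a (Finset.mem_insert_self a S)
      refine ⟨a, ha0, hau, h.trans ht, ?_⟩
      intro c hc
      rcases Finset.mem_insert.mp hc with rfl | hc
      · exact dvd_refl _
      · exact h.trans (hS' c hc)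

/-- In a valuation ring, a nonempty finite set has an element dividing all the others. -/
theorem exists_dvd_all (S : Finset R) (hS : S.Nonempty) : ∃ c ∈ S, ∀ a ∈ S, c ∣ a := by
  classical
  induction hS using Finset.Nonempty.cons_induction with
  | singleton a => exact ⟨a, Finset.mem_singleton_self a, fun b hb => by
      rw [Finset.mem_singleton.mp hb]⟩
  | cons a S ha hS ih =>
    obtain ⟨c, hc, hcS⟩ := ih
    rcases ValuationRing.dvd_total c a with h | h
    · refine ⟨c, Finset.mem_cons.mpr (Or.inr hc), ?_⟩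
      intro b hb
      rcases Finset.mem_cons.mp hb with rfl | hb
      · exact h
      · exact hcS b hb
    · refine ⟨a, Finset.mem_cons_self a S, ?_⟩
      intro b hb
      rcases Finset.mem_cons.mp hb with rfl | hb
      · exact dvd_refl _
      · exact h.trans (hcS b hb)

/-- The content of a nonzero vector of polynomials over a valuation ring. -/
theorem exists_content {n r : ℕ} (p : Fin r → MvPolynomial (Fin n) R) (hp : p ≠ 0) :
    ∃ (c : R) (p' : Fin r → MvPolynomial (Fin n) R) (j₀ : Fin r) (α₀ : Fin n →₀ ℕ),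
      c ≠ 0 ∧ (∀ j, p j = C c * p' j) ∧ coeff α₀ (p' j₀) = 1 := by
  classical
  set S : Finset R := Finset.univ.biUnion (fun j => (p j).support.image (fun α => coeff α (p j)))
    with hSdef
  have hSmem : ∀ j α, coeff α (p j) ≠ 0 → coeff α (p j) ∈ S := by
    intro j α h
    rw [hSdef, Finset.mem_biUnion]
    exact ⟨j, Finset.mem_univ j, Finset.mem_image.mpr ⟨α, mem_support_iff.mpr h, rfl⟩⟩
  have hSne : S.Nonempty := by
    by_contra hcon
    rw [Finset.not_nonempty_iff_eq_empty] at hcon
    apply hp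
    funext j
    ext α
    by_contra h
    have := hSmem j α h
    rw [hcon] at this
    exact absurd this (Finset.notMem_empty _)
  obtain ⟨c, hcS, hc⟩ := exists_dvd_all S hSne
  rw [hSdef, Finset.mem_biUnion] at hcS
  obtain ⟨j₀, -, hcj⟩ := hcS
  obtain ⟨α₀, hα₀, rfl⟩ := Finset.mem_image.mp hcj
  have hc0 : coeff α₀ (p j₀) ≠ 0 := mem_support_iff.mp hα₀
  have hdvd : ∀ j, C (coeff α₀ (p j₀)) ∣ p j := by
    intro j
    rw [C_dvd_iff_dvd_coeff]
    intro α
    by_cases h : coeff α (p j) = 0
    · rw [h]; exact dvd_zero _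
    · exact hc _ (hSmem j α h)
  choose p' hp' using hdvd
  refine ⟨coeff α₀ (p j₀), p', j₀, α₀, hc0, hp', ?_⟩
  have := congrArg (coeff α₀) (hp' j₀)
  rw [coeff_C_mul] at this
  exact mul_left_cancel₀ hc0 (by rw [mul_one]; exact this.symm)

end Valuation

section UnitPart

variable {A : Type u} [CommRing A] {σ : Type*}

/-- the part of a polynomial consisting of the terms with unit coefficients -/
noncomputable def unitPart (q : MvPolynomial σ A) : MvPolynomial σ A := by
  classical
  exact ∑ μ ∈ q.support.filter (fun μ => IsUnit (coeff μ q)), monomial μ (coeff μ q)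

lemma coeff_unitPart_of_isUnit (q : MvPolynomial σ A) (μ : σ →₀ ℕ) (h : IsUnit (coeff μ q)) :
    coeff μ (unitPart q) = coeff μ q := by
  classical
  unfold unitPart
  rw [coeff_sum]
  simp only [coeff_monomial]
  rw [Finset.sum_ite_eq']
  by_cases h0 : coeff μ q = 0
  · rw [h0]; split_ifs <;> rfl
  · rw [if_pos]
    rw [Finset.mem_filter, mem_support_iff]
    exact ⟨h0, h⟩

lemma coeff_unitPart_of_not (q : MvPolynomial σ A) (μ : σ →₀ ℕ) (h : ¬ IsUnit (coeff μ q)) :
    coeff μ (unitPart q) = 0 := by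
  classical
  unfold unitPart
  rw [coeff_sum]
  simp only [coeff_monomial]
  rw [Finset.sum_ite_eq', if_neg]
  rw [Finset.mem_filter]
  exact fun hh => h hh.2

end UnitPart

section Local

variable {R : Type u} [CommRing R] [IsLocalRing R] {σ : Type*}

lemma unitPart_units (q : MvPolynomial σ R) (μ : σ →₀ ℕ) :
    coeff μ (unitPart q) = 0 ∨ IsUnit (coeff μ (unitPart q)) := by
  by_cases h : IsUnit (coeff μ q)
  · right; rw [coeff_unitPart_of_isUnit q μ h]; exact h
  · left; exact coeff_unitPart_of_not q μ h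

lemma residue_eq_zero_of_not_isUnit {c : R} (h : ¬ IsUnit c) : IsLocalRing.residue R c = 0 := by
  rwa [IsLocalRing.residue_eq_zero_iff, IsLocalRing.mem_maximalIdeal, mem_nonunits_iff]

lemma residue_ne_zero_of_isUnit {c : R} (h : IsUnit c) : IsLocalRing.residue R c ≠ 0 := by
  intro h0
  rw [IsLocalRing.residue_eq_zero_iff, IsLocalRing.mem_maximalIdeal, mem_nonunits_iff] at h0
  exact h0 h

lemma map_residue_unitPart (q : MvPolynomial σ R) :
    MvPolynomial.map (IsLocalRing.residue R) (unitPart q) =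
      MvPolynomial.map (IsLocalRing.residue R) q := by
  ext μ
  rw [coeff_map, coeff_map]
  by_cases h : IsUnit (coeff μ q)
  · rw [coeff_unitPart_of_isUnit q μ h]
  · rw [coeff_unitPart_of_not q μ h, map_zero, residue_eq_zero_of_not_isUnit h]

lemma support_map_residue_of_units (q : MvPolynomial σ R)
    (hq : ∀ μ, coeff μ q = 0 ∨ IsUnit (coeff μ q)) :
    (MvPolynomial.map (IsLocalRing.residue R) q).support = q.support := by
  ext μ
  rw [mem_support_iff, mem_support_iff, coeff_map]
  rcases hq μ with h | h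
  · rw [h, map_zero]; exact ⟨fun hh => absurd rfl hh, fun hh => absurd rfl hh⟩
  · constructor
    · intro _ h0; rw [h0] at h; exact not_isUnit_zero h
    · intro _; exact residue_ne_zero_of_isUnit h

lemma degree_map_residue_of_units (m : MonomialOrder σ) (q : MvPolynomial σ R)
    (hq : ∀ μ, coeff μ q = 0 ∨ IsUnit (coeff μ q)) :
    m.degree (MvPolynomial.map (IsLocalRing.residue R) q) = m.degree q := by
  unfold MonomialOrder.degree
  rw [support_map_residue_of_units q hq]

lemma isUnit_leadingCoeff_of_units (m : MonomialOrder σ) (q : MvPolynomial σ R)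
    (hq : ∀ μ, coeff μ q = 0 ∨ IsUnit (coeff μ q)) (h0 : q ≠ 0) :
    IsUnit (m.leadingCoeff q) := by
  rcases hq (m.degree q) with h | h
  · exact absurd h (m.coeff_degree_ne_zero_iff.mpr h0)
  · exact h

lemma C_dvd_sub_unitPart (q : MvPolynomial σ R) (ε : R)
    (hε : ∀ μ, coeff μ q ≠ 0 → ¬ IsUnit (coeff μ q) → ε ∣ coeff μ q) :
    C ε ∣ q - unitPart q := by
  rw [C_dvd_iff_dvd_coeff]
  intro μ
  rw [coeff_sub]
  by_cases h : IsUnit (coeff μ q)
  · rw [coeff_unitPart_of_isUnit q μ h, sub_self]; exact dvd_zero _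
  · rw [coeff_unitPart_of_not q μ h, sub_zero]
    by_cases h0 : coeff μ q = 0
    · rw [h0]; exact dvd_zero _
    · exact hε μ h0 h

end Local

section EUnits

variable {A : Type u} [CommRing A] {n r : ℕ}

lemma E_units (p : Fin r → MvPolynomial (Fin n) A)
    (hp : ∀ j α, coeff α (p j) = 0 ∨ IsUnit (coeff α (p j))) (μ : (Fin n ⊕ Fin r) →₀ ℕ) :
    coeff μ (E A p) = 0 ∨ IsUnit (coeff μ (E A p)) := by
  by_cases h : μ ∈ (E A p).support
  · obtain ⟨j, α, rfl, -⟩ := exists_of_mem_support_E A p h
    rw [coeff_E]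
    exact hp j α
  · left
    rwa [mem_support_iff, not_not] at h

end EUnits

end Groth.Agent.Helper17.AR
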