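import Mathlib
import Groth.Agent.Lib.Helper17.AR2

/-!
# Saturated submodules of `T^r` are finitely generated (abstract core, class (V)) (helper17)
-/

set_option autoImplicit false

universe u

open MvPolynomial

namespace Groth.Agent.Helper17.AR

/-- The abstract interface to the ring of restricted power series over a complete valuation ring
of height one. -/
structure VSetup (R : Type u) [CommRing R] [IsDomain R] [ValuationRing R] (t : R) (n : ℕ)
    (T : Type u) [CommRing T] [Algebra R T] where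
  ι : MvPolynomial (Fin n) R →ₐ[R] T
  πk : T →+* MvPolynomial (Fin n) (IsLocalRing.ResidueField R)
  ht0 : t ≠ 0
  htu : ¬ IsUnit t
  hrad : ∀ a b : R, a ≠ 0 → ¬ IsUnit b → ∃ (e : ℕ) (s : R), b ^ e = s * a
  hπ : ∀ p, πk (ι p) = MvPolynomial.map (IsLocalRing.residue R) p
  hT3 : ∀ x : T, ∃ p w, x = ι p + t • w
  hT4 : ∀ p (w : T), ι p = t • w → C t ∣ p
  hT5a : ∀ f : ℕ → T, (∀ j, ∃ z, f (j + 1) - f j = t ^ j • z) →
    ∃ L, ∀ j, ∃ z, f j - L = t ^ j • z
  hT5b : ∀ x : T, (∀ j, ∃ z, x = t ^ j • z) → x = 0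

section

variable {R : Type u} [CommRing R] [IsDomain R] [ValuationRing R] {t : R} {n : ℕ}
  {T : Type u} [CommRing T] [Algebra R T] (V : VSetup R t n T)

lemma VSetup.ι_C (c : R) : V.ι (C c) = algebraMap R T c := by
  rw [← MvPolynomial.algebraMap_eq, AlgHom.commutes]

lemma VSetup.ι_C_mul (c : R) (p : MvPolynomial (Fin n) R) : V.ι (C c * p) = c • V.ι p := by
  rw [map_mul, V.ι_C, Algebra.smul_def]

lemma VSetup.πk_smul (d : R) (hd : ¬ IsUnit d) (w : T) : V.πk (d • w) = 0 := by
  rw [Algebra.smul_def, map_mul, ← V.ι_C, V.hπ, map_C, residue_eq_zero_of_not_isUnit hd, map_zero,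
    zero_mul]

lemma VSetup.exists_rep {ε d : R} (hd : ε * d = t) {r : ℕ} (x : Fin r → T) :
    ∃ (p : Fin r → MvPolynomial (Fin n) R) (w : Fin r → T),
      x = (fun j => V.ι (p j)) + ε • w := by
  have := fun j => V.hT3 (x j)
  choose p w h using this
  refine ⟨p, fun j => d • w j, ?_⟩
  funext j
  rw [Pi.add_apply, Pi.smul_apply, h j]
  congr 1
  rw [← mul_smul, hd]

lemma VSetup.C_dvd_of_eq {ε d : R} (hd : ε * d = t) (p : MvPolynomial (Fin n) R) (w : T)
    (h : V.ι p = ε • w) : C ε ∣ p := by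
  have hd0 : d ≠ 0 := by
    rintro rfl
    rw [mul_zero] at hd
    exact V.ht0 hd.symm
  have h1 : V.ι (C d * p) = t • w := by
    rw [V.ι_C_mul, h, ← mul_smul, mul_comm, hd]
  obtain ⟨p', hp'⟩ := V.hT4 _ _ h1
  refine ⟨p', ?_⟩
  have hCd : (C d : MvPolynomial (Fin n) R) ≠ 0 := by
    rw [Ne, C_eq_zero]; exact hd0
  apply mul_left_cancel₀ hCd
  rw [hp', ← hd, C_mul]; ring

variable {r : ℕ} (N : Submodule T (Fin r → T)) (hsat : ∀ x, t • x ∈ N → x ∈ N)

include hsat in
lemma VSetup.sat_pow (e : ℕ) (x : Fin r → T) (h : t ^ e • x ∈ N) : x ∈ N := by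
  induction e with
  | zero => simpa using h
  | succ e ih =>
    apply ih
    apply hsat
    rw [← mul_smul, ← pow_succ']
    exact h

include hsat V in
lemma VSetup.sat_gen {c : R} (hc : c ≠ 0) (x : Fin r → T) (h : c • x ∈ N) : x ∈ N := by
  obtain ⟨e, s, hes⟩ := V.hrad c t hc V.htu
  apply VSetup.sat_pow N hsat e
  rw [hes, mul_smul]
  exact N.smul_of_tower_mem s h

end

section Key

variable {R : Type u} [CommRing R] [IsDomain R] [ValuationRing R] {t : R} {n : ℕ}
  {T : Type u} [CommRing T] [Algebra R T] (V : VSetup R t n T)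
  {r : ℕ} (N : Submodule T (Fin r → T)) (hsat : ∀ x, t • x ∈ N → x ∈ N)

/-- reduction of a vector to the residue field, encoded as an `η`-linear polynomial -/
noncomputable def VSetup.redE (x : Fin r → T) :
    MvPolynomial (Fin n ⊕ Fin r) (IsLocalRing.ResidueField R) :=
  E (IsLocalRing.ResidueField R) (fun j => V.πk (x j))

lemma VSetup.redE_eq {d : R} (hd : ¬ IsUnit d) (p : Fin r → MvPolynomial (Fin n) R)
    (w : Fin r → T) :
    V.redE ((fun j => V.ι (p j)) + d • w) =
      MvPolynomial.map (IsLocalRing.residue R) (E R p) := by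
  rw [E_map]
  unfold VSetup.redE
  congr 1
  funext j
  rw [Pi.add_apply, Pi.smul_apply, map_add, V.πk_smul d hd, add_zero, V.hπ]

include hsat V in
/-- The key step: there are finitely many elements of `N` and a nonzero nonunit `ε` such that
`N ≤ span + ε • N`. -/
theorem VSetup.key : ∃ (κ : Type) (_ : Fintype κ) (x : κ → (Fin r → T)) (ε : R),
    (∀ i, x i ∈ N) ∧ ε ≠ 0 ∧ ¬ IsUnit ε ∧
    ∀ y ∈ N, ∃ (a : κ → T) (y' : Fin r → T), y' ∈ N ∧ y = ∑ i, a i • x i + ε • y' := by
  classical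
  obtain ⟨m⟩ : Nonempty (MonomialOrder (Fin n ⊕ Fin r)) := by
    let lo : LinearOrder (Fin n ⊕ Fin r) :=
      LinearOrder.lift' (finSumFinEquiv : Fin n ⊕ Fin r ≃ Fin (n + r)) finSumFinEquiv.injective
    have wf : @WellFoundedGT (Fin n ⊕ Fin r) lo.toLT :=
      @Finite.to_wellFoundedGT (Fin n ⊕ Fin r) _
        (@PartialOrder.toPreorder _ (@LinearOrder.toPartialOrder _ lo))
    exact ⟨@MonomialOrder.lex (Fin n ⊕ Fin r) lo wf⟩
  -- Step 1 : a Gröbner basis of the reduction
  obtain ⟨Δ₀, hΔ₀, hgen⟩ := dickson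
    {δ | ∃ x ∈ N, V.redE x ≠ 0 ∧ m.degree (V.redE x) = δ}
  have hx : ∀ i : Δ₀, ∃ x ∈ N, V.redE x ≠ 0 ∧ m.degree (V.redE x) = i.1 := fun i => hΔ₀ i.2
  choose x hxN hx0 hxd using hx
  -- Step 2 : representatives
  have hrep := fun i => V.exists_rep (ε := t) (d := 1) (mul_one t) (x i)
  choose p₀ w₀ hp₀ using hrep
  set S : Finset R := Finset.univ.biUnion fun i : Δ₀ => Finset.univ.biUnion fun j : Fin r =>
    ((p₀ i j).support.image (fun α => coeff α (p₀ i j))).filter (fun c => ¬ IsUnit c) with hSdef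
  have hS : ∀ c ∈ S, c ≠ 0 ∧ ¬ IsUnit c := by
    intro c hc
    rw [hSdef] at hc
    simp only [Finset.mem_biUnion, Finset.mem_univ, true_and, Finset.mem_filter,
      Finset.mem_image] at hc
    obtain ⟨i, j, ⟨α, hα, rfl⟩, hu⟩ := hc
    exact ⟨mem_support_iff.mp hα, hu⟩
  obtain ⟨ε, hε0, hεu, ⟨d, hd⟩, hεS⟩ := exists_eps t V.ht0 V.htu S hS
  have hεcoef : ∀ i j μ, coeff μ (p₀ i j) ≠ 0 → ¬ IsUnit (coeff μ (p₀ i j)) →
      ε ∣ coeff μ (p₀ i j) := by
    intro i j μ h0 hu
    apply hεS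
    rw [hSdef]
    simp only [Finset.mem_biUnion, Finset.mem_univ, true_and, Finset.mem_filter,
      Finset.mem_image]
    exact ⟨i, j, ⟨μ, mem_support_iff.mpr h0, rfl⟩, hu⟩
  have hdvd := fun i j => C_dvd_sub_unitPart (p₀ i j) ε (hεcoef i j)
  choose u hu using hdvd
  have hxrep : ∀ i, x i = (fun j => V.ι (unitPart (p₀ i j))) +
      ε • (fun j => V.ι (u i j) + d • w₀ i j) := by
    intro i
    funext j
    have h1 := congrFun (hp₀ i) j
    rw [Pi.add_apply, Pi.smul_apply] at h1
    rw [Pi.add_apply, Pi.smul_apply, h1]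
    have h2 : p₀ i j = unitPart (p₀ i j) + C ε * u i j := by rw [← hu i j]; ring
    conv_lhs => rw [h2]
    rw [map_add, V.ι_C_mul, smul_add, ← mul_smul, add_assoc]
    exact congrArg (fun c => V.ι (unitPart (p₀ i j)) + (ε • V.ι (u i j) + c • w₀ i j)) hd
  have hred : ∀ i, V.redE (x i) =
      MvPolynomial.map (IsLocalRing.residue R) (E R (fun j => unitPart (p₀ i j))) := by
    intro i
    rw [hxrep i]
    exact V.redE_eq hεu _ _
  have hunits : ∀ i μ, coeff μ (E R (fun j => unitPart (p₀ i j))) = 0 ∨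
      IsUnit (coeff μ (E R (fun j => unitPart (p₀ i j)))) :=
    fun i => E_units _ (fun j α => unitPart_units (p₀ i j) α)
  have hdegp : ∀ i : Δ₀, m.degree (E R (fun j => unitPart (p₀ i j))) = i.1 := by
    intro i
    rw [← degree_map_residue_of_units m _ (hunits i), ← hred i, hxd i]
  have hlc : ∀ i, IsUnit (m.leadingCoeff (E R (fun j => unitPart (p₀ i j)))) := by
    intro i
    apply isUnit_leadingCoeff_of_units m _ (hunits i)
    intro h0
    apply hx0 i
    rw [hred i, h0, map_zero]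
  refine ⟨Δ₀, inferInstance, x, ε, hxN, hε0, hεu, ?_⟩
  -- Step 3
  intro y hy
  obtain ⟨q, wq, hq⟩ := V.exists_rep hd.symm y
  obtain ⟨h, hrem⟩ := vdiv m (fun i : Δ₀ => fun j => unitPart (p₀ i j)) hlc q
  set ρ : Fin r → MvPolynomial (Fin n) R :=
    q - ∑ i, h i • (fun j => unitPart (p₀ i j)) with hρ
  set z : Fin r → T := y - ∑ i, V.ι (h i) • x i with hz
  have hzN : z ∈ N :=
    N.sub_mem hy (N.sum_mem fun i _ => N.smul_mem _ (hxN i))
  set w' : Fin r → T := wq - ∑ i, V.ι (h i) • (fun j => V.ι (u i j) + d • w₀ i j) with hw'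
  have hzrep : z = (fun j => V.ι (ρ j)) + ε • w' := by
    funext j
    have hy1 := congrFun hq j
    rw [Pi.add_apply, Pi.smul_apply] at hy1
    have hx1 : ∀ i, x i j = V.ι (unitPart (p₀ i j)) + ε • (V.ι (u i j) + d • w₀ i j) := by
      intro i
      have := congrFun (hxrep i) j
      rwa [Pi.add_apply, Pi.smul_apply] at this
    simp only [hz, hρ, hw', Pi.add_apply, Pi.sub_apply, Pi.smul_apply, Finset.sum_apply,
      smul_eq_mul, map_sub, map_sum, map_mul, hy1, hx1, mul_add, Finset.sum_add_distrib,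
      smul_sub, Finset.smul_sum, mul_smul_comm]
    abel
  suffices hz' : ∃ z' ∈ N, z = ε • z' by
    obtain ⟨z', hz'N, hz'⟩ := hz'
    refine ⟨fun i => V.ι (h i), z', hz'N, ?_⟩
    rw [← hz', hz]; abel
  by_cases hdiv : ∀ j, C ε ∣ ρ j
  · choose ρ' hρ' using hdiv
    refine ⟨(fun j => V.ι (ρ' j)) + w', ?_, ?_⟩
    · apply V.sat_gen N hsat hε0
      have : ε • ((fun j => V.ι (ρ' j)) + w') = z := by
        rw [hzrep, smul_add]
        congr 1
        funext j
        rw [Pi.smul_apply, hρ' j, V.ι_C_mul]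
      rw [this]; exact hzN
    · rw [hzrep, smul_add]
      congr 1
      funext j
      rw [Pi.smul_apply, hρ' j, V.ι_C_mul]
  · exfalso
    push Not at hdiv
    obtain ⟨j₁, hj₁⟩ := hdiv
    have hρ0 : ρ ≠ 0 := by
      intro h0
      apply hj₁
      rw [h0]; exact dvd_zero _
    obtain ⟨c, ρ', j₀, α₀, hc0, hρ', h1⟩ := exists_content ρ hρ0
    have hnd : ¬ ε ∣ c := by
      intro hdvd
      apply hj₁
      rw [hρ' j₁]
      exact Dvd.dvd.mul_right (map_dvd C hdvd) _
    obtain ⟨d', hd'⟩ : c ∣ ε := (ValuationRing.dvd_total c ε).resolve_right hnd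
    have hd'u : ¬ IsUnit d' := by
      intro hu
      apply hnd
      obtain ⟨v, rfl⟩ := hu
      exact ⟨↑v⁻¹, by rw [hd']; simp [mul_assoc]⟩
    set z'' : Fin r → T := (fun j => V.ι (ρ' j)) + d' • w' with hz''
    have hcz : c • z'' = z := by
      rw [hzrep, hz'', smul_add, ← mul_smul, ← hd']
      congr 1
      funext j
      rw [Pi.smul_apply, hρ' j, V.ι_C_mul]
    have hz''N : z'' ∈ N := V.sat_gen N hsat hc0 z'' (by rw [hcz]; exact hzN)
    have hredz : V.redE z'' = MvPolynomial.map (IsLocalRing.residue R) (E R ρ') :=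
      V.redE_eq hd'u _ _
    have hne : V.redE z'' ≠ 0 := by
      intro h0
      have h2 := congrArg (coeff (emb j₀ α₀)) h0
      rw [hredz, coeff_map, coeff_E, h1, map_one, coeff_zero] at h2
      exact one_ne_zero h2
    obtain ⟨δ₀, hδ₀, hle⟩ := hgen (m.degree (V.redE z'')) ⟨z'', hz''N, hne, rfl⟩
    have hmem := m.degree_mem_support hne
    generalize m.degree (V.redE z'') = δ at hle hmem
    rw [mem_support_iff, hredz, coeff_map] at hmem
    have hmem' : coeff δ (E R ρ') ≠ 0 := by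
      intro h0
      rw [h0, map_zero] at hmem
      exact hmem rfl
    have hEρ : E R ρ = C c * E R ρ' := by
      have : ρ = (C c : MvPolynomial (Fin n) R) • ρ' := by
        funext j
        rw [Pi.smul_apply, smul_eq_mul, hρ' j]
      rw [this, E_smul, rename_C]
    have hsupp : δ ∈ (E R ρ).support := by
      rw [mem_support_iff, hEρ, coeff_C_mul]
      exact mul_ne_zero hc0 hmem'
    have := hrem _ hsupp ⟨δ₀, hδ₀⟩
    rw [hdegp ⟨δ₀, hδ₀⟩] at this
    exact this hle

end Key

section Final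

variable {R : Type u} [CommRing R] [IsDomain R] [ValuationRing R] {t : R} {n : ℕ}
  {T : Type u} [CommRing T] [Algebra R T] (V : VSetup R t n T)
  {r : ℕ} (N : Submodule T (Fin r → T)) (hsat : ∀ x, t • x ∈ N → x ∈ N)

include hsat V in
/-- **Core theorem, class (V)**: a saturated submodule of `T^r` is finitely generated. -/
theorem VSetup.fg_of_saturated : N.FG := by
  classical
  obtain ⟨κ, _, x, ε, hxN, hε0, hεu, hkey⟩ := V.key N hsat
  -- powers of ε
  have hpow : ∀ e : ℕ, ∀ y ∈ N, ∃ (a : κ → T) (y' : Fin r → T), y' ∈ N ∧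
      y = ∑ i, a i • x i + ε ^ e • y' := by
    intro e
    induction e with
    | zero =>
      intro y hy
      exact ⟨0, y, hy, by simp⟩
    | succ e ih =>
      intro y hy
      obtain ⟨a, y', hy', h1⟩ := ih y hy
      obtain ⟨a', y'', hy'', h2⟩ := hkey y' hy'
      refine ⟨fun i => a i + ε ^ e • a' i, y'', hy'', ?_⟩
      rw [h1, h2, smul_add, Finset.smul_sum, ← add_assoc, ← Finset.sum_add_distrib, pow_succ,
        mul_smul]
      congr 1
      apply Finset.sum_congr rfl
      intro i _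
      rw [add_smul, smul_assoc]
  -- pass to `t`
  obtain ⟨e, s, hes⟩ := V.hrad t ε V.ht0 hεu
  have hkt : ∀ y : N, ∃ (a : κ → T) (y' : N),
      (y : Fin r → T) = ∑ i, a i • x i + t • (y' : Fin r → T) := by
    intro y
    obtain ⟨a, y', hy', h1⟩ := hpow e y.1 y.2
    refine ⟨a, ⟨s • y', N.smul_of_tower_mem s hy'⟩, ?_⟩
    rw [h1, hes, mul_comm, mul_smul]
  choose a nxt hstep using hkt
  -- it suffices to show `N ≤ span (range x)`
  suffices hle : N ≤ Submodule.span T (Set.range x) by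
    have heq : N = Submodule.span T (Set.range x) :=
      le_antisymm hle (Submodule.span_le.mpr (by rintro _ ⟨i, rfl⟩; exact hxN i))
    rw [heq]
    exact Submodule.fg_span (Set.finite_range x)
  intro y₀ hy₀
  set seq : ℕ → N := fun j => nxt^[j] ⟨y₀, hy₀⟩ with hseq
  set S : ℕ → κ → T := fun J i => ∑ j ∈ Finset.range J, t ^ j • a (seq j) i with hS
  have hSrec : ∀ J, y₀ = ∑ i, S J i • x i + t ^ J • ((seq J : N) : Fin r → T) := by
    intro J
    induction J with
    | zero => simp [hS, hseq]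
    | succ J ih =>
      have h1 : ((seq J : N) : Fin r → T) =
          ∑ i, a (seq J) i • x i + t • ((seq (J + 1) : N) : Fin r → T) := by
        have := hstep (seq J)
        rw [this]
        simp only [hseq, Function.iterate_succ_apply']
      have h2 : ∀ i, S (J + 1) i = S J i + t ^ J • a (seq J) i := by
        intro i
        simp only [hS, Finset.sum_range_succ]
      conv_lhs => rw [ih, h1]
      simp only [h2, add_smul, Finset.sum_add_distrib, smul_add, Finset.smul_sum, pow_succ,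
        mul_smul, smul_assoc]
      abel
  have hcauchy : ∀ i, ∃ L, ∀ j, ∃ z, S j i - L = t ^ j • z := by
    intro i
    apply V.hT5a (fun J => S J i)
    intro j
    refine ⟨a (seq j) i, ?_⟩
    simp only [hS, Finset.sum_range_succ, add_sub_cancel_left]
  choose L hL using hcauchy
  choose zz hzz using hL
  have hy₀ : y₀ = ∑ i, L i • x i := by
    funext j'
    apply sub_eq_zero.mp
    apply V.hT5b
    intro J
    refine ⟨∑ i, zz i J * x i j' + ((seq J : N) : Fin r → T) j', ?_⟩
    have h1 := congrFun (hSrec J) j'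
    have h3 : ∀ i, S J i = L i + t ^ J • zz i J := fun i => by rw [← hzz i J]; abel
    rw [h1]
    simp only [Pi.add_apply, Finset.sum_apply, Pi.smul_apply, smul_eq_mul, h3, add_mul,
      Finset.sum_add_distrib, smul_add, Finset.smul_sum, smul_mul_assoc]
    abel
  rw [hy₀]
  exact Submodule.sum_mem _ fun i _ =>
    Submodule.smul_mem _ _ (Submodule.subset_span ⟨i, rfl⟩)

end Final

end Groth.Agent.Helper17.AR
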