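import Mathlib
import Groth.Prelude.Def_W4bk4boschfrg79
import Groth.Agent.Lib.Helper17.AR3

/-!
# Restricted power series over a complete valuation ring of height one (helper17)

We check that `RPow R (t) n` satisfies the abstract interface `VSetup`.
-/

set_option autoImplicit false

universe u

open MvPolynomial AdicRing

namespace Groth.Agent.Helper17.AR

section Val

variable (R : Type u) [CommRing R] [IsDomain R] [ValuationRing R] [Ring.KrullDimLE 1 R]

/-- In a valuation ring of dimension ≤ 1 every nonzero element divides a power of every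
nonunit. -/
theorem exists_pow_eq_mul (a b : R) (ha : a ≠ 0) (hb : ¬ IsUnit b) :
    ∃ (e : ℕ) (s : R), b ^ e = s * a := by
  by_cases hau : IsUnit a
  · obtain ⟨v, rfl⟩ := hau
    exact ⟨0, ↑v⁻¹, by simp⟩
  have hbm : b ∈ IsLocalRing.maximalIdeal R := by
    rwa [IsLocalRing.mem_maximalIdeal, mem_nonunits_iff]
  have hrad : b ∈ (Ideal.span {a}).radical := by
    rw [Ideal.radical_eq_sInf, Ideal.mem_sInf]
    rintro P ⟨haP, hP⟩
    have hPne : P ≠ ⊥ := by
      intro e
      rw [e, Ideal.span_le, Set.singleton_subset_iff] at haP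
      exact ha (by simpa using haP)
    have hPmax : P.IsMaximal := hP.isMaximal_of_ne_bot hPne
    rw [IsLocalRing.eq_maximalIdeal hPmax]
    exact hbm
  obtain ⟨e, he⟩ := hrad
  obtain ⟨s, hs⟩ := Ideal.mem_span_singleton'.mp he
  exact ⟨e, s, hs.symm⟩

end Val

section RPowV

/-- the ideal of definition of the polynomial ring -/
noncomputable abbrev JJ (R : Type u) [CommRing R] (t : R) (n : ℕ) : Ideal (MvPolynomial (Fin n) R) :=
  (Ideal.span {t}).map (MvPolynomial.C : R →+* MvPolynomial (Fin n) R)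

/-- restricted power series for a principal ideal of definition -/
abbrev TT (R : Type u) [CommRing R] (t : R) (n : ℕ) : Type u := RPow R (Ideal.span {t}) n

variable (R : Type u) [CommRing R] (t : R) (n : ℕ)

lemma JJ_eq : JJ R t n = Ideal.span {(C t : MvPolynomial (Fin n) R)} := by
  unfold JJ
  rw [Ideal.map_span, Set.image_singleton]

lemma JJ_fg : (JJ R t n).FG := by
  rw [JJ_eq]; exact ⟨{C t}, by simp⟩

lemma mem_pow_smul_top_iff (k : ℕ) (x : TT R t n) :
    x ∈ ((JJ R t n) ^ k • ⊤ : Submodule (MvPolynomial (Fin n) R) (TT R t n)) ↔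
      ∃ z : TT R t n, x = t ^ k • z := by
  rw [JJ_eq, Ideal.span_singleton_pow, Submodule.ideal_span_singleton_smul,
    Submodule.mem_smul_pointwise_iff_exists]
  constructor
  · rintro ⟨z, -, rfl⟩
    refine ⟨z, ?_⟩
    rw [← map_pow]
    exact algebraMap_smul (MvPolynomial (Fin n) R) (t ^ k) z
  · rintro ⟨z, rfl⟩
    refine ⟨z, Submodule.mem_top, ?_⟩
    rw [← map_pow]
    exact algebraMap_smul (MvPolynomial (Fin n) R) (t ^ k) z

/-- the canonical map from polynomials to restricted power series -/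
noncomputable def ιP : MvPolynomial (Fin n) R →ₐ[R] TT R t n :=
  IsScalarTower.toAlgHom R (MvPolynomial (Fin n) R) (TT R t n)

lemma ιP_apply (p : MvPolynomial (Fin n) R) : ιP R t n p = AdicCompletion.of _ _ p := rfl

end RPowV

section RPowV2

variable (R : Type u) [CommRing R] [IsLocalRing R] (t : R) (n : ℕ)

lemma map_residue_eq_zero_of_mem (ht : ¬ IsUnit t) (a : MvPolynomial (Fin n) R)
    (ha : a ∈ JJ R t n) : MvPolynomial.map (IsLocalRing.residue R) a = 0 := by
  rw [JJ_eq, Ideal.mem_span_singleton] at ha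
  obtain ⟨b, rfl⟩ := ha
  rw [map_mul, map_C, residue_eq_zero_of_not_isUnit ht, map_zero, zero_mul]

/-- reduction of restricted power series to polynomials over the residue field -/
noncomputable def πK (ht : ¬ IsUnit t) :
    TT R t n →+* MvPolynomial (Fin n) (IsLocalRing.ResidueField R) :=
  (Ideal.Quotient.lift (JJ R t n) (MvPolynomial.map (IsLocalRing.residue R))
    (map_residue_eq_zero_of_mem R t n ht)).comp (AdicCompletion.evalOneₐ (JJ R t n)).toRingHom

lemma πK_ι (ht : ¬ IsUnit t) (p : MvPolynomial (Fin n) R) :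
    πK R t n ht (ιP R t n p) = MvPolynomial.map (IsLocalRing.residue R) p := by
  unfold πK
  rw [RingHom.comp_apply, ιP_apply]
  change Ideal.Quotient.lift _ _ _ (AdicCompletion.evalOneₐ _ (AdicCompletion.of _ _ p)) = _
  rw [AdicCompletion.evalOneₐ_of, Ideal.Quotient.lift_mk]

end RPowV2

section RPowV3

variable (R : Type u) [CommRing R] (t : R) (n : ℕ)

lemma map_JJ_eq : (JJ R t n).map (algebraMap (MvPolynomial (Fin n) R) (TT R t n)) =
    Ideal.span {algebraMap (MvPolynomial (Fin n) R) (TT R t n) (C t)} := by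
  rw [congrArg (Ideal.map (algebraMap (MvPolynomial (Fin n) R) (TT R t n))) (JJ_eq R t n),
    Ideal.map_span (algebraMap (MvPolynomial (Fin n) R) (TT R t n)) {C t}, Set.image_singleton]

lemma exists_rep_TT (x : TT R t n) : ∃ (p : MvPolynomial (Fin n) R) (w : TT R t n),
    x = ιP R t n p + t • w := by
  obtain ⟨p, hp⟩ := Ideal.Quotient.mk_surjective (AdicCompletion.evalOneₐ (JJ R t n) x)
  have hker : x - ιP R t n p ∈ RingHom.ker (AdicCompletion.evalOneₐ (JJ R t n)).toRingHom := by
    rw [RingHom.mem_ker]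
    change AdicCompletion.evalOneₐ (JJ R t n) (x - ιP R t n p) = 0
    rw [map_sub, ιP_apply, AdicCompletion.evalOneₐ_of, hp, sub_self]
  have hk : RingHom.ker (AdicCompletion.evalOneₐ (JJ R t n)).toRingHom =
      (JJ R t n).map (algebraMap (MvPolynomial (Fin n) R) (TT R t n)) :=
    AdicCompletion.ker_evalOneₐ_eq_map (JJ R t n) (JJ_fg R t n)
  have hker' : x - ιP R t n p ∈
      Ideal.span {algebraMap (MvPolynomial (Fin n) R) (TT R t n) (C t)} := by
    rw [← map_JJ_eq, ← hk]; exact hker
  rw [Ideal.mem_span_singleton] at hker'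
  obtain ⟨w, hw⟩ := hker'
  refine ⟨p, w, ?_⟩
  have h2 : algebraMap (MvPolynomial (Fin n) R) (TT R t n) (C t) * w = t • w := by
    rw [← Algebra.smul_def]
    exact algebraMap_smul (MvPolynomial (Fin n) R) t w
  rw [← h2, ← hw]; abel

lemma C_dvd_of_ι_eq (p : MvPolynomial (Fin n) R) (w : TT R t n)
    (h : ιP R t n p = t • w) : C t ∣ p := by
  have h1 := congrArg (AdicCompletion.evalOneₐ (JJ R t n)) h
  rw [ιP_apply, AdicCompletion.evalOneₐ_of] at h1
  have h2 : AdicCompletion.evalOneₐ (JJ R t n) (t • w) = 0 := by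
    have h3 : t • w = algebraMap (MvPolynomial (Fin n) R) (TT R t n) (C t) * w := by
      rw [← Algebra.smul_def]
      exact (algebraMap_smul (MvPolynomial (Fin n) R) t w).symm
    rw [h3, map_mul]
    have : AdicCompletion.evalOneₐ (JJ R t n)
        (algebraMap (MvPolynomial (Fin n) R) (TT R t n) (C t)) = 0 := by
      change AdicCompletion.evalOneₐ (JJ R t n) (AdicCompletion.of _ _ (C t)) = 0
      rw [AdicCompletion.evalOneₐ_of, Ideal.Quotient.eq_zero_iff_mem, JJ_eq]
      exact Ideal.mem_span_singleton_self _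
    rw [this, zero_mul]
  rw [h2, Ideal.Quotient.eq_zero_iff_mem, JJ_eq, Ideal.mem_span_singleton] at h1
  exact h1

lemma precomplete_TT (f : ℕ → TT R t n) (hf : ∀ j, ∃ z, f (j + 1) - f j = t ^ j • z) :
    ∃ L, ∀ j, ∃ z, f j - L = t ^ j • z := by
  have hc : IsAdicComplete (JJ R t n) (TT R t n) := AdicCompletion.isAdicComplete (JJ_fg R t n)
  have hcauchy : ∀ {a b : ℕ}, a ≤ b →
      f a ≡ f b [SMOD ((JJ R t n) ^ a • ⊤ : Submodule (MvPolynomial (Fin n) R) (TT R t n))] := by
    intro a b hab
    induction b, hab using Nat.le_induction with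
    | base => rfl
    | succ b hab ih =>
      refine ih.trans ?_
      rw [SModEq.sub_mem, mem_pow_smul_top_iff]
      obtain ⟨z, hz⟩ := hf b
      refine ⟨-(t ^ (b - a) • z), ?_⟩
      rw [smul_neg, ← mul_smul, ← pow_add, Nat.add_sub_cancel' hab, ← hz]; abel
  obtain ⟨L, hL⟩ := hc.toIsPrecomplete.prec hcauchy
  refine ⟨L, fun j => ?_⟩
  have := hL j
  rwa [SModEq.sub_mem, mem_pow_smul_top_iff] at this

lemma hausdorff_TT (x : TT R t n) (hx : ∀ j, ∃ z, x = t ^ j • z) : x = 0 := by
  have hc : IsAdicComplete (JJ R t n) (TT R t n) := AdicCompletion.isAdicComplete (JJ_fg R t n)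
  apply hc.toIsHausdorff.haus
  intro j
  rw [SModEq.sub_mem, sub_zero, mem_pow_smul_top_iff]
  exact hx j

end RPowV3

section RPowV4

variable (R : Type u) [CommRing R] [IsDomain R] [ValuationRing R] [Ring.KrullDimLE 1 R]
  (t : R) (ht0 : t ≠ 0) (htu : ¬ IsUnit t) (n : ℕ)

/-- `RPow R (t) n` satisfies the abstract interface. -/
noncomputable def vsetupRPow : VSetup R t n (TT R t n) where
  ι := ιP R t n
  πk := πK R t n htu
  ht0 := ht0
  htu := htu
  hrad := exists_pow_eq_mul R
  hπ := πK_ι R t n htu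
  hT3 := exists_rep_TT R t n
  hT4 := C_dvd_of_ι_eq R t n
  hT5a := precomplete_TT R t n
  hT5b := hausdorff_TT R t n

include ht0 htu in
/-- **Core theorem for `RPow`, class (V)**. -/
theorem fg_of_saturated_rpow {r : ℕ} (N : Submodule (TT R t n) (Fin r → TT R t n))
    (hsat : ∀ x, t • x ∈ N → x ∈ N) : N.FG :=
  (vsetupRPow R t ht0 htu n).fg_of_saturated N hsat

end RPowV4

end Groth.Agent.Helper17.AR
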