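import Mathlib
import Groth.Prelude.Def_W4bk4boschfrg79
import Groth.Agent.Lib.Helper17.AR4
import Groth.Agent.Lib.Helper17.AR5

/-!
# Saturated submodules over algebras topologically of finite type (helper17)
-/

set_option autoImplicit false

universe u

open MvPolynomial AdicRing

namespace Groth.Agent.Helper17.AR

section Semilinear

variable {T A M : Type u} [CommRing T] [CommRing A] (φ : T →+* A)
  [AddCommGroup M] [Module A M]

/-- the `φ`-semilinear map `T^r → M` attached to a family of elements of `M` -/
noncomputable def semiComb {r : ℕ} (m : Fin r → M) : (Fin r → T) →ₛₗ[φ] M where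
  toFun a := ∑ j, φ (a j) • m j
  map_add' a b := by
    simp only [Pi.add_apply, map_add, add_smul, Finset.sum_add_distrib]
  map_smul' b a := by
    simp only [Pi.smul_apply, smul_eq_mul, map_mul, mul_smul, Finset.smul_sum]

lemma semiComb_apply {r : ℕ} (m : Fin r → M) (a : Fin r → T) :
    semiComb φ m a = ∑ j, φ (a j) • m j := rfl

lemma semiComb_surjective (hφ : Function.Surjective φ) {r : ℕ} (m : Fin r → M)
    (hm : Submodule.span A (Set.range m) = ⊤) : Function.Surjective (semiComb φ m) := by
  intro y
  have hy : y ∈ Submodule.span A (Set.range m) := by rw [hm]; exact Submodule.mem_top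
  rw [Submodule.mem_span_range_iff_exists_fun] at hy
  obtain ⟨c, rfl⟩ := hy
  choose a ha using fun j => hφ (c j)
  refine ⟨a, ?_⟩
  rw [semiComb_apply]
  exact Finset.sum_congr rfl fun j _ => by rw [ha j]

/-- Reduction of finite generation of a submodule of a finite `A`-module to finite generation
of a submodule of a free `T`-module, along a surjection `T → A`. -/
theorem fg_of_fg_comap (hφ : Function.Surjective φ) [Module.Finite A M] (N : Submodule A M)
    (hcore : ∀ (r : ℕ) (m : Fin r → M), (N.comap (semiComb φ m)).FG) : N.FG := by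
  obtain ⟨r, m, hm⟩ := Module.Finite.exists_fin (R := A) (M := M)
  have : RingHomSurjective φ := ⟨hφ⟩
  have h1 := (hcore r m).map (semiComb φ m)
  rwa [Submodule.map_comap_eq_of_surjective (semiComb_surjective φ hφ m hm)] at h1

end Semilinear

section NotUnit

lemma not_isUnit_of_complete {R : Type u} [CommRing R] [Nontrivial R] (t : R)
    (hcomp : IsAdicComplete (Ideal.span {t}) R) : ¬ IsUnit t := by
  intro hu
  have htop : Ideal.span {t} = ⊤ := Ideal.span_singleton_eq_top.mpr hu
  have hH : IsHausdorff (Ideal.span {t}) R := hcomp.toIsHausdorff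
  have : (1 : R) = 0 := by
    apply hH.haus
    intro k
    rw [htop, Ideal.top_pow, Submodule.top_smul]
    exact SModEq.top
  exact one_ne_zero this

end NotUnit

section Main27

/-- class (V): saturated submodules of finite modules over algebras topologically of finite type
are finitely generated. -/
theorem fg_saturated_V (R : Type u) [CommRing R] [IsDomain R] [ValuationRing R]
    [Ring.KrullDimLE 1 R] (t : R) (ht0 : t ≠ 0) (htu : ¬ IsUnit t)
    (A : Type u) [CommRing A] [Algebra R A] (n : ℕ)
    (φ : RPow R (Ideal.span {t}) n →ₐ[R] A) (hφ : Function.Surjective φ)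
    (M : Type u) [AddCommGroup M] [Module A M] [Module R M] [IsScalarTower R A M]
    [Module.Finite A M] (N : Submodule A M) (hsat : ∀ x : M, t • x ∈ N → x ∈ N) : N.FG := by
  apply fg_of_fg_comap φ.toRingHom hφ N
  intro r m
  apply fg_of_saturated_rpow R t ht0 htu n
  intro a ha
  rw [Submodule.mem_comap] at ha ⊢
  apply hsat
  have : semiComb φ.toRingHom m (t • a) = t • semiComb φ.toRingHom m a := by
    rw [semiComb_apply, semiComb_apply, Finset.smul_sum]
    apply Finset.sum_congr rfl
    intro j _
    rw [Pi.smul_apply]
    change φ (t • a j) • m j = _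
    rw [map_smul, smul_assoc]
    rfl
  rw [← this]
  exact ha

theorem main11527
    (R : Type u) [CommRing R] (I : Ideal R) (hR : AdicRing.IsBase R I)
    (A : Type u) [CommRing A] [Algebra R A] (hA : AdicRing.TopFiniteType R I A)
    (M : Type u) [AddCommGroup M] [Module A M] [Module R M] [IsScalarTower R A M]
    [Module.Finite A M] (N : Submodule A M)
    (hsat : ∀ (x : M) (n : ℕ), (∀ a ∈ I ^ n, a • x ∈ N) → x ∈ N) :
    N.FG := by
  obtain ⟨n, φ, hφ⟩ := hA
  obtain ⟨hcomp, h | ⟨hdom, hpv, hdim, t, ht, rfl⟩⟩ := hR
  · have := h.1
    have hT : IsNoetherianRing (RPow R I n) := isNoetherianRing_adicCompletion _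
    have hAN : IsNoetherianRing A := isNoetherianRing_of_surjective _ _ φ.toRingHom hφ
    exact IsNoetherian.noetherian N
  · have := hdom
    have : ValuationRing R := { toPreValuationRing := hpv }
    have := hdim
    have htu := not_isUnit_of_complete t hcomp
    apply fg_saturated_V R t ht htu A n φ hφ M N
    intro x hx
    apply hsat x 1
    intro a ha
    rw [pow_one, Ideal.mem_span_singleton] at ha
    obtain ⟨s, rfl⟩ := ha
    rw [mul_comm, mul_smul]
    exact N.smul_of_tower_mem s hx

end Main27

end Groth.Agent.Helper17.AR
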