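import Mathlib
import Groth.Prelude.Def_W4bk4boschfrg79
import Groth.Agent.Lib.Helper17.AR6

/-!
# Finite presentation results for algebras topologically of finite type (helper17)
-/

set_option autoImplicit false

universe u

open MvPolynomial AdicRing

namespace Groth.Agent.Helper17.AR

section Main25

theorem main11525
    (R : Type u) [CommRing R] (I : Ideal R) (hR : AdicRing.IsBase R I)
    (A : Type u) [CommRing A] [Algebra R A] (hA : AdicRing.TopFiniteType R I A)
    (hT : AdicRing.NoPowTorsion I A) :
    AdicRing.TopFinitePresentation R I A := by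
  obtain ⟨n, φ, hφ⟩ := hA
  refine ⟨n, φ, hφ, ?_⟩
  have hTT : AdicRing.TopFiniteType R I (RPow R I n) :=
    ⟨n, AlgHom.id R _, Function.surjective_id⟩
  apply main11527 R I hR (RPow R I n) hTT (RPow R I n) (RingHom.ker φ.toRingHom)
  intro x k hx
  rw [RingHom.mem_ker]
  apply hT (φ x) k
  intro a ha
  have h1 := hx a ha
  rw [RingHom.mem_ker] at h1
  change φ (a • x) = 0 at h1
  rwa [map_smul] at h1

end Main25

section Main24

theorem main11524
    (R : Type u) [CommRing R] (I : Ideal R) (hR : AdicRing.IsBase R I)
    (A : Type u) [CommRing A] [Algebra R A] (hA : AdicRing.TopFiniteType R I A)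
    (M : Type u) [AddCommGroup M] [Module A M] [Module R M] [IsScalarTower R A M]
    [Module.Finite A M] [Module.Flat R M] :
    Module.FinitePresentation A M := by
  have hR' := hR
  obtain ⟨hcomp, h | ⟨hdom, hpv, hdim, t, ht, rfl⟩⟩ := hR'
  · obtain ⟨n, φ, hφ⟩ := hA
    have := h.1
    have hTN : IsNoetherianRing (RPow R I n) := isNoetherianRing_adicCompletion _
    have hAN : IsNoetherianRing A := isNoetherianRing_of_surjective _ _ φ.toRingHom hφ
    exact Module.finitePresentation_of_finite A M
  · have := hdom
    have : ValuationRing R := { toPreValuationRing := hpv }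
    have htors : Submodule.torsion R M = ⊥ :=
      (Module.Flat.flat_iff_torsion_eq_bot_of_isBezout).mp inferInstance
    obtain ⟨r, f, hf⟩ := Module.Finite.exists_fin' A M
    apply Module.finitePresentation_of_free_of_surjective f hf
    apply main11527 R (Ideal.span {t}) hR A hA (Fin r → A) (LinearMap.ker f)
    intro x k hx
    rw [LinearMap.mem_ker]
    have h1 := hx (t ^ k) (Ideal.pow_mem_pow (Ideal.mem_span_singleton_self t) k)
    rw [LinearMap.mem_ker] at h1
    have h2 : t ^ k • f x = 0 := by
      rw [← h1]
      have e1 : t ^ k • x = algebraMap R A (t ^ k) • x := (algebraMap_smul A (t ^ k) x).symm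
      have e2 : t ^ k • f x = algebraMap R A (t ^ k) • f x :=
        (algebraMap_smul A (t ^ k) (f x)).symm
      rw [e1, e2, map_smul]
    have h3 : f x ∈ Submodule.torsion R M := by
      rw [Submodule.mem_torsion_iff]
      exact ⟨⟨t ^ k, mem_nonZeroDivisors_of_ne_zero (pow_ne_zero k ht)⟩, h2⟩
    rw [htors, Submodule.mem_bot] at h3
    exact h3

end Main24

end Groth.Agent.Helper17.AR
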