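import Mathlib
import Groth.Prelude.Def_W4bk4boschfrg79
import Groth.Agent.Lib.Helper17.AR1
import Groth.Agent.Lib.Helper17.AR7

/-!
# Coherence of algebras topologically of finite presentation (helper17)
-/

set_option autoImplicit false

universe u

open MvPolynomial AdicRing

namespace Groth.Agent.Helper17.AR

section GeneralIndex

variable (R : Type u) [CommRing R] [IsDomain R] [ValuationRing R] [Ring.KrullDimLE 1 R]
  (t : R) (ht0 : t ≠ 0) (htu : ¬ IsUnit t) (n : ℕ)

include ht0 htu in
/-- Core theorem for `RPow`, class (V), for an arbitrary finite index type. -/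
theorem fg_of_saturated_rpow' {ι : Type} [Finite ι] (N : Submodule (TT R t n) (ι → TT R t n))
    (hsat : ∀ x, t • x ∈ N → x ∈ N) : N.FG := by
  classical
  have := Fintype.ofFinite ι
  let e : ι ≃ Fin (Fintype.card ι) := Fintype.equivFin ι
  let L : (Fin (Fintype.card ι) → TT R t n) ≃ₗ[TT R t n] (ι → TT R t n) :=
    LinearEquiv.funCongrLeft (TT R t n) (TT R t n) e
  have h1 : (N.comap L.toLinearMap).FG := by
    apply fg_of_saturated_rpow R t ht0 htu n
    intro x hx
    rw [Submodule.mem_comap] at hx ⊢
    apply hsat
    have : L.toLinearMap (t • x) = t • L.toLinearMap x := by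
      funext i
      rfl
    rw [← this]; exact hx
  have h2 := h1.map L.toLinearMap
  rwa [Submodule.map_comap_eq_of_surjective L.surjective] at h2

include ht0 in
lemma TT_torsionFree (x : TT R t n) (h : t • x = 0) : x = 0 := by
  have hCt : (MvPolynomial.C t : MvPolynomial (Fin n) R) ≠ 0 := by
    rw [Ne, MvPolynomial.C_eq_zero]; exact ht0
  apply eq_zero_of_smul_eq_zero _ (MvPolynomial.C t) (JJ_eq R t n) hCt x
  have e : (MvPolynomial.C t : MvPolynomial (Fin n) R) • x = t • x :=
    algebraMap_smul (MvPolynomial (Fin n) R) t x
  rw [e]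
  exact h

end GeneralIndex

section Main26

/-- class (V): over `T = RPow`, the module of relations of a finite family in a quotient `T/𝔞`
with `𝔞` finitely generated is finitely generated. -/
theorem fg_ker_linearCombination_V (R : Type u) [CommRing R] [IsDomain R] [ValuationRing R]
    [Ring.KrullDimLE 1 R] (t : R) (ht0 : t ≠ 0) (htu : ¬ IsUnit t)
    (A : Type u) [CommRing A] [Algebra R A] (n : ℕ)
    (φ : RPow R (Ideal.span {t}) n →ₐ[R] A) (hφ : Function.Surjective φ)
    (hker : (RingHom.ker φ.toRingHom).FG) {s : ℕ} (g : Fin s → A) :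
    (LinearMap.ker (Fintype.linearCombination A g)).FG := by
  classical
  obtain ⟨l, a, ha⟩ := Submodule.fg_iff_exists_fin_generating_family.mp hker
  choose g' hg' using fun i => hφ (g i)
  have haker : ∀ j, φ (a j) = 0 := by
    intro j
    have : a j ∈ RingHom.ker φ.toRingHom := by
      rw [← ha]; exact Submodule.subset_span ⟨j, rfl⟩
    exact this
  set F : (Fin s ⊕ Fin l → TT R t n) →ₗ[TT R t n] TT R t n :=
    Fintype.linearCombination (TT R t n) (Sum.elim g' a) with hF
  have hFapp : ∀ b, F b = ∑ i, b (Sum.inl i) * g' i + ∑ j, b (Sum.inr j) * a j := by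
    intro b
    rw [hF, Fintype.linearCombination_apply, Fintype.sum_sum_type]
    simp only [Sum.elim_inl, Sum.elim_inr, smul_eq_mul]
  have hK : (LinearMap.ker F).FG := by
    apply fg_of_saturated_rpow' R t ht0 htu n
    intro x hx
    rw [LinearMap.mem_ker] at hx ⊢
    apply TT_torsionFree R t ht0 n
    rw [← hx]
    have e1 : t • x = algebraMap R (TT R t n) t • x := (algebraMap_smul (TT R t n) t x).symm
    have e2 : t • F x = algebraMap R (TT R t n) t • F x :=
      (algebraMap_smul (TT R t n) t (F x)).symm
    rw [e1, e2, map_smul]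
  have : RingHomSurjective φ.toRingHom := ⟨hφ⟩
  let G : (Fin s ⊕ Fin l → TT R t n) →ₛₗ[φ.toRingHom] (Fin s → A) :=
    { toFun := fun b i => φ (b (Sum.inl i))
      map_add' := fun b c => by funext i; simp
      map_smul' := fun c b => by funext i; simp }
  have hG : ∀ b i, G b i = φ (b (Sum.inl i)) := fun b i => rfl
  have hmap : (LinearMap.ker F).map G = LinearMap.ker (Fintype.linearCombination A g) := by
    ext c
    rw [Submodule.mem_map, LinearMap.mem_ker, Fintype.linearCombination_apply]
    constructor
    · rintro ⟨b, hb, rfl⟩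
      rw [LinearMap.mem_ker, hFapp] at hb
      have h1 := congrArg φ hb
      rw [map_add, map_sum, map_sum, map_zero] at h1
      simp only [map_mul, haker, mul_zero, Finset.sum_const_zero, add_zero, hg'] at h1
      simp only [hG, smul_eq_mul]
      exact h1
    · intro hc
      choose b₀ hb₀ using fun i => hφ (c i)
      have hx : (∑ i, b₀ i * g' i) ∈ RingHom.ker φ.toRingHom := by
        rw [RingHom.mem_ker]
        change φ (∑ i, b₀ i * g' i) = 0
        rw [map_sum]
        simp only [map_mul, hb₀, hg']
        simpa only [smul_eq_mul] using hc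
      rw [← ha, Submodule.mem_span_range_iff_exists_fun] at hx
      obtain ⟨d, hd⟩ := hx
      refine ⟨Sum.elim b₀ (fun j => - d j), ?_, ?_⟩
      · rw [LinearMap.mem_ker, hFapp]
        simp only [Sum.elim_inl, Sum.elim_inr, neg_mul, Finset.sum_neg_distrib]
        rw [← hd]
        simp only [smul_eq_mul]
        abel
      · funext i
        rw [hG, Sum.elim_inl, hb₀]
  rw [← hmap]
  exact hK.map G

theorem main11526
    (R : Type u) [CommRing R] (I : Ideal R) (hR : AdicRing.IsBase R I)
    (A : Type u) [CommRing A] [Algebra R A] (hA : AdicRing.TopFinitePresentation R I A)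
    (J : Ideal A) (hJ : J.FG) :
    Module.FinitePresentation A J := by
  obtain ⟨n, φ, hφ, hker⟩ := hA
  obtain ⟨hcomp, h | ⟨hdom, hpv, hdim, t, ht, rfl⟩⟩ := hR
  · have := h.1
    have hTN : IsNoetherianRing (RPow R I n) := isNoetherianRing_adicCompletion _
    have hAN : IsNoetherianRing A := isNoetherianRing_of_surjective _ _ φ.toRingHom hφ
    have : Module.Finite A J := Module.Finite.iff_fg.mpr hJ
    exact Module.finitePresentation_of_finite A J
  · have := hdom
    have : ValuationRing R := { toPreValuationRing := hpv }
    have := hdim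
    have htu := not_isUnit_of_complete t hcomp
    obtain ⟨s, g, hg⟩ := Submodule.fg_iff_exists_fin_generating_family.mp hJ
    have hgJ : ∀ i, g i ∈ J := fun i => by rw [← hg]; exact Submodule.subset_span ⟨i, rfl⟩
    set f : (Fin s → A) →ₗ[A] J :=
      Fintype.linearCombination A (fun i => (⟨g i, hgJ i⟩ : J)) with hf
    have hfapp : ∀ c, ((f c : J) : A) = Fintype.linearCombination A g c := by
      intro c
      rw [hf, Fintype.linearCombination_apply, Fintype.linearCombination_apply]
      simp
    have hsurj : Function.Surjective f := by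
      rintro ⟨y, hy⟩
      rw [← hg, Submodule.mem_span_range_iff_exists_fun] at hy
      obtain ⟨c, hc⟩ := hy
      refine ⟨c, Subtype.ext ?_⟩
      rw [hfapp, Fintype.linearCombination_apply]
      exact hc
    apply Module.finitePresentation_of_free_of_surjective f hsurj
    have hkereq : LinearMap.ker f = LinearMap.ker (Fintype.linearCombination A g) := by
      ext c
      rw [LinearMap.mem_ker, LinearMap.mem_ker, ← hfapp]
      exact ⟨fun h => by rw [h]; rfl, fun h => Subtype.ext h⟩
    rw [hkereq]
    exact fg_ker_linearCombination_V R t ht htu A n φ hφ hker g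

end Main26

end Groth.Agent.Helper17.AR
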