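import Mathlib
import Groth.Prelude.Def_W4bk4boschfrg79
import Groth.Agent.Lib.Helper17.AR8

/-!
# The uniform Artin–Rees property for algebras topologically of finite type (helper17)
-/

set_option autoImplicit false

universe u

open MvPolynomial AdicRing

namespace Groth.Agent.Helper17.AR

section Sat

variable {R : Type u} [CommRing R] (t : R) {A : Type u} [CommRing A] [Algebra R A]
  {M : Type u} [AddCommGroup M] [Module A M] [Module R M] [IsScalarTower R A M]

/-- the `t`-saturation of a submodule -/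
def satOf (N : Submodule A M) : Submodule A M where
  carrier := {x | ∃ k : ℕ, t ^ k • x ∈ N}
  add_mem' := by
    rintro x y ⟨k, hk⟩ ⟨l, hl⟩
    refine ⟨k + l, ?_⟩
    rw [smul_add]
    refine N.add_mem ?_ ?_
    · rw [pow_add, mul_comm, mul_smul]; exact N.smul_of_tower_mem _ hk
    · rw [pow_add, mul_smul]; exact N.smul_of_tower_mem _ hl
  zero_mem' := ⟨0, by simp⟩
  smul_mem' := by
    rintro c x ⟨k, hk⟩
    refine ⟨k, ?_⟩
    have : t ^ k • c • x = c • t ^ k • x := by
      rw [← algebraMap_smul A (t ^ k) (c • x), ← algebraMap_smul A (t ^ k) x, smul_comm]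
    rw [this]
    exact N.smul_mem c hk

lemma mem_satOf (N : Submodule A M) (x : M) : x ∈ satOf t N ↔ ∃ k : ℕ, t ^ k • x ∈ N := Iff.rfl

lemma le_satOf (N : Submodule A M) : N ≤ satOf t N := fun x hx => ⟨0, by simpa using hx⟩

lemma satOf_saturated (N : Submodule A M) (x : M) (hx : t • x ∈ satOf t N) : x ∈ satOf t N := by
  obtain ⟨k, hk⟩ := hx
  exact ⟨k + 1, by rw [pow_succ, mul_smul]; exact hk⟩

/-- if the saturation is finitely generated, a fixed power of `t` maps it into `N` -/
lemma exists_pow_smul_satOf_le (N : Submodule A M) (hfg : (satOf t N).FG) :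
    ∃ n₀ : ℕ, ∀ x ∈ satOf t N, t ^ n₀ • x ∈ N := by
  classical
  obtain ⟨S, hS⟩ := hfg
  have hk : ∀ x ∈ S, ∃ k : ℕ, t ^ k • x ∈ N := by
    intro x hx
    have : x ∈ satOf t N := by rw [← hS]; exact Submodule.subset_span hx
    exact this
  choose! k hk using hk
  refine ⟨S.sup k, ?_⟩
  intro x hx
  rw [← hS] at hx
  induction hx using Submodule.span_induction with
  | mem x hx =>
    have hle : k x ≤ S.sup k := Finset.le_sup hx
    obtain ⟨d, hd⟩ := Nat.exists_eq_add_of_le hle
    rw [hd, pow_add, mul_comm, mul_smul]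
    exact N.smul_of_tower_mem _ (hk x hx)
  | zero => simp
  | add x y _ _ hx hy => rw [smul_add]; exact N.add_mem hx hy
  | smul c x _ hx =>
    have : t ^ S.sup k • c • x = c • t ^ S.sup k • x := by
      rw [← algebraMap_smul A (t ^ S.sup k) (c • x), ← algebraMap_smul A (t ^ S.sup k) x,
        smul_comm]
    rw [this]
    exact N.smul_mem c hx

end Sat

section Main28

lemma mem_span_pow_smul_top_iff {R : Type u} [CommRing R] (t : R) {M : Type u} [AddCommGroup M]
    [Module R M] (k : ℕ) (x : M) :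
    x ∈ (Ideal.span {t} ^ k • (⊤ : Submodule R M)) ↔ ∃ y : M, x = t ^ k • y := by
  rw [Ideal.span_singleton_pow, Submodule.ideal_span_singleton_smul,
    Submodule.mem_smul_pointwise_iff_exists]
  constructor
  · rintro ⟨y, -, rfl⟩; exact ⟨y, rfl⟩
  · rintro ⟨y, rfl⟩; exact ⟨y, Submodule.mem_top, rfl⟩

theorem main11528
    (R : Type u) [CommRing R] (I : Ideal R) (hR : AdicRing.IsBase R I)
    (A : Type u) [CommRing A] [Algebra R A] (hA : AdicRing.TopFiniteType R I A)
    (M : Type u) [AddCommGroup M] [Module A M] [Module R M] [IsScalarTower R A M]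
    [Module.Finite A M] (N : Submodule A M) :
    ∃ n₀ : ℕ, ∀ m : ℕ,
      (I ^ (m + n₀) • (⊤ : Submodule R M)) ⊓ N.restrictScalars R ≤ I ^ m • N.restrictScalars R := by
  obtain ⟨n, φ, hφ⟩ := hA
  obtain ⟨hcomp, h | ⟨hdom, hpv, hdim, t, ht, rfl⟩⟩ := hR
  · have := h.1
    have hTN : IsNoetherianRing (RPow R I n) := isNoetherianRing_adicCompletion _
    have hAN : IsNoetherianRing A := isNoetherianRing_of_surjective _ _ φ.toRingHom hφ
    obtain ⟨k, hk⟩ := Ideal.exists_pow_inf_eq_pow_smul (I.map (algebraMap R A)) N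
    refine ⟨k, fun m => ?_⟩
    intro x hx
    obtain ⟨hx1, hx2⟩ := hx
    have e1 : ∀ j : ℕ, (I ^ j • (⊤ : Submodule R M)) =
        ((I.map (algebraMap R A)) ^ j • (⊤ : Submodule A M)).restrictScalars R := by
      intro j
      rw [← Ideal.map_pow, Submodule.restrictScalars_map_smul_eq, Submodule.restrictScalars_top]
    have e2 : I ^ m • N.restrictScalars R =
        ((I.map (algebraMap R A)) ^ m • N).restrictScalars R := by
      rw [← Ideal.map_pow, Submodule.restrictScalars_map_smul_eq]
    rw [e2, Submodule.restrictScalars_mem]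
    rw [e1, SetLike.mem_coe, Submodule.restrictScalars_mem] at hx1
    rw [SetLike.mem_coe, Submodule.restrictScalars_mem] at hx2
    have h3 : x ∈ (I.map (algebraMap R A)) ^ (m + k) • (⊤ : Submodule A M) ⊓ N := ⟨hx1, hx2⟩
    rw [hk (m + k) (Nat.le_add_left k m), Nat.add_sub_cancel] at h3
    exact Submodule.smul_mono le_rfl inf_le_right h3
  · have := hdom
    have : ValuationRing R := { toPreValuationRing := hpv }
    have := hdim
    have htu := not_isUnit_of_complete t hcomp
    have hfg : (satOf t N).FG :=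
      fg_saturated_V R t ht htu A n φ hφ M (satOf t N) (satOf_saturated t N)
    obtain ⟨n₀, hn₀⟩ := exists_pow_smul_satOf_le t N hfg
    refine ⟨n₀, fun m => ?_⟩
    rintro x ⟨hx1, hx2⟩
    rw [SetLike.mem_coe, mem_span_pow_smul_top_iff] at hx1
    obtain ⟨y, rfl⟩ := hx1
    rw [SetLike.mem_coe, Submodule.restrictScalars_mem] at hx2
    have hy : y ∈ satOf t N := ⟨m + n₀, hx2⟩
    have h4 := hn₀ y hy
    rw [pow_add, mul_smul]
    exact Submodule.smul_mem_smul (Ideal.pow_mem_pow (Ideal.mem_span_singleton_self t) m)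
      ((Submodule.restrictScalars_mem R N _).mpr h4)

end Main28

end Groth.Agent.Helper17.AR
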