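import Mathlib
import Groth.Prelude.Def_W4bk4boschfrg79
import Groth.Agent.Lib.Helper17.AR9

/-!
# Finite modules over algebras topologically of finite type are adically complete (helper17)
-/

set_option autoImplicit false

universe u

open MvPolynomial AdicRing

namespace Groth.Agent.Helper17.AR

section Precomplete

variable {R : Type u} [CommRing R] (I : Ideal R) {M N : Type u} [AddCommGroup M] [Module R M]
  [AddCommGroup N] [Module R N]

lemma isPrecomplete_of_surjective (f : M →ₗ[R] N) (hf : Function.Surjective f)
    [IsPrecomplete I M] : IsPrecomplete I N := by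
  rw [← AdicCompletion.of_surjective_iff]
  intro y
  obtain ⟨x', rfl⟩ := AdicCompletion.map_surjective I hf y
  obtain ⟨x, rfl⟩ := AdicCompletion.of_surjective I M x'
  exact ⟨f x, (AdicCompletion.map_of I f x).symm⟩

lemma isPrecomplete_pi {ι : Type} [Finite ι] [IsPrecomplete I M] : IsPrecomplete I (ι → M) := by
  classical
  have := Fintype.ofFinite ι
  have hproj : ∀ (k : ℕ) (j : ι) (x : ι → M), x ∈ (I ^ k • ⊤ : Submodule R (ι → M)) →
      x j ∈ (I ^ k • ⊤ : Submodule R M) := by
    intro k j x hx
    have h1 : (LinearMap.proj j : (ι → M) →ₗ[R] M) x ∈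
        (I ^ k • ⊤ : Submodule R (ι → M)).map (LinearMap.proj j) := Submodule.mem_map_of_mem hx
    rw [Submodule.map_smul''] at h1
    exact Submodule.smul_mono le_rfl le_top h1
  have hsingle : ∀ (k : ℕ) (x : ι → M), (∀ j, x j ∈ (I ^ k • ⊤ : Submodule R M)) →
      x ∈ (I ^ k • ⊤ : Submodule R (ι → M)) := by
    intro k x hx
    have hsum : x = ∑ j, (LinearMap.single R (fun _ : ι => M) j) (x j) := by
      funext i
      rw [Finset.sum_apply]
      simp [Pi.single_apply]
    rw [hsum]
    apply Submodule.sum_mem
    intro j _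
    have h1 : (LinearMap.single R (fun _ : ι => M) j) (x j) ∈
        (I ^ k • ⊤ : Submodule R M).map (LinearMap.single R (fun _ : ι => M) j) :=
      Submodule.mem_map_of_mem (hx j)
    rw [Submodule.map_smul''] at h1
    exact Submodule.smul_mono le_rfl le_top h1
  refine ⟨fun f hf => ?_⟩
  have hc : ∀ j, ∃ L : M, ∀ k, f k j ≡ L [SMOD (I ^ k • ⊤ : Submodule R M)] := by
    intro j
    apply IsPrecomplete.prec ‹IsPrecomplete I M› (f := fun k => f k j)
    intro a b hab
    have := hf hab
    rw [SModEq.sub_mem] at this ⊢
    exact hproj a j _ this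
  choose L hL using hc
  refine ⟨L, fun k => ?_⟩
  rw [SModEq.sub_mem]
  apply hsingle
  intro j
  have := hL j k
  rwa [SModEq.sub_mem] at this

end Precomplete

section Closed

variable {R : Type u} [CommRing R] [IsDomain R] [ValuationRing R] {t : R} {n : ℕ}
  {T : Type u} [CommRing T] [Algebra R T] (V : VSetup R t n T)
  {r : ℕ} (N : Submodule T (Fin r → T)) (hsat : ∀ x, t • x ∈ N → x ∈ N) (hfg : N.FG)

include V hsat hfg in
/-- A finitely generated saturated submodule of `T^r` is closed for the `t`-adic topology. -/
theorem VSetup.closed_of_fg_saturated (x : Fin r → T)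
    (hx : ∀ k : ℕ, ∃ s ∈ N, ∃ y : Fin r → T, x = s + t ^ k • y) : x ∈ N := by
  classical
  obtain ⟨l, σ, hσ⟩ := Submodule.fg_iff_exists_fin_generating_family.mp hfg
  choose s hsN y hxy using hx
  have hu : ∀ k, y k - t • y (k + 1) ∈ N := by
    intro k
    apply VSetup.sat_pow N hsat k
    have : t ^ k • (y k - t • y (k + 1)) = s (k + 1) - s k := by
      have h1 := hxy k
      have h2 := hxy (k + 1)
      rw [smul_sub, ← mul_smul, ← pow_succ]
      have : t ^ k • y k = x - s k := by rw [h1]; abel
      rw [this]
      have : t ^ (k + 1) • y (k + 1) = x - s (k + 1) := by rw [h2]; abel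
      rw [this]; abel
    rw [this]
    exact N.sub_mem (hsN _) (hsN _)
  have hc : ∀ k, ∃ c : Fin l → T, ∑ i, c i • σ i = y k - t • y (k + 1) := by
    intro k
    have := hu k
    rw [← hσ, Submodule.mem_span_range_iff_exists_fun] at this
    exact this
  choose c hc using hc
  set S : ℕ → Fin l → T := fun K i => ∑ j ∈ Finset.range K, t ^ j • c j i with hS
  have hsK : ∀ K, s K = s 0 + ∑ i, S K i • σ i := by
    intro K
    induction K with
    | zero => simp [hS]
    | succ K ih =>
      have h1 : s (K + 1) = s K + t ^ K • (y K - t • y (K + 1)) := by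
        have h1 := hxy K
        have h2 := hxy (K + 1)
        rw [smul_sub, ← mul_smul, ← pow_succ]
        have e1 : t ^ K • y K = x - s K := by rw [h1]; abel
        have e2 : t ^ (K + 1) • y (K + 1) = x - s (K + 1) := by rw [h2]; abel
        rw [e1, e2]; abel
      have h2 : ∀ i, S (K + 1) i = S K i + t ^ K • c K i := by
        intro i
        simp only [hS, Finset.sum_range_succ]
      rw [h1, ih, ← hc K]
      simp only [h2, add_smul, Finset.sum_add_distrib, Finset.smul_sum, smul_assoc]
      abel
  have hcauchy : ∀ i, ∃ L, ∀ j, ∃ z, S j i - L = t ^ j • z := by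
    intro i
    apply V.hT5a (fun K => S K i)
    intro j
    refine ⟨c j i, ?_⟩
    simp only [hS, Finset.sum_range_succ, add_sub_cancel_left]
  choose C hC using hcauchy
  choose zz hzz using hC
  have hxeq : x = s 0 + ∑ i, C i • σ i := by
    funext j'
    apply sub_eq_zero.mp
    apply V.hT5b
    intro K
    refine ⟨y K j' + ∑ i, zz i K * σ i j', ?_⟩
    have h1 := congrFun (hxy K) j'
    have h2 := congrFun (hsK K) j'
    have h3 : ∀ i, S K i = C i + t ^ K • zz i K := fun i => by rw [← hzz i K]; abel
    rw [h1]
    simp only [Pi.add_apply, Pi.smul_apply, Finset.sum_apply, smul_eq_mul] at h2 ⊢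
    rw [h2]
    simp only [h3, add_mul, Finset.sum_add_distrib, smul_add, Finset.smul_sum, smul_mul_assoc]
    abel
  rw [hxeq]
  refine N.add_mem (hsN 0) (N.sum_mem fun i _ => N.smul_mem _ ?_)
  rw [← hσ]
  exact Submodule.subset_span ⟨i, rfl⟩

end Closed

section Main29

lemma semiComb_smul_R {R : Type u} [CommRing R] {T A M : Type u} [CommRing T] [Algebra R T]
    [CommRing A] [Algebra R A] (φ : T →ₐ[R] A) [AddCommGroup M] [Module A M] [Module R M]
    [IsScalarTower R A M] {r : ℕ} (m : Fin r → M) (c : R) (a : Fin r → T) :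
    semiComb φ.toRingHom m (c • a) = c • semiComb φ.toRingHom m a := by
  rw [semiComb_apply, semiComb_apply, Finset.smul_sum]
  apply Finset.sum_congr rfl
  intro j _
  rw [Pi.smul_apply]
  change φ (c • a j) • m j = _
  rw [map_smul, smul_assoc]
  rfl

/-- class (V): finite modules over algebras topologically of finite type are separated. -/
theorem isHausdorff_V (R : Type u) [CommRing R] [IsDomain R] [ValuationRing R]
    [Ring.KrullDimLE 1 R] (t : R) (ht0 : t ≠ 0) (htu : ¬ IsUnit t)
    (A : Type u) [CommRing A] [Algebra R A] (n : ℕ)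
    (φ : RPow R (Ideal.span {t}) n →ₐ[R] A) (hφ : Function.Surjective φ)
    (M : Type u) [AddCommGroup M] [Module A M] [Module R M] [IsScalarTower R A M]
    [Module.Finite A M] : IsHausdorff (Ideal.span {t}) M := by
  classical
  obtain ⟨r, m, hm⟩ := Module.Finite.exists_fin (R := A) (M := M)
  have hg := semiComb_surjective φ.toRingHom hφ m hm
  have hgt : ∀ (k : ℕ) (a : Fin r → TT R t n),
      semiComb φ.toRingHom m (t ^ k • a) = t ^ k • semiComb φ.toRingHom m a :=
    fun k a => semiComb_smul_R φ m (t ^ k) a
  set K : Submodule (TT R t n) (Fin r → TT R t n) :=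
    (⊥ : Submodule A M).comap (semiComb φ.toRingHom m) with hK
  have hSsat := satOf_saturated t K
  have hSfg : (satOf t K).FG := fg_of_saturated_rpow R t ht0 htu n (satOf t K) hSsat
  obtain ⟨e, he⟩ := exists_pow_smul_satOf_le t K hSfg
  refine ⟨fun y hy => ?_⟩
  obtain ⟨x, rfl⟩ := hg y
  have hk : ∀ k, ∃ xk : Fin r → TT R t n, x - t ^ k • xk ∈ K := by
    intro k
    have := hy k
    rw [SModEq.zero, mem_span_pow_smul_top_iff] at this
    obtain ⟨y', hy'⟩ := this
    obtain ⟨xk, rfl⟩ := hg y'
    refine ⟨xk, ?_⟩
    rw [hK, Submodule.mem_comap, Submodule.mem_bot, map_sub, hgt, hy', sub_self]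
  choose xk hxk using hk
  have hxS : x ∈ satOf t K := by
    apply (vsetupRPow R t ht0 htu n).closed_of_fg_saturated (satOf t K) hSsat hSfg
    intro k
    exact ⟨x - t ^ k • xk k, le_satOf t K (hxk k), xk k, by abel⟩
  have h1 : t ^ e • xk e ∈ satOf t K := by
    have : t ^ e • xk e = x - (x - t ^ e • xk e) := by abel
    rw [this]
    exact (satOf t K).sub_mem hxS (le_satOf t K (hxk e))
  have h2 : xk e ∈ satOf t K := by
    obtain ⟨k', hk'⟩ := h1
    exact ⟨k' + e, by rw [pow_add, mul_smul]; exact hk'⟩
  have h3 : t ^ e • xk e ∈ K := he _ h2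
  have h4 : x ∈ K := by
    have : x = (x - t ^ e • xk e) + t ^ e • xk e := by abel
    rw [this]; exact K.add_mem (hxk e) h3
  rw [hK, Submodule.mem_comap, Submodule.mem_bot] at h4
  exact h4

theorem main11529
    (R : Type u) [CommRing R] (I : Ideal R) (hR : AdicRing.IsBase R I)
    (A : Type u) [CommRing A] [Algebra R A] (hA : AdicRing.TopFiniteType R I A)
    (M : Type u) [AddCommGroup M] [Module A M] [Module R M] [IsScalarTower R A M]
    [Module.Finite A M] :
    IsAdicComplete I M := by
  classical
  obtain ⟨n, φ, hφ⟩ := hA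
  have hIfg : I.FG := by
    obtain ⟨-, h | ⟨-, -, -, t, -, rfl⟩⟩ := hR
    · have := h.1
      exact IsNoetherian.noetherian I
    · exact ⟨{t}, by simp⟩
  have hJfg : (I.map (MvPolynomial.C : R →+* MvPolynomial (Fin n) R)).FG := hIfg.map _
  have hcT : IsAdicComplete (I.map (MvPolynomial.C : R →+* MvPolynomial (Fin n) R))
      (RPow R I n) := AdicCompletion.isAdicComplete hJfg
  have hpT : IsPrecomplete I (RPow R I n) :=
    (IsPrecomplete.map_algebraMap_iff (R := R) (S := MvPolynomial (Fin n) R)
      (M := RPow R I n) (I := I)).mp hcT.toIsPrecomplete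
  -- precompleteness
  obtain ⟨r, m, hm⟩ := Module.Finite.exists_fin (R := A) (M := M)
  have hg := semiComb_surjective φ.toRingHom hφ m hm
  let gR : (Fin r → RPow R I n) →ₗ[R] M :=
    { toFun := semiComb φ.toRingHom m
      map_add' := map_add _
      map_smul' := fun c a => semiComb_smul_R φ m c a }
  have hpPi : IsPrecomplete I (Fin r → RPow R I n) := isPrecomplete_pi I
  have hpM : IsPrecomplete I M := isPrecomplete_of_surjective I gR hg
  -- separatedness
  have hhM : IsHausdorff I M := by
    obtain ⟨hcomp, h | ⟨hdom, hpv, hdim, t, ht, rfl⟩⟩ := hR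
    · have := h.1
      have hTN : IsNoetherianRing (RPow R I n) := isNoetherianRing_adicCompletion _
      have hAN : IsNoetherianRing A := isNoetherianRing_of_surjective _ _ φ.toRingHom hφ
      have hcT' : IsAdicComplete (I.map (algebraMap R (RPow R I n))) (RPow R I n) := by
        have e : I.map (algebraMap R (RPow R I n)) =
            (I.map (MvPolynomial.C : R →+* MvPolynomial (Fin n) R)).map
              (algebraMap (MvPolynomial (Fin n) R) (RPow R I n)) := by
          rw [Ideal.map_map]
          rfl
        rw [e]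
        exact (IsAdicComplete.map_algebraMap_iff _ _).mpr hcT
      have hjT : I.map (algebraMap R (RPow R I n)) ≤ Ideal.jacobson ⊥ :=
        IsAdicComplete.le_jacobson_bot _
      have hjA : I.map (algebraMap R A) ≤ Ideal.jacobson ⊥ := by
        have e : I.map (algebraMap R A) = (I.map (algebraMap R (RPow R I n))).map φ.toRingHom := by
          rw [Ideal.map_map]
          congr 1
          exact (φ.comp_algebraMap).symm
        rw [e]
        intro x hx
        rw [Ideal.mem_map_iff_of_surjective φ.toRingHom hφ] at hx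
        obtain ⟨x', hx', rfl⟩ := hx
        rw [Ideal.mem_jacobson_bot]
        intro y
        obtain ⟨y', rfl⟩ := hφ y
        have h1 := Ideal.mem_jacobson_bot.mp (hjT hx') y'
        have h2 := h1.map φ.toRingHom
        simpa using h2
      have := IsHausdorff.of_le_jacobson (I.map (algebraMap R A)) M hjA
      exact IsHausdorff.map_algebraMap_iff.mp this
    · have := hdom
      have : ValuationRing R := { toPreValuationRing := hpv }
      have := hdim
      have htu := not_isUnit_of_complete t hcomp
      exact isHausdorff_V R t ht htu A n φ hφ M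
  exact { toIsHausdorff := hhM, toIsPrecomplete := hpM }

end Main29

end Groth.Agent.Helper17.AR
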