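import Mathlib
import Groth.Prelude.Def_Red

/-!
# Anti-affine group schemes: products and base change (helper17)

Künneth for global sections over a field (from Mathlib's `isIso_pushoutSection_…`), and its
consequences for `O(G₁ × G₂)` and `O(G_K)`.
-/

set_option autoImplicit false
set_option linter.style.haveILetI false

namespace Groth.Agent.Helper17.AA1

open CategoryTheory CategoryTheory.Limits MonoidalCategory CartesianMonoidalCategory MonObj
  AlgebraicGeometry Opposite TopologicalSpace

universe u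

theorem appLE_top {X Y : Scheme.{u}} (f : X ⟶ Y) (h : (⊤ : X.Opens) ≤ f ⁻¹ᵁ ⊤) :
    f.appLE ⊤ ⊤ h = f.appTop := by
  rw [Scheme.Hom.appTop, Scheme.Hom.app_eq_appLE]
  rfl

theorem isIso_of_bijective {A B : CommRingCat.{u}} (f : A ⟶ B) (h : Function.Bijective f.hom) :
    IsIso f := by
  have e : f = (RingEquiv.ofBijective f.hom h).toCommRingCatIso.hom := by
    ext x; rfl
  rw [e]; infer_instance

theorem bijective_of_isIso {A B : CommRingCat.{u}} (f : A ⟶ B) [IsIso f] :
    Function.Bijective f.hom :=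
  ConcreteCategory.bijective_of_isIso f

instance subsingleton_spec_field (k : Type u) [Field k] :
    Subsingleton ↥(Spec (CommRingCat.of k)) :=
  inferInstanceAs (Subsingleton (PrimeSpectrum k))

instance isIntegral_spec_field (k : Type u) [Field k] : IsIntegral (Spec (CommRingCat.of k)) := by
  haveI : IsDomain (CommRingCat.of k) := inferInstanceAs (IsDomain k)
  infer_instance

theorem qcqs_of_field (k : Type u) [Field k] {X : Scheme.{u}} (f : X ⟶ Spec (CommRingCat.of k))
    [LocallyOfFiniteType f] [QuasiCompact f] :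
    CompactSpace X ∧ QuasiSeparatedSpace X := by
  haveI : IsNoetherianRing (CommRingCat.of k) := inferInstanceAs (IsNoetherianRing k)
  haveI : IsLocallyNoetherian (Spec (CommRingCat.of k)) := inferInstance
  haveI : IsLocallyNoetherian X := LocallyOfFiniteType.isLocallyNoetherian f
  exact ⟨(quasiCompact_iff_compactSpace f).mp inferInstance, inferInstance⟩

/-- Künneth for global sections over a field: `Γ(X ×ₖ T) = Γ(X) ⊗ₖ Γ(T)` for qcqs `X`, `T`. -/
theorem isPushout_appTop_of_field (k : Type u) [Field k] {X T P : Scheme.{u}}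
    {iX : X ⟶ Spec (CommRingCat.of k)} {f : T ⟶ Spec (CommRingCat.of k)}
    {g : P ⟶ X} {iY : P ⟶ T} (H : IsPullback g iY iX f)
    [CompactSpace X] [QuasiSeparatedSpace X] [CompactSpace T] [QuasiSeparatedSpace T] :
    IsPushout iX.appTop f.appTop g.appTop iY.appTop := by
  have hUST : (⊤ : T.Opens) ≤ f ⁻¹ᵁ ⊤ := le_top
  have hUSX : (⊤ : X.Opens) ≤ iX ⁻¹ᵁ ⊤ := le_top
  have hUY : (⊤ : P.Opens) = g ⁻¹ᵁ ⊤ ⊓ iY ⁻¹ᵁ ⊤ := by simp
  have hflat : (iX.appLE ⊤ ⊤ hUSX).hom.Flat :=
    RingHom.Flat.of_isField (isField_of_isIntegral_of_subsingleton _) _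
  have h1 : IsIso (pushoutSection H hUST hUSX hUY) :=
    isIso_pushoutSection_of_isCompact_of_flat_right_of_ringHomFlat H hUST hUSX hUY
      (isAffineOpen_top _) (by simpa using isCompact_univ) (by simpa using isQuasiSeparated_univ)
      (by simpa using isCompact_univ) (by simpa using isQuasiSeparated_univ) hflat
  have h2 := (isIso_pushoutSection_iff H hUST hUSX hUY).mp h1
  simpa only [appLE_top] using h2

theorem bijective_of_retract (k : Type u) [Field k] {X P : Over (Spec (CommRingCat.of k))}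
    (p : P ⟶ X) (s : X ⟶ P) (hs : s ≫ p = 𝟙 X)
    (h : Function.Bijective ((Scheme.ΓSpecIso (CommRingCat.of k)).inv ≫ P.hom.appTop).hom) :
    Function.Bijective ((Scheme.ΓSpecIso (CommRingCat.of k)).inv ≫ X.hom.appTop).hom := by
  have hw : P.hom = p.left ≫ X.hom := (Over.w p).symm
  have hsplit : p.left.appTop ≫ s.left.appTop = 𝟙 _ := by
    rw [← Scheme.Hom.comp_appTop, ← Over.comp_left, hs]
    simp
  have e : ∀ c, s.left.appTop.hom (p.left.appTop.hom c) = c := fun c => by
    have := congrArg (fun t => t.hom c) hsplit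
    simpa using this
  have hinj : Function.Injective p.left.appTop.hom := by
    intro a b hab
    have := congrArg s.left.appTop.hom hab
    rw [e, e] at this
    exact this
  have hcomp : ((Scheme.ΓSpecIso (CommRingCat.of k)).inv ≫ P.hom.appTop) =
      ((Scheme.ΓSpecIso (CommRingCat.of k)).inv ≫ X.hom.appTop) ≫ p.left.appTop := by
    rw [hw, Scheme.Hom.comp_appTop, Category.assoc]
  rw [hcomp] at h
  constructor
  · intro a b hab
    apply h.1
    simp only [CommRingCat.hom_comp, RingHom.coe_comp, Function.comp_apply] at hab ⊢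
    rw [hab]
  · intro y
    obtain ⟨c, hc⟩ := h.2 (p.left.appTop.hom y)
    refine ⟨c, hinj ?_⟩
    simpa using hc

theorem main18069 (k : Type u) [Field k]
    (G₁ G₂ : Over (Spec (CommRingCat.of k))) [GrpObj G₁] [LocallyOfFiniteType G₁.hom]
    [QuasiCompact G₁.hom] [ConnectedSpace ↥G₁.left]
    [GrpObj G₂] [LocallyOfFiniteType G₂.hom] [QuasiCompact G₂.hom] [ConnectedSpace ↥G₂.left] :
    Function.Bijective ((Scheme.ΓSpecIso (CommRingCat.of k)).inv ≫ (G₁ ⊗ G₂).hom.appTop).hom ↔
      Function.Bijective ((Scheme.ΓSpecIso (CommRingCat.of k)).inv ≫ G₁.hom.appTop).hom ∧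
      Function.Bijective ((Scheme.ΓSpecIso (CommRingCat.of k)).inv ≫ G₂.hom.appTop).hom := by
  constructor
  · intro h
    refine ⟨?_, ?_⟩
    · exact bijective_of_retract k (fst G₁ G₂) (lift (𝟙 G₁) (toUnit G₁ ≫ η[G₂])) (lift_fst _ _) h
    · exact bijective_of_retract k (snd G₁ G₂) (lift (toUnit G₂ ≫ η[G₁]) (𝟙 G₂)) (lift_snd _ _) h
  · rintro ⟨h1, h2⟩
    obtain ⟨hc1, hq1⟩ := qcqs_of_field k G₁.hom
    obtain ⟨hc2, hq2⟩ := qcqs_of_field k G₂.hom
    have H : IsPullback (fst G₁ G₂).left (snd G₁ G₂).left G₁.hom G₂.hom :=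
      IsPullback.of_hasPullback G₁.hom G₂.hom
    have hP := isPushout_appTop_of_field k H
    haveI : IsIso ((Scheme.ΓSpecIso (CommRingCat.of k)).inv ≫ G₁.hom.appTop) :=
      isIso_of_bijective _ h1
    haveI : IsIso G₁.hom.appTop :=
      IsIso.of_isIso_comp_left (Scheme.ΓSpecIso (CommRingCat.of k)).inv _
    haveI : IsIso (snd G₁ G₂).left.appTop := hP.isIso_inr_of_isIso
    haveI : IsIso ((Scheme.ΓSpecIso (CommRingCat.of k)).inv ≫ G₂.hom.appTop) :=
      isIso_of_bijective _ h2
    have hw : (G₁ ⊗ G₂).hom = (snd G₁ G₂).left ≫ G₂.hom := (Over.w (snd G₁ G₂)).symm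
    have hcomp : (Scheme.ΓSpecIso (CommRingCat.of k)).inv ≫ (G₁ ⊗ G₂).hom.appTop =
        ((Scheme.ΓSpecIso (CommRingCat.of k)).inv ≫ G₂.hom.appTop) ≫
          (snd G₁ G₂).left.appTop := by
      rw [hw, Scheme.Hom.comp_appTop, Category.assoc]
    rw [hcomp]
    exact bijective_of_isIso _

/-- Base change of global sections along a field extension. -/
theorem bc_iff (k K : Type u) [Field k] [Field K] [Algebra k K] {X P : Scheme.{u}}
    (iX : X ⟶ Spec (CommRingCat.of k)) [CompactSpace X] [QuasiSeparatedSpace X]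
    {g : P ⟶ X} {iY : P ⟶ Spec (CommRingCat.of K)}
    (H : IsPullback g iY iX (Spec.map (CommRingCat.ofHom (algebraMap k K)))) :
    Function.Bijective ((Scheme.ΓSpecIso (CommRingCat.of k)).inv ≫ iX.appTop).hom ↔
      Function.Bijective ((Scheme.ΓSpecIso (CommRingCat.of K)).inv ≫ iY.appTop).hom := by
  have hP0 := isPushout_appTop_of_field k H
  have hP : IsPushout ((Scheme.ΓSpecIso (CommRingCat.of k)).inv ≫ iX.appTop)
      (CommRingCat.ofHom (algebraMap k K)) g.appTop
      ((Scheme.ΓSpecIso (CommRingCat.of K)).inv ≫ iY.appTop) := by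
    refine IsPushout.of_iso hP0 (Scheme.ΓSpecIso (CommRingCat.of k)) (Iso.refl _)
      (Scheme.ΓSpecIso (CommRingCat.of K)) (Iso.refl _) ?_ ?_ ?_ ?_
    · simp
    · exact Scheme.ΓSpecIso_naturality _
    · simp
    · simp
  constructor
  · intro h
    haveI := isIso_of_bijective _ h
    haveI : IsIso ((Scheme.ΓSpecIso (CommRingCat.of K)).inv ≫ iY.appTop) := hP.isIso_inr_of_isIso
    exact bijective_of_isIso _
  · intro h
    letI alg : Algebra k Γ(X, ⊤) :=
      ((Scheme.ΓSpecIso (CommRingCat.of k)).inv ≫ iX.appTop).hom.toAlgebra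
    have hP' : IsPushout (CommRingCat.ofHom (algebraMap k K))
        (CommRingCat.ofHom (algebraMap k Γ(X, ⊤)))
        ((Scheme.ΓSpecIso (CommRingCat.of K)).inv ≫ iY.appTop) g.appTop := hP.flip
    let e := (CommRingCat.isPushout_tensorProduct k K Γ(X, ⊤)).isoIsPushout _ _ hP'
    have he : CommRingCat.ofHom (S := TensorProduct k K Γ(X, ⊤))
        Algebra.TensorProduct.includeLeftRingHom ≫ e.hom =
        (Scheme.ΓSpecIso (CommRingCat.of K)).inv ≫ iY.appTop :=
      IsPushout.inl_isoIsPushout_hom _ _ (CommRingCat.isPushout_tensorProduct k K Γ(X, ⊤)) hP'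
    have hbij : Function.Bijective
        (Algebra.TensorProduct.includeLeftRingHom : K →+* TensorProduct k K Γ(X, ⊤)) := by
      have h3 : CommRingCat.ofHom (S := TensorProduct k K Γ(X, ⊤))
          Algebra.TensorProduct.includeLeftRingHom =
          ((Scheme.ΓSpecIso (CommRingCat.of K)).inv ≫ iY.appTop) ≫ e.inv := by
        rw [← he, Category.assoc, Iso.hom_inv_id, Category.comp_id]
      haveI := isIso_of_bijective _ h
      have h4 := bijective_of_isIso (((Scheme.ΓSpecIso (CommRingCat.of K)).inv ≫ iY.appTop) ≫ e.inv)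
      rw [← h3] at h4
      exact h4
    have hfun : ⇑(algebraMap K (TensorProduct k K Γ(X, ⊤))) =
        ⇑(Algebra.TensorProduct.includeLeftRingHom : K →+* TensorProduct k K Γ(X, ⊤)) := by
      funext r
      simp [Algebra.TensorProduct.algebraMap_apply]
    have hbij' : Function.Bijective (algebraMap K (TensorProduct k K Γ(X, ⊤))) := by
      rw [hfun]; exact hbij
    have hfin : Module.finrank K (TensorProduct k K Γ(X, ⊤)) = 1 :=
      Module.finrank_of_bijective_algebraMap hbij'
    have hfin2 : Module.finrank k Γ(X, ⊤) = 1 := by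
      rw [← Module.finrank_baseChange (R := K) (S := k) (M' := Γ(X, ⊤))]
      exact hfin
    exact Algebra.finrank_eq_one_iff_bijective_algebraMap.mp hfin2

theorem main19702 (k : Type u) [Field k] (K : Type u) [Field K] [Algebra k K]
    (G : Over (Spec (CommRingCat.of k))) [GrpObj G] [LocallyOfFiniteType G.hom]
    [QuasiCompact G.hom] :
    Function.Bijective ((Scheme.ΓSpecIso (CommRingCat.of k)).inv ≫ G.hom.appTop).hom ↔
      Function.Bijective ((Scheme.ΓSpecIso (CommRingCat.of K)).inv ≫
        (Red.bc (Spec.map (CommRingCat.ofHom (algebraMap k K))) G).hom.appTop).hom := by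
  obtain ⟨hc, hq⟩ := qcqs_of_field k G.hom
  have H : IsPullback (pullback.fst G.hom (Spec.map (CommRingCat.ofHom (algebraMap k K))))
      (Red.bc (Spec.map (CommRingCat.ofHom (algebraMap k K))) G).hom G.hom
      (Spec.map (CommRingCat.ofHom (algebraMap k K))) :=
    IsPullback.of_hasPullback G.hom _
  exact bc_iff k K G.hom H

end Groth.Agent.Helper17.AA1
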