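import Mathlib

/-!
# Coefficient-wise Krull intersection for `R ⊗[K] C` over a field `K` (helper17)
-/

set_option autoImplicit false
set_option linter.style.haveILetI false

namespace Groth.Agent.Helper17.AA3

open TensorProduct

universe u

theorem repr_map {K R B C : Type*} [CommRing K] [CommRing R] [CommRing B] [CommRing C]
    [Algebra K R] [Algebra K B] [Algebra K C] {ι : Type*} (b : Module.Basis ι K C)
    (φ : R →ₐ[K] B) (x : R ⊗[K] C) (j : ι) :
    (Algebra.TensorProduct.basis B b).repr
      (Algebra.TensorProduct.map φ (AlgHom.id K C) x) j =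
      φ ((Algebra.TensorProduct.basis R b).repr x j) := by
  induction x using TensorProduct.induction_on with
  | zero => simp
  | tmul r c =>
    simp [Algebra.TensorProduct.basis_repr_tmul]
  | add x y hx hy =>
    simp only [map_add, Finsupp.add_apply, hx, hy]

/-- The quotient of the localisation at `𝔭` by the `n`-th power of its maximal ideal. -/
abbrev Bn {R : Type u} [CommRing R] (𝔭 : Ideal R) [𝔭.IsPrime] (n : ℕ) : Type u :=
  Localization.AtPrime 𝔭 ⧸ (IsLocalRing.maximalIdeal (Localization.AtPrime 𝔭)) ^ n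

/-- `R → R_𝔭 / 𝔭ⁿ R_𝔭`. -/
noncomputable def φn (K : Type u) {R : Type u} [CommRing K] [CommRing R] [Algebra K R] (𝔭 : Ideal R)
    [𝔭.IsPrime] (n : ℕ) : R →ₐ[K] Bn 𝔭 n :=
  (Ideal.Quotient.mkₐ K _).comp (IsScalarTower.toAlgHom K R (Localization.AtPrime 𝔭))

theorem exists_smul_eq_zero (K R C : Type u) [Field K] [CommRing R] [CommRing C] [Algebra K R]
    [Algebra K C] [IsNoetherianRing R] (𝔭 : Ideal R) [𝔭.IsPrime]
    (I : Ideal (R ⊗[K] C)) (hI : I.FG)
    (H : ∀ (n : ℕ) (x : R ⊗[K] C), x ∈ I →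
      Algebra.TensorProduct.map (φn K 𝔭 n) (AlgHom.id K C) x = 0) :
    ∃ h : R, h ∉ 𝔭 ∧ ∀ x ∈ I, (h ⊗ₜ[K] (1 : C)) * x = 0 := by
  classical
  let L := Localization.AtPrime 𝔭
  haveI : IsNoetherianRing L := IsLocalization.isNoetherianRing 𝔭.primeCompl L inferInstance
  let b := Module.Free.chooseBasis K C
  let bR := Algebra.TensorProduct.basis R b
  have key : ∀ x ∈ I, ∃ h : R, h ∉ 𝔭 ∧ h • x = 0 := by
    intro x hx
    have hcoef : ∀ j, algebraMap R L (bR.repr x j) = 0 := by
      intro j
      have hmem : ∀ n, algebraMap R L (bR.repr x j) ∈ (IsLocalRing.maximalIdeal L) ^ n := by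
        intro n
        have h0 := H n x hx
        have h1 := repr_map b (φn K 𝔭 n) x j
        rw [h0] at h1
        simp only [map_zero, Finsupp.coe_zero, Pi.zero_apply] at h1
        exact Ideal.Quotient.eq_zero_iff_mem.mp h1.symm
      have h2 : algebraMap R L (bR.repr x j) ∈ ⨅ n, (IsLocalRing.maximalIdeal L) ^ n := by
        simp only [Ideal.mem_iInf]
        exact hmem
      rw [Ideal.iInf_pow_eq_bot_of_isLocalRing _
        (IsLocalRing.maximalIdeal.isMaximal L).ne_top] at h2
      simpa using h2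
    choose s hs using fun j =>
      (IsLocalization.map_eq_zero_iff 𝔭.primeCompl L _).mp (hcoef j)
    refine ⟨∏ j ∈ (bR.repr x).support, (s j : R), ?_, ?_⟩
    · intro hmem
      obtain ⟨j, _, hj⟩ := (Ideal.IsPrime.prod_mem_iff).mp hmem
      exact (s j).2 hj
    · apply bR.repr.injective
      rw [map_smul, map_zero]
      ext j
      simp only [Finsupp.smul_apply, Finsupp.coe_zero, Pi.zero_apply, smul_eq_mul]
      by_cases hj : j ∈ (bR.repr x).support
      · rw [← Finset.mul_prod_erase _ _ hj, mul_right_comm, hs j, zero_mul]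
      · rw [Finsupp.notMem_support_iff.mp hj, mul_zero]
  obtain ⟨G, hG⟩ := hI
  choose! hx hx1 hx2 using key
  have hGI : ∀ g ∈ G, g ∈ I := fun g hg => hG ▸ Ideal.subset_span hg
  refine ⟨∏ g ∈ G, hx g, ?_, ?_⟩
  · intro hmem
    obtain ⟨g, hgG, hg⟩ := (Ideal.IsPrime.prod_mem_iff).mp hmem
    exact hx1 g (hGI g hgG) hg
  · intro x hxI
    have hsm : (∏ g ∈ G, hx g) • x = 0 := by
      rw [← hG] at hxI
      refine Submodule.span_induction ?_ ?_ ?_ ?_ hxI
      · intro g hg
        have hg' : g ∈ G := hg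
        rw [← Finset.mul_prod_erase G _ hg', mul_comm, mul_smul, hx2 g (hGI g hg'), smul_zero]
      · simp
      · intro a c _ _ ha hc
        rw [smul_add, ha, hc, add_zero]
      · intro a c _ hc
        rw [smul_eq_mul, ← mul_smul_comm, hc, mul_zero]
    rw [Algebra.smul_def, Algebra.TensorProduct.algebraMap_apply] at hsm
    simpa using hsm

end Groth.Agent.Helper17.AA3
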