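import Mathlib
import Groth.Agent.Lib.Helper17.AA1
import Groth.Agent.Lib.Helper17.AA3

/-!
# Rigidity for anti-affine schemes: local part (helper17)

Test morphisms `Spec (B ⊗ C) ⟶ Y ×ₖ X`, the ideal of the equaliser on an affine chart, and the
infinitesimal agreement step.
-/

set_option autoImplicit false
set_option linter.style.haveILetI false

namespace Groth.Agent.Helper17.AA4

open CategoryTheory CategoryTheory.Limits AlgebraicGeometry TensorProduct

universe u

variable {k : Type u} [Field k]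

section Test

variable {Yb Xf : Scheme.{u}} (yh : Yb ⟶ Spec (CommRingCat.of k))
  (xh : Xf ⟶ Spec (CommRingCat.of k))

/-- the test morphism `Spec (B ⊗ C) ⟶ Yb ×ₖ Xf` -/
noncomputable def T (B C : Type u) [CommRing B] [CommRing C] [Algebra k B] [Algebra k C]
    (τ : Spec (CommRingCat.of B) ⟶ Yb)
    (hτ : τ ≫ yh = Spec.map (CommRingCat.ofHom (algebraMap k B)))
    (j : Spec (CommRingCat.of C) ⟶ Xf)
    (hj : j ≫ xh = Spec.map (CommRingCat.ofHom (algebraMap k C))) :
    Spec (CommRingCat.of (B ⊗[k] C)) ⟶ pullback yh xh :=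
  (pullbackSpecIso k B C).inv ≫
    pullback.map _ _ yh xh τ j (𝟙 _) (by rw [Category.comp_id, hτ]) (by rw [Category.comp_id, hj])

theorem T_fst (B C : Type u) [CommRing B] [CommRing C] [Algebra k B] [Algebra k C]
    (τ : Spec (CommRingCat.of B) ⟶ Yb)
    (hτ : τ ≫ yh = Spec.map (CommRingCat.ofHom (algebraMap k B)))
    (j : Spec (CommRingCat.of C) ⟶ Xf)
    (hj : j ≫ xh = Spec.map (CommRingCat.ofHom (algebraMap k C))) :
    T yh xh B C τ hτ j hj ≫ pullback.fst yh xh =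
    Spec.map (CommRingCat.ofHom
      (Algebra.TensorProduct.includeLeftRingHom : B →+* B ⊗[k] C)) ≫ τ := by
  rw [T, Category.assoc, pullback.map, pullback.lift_fst, ← Category.assoc,
    pullbackSpecIso_inv_fst]

theorem T_snd (B C : Type u) [CommRing B] [CommRing C] [Algebra k B] [Algebra k C]
    (τ : Spec (CommRingCat.of B) ⟶ Yb)
    (hτ : τ ≫ yh = Spec.map (CommRingCat.ofHom (algebraMap k B)))
    (j : Spec (CommRingCat.of C) ⟶ Xf)
    (hj : j ≫ xh = Spec.map (CommRingCat.ofHom (algebraMap k C))) :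
    T yh xh B C τ hτ j hj ≫ pullback.snd yh xh =
    Spec.map (CommRingCat.ofHom
      (Algebra.TensorProduct.includeRight : C →ₐ[k] B ⊗[k] C).toRingHom) ≫ j := by
  rw [T, Category.assoc, pullback.map, pullback.lift_snd, ← Category.assoc,
    pullbackSpecIso_inv_snd]
  rfl

theorem T_isOpenImmersion (B C : Type u) [CommRing B] [CommRing C] [Algebra k B] [Algebra k C]
    (τ : Spec (CommRingCat.of B) ⟶ Yb)
    (hτ : τ ≫ yh = Spec.map (CommRingCat.ofHom (algebraMap k B)))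
    (j : Spec (CommRingCat.of C) ⟶ Xf)
    (hj : j ≫ xh = Spec.map (CommRingCat.ofHom (algebraMap k C)))
    [IsOpenImmersion τ] [IsOpenImmersion j] :
    IsOpenImmersion (T yh xh B C τ hτ j hj) := by
  unfold T
  infer_instance

theorem range_T (B C : Type u) [CommRing B] [CommRing C] [Algebra k B] [Algebra k C]
    (τ : Spec (CommRingCat.of B) ⟶ Yb)
    (hτ : τ ≫ yh = Spec.map (CommRingCat.ofHom (algebraMap k B)))
    (j : Spec (CommRingCat.of C) ⟶ Xf)
    (hj : j ≫ xh = Spec.map (CommRingCat.ofHom (algebraMap k C))) :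
    Set.range (T yh xh B C τ hτ j hj) =
    pullback.fst yh xh ⁻¹' Set.range τ ∩ pullback.snd yh xh ⁻¹' Set.range j := by
  unfold T
  have hs : Function.Surjective (pullbackSpecIso k B C).inv :=
    (ConcreteCategory.bijective_of_isIso (pullbackSpecIso k B C).inv.base).2
  rw [Scheme.Hom.comp_base, TopCat.coe_comp, Set.range_comp, Set.range_eq_univ.mpr hs,
    Set.image_univ]
  exact Scheme.Pullback.range_map _ _ _ _ _ _ _ _ _

theorem hτ_comp {B B' : Type u} [CommRing B] [Algebra k B] [CommRing B'] [Algebra k B']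
    (τ : Spec (CommRingCat.of B) ⟶ Yb)
    (hτ : τ ≫ yh = Spec.map (CommRingCat.ofHom (algebraMap k B))) (φ : B →ₐ[k] B') :
    (Spec.map (CommRingCat.ofHom φ.toRingHom) ≫ τ) ≫ yh =
      Spec.map (CommRingCat.ofHom (algebraMap k B')) := by
  rw [Category.assoc, hτ, ← Spec.map_comp]
  congr 1
  ext x
  simp

theorem T_comp {B B' C : Type u} [CommRing B] [Algebra k B] [CommRing B'] [Algebra k B']
    [CommRing C] [Algebra k C]
    (τ : Spec (CommRingCat.of B) ⟶ Yb)
    (hτ : τ ≫ yh = Spec.map (CommRingCat.ofHom (algebraMap k B)))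
    (j : Spec (CommRingCat.of C) ⟶ Xf)
    (hj : j ≫ xh = Spec.map (CommRingCat.ofHom (algebraMap k C))) (φ : B →ₐ[k] B') :
    T yh xh B' C (Spec.map (CommRingCat.ofHom φ.toRingHom) ≫ τ) (hτ_comp yh τ hτ φ) j hj =
      Spec.map (CommRingCat.ofHom
        (Algebra.TensorProduct.map φ (AlgHom.id k C)).toRingHom) ≫ T yh xh B C τ hτ j hj := by
  apply pullback.hom_ext
  · rw [T_fst, Category.assoc, T_fst, ← Category.assoc, ← Category.assoc, ← Spec.map_comp,
      ← Spec.map_comp]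
    congr 2 <;> first | rfl | (ext x; simp)
  · rw [T_snd, Category.assoc, T_snd, ← Category.assoc, ← Spec.map_comp]
    congr 2 <;> first | rfl | (ext x; simp)

end Test

section Ideal

/-- the ideal of the equaliser of two morphisms on an affine chart -/
theorem agree_iff_le_ker {P Zt : Scheme.{u}} [Zt.IsSeparated] (A : Type u) [CommRing A]
    (w : Spec (CommRingCat.of A) ⟶ P) (a b : P ⟶ Zt) :
    ∃ I : Ideal A, ∀ (B : CommRingCat.{u}) (ψ : CommRingCat.of A ⟶ B),
      (Spec.map ψ ≫ w ≫ a = Spec.map ψ ≫ w ≫ b) ↔ I ≤ RingHom.ker ψ.hom := by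
  obtain ⟨I, e, he⟩ := IsClosedImmersion.Spec_iff.mp
    (inferInstance : IsClosedImmersion (equalizer.ι (w ≫ a) (w ≫ b)))
  refine ⟨I, fun B ψ => ⟨fun h => ?_, fun h => ?_⟩⟩
  · have hl : equalizer.lift (Spec.map ψ) h ≫ equalizer.ι (w ≫ a) (w ≫ b) = Spec.map ψ :=
      equalizer.lift_ι _ _
    rw [he] at hl
    obtain ⟨ψ', hψ'⟩ := Spec.map_surjective (equalizer.lift (Spec.map ψ) h ≫ e.hom)
    rw [← Category.assoc, ← hψ', ← Spec.map_comp] at hl
    have h2 := Spec.map_injective hl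
    intro x hx
    rw [RingHom.mem_ker, ← h2]
    have hx0 : (Ideal.Quotient.mk I) x = 0 := Ideal.Quotient.eq_zero_iff_mem.mpr hx
    simp [hx0]
  · let ψ' : CommRingCat.of (A ⧸ I) ⟶ B :=
      CommRingCat.ofHom (Ideal.Quotient.lift I ψ.hom (fun x hx => h hx))
    have hψ : ψ = CommRingCat.ofHom (Ideal.Quotient.mk I) ≫ ψ' := by
      ext x
      simp [ψ']
    have h3 : Spec.map ψ = (Spec.map ψ' ≫ e.inv) ≫ equalizer.ι (w ≫ a) (w ≫ b) := by
      rw [he, Category.assoc, Iso.inv_hom_id_assoc, ← Spec.map_comp, ← hψ]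
    rw [h3]
    simp only [Category.assoc]
    rw [equalizer.condition]

end Ideal

section Chart

variable {Yb Xf Zt : Scheme.{u}} [Zt.IsSeparated] (yh : Yb ⟶ Spec (CommRingCat.of k))
  (xh : Xf ⟶ Spec (CommRingCat.of k)) (a b : pullback yh xh ⟶ Zt)

theorem chart_spread (R C : Type u) [CommRing R] [CommRing C] [Algebra k R] [Algebra k C]
    [IsNoetherianRing R] [Algebra.FiniteType k C]
    (jR : Spec (CommRingCat.of R) ⟶ Yb)
    (hjR : jR ≫ yh = Spec.map (CommRingCat.ofHom (algebraMap k R)))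
    (jC : Spec (CommRingCat.of C) ⟶ Xf)
    (hjC : jC ≫ xh = Spec.map (CommRingCat.ofHom (algebraMap k C)))
    (𝔭 : Ideal R) [𝔭.IsPrime]
    (Hinf : ∀ n : ℕ,
      T yh xh (AA3.Bn 𝔭 n) C (Spec.map (CommRingCat.ofHom (AA3.φn k 𝔭 n).toRingHom) ≫ jR)
        (hτ_comp yh jR hjR (AA3.φn k 𝔭 n)) jC hjC ≫ a =
      T yh xh (AA3.Bn 𝔭 n) C (Spec.map (CommRingCat.ofHom (AA3.φn k 𝔭 n).toRingHom) ≫ jR)
        (hτ_comp yh jR hjR (AA3.φn k 𝔭 n)) jC hjC ≫ b) :
    ∃ h : R, h ∉ 𝔭 ∧
      T yh xh (Localization.Away h) C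
        (Spec.map (CommRingCat.ofHom
          (IsScalarTower.toAlgHom k R (Localization.Away h)).toRingHom) ≫ jR)
        (hτ_comp yh jR hjR (IsScalarTower.toAlgHom k R (Localization.Away h))) jC hjC ≫ a =
      T yh xh (Localization.Away h) C
        (Spec.map (CommRingCat.ofHom
          (IsScalarTower.toAlgHom k R (Localization.Away h)).toRingHom) ≫ jR)
        (hτ_comp yh jR hjR (IsScalarTower.toAlgHom k R (Localization.Away h))) jC hjC ≫ b := by
  obtain ⟨I, hI⟩ := agree_iff_le_ker (R ⊗[k] C) (T yh xh R C jR hjR jC hjC) a b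
  haveI : IsNoetherianRing (R ⊗[k] C) := Algebra.FiniteType.isNoetherianRing R (R ⊗[k] C)
  have hFG : I.FG := IsNoetherian.noetherian I
  have H : ∀ (n : ℕ) (x : R ⊗[k] C), x ∈ I →
      Algebra.TensorProduct.map (AA3.φn k 𝔭 n) (AlgHom.id k C) x = 0 := by
    intro n x hx
    have h1 := Hinf n
    rw [T_comp yh xh jR hjR jC hjC (AA3.φn k 𝔭 n)] at h1
    simp only [Category.assoc] at h1
    exact RingHom.mem_ker.mp ((hI _ _).mp h1 hx)
  obtain ⟨h, hh, hz⟩ := AA3.exists_smul_eq_zero k R C 𝔭 I hFG H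
  refine ⟨h, hh, ?_⟩
  rw [T_comp yh xh jR hjR jC hjC (IsScalarTower.toAlgHom k R (Localization.Away h))]
  simp only [Category.assoc]
  apply (hI _ _).mpr
  intro x hx
  rw [RingHom.mem_ker]
  have hu : IsUnit ((algebraMap R (Localization.Away h) h) ⊗ₜ[k] (1 : C)) :=
    (IsLocalization.Away.algebraMap_isUnit h).map
      (Algebra.TensorProduct.includeLeftRingHom :
        Localization.Away h →+* Localization.Away h ⊗[k] C)
  have h5 := congrArg (Algebra.TensorProduct.map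
    (IsScalarTower.toAlgHom k R (Localization.Away h)) (AlgHom.id k C)) (hz x hx)
  rw [map_mul, map_zero, Algebra.TensorProduct.map_tmul] at h5
  simp only [IsScalarTower.coe_toAlgHom', AlgHom.coe_id, id_eq] at h5
  exact (hu.mul_right_eq_zero).mp h5

end Chart

section Inf

variable {Yb Xf Zt : Scheme.{u}} (yh : Yb ⟶ Spec (CommRingCat.of k))
  (xh : Xf ⟶ Spec (CommRingCat.of k)) (a : pullback yh xh ⟶ Zt)
  (x₀ : Spec (CommRingCat.of k) ⟶ Xf) (hx₀ : x₀ ≫ xh = 𝟙 _)

/-- the section of the projection given by the rational point -/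
noncomputable def σ : Yb ⟶ pullback yh xh :=
  pullback.lift (𝟙 Yb) (yh ≫ x₀)
    (by rw [Category.id_comp, Category.assoc, hx₀, Category.comp_id])

theorem σ_fst : σ yh xh x₀ hx₀ ≫ pullback.fst yh xh = 𝟙 _ := pullback.lift_fst _ _ _

theorem σ_snd : σ yh xh x₀ hx₀ ≫ pullback.snd yh xh = yh ≫ x₀ := pullback.lift_snd _ _ _

theorem agree_artinian [CompactSpace Xf] [QuasiSeparatedSpace Xf]
    (hXf : Function.Bijective ((Scheme.ΓSpecIso (CommRingCat.of k)).inv ≫ xh.appTop).hom)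
    (B : Type u) [CommRing B] [Algebra k B]
    (τ : Spec (CommRingCat.of B) ⟶ Yb)
    (hτ : τ ≫ yh = Spec.map (CommRingCat.ofHom (algebraMap k B)))
    (y : Yb) (hy_all : ∀ p : Spec (CommRingCat.of B), τ p = y)
    (hfib : ∀ w : ↥(pullback yh xh), pullback.fst yh xh w = y →
      a w = (pullback.fst yh xh ≫ σ yh xh x₀ hx₀ ≫ a) w)
    (C : Type u) [CommRing C] [Algebra k C] (jC : Spec (CommRingCat.of C) ⟶ Xf)
    (hjC : jC ≫ xh = Spec.map (CommRingCat.ofHom (algebraMap k C))) :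
    T yh xh B C τ hτ jC hjC ≫ a =
      T yh xh B C τ hτ jC hjC ≫ pullback.fst yh xh ≫ σ yh xh x₀ hx₀ ≫ a := by
  let fB : Spec (CommRingCat.of B) ⟶ Spec (CommRingCat.of k) :=
    Spec.map (CommRingCat.ofHom (algebraMap k B))
  let u : pullback fB xh ⟶ pullback yh xh :=
    pullback.map fB xh yh xh τ (𝟙 Xf) (𝟙 _) (by rw [Category.comp_id, hτ]) (by simp)
  let v : Spec (CommRingCat.of (B ⊗[k] C)) ⟶ pullback fB xh :=
    (pullbackSpecIso k B C).inv ≫ pullback.map _ _ fB xh (𝟙 _) jC (𝟙 _)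
      (by rw [Category.comp_id, Category.id_comp])
      (by rw [Category.comp_id, hjC])
  have hu_fst : u ≫ pullback.fst yh xh = pullback.fst fB xh ≫ τ := pullback.lift_fst _ _ _
  have hu_snd : u ≫ pullback.snd yh xh = pullback.snd fB xh ≫ 𝟙 _ := pullback.lift_snd _ _ _
  have hT : T yh xh B C τ hτ jC hjC = v ≫ u := by
    apply pullback.hom_ext
    · rw [T_fst, Category.assoc, hu_fst]
      simp only [v, Category.assoc, pullback.map, pullback.lift_fst_assoc, Category.comp_id,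
        pullbackSpecIso_inv_fst_assoc]
    · rw [T_snd, Category.assoc, hu_snd]
      simp only [v, Category.assoc, pullback.map, pullback.lift_snd,
        Category.comp_id, pullbackSpecIso_inv_snd_assoc]
      rfl
  suffices hu : u ≫ a = u ≫ pullback.fst yh xh ≫ σ yh xh x₀ hx₀ ≫ a by
    rw [hT]
    simp only [Category.assoc]
    rw [hu]
  let z : Zt := (σ yh xh x₀ hx₀ ≫ a) y
  have hfst_u : ∀ w' : ↥(pullback fB xh), pullback.fst yh xh (u w') = y := by
    intro w'
    rw [← Scheme.Hom.comp_apply, hu_fst, Scheme.Hom.comp_apply]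
    exact hy_all _
  have hb_pt : ∀ w' : ↥(pullback fB xh),
      (u ≫ pullback.fst yh xh ≫ σ yh xh x₀ hx₀ ≫ a) w' = z := by
    intro w'
    rw [Scheme.Hom.comp_apply, Scheme.Hom.comp_apply, hfst_u w']
  have ha_pt : ∀ w' : ↥(pullback fB xh), (u ≫ a) w' = z := by
    intro w'
    rw [Scheme.Hom.comp_apply, hfib (u w') (hfst_u w'), Scheme.Hom.comp_apply, hfst_u w']
  obtain ⟨Z₁, hZ₁, hzZ₁, -⟩ :=
    exists_isAffineOpen_mem_and_subset (x := z) (U := ⊤) (TopologicalSpace.Opens.mem_top z)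
  have hra : Set.range (u ≫ a) ⊆ Set.range Z₁.ι := by
    rw [Scheme.Opens.range_ι]
    rintro _ ⟨w', rfl⟩
    rw [ha_pt]
    exact hzZ₁
  have hrb : Set.range (u ≫ pullback.fst yh xh ≫ σ yh xh x₀ hx₀ ≫ a) ⊆ Set.range Z₁.ι := by
    rw [Scheme.Opens.range_ι]
    rintro _ ⟨w', rfl⟩
    rw [hb_pt]
    exact hzZ₁
  have hca : IsOpenImmersion.lift Z₁.ι (u ≫ a) hra ≫ Z₁.ι = u ≫ a :=
    IsOpenImmersion.lift_fac _ _ _
  have hcb : IsOpenImmersion.lift Z₁.ι (u ≫ pullback.fst yh xh ≫ σ yh xh x₀ hx₀ ≫ a) hrb ≫ Z₁.ι =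
      u ≫ pullback.fst yh xh ≫ σ yh xh x₀ hx₀ ≫ a := IsOpenImmersion.lift_fac _ _ _
  suffices hc : IsOpenImmersion.lift Z₁.ι (u ≫ a) hra =
      IsOpenImmersion.lift Z₁.ι (u ≫ pullback.fst yh xh ≫ σ yh xh x₀ hx₀ ≫ a) hrb by
    rw [← hca, ← hcb, hc]
  haveI : IsAffine (Z₁ : Scheme.{u}) := hZ₁
  apply ext_of_isAffine
  let σB : Spec (CommRingCat.of B) ⟶ pullback fB xh :=
    pullback.lift (𝟙 _) (fB ≫ x₀)
      (by rw [Category.id_comp, Category.assoc, hx₀, Category.comp_id])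
  have hσB_fst : σB ≫ pullback.fst fB xh = 𝟙 _ := pullback.lift_fst _ _ _
  have hσB_snd : σB ≫ pullback.snd fB xh = fB ≫ x₀ := pullback.lift_snd _ _ _
  have hP := AA1.isPushout_appTop_of_field k (IsPullback.of_hasPullback fB xh)
  haveI : IsIso ((Scheme.ΓSpecIso (CommRingCat.of k)).inv ≫ xh.appTop) :=
    AA1.isIso_of_bijective _ hXf
  haveI : IsIso xh.appTop :=
    IsIso.of_isIso_comp_left (Scheme.ΓSpecIso (CommRingCat.of k)).inv _
  haveI : IsIso (pullback.fst fB xh).appTop := hP.isIso_inl_of_isIso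
  have h1 : (pullback.fst fB xh).appTop ≫ σB.appTop = 𝟙 _ := by
    rw [← Scheme.Hom.comp_appTop, hσB_fst]
    simp
  haveI : IsIso σB.appTop := by
    rw [IsIso.eq_inv_of_hom_inv_id h1]
    infer_instance
  rw [← cancel_mono σB.appTop, ← Scheme.Hom.comp_appTop, ← Scheme.Hom.comp_appTop]
  congr 1
  rw [← cancel_mono Z₁.ι, Category.assoc, Category.assoc, hca, hcb]
  have hσu : σB ≫ u = τ ≫ σ yh xh x₀ hx₀ := by
    apply pullback.hom_ext
    · rw [Category.assoc, hu_fst, ← Category.assoc, hσB_fst, Category.id_comp, Category.assoc,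
        σ_fst, Category.comp_id]
    · rw [Category.assoc, hu_snd, Category.comp_id, hσB_snd, Category.assoc, σ_snd,
        ← Category.assoc, hτ]
  rw [reassoc_of% hσu, reassoc_of% hσu, reassoc_of% (σ_fst yh xh x₀ hx₀)]

end Inf

end Groth.Agent.Helper17.AA4
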