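import Mathlib
import Groth.Agent.Lib.Helper17.AA1
import Groth.Agent.Lib.Helper17.AA3
import Groth.Agent.Lib.Helper17.AA4

/-!
# Rigidity for anti-affine schemes: global part (helper17)
-/

set_option autoImplicit false
set_option linter.style.haveILetI false

namespace Groth.Agent.Helper17.AA5

open CategoryTheory CategoryTheory.Limits AlgebraicGeometry TensorProduct

universe u

variable {k : Type u} [Field k]

theorem comap_φn {R : Type u} [CommRing R] [Algebra k R] (𝔭 : Ideal R) [𝔭.IsPrime] (n : ℕ)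
    (p : Ideal (AA3.Bn 𝔭 n)) [p.IsPrime] :
    Ideal.comap (AA3.φn k 𝔭 n).toRingHom p = 𝔭 := by
  let L := Localization.AtPrime 𝔭
  let m := IsLocalRing.maximalIdeal L
  let q : Ideal L := Ideal.comap (Ideal.Quotient.mk (m ^ n)) p
  haveI : q.IsPrime := Ideal.comap_isPrime _ _
  have h1 : m ^ n ≤ q := by
    intro x hx
    rw [Ideal.mem_comap, Ideal.Quotient.eq_zero_iff_mem.mpr hx]
    exact p.zero_mem
  have h2 : m ≤ q := Ideal.IsPrime.le_of_pow_le h1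
  have h3 : q = m := le_antisymm (IsLocalRing.le_maximalIdeal (Ideal.IsPrime.ne_top ‹_›)) h2
  ext x
  rw [Ideal.mem_comap]
  change algebraMap R L x ∈ q ↔ x ∈ 𝔭
  rw [h3]
  conv_rhs => rw [← Localization.AtPrime.under_maximalIdeal (I := 𝔭)]
  rfl

theorem chart_data {W : Scheme.{u}} (wh : W ⟶ Spec (CommRingCat.of k)) (V : W.Opens)
    (hV : IsAffineOpen V) (e : V ≤ wh ⁻¹ᵁ ⊤) :
    hV.fromSpec ≫ wh =
      Spec.map ((Scheme.ΓSpecIso (CommRingCat.of k)).inv ≫ wh.appLE ⊤ V e) := by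
  have h := IsAffineOpen.SpecMap_appLE_fromSpec wh (isAffineOpen_top _) hV e
  rw [IsAffineOpen.fromSpec_top, Scheme.isoSpec_Spec_inv] at h
  rw [← h, ← Spec.map_comp]

theorem chart_ft {W : Scheme.{u}} (wh : W ⟶ Spec (CommRingCat.of k)) [LocallyOfFiniteType wh]
    (V : W.Opens) (hV : IsAffineOpen V) (e : V ≤ wh ⁻¹ᵁ ⊤) :
    ((Scheme.ΓSpecIso (CommRingCat.of k)).inv ≫ wh.appLE ⊤ V e).hom.FiniteType := by
  rw [CommRingCat.hom_comp]
  refine RingHom.FiniteType.comp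
    (LocallyOfFiniteType.finiteType_appLE wh (isAffineOpen_top _) hV e) ?_
  apply RingHom.FiniteType.of_surjective
  exact (ConcreteCategory.bijective_of_isIso (Scheme.ΓSpecIso (CommRingCat.of k)).inv).2

section Chart

variable {Yb Xf Zt : Scheme.{u}} [Zt.IsSeparated] (yh : Yb ⟶ Spec (CommRingCat.of k))
  (xh : Xf ⟶ Spec (CommRingCat.of k)) (a : pullback yh xh ⟶ Zt)
  (x₀ : Spec (CommRingCat.of k) ⟶ Xf) (hx₀ : x₀ ≫ xh = 𝟙 _)

theorem K_chart [CompactSpace Xf] [QuasiSeparatedSpace Xf]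
    (hXf : Function.Bijective ((Scheme.ΓSpecIso (CommRingCat.of k)).inv ≫ xh.appTop).hom)
    (R C : Type u) [CommRing R] [CommRing C] [Algebra k R] [Algebra k C]
    [IsNoetherianRing R] [Algebra.FiniteType k C]
    (jR : Spec (CommRingCat.of R) ⟶ Yb) [IsOpenImmersion jR]
    (hjR : jR ≫ yh = Spec.map (CommRingCat.ofHom (algebraMap k R)))
    (jC : Spec (CommRingCat.of C) ⟶ Xf) [IsOpenImmersion jC]
    (hjC : jC ≫ xh = Spec.map (CommRingCat.ofHom (algebraMap k C)))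
    (𝔭 : PrimeSpectrum R) (y : Yb) (hy : jR 𝔭 = y)
    (hfib : ∀ w : ↥(pullback yh xh), pullback.fst yh xh w = y →
      a w = (pullback.fst yh xh ≫ AA4.σ yh xh x₀ hx₀ ≫ a) w) :
    ∃ V : Yb.Opens, y ∈ V ∧ ∀ w : ↥(pullback yh xh), pullback.fst yh xh w ∈ V →
      pullback.snd yh xh w ∈ Set.range jC →
      ∃ U : (pullback yh xh).Opens, w ∈ U ∧
        U.ι ≫ a = U.ι ≫ pullback.fst yh xh ≫ AA4.σ yh xh x₀ hx₀ ≫ a := by
  haveI : 𝔭.asIdeal.IsPrime := 𝔭.isPrime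
  have hy_all : ∀ (n : ℕ) (p : ↥(Spec (CommRingCat.of (AA3.Bn 𝔭.asIdeal n)))),
      (Spec.map (CommRingCat.ofHom (AA3.φn k 𝔭.asIdeal n).toRingHom) ≫ jR) p = y := by
    intro n p
    rw [Scheme.Hom.comp_apply, ← hy]
    congr 1
    apply PrimeSpectrum.ext
    haveI : (PrimeSpectrum.asIdeal p).IsPrime := PrimeSpectrum.isPrime p
    exact comap_φn (k := k) 𝔭.asIdeal n (PrimeSpectrum.asIdeal p)
  obtain ⟨h, hh, hT⟩ := AA4.chart_spread yh xh a
    (pullback.fst yh xh ≫ AA4.σ yh xh x₀ hx₀ ≫ a) R C jR hjR jC hjC 𝔭.asIdeal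
    (fun n => AA4.agree_artinian yh xh a x₀ hx₀ hXf (AA3.Bn 𝔭.asIdeal n) _ _ y (hy_all n) hfib
      C jC hjC)
  haveI : IsOpenImmersion (Spec.map (CommRingCat.ofHom
      (IsScalarTower.toAlgHom k R (Localization.Away h)).toRingHom)) := by
    show IsOpenImmersion (Spec.map (CommRingCat.ofHom (algebraMap R (Localization.Away h))))
    infer_instance
  haveI hTo := AA4.T_isOpenImmersion yh xh (Localization.Away h) C
    (Spec.map (CommRingCat.ofHom
      (IsScalarTower.toAlgHom k R (Localization.Away h)).toRingHom) ≫ jR)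
    (AA4.hτ_comp yh jR hjR (IsScalarTower.toAlgHom k R (Localization.Away h))) jC hjC
  refine ⟨(Spec.map (CommRingCat.ofHom
      (IsScalarTower.toAlgHom k R (Localization.Away h)).toRingHom) ≫ jR).opensRange, ?_, ?_⟩
  · have hmem : 𝔭 ∈ (PrimeSpectrum.basicOpen h : Set (PrimeSpectrum R)) := hh
    rw [← PrimeSpectrum.localization_away_comap_range (Localization.Away h) h] at hmem
    obtain ⟨p', hp'⟩ := hmem
    change y ∈ Set.range _
    refine ⟨p', ?_⟩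
    rw [Scheme.Hom.comp_apply, ← hy]
    congr 1
  · intro w hw1 hw2
    have hw : w ∈ Set.range (AA4.T yh xh (Localization.Away h) C
        (Spec.map (CommRingCat.ofHom
          (IsScalarTower.toAlgHom k R (Localization.Away h)).toRingHom) ≫ jR)
        (AA4.hτ_comp yh jR hjR (IsScalarTower.toAlgHom k R (Localization.Away h))) jC hjC) := by
      rw [AA4.range_T]
      exact ⟨hw1, hw2⟩
    refine ⟨(AA4.T yh xh (Localization.Away h) C
        (Spec.map (CommRingCat.ofHom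
          (IsScalarTower.toAlgHom k R (Localization.Away h)).toRingHom) ≫ jR)
        (AA4.hτ_comp yh jR hjR (IsScalarTower.toAlgHom k R (Localization.Away h)))
        jC hjC).opensRange, hw, ?_⟩
    rw [← Scheme.Hom.isoOpensRange_inv_comp, Category.assoc, Category.assoc, hT]

theorem K_all [CompactSpace Xf] [QuasiSeparatedSpace Xf] [LocallyOfFiniteType xh]
    [LocallyOfFiniteType yh]
    (hXf : Function.Bijective ((Scheme.ΓSpecIso (CommRingCat.of k)).inv ≫ xh.appTop).hom)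
    (y : Yb)
    (hfib : ∀ w : ↥(pullback yh xh), pullback.fst yh xh w = y →
      a w = (pullback.fst yh xh ≫ AA4.σ yh xh x₀ hx₀ ≫ a) w) :
    ∃ V : Yb.Opens, y ∈ V ∧ ∀ w : ↥(pullback yh xh), pullback.fst yh xh w ∈ V →
      ∃ U : (pullback yh xh).Opens, w ∈ U ∧
        U.ι ≫ a = U.ι ≫ pullback.fst yh xh ≫ AA4.σ yh xh x₀ hx₀ ≫ a := by
  obtain ⟨V₁, hV₁, hyV₁, -⟩ :=
    exists_isAffineOpen_mem_and_subset (x := y) (U := ⊤) (TopologicalSpace.Opens.mem_top y)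
  have eR : V₁ ≤ yh ⁻¹ᵁ ⊤ := fun _ _ => trivial
  letI algR : Algebra k Γ(Yb, V₁) :=
    ((Scheme.ΓSpecIso (CommRingCat.of k)).inv ≫ yh.appLE ⊤ V₁ eR).hom.toAlgebra
  haveI ftR : Algebra.FiniteType k Γ(Yb, V₁) := chart_ft yh V₁ hV₁ eR
  haveI : IsNoetherianRing Γ(Yb, V₁) := Algebra.FiniteType.isNoetherianRing k _
  have hjR : hV₁.fromSpec ≫ yh = Spec.map (CommRingCat.ofHom (algebraMap k Γ(Yb, V₁))) :=
    chart_data yh V₁ hV₁ eR
  have hy𝔭 : hV₁.fromSpec (hV₁.primeIdealOf ⟨y, hyV₁⟩) = y :=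
    hV₁.fromSpec_primeIdealOf ⟨y, hyV₁⟩
  have key : ∃ V : Yb.Opens, y ∈ V ∧ ∀ w : ↥(pullback yh xh), pullback.fst yh xh w ∈ V →
      pullback.snd yh xh w ∈ (Set.univ : Set Xf) →
      ∃ U : (pullback yh xh).Opens, w ∈ U ∧
        U.ι ≫ a = U.ι ≫ pullback.fst yh xh ≫ AA4.σ yh xh x₀ hx₀ ≫ a := by
    refine isCompact_univ.induction_on (p := fun S : Set Xf =>
      ∃ V : Yb.Opens, y ∈ V ∧ ∀ w : ↥(pullback yh xh), pullback.fst yh xh w ∈ V →
      pullback.snd yh xh w ∈ S →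
      ∃ U : (pullback yh xh).Opens, w ∈ U ∧
        U.ι ≫ a = U.ι ≫ pullback.fst yh xh ≫ AA4.σ yh xh x₀ hx₀ ≫ a) ?_ ?_ ?_ ?_
    · exact ⟨⊤, trivial, fun w _ hw => absurd hw (Set.notMem_empty _)⟩
    · rintro s t hst ⟨V, hyV, hV⟩
      exact ⟨V, hyV, fun w h1 h2 => hV w h1 (hst h2)⟩
    · rintro s t ⟨V, hyV, hV⟩ ⟨V', hyV', hV'⟩
      refine ⟨V ⊓ V', ⟨hyV, hyV'⟩, fun w h1 h2 => ?_⟩
      rcases h2 with h2 | h2
      · exact hV w h1.1 h2
      · exact hV' w h1.2 h2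
    · intro x _
      obtain ⟨W, hW, hxW, -⟩ :=
        exists_isAffineOpen_mem_and_subset (x := x) (U := ⊤) (TopologicalSpace.Opens.mem_top x)
      refine ⟨(W : Set Xf), ?_, ?_⟩
      · rw [nhdsWithin_univ]
        exact W.isOpen.mem_nhds hxW
      · have eC : W ≤ xh ⁻¹ᵁ ⊤ := fun _ _ => trivial
        letI algC : Algebra k Γ(Xf, W) :=
          ((Scheme.ΓSpecIso (CommRingCat.of k)).inv ≫ xh.appLE ⊤ W eC).hom.toAlgebra
        haveI : Algebra.FiniteType k Γ(Xf, W) := chart_ft xh W hW eC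
        have hjC : hW.fromSpec ≫ xh = Spec.map (CommRingCat.ofHom (algebraMap k Γ(Xf, W))) :=
          chart_data xh W hW eC
        have h5 := K_chart yh xh a x₀ hx₀ hXf Γ(Yb, V₁) Γ(Xf, W) hV₁.fromSpec hjR hW.fromSpec hjC
          (hV₁.primeIdealOf ⟨y, hyV₁⟩) y hy𝔭 hfib
        rw [hW.range_fromSpec] at h5
        exact h5
  obtain ⟨V, hyV, hV⟩ := key
  exact ⟨V, hyV, fun w hw => hV w hw (Set.mem_univ _)⟩

theorem rigid [CompactSpace Xf] [QuasiSeparatedSpace Xf] [LocallyOfFiniteType xh]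
    [LocallyOfFiniteType yh] [PreconnectedSpace Yb]
    (hXf : Function.Bijective ((Scheme.ΓSpecIso (CommRingCat.of k)).inv ≫ xh.appTop).hom)
    (y₀ : Yb)
    (h₀ : ∀ w : ↥(pullback yh xh), pullback.fst yh xh w = y₀ →
      w ∈ Set.range (equalizer.ι a (pullback.fst yh xh ≫ AA4.σ yh xh x₀ hx₀ ≫ a))) :
    a = pullback.fst yh xh ≫ AA4.σ yh xh x₀ hx₀ ≫ a := by
  have hι : equalizer.ι a (pullback.fst yh xh ≫ AA4.σ yh xh x₀ hx₀ ≫ a) ≫ a =
      equalizer.ι a (pullback.fst yh xh ≫ AA4.σ yh xh x₀ hx₀ ≫ a) ≫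
        pullback.fst yh xh ≫ AA4.σ yh xh x₀ hx₀ ≫ a := equalizer.condition _ _
  have hcl : IsClosed (Set.range
      (equalizer.ι a (pullback.fst yh xh ≫ AA4.σ yh xh x₀ hx₀ ≫ a))) :=
    (Scheme.Hom.isClosedEmbedding _).isClosed_range
  let T' : Set Yb := {y | ∀ w : ↥(pullback yh xh), pullback.fst yh xh w = y →
    w ∈ Set.range (equalizer.ι a (pullback.fst yh xh ≫ AA4.σ yh xh x₀ hx₀ ≫ a))}
  have hT'cl : IsClosed T' := by
    rw [← isOpen_compl_iff]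
    have hc : T'ᶜ = pullback.fst yh xh ''
        (Set.range (equalizer.ι a (pullback.fst yh xh ≫ AA4.σ yh xh x₀ hx₀ ≫ a)))ᶜ := by
      ext y
      simp only [T', Set.mem_compl_iff, Set.mem_ofPred_eq, Set.mem_image, not_forall]
      constructor
      · rintro ⟨w, hw, hn⟩
        exact ⟨w, hn, hw⟩
      · rintro ⟨w, hn, hw⟩
        exact ⟨w, hw, hn⟩
    rw [hc]
    exact (pullback.fst yh xh).isOpenMap _ hcl.isOpen_compl
  have hfibT : ∀ y ∈ T', ∀ w : ↥(pullback yh xh), pullback.fst yh xh w = y →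
      a w = (pullback.fst yh xh ≫ AA4.σ yh xh x₀ hx₀ ≫ a) w := by
    intro y hy w hw
    obtain ⟨e, rfl⟩ := hy w hw
    rw [← Scheme.Hom.comp_apply, ← Scheme.Hom.comp_apply, hι]
  have hloc : ∀ w : ↥(pullback yh xh), (∃ U : (pullback yh xh).Opens, w ∈ U ∧
      U.ι ≫ a = U.ι ≫ pullback.fst yh xh ≫ AA4.σ yh xh x₀ hx₀ ≫ a) →
      w ∈ Set.range (equalizer.ι a (pullback.fst yh xh ≫ AA4.σ yh xh x₀ hx₀ ≫ a)) := by
    rintro w ⟨U, hwU, hU⟩
    refine ⟨equalizer.lift U.ι hU ⟨w, hwU⟩, ?_⟩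
    rw [← Scheme.Hom.comp_apply, equalizer.lift_ι]
    rfl
  have hT'op : IsOpen T' := by
    rw [isOpen_iff_forall_mem_open]
    intro y hy
    obtain ⟨V, hyV, hV⟩ := K_all yh xh a x₀ hx₀ hXf y (hfibT y hy)
    exact ⟨V, fun y' hy' w hw => hloc w (hV w (hw ▸ hy')), V.isOpen, hyV⟩
  have hT'univ : T' = Set.univ :=
    (isClopen_iff.mp ⟨hT'cl, hT'op⟩).resolve_left (Set.nonempty_iff_ne_empty.mp ⟨y₀, h₀⟩)
  apply Scheme.hom_ext_of_forall
  intro w
  have hw : pullback.fst yh xh w ∈ T' := hT'univ ▸ Set.mem_univ _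
  obtain ⟨V, hyV, hV⟩ := K_all yh xh a x₀ hx₀ hXf _ (hfibT _ hw)
  exact hV w hyV

end Chart

end Groth.Agent.Helper17.AA5
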