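import Mathlib
import Groth.Prelude.Def_AlgGrp
import Groth.Agent.Lib.Helper17.AA1
import Groth.Agent.Lib.Helper17.AA5

/-!
# Rigidity for anti-affine schemes: statement over a field (helper17)
-/

set_option autoImplicit false
set_option linter.style.haveILetI false

namespace Groth.Agent.Helper17.AA6

open CategoryTheory CategoryTheory.Limits MonoidalCategory CartesianMonoidalCategory MonObj
  AlgebraicGeometry

universe u

/-- Rigidity lemma for an anti-affine `X` with a rational point `x₀`: a morphism `X × Y → Z` which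
is constant on `X × y₀` factors through the second projection. -/
theorem rigid_over (k : Type u) [Field k]
    (X Y Z : Over (Spec (CommRingCat.of k))) [LocallyOfFiniteType X.hom] [QuasiCompact X.hom]
    [LocallyOfFiniteType Y.hom]
    (hX : Function.Bijective ((Scheme.ΓSpecIso (CommRingCat.of k)).inv ≫ X.hom.appTop).hom)
    [PreconnectedSpace ↥Y.left] [IsSeparated Z.hom]
    (x₀ : 𝟙_ (Over (Spec (CommRingCat.of k))) ⟶ X)
    (f : X ⊗ Y ⟶ Z) (y₀ : 𝟙_ (Over (Spec (CommRingCat.of k))) ⟶ Y)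
    (z₀ : 𝟙_ (Over (Spec (CommRingCat.of k))) ⟶ Z)
    (hf : (X ◁ y₀) ≫ f = toUnit _ ≫ z₀) :
    f = snd X Y ≫ lift (toUnit Y ≫ x₀) (𝟙 Y) ≫ f := by
  obtain ⟨hc, hqs⟩ := AA1.qcqs_of_field k X.hom
  haveI := hc
  haveI := hqs
  haveI : Z.left.IsSeparated :=
    (HasAffineProperty.iff_of_isAffine (P := @IsSeparated) (f := Z.hom)).mp inferInstance
  let m' : X ⟶ X ⊗ Y := lift (𝟙 X) (toUnit X ≫ y₀)
  have hm' : m' ≫ f = toUnit X ≫ z₀ := by
    have h1 : m' = (ρ_ X).inv ≫ (X ◁ y₀) := by
      apply CartesianMonoidalCategory.hom_ext <;> simp [m']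
    rw [h1, Category.assoc, hf, ← Category.assoc]
    congr 1
    exact toUnit_unique _ _
  have hxy : lift x₀ y₀ ≫ f = z₀ := by
    have h2 : lift x₀ y₀ = x₀ ≫ m' := by
      apply CartesianMonoidalCategory.hom_ext
      · simp [m']
      · simp only [m', lift_snd, Category.assoc]
        rw [← Category.assoc, toUnit_unique (x₀ ≫ toUnit X) (𝟙 _), Category.id_comp]
    rw [h2, Category.assoc, hm', ← Category.assoc, toUnit_unique (x₀ ≫ toUnit X) (𝟙 _),
      Category.id_comp]
  have hm'2 : m' ≫ snd X Y ≫ lift (toUnit Y ≫ x₀) (𝟙 Y) ≫ f = toUnit X ≫ z₀ := by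
    have h3 : m' ≫ snd X Y = toUnit X ≫ y₀ := by simp [m']
    have h4 : y₀ ≫ lift (toUnit Y ≫ x₀) (𝟙 Y) = lift x₀ y₀ := by
      apply CartesianMonoidalCategory.hom_ext
      · simp only [Category.assoc, lift_fst]
        rw [← Category.assoc, toUnit_unique (y₀ ≫ toUnit Y) (𝟙 _), Category.id_comp]
      · simp
    rw [reassoc_of% h3, reassoc_of% h4, hxy]
  -- scheme level
  let s := pullbackSymmetry X.hom Y.hom
  have hx₀ : x₀.left ≫ X.hom = 𝟙 (Spec (CommRingCat.of k)) := Over.w x₀
  have hy₀ : y₀.left ≫ Y.hom = 𝟙 (Spec (CommRingCat.of k)) := Over.w y₀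
  let y₀' : Spec (CommRingCat.of k) ⟶ Y.left := y₀.left
  let pt : ↥(Spec (CommRingCat.of k)) := IsLocalRing.closedPoint k
  let a : pullback Y.hom X.hom ⟶ Z.left := s.inv ≫ f.left
  have hσ : AA4.σ Y.hom X.hom x₀.left hx₀ ≫ s.inv = (lift (toUnit Y ≫ x₀) (𝟙 Y)).left := by
    apply pullback.hom_ext
    · rw [Category.assoc, pullbackSymmetry_inv_comp_fst, AA4.σ_snd]
      change _ = (lift (toUnit Y ≫ x₀) (𝟙 Y)).left ≫ (fst X Y).left
      rw [← Over.comp_left, lift_fst]
      rfl
    · rw [Category.assoc, pullbackSymmetry_inv_comp_snd, AA4.σ_fst]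
      change _ = (lift (toUnit Y ≫ x₀) (𝟙 Y)).left ≫ (snd X Y).left
      rw [← Over.comp_left, lift_snd]
      rfl
  have h₀ : ∀ w : ↥(pullback Y.hom X.hom), pullback.fst Y.hom X.hom w = y₀' pt →
      w ∈ Set.range (equalizer.ι a
        (pullback.fst Y.hom X.hom ≫ AA4.σ Y.hom X.hom x₀.left hx₀ ≫ a)) := by
    intro w hw
    let mm : X.left ⟶ pullback Y.hom X.hom := pullback.lift (X.hom ≫ y₀') (𝟙 _)
      (by rw [Category.assoc, hy₀, Category.comp_id, Category.id_comp])
    have hmm1 : mm ≫ pullback.fst Y.hom X.hom = X.hom ≫ y₀' := pullback.lift_fst _ _ _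
    have hmm2 : mm ≫ pullback.snd Y.hom X.hom = 𝟙 _ := pullback.lift_snd _ _ _
    have hmm3 : mm ≫ s.inv = m'.left := by
      apply pullback.hom_ext
      · rw [Category.assoc, pullbackSymmetry_inv_comp_fst, hmm2]
        change _ = m'.left ≫ (fst X Y).left
        rw [← Over.comp_left, lift_fst]
        rfl
      · rw [Category.assoc, pullbackSymmetry_inv_comp_snd, hmm1]
        change _ = m'.left ≫ (snd X Y).left
        rw [← Over.comp_left, lift_snd]
        rfl
    have hmma : mm ≫ a =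
        mm ≫ pullback.fst Y.hom X.hom ≫ AA4.σ Y.hom X.hom x₀.left hx₀ ≫ a := by
      have e1 : mm ≫ a = (toUnit X ≫ z₀).left := by
        rw [← hm', Over.comp_left, ← hmm3, Category.assoc]
      have e2 : mm ≫ pullback.fst Y.hom X.hom ≫ AA4.σ Y.hom X.hom x₀.left hx₀ ≫ a =
          (toUnit X ≫ z₀).left := by
        rw [← hm'2]
        simp only [Over.comp_left]
        rw [← hmm3, ← hσ]
        simp only [Category.assoc, a]
        congr 1
        rw [← Category.assoc s.inv,
          show s.inv ≫ (snd X Y).left = pullback.fst Y.hom X.hom from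
            pullbackSymmetry_inv_comp_snd _ _]
      rw [e1, e2]
    obtain ⟨z, hz1, -⟩ := Scheme.Pullback.exists_preimage_pullback
      (f := pullback.fst Y.hom X.hom) (g := y₀') w pt hw
    let q := pullback.fst (pullback.fst Y.hom X.hom) y₀'
    have hq : q = (q ≫ pullback.snd Y.hom X.hom) ≫ mm := by
      apply pullback.hom_ext
      · rw [Category.assoc, Category.assoc, hmm1]
        have h7 : pullback.snd (pullback.fst Y.hom X.hom) y₀' =
            q ≫ pullback.snd Y.hom X.hom ≫ X.hom := by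
          rw [← pullback.condition, ← Category.assoc,
            pullback.condition (f := pullback.fst Y.hom X.hom), Category.assoc, hy₀,
            Category.comp_id]
        rw [pullback.condition, h7]
        simp only [Category.assoc]
      · rw [Category.assoc, Category.assoc, hmm2, Category.comp_id]
    have hwmm : w ∈ Set.range mm :=
      ⟨(q ≫ pullback.snd Y.hom X.hom) z, by
        rw [← Scheme.Hom.comp_apply, ← hq]
        exact hz1⟩
    obtain ⟨x, rfl⟩ := hwmm
    refine ⟨equalizer.lift mm hmma x, ?_⟩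
    rw [← Scheme.Hom.comp_apply, equalizer.lift_ι]
  have key := AA5.rigid Y.hom X.hom a x₀.left hx₀ hX (y₀' pt) h₀
  apply Over.OverMorphism.ext
  have h5 : f.left = s.hom ≫ a := by simp [a]
  calc f.left = s.hom ≫ a := h5
    _ = s.hom ≫ pullback.fst Y.hom X.hom ≫ AA4.σ Y.hom X.hom x₀.left hx₀ ≫ a := by rw [← key]
    _ = (snd X Y ≫ lift (toUnit Y ≫ x₀) (𝟙 Y) ≫ f).left := by
      simp only [Over.comp_left]
      rw [← hσ]
      simp only [Category.assoc, a]
      rw [← Category.assoc s.hom,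
        show s.hom ≫ pullback.fst Y.hom X.hom = (snd X Y).left from
          pullbackSymmetry_hom_comp_fst _ _]

theorem main11395 (k : Type u) [Field k] [IsAlgClosed k]
    (X Y Z : Over (Spec (CommRingCat.of k))) [LocallyOfFiniteType X.hom] [QuasiCompact X.hom]
    [LocallyOfFiniteType Y.hom] [QuasiCompact Y.hom] [LocallyOfFiniteType Z.hom]
    [QuasiCompact Z.hom]
    (hX : Function.Bijective ((Scheme.ΓSpecIso (CommRingCat.of k)).inv ≫ X.hom.appTop).hom)
    [ConnectedSpace ↥Y.left] [IsSeparated Z.hom]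
    (f : X ⊗ Y ⟶ Z) (y₀ : 𝟙_ (Over (Spec (CommRingCat.of k))) ⟶ Y)
    (z₀ : 𝟙_ (Over (Spec (CommRingCat.of k))) ⟶ Z)
    (hf : (X ◁ y₀) ≫ f = toUnit _ ≫ z₀) :
    ∃! g : Y ⟶ Z, f = snd X Y ≫ g := by
  obtain ⟨hc, hqs⟩ := AA1.qcqs_of_field k X.hom
  haveI := hc
  -- `X` is nonempty, as its ring of global functions is nonzero
  haveI hne : Nonempty ↥X.left := by
    by_contra hE
    rw [not_nonempty_iff] at hE
    haveI : Subsingleton Γ(X.left, ⊤) := by
      have : (⊤ : X.left.Opens) = ⊥ := by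
        ext x
        exact (hE.false x).elim
      rw [this]
      infer_instance
    have h01 : (0 : k) = 1 := hX.1 (Subsingleton.elim _ _)
    exact zero_ne_one h01
  obtain ⟨x, -, hx⟩ := IsClosed.exists_closed_singleton (X := ↥X.left) isClosed_univ
    Set.univ_nonempty
  let x₀ : 𝟙_ (Over (Spec (CommRingCat.of k))) ⟶ X :=
    Over.homMk (pointOfClosedPoint X.hom x hx) (by simp)
  have hsec : lift (toUnit Y ≫ x₀) (𝟙 Y) ≫ snd X Y = 𝟙 Y := lift_snd _ _
  refine ⟨lift (toUnit Y ≫ x₀) (𝟙 Y) ≫ f, rigid_over k X Y Z hX x₀ f y₀ z₀ hf, ?_⟩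
  intro g hg
  rw [hg, ← Category.assoc, hsec, Category.id_comp]

end Groth.Agent.Helper17.AA6
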