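import Mathlib

/-!
# Cotangent space versus Kähler differentials at a rational point
-/

set_option autoImplicit false

universe u

open scoped TensorProduct
open IsLocalRing KaehlerDifferential

namespace Groth.Agent.Helper17.KR

/-- transport of the cotangent module along an equality of ideals -/
noncomputable def cotangentEquivOfEq {R : Type*} [CommRing R] (I J : Ideal R) (h : I = J) :
    I.Cotangent ≃ₗ[R] J.Cotangent := by
  subst h
  exact LinearEquiv.refl _ _

variable (k B : Type u) [Field k] [CommRing B] [Algebra k B] [IsLocalRing B]

theorem kerCotangentToTensor_bijective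
    (hres : Function.Bijective (algebraMap k (ResidueField B))) :
    Function.Bijective (kerCotangentToTensor k B (ResidueField B)) := by
  have hsurj : Function.Surjective (algebraMap B (ResidueField B)) :=
    IsLocalRing.residue_surjective
  constructor
  · let e : k ≃ₐ[k] ResidueField B := AlgEquiv.ofBijective (Algebra.ofId k (ResidueField B)) hres
    let g : ResidueField B →ₐ[k] (B ⧸ RingHom.ker (algebraMap B (ResidueField B)) ^ 2) :=
      (Algebra.ofId k _).comp e.symm.toAlgHom
    have hg : (IsScalarTower.toAlgHom k B (ResidueField B)).kerSquareLift.comp g =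
        AlgHom.id k (ResidueField B) := by
      ext x
      obtain ⟨c, rfl⟩ := hres.2 x
      simp
    obtain ⟨l, hl⟩ := (retractionKerCotangentToTensorEquivSection (R := k) hsurj).symm ⟨g, hg⟩
    intro x y hxy
    have hx := LinearMap.congr_fun hl x
    have hy := LinearMap.congr_fun hl y
    simp only [LinearMap.comp_apply, LinearMap.id_apply] at hx hy
    rw [← hx, ← hy, hxy]
  · intro y
    have hexact := exact_kerCotangentToTensor_mapBaseChange k B (ResidueField B) hsurj
    have : Subsingleton Ω[ResidueField B⁄k] :=
      KaehlerDifferential.subsingleton_of_surjective k (ResidueField B) hres.2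
    exact (hexact y).mp (Subsingleton.elim _ _)

theorem finrank_cotangentSpace_eq
    (hres : Function.Bijective (algebraMap k (ResidueField B))) :
    Module.finrank (ResidueField B) (CotangentSpace B) =
      Module.finrank (ResidueField B) (ResidueField B ⊗[B] Ω[B⁄k]) := by
  have hsurj : Function.Surjective (algebraMap B (ResidueField B)) :=
    IsLocalRing.residue_surjective
  have hker : RingHom.ker (algebraMap B (ResidueField B)) = maximalIdeal B :=
    IsLocalRing.ker_residue
  let f : (RingHom.ker (algebraMap B (ResidueField B))).Cotangent ≃ₗ[B]
      ResidueField B ⊗[B] Ω[B⁄k] :=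
    LinearEquiv.ofBijective _ (kerCotangentToTensor_bijective k B hres)
  let e2 : CotangentSpace B ≃ₗ[B] ResidueField B ⊗[B] Ω[B⁄k] :=
    (cotangentEquivOfEq _ _ hker).symm ≪≫ₗ f
  exact (e2.extendScalarsOfSurjective hsurj).finrank_eq

end Groth.Agent.Helper17.KR
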