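import Mathlib
import Groth.Agent.Lib.Helper17.KR1
import Groth.Agent.Lib.Helper14.RegSmooth
import Groth.Agent.Lib.Helper14.SepGen

/-!
# Freeness of differentials versus regularity at a rational point
-/

set_option autoImplicit false

universe u

open scoped TensorProduct
open IsLocalRing KaehlerDifferential

namespace Groth.Agent.Helper17.KR

variable (k B : Type u) [Field k] [CommRing B] [Algebra k B]

theorem finrank_cotangentSpace_eq_of_free [IsLocalRing B] [Module.Free B Ω[B⁄k]]
    (hres : Function.Bijective (algebraMap k (ResidueField B))) :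
    Module.finrank (ResidueField B) (CotangentSpace B) = Module.finrank B Ω[B⁄k] := by
  rw [finrank_cotangentSpace_eq k B hres, Module.finrank_baseChange]

theorem isRegularLocalRing_of_free [IsLocalRing B] [Algebra.EssFiniteType k B]
    (hres : Function.Bijective (algebraMap k (ResidueField B)))
    (d : ℕ) (hd : ringKrullDim B = (d : WithBot ℕ∞))
    (h : Module.Free B Ω[B⁄k] ∧ Module.finrank B Ω[B⁄k] = d) : IsRegularLocalRing B := by
  obtain ⟨hfree, hrank⟩ := h
  have : IsNoetherianRing B := Algebra.EssFiniteType.isNoetherianRing k B
  rw [IsRegularLocalRing.iff_finrank_cotangentSpace, finrank_cotangentSpace_eq_of_free k B hres,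
    hrank, hd]

theorem exists_finiteType_localization [IsLocalRing B] [Algebra.EssFiniteType k B] :
    ∃ (S : Subalgebra k B) (_ : Algebra.FiniteType k S) (q : Ideal S) (_ : q.IsPrime),
      IsLocalization.AtPrime B q := by
  refine ⟨Algebra.EssFiniteType.subalgebra k B, inferInstance,
    (maximalIdeal B).comap (algebraMap (Algebra.EssFiniteType.subalgebra k B) B),
    Ideal.comap_isPrime _ _, ?_⟩
  have hM : Algebra.EssFiniteType.submonoid k B =
      ((maximalIdeal B).comap
        (algebraMap (Algebra.EssFiniteType.subalgebra k B) B)).primeCompl := by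
    ext x
    simp only [Algebra.EssFiniteType.submonoid, Submonoid.mem_comap, IsUnit.mem_submonoid_iff,
      Ideal.mem_primeCompl_iff, Ideal.mem_comap, mem_maximalIdeal, mem_nonunits_iff, not_not]
  change IsLocalization (Ideal.primeCompl _) B
  rw [← hM]
  infer_instance

theorem free_of_isRegularLocalRing [IsLocalRing B] [Algebra.EssFiniteType k B] [PerfectField k]
    (hres : Function.Bijective (algebraMap k (ResidueField B)))
    (d : ℕ) (hd : ringKrullDim B = (d : WithBot ℕ∞)) [IsRegularLocalRing B] :
    Module.Free B Ω[B⁄k] ∧ Module.finrank B Ω[B⁄k] = d := by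
  obtain ⟨S, hS, q, hq, hloc⟩ := exists_finiteType_localization k B
  let e : Localization.AtPrime q ≃ₐ[S] B := IsLocalization.algEquiv q.primeCompl _ _
  have hreg' : IsRegularLocalRing (Localization.AtPrime q) :=
    IsRegularLocalRing.of_ringEquiv e.symm.toRingEquiv
  have hgr : Algebra.IsGeometricallyReduced k q.ResidueField := by
    rw [Algebra.isGeometricallyReduced_field_iff]
    have h1 : IsReduced (q.ResidueField ⊗[k] AlgebraicClosure k) :=
      Groth.Agent.Helper14.isReduced_tensor_of_perfectField
    exact isReduced_of_injective
      (Algebra.TensorProduct.comm k (AlgebraicClosure k) q.ResidueField)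
      (AlgEquiv.injective _)
  have hsm : Algebra.FormallySmooth k (Localization.AtPrime q) :=
    Groth.Agent.Helper14.RegSmooth.isSmoothAt_of_regular k S q
  have hsmB : Algebra.FormallySmooth k B := Algebra.FormallySmooth.of_equiv (e.restrictScalars k)
  have hfree : Module.Free B Ω[B⁄k] := Module.free_of_flat_of_isLocalRing
  refine ⟨hfree, ?_⟩
  have h1 := (IsRegularLocalRing.iff_finrank_cotangentSpace B).mp inferInstance
  rw [finrank_cotangentSpace_eq_of_free k B hres, hd] at h1
  exact_mod_cast h1

theorem main11311 (k B : Type u) [Field k] [CommRing B] [Algebra k B]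
    [IsLocalRing B] [Algebra.EssFiniteType k B]
    (hres : Function.Bijective (algebraMap k (IsLocalRing.ResidueField B)))
    (d : ℕ) (hd : ringKrullDim B = (d : WithBot ℕ∞)) :
    ((Module.Free B (KaehlerDifferential k B) ∧ Module.finrank B (KaehlerDifferential k B) = d) →
        IsRegularLocalRing B) ∧
      (PerfectField k → IsRegularLocalRing B →
        Module.Free B (KaehlerDifferential k B) ∧
          Module.finrank B (KaehlerDifferential k B) = d) :=
  ⟨isRegularLocalRing_of_free k B hres d hd, fun hp hr => by
    have := hp
    have := hr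
    exact free_of_isRegularLocalRing k B hres d hd⟩

end Groth.Agent.Helper17.KR
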