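import Mathlib
import Groth.Prelude.Def_AlgGrp
import Groth.Agent.Lib.Helper17.AA6
import Groth.Agent.Lib.Helper12.GrpSchSep

/-!
# Morphisms from anti-affine groups preserving the unit are homomorphisms (helper17)
-/

set_option autoImplicit false
set_option linter.style.haveILetI false

namespace Groth.Agent.Helper17.AA7

open CategoryTheory CategoryTheory.Limits MonoidalCategory CartesianMonoidalCategory MonObj
  AlgebraicGeometry Opposite

universe u

/-- a scheme whose ring of global functions is a field is preconnected -/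
theorem preconnected_of_field (k : Type u) [Field k] {X : Scheme.{u}}
    (xh : X ⟶ Spec (CommRingCat.of k))
    (hX : Function.Bijective ((Scheme.ΓSpecIso (CommRingCat.of k)).inv ≫ xh.appTop).hom) :
    PreconnectedSpace X := by
  rw [preconnectedSpace_iff_clopen]
  intro s hs
  let U : X.Opens := ⟨s, hs.isOpen⟩
  let V : X.Opens := ⟨sᶜ, hs.compl.isOpen⟩
  have hUV : U ⊓ V = ⊥ := by
    ext x
    simp [U, V]
  have hsup : (⊤ : X.Opens) ≤ U ⊔ V := by
    intro x _
    by_cases hx : x ∈ s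
    · exact Or.inl hx
    · exact Or.inr hx
  haveI : Subsingleton (X.sheaf.1.obj (op (U ⊓ V))) := by
    rw [hUV]
    change Subsingleton Γ(X, ⊥)
    infer_instance
  let xx : CommRingCat.of (RingHom.eqLocus
      (RingHom.comp (X.sheaf.obj.map (homOfLE inf_le_left : U ⊓ V ⟶ U).op).hom
        (RingHom.fst (X.sheaf.obj.obj <| op U) (X.sheaf.obj.obj <| op V)))
      (RingHom.comp (X.sheaf.obj.map (homOfLE inf_le_right : U ⊓ V ⟶ V).op).hom
        (RingHom.snd (X.sheaf.obj.obj <| op U) (X.sheaf.obj.obj <| op V)))) :=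
    ⟨((1 : Γ(X, U)), (0 : Γ(X, V))), Subsingleton.elim _ _⟩
  let y : Γ(X, ⊤) := X.presheaf.map (homOfLE hsup).op
    ((X.sheaf.objSupIsoProdEqLocus U V).inv xx)
  have hy := (TopCat.Sheaf.objSupIsoProdEqLocus_inv_eq_iff X.sheaf hsup xx y
    (inf_top_eq U).symm (inf_top_eq V).symm).mp rfl
  obtain ⟨hy1, hy2⟩ := hy
  have hxx1 : xx.1.1 = (1 : Γ(X, U)) := rfl
  have hxx2 : xx.1.2 = (0 : Γ(X, V)) := rfl
  rw [hxx1] at hy1
  rw [hxx2] at hy2
  replace hy1 := hy1.symm.trans (map_one _)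
  replace hy2 := hy2.symm.trans (map_zero _)
  obtain ⟨c, hc⟩ := hX.2 y
  by_cases hc0 : c = 0
  · left
    have hy0 : y = 0 := by rw [← hc, hc0, map_zero]
    rw [hy0] at hy1
    have h01 : (0 : Γ(X, U)) = 1 := (map_zero _).symm.trans hy1
    have hU : U = ⊥ := by
      rw [← X.basicOpen_of_isUnit (isUnit_one : IsUnit (1 : Γ(X, U))), ← h01, X.basicOpen_zero]
    exact congrArg (fun W : X.Opens => (W : Set X)) hU
  · right
    have hyu : IsUnit y := by
      rw [← hc]
      exact (IsUnit.mk0 c hc0).map _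
    have h0u : IsUnit (0 : Γ(X, V)) := (congrArg IsUnit hy2).mp (hyu.map _)
    have hV : V = ⊥ := by
      rw [← X.basicOpen_of_isUnit h0u, X.basicOpen_zero]
    have hsc : sᶜ = ∅ := congrArg (fun W : X.Opens => (W : Set X)) hV
    exact Set.compl_empty_iff.mp hsc

theorem main14578 (k : Type u) [Field k]
    (H G : Over (Spec (CommRingCat.of k))) [GrpObj H] [GrpObj G] [LocallyOfFiniteType H.hom]
    [QuasiCompact H.hom] [LocallyOfFiniteType G.hom] [QuasiCompact G.hom]
    (hH : Function.Bijective ((Scheme.ΓSpecIso (CommRingCat.of k)).inv ≫ H.hom.appTop).hom)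
    (f : H ⟶ G) (hf : η[H] ≫ f = η[G]) : IsMonHom f := by
  haveI : PreconnectedSpace ↥H.left := preconnected_of_field k H.hom hH
  haveI : IsSeparated G.hom := Groth.Agent.Helper12.isSeparated_of_grpObj G
  let φ : H ⊗ H ⟶ G := (μ[H] ≫ f) * (snd H H ≫ f)⁻¹ * (fst H H ≫ f)⁻¹
  have hsnd1 : snd H (𝟙_ (Over (Spec (CommRingCat.of k)))) ≫ η[G] = 1 := by
    rw [Hom.one_def]
    congr 1
    exact toUnit_unique _ _
  have h1 : (H ◁ η[H]) ≫ φ = toUnit _ ≫ η[G] := by
    rw [← Hom.one_def]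
    simp only [φ, MonObj.comp_mul, GrpObj.comp_inv]
    rw [← Category.assoc (H ◁ η[H]) μ[H], MonObj.mul_one,
      ← Category.assoc (H ◁ η[H]) (snd H H), whiskerLeft_snd,
      ← Category.assoc (H ◁ η[H]) (fst H H), whiskerLeft_fst, Category.assoc, hf, hsnd1,
      rightUnitor_hom]
    simp
  have h2 := AA6.rigid_over k H H G hH η[H] φ η[H] η[G] h1
  have h3 : lift (toUnit H ≫ η[H]) (𝟙 H) ≫ φ = 1 := by
    simp only [φ, MonObj.comp_mul, GrpObj.comp_inv]
    have h1f : (1 : H ⟶ H) ≫ f = 1 := by rw [Hom.one_def, Category.assoc, hf, ← Hom.one_def]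
    rw [← Category.assoc _ μ[H], ← Hom.mul_def, ← Hom.one_def, _root_.one_mul, Category.id_comp,
      ← Category.assoc _ (snd H H), lift_snd, ← Category.assoc _ (fst H H), lift_fst,
      Category.id_comp, h1f]
    simp
  have h4 : φ = 1 := by rw [h2, h3, MonObj.comp_one]
  have h5 : μ[H] ≫ f = (fst H H ≫ f) * (snd H H ≫ f) := by
    have h6 : (μ[H] ≫ f) * (snd H H ≫ f)⁻¹ = fst H H ≫ f := mul_inv_eq_one.mp h4
    exact mul_inv_eq_iff_eq_mul.mp h6
  exact
    { one_hom := hf
      mul_hom := by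
        rw [h5, MonObj.mul_eq_mul G, MonObj.comp_mul, tensorHom_fst, tensorHom_snd] }

end Groth.Agent.Helper17.AA7
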