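import Mathlib
import Groth.Prelude.Def_AlgGrp
import Groth.Agent.Lib.Helper17.AA7

/-!
# Proper integral schemes with a rational point are anti-affine; Albanese factorisation (helper17)
-/

set_option autoImplicit false
set_option linter.style.haveILetI false

namespace Groth.Agent.Helper17.AB2

open CategoryTheory CategoryTheory.Limits MonoidalCategory CartesianMonoidalCategory MonObj
  AlgebraicGeometry Opposite

universe u

/-- an integral scheme universally closed over a field with a rational point has only constant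
global functions -/
theorem antiAffine_of_point (k : Type u) [Field k] {X : Scheme.{u}}
    (f : X ⟶ Spec (CommRingCat.of k)) [IsIntegral X] [UniversallyClosed f]
    (x₀ : Spec (CommRingCat.of k) ⟶ X) (hx₀ : x₀ ≫ f = 𝟙 _) :
    Function.Bijective ((Scheme.ΓSpecIso (CommRingCat.of k)).inv ≫ f.appTop).hom := by
  have hK : IsField Γ(X, ⊤) := isField_of_universallyClosed k f
  let F : CommRingCat.of k ⟶ Γ(X, ⊤) := (Scheme.ΓSpecIso (CommRingCat.of k)).inv ≫ f.appTop
  let E : Γ(X, ⊤) ⟶ CommRingCat.of k := x₀.appTop ≫ (Scheme.ΓSpecIso (CommRingCat.of k)).hom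
  have hFE : F ≫ E = 𝟙 _ := by
    simp only [F, E, Category.assoc]
    rw [← Category.assoc f.appTop, ← Scheme.Hom.comp_appTop, hx₀]
    simp
  have hEF : ∀ c : k, E.hom (F.hom c) = c := fun c => by
    have := congrArg (fun t => t.hom c) hFE
    simpa using this
  have hEinj : Function.Injective E.hom := by
    rw [injective_iff_map_eq_zero]
    intro x hx
    by_contra hne
    obtain ⟨y, hy⟩ := hK.mul_inv_cancel hne
    have h1 : E.hom x * E.hom y = 1 := by rw [← map_mul, hy, map_one]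
    rw [hx, zero_mul] at h1
    exact zero_ne_one h1
  constructor
  · intro a b hab
    have := congrArg E.hom hab
    rwa [hEF, hEF] at this
  · intro y
    exact ⟨E.hom y, hEinj (hEF _)⟩

/-- abelian varieties over any field are anti-affine -/
theorem antiAffine_abelian' (k : Type u) [Field k]
    (A : Over (Spec (CommRingCat.of k))) [GrpObj A] [IsProper A.hom] [GeometricallyIntegral A.hom] :
    Function.Bijective ((Scheme.ΓSpecIso (CommRingCat.of k)).inv ≫ A.hom.appTop).hom := by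
  haveI : IsIntegral A.left := GeometricallyIntegral.isIntegral_of_subsingleton A.hom
  exact antiAffine_of_point k A.hom η[A].left (Over.w η[A])

theorem albanese_factor (k : Type u) [Field k] (XO : Over (Spec (CommRingCat.of k)))
    (x₀ : 𝟙_ (Over (Spec (CommRingCat.of k))) ⟶ XO)
    (A : Over (Spec (CommRingCat.of k))) [GrpObj A] [IsProper A.hom]
    [GeometricallyIntegral A.hom]
    (alb : XO ⟶ A) (halb : x₀ ≫ alb = η[A])
    (huniv : ∀ (B : Over (Spec (CommRingCat.of k))) [GrpObj B] [IsProper B.hom]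
      [GeometricallyReduced B.hom] [ConnectedSpace ↥B.left]
      (g : XO ⟶ B), x₀ ≫ g = η[B] → ∃! h : A ⟶ B, IsMonHom h ∧ alb ≫ h = g)
    (A' : Over (Spec (CommRingCat.of k))) [GrpObj A'] [IsProper A'.hom]
    [GeometricallyReduced A'.hom] [ConnectedSpace ↥A'.left]
    (φ : XO ⟶ A') :
    ∃ h : A ⟶ A', IsMonHom h ∧ (alb ≫ h) * (toUnit XO ≫ x₀ ≫ φ) = φ ∧
      ∀ g : A ⟶ A', alb ≫ g = φ → g = h * (toUnit A ≫ x₀ ≫ φ) := by
  have hA := antiAffine_abelian' k A
  have hx1 : x₀ ≫ toUnit XO = 𝟙 _ := toUnit_unique _ _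
  have hφ₀ : x₀ ≫ (φ * (toUnit XO ≫ x₀ ≫ φ)⁻¹) = η[A'] := by
    rw [MonObj.comp_mul, GrpObj.comp_inv, ← Category.assoc x₀ (toUnit XO), hx1, Category.id_comp,
      mul_inv_cancel]
    exact (MonObj.one_eq_one A').symm
  obtain ⟨h, ⟨hh, hh2⟩, hu⟩ := huniv A' (φ * (toUnit XO ≫ x₀ ≫ φ)⁻¹) hφ₀
  refine ⟨h, hh, ?_, ?_⟩
  · rw [hh2, inv_mul_cancel_right]
  · intro g hg
    have hcA : alb ≫ (toUnit A ≫ x₀ ≫ φ) = toUnit XO ≫ x₀ ≫ φ := by
      rw [← Category.assoc alb, toUnit_unique (alb ≫ toUnit A) (toUnit XO)]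
    have hg₀1 : η[A] ≫ (g * (toUnit A ≫ x₀ ≫ φ)⁻¹) = η[A'] := by
      have h1 : η[A] ≫ g = x₀ ≫ φ := by rw [← halb, Category.assoc, hg]
      have h2 : η[A] ≫ (toUnit A ≫ x₀ ≫ φ) = x₀ ≫ φ := by
        rw [← Category.assoc, toUnit_unique (η[A] ≫ toUnit A) (𝟙 _), Category.id_comp]
      rw [MonObj.comp_mul, GrpObj.comp_inv, h1, h2, mul_inv_cancel]
      exact (MonObj.one_eq_one A').symm
    have hmon : IsMonHom (g * (toUnit A ≫ x₀ ≫ φ)⁻¹) := AA7.main14578 k A A' hA _ hg₀1
    have h3 : g * (toUnit A ≫ x₀ ≫ φ)⁻¹ = h :=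
      hu _ ⟨hmon, by rw [MonObj.comp_mul, GrpObj.comp_inv, hg, hcA]⟩
    rw [← h3, inv_mul_cancel_right]

end Groth.Agent.Helper17.AB2
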