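import Mathlib
import Groth.Agent.Lib.Helper8.Canon9

/-!
# Vanishing of `Ext` passes to localizations (helper17)

For a finite module `N` over a Noetherian ring `B`, a multiplicative set `S` and an arbitrary module
`L`: if `Ext^n_B(N, L) = 0` then `Ext^n_{S⁻¹B}(S⁻¹N, S⁻¹L) = 0`.
-/

set_option autoImplicit false
universe u

namespace Groth.Agent.Helper17.EL

open CategoryTheory Abelian Groth.Agent.Helper8 Groth.Agent.Helper8.LC Groth.Agent.Helper8.Canon

section General

variable {B : Type u} [CommRing B] (S : Submonoid B)

theorem subsingleton_of_isLocalizedModule {M M' : Type*} [AddCommGroup M] [Module B M]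
    [AddCommGroup M'] [Module B M'] (f : M →ₗ[B] M') [IsLocalizedModule S f] [Subsingleton M] :
    Subsingleton M' := by
  refine ⟨fun a b => ?_⟩
  have h0 : ∀ x : M', x = 0 := by
    intro x
    obtain ⟨⟨m, s⟩, h⟩ := IsLocalizedModule.surj S f x
    have hm : m = 0 := Subsingleton.elim _ _
    rw [hm, map_zero] at h
    have h2 : (s : B) • x = (s : B) • (0 : M') := by rw [smul_zero]; exact h
    exact IsLocalizedModule.smul_injective f s h2
  rw [h0 a, h0 b]

variable (B' : Type u) [CommRing B'] [Algebra B B'] [IsLocalization S B']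

variable {N L : Type u} [AddCommGroup N] [Module B N] [AddCommGroup L] [Module B L]
  {N' L' : Type u} [AddCommGroup N'] [Module B N'] [Module B' N'] [IsScalarTower B B' N']
  [AddCommGroup L'] [Module B L'] [Module B' L'] [IsScalarTower B B' L']

theorem hom_subsingleton (f : N →ₗ[B] N') [IsLocalizedModule S f] (g : L →ₗ[B] L')
    [IsLocalizedModule S g] [Module.FinitePresentation B N] (h : Subsingleton (N →ₗ[B] L)) :
    Subsingleton (N' →ₗ[B'] L') := by
  have := Module.FinitePresentation.isLocalizedModule_mapExtendScalars S f g B'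
  exact subsingleton_of_isLocalizedModule S (IsLocalizedModule.mapExtendScalars S f g B')

end General

section Step

variable {B : Type u} [CommRing B] [IsNoetherianRing B] (S : Submonoid B)
  (B' : Type u) [CommRing B'] [Algebra B B'] [IsLocalization S B']
  {L : Type u} [AddCommGroup L] [Module B L]
  {L' : Type u} [AddCommGroup L'] [Module B L'] [Module B' L'] [IsScalarTower B B' L']
  {K F N : Type u} [AddCommGroup K] [Module B K] [AddCommGroup F] [Module B F]
  [AddCommGroup N] [Module B N]
  {K' F' N' : Type u} [AddCommGroup K'] [Module B K'] [Module B' K'] [IsScalarTower B B' K']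
  [AddCommGroup F'] [Module B F'] [Module B' F'] [IsScalarTower B B' F']
  [AddCommGroup N'] [Module B N'] [Module B' N'] [IsScalarTower B B' N']

/-- the `Ext^1` step -/
theorem ext_one_step (g : L →ₗ[B] L') [IsLocalizedModule S g]
    (fK : K →ₗ[B] K') [IsLocalizedModule S fK] (fF : F →ₗ[B] F') [IsLocalizedModule S fF]
    [Module.Finite B K]
    {ι : K →ₗ[B] F} {π : F →ₗ[B] N} (hS : IsSES ι π)
    {ι' : K' →ₗ[B'] F'} {π' : F' →ₗ[B'] N'} (hS' : IsSES ι' π')
    (hι : ∀ k, ι' (fK k) = fF (ι k))
    [Projective (ModuleCat.of B' F')]
    (h : Subsingleton (Abelian.Ext (ModuleCat.of B N) (ModuleCat.of B L) 1)) :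
    Subsingleton (Abelian.Ext (ModuleCat.of B' N') (ModuleCat.of B' L') 1) := by
  have h0 : ∀ x : Abelian.Ext (ModuleCat.of B' N') (ModuleCat.of B' L') 1, x = 0 := by
    intro x
    obtain ⟨ψ', rfl⟩ := homδ_surjective hS' L' x
    rw [homδ_exact hS' L' ψ']
    have hKfp : Module.FinitePresentation B K := Module.finitePresentation_of_finite B K
    have hloc := Module.FinitePresentation.isLocalizedModule_mapExtendScalars S fK g B'
    obtain ⟨⟨ψ, s⟩, hψ⟩ :=
      IsLocalizedModule.surj S (IsLocalizedModule.mapExtendScalars S fK g B') ψ'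
    have hψ0 : homδ hS L ψ = 0 := Subsingleton.elim _ _
    obtain ⟨φ, hφ⟩ := (homδ_exact hS L ψ).mp hψ0
    obtain ⟨u, hu⟩ := IsLocalization.map_units B' s
    refine ⟨(↑u⁻¹ : B') • IsLocalizedModule.mapExtendScalars S fF g B' φ, ?_⟩
    have hφ' : φ ∘ₗ ι = ψ := hφ
    have hcomp : (IsLocalizedModule.mapExtendScalars S fF g B' φ) ∘ₗ ι' =
        IsLocalizedModule.mapExtendScalars S fK g B' ψ := by
      apply LinearMap.restrictScalars_injective B
      apply IsLocalizedModule.linearMap_ext S fK g
      ext k
      simp only [LinearMap.coe_comp, LinearMap.coe_restrictScalars, Function.comp_apply, hι,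
        IsLocalizedModule.mapExtendScalars_apply_apply, IsLocalizedModule.map_apply, ← hφ']
    have hψ' : (algebraMap B B' s) • ψ' = IsLocalizedModule.mapExtendScalars S fK g B' ψ := by
      rw [← hψ]
      ext x
      simp [Submonoid.smul_def]
    ext x
    simp only [LinearMap.lcomp_apply', LinearMap.smul_comp, hcomp, ← hψ', ← hu, smul_smul]
    simp
  exact ⟨fun x y => by rw [h0 x, h0 y]⟩

end Step

section Main

attribute [local instance] LocalizedModule.moduleOfIsLocalization

variable {B : Type u} [CommRing B] [IsNoetherianRing B] (S : Submonoid B)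
  (B' : Type u) [CommRing B'] [Algebra B B'] [IsLocalization S B']
  {L : Type u} [AddCommGroup L] [Module B L]
  {L' : Type u} [AddCommGroup L'] [Module B L'] [Module B' L'] [IsScalarTower B B' L']

/-- vanishing of `Ext^n(N, L)` for a finite module `N` over a Noetherian ring passes to
localizations -/
theorem ext_subsingleton_localization (g : L →ₗ[B] L') [IsLocalizedModule S g] : ∀ (n : ℕ) (N : Type u) [AddCommGroup N] [Module B N]
    [Module.Finite B N] (N' : Type u) [AddCommGroup N'] [Module B N'] [Module B' N']
    [IsScalarTower B B' N'] (f : N →ₗ[B] N') [IsLocalizedModule S f],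
    Subsingleton (Abelian.Ext (ModuleCat.of B N) (ModuleCat.of B L) n) →
    Subsingleton (Abelian.Ext (ModuleCat.of B' N') (ModuleCat.of B' L') n) := by
  intro n
  induction n with
  | zero =>
    intro N _ _ _ N' _ _ _ _ f _ h
    have h1 : Subsingleton (N →ₗ[B] L) := (hom0 N L).toEquiv.subsingleton
    have : Module.FinitePresentation B N := Module.finitePresentation_of_finite B N
    have h2 := hom_subsingleton S B' f g h1
    exact (hom0 N' L').symm.toEquiv.subsingleton
  | succ n ih =>
    intro N _ _ _ N' _ _ _ _ f _ h
    obtain ⟨a, π, hπ⟩ := Module.Finite.exists_fin' B N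
    let K : Submodule B (Fin a → B) := LinearMap.ker π
    have hS : IsSES K.subtype π := isSES_of_surjective hπ
    have hproj : Projective (ModuleCat.of B (Fin a → B)) :=
      (IsProjective.iff_projective (Fin a → B)).mp inferInstance
    -- the localized sequence
    let fK := LocalizedModule.mkLinearMap S K
    let fF := LocalizedModule.mkLinearMap S (Fin a → B)
    let ι' : LocalizedModule S K →ₗ[B'] LocalizedModule S (Fin a → B) :=
      IsLocalizedModule.mapExtendScalars S fK fF B' K.subtype
    let π' : LocalizedModule S (Fin a → B) →ₗ[B'] N' :=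
      IsLocalizedModule.mapExtendScalars S fF f B' π
    have hS' : IsSES (M := LocalizedModule S K) (N := LocalizedModule S (Fin a → B)) (P := N')
        ι' π' := by
      refine ⟨?_, ?_, ?_⟩
      · exact IsLocalizedModule.map_injective S fK fF K.subtype K.injective_subtype
      · exact IsLocalizedModule.map_exact S fK fF f K.subtype π hS.exact
      · exact IsLocalizedModule.map_surjective S fF f π hπ
    have hfree : Module.Free B' (LocalizedModule S (Fin a → B)) :=
      Module.free_of_isLocalizedModule S fF
    have hproj' : Projective (ModuleCat.of B' (LocalizedModule S (Fin a → B))) :=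
      (IsProjective.iff_projective _).mp inferInstance
    rcases Nat.eq_zero_or_pos n with rfl | hn
    · -- `Ext^1`
      exact ext_one_step S B' g fK fF hS hS' (fun k => IsLocalizedModule.map_apply S fK fF K.subtype k) h
    · obtain ⟨m, rfl⟩ := Nat.exists_eq_succ_of_ne_zero hn.ne'
      have hK : Subsingleton (Abelian.Ext (ModuleCat.of B K) (ModuleCat.of B L) (m + 1)) :=
        (extδ_injective hS (ModuleCat.of B L) m).subsingleton
      have hK' := ih K (LocalizedModule S K) fK hK
      exact (extδ_surjective hS' (ModuleCat.of B' L') (m + 1)).subsingleton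

end Main

end Groth.Agent.Helper17.EL
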