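import Mathlib
import Groth.Agent.Lib.Helper17.EL1

/-!
# `Ext` and localization: the localization of `Ext^n_B(N, L)` vanishes iff
`Ext^n_{S⁻¹B}(S⁻¹N, S⁻¹L)` does (helper17)
-/

set_option autoImplicit false
universe u

namespace Groth.Agent.Helper17.EL

open CategoryTheory Abelian Groth.Agent.Helper8 Groth.Agent.Helper8.LC Groth.Agent.Helper8.Canon

section Step

variable {B : Type u} [CommRing B] [IsNoetherianRing B] (S : Submonoid B)
  (B' : Type u) [CommRing B'] [Algebra B B'] [IsLocalization S B']
  {L : Type u} [AddCommGroup L] [Module B L]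
  {L' : Type u} [AddCommGroup L'] [Module B L'] [Module B' L'] [IsScalarTower B B' L']
  {K F N : Type u} [AddCommGroup K] [Module B K] [AddCommGroup F] [Module B F]
  [AddCommGroup N] [Module B N]
  {K' F' N' : Type u} [AddCommGroup K'] [Module B K'] [Module B' K'] [IsScalarTower B B' K']
  [AddCommGroup F'] [Module B F'] [Module B' F'] [IsScalarTower B B' F']
  [AddCommGroup N'] [Module B N'] [Module B' N'] [IsScalarTower B B' N']

omit [IsNoetherianRing B] in
theorem mapExt_comp (g : L →ₗ[B] L') [IsLocalizedModule S g]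
    (fK : K →ₗ[B] K') [IsLocalizedModule S fK] (fF : F →ₗ[B] F') [IsLocalizedModule S fF]
    {ι : K →ₗ[B] F} {ι' : K' →ₗ[B'] F'} (hι : ∀ k, ι' (fK k) = fF (ι k)) (φ : F →ₗ[B] L) :
    (IsLocalizedModule.mapExtendScalars S fF g B' φ) ∘ₗ ι' =
      IsLocalizedModule.mapExtendScalars S fK g B' (φ ∘ₗ ι) := by
  apply LinearMap.restrictScalars_injective B
  apply IsLocalizedModule.linearMap_ext S fK g
  ext k
  simp only [LinearMap.coe_comp, LinearMap.coe_restrictScalars, Function.comp_apply, hι,
    IsLocalizedModule.mapExtendScalars_apply_apply, IsLocalizedModule.map_apply]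

/-- the `Ext^1` step, forward direction -/
theorem ext_one_forward (g : L →ₗ[B] L') [IsLocalizedModule S g]
    (fK : K →ₗ[B] K') [IsLocalizedModule S fK] (fF : F →ₗ[B] F') [IsLocalizedModule S fF]
    [Module.Finite B K]
    {ι : K →ₗ[B] F} {π : F →ₗ[B] N} (hS : IsSES ι π)
    {ι' : K' →ₗ[B'] F'} {π' : F' →ₗ[B'] N'} (hS' : IsSES ι' π')
    (hι : ∀ k, ι' (fK k) = fF (ι k))
    [Projective (ModuleCat.of B' F')]
    (h : ∀ x : Abelian.Ext (ModuleCat.of B N) (ModuleCat.of B L) 1, ∃ s : S, (s : B) • x = 0) :
    Subsingleton (Abelian.Ext (ModuleCat.of B' N') (ModuleCat.of B' L') 1) := by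
  have h0 : ∀ x : Abelian.Ext (ModuleCat.of B' N') (ModuleCat.of B' L') 1, x = 0 := by
    intro x
    obtain ⟨ψ', rfl⟩ := homδ_surjective hS' L' x
    rw [homδ_exact hS' L' ψ']
    have hKfp : Module.FinitePresentation B K := Module.finitePresentation_of_finite B K
    have hloc := Module.FinitePresentation.isLocalizedModule_mapExtendScalars S fK g B'
    obtain ⟨⟨ψ, s⟩, hψ⟩ :=
      IsLocalizedModule.surj S (IsLocalizedModule.mapExtendScalars S fK g B') ψ'
    obtain ⟨t, ht⟩ := h (homδ hS L ψ)
    have hψ0 : homδ hS L ((t : B) • ψ) = 0 := by rw [map_smul]; exact ht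
    obtain ⟨χ, hχ⟩ := (homδ_exact hS L _).mp hψ0
    have hχ' : χ ∘ₗ ι = (t : B) • ψ := hχ
    obtain ⟨u, hu⟩ := IsLocalization.map_units B' s
    obtain ⟨v, hv⟩ := IsLocalization.map_units B' t
    refine ⟨((↑u⁻¹ : B') * (↑v⁻¹ : B')) • IsLocalizedModule.mapExtendScalars S fF g B' χ, ?_⟩
    have hcomp := mapExt_comp S B' g fK fF hι χ
    have hψ' : (algebraMap B B' s) • ψ' = IsLocalizedModule.mapExtendScalars S fK g B' ψ := by
      rw [← hψ]
      ext x
      simp [Submonoid.smul_def]
    have h3 : IsLocalizedModule.mapExtendScalars S fK g B' ((t : B) • ψ) =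
        (algebraMap B B' t) • IsLocalizedModule.mapExtendScalars S fK g B' ψ := by
      rw [map_smul]
      ext x
      simp
    ext x
    simp only [LinearMap.lcomp_apply', LinearMap.smul_comp, hcomp, hχ', h3, ← hψ', ← hu, ← hv,
      smul_smul]
    have : (↑u⁻¹ : B') * ↑v⁻¹ * (↑v * ↑u) = 1 := by
      rw [mul_assoc, ← mul_assoc (↑v⁻¹ : B') ↑v ↑u, Units.inv_mul, one_mul, Units.inv_mul]
    simp [this]
  exact ⟨fun x y => by rw [h0 x, h0 y]⟩

/-- the `Ext^1` step, backward direction -/
theorem ext_one_backward (g : L →ₗ[B] L') [IsLocalizedModule S g]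
    (fK : K →ₗ[B] K') [IsLocalizedModule S fK] (fF : F →ₗ[B] F') [IsLocalizedModule S fF]
    [Module.Finite B K] [Module.Finite B F]
    {ι : K →ₗ[B] F} {π : F →ₗ[B] N} (hS : IsSES ι π)
    {ι' : K' →ₗ[B'] F'} {π' : F' →ₗ[B'] N'} (hS' : IsSES ι' π')
    (hι : ∀ k, ι' (fK k) = fF (ι k))
    [Projective (ModuleCat.of B F)]
    (h : Subsingleton (Abelian.Ext (ModuleCat.of B' N') (ModuleCat.of B' L') 1))
    (x : Abelian.Ext (ModuleCat.of B N) (ModuleCat.of B L) 1) : ∃ s : S, (s : B) • x = 0 := by
  obtain ⟨ψ, rfl⟩ := homδ_surjective hS L x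
  have hKfp : Module.FinitePresentation B K := Module.finitePresentation_of_finite B K
  have hFfp : Module.FinitePresentation B F := Module.finitePresentation_of_finite B F
  have hlocK := Module.FinitePresentation.isLocalizedModule_mapExtendScalars S fK g B'
  have hlocF := Module.FinitePresentation.isLocalizedModule_mapExtendScalars S fF g B'
  have h1 : homδ hS' L' (IsLocalizedModule.mapExtendScalars S fK g B' ψ) = 0 :=
    Subsingleton.elim _ _
  obtain ⟨χ', hχ'⟩ := (homδ_exact hS' L' _).mp h1
  have hχ'' : χ' ∘ₗ ι' = IsLocalizedModule.mapExtendScalars S fK g B' ψ := hχ'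
  obtain ⟨⟨χ, s⟩, hχ⟩ :=
    IsLocalizedModule.surj S (IsLocalizedModule.mapExtendScalars S fF g B') χ'
  have hχs : (algebraMap B B' s) • χ' = IsLocalizedModule.mapExtendScalars S fF g B' χ := by
    rw [← hχ]
    ext x
    simp [Submonoid.smul_def]
  have h2 : IsLocalizedModule.mapExtendScalars S fK g B' ((s : B) • ψ) =
      IsLocalizedModule.mapExtendScalars S fK g B' (χ ∘ₗ ι) := by
    rw [← mapExt_comp S B' g fK fF hι χ, ← hχs, LinearMap.smul_comp, hχ'', map_smul]
    ext x
    simp
  obtain ⟨t, ht⟩ := IsLocalizedModule.exists_of_eq (S := S) h2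
  refine ⟨t * s, ?_⟩
  have h3 : ((t * s : S) : B) • homδ hS L ψ = homδ hS L ((t : B) • (s : B) • ψ) := by
    rw [map_smul, map_smul, smul_smul]; rfl
  rw [h3]
  have h4 : (t : B) • (s : B) • ψ = LinearMap.lcomp B L ι ((t : B) • χ) := by
    have : (t : B) • (s : B) • ψ = (t : B) • (χ ∘ₗ ι) := ht
    rw [this]
    rfl
  rw [h4]
  exact (homδ_exact hS L _).mpr ⟨_, rfl⟩

end Step

section Main

attribute [local instance] LocalizedModule.moduleOfIsLocalization

variable {B : Type u} [CommRing B] [IsNoetherianRing B] (S : Submonoid B)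
  (B' : Type u) [CommRing B'] [Algebra B B'] [IsLocalization S B']
  {L : Type u} [AddCommGroup L] [Module B L]
  {L' : Type u} [AddCommGroup L'] [Module B L'] [Module B' L'] [IsScalarTower B B' L']

/-- `Ext^n_B(N, L)` is `S`-torsion iff `Ext^n_{S⁻¹B}(S⁻¹N, S⁻¹L) = 0`, for a finite module `N`
over a Noetherian ring. -/
theorem ext_localization_iff (g : L →ₗ[B] L') [IsLocalizedModule S g] : ∀ (n : ℕ) (N : Type u)
    [AddCommGroup N] [Module B N]
    [Module.Finite B N] (N' : Type u) [AddCommGroup N'] [Module B N'] [Module B' N']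
    [IsScalarTower B B' N'] (f : N →ₗ[B] N') [IsLocalizedModule S f],
    (∀ x : Abelian.Ext (ModuleCat.of B N) (ModuleCat.of B L) n, ∃ s : S, (s : B) • x = 0) ↔
    Subsingleton (Abelian.Ext (ModuleCat.of B' N') (ModuleCat.of B' L') n) := by
  intro n
  induction n with
  | zero =>
    intro N _ _ _ N' _ _ _ _ f _
    have hfp : Module.FinitePresentation B N := Module.finitePresentation_of_finite B N
    have hloc := Module.FinitePresentation.isLocalizedModule_mapExtendScalars S f g B'
    constructor
    · intro h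
      have h0 : ∀ φ' : N' →ₗ[B'] L', φ' = 0 := by
        intro φ'
        obtain ⟨⟨φ, s⟩, hφ⟩ :=
          IsLocalizedModule.surj S (IsLocalizedModule.mapExtendScalars S f g B') φ'
        obtain ⟨t, ht⟩ := h (hom0 N L φ)
        have h1 : (t : B) • φ = 0 := by
          apply (hom0 N L).injective
          rw [map_smul, ht, map_zero]
        have h2 : (t : B) • ((s : B) • φ') = (t : B) • (0 : N' →ₗ[B'] L') := by
          have : (s : B) • φ' = IsLocalizedModule.mapExtendScalars S f g B' φ := hφ
          rw [this, ← map_smul, h1, map_zero, smul_zero]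
        have h3 := IsLocalizedModule.smul_injective
          (IsLocalizedModule.mapExtendScalars S f g B') t h2
        have h4 : (s : B) • φ' = (s : B) • (0 : N' →ₗ[B'] L') := by rw [smul_zero]; exact h3
        exact IsLocalizedModule.smul_injective
          (IsLocalizedModule.mapExtendScalars S f g B') s h4
      have : Subsingleton (N' →ₗ[B'] L') := ⟨fun a b => by rw [h0 a, h0 b]⟩
      exact (hom0 N' L').symm.toEquiv.subsingleton
    · intro h x
      obtain ⟨φ, rfl⟩ := (hom0 N L).surjective x
      have h1 : Subsingleton (N' →ₗ[B'] L') := (hom0 N' L').toEquiv.subsingleton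
      have h2 : IsLocalizedModule.mapExtendScalars S f g B' φ =
          IsLocalizedModule.mapExtendScalars S f g B' 0 := Subsingleton.elim _ _
      obtain ⟨t, ht⟩ := IsLocalizedModule.exists_of_eq (S := S) h2
      refine ⟨t, ?_⟩
      have : (t : B) • φ = 0 := by
        have h3 : (t : B) • φ = (t : B) • (0 : N →ₗ[B] L) := ht
        rw [h3, smul_zero]
      rw [← map_smul, this, map_zero]
  | succ n ih =>
    intro N _ _ _ N' _ _ _ _ f _
    obtain ⟨a, π, hπ⟩ := Module.Finite.exists_fin' B N
    let K : Submodule B (Fin a → B) := LinearMap.ker π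
    have hS : IsSES K.subtype π := isSES_of_surjective hπ
    have hproj : Projective (ModuleCat.of B (Fin a → B)) :=
      (IsProjective.iff_projective (Fin a → B)).mp inferInstance
    let fK := LocalizedModule.mkLinearMap S K
    let fF := LocalizedModule.mkLinearMap S (Fin a → B)
    let ι' : LocalizedModule S K →ₗ[B'] LocalizedModule S (Fin a → B) :=
      IsLocalizedModule.mapExtendScalars S fK fF B' K.subtype
    let π' : LocalizedModule S (Fin a → B) →ₗ[B'] N' :=
      IsLocalizedModule.mapExtendScalars S fF f B' π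
    have hS' : IsSES (M := LocalizedModule S K) (N := LocalizedModule S (Fin a → B)) (P := N')
        ι' π' := by
      refine ⟨?_, ?_, ?_⟩
      · exact IsLocalizedModule.map_injective S fK fF K.subtype K.injective_subtype
      · exact IsLocalizedModule.map_exact S fK fF f K.subtype π hS.exact
      · exact IsLocalizedModule.map_surjective S fF f π hπ
    have hfree : Module.Free B' (LocalizedModule S (Fin a → B)) :=
      Module.free_of_isLocalizedModule S fF
    have hproj' : Projective (ModuleCat.of B' (LocalizedModule S (Fin a → B))) :=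
      (IsProjective.iff_projective _).mp inferInstance
    have hι : ∀ k, ι' (fK k) = fF (K.subtype k) :=
      fun k => IsLocalizedModule.map_apply S fK fF K.subtype k
    rcases Nat.eq_zero_or_pos n with rfl | hn
    · constructor
      · intro h
        exact ext_one_forward S B' g fK fF hS hS' hι h
      · intro h x
        exact ext_one_backward S B' g fK fF hS hS' hι h x
    · obtain ⟨m, rfl⟩ := Nat.exists_eq_succ_of_ne_zero hn.ne'
      have ihK := ih K (LocalizedModule S K) fK
      constructor
      · intro h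
        have hK : ∀ y : Abelian.Ext (ModuleCat.of B K) (ModuleCat.of B L) (m + 1),
            ∃ s : S, (s : B) • y = 0 := by
          intro y
          obtain ⟨s, hs⟩ := h (extδ hS (ModuleCat.of B L) (m + 1) y)
          refine ⟨s, ?_⟩
          apply extδ_injective hS (ModuleCat.of B L) m
          rw [map_smul, hs, map_zero]
        have hK' := ihK.mp hK
        exact (extδ_surjective hS' (ModuleCat.of B' L') (m + 1)).subsingleton
      · intro h x
        have hK' : Subsingleton (Abelian.Ext (ModuleCat.of B' (LocalizedModule S K))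
            (ModuleCat.of B' L') (m + 1)) :=
          (extδ_injective hS' (ModuleCat.of B' L') m).subsingleton
        obtain ⟨y, rfl⟩ := extδ_surjective hS (ModuleCat.of B L) (m + 1) x
        obtain ⟨s, hs⟩ := ihK.mpr hK' y
        exact ⟨s, by rw [← map_smul, hs, map_zero]⟩

end Main

end Groth.Agent.Helper17.EL
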