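import Mathlib
import Groth.Prelude.Def_Exal
import Groth.Agent.Lib.Helper17.EX1

/-!
Helper17: a non-trivial extension of a local Artinian algebra by its residue field.
-/

namespace Groth.Agent.Helper17.EX

open IsLocalRing MvPolynomial

universe u

theorem eq_bot_of_le_mul {ι k : Type*} [Field k] (J : Ideal (MvPolynomial ι k))
    (h : J ≤ idealOfVars ι k * J) : J = ⊥ := by
  have hpow : ∀ n : ℕ, J ≤ idealOfVars ι k ^ n := by
    intro n
    induction n with
    | zero => simp
    | succ n ih =>
      calc J ≤ idealOfVars ι k * J := h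
        _ ≤ idealOfVars ι k * idealOfVars ι k ^ n := Ideal.mul_mono_right ih
        _ = idealOfVars ι k ^ (n + 1) := (pow_succ' _ _).symm
  rw [eq_bot_iff]
  intro j hj
  rw [Ideal.mem_bot]
  by_contra hne
  obtain ⟨d, hd⟩ := MvPolynomial.ne_zero_iff.1 hne
  exact hd ((mem_pow_idealOfVars_iff' (Finsupp.degree d + 1) j).1 (hpow _ hj) d (Nat.lt_succ_self _))

theorem sub_C_mem_idealOfVars {ι k : Type*} [Field k] (c : MvPolynomial ι k) :
    c - C (constantCoeff c) ∈ idealOfVars ι k := by
  classical
  rw [← pow_one (idealOfVars ι k), mem_pow_idealOfVars_iff']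
  intro d hd
  have hd0 : Finsupp.degree d = 0 := by omega
  rw [Finsupp.degree_eq_zero_iff] at hd0
  subst hd0
  rw [coeff_sub, coeff_C, if_pos rfl, constantCoeff_eq, sub_self]

theorem constantCoeff_eq_zero_of_mem {ι k : Type*} [Field k] {p : MvPolynomial ι k}
    (hp : p ∈ idealOfVars ι k) : constantCoeff p = 0 := by
  rw [← pow_one (idealOfVars ι k), mem_pow_idealOfVars_iff'] at hp
  rw [constantCoeff_eq]
  exact hp 0 (by simp)

theorem exists_nontrivial_ext {k A : Type u} [Field k] [CommRing A] [Algebra k A] [IsLocalRing A]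
    (ρ : A →ₐ[k] k) (hρ : ∀ a : A, a - algebraMap k A (ρ a) ∈ maximalIdeal A)
    {ι : Type u} (x : ι → A) (hx : ∀ i, x i ∈ maximalIdeal A)
    (hsurj : Function.Surjective (aeval x : MvPolynomial ι k →ₐ[k] A))
    (hJ2 : RingHom.ker (aeval x : MvPolynomial ι k →ₐ[k] A) ≤ idealOfVars ι k ^ 2)
    (j₀ : MvPolynomial ι k) (hj₀ : j₀ ∈ RingHom.ker (aeval x : MvPolynomial ι k →ₐ[k] A))
    (hj₀' : j₀ ∉ idealOfVars ι k * RingHom.ker (aeval x : MvPolynomial ι k →ₐ[k] A)) :
    ∃ X : Exal.Ext k A (ResidueField A), ¬ X.IsTrivial := by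
  classical
  set φ : MvPolynomial ι k →ₐ[k] A := aeval x with hφdef
  set J : Ideal (MvPolynomial ι k) := RingHom.ker φ with hJdef
  have hρφ : ∀ p, ρ (φ p) = constantCoeff p := rho_aeval ρ hρ x hx
  have hφm : ∀ p, p ∈ idealOfVars ι k → φ p ∈ maximalIdeal A := fun p hp =>
    aeval_mem_maximalIdeal ρ hρ x hx (constantCoeff_eq_zero_of_mem hp)
  -- the functional
  obtain ⟨lam, hlam0, hlam⟩ := Submodule.exists_dual_map_eq_bot_of_notMem
    (R := k) (M := MvPolynomial ι k) (p := (idealOfVars ι k * J).restrictScalars k) (x := j₀)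
    (fun h => hj₀' h) inferInstance
  have hlamz : ∀ p ∈ idealOfVars ι k * J, lam p = 0 := by
    intro p hp
    have : lam p ∈ Submodule.map lam ((idealOfVars ι k * J).restrictScalars k) :=
      ⟨p, hp, rfl⟩
    rw [hlam] at this
    exact this
  have hmulJ : idealOfVars ι k * J ≤ J := Ideal.mul_le_right
  -- the ideal J'
  let J' : Ideal (MvPolynomial ι k) :=
    { carrier := {p | p ∈ J ∧ lam p = 0}
      add_mem' := fun {p q} hp hq => ⟨J.add_mem hp.1 hq.1, by rw [map_add, hp.2, hq.2, add_zero]⟩
      zero_mem' := ⟨J.zero_mem, map_zero _⟩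
      smul_mem' := fun c p hp => by
        refine ⟨J.mul_mem_left c hp.1, ?_⟩
        have h1 : c • p = (c - C (constantCoeff c)) * p + constantCoeff c • p := by
          rw [smul_eq_mul, MvPolynomial.smul_eq_C_mul]
          ring
        rw [h1, map_add, hlamz _ (Ideal.mul_mem_mul (sub_C_mem_idealOfVars c) hp.1), map_smul, hp.2,
          smul_zero, add_zero] }
  have hJ'mem : ∀ p, p ∈ J' ↔ p ∈ J ∧ lam p = 0 := fun p => Iff.rfl
  have hmulJ' : idealOfVars ι k * J ≤ J' := fun p hp => ⟨hmulJ hp, hlamz p hp⟩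
  -- normalised element
  let j₁ : MvPolynomial ι k := (lam j₀)⁻¹ • j₀
  have hj₁J : j₁ ∈ J := by
    simp only [j₁, MvPolynomial.smul_eq_C_mul]
    exact J.mul_mem_left _ hj₀
  have hj₁ : lam j₁ = 1 := by
    simp only [j₁, map_smul, smul_eq_mul]
    exact inv_mul_cancel₀ hlam0
  -- the residue-field augmentation
  let ρbar : ResidueField A →+* k := Ideal.Quotient.lift (maximalIdeal A) (ρ : A →+* k)
    (fun a ha => rho_eq_zero ρ hρ ha)
  have hρbar : ∀ a : A, ρbar (residue A a) = ρ a := fun a => rfl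
  have hρbar_inj : Function.Injective ρbar := ρbar.injective
  -- the extension
  let proj : (MvPolynomial ι k ⧸ J') →ₐ[k] A :=
    Ideal.Quotient.liftₐ J' φ (fun p hp => ((hJ'mem p).1 hp).1)
  have hproj : ∀ p, proj (Ideal.Quotient.mk J' p) = φ p := fun p => rfl
  let incl : ResidueField A →+ (MvPolynomial ι k ⧸ J') :=
    { toFun := fun z => Ideal.Quotient.mk J' (C (ρbar z) * j₁)
      map_zero' := by rw [map_zero, map_zero, zero_mul, map_zero]
      map_add' := fun z z' => by rw [map_add, map_add, add_mul, map_add] }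
  have hincl : ∀ z, incl z = Ideal.Quotient.mk J' (C (ρbar z) * j₁) := fun z => rfl
  have hlamC : ∀ (c : k) (p : MvPolynomial ι k), lam (C c * p) = c * lam p := by
    intro c p
    rw [← MvPolynomial.smul_eq_C_mul, map_smul, smul_eq_mul]
  have hext : Exal.IsExtension proj incl := by
    refine ⟨?_, ?_, ?_, ?_⟩
    · intro a
      obtain ⟨p, hp⟩ := hsurj a
      exact ⟨Ideal.Quotient.mk J' p, by rw [hproj, hp]⟩
    · rw [injective_iff_map_eq_zero]
      intro z hz
      rw [hincl, Ideal.Quotient.eq_zero_iff_mem, hJ'mem] at hz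
      have h1 := hz.2
      rw [hlamC, hj₁, mul_one] at h1
      apply hρbar_inj
      rw [h1, map_zero]
    · intro e
      obtain ⟨p, rfl⟩ := Ideal.Quotient.mk_surjective e
      rw [hproj]
      constructor
      · intro hp
        have hpJ : p ∈ J := hp
        refine ⟨algebraMap k (ResidueField A) (lam p), ?_⟩
        rw [hincl]
        have h1 : ρbar (algebraMap k (ResidueField A) (lam p)) = lam p := by
          have h2 : algebraMap k (ResidueField A) (lam p) = residue A (algebraMap k A (lam p)) := rfl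
          rw [h2, hρbar, AlgHom.commutes]
          rfl
        rw [h1, Ideal.Quotient.eq, hJ'mem]
        refine ⟨J.sub_mem (J.mul_mem_left _ hj₁J) hpJ, ?_⟩
        rw [map_sub, hlamC, hj₁, mul_one, sub_self]
      · rintro ⟨z, hz⟩
        have h1 := congrArg proj hz
        rw [hincl, hproj, hproj] at h1
        rw [← h1, map_mul]
        have : φ j₁ = 0 := hj₁J
        rw [this, mul_zero]
    · intro e z
      obtain ⟨p, rfl⟩ := Ideal.Quotient.mk_surjective e
      rw [hproj, hincl, hincl, ← map_mul, Ideal.Quotient.eq]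
      have h1 : ρbar (φ p • z) = constantCoeff p * ρbar z := by
        have h2 : φ p • z = residue A (φ p) * z := rfl
        rw [h2, map_mul, hρbar, hρφ]
      rw [h1]
      apply hmulJ'
      have h3 : p * (C (ρbar z) * j₁) - C (constantCoeff p * ρbar z) * j₁ =
          (p - C (constantCoeff p)) * (C (ρbar z) * j₁) := by
        rw [C_mul]
        ring
      rw [h3]
      exact Ideal.mul_mem_mul (sub_C_mem_idealOfVars p) (J.mul_mem_left _ hj₁J)
  refine ⟨{ E := MvPolynomial ι k ⧸ J', proj := proj, incl := incl, isExtension := hext }, ?_⟩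
  rintro ⟨s, hs⟩
  change ∀ a : A, proj (s a) = a at hs
  let q : MvPolynomial ι k →ₐ[k] (MvPolynomial ι k ⧸ J') := Ideal.Quotient.mkₐ k J'
  let α : MvPolynomial ι k →ₐ[k] (MvPolynomial ι k ⧸ J') := s.comp φ
  have hq : ∀ p, proj (q p) = φ p := fun p => rfl
  have hα : ∀ p, proj (α p) = φ p := fun p => hs (φ p)
  -- kernel elements are killed by elements projecting into the maximal ideal
  have hF : ∀ y e : (MvPolynomial ι k ⧸ J'), proj e = 0 → proj y ∈ maximalIdeal A → y * e = 0 := by
    intro y e he hy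
    obtain ⟨z, rfl⟩ := (hext.exact e).1 he
    rw [hext.mul_incl]
    have h1 : proj y • z = 0 := by
      have h2 : proj y • z = residue A (proj y) * z := rfl
      rw [h2, (residue_eq_zero_iff _).2 hy, zero_mul]
    rw [h1, map_zero]
  have hagree : ∀ t ∈ idealOfVars ι k * idealOfVars ι k, q t = α t := by
    intro t ht
    refine Submodule.smul_induction_on ht ?_ ?_
    · intro a ha b hb
      rw [smul_eq_mul, map_mul, map_mul]
      have hu : proj (α a - q a) = 0 := by rw [map_sub, hα, hq, sub_self]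
      have hu' : proj (α b - q b) = 0 := by rw [map_sub, hα, hq, sub_self]
      have ha' : proj (q a) ∈ maximalIdeal A := by rw [hq]; exact hφm a ha
      have hb' : proj (q b) ∈ maximalIdeal A := by rw [hq]; exact hφm b hb
      have h1 := hF (q a) (α b - q b) hu' ha'
      have h2 := hF (q b) (α a - q a) hu hb'
      have h3 := hF (α a - q a) (α b - q b) hu' (by rw [hu]; exact Submodule.zero_mem _)
      have h4 : α a * α b = q a * q b + q a * (α b - q b) + q b * (α a - q a) +
          (α a - q a) * (α b - q b) := by ring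
      rw [h4, h1, h2, h3, add_zero, add_zero, add_zero]
    · intro t₁ t₂ h₁ h₂
      rw [map_add, map_add, h₁, h₂]
  have h5 : q j₀ = 0 := by
    rw [hagree j₀ (by rw [← pow_two]; exact hJ2 hj₀)]
    change s (φ j₀) = 0
    have : φ j₀ = 0 := hj₀
    rw [this, map_zero]
  have h6 : j₀ ∈ J' := Ideal.Quotient.eq_zero_iff_mem.1 h5
  exact hlam0 ((hJ'mem j₀).1 h6).2

end Groth.Agent.Helper17.EX
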