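import Mathlib
import Groth.Prelude.Def_W4c2gaugesfzipsQuiet

set_option autoImplicit false
universe u
open Polynomial

namespace Groth.Agent.Helper17.QT

open Quiet (RootRing IsRootTower)

/-- root towers in ring-hom form -/
def Tower (p : ℕ) : ℕ → ∀ {A B : Type u} [CommRing A] [CommRing B], (A →+* B) → Prop
  | 0, _, _, _, _, φ => Function.Bijective φ
  | n + 1, A, _, _, _, φ => ∃ (a : A) (ψ : RootRing p A a →+* _),
      ψ.comp (AdjoinRoot.of (X ^ p - C a : A[X])) = φ ∧ Tower p n ψ

theorem tower_zero (p : ℕ) {A B : Type u} [CommRing A] [CommRing B] (φ : A →+* B) :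
    Tower p 0 φ ↔ Function.Bijective φ := Iff.rfl

theorem tower_succ (p n : ℕ) {A B : Type u} [CommRing A] [CommRing B] (φ : A →+* B) :
    Tower p (n + 1) φ ↔ ∃ (a : A) (ψ : RootRing p A a →+* B),
      ψ.comp (AdjoinRoot.of (X ^ p - C a : A[X])) = φ ∧ Tower p n ψ := Iff.rfl

theorem isRootTower_zero (p : ℕ) (A B : Type u) [CommRing A] [CommRing B] [Algebra A B] :
    IsRootTower p 0 A B ↔ Nonempty (B ≃ₐ[A] A) := Iff.rfl

theorem isRootTower_succ (p n : ℕ) (A B : Type u) [CommRing A] [CommRing B] [Algebra A B] :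
    IsRootTower p (n + 1) A B ↔ ∃ (a : A) (_ : Algebra (RootRing p A a) B),
      IsScalarTower A (RootRing p A a) B ∧ IsRootTower p n (RootRing p A a) B := Iff.rfl

theorem tower_of_isRootTower (p : ℕ) : ∀ (n : ℕ) (A B : Type u) [CommRing A] [CommRing B]
    [Algebra A B], IsRootTower p n A B → Tower p n (algebraMap A B) := by
  intro n
  induction n with
  | zero =>
    intro A B _ _ _ h
    rw [isRootTower_zero] at h
    obtain ⟨e⟩ := h
    rw [tower_zero]
    have he : ∀ a : A, algebraMap A B a = e.symm a := by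
      intro a
      apply e.injective
      rw [e.commutes, e.apply_symm_apply]
      rfl
    have hfun : (algebraMap A B : A → B) = e.symm := funext he
    rw [hfun]
    exact e.symm.bijective
  | succ n ih =>
    intro A B _ _ _ h
    rw [isRootTower_succ] at h
    obtain ⟨a, inst, htower, h⟩ := h
    rw [tower_succ]
    refine ⟨a, algebraMap (RootRing p A a) B, ?_, ih _ _ h⟩
    have h1 := IsScalarTower.algebraMap_eq A (RootRing p A a) B
    rw [h1]
    rfl

theorem isRootTower_of_tower (p : ℕ) : ∀ (n : ℕ) (A B : Type u) [CommRing A] [CommRing B]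
    [Algebra A B], Tower p n (algebraMap A B) → IsRootTower p n A B := by
  intro n
  induction n with
  | zero =>
    intro A B _ _ _ h
    rw [tower_zero] at h
    rw [isRootTower_zero]
    exact ⟨(AlgEquiv.ofBijective (Algebra.ofId A B) h).symm⟩
  | succ n ih =>
    intro A B _ _ _ h
    rw [tower_succ] at h
    obtain ⟨a, ψ, hψ, h⟩ := h
    rw [isRootTower_succ]
    letI inst : Algebra (RootRing p A a) B := ψ.toAlgebra
    refine ⟨a, inst, ?_, ih _ _ h⟩
    apply IsScalarTower.of_algebraMap_eq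
    intro x
    have := RingHom.congr_fun hψ x
    exact this.symm

/-- pushout squares of commutative rings, via the universal property -/
structure PO {A B A' B' : Type u} [CommRing A] [CommRing B] [CommRing A'] [CommRing B']
    (φ : A →+* B) (α : A →+* A') (φ' : A' →+* B') (α' : B →+* B') : Prop where
  comm : φ'.comp α = α'.comp φ
  desc : ∀ (T : Type u) [CommRing T] (β : A' →+* T) (γ : B →+* T), β.comp α = γ.comp φ →
    ∃ δ : B' →+* T, δ.comp φ' = β ∧ δ.comp α' = γ
  uniq : ∀ (T : Type u) [CommRing T] (δ₁ δ₂ : B' →+* T), δ₁.comp φ' = δ₂.comp φ' →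
    δ₁.comp α' = δ₂.comp α' → δ₁ = δ₂

theorem root_pow {A : Type u} [CommRing A] (p : ℕ) (a : A) :
    (AdjoinRoot.root (X ^ p - C a : A[X])) ^ p = AdjoinRoot.of (X ^ p - C a : A[X]) a := by
  have h := AdjoinRoot.eval₂_root (X ^ p - C a : A[X])
  rw [eval₂_sub, eval₂_pow, eval₂_X, eval₂_C, sub_eq_zero] at h
  exact h

theorem tower_po (p : ℕ) : ∀ (n : ℕ) {A B A' B' : Type u} [CommRing A] [CommRing B]
    [CommRing A'] [CommRing B'] (φ : A →+* B) (α : A →+* A') (φ' : A' →+* B') (α' : B →+* B'),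
    PO φ α φ' α' → Tower p n φ → Tower p n φ' := by
  intro n
  induction n with
  | zero =>
    intro A B A' B' _ _ _ _ φ α φ' α' hpo h
    rw [tower_zero] at h ⊢
    obtain ⟨e, he⟩ : ∃ e : A ≃+* B, ∀ x, e x = φ x := ⟨RingEquiv.ofBijective φ h, fun _ => rfl⟩
    have hcond : (RingHom.id A').comp α = (α.comp e.symm.toRingHom).comp φ := by
      apply RingHom.ext
      intro x
      show α x = α (e.symm (φ x))
      rw [← he x, e.symm_apply_apply]
    obtain ⟨δ, hδ1, hδ2⟩ := hpo.desc A' (RingHom.id A') (α.comp e.symm.toRingHom) hcond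
    have hleft : ∀ x, δ (φ' x) = x := fun x => RingHom.congr_fun hδ1 x
    have hright : φ'.comp δ = RingHom.id B' := by
      apply hpo.uniq
      · apply RingHom.ext
        intro x
        show φ' (δ (φ' x)) = φ' x
        rw [hleft]
      · apply RingHom.ext
        intro y
        show φ' (δ (α' y)) = α' y
        have h1 : δ (α' y) = α (e.symm y) := RingHom.congr_fun hδ2 y
        rw [h1]
        have h2 : φ' (α (e.symm y)) = α' (φ (e.symm y)) := RingHom.congr_fun hpo.comm (e.symm y)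
        rw [h2, ← he, e.apply_symm_apply]
    refine ⟨fun x y hxy => ?_, fun y => ⟨δ y, RingHom.congr_fun hright y⟩⟩
    rw [← hleft x, ← hleft y, hxy]
  | succ n ih =>
    intro A B A' B' _ _ _ _ φ α φ' α' hpo h
    rw [tower_succ] at h ⊢
    obtain ⟨a, ψ, hψ, h⟩ := h
    -- the root ring over A'
    have hκ : (X ^ p - C a : A[X]).eval₂ ((AdjoinRoot.of (X ^ p - C (α a) : A'[X])).comp α)
        (AdjoinRoot.root (X ^ p - C (α a) : A'[X])) = 0 := by
      rw [eval₂_sub, eval₂_pow, eval₂_X, eval₂_C, root_pow, sub_eq_zero]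
      rfl
    obtain ⟨κ, hκdef⟩ : ∃ κ : RootRing p A a →+* RootRing p A' (α a),
        κ = AdjoinRoot.lift ((AdjoinRoot.of (X ^ p - C (α a) : A'[X])).comp α)
          (AdjoinRoot.root (X ^ p - C (α a) : A'[X])) hκ := ⟨_, rfl⟩
    have hκof : κ.comp (AdjoinRoot.of (X ^ p - C a : A[X])) =
        (AdjoinRoot.of (X ^ p - C (α a) : A'[X])).comp α := by
      rw [hκdef, AdjoinRoot.lift_comp_of]
    have hκroot : κ (AdjoinRoot.root (X ^ p - C a : A[X])) =
        AdjoinRoot.root (X ^ p - C (α a) : A'[X]) := by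
      rw [hκdef, AdjoinRoot.lift_root]
    have hψof : ∀ x, ψ (AdjoinRoot.of (X ^ p - C a : A[X]) x) = φ x := fun x =>
      RingHom.congr_fun hψ x
    have hψ' : (X ^ p - C (α a) : A'[X]).eval₂ φ'
        (α' (ψ (AdjoinRoot.root (X ^ p - C a : A[X])))) = 0 := by
      rw [eval₂_sub, eval₂_pow, eval₂_X, eval₂_C, ← map_pow, ← map_pow, root_pow, hψof, sub_eq_zero]
      exact (RingHom.congr_fun hpo.comm a).symm
    obtain ⟨ψ', hψ'def⟩ : ∃ ψ' : RootRing p A' (α a) →+* B',
        ψ' = AdjoinRoot.lift φ' (α' (ψ (AdjoinRoot.root (X ^ p - C a : A[X])))) hψ' := ⟨_, rfl⟩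
    have hψ'of : ψ'.comp (AdjoinRoot.of (X ^ p - C (α a) : A'[X])) = φ' := by
      rw [hψ'def, AdjoinRoot.lift_comp_of]
    have hψ'root : ψ' (AdjoinRoot.root (X ^ p - C (α a) : A'[X])) =
        α' (ψ (AdjoinRoot.root (X ^ p - C a : A[X]))) := by
      rw [hψ'def, AdjoinRoot.lift_root]
    refine ⟨α a, ψ', hψ'of, ih ψ κ ψ' α' ?_ h⟩
    refine ⟨?_, ?_, ?_⟩
    · -- comm
      apply AdjoinRoot.ringHom_ext
      · rw [RingHom.comp_assoc, hκof, ← RingHom.comp_assoc, hψ'of, RingHom.comp_assoc, hψ]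
        exact hpo.comm
      · show ψ' (κ (AdjoinRoot.root (X ^ p - C a : A[X]))) = α' (ψ _)
        rw [hκroot, hψ'root]
    · -- desc
      intro T _ β γ hβγ
      have hcond : (β.comp (AdjoinRoot.of (X ^ p - C (α a) : A'[X]))).comp α = γ.comp φ := by
        rw [RingHom.comp_assoc, ← hκof, ← RingHom.comp_assoc, hβγ, RingHom.comp_assoc, hψ]
      obtain ⟨δ, hδ1, hδ2⟩ := hpo.desc T _ γ hcond
      refine ⟨δ, ?_, hδ2⟩
      apply AdjoinRoot.ringHom_ext
      · rw [RingHom.comp_assoc, hψ'of]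
        exact hδ1
      · show δ (ψ' (AdjoinRoot.root (X ^ p - C (α a) : A'[X]))) = β _
        rw [hψ'root]
        have h1 : δ (α' (ψ (AdjoinRoot.root (X ^ p - C a : A[X])))) =
            γ (ψ (AdjoinRoot.root (X ^ p - C a : A[X]))) := RingHom.congr_fun hδ2 _
        rw [h1]
        have h2 := RingHom.congr_fun hβγ (AdjoinRoot.root (X ^ p - C a : A[X]))
        rw [← hκroot]
        exact h2.symm
    · -- uniq
      intro T _ δ₁ δ₂ h1 h2
      apply hpo.uniq T δ₁ δ₂ _ h2
      rw [← hψ'of, ← RingHom.comp_assoc, ← RingHom.comp_assoc, h1]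

end Groth.Agent.Helper17.QT
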