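import Mathlib
import Groth.Prelude.Def_W4c2gaugesfzipsQuiet
import Groth.Agent.Lib.Helper17.QT1

set_option autoImplicit false
universe u
open CategoryTheory CategoryTheory.Limits AlgebraicGeometry

namespace Groth.Agent.Helper17.QT

/-- categorical pushouts of commutative rings satisfy the universal property `PO` -/
theorem po_of_isPushout {A B A' B' : CommRingCat.{u}} {φ : A ⟶ B} {α : A ⟶ A'} {α' : B ⟶ B'}
    {φ' : A' ⟶ B'} (h : IsPushout φ α α' φ') : PO φ.hom α.hom φ'.hom α'.hom := by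
  refine ⟨?_, ?_, ?_⟩
  · have hw := h.w
    have := congrArg CommRingCat.Hom.hom hw
    rw [CommRingCat.hom_comp, CommRingCat.hom_comp] at this
    exact this.symm
  · intro T _ β γ hβγ
    have hw : φ ≫ CommRingCat.ofHom γ = α ≫ CommRingCat.ofHom β := by
      apply CommRingCat.hom_ext
      rw [CommRingCat.hom_comp, CommRingCat.hom_comp, CommRingCat.hom_ofHom, CommRingCat.hom_ofHom]
      exact hβγ.symm
    refine ⟨(h.desc (CommRingCat.ofHom γ) (CommRingCat.ofHom β) hw).hom, ?_, ?_⟩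
    · have := congrArg CommRingCat.Hom.hom (h.inr_desc (CommRingCat.ofHom γ) (CommRingCat.ofHom β) hw)
      rw [CommRingCat.hom_comp, CommRingCat.hom_ofHom] at this
      exact this
    · have := congrArg CommRingCat.Hom.hom (h.inl_desc (CommRingCat.ofHom γ) (CommRingCat.ofHom β) hw)
      rw [CommRingCat.hom_comp, CommRingCat.hom_ofHom] at this
      exact this
  · intro T _ δ₁ δ₂ h1 h2
    have : CommRingCat.ofHom δ₁ = CommRingCat.ofHom δ₂ := by
      apply h.hom_ext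
      · apply CommRingCat.hom_ext
        rw [CommRingCat.hom_comp, CommRingCat.hom_comp, CommRingCat.hom_ofHom, CommRingCat.hom_ofHom]
        exact h2
      · apply CommRingCat.hom_ext
        rw [CommRingCat.hom_comp, CommRingCat.hom_comp, CommRingCat.hom_ofHom, CommRingCat.hom_ofHom]
        exact h1
    have h3 := congrArg CommRingCat.Hom.hom this
    rw [CommRingCat.hom_ofHom, CommRingCat.hom_ofHom] at h3
    exact h3

theorem isPthRoot_baseChange (p : ℕ) {V W V' W' : Scheme.{u}} {a : V' ⟶ V} {r' : V' ⟶ W'}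
    {r : V ⟶ W} {h : W' ⟶ W} (H : IsPullback a r' r h) (hr : Quiet.IsPthRoot p r) :
    Quiet.IsPthRoot p r' := by
  intro w'
  obtain ⟨U, hwU, hUaff, htower⟩ := hr (h w')
  obtain ⟨n, hn⟩ := htower
  obtain ⟨_, ⟨U', hU', rfl⟩, hw'U', hU'U⟩ :=
    W'.isBasis_affineOpens.exists_subset_of_mem_open
      (show w' ∈ ((h ⁻¹ᵁ U.1 : W'.Opens) : Set W') from hwU) (h ⁻¹ᵁ U.1).2
  have hUST : U' ≤ h ⁻¹ᵁ U.1 := hU'U
  have hUSX : r ⁻¹ᵁ U.1 ≤ r ⁻¹ᵁ U.1 := le_rfl
  have hUY : r' ⁻¹ᵁ U' = a ⁻¹ᵁ (r ⁻¹ᵁ U.1) ⊓ r' ⁻¹ᵁ U' := by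
    apply le_antisymm
    · apply le_inf _ le_rfl
      intro x hx
      have h1 : h (r' x) ∈ U.1 := hUST hx
      have h2 : r (a x) = h (r' x) := by
        rw [← Scheme.Hom.comp_apply, ← Scheme.Hom.comp_apply, H.w]
      show r (a x) ∈ U.1
      rw [h2]
      exact h1
    · exact inf_le_right
  have hpb := Scheme.Hom.isPullback_resLE H hUST hUSX hUY
  have hUYaff : IsAffineOpen (r' ⁻¹ᵁ U') := by
    haveI : IsAffine (U.1 : Scheme.{u}) := U.2
    haveI : IsAffine (U' : Scheme.{u}) := hU'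
    haveI : IsAffine ((r ⁻¹ᵁ U.1 : V.Opens) : Scheme.{u}) := hUaff
    exact .of_isIso hpb.isoPullback.hom
  have hiso := isIso_pushoutSection_of_isAffineOpen H hUST hUSX hUY U.2 hU' hUaff
  have hpo := (isIso_pushoutSection_iff H hUST hUSX hUY).mp hiso
  have e1 : r.appLE U.1 (r ⁻¹ᵁ U.1) hUSX = r.app U.1 := Scheme.Hom.appLE_eq_app r
  have hle2 : r' ⁻¹ᵁ U' ≤ r' ⁻¹ᵁ U' := le_rfl
  have e2 : r'.appLE U' (r' ⁻¹ᵁ U') hle2 = r'.app U' := Scheme.Hom.appLE_eq_app r'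
  rw [e1] at hpo
  have hPO := po_of_isPushout hpo
  refine ⟨⟨U', hU'⟩, hw'U', hUYaff, ?_⟩
  refine ⟨n, ?_⟩
  have t1 : Tower p n (r.app U.1).hom :=
    @tower_of_isRootTower p n Γ(W, U.1) Γ(V, r ⁻¹ᵁ U.1) _ _ (r.app U.1).hom.toAlgebra hn
  have t2 := tower_po p n _ _ _ _ hPO t1
  have t3 : Tower p n (r'.app U').hom := by
    rw [← e2]
    exact t2
  exact @isRootTower_of_tower p n Γ(W', U') Γ(V', r' ⁻¹ᵁ U') _ _ (r'.app U').hom.toAlgebra t3

theorem main15042 (p : ℕ) {X Y X' Y' : Scheme.{u}}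
    (f : Y ⟶ X) (g : X' ⟶ X) (f' : Y' ⟶ X') (g' : Y' ⟶ Y) (H : IsPullback g' f' f g)
    (hf : Quiet.IsQuiet p f) : Quiet.IsQuiet p f' := by
  intro y'
  obtain ⟨V, W, r, e, hyV, hr, he, hre⟩ := hf (g' y')
  haveI := he
  have hcomm : ((g' ∣_ V) ≫ r) ≫ e = ((g' ⁻¹ᵁ V).ι ≫ f') ≫ g := by
    rw [Category.assoc, hre, ← Category.assoc, morphismRestrict_ι, Category.assoc, H.w,
      Category.assoc]
  obtain ⟨r'', hr''⟩ : ∃ r'' : ((g' ⁻¹ᵁ V : Y'.Opens) : Scheme.{u}) ⟶ pullback e g,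
      r'' = pullback.lift ((g' ∣_ V) ≫ r) ((g' ⁻¹ᵁ V).ι ≫ f') hcomm := ⟨_, rfl⟩
  have hfst : r'' ≫ pullback.fst e g = (g' ∣_ V) ≫ r := by rw [hr'', pullback.lift_fst]
  have hsnd : r'' ≫ pullback.snd e g = (g' ⁻¹ᵁ V).ι ≫ f' := by rw [hr'', pullback.lift_snd]
  refine ⟨g' ⁻¹ᵁ V, pullback e g, r'', pullback.snd e g, hyV, ?_, inferInstance, hsnd⟩
  have hleft : IsPullback (g' ⁻¹ᵁ V).ι (g' ∣_ V) g' V.ι := (isPullback_morphismRestrict g' V).flip
  have houter := hleft.paste_horiz H.flip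
  rw [← hsnd, ← hre] at houter
  have hright : IsPullback (pullback.snd e g) (pullback.fst e g) g e :=
    (IsPullback.of_hasPullback e g).flip
  have hsq := IsPullback.of_right houter hfst hright
  exact isPthRoot_baseChange p hsq.flip hr

end Groth.Agent.Helper17.QT
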