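import Mathlib
import Groth.Prelude.Def_CohCmp
import Groth.Agent.Lib.Helper13.ToAbExact
import Groth.Agent.Lib.Helper17.MT25

/-!
# The comparison maps `ε : H^p(f⁻¹V, F) → Γ(V, R^p f_* F)` are locally surjective
-/

set_option autoImplicit false

open CategoryTheory CategoryTheory.Limits AlgebraicGeometry AlgebraicGeometry.Scheme.Modules Opposite
  TopologicalSpace

universe u

namespace Groth.Agent.Helper17.SC1

variable {X Y : Scheme.{u}}

/-- restriction to an open followed by the underlying abelian sheaf is exact -/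
theorem shortExact_toAbOn (U : X.Opens) (S : ShortComplex X.Modules) (hS : S.ShortExact) :
    (S.map (CohCmp.toAbOn X U)).ShortExact := by
  have h1 : (S.map (restrictFunctor U.ι)).ShortExact := hS.map_of_exact _
  exact Groth.Agent.Helper13.ToAbExact.toAb_shortExact _ h1

/-- an epimorphism of modules is locally surjective on sections -/
theorem exists_lift_of_epi {M N : Y.Modules} (g : M ⟶ N) [Epi g] (V : Y.Opens)
    (t : N.presheaf.obj (op V)) (y : Y) (hy : y ∈ V) :
    ∃ (W : Y.Opens) (hWV : W ≤ V), y ∈ W ∧ ∃ s : M.presheaf.obj (op W),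
      g.app W s = N.presheaf.map (homOfLE hWV).op t := by
  have he : Epi g := inferInstance
  have hg : Presheaf.IsLocallySurjective (Opens.grothendieckTopology Y)
      ((SheafOfModules.toSheaf.{u} Y.ringCatSheaf).map g).hom :=
    (Groth.Agent.Helper17.MT.epi_iff_isLocallySurjective (R := Y.ringCatSheaf) g).mp he
  have hmem := Presheaf.imageSieve_mem (Opens.grothendieckTopology Y)
    ((SheafOfModules.toSheaf.{u} Y.ringCatSheaf).map g).hom (U := op V) t
  obtain ⟨W, h, ⟨s, hs⟩, hyW⟩ := hmem y hy
  exact ⟨W, leOfHom h, hyW, s, hs⟩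

theorem app_naturality {M N : Y.Modules} (g : M ⟶ N) {V W : Y.Opens} (h : W ≤ V)
    (t : M.presheaf.obj (op V)) :
    g.app W (M.presheaf.map (homOfLE h).op t) = N.presheaf.map (homOfLE h).op (g.app V t) := by
  have := g.mapPresheaf.naturality (homOfLE h).op
  exact ConcreteCategory.congr_hom this t

theorem exists_mono_injective [HasInjectiveResolutions X.Modules] (F : X.Modules) :
    ∃ (I : X.Modules) (_ : Injective I) (ι : F ⟶ I), Mono ι := by
  obtain ⟨⟨R⟩⟩ := (HasInjectiveResolutions.out F : HasInjectiveResolution F)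
  have hm : Mono (R.ι.f 0) := inferInstance
  exact ⟨R.cocomplex.X 0, inferInstance, R.ι.f 0, hm⟩

theorem main16954 (f : X ⟶ Y) [HasInjectiveResolutions X.Modules]
    {Δ : RDer.DerivedLES (pushforward f)} (E : CohCmp.SectCmp f Δ) (F : X.Modules) (p : ℕ)
    (V : Y.Opens) (t : ((Coh.Rpush f p).obj F).presheaf.obj (op V)) (y : Y) (hy : y ∈ V) :
    ∃ (W : Y.Opens) (hWV : W ≤ V), y ∈ W ∧
      ∃ x : Coh.HHon X F (f ⁻¹ᵁ W) p,
        E.ε W F p x = ((Coh.Rpush f p).obj F).presheaf.map (homOfLE hWV).op t := by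
  induction p generalizing F V with
  | zero =>
    refine ⟨V, le_rfl, hy, ?_⟩
    have hφ : IsIso ((pushforward f).toRightDerivedZero.app F) := inferInstance
    let s := (inv ((pushforward f).toRightDerivedZero.app F)).app V t
    refine ⟨CohPull.sectH0 F (f ⁻¹ᵁ V) s, ?_⟩
    rw [E.zero]
    have h1 : (((pushforward f).toRightDerivedZero.app F).app V)
        ((inv ((pushforward f).toRightDerivedZero.app F)).app V t) = t := by
      have h2 : (inv ((pushforward f).toRightDerivedZero.app F)).app V ≫
          ((pushforward f).toRightDerivedZero.app F).app V = 𝟙 _ := by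
        rw [← Hom.comp_app, IsIso.inv_hom_id]
        rfl
      exact ConcreteCategory.congr_hom h2 t
    have h3 : ((Coh.Rpush f 0).obj F).presheaf.map (homOfLE (le_refl V)).op t = t := by
      have : (homOfLE (le_refl V)).op = 𝟙 (op V) := rfl
      rw [this, CategoryTheory.Functor.map_id]
      rfl
    rw [h3]
    exact h1
  | succ p ih =>
    obtain ⟨I, hI, ι, hι⟩ := exists_mono_injective F
    let S : ShortComplex X.Modules := ShortComplex.mk ι (cokernel.π ι) (cokernel.condition ι)
    have hS : S.ShortExact :=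
      { exact := ShortComplex.exact_cokernel ι
        mono_f := hι
        epi_g := inferInstanceAs (Epi (cokernel.π ι)) }
    have hz : IsZero ((Coh.Rpush f (p + 1)).obj I) :=
      Functor.isZero_rightDerived_obj_injective_succ _ p I
    have hex := Δ.exact₁ S hS p (p + 1) rfl
    have hepi : Epi (Δ.δ S hS p (p + 1) rfl) := hex.epi_f (hz.eq_of_tgt _ _)
    obtain ⟨W₁, hW₁V, hyW₁, t', ht'⟩ := exists_lift_of_epi (Δ.δ S hS p (p + 1) rfl) V t y hy
    obtain ⟨W, hWW₁, hyW, x', hx'⟩ := ih S.X₃ W₁ t' hyW₁
    refine ⟨W, hWW₁.trans hW₁V, hyW,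
      CohCmp.extδ (shortExact_toAbOn (f ⁻¹ᵁ W) S hS) p x', ?_⟩
    rw [E.delta W S hS _ p x', hx', app_naturality, ht']
    have : (homOfLE (hWW₁.trans hW₁V)).op = (homOfLE hW₁V).op ≫ (homOfLE hWW₁).op := rfl
    rw [this, CategoryTheory.Functor.map_comp]
    rfl

end Groth.Agent.Helper17.SC1
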