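import Mathlib
import Groth.Prelude.Def_W4bk5brsh7111920

/-!
# Height lemmas for Faltings' annihilator theorem (helper17)
-/

set_option autoImplicit false

universe u

namespace Groth.Agent.Helper17.FA

/-- Heights do not drop under extension to a localization. -/
theorem height_le_height_map_of_isLocalization {R : Type*} [CommRing R] (S : Submonoid R)
    (A : Type*) [CommRing A] [Algebra R A] [IsLocalization S A] (I : Ideal R) :
    I.height ≤ (I.map (algebraMap R A)).height :=
  (Ideal.height_mono Ideal.le_comap_map).trans (IsLocalization.height_under S _).le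

/-- `ht q + ht(p/q) ≤ ht p` for primes `q ≤ p`. -/
theorem height_add_height_map_le {R : Type u} [CommRing R] [IsNoetherianRing R] (q p : Ideal R)
    [q.IsPrime] [p.IsPrime] (hqp : q ≤ p) :
    q.height + (p.map (Ideal.Quotient.mk q)).height ≤ p.height := by
  have hpq : (p.map (Ideal.Quotient.mk q)).IsPrime :=
    Ideal.map_isPrime_of_surjective Ideal.Quotient.mk_surjective (by rw [Ideal.mk_ker]; exact hqp)
  obtain ⟨l, hlast, hlen⟩ := Ideal.exists_ltSeries_length_eq_height (p.map (Ideal.Quotient.mk q))
  set f := Ideal.Quotient.mk q with hf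
  have hfsurj : Function.Surjective f := Ideal.Quotient.mk_surjective
  have key : ∀ i (hi : i < l.length + 1),
      q.height + i ≤ ((l ⟨i, hi⟩).asIdeal.comap f).height := by
    intro i
    induction i with
    | zero =>
      intro hi
      rw [Nat.cast_zero, add_zero]
      apply Ideal.height_mono
      intro x hx
      rw [Ideal.mem_comap, hf, Ideal.Quotient.eq_zero_iff_mem.mpr hx]
      exact Ideal.zero_mem _
    | succ i ih =>
      intro hi
      have hi' : i < l.length + 1 := by omega
      have hlt : l ⟨i, hi'⟩ < l ⟨i + 1, hi⟩ := l.strictMono (by simp [Fin.lt_def])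
      have hlt' : (l ⟨i, hi'⟩).asIdeal < (l ⟨i + 1, hi⟩).asIdeal := hlt
      have hlt2 : (l ⟨i, hi'⟩).asIdeal.comap f < (l ⟨i + 1, hi⟩).asIdeal.comap f := by
        refine lt_of_le_of_ne (Ideal.comap_mono hlt'.le) (fun e => hlt'.ne ?_)
        exact Ideal.comap_injective_of_surjective f hfsurj e
      have := Ideal.height_add_one_le_of_lt_of_isPrime hlt2
      calc q.height + ((i + 1 : ℕ) : ℕ∞)
          = (q.height + i) + 1 := by push_cast; rw [add_assoc]
        _ ≤ ((l ⟨i, hi'⟩).asIdeal.comap f).height + 1 := add_le_add (ih hi') le_rfl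
        _ ≤ _ := this
  have h1 := key l.length (Nat.lt_succ_self _)
  have e1 : (l ⟨l.length, Nat.lt_succ_self _⟩) = RelSeries.last l := rfl
  rw [e1, hlast, hlen] at h1
  refine h1.trans (le_of_eq ?_)
  congr 1
  rw [hf, Ideal.comap_map_of_surjective _ Ideal.Quotient.mk_surjective, ← RingHom.ker_eq_comap_bot,
    Ideal.mk_ker, sup_eq_left.mpr hqp]

/-- monotonicity of the adjusted depth in the ideal `a` -/
theorem adjDepth_mono {R : Type u} [CommRing R] {a a' : Ideal R} (h : a ≤ a') (M : Type u)
    [AddCommGroup M] [Module R M] (p : PrimeSpectrum R) :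
    LocCoh.adjDepth a M p ≤ LocCoh.adjDepth a' M p := by
  unfold LocCoh.adjDepth
  exact add_le_add le_rfl (Ideal.height_mono (Ideal.map_mono (sup_le_sup_right h _)))

theorem minAdjDepth_mono {R : Type u} [CommRing R] {a a' : Ideal R} (h : a ≤ a') (b : Ideal R)
    (M : Type u) [AddCommGroup M] [Module R M] :
    LocCoh.minAdjDepth a b M ≤ LocCoh.minAdjDepth a' b M := by
  unfold LocCoh.minAdjDepth
  exact iInf₂_mono fun p _ => adjDepth_mono h M p

end Groth.Agent.Helper17.FA
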