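import Mathlib

/-!
# Flat lifts of ideals over a small extension: the difference of two lifts (helper17)
-/

set_option autoImplicit false

namespace Groth.Agent.Helper17.DF

open scoped TensorProduct

universe u

section Mu

variable {C' : Type u} [CommRing C'] (J : Ideal C')

/-- The multiplication map `M ⊗ J → M`. -/
noncomputable def mu (M : Type u) [AddCommGroup M] [Module C' M] : M ⊗[C'] ↥J →ₗ[C'] M :=
  (TensorProduct.rid C' M).toLinearMap ∘ₗ (LinearMap.lTensor M (Submodule.subtype J))

variable {M N : Type u} [AddCommGroup M] [Module C' M] [AddCommGroup N] [Module C' N]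

@[simp] lemma mu_tmul (m : M) (j : ↥J) : mu J M (m ⊗ₜ j) = (j : C') • m := by
  simp [mu]

lemma mu_apply (z : M ⊗[C'] ↥J) :
    mu J M z = TensorProduct.rid C' M (LinearMap.lTensor M (Submodule.subtype J) z) := rfl

lemma mu_injective [Module.Flat C' M] : Function.Injective (mu J M) :=
  (TensorProduct.rid C' M).injective.comp
    (Module.Flat.lTensor_preserves_injective_linearMap _ (Submodule.subtype_injective J))

lemma mu_natural (f : M →ₗ[C'] N) (z : M ⊗[C'] ↥J) :
    mu J N (LinearMap.rTensor ↥J f z) = f (mu J M z) := by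
  induction z using TensorProduct.induction_on with
  | zero => simp
  | tmul m j => simp
  | add a b ha hb => simp only [map_add, ha, hb]

/-- The key vanishing: if `Q` is flat and `q (mu z) = 0` then `(r ∘ q) ⊗ id` kills `z`. -/
lemma rTensor_comp_eq_zero {Q B : Type u} [AddCommGroup Q] [Module C' Q] [Module.Flat C' Q]
    [AddCommGroup B] [Module C' B] (q : M →ₗ[C'] Q) (r : Q →ₗ[C'] B) (z : M ⊗[C'] ↥J)
    (hz : q (mu J M z) = 0) : LinearMap.rTensor ↥J (r ∘ₗ q) z = 0 := by
  have h1 : LinearMap.rTensor ↥J q z = 0 := by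
    apply mu_injective J (M := Q)
    rw [mu_natural, hz, map_zero]
  rw [LinearMap.rTensor_comp_apply, h1, map_zero]

end Mu

section Ring

variable {C' : Type u} [CommRing C'] (J : Ideal C') {A' : Type u} [CommRing A'] [Algebra C' A']

lemma mu_smul (a : A') (z : A' ⊗[C'] ↥J) : mu J A' (a • z) = a * mu J A' z := by
  induction z using TensorProduct.induction_on with
  | zero => simp
  | tmul m j => rw [TensorProduct.smul_tmul', mu_tmul, mu_tmul, smul_eq_mul, mul_smul_comm]
  | add x y hx hy => rw [smul_add, map_add, hx, hy, map_add, mul_add]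

lemma exists_mu_eq (u : A') (hu : u ∈ J.map (algebraMap C' A')) : ∃ z, mu J A' z = u := by
  unfold Ideal.map at hu
  refine Submodule.span_induction ?_ ?_ ?_ ?_ hu
  · rintro _ ⟨j, hj, rfl⟩
    exact ⟨(1 : A') ⊗ₜ ⟨j, hj⟩, by rw [mu_tmul, Algebra.algebraMap_eq_smul_one]⟩
  · exact ⟨0, map_zero _⟩
  · rintro x y _ _ ⟨zx, rfl⟩ ⟨zy, rfl⟩
    exact ⟨zx + zy, map_add _ _ _⟩
  · rintro a x _ ⟨zx, rfl⟩
    exact ⟨a • zx, by rw [mu_smul, smul_eq_mul]⟩

end Ring

end Groth.Agent.Helper17.DF
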