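import Mathlib
import Groth.Agent.Lib.Helper17.DF1

/-!
# Infinitesimal automorphisms of a flat module over a small extension
-/

set_option autoImplicit false

universe u

open scoped TensorProduct

namespace Groth.Agent.Helper17.AU

open Groth.Agent.Helper17.DF

variable {C' : Type u} [CommRing C'] (J : Ideal C') {A' : Type u} [CommRing A'] [Algebra C' A']
  {M' : Type u} [AddCommGroup M'] [Module A' M'] [Module C' M'] [IsScalarTower C' A' M']

omit [Module C' M'] [IsScalarTower C' A' M'] [AddCommGroup M'] [Module A' M'] in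
theorem map_induction (I : Ideal C') {P : A' → Prop} (h0 : P 0)
    (hadd : ∀ r s, P r → P s → P (r + s)) (hmul : ∀ a r, P r → P (a * r))
    (halg : ∀ c ∈ I, P (algebraMap C' A' c)) : ∀ r ∈ I.map (algebraMap C' A'), P r := by
  intro r hr
  unfold Ideal.map at hr
  refine Submodule.span_induction ?_ h0 (fun x y _ _ hx hy => hadd x y hx hy)
    (fun a x _ hx => by simpa using hmul a x hx) hr
  rintro _ ⟨c, hc, rfl⟩
  exact halg c hc

theorem mu_smul_left (a : A') (z : M' ⊗[C'] ↥J) : mu J M' (a • z) = a • mu J M' z := by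
  induction z using TensorProduct.induction_on with
  | zero => simp
  | tmul m j => rw [TensorProduct.smul_tmul', mu_tmul, mu_tmul, smul_comm]
  | add x y hx hy => rw [smul_add, map_add, hx, hy, map_add, smul_add]

theorem rTensor_mkQ_smul (N : Submodule A' M') (a : A') (z : M' ⊗[C'] ↥J) :
    LinearMap.rTensor ↥J ((Submodule.mkQ N).restrictScalars C') (a • z) =
      a • LinearMap.rTensor ↥J ((Submodule.mkQ N).restrictScalars C') z := by
  induction z using TensorProduct.induction_on with
  | zero => simp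
  | tmul m j =>
    rw [TensorProduct.smul_tmul', LinearMap.rTensor_tmul, LinearMap.rTensor_tmul,
      TensorProduct.smul_tmul']
    simp
  | add x y hx hy => rw [smul_add, map_add, hx, hy, map_add, smul_add]

theorem smul_J_eq_zero (hJJ : ∀ j₁ ∈ J, ∀ j₂ ∈ J, j₁ * j₂ = 0) (j : C') (hj : j ∈ J)
    (z : M' ⊗[C'] ↥J) : j • z = 0 := by
  induction z using TensorProduct.induction_on with
  | zero => simp
  | tmul n j' =>
    rw [TensorProduct.smul_tmul', TensorProduct.smul_tmul]
    have : j • j' = 0 := Subtype.ext (by simpa using hJJ j hj j' j'.2)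
    rw [this, TensorProduct.tmul_zero]
  | add x y hx hy => rw [smul_add, hx, hy, add_zero]

theorem range_mu (x : M') (hx : x ∈ (J.map (algebraMap C' A')) • (⊤ : Submodule A' M')) :
    ∃ z, mu J M' z = x := by
  refine Submodule.smul_induction_on hx ?_ ?_
  · intro r hr n _
    revert n
    refine map_induction (P := fun r => ∀ n : M', n ∈ (⊤ : Submodule A' M') →
      ∃ z, mu J M' z = r • n) J ?_ ?_ ?_ ?_ r hr
    · intro n _
      exact ⟨0, by simp⟩
    · intro r s hr hs n hn
      obtain ⟨z₁, h₁⟩ := hr n hn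
      obtain ⟨z₂, h₂⟩ := hs n hn
      exact ⟨z₁ + z₂, by rw [map_add, h₁, h₂, add_smul]⟩
    · intro a r hr n hn
      obtain ⟨z, hz⟩ := hr n hn
      exact ⟨a • z, by rw [mu_smul_left, hz, mul_smul]⟩
    · intro c hc n _
      exact ⟨n ⊗ₜ ⟨c, hc⟩, by rw [mu_tmul, algebraMap_smul]⟩
  · rintro x y ⟨z₁, rfl⟩ ⟨z₂, rfl⟩
    exact ⟨z₁ + z₂, map_add _ _ _⟩

theorem mu_mem (z : M' ⊗[C'] ↥J) :
    mu J M' z ∈ (J.map (algebraMap C' A')) • (⊤ : Submodule A' M') := by
  induction z using TensorProduct.induction_on with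
  | zero => simp
  | tmul m j =>
    rw [mu_tmul, ← algebraMap_smul A' (j : C') m]
    exact Submodule.smul_mem_smul (Ideal.mem_map_of_mem _ j.2) Submodule.mem_top
  | add x y hx hy => rw [map_add]; exact Submodule.add_mem _ hx hy

/-- elements of `𝔪M'` die in `M' ⊗ J` when `𝔪 J = 0`. -/
theorem tmul_eq_zero (m : Ideal C') (hmJ : ∀ c ∈ m, ∀ j ∈ J, c * j = 0) (y : M')
    (hy : y ∈ (m.map (algebraMap C' A')) • (⊤ : Submodule A' M')) (j : ↥J) :
    (y ⊗ₜ[C'] j : M' ⊗[C'] ↥J) = 0 := by
  refine Submodule.smul_induction_on hy ?_ ?_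
  · intro r hr n _
    revert n
    refine map_induction (P := fun r => ∀ n : M', n ∈ (⊤ : Submodule A' M') →
      ((r • n) ⊗ₜ[C'] j : M' ⊗[C'] ↥J) = 0) m ?_ ?_ ?_ ?_ r hr
    · intro n _
      rw [zero_smul, TensorProduct.zero_tmul]
    · intro r s hr hs n hn
      rw [add_smul, TensorProduct.add_tmul, hr n hn, hs n hn, add_zero]
    · intro a r hr n hn
      rw [mul_comm, mul_smul]
      exact hr (a • n) Submodule.mem_top
    · intro c hc n _
      rw [algebraMap_smul, TensorProduct.smul_tmul]
      have : c • j = 0 := Subtype.ext (by simpa using hmJ c hc j j.2)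
      rw [this, TensorProduct.tmul_zero]
  · intro x y hx hy
    rw [TensorProduct.add_tmul, hx, hy, add_zero]

theorem rTensor_mkQ_injective (m : Ideal C') (hmJ : ∀ c ∈ m, ∀ j ∈ J, c * j = 0) :
    Function.Injective (LinearMap.rTensor ↥J
      ((Submodule.mkQ ((m.map (algebraMap C' A')) • (⊤ : Submodule A' M'))).restrictScalars C')) := by
  have hex : Function.Exact
      ((((m.map (algebraMap C' A')) • (⊤ : Submodule A' M')).restrictScalars C').subtype)
      ((Submodule.mkQ ((m.map (algebraMap C' A')) • (⊤ : Submodule A' M'))).restrictScalars C') := by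
    intro x
    constructor
    · intro hx
      have hx' : x ∈ (m.map (algebraMap C' A')) • (⊤ : Submodule A' M') :=
        (Submodule.Quotient.mk_eq_zero _).mp hx
      exact ⟨⟨x, hx'⟩, rfl⟩
    · rintro ⟨y, rfl⟩
      exact (Submodule.Quotient.mk_eq_zero _).mpr y.2
  have hsurj : Function.Surjective
      ((Submodule.mkQ ((m.map (algebraMap C' A')) • (⊤ : Submodule A' M'))).restrictScalars C') := by
    intro y
    obtain ⟨x, rfl⟩ := Submodule.mkQ_surjective
      ((m.map (algebraMap C' A')) • (⊤ : Submodule A' M')) y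
    exact ⟨x, rfl⟩
  have hex' := rTensor_exact (↥J) hex hsurj
  have hzero : ∀ w, LinearMap.rTensor ↥J
      ((((m.map (algebraMap C' A')) • (⊤ : Submodule A' M')).restrictScalars C').subtype) w = 0 := by
    intro w
    induction w using TensorProduct.induction_on with
    | zero => simp
    | tmul y j =>
      rw [LinearMap.rTensor_tmul]
      exact tmul_eq_zero J m hmJ y.1 y.2 j
    | add a b ha hb => rw [map_add, ha, hb, add_zero]
  rw [injective_iff_map_eq_zero]
  intro z hz
  obtain ⟨w, rfl⟩ := (hex' z).mp hz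
  exact hzero w

end Groth.Agent.Helper17.AU
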