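import Mathlib
import Groth.Agent.Lib.Helper17.AU1

/-!
# Lifting generators of an ideal with flat quotient over a small extension
-/

set_option autoImplicit false

universe u

open scoped TensorProduct

namespace Groth.Agent.Helper17.GL

open Groth.Agent.Helper17.DF Groth.Agent.Helper17.AU

variable {C' : Type u} [CommRing C'] (J : Ideal C') {A' : Type u} [CommRing A'] [Algebra C' A']

/-- If `A'/I'` is flat over `C'` then `I' ∩ JA' ⊆ JA' · I'`. -/
theorem inter_le_mul (I' : Ideal A') [Module.Flat C' (A' ⧸ I')] (x : A') (hxI : x ∈ I')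
    (hxJ : x ∈ J.map (algebraMap C' A')) : x ∈ J.map (algebraMap C' A') * I' := by
  obtain ⟨z, rfl⟩ := exists_mu_eq J x hxJ
  have hex : Function.Exact ((I'.restrictScalars C').subtype)
      ((Submodule.mkQ I').restrictScalars C') := by
    intro y
    constructor
    · intro hy
      have hy' : y ∈ I' := (Submodule.Quotient.mk_eq_zero _).mp hy
      exact ⟨⟨y, hy'⟩, rfl⟩
    · rintro ⟨w, rfl⟩
      exact (Submodule.Quotient.mk_eq_zero _).mpr w.2
  have hsurj : Function.Surjective ((Submodule.mkQ I').restrictScalars C') := by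
    intro y
    obtain ⟨x, rfl⟩ := Submodule.mkQ_surjective I' y
    exact ⟨x, rfl⟩
  have hex' := rTensor_exact (↥J) hex hsurj
  have hz0 : LinearMap.rTensor ↥J ((Submodule.mkQ I').restrictScalars C') z = 0 := by
    apply mu_injective J (M := A' ⧸ I')
    rw [mu_natural, map_zero]
    exact (Submodule.Quotient.mk_eq_zero _).mpr hxI
  have hmem : ∀ w : ↥(I'.restrictScalars C') ⊗[C'] ↥J,
      mu J A' (LinearMap.rTensor ↥J ((I'.restrictScalars C').subtype) w) ∈
        J.map (algebraMap C' A') * I' := by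
    intro w
    induction w using TensorProduct.induction_on with
    | zero => simp
    | tmul y j =>
      rw [LinearMap.rTensor_tmul, mu_tmul]
      show (j : C') • (y : A') ∈ _
      rw [← algebraMap_smul A' (j : C') (y : A'), smul_eq_mul]
      exact Ideal.mul_mem_mul (Ideal.mem_map_of_mem _ j.2) y.2
    | add a b ha hb =>
      rw [map_add, map_add]
      exact Ideal.add_mem _ ha hb
  obtain ⟨w, rfl⟩ := (hex' z).mp hz0
  exact hmem w

/-- Nakayama for a square-zero ideal. -/
theorem le_of_le_sup_mul {K I I'' : Ideal A'} (hK : K * K = ⊥) (h1 : I'' ≤ I)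
    (h2 : I ≤ I'' ⊔ K * I) : I = I'' := by
  refine le_antisymm ?_ h1
  have h3 : K * I ≤ I'' := by
    calc K * I ≤ K * (I'' ⊔ K * I) := Ideal.mul_mono_right h2
      _ = K * I'' ⊔ K * (K * I) := Ideal.mul_sup _ _ _
      _ = K * I'' := by rw [← mul_assoc, hK, Ideal.bot_mul, sup_bot_eq]
      _ ≤ I'' := Ideal.mul_le_right
  exact h2.trans (sup_le le_rfl h3)

theorem exists_lift_generators [IsLocalRing C'] (hJ : IsLocalRing.maximalIdeal C' * J = ⊥)
    (hJne : J ≠ ⊤) (r : ℕ) (a : Fin r → A' ⧸ J.map (algebraMap C' A'))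
    (I' : Ideal A') [Module.Flat C' (A' ⧸ I')]
    (hI' : I'.map (Ideal.Quotient.mk (J.map (algebraMap C' A'))) = Ideal.span (Set.range a)) :
    ∃ a' : Fin r → A', (∀ i, Ideal.Quotient.mk (J.map (algebraMap C' A')) (a' i) = a i) ∧
      I' = Ideal.span (Set.range a') := by
  have hmem : ∀ i, ∃ y ∈ I', Ideal.Quotient.mk (J.map (algebraMap C' A')) y = a i := by
    intro i
    have : a i ∈ I'.map (Ideal.Quotient.mk (J.map (algebraMap C' A'))) := by
      rw [hI']
      exact Ideal.subset_span ⟨i, rfl⟩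
    exact (Ideal.mem_map_iff_of_surjective _ Ideal.Quotient.mk_surjective).mp this
  choose a' ha'I ha' using hmem
  refine ⟨a', ha', ?_⟩
  have hJJ : J * J = ⊥ := by
    have : J * J ≤ IsLocalRing.maximalIdeal C' * J :=
      Ideal.mul_mono_left (IsLocalRing.le_maximalIdeal hJne)
    rw [hJ] at this
    exact le_bot_iff.mp this
  have hK : J.map (algebraMap C' A') * J.map (algebraMap C' A') = ⊥ := by
    rw [← Ideal.map_mul, hJJ, Ideal.map_bot]
  have h1 : Ideal.span (Set.range a') ≤ I' := by
    rw [Ideal.span_le]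
    rintro _ ⟨i, rfl⟩
    exact ha'I i
  refine le_of_le_sup_mul hK h1 ?_
  intro x hx
  have hx' : Ideal.Quotient.mk (J.map (algebraMap C' A')) x ∈
      (Ideal.span (Set.range a')).map (Ideal.Quotient.mk (J.map (algebraMap C' A'))) := by
    rw [Ideal.map_span, ← Set.range_comp]
    have : (⇑(Ideal.Quotient.mk (J.map (algebraMap C' A'))) ∘ a') = a := funext ha'
    rw [this, ← hI']
    exact Ideal.mem_map_of_mem _ hx
  obtain ⟨y, hy, hyx⟩ := (Ideal.mem_map_iff_of_surjective _ Ideal.Quotient.mk_surjective).mp hx'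
  have hxy : x - y ∈ J.map (algebraMap C' A') := by
    rw [← Ideal.Quotient.eq_zero_iff_mem, map_sub, hyx, sub_self]
  have hxyI : x - y ∈ I' := Ideal.sub_mem _ hx (h1 hy)
  have := inter_le_mul J I' (x - y) hxyI hxy
  have hx2 : x = y + (x - y) := by ring
  rw [hx2]
  exact Ideal.add_mem _ (Ideal.mem_sup_left hy) (Ideal.mem_sup_right this)

end Groth.Agent.Helper17.GL
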