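import Mathlib
import Groth.Agent.Lib.Helper22.ArtFlat
import Groth.Agent.Lib.Helper17.GL1

/-!
# Lifting regular sequences along a flat deformation over an Artinian local base
-/

set_option autoImplicit false

universe u

open scoped TensorProduct Pointwise

namespace Groth.Agent.Helper17.RQ

open IsLocalRing Groth.Agent.Helper22.ArtFlat Groth.Agent.Helper17.DF Groth.Agent.Helper17.AU

variable {C : Type u} [CommRing C] {A : Type u} [CommRing A] [Algebra C A]
  {M : Type u} [AddCommGroup M] [Module A M] [Module C M] [IsScalarTower C A M]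

/-- scalar multiplication by `a : A` as a `C`-linear map -/
def smulC (a : A) : M →ₗ[C] M := (LinearMap.lsmul A M a).restrictScalars C

@[simp] lemma smulC_apply (a : A) (x : M) : smulC (C := C) a x = a • x := rfl

lemma mem_smul_top_iff (J : Ideal C) (x : M) :
    x ∈ (J • ⊤ : Submodule C M) ↔ x ∈ (J.map (algebraMap C A) • ⊤ : Submodule A M) := by
  constructor
  · intro hx
    refine Submodule.smul_induction_on hx ?_ ?_
    · intro c hc y _
      rw [← algebraMap_smul A c y]
      exact Submodule.smul_mem_smul (Ideal.mem_map_of_mem _ hc) Submodule.mem_top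
    · intro y z hy hz
      exact Submodule.add_mem _ hy hz
  · intro hx
    have key : ∀ z : M ⊗[C] ↥J, mu J M z ∈ (J • ⊤ : Submodule C M) := by
      intro z
      induction z using TensorProduct.induction_on with
      | zero => simp
      | tmul y j =>
        rw [mu_tmul]
        exact Submodule.smul_mem_smul j.2 Submodule.mem_top
      | add y z hy hz => rw [map_add]; exact Submodule.add_mem _ hy hz
    obtain ⟨z, rfl⟩ := range_mu J x hx
    exact key z

variable [IsLocalRing C]

theorem lemmaA [Module.Flat C M] (hm : IsNilpotent (maximalIdeal C)) (a : A)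
    (ha : ∀ x : M, a • x ∈ ((maximalIdeal C).map (algebraMap C A) • ⊤ : Submodule A M) →
      x ∈ ((maximalIdeal C).map (algebraMap C A) • ⊤ : Submodule A M)) :
    IsSMulRegular M a ∧ Module.Flat C (QuotSMulTop a M) := by
  have h : Function.Injective ((smulC (C := C) (M := M) a).lTensor (ResidueField C)) := by
    rw [injective_iff_map_eq_zero]
    intro z hz
    obtain ⟨x, rfl⟩ := exists_one_tmul_eq' z
    rw [LinearMap.lTensor_tmul, one_tmul_eq_zero_iff', smulC_apply, mem_smul_top_iff (A := A)] at hz
    rw [one_tmul_eq_zero_iff', mem_smul_top_iff (A := A)]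
    exact ha x hz
  refine ⟨injective_of_residue hm _ h, ?_⟩
  refine flat_of_exact hm (smulC (C := C) (M := M) a)
    ((Submodule.mkQ (a • (⊤ : Submodule A M))).restrictScalars C) ?_ ?_ h
  · intro y
    constructor
    · intro hy
      have hy' : y ∈ a • (⊤ : Submodule A M) := (Submodule.Quotient.mk_eq_zero _).mp hy
      obtain ⟨x, -, rfl⟩ := (Submodule.mem_smul_pointwise_iff_exists _ _ _).mp hy'
      exact ⟨x, rfl⟩
    · rintro ⟨x, rfl⟩
      exact (Submodule.Quotient.mk_eq_zero _).mpr
        (Submodule.smul_mem_pointwise_smul x a ⊤ Submodule.mem_top)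
  · intro y
    obtain ⟨x, rfl⟩ := Submodule.mkQ_surjective _ y
    exact ⟨x, rfl⟩

omit [IsLocalRing C] [Module C M] [IsScalarTower C A M] in
/-- `(M/KM)/r ≃ (M/rM)/K(M/rM)` -/
noncomputable def quotSwap (K : Ideal A) (r : A) :
    QuotSMulTop r (M ⧸ (K • ⊤ : Submodule A M)) ≃ₗ[A]
      (QuotSMulTop r M) ⧸ (K • ⊤ : Submodule A (QuotSMulTop r M)) :=
  Submodule.quotEquivOfEq _ _
      (by rw [Submodule.map_pointwise_smul, Submodule.map_top, Submodule.range_mkQ]) ≪≫ₗ
    Submodule.quotientQuotientEquivQuotientSup (K • ⊤ : Submodule A M) (r • ⊤) ≪≫ₗ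
    Submodule.quotEquivOfEq _ _ (sup_comm _ _) ≪≫ₗ
    (Submodule.quotientQuotientEquivQuotientSup (r • ⊤ : Submodule A M) (K • ⊤)).symm ≪≫ₗ
    Submodule.quotEquivOfEq _ _
      (by rw [Submodule.map_smul'', Submodule.map_top, Submodule.range_mkQ])

theorem weaklyRegular_lift (hm : IsNilpotent (maximalIdeal C)) (rs : List A) :
    ∀ (M : Type u) [AddCommGroup M] [Module A M] [Module C M] [IsScalarTower C A M]
      [Module.Flat C M],
      RingTheory.Sequence.IsWeaklyRegular
        (M ⧸ ((maximalIdeal C).map (algebraMap C A) • ⊤ : Submodule A M)) rs →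
      RingTheory.Sequence.IsWeaklyRegular M rs ∧
        Module.Flat C (M ⧸ (Ideal.ofList rs • ⊤ : Submodule A M)) := by
  induction rs with
  | nil =>
    intro M _ _ _ _ _ _
    refine ⟨RingTheory.Sequence.IsWeaklyRegular.nil A M, ?_⟩
    have h0 : (Ideal.ofList ([] : List A) • ⊤ : Submodule A M) = ⊥ := by
      rw [Ideal.ofList_nil, Submodule.bot_smul]
    exact Module.Flat.of_linearEquiv
      ((Submodule.quotEquivOfEqBot _ h0).restrictScalars C)
  | cons r rs ih =>
    intro M _ _ _ _ _ h
    rw [RingTheory.Sequence.isWeaklyRegular_cons_iff] at h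
    obtain ⟨h1, h2⟩ := h
    have ha : ∀ x : M, r • x ∈ ((maximalIdeal C).map (algebraMap C A) • ⊤ : Submodule A M) →
        x ∈ ((maximalIdeal C).map (algebraMap C A) • ⊤ : Submodule A M) := by
      intro x hx
      rw [← Submodule.Quotient.mk_eq_zero] at hx ⊢
      rw [Submodule.Quotient.mk_smul] at hx
      exact h1 (by show r • Submodule.Quotient.mk x = r • 0; rw [hx, smul_zero])
    obtain ⟨hreg, hflat⟩ := lemmaA (C := C) hm r ha
    have h3 := ((quotSwap ((maximalIdeal C).map (algebraMap C A)) r).isWeaklyRegular_congr rs).mp h2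
    obtain ⟨h4, h5⟩ := ih (QuotSMulTop r M) h3
    refine ⟨(RingTheory.Sequence.isWeaklyRegular_cons_iff M r rs).mpr ⟨hreg, h4⟩, ?_⟩
    exact Module.Flat.of_linearEquiv
      ((Submodule.quotOfListConsSMulTopEquivQuotSMulTopInner M r rs).restrictScalars C)

end Groth.Agent.Helper17.RQ
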