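import Mathlib
import Groth.Agent.Lib.Helper17.RQ1

set_option autoImplicit false

universe u

open scoped TensorProduct Pointwise

namespace Groth.Agent.Helper17.RQ

open IsLocalRing Groth.Agent.Helper22.ArtFlat Groth.Agent.Helper17.GL

/-- Nakayama for a nilpotent ideal (ideal version). -/
theorem eq_of_le_sup_mul_nilpotent {A : Type*} [CommRing A] {K I I'' : Ideal A}
    (hK : IsNilpotent K) (h1 : I'' ≤ I) (h2 : I ≤ I'' ⊔ K * I) : I = I'' := by
  refine le_antisymm ?_ h1
  have key : ∀ n : ℕ, I ≤ I'' ⊔ K ^ n * I := by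
    intro n
    induction n with
    | zero => rw [pow_zero, one_mul]; exact le_sup_right
    | succ n ih =>
      calc I ≤ I'' ⊔ K ^ n * I := ih
        _ ≤ I'' ⊔ K ^ n * (I'' ⊔ K * I) := sup_le_sup_left (Ideal.mul_mono_right h2) _
        _ = I'' ⊔ (K ^ n * I'' ⊔ K ^ n * (K * I)) := by rw [Ideal.mul_sup]
        _ ≤ I'' ⊔ K ^ (n + 1) * I := by
          refine sup_le le_sup_left (sup_le (Ideal.mul_le_right.trans le_sup_left) ?_)
          rw [← mul_assoc, ← pow_succ]
          exact le_sup_right
  obtain ⟨n, hn⟩ := hK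
  have := key n
  rw [hn, Ideal.zero_eq_bot, Ideal.bot_mul, sup_bot_eq] at this
  exact this

theorem main (C : Type u) [CommRing C] [IsLocalRing C] [IsArtinianRing C] (A : Type u)
    [CommRing A] [Algebra C A] [Module.Flat C A]
    (I : Ideal A) [Module.Flat C (A ⧸ I)] (r : ℕ)
    (b : Fin r → A ⧸ (maximalIdeal C).map (algebraMap C A))
    (hb : RingTheory.Sequence.IsRegular (A ⧸ (maximalIdeal C).map (algebraMap C A)) (List.ofFn b))
    (hI : I.map (Ideal.Quotient.mk ((maximalIdeal C).map (algebraMap C A))) =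
      Ideal.span (Set.range b)) :
    ∃ a : Fin r → A, RingTheory.Sequence.IsRegular A (List.ofFn a) ∧
      I = Ideal.span (Set.range a) := by
  have hm : IsNilpotent (maximalIdeal C) := isNilpotent_maximalIdeal C
  have hKnil : IsNilpotent ((maximalIdeal C).map (algebraMap C A)) := by
    obtain ⟨n, hn⟩ := hm
    exact ⟨n, by rw [← Ideal.map_pow, hn, Ideal.zero_eq_bot, Ideal.map_bot, Ideal.zero_eq_bot]⟩
  have hmem : ∀ i, ∃ y ∈ I,
      Ideal.Quotient.mk ((maximalIdeal C).map (algebraMap C A)) y = b i := by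
    intro i
    have : b i ∈ I.map (Ideal.Quotient.mk ((maximalIdeal C).map (algebraMap C A))) := by
      rw [hI]
      exact Ideal.subset_span ⟨i, rfl⟩
    exact (Ideal.mem_map_iff_of_surjective _ Ideal.Quotient.mk_surjective).mp this
  choose a haI ha using hmem
  have h1 : Ideal.span (Set.range a) ≤ I := by
    rw [Ideal.span_le]
    rintro _ ⟨i, rfl⟩
    exact haI i
  have hIa : I = Ideal.span (Set.range a) := by
    refine eq_of_le_sup_mul_nilpotent hKnil h1 ?_
    intro x hx
    have hx' : Ideal.Quotient.mk ((maximalIdeal C).map (algebraMap C A)) x ∈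
        (Ideal.span (Set.range a)).map
          (Ideal.Quotient.mk ((maximalIdeal C).map (algebraMap C A))) := by
      rw [Ideal.map_span, ← Set.range_comp]
      have : (⇑(Ideal.Quotient.mk ((maximalIdeal C).map (algebraMap C A))) ∘ a) = b :=
        funext ha
      rw [this, ← hI]
      exact Ideal.mem_map_of_mem _ hx
    obtain ⟨y, hy, hyx⟩ :=
      (Ideal.mem_map_iff_of_surjective _ Ideal.Quotient.mk_surjective).mp hx'
    have hxy : x - y ∈ (maximalIdeal C).map (algebraMap C A) := by
      rw [← Ideal.Quotient.eq_zero_iff_mem, map_sub, hyx, sub_self]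
    have hxyI : x - y ∈ I := Ideal.sub_mem _ hx (h1 hy)
    have := inter_le_mul (maximalIdeal C) I (x - y) hxyI hxy
    have hx2 : x = y + (x - y) := by ring
    rw [hx2]
    exact Ideal.add_mem _ (Ideal.mem_sup_left hy) (Ideal.mem_sup_right this)
  refine ⟨a, ?_, hIa⟩
  have hlist : (List.ofFn a).map (algebraMap A (A ⧸ (maximalIdeal C).map (algebraMap C A))) =
      List.ofFn b := by
    rw [List.map_ofFn]
    congr 1
    exact funext ha
  have hw1 : RingTheory.Sequence.IsWeaklyRegular
      (A ⧸ (maximalIdeal C).map (algebraMap C A)) (List.ofFn a) := by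
    rw [← RingTheory.Sequence.isWeaklyRegular_map_algebraMap_iff
      (A ⧸ (maximalIdeal C).map (algebraMap C A)), hlist]
    exact hb.toIsWeaklyRegular
  have heq : ((maximalIdeal C).map (algebraMap C A) : Submodule A A) =
      ((maximalIdeal C).map (algebraMap C A) • ⊤ : Submodule A A) := by
    rw [smul_eq_mul, Ideal.mul_top]
  have hw2 : RingTheory.Sequence.IsWeaklyRegular
      (A ⧸ ((maximalIdeal C).map (algebraMap C A) • ⊤ : Submodule A A)) (List.ofFn a) :=
    ((Submodule.quotEquivOfEq _ _ heq).isWeaklyRegular_congr _).mp hw1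
  obtain ⟨hw3, -⟩ := weaklyRegular_lift (C := C) hm (List.ofFn a) A hw2
  refine ⟨hw3, ?_⟩
  intro htop
  apply hb.top_ne_smul
  have hofa : Ideal.ofList (List.ofFn a) = Ideal.span (Set.range a) := by
    unfold Ideal.ofList
    congr 1
    ext x
    simp [List.mem_ofFn]
  have hofb : Ideal.ofList (List.ofFn b) = Ideal.span (Set.range b) := by
    unfold Ideal.ofList
    congr 1
    ext x
    simp [List.mem_ofFn]
  rw [hofa, smul_eq_mul, Ideal.mul_top, ← hIa] at htop
  rw [hofb, smul_eq_mul, Ideal.mul_top, ← hI, ← htop]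
  exact (Ideal.map_top _).symm

end Groth.Agent.Helper17.RQ
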