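import Mathlib
import Groth.Agent.Lib.Helper17.RQ2
import Groth.Agent.Lib.Helper1.LocalCriterion

/-!
# Descending flatness along a regular element (local Noetherian case)
-/

set_option autoImplicit false

universe u

open scoped TensorProduct Pointwise

namespace Groth.Agent.Helper17.RQ

open IsLocalRing Groth.Agent.Helper22.ArtFlat Groth.Agent.Helper17.DF Groth.Agent.Helper17.AU

variable {C : Type u} [CommRing C] {A : Type u} [CommRing A] [Algebra C A]
  {M : Type u} [AddCommGroup M] [Module A M] [Module C M] [IsScalarTower C A M]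

/-- If `M/N` is flat over `C` then `N ∩ JM ⊆ J N`. -/
theorem inter_le_smul (J : Ideal C) (N : Submodule A M) [Module.Flat C (M ⧸ N)] (x : M)
    (hxN : x ∈ N) (hxJ : x ∈ (J.map (algebraMap C A) • ⊤ : Submodule A M)) :
    x ∈ J.map (algebraMap C A) • N := by
  obtain ⟨z, rfl⟩ := range_mu J x hxJ
  have hex : Function.Exact ((N.restrictScalars C).subtype)
      ((Submodule.mkQ N).restrictScalars C) := by
    intro y
    constructor
    · intro hy
      have hy' : y ∈ N := (Submodule.Quotient.mk_eq_zero _).mp hy
      exact ⟨⟨y, hy'⟩, rfl⟩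
    · rintro ⟨w, rfl⟩
      exact (Submodule.Quotient.mk_eq_zero _).mpr w.2
  have hsurj : Function.Surjective ((Submodule.mkQ N).restrictScalars C) := by
    intro y
    obtain ⟨x, rfl⟩ := Submodule.mkQ_surjective N y
    exact ⟨x, rfl⟩
  have hex' := rTensor_exact (↥J) hex hsurj
  have hz0 : LinearMap.rTensor ↥J ((Submodule.mkQ N).restrictScalars C) z = 0 := by
    apply mu_injective J (M := M ⧸ N)
    rw [mu_natural, map_zero]
    exact (Submodule.Quotient.mk_eq_zero _).mpr hxN
  have hmem : ∀ w : ↥(N.restrictScalars C) ⊗[C] ↥J,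
      mu J M (LinearMap.rTensor ↥J ((N.restrictScalars C).subtype) w) ∈
        J.map (algebraMap C A) • N := by
    intro w
    induction w using TensorProduct.induction_on with
    | zero => simp
    | tmul y j =>
      rw [LinearMap.rTensor_tmul, mu_tmul]
      show (j : C) • (y : M) ∈ _
      rw [← algebraMap_smul A (j : C) (y : M)]
      exact Submodule.smul_mem_smul (Ideal.mem_map_of_mem _ j.2) y.2
    | add a b ha hb =>
      rw [map_add, map_add]
      exact Submodule.add_mem _ ha hb
  obtain ⟨w, rfl⟩ := (hex' z).mp hz0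
  exact hmem w

omit [Module C M] [IsScalarTower C A M] [Algebra C A] in
theorem exists_of_mem_smul_smul_top (K : Ideal A) (r : A) (x : M)
    (hx : x ∈ K • (r • (⊤ : Submodule A M))) : ∃ y ∈ (K • ⊤ : Submodule A M), x = r • y := by
  refine Submodule.smul_induction_on hx ?_ ?_
  · intro k hk z hz
    obtain ⟨w, -, rfl⟩ := (Submodule.mem_smul_pointwise_iff_exists _ _ _).mp hz
    exact ⟨k • w, Submodule.smul_mem_smul hk Submodule.mem_top, smul_comm k r w⟩
  · rintro _ _ ⟨y₁, h₁, rfl⟩ ⟨y₂, h₂, rfl⟩
    exact ⟨y₁ + y₂, Submodule.add_mem _ h₁ h₂, (smul_add r y₁ y₂).symm⟩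

/-- step (3): if `r` is `M`-regular and `M/rM` is flat over `C`, then `r` is regular on `M/JM`. -/
theorem regular_mod (J : Ideal C) (r : A) (hr : IsSMulRegular M r)
    [Module.Flat C (QuotSMulTop r M)] :
    IsSMulRegular (M ⧸ (J.map (algebraMap C A) • ⊤ : Submodule A M)) r := by
  intro x y hxy
  obtain ⟨x, rfl⟩ := Submodule.mkQ_surjective _ x
  obtain ⟨y, rfl⟩ := Submodule.mkQ_surjective _ y
  have h1 : r • (x - y) ∈ (J.map (algebraMap C A) • ⊤ : Submodule A M) := by
    rw [← Submodule.Quotient.mk_eq_zero, Submodule.Quotient.mk_smul, Submodule.Quotient.mk_sub,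
      smul_sub]
    exact sub_eq_zero.mpr hxy
  have h2 : r • (x - y) ∈ r • (⊤ : Submodule A M) :=
    Submodule.smul_mem_pointwise_smul _ r ⊤ Submodule.mem_top
  have h3 := inter_le_smul J (r • (⊤ : Submodule A M)) _ h2 h1
  obtain ⟨z, hz, hz'⟩ := exists_of_mem_smul_smul_top _ r _ h3
  have h4 : x - y = z := hr hz'
  show Submodule.Quotient.mk x = Submodule.Quotient.mk y
  rw [← sub_eq_zero, ← Submodule.Quotient.mk_sub, Submodule.Quotient.mk_eq_zero, h4]
  exact hz

/-- `mu` as an `A`-linear map -/
noncomputable def muA (J : Ideal C) : M ⊗[C] ↥J →ₗ[A] M :=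
  { toFun := mu J M
    map_add' := map_add _
    map_smul' := fun a z => mu_smul_left J a z }

@[simp] lemma muA_apply (J : Ideal C) (z : M ⊗[C] ↥J) : muA (A := A) J z = mu J M z := rfl

lemma rTensor_smulC (J : Ideal C) (r : A) (s : M ⊗[C] ↥J) :
    LinearMap.rTensor ↥J (smulC (C := C) (M := M) r) s = r • s := by
  induction s using TensorProduct.induction_on with
  | zero => simp
  | tmul x j => rw [LinearMap.rTensor_tmul, smulC_apply, TensorProduct.smul_tmul']
  | add a b ha hb => rw [map_add, ha, hb, smul_add]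

/-- Lemma D: descending flatness along a regular element in the maximal ideal. -/
theorem flat_of_regular_of_flat_quot [IsLocalRing C] [IsNoetherianRing C]
    (hm : IsNilpotent (maximalIdeal C)) [IsLocalRing A] [IsNoetherianRing A] [Module.Finite A M]
    (r : A) (hrm : r ∈ maximalIdeal A) (hr : IsSMulRegular M r)
    [Module.Flat C (QuotSMulTop r M)] : Module.Flat C M := by
  have hfin : Module.Finite A (M ⊗[C] ↥(maximalIdeal C)) :=
    Module.Finite.equiv
      (TensorProduct.AlgebraTensorModule.cancelBaseChange C A A M ↥(maximalIdeal C))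
  have hT : (LinearMap.ker (muA (A := A) (M := M) (maximalIdeal C))).FG :=
    IsNoetherian.noetherian _
  have hex : Function.Exact (smulC (C := C) (M := M) r)
      ((Submodule.mkQ (r • (⊤ : Submodule A M))).restrictScalars C) := by
    intro y
    constructor
    · intro hy
      have hy' : y ∈ r • (⊤ : Submodule A M) := (Submodule.Quotient.mk_eq_zero _).mp hy
      obtain ⟨x, -, rfl⟩ := (Submodule.mem_smul_pointwise_iff_exists _ _ _).mp hy'
      exact ⟨x, rfl⟩
    · rintro ⟨x, rfl⟩
      exact (Submodule.Quotient.mk_eq_zero _).mpr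
        (Submodule.smul_mem_pointwise_smul x r ⊤ Submodule.mem_top)
  have hsurj : Function.Surjective
      ((Submodule.mkQ (r • (⊤ : Submodule A M))).restrictScalars C) := by
    intro y
    obtain ⟨x, rfl⟩ := Submodule.mkQ_surjective _ y
    exact ⟨x, rfl⟩
  have hex' := rTensor_exact (↥(maximalIdeal C)) hex hsurj
  have hle : LinearMap.ker (muA (A := A) (M := M) (maximalIdeal C)) ≤
      maximalIdeal A • LinearMap.ker (muA (A := A) (M := M) (maximalIdeal C)) := by
    intro t ht
    rw [LinearMap.mem_ker, muA_apply] at ht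
    have h0 : LinearMap.rTensor ↥(maximalIdeal C)
        ((Submodule.mkQ (r • (⊤ : Submodule A M))).restrictScalars C) t = 0 := by
      apply mu_injective (maximalIdeal C) (M := QuotSMulTop r M)
      rw [mu_natural, ht, map_zero, map_zero]
    obtain ⟨s, rfl⟩ := (hex' t).mp h0
    rw [rTensor_smulC] at ht ⊢
    rw [mu_smul_left] at ht
    have hs : mu (maximalIdeal C) M s = 0 := hr (by show r • mu (maximalIdeal C) M s = r • 0; rw [ht, smul_zero])
    exact Submodule.smul_mem_smul hrm (by rw [LinearMap.mem_ker, muA_apply, hs])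
  have hT0 : LinearMap.ker (muA (A := A) (M := M) (maximalIdeal C)) = ⊥ :=
    Submodule.eq_bot_of_le_smul_of_le_jacobson_bot (maximalIdeal A) _ hT hle
      (by rw [jacobson_eq_maximalIdeal ⊥ bot_ne_top])
  have hmu : Function.Injective (mu (maximalIdeal C) M) := by
    rw [injective_iff_map_eq_zero]
    intro z hz
    have : z ∈ LinearMap.ker (muA (A := A) (M := M) (maximalIdeal C)) := by
      rw [LinearMap.mem_ker, muA_apply, hz]
    rw [hT0] at this
    exact this
  have hl : Function.Injective (LinearMap.lTensor M (maximalIdeal C).subtype) := by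
    have : mu (maximalIdeal C) M =
        (TensorProduct.rid C M).toLinearMap ∘ₗ LinearMap.lTensor M (maximalIdeal C).subtype := rfl
    rw [this, LinearMap.coe_comp] at hmu
    exact Function.Injective.of_comp hmu
  let _ := Ideal.Quotient.field (maximalIdeal C)
  refine Groth.Agent.Helper1.flat_of_isNilpotent (maximalIdeal C) hm ?_
  rw [← LinearMap.lTensor_inj_iff_rTensor_inj]
  exact hl

end Groth.Agent.Helper17.RQ
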