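import Mathlib

/-!
# Two small lemmas on points of affine schemes (for helper7, S5274)
-/

set_option autoImplicit false
universe u
open CategoryTheory CategoryTheory.Limits AlgebraicGeometry

namespace Groth.Agent.Helper17.FieldPt

/-- a morphism from the spectrum of a field factors through the residue field of its image point,
by a flat surjective morphism. -/
theorem exists_fac_of_field {S : Scheme.{u}} (K : Type u) [Field K] (f : Spec (.of K) ⟶ S)
    (s : S) (hs : f (IsLocalRing.closedPoint K) = s) :
    ∃ q : Spec (.of K) ⟶ Spec (S.residueField s), Flat q ∧ Surjective q ∧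
      q ≫ S.fromSpecResidueField s = f := by
  subst hs
  refine ⟨Spec.map (S.descResidueField (Scheme.stalkClosedPointTo f)), ?_, ?_,
    Scheme.descResidueField_stalkClosedPointTo_fromSpecResidueField K S f⟩
  · rw [HasRingHomProperty.Spec_iff (P := @Flat)]
    rw [RingHom.Flat]
    letI := (S.descResidueField (Scheme.stalkClosedPointTo f)).hom.toAlgebra
    infer_instance
  · constructor
    intro z
    refine ⟨IsLocalRing.closedPoint K, Subsingleton.elim _ _⟩

theorem exists_flat_surj_fac {S : Scheme.{u}} {B : CommRingCat.{u}} (v : Spec B ⟶ S) (y : Spec B) :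
    ∃ q : Spec (CommRingCat.of y.asIdeal.ResidueField) ⟶ Spec (S.residueField (v y)),
      Flat q ∧ Surjective q ∧ q ≫ S.fromSpecResidueField (v y) =
        Spec.map (CommRingCat.ofHom (algebraMap B y.asIdeal.ResidueField)) ≫ v := by
  apply exists_fac_of_field
  rw [Scheme.Hom.comp_apply]
  congr 1
  apply PrimeSpectrum.ext
  ext b
  change algebraMap B y.asIdeal.ResidueField b ∈ IsLocalRing.maximalIdeal y.asIdeal.ResidueField ↔
    b ∈ y.asIdeal
  rw [IsLocalRing.maximalIdeal_eq_bot, Ideal.mem_bot, Ideal.algebraMap_residueField_eq_zero]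

theorem exists_openImm_of_idem {B : CommRingCat.{u}} (e : B) (he : IsIdempotentElem e) (y : Spec B)
    (hy : e ∉ y.asIdeal) :
    ∃ (C : CommRingCat.{u}) (θ : B ⟶ C), IsOpenImmersion (Spec.map θ) ∧
      y ∈ Set.range (Spec.map θ).base ∧ θ.hom e = 1 := by
  refine ⟨.of (Localization.Away e), CommRingCat.ofHom (algebraMap B (Localization.Away e)),
    inferInstance, ?_, ?_⟩
  · have h := PrimeSpectrum.localization_away_comap_range (Localization.Away e) e
    have hy' : y ∈ (PrimeSpectrum.basicOpen e : Set (PrimeSpectrum B)) := hy
    rw [← h] at hy'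
    obtain ⟨z, hz⟩ := hy'
    exact ⟨z, hz⟩
  · have hu : IsUnit (algebraMap B (Localization.Away e) e) :=
      IsLocalization.Away.algebraMap_isUnit e
    have h2 : algebraMap B (Localization.Away e) e * algebraMap B (Localization.Away e) e =
        algebraMap B (Localization.Away e) e := by
      rw [← map_mul, he.eq]
    have h3 := hu.mul_left_cancel (h2.trans (mul_one _).symm)
    exact h3

end Groth.Agent.Helper17.FieldPt
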