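import Mathlib
import Groth.Prelude.Def_AlgGrp

/-!
# Actions of group schemes in terms of points (helper17)
-/

set_option autoImplicit false
set_option linter.style.haveILetI false

namespace Groth.Agent.Helper17.AC1

open CategoryTheory CategoryTheory.Limits MonoidalCategory CartesianMonoidalCategory MonObj
  AlgebraicGeometry Opposite

universe u

variable {S : Scheme.{u}} {G U : Over S} [GrpObj G]

theorem act_one (a : AlgGrp.Action G U) {T : Over S} (u : T ⟶ U) :
    lift (toUnit T ≫ η[G]) u ≫ a.act = u := by
  rw [← lift_whiskerRight, Category.assoc, a.one_act, lift_leftUnitor_hom]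

theorem act_mul (a : AlgGrp.Action G U) {T : Over S} (g h : T ⟶ G) (u : T ⟶ U) :
    lift (g * h) u ≫ a.act = lift g (lift h u ≫ a.act) ≫ a.act := by
  rw [Hom.mul_def, ← lift_whiskerRight, Category.assoc, a.mul_act,
    lift_lift_associator_hom_assoc, lift_whiskerLeft_assoc]

/-- an action from its axioms on points -/
noncomputable def mk' (act : G ⊗ U ⟶ U)
    (h1 : ∀ (T : Over S) (u : T ⟶ U), lift (toUnit T ≫ η[G]) u ≫ act = u)
    (h2 : ∀ (T : Over S) (g h : T ⟶ G) (u : T ⟶ U),
      lift (g * h) u ≫ act = lift g (lift h u ≫ act) ≫ act) : AlgGrp.Action G U where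
  act := act
  one_act := by
    have e : η[G] ▷ U = lift (toUnit _ ≫ η[G]) (snd (𝟙_ (Over S)) U) := by
      apply CartesianMonoidalCategory.hom_ext
      · rw [whiskerRight_fst, lift_fst]
        congr 1
      · rw [whiskerRight_snd, lift_snd]
    rw [e, h1, leftUnitor_hom]
  mul_act := by
    have e1 : μ[G] ▷ U = lift ((fst (G ⊗ G) U ≫ fst G G) * (fst (G ⊗ G) U ≫ snd G G))
        (snd (G ⊗ G) U) := by
      apply CartesianMonoidalCategory.hom_ext
      · rw [whiskerRight_fst, lift_fst, ← MonObj.comp_mul, ← MonObj.mul_eq_mul]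
      · rw [whiskerRight_snd, lift_snd]
    have e2 : (α_ G G U).hom = lift (fst (G ⊗ G) U ≫ fst G G)
        (lift (fst (G ⊗ G) U ≫ snd G G) (snd (G ⊗ G) U)) := by
      apply CartesianMonoidalCategory.hom_ext
      · rw [associator_hom_fst, lift_fst]
      · apply CartesianMonoidalCategory.hom_ext
        · rw [Category.assoc, associator_hom_snd_fst, lift_snd, lift_fst]
        · rw [Category.assoc, associator_hom_snd_snd, lift_snd, lift_snd]
    rw [e1, h2, e2, lift_whiskerLeft_assoc]

end Groth.Agent.Helper17.AC1
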