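import Mathlib
import Groth.Prelude.Def_AlgGrp
import Groth.Agent.Lib.Helper17.AA1
import Groth.Agent.Lib.Helper18.GrpFppf

/-!
# Morphisms from anti-affine schemes to affine schemes are constant (helper17)
-/

set_option autoImplicit false
set_option linter.style.haveILetI false

namespace Groth.Agent.Helper17.AA2

open CategoryTheory CategoryTheory.Limits MonoidalCategory CartesianMonoidalCategory MonObj
  AlgebraicGeometry Opposite TopologicalSpace

universe u

/-- the pullback on global sections along a rational point of an anti-affine scheme inverts the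
structure map on global sections -/
theorem appTop_point_comp (k : Type u) [Field k] {X : Over (Spec (CommRingCat.of k))}
    (x₀ : 𝟙_ (Over (Spec (CommRingCat.of k))) ⟶ X)
    (hX : Function.Bijective ((Scheme.ΓSpecIso (CommRingCat.of k)).inv ≫ X.hom.appTop).hom) :
    x₀.left.appTop ≫ X.hom.appTop = 𝟙 _ := by
  haveI : IsIso ((Scheme.ΓSpecIso (CommRingCat.of k)).inv ≫ X.hom.appTop) :=
    AA1.isIso_of_bijective _ hX
  haveI : IsIso X.hom.appTop :=
    IsIso.of_isIso_comp_left (Scheme.ΓSpecIso (CommRingCat.of k)).inv _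
  have hw : x₀.left ≫ X.hom = 𝟙 _ := Over.w x₀
  have h1 : X.hom.appTop ≫ x₀.left.appTop = 𝟙 _ := by
    rw [← Scheme.Hom.comp_appTop, hw]
    simp
  rw [IsIso.eq_inv_of_hom_inv_id h1]
  simp

/-- a morphism from an anti-affine scheme with a rational point to an affine scheme is constant -/
theorem const_of_affine (k : Type u) [Field k] {X N : Over (Spec (CommRingCat.of k))}
    (x₀ : 𝟙_ (Over (Spec (CommRingCat.of k))) ⟶ X)
    (hX : Function.Bijective ((Scheme.ΓSpecIso (CommRingCat.of k)).inv ≫ X.hom.appTop).hom)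
    [IsAffine N.left] (n : X ⟶ N) : n = toUnit X ≫ x₀ ≫ n := by
  have h2 := appTop_point_comp k x₀ hX
  apply Over.OverMorphism.ext
  apply ext_of_isAffine
  simp only [Over.comp_left, Over.toUnit_left, Scheme.Hom.comp_appTop, Category.assoc]
  rw [h2, Category.comp_id]

theorem main11406 (k : Type u) [Field k] [IsAlgClosed k]
    (G H : Over (Spec (CommRingCat.of k))) [GrpObj G] [Smooth G.hom] [QuasiCompact G.hom]
    (hG : Function.Bijective ((Scheme.ΓSpecIso (CommRingCat.of k)).inv ≫ G.hom.appTop).hom)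
    [GrpObj H] [Smooth H.hom] [QuasiCompact H.hom] [ConnectedSpace ↥H.left]
    (N : Over (Spec (CommRingCat.of k))) [GrpObj N] (i : N ⟶ H) [IsMonHom i]
    [IsClosedImmersion i.left]
    [Smooth N.hom] [ConnectedSpace ↥N.left] [IsAffine N.left] (hN : AlgGrp.IsNormalHom i)
    (hNmax : ∀ (N' : Over (Spec (CommRingCat.of k))) [GrpObj N'] (i' : N' ⟶ H) [IsMonHom i']
      [IsClosedImmersion i'.left]
      [Smooth N'.hom] [ConnectedSpace ↥N'.left] [IsAffine N'.left],
      AlgGrp.IsNormalHom i' → ∃ g : N' ⟶ N, g ≫ i = i')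
    (A : Over (Spec (CommRingCat.of k))) [GrpObj A] [IsProper A.hom] [Smooth A.hom] (α : H ⟶ A)
    [IsMonHom α]
    [Surjective α.left] [Flat α.left] (hker : AlgGrp.IsKernel i α)
    (f f' : G ⟶ H) (hf : η[G] ≫ f = η[H]) (hf' : η[G] ≫ f' = η[H]) (hα : f ≫ α = f' ≫ α) :
    f = f' := by
  have hφ : (f * f'⁻¹) ≫ α = 1 := by
    rw [MonObj.mul_comp, GrpObj.inv_comp, hα, mul_inv_cancel]
  obtain ⟨n, hn⟩ := Groth.Agent.Helper18.GrpFppf.IsKernel.exists_lift hker (f * f'⁻¹) hφ
  have hconst : n = toUnit G ≫ η[G] ≫ n := const_of_affine k η[G] hG n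
  have h1 : f * f'⁻¹ = toUnit G ≫ η[G] ≫ (f * f'⁻¹) := by
    calc f * f'⁻¹ = n ≫ i := hn.symm
      _ = (toUnit G ≫ η[G] ≫ n) ≫ i := by rw [← hconst]
      _ = toUnit G ≫ η[G] ≫ (f * f'⁻¹) := by rw [Category.assoc, Category.assoc, hn]
  have h2 : η[G] ≫ (f * f'⁻¹) = 1 := by
    rw [MonObj.comp_mul, GrpObj.comp_inv, hf, hf', mul_inv_cancel]
  rw [h2, MonObj.comp_one] at h1
  exact mul_inv_eq_one.mp h1

end Groth.Agent.Helper17.AA2
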