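import Mathlib
import Groth.Prelude.Def_AlgGrp
import Groth.Agent.Lib.Helper17.AA6
import Groth.Agent.Lib.Helper17.AA7
import Groth.Agent.Lib.Helper12.GrpSchSep

/-!
# Families of morphisms from an anti-affine group (helper17)
-/

set_option autoImplicit false
set_option linter.style.haveILetI false

namespace Groth.Agent.Helper17.AA8

open CategoryTheory CategoryTheory.Limits MonoidalCategory CartesianMonoidalCategory MonObj
  AlgebraicGeometry Opposite

universe u

theorem main11421 (k : Type u) [Field k] [IsAlgClosed k]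
    (G H S : Over (Spec (CommRingCat.of k))) [GrpObj G] [Smooth G.hom] [QuasiCompact G.hom]
    (hG : Function.Bijective ((Scheme.ΓSpecIso (CommRingCat.of k)).inv ≫ G.hom.appTop).hom)
    [GrpObj H] [Smooth H.hom] [QuasiCompact H.hom] [ConnectedSpace ↥H.left]
    [LocallyOfFiniteType S.hom] [QuasiCompact S.hom] [ConnectedSpace ↥S.left]
    (f : G ⊗ S ⟶ H) :
    ∃ (φ : S ⟶ H) (ψ : G ⟶ H), IsMonHom ψ ∧ f = (snd G S ≫ φ) * (fst G S ≫ ψ) ∧
      ∀ (φ' : S ⟶ H) (ψ' : G ⟶ H), IsMonHom ψ' → f = (snd G S ≫ φ') * (fst G S ≫ ψ') →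
        φ' = φ ∧ ψ' = ψ := by
  haveI : LocallyOfFiniteType G.hom := inferInstance
  haveI : LocallyOfFiniteType H.hom := inferInstance
  haveI : IsSeparated H.hom := Groth.Agent.Helper12.isSeparated_of_grpObj H
  obtain ⟨hcS, -⟩ := AA1.qcqs_of_field k S.hom
  haveI := hcS
  obtain ⟨x, -, hx⟩ := IsClosed.exists_closed_singleton (X := ↥S.left) isClosed_univ
    Set.univ_nonempty
  let s₀ : 𝟙_ (Over (Spec (CommRingCat.of k))) ⟶ S :=
    Over.homMk (pointOfClosedPoint S.hom x hx) (by simp)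
  let iS : S ⟶ G ⊗ S := lift (toUnit S ≫ η[G]) (𝟙 S)
  let iG : G ⟶ G ⊗ S := lift (𝟙 G) (toUnit G ≫ s₀)
  let φ : S ⟶ H := iS ≫ f
  let F : G ⊗ S ⟶ H := (snd G S ≫ φ)⁻¹ * f
  let ψ : G ⟶ H := iG ≫ F
  have hiS_fst : iS ≫ fst G S = toUnit S ≫ η[G] := lift_fst _ _
  have hiS_snd : iS ≫ snd G S = 𝟙 S := lift_snd _ _
  have hiG_fst : iG ≫ fst G S = 𝟙 G := lift_fst _ _
  have hiG_snd : iG ≫ snd G S = toUnit G ≫ s₀ := lift_snd _ _
  have hF1 : iS ≫ F = 1 := by
    simp only [F, MonObj.comp_mul, GrpObj.comp_inv]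
    rw [← Category.assoc, hiS_snd, Category.id_comp]
    exact inv_mul_cancel φ
  have hψ1 : η[G] ≫ ψ = η[H] := by
    have h1 : η[G] ≫ iG = s₀ ≫ iS := by
      apply CartesianMonoidalCategory.hom_ext
      · rw [Category.assoc, hiG_fst, Category.comp_id, Category.assoc, hiS_fst, ← Category.assoc,
          toUnit_unique (s₀ ≫ toUnit S) (𝟙 _), Category.id_comp]
      · rw [Category.assoc, hiG_snd, Category.assoc, hiS_snd, Category.comp_id, ← Category.assoc,
          toUnit_unique (η[G] ≫ toUnit G) (𝟙 _), Category.id_comp]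
    simp only [ψ]
    rw [← Category.assoc, h1, Category.assoc, hF1, MonObj.comp_one]
    exact (MonObj.one_eq_one H).symm
  haveI hψ : IsMonHom ψ := AA7.main14578 k G H hG ψ hψ1
  let Ψ : G ⊗ S ⟶ H := F * (fst G S ≫ ψ)⁻¹
  have hΨ0 : (G ◁ s₀) ≫ Ψ = toUnit _ ≫ η[H] := by
    rw [← Hom.one_def]
    have h2 : G ◁ s₀ = fst G (𝟙_ _) ≫ iG := by
      apply CartesianMonoidalCategory.hom_ext
      · rw [whiskerLeft_fst, Category.assoc, hiG_fst, Category.comp_id]
      · rw [whiskerLeft_snd, Category.assoc, hiG_snd, ← Category.assoc]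
        congr 1
        exact toUnit_unique _ _
    have h3 : iG ≫ Ψ = 1 := by
      simp only [Ψ, MonObj.comp_mul, GrpObj.comp_inv]
      rw [← Category.assoc iG (fst G S), hiG_fst, Category.id_comp]
      exact mul_inv_cancel ψ
    rw [h2, Category.assoc, h3, MonObj.comp_one]
  have hΨ := AA6.rigid_over k G S H hG η[G] Ψ s₀ η[H] hΨ0
  have hΨ1 : iS ≫ Ψ = 1 := by
    simp only [Ψ, MonObj.comp_mul, GrpObj.comp_inv]
    rw [hF1, ← Category.assoc iS (fst G S), hiS_fst, Category.assoc, hψ1, ← Hom.one_def]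
    simp
  have hΨe : Ψ = 1 := by
    rw [hΨ]
    change snd G S ≫ iS ≫ Ψ = 1
    rw [hΨ1, MonObj.comp_one]
  have hFψ : F = fst G S ≫ ψ := mul_inv_eq_one.mp hΨe
  have hmain : f = (snd G S ≫ φ) * (fst G S ≫ ψ) := by
    rw [← hFψ]
    simp only [F]
    rw [mul_inv_cancel_left]
  refine ⟨φ, ψ, hψ, hmain, ?_⟩
  intro φ' ψ' hψ' hf'
  have hφ' : φ' = φ := by
    have h6 : iS ≫ f = φ' := by
      rw [hf', MonObj.comp_mul, ← Category.assoc, hiS_snd, Category.id_comp,
        ← Category.assoc iS, hiS_fst, Category.assoc, IsMonHom.one_hom ψ', ← Hom.one_def,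
        _root_.mul_one]
    exact h6.symm
  refine ⟨hφ', ?_⟩
  have h4 : fst G S ≫ ψ' = fst G S ≫ ψ := by
    have h5 : (snd G S ≫ φ) * (fst G S ≫ ψ') = (snd G S ≫ φ) * (fst G S ≫ ψ) := by
      rw [← hmain, ← hφ', ← hf']
    exact mul_left_cancel h5
  have h7 := congrArg (fun t => iG ≫ t) h4
  simp only [← Category.assoc, hiG_fst, Category.id_comp] at h7
  exact h7

end Groth.Agent.Helper17.AA8
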