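import Mathlib
import Groth.Prelude.Def_AlgGrp
import Groth.Agent.Lib.Helper17.AA1
import Groth.Agent.Lib.Helper17.AA5

/-!
# Rigidity for anti-affine schemes over an integral locally noetherian base (helper17)
-/

set_option autoImplicit false
set_option linter.style.haveILetI false

namespace Groth.Agent.Helper17.AA9

open CategoryTheory CategoryTheory.Limits AlgebraicGeometry TensorProduct

universe u

variable {k : Type u} [Field k]

section Chart

variable {Yb Xf Zt : Scheme.{u}} [Zt.IsSeparated] (yh : Yb ⟶ Spec (CommRingCat.of k))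
  (xh : Xf ⟶ Spec (CommRingCat.of k))

theorem chart_dom (a b : pullback yh xh ⟶ Zt)
    (R C : Type u) [CommRing R] [CommRing C] [Algebra k R] [Algebra k C]
    [IsNoetherianRing R] [IsDomain R]
    (jR : Spec (CommRingCat.of R) ⟶ Yb)
    (hjR : jR ≫ yh = Spec.map (CommRingCat.ofHom (algebraMap k R)))
    (jC : Spec (CommRingCat.of C) ⟶ Xf)
    (hjC : jC ≫ xh = Spec.map (CommRingCat.ofHom (algebraMap k C)))
    (𝔭 : Ideal R) [𝔭.IsPrime]
    (Hinf : ∀ n : ℕ,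
      AA4.T yh xh (AA3.Bn 𝔭 n) C (Spec.map (CommRingCat.ofHom (AA3.φn k 𝔭 n).toRingHom) ≫ jR)
        (AA4.hτ_comp yh jR hjR (AA3.φn k 𝔭 n)) jC hjC ≫ a =
      AA4.T yh xh (AA3.Bn 𝔭 n) C (Spec.map (CommRingCat.ofHom (AA3.φn k 𝔭 n).toRingHom) ≫ jR)
        (AA4.hτ_comp yh jR hjR (AA3.φn k 𝔭 n)) jC hjC ≫ b) :
    AA4.T yh xh R C jR hjR jC hjC ≫ a = AA4.T yh xh R C jR hjR jC hjC ≫ b := by
  obtain ⟨I, hI⟩ := AA4.agree_iff_le_ker (R ⊗[k] C) (AA4.T yh xh R C jR hjR jC hjC) a b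
  have H : ∀ (n : ℕ) (x : R ⊗[k] C), x ∈ I →
      Algebra.TensorProduct.map (AA3.φn k 𝔭 n) (AlgHom.id k C) x = 0 := by
    intro n x hx
    have h1 := Hinf n
    rw [AA4.T_comp yh xh jR hjR jC hjC (AA3.φn k 𝔭 n)] at h1
    simp only [Category.assoc] at h1
    exact RingHom.mem_ker.mp ((hI _ _).mp h1 hx)
  have hI0 : I = ⊥ := by
    rw [eq_bot_iff]
    intro x hx
    obtain ⟨h, hh, hz⟩ := AA3.exists_smul_eq_zero k R C 𝔭 (Ideal.span {x})
      ⟨{x}, by simp⟩ (fun n z hz => by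
        obtain ⟨c, rfl⟩ := Ideal.mem_span_singleton'.mp hz
        rw [map_mul, H n x hx, mul_zero])
    have h0 : (h ⊗ₜ[k] (1 : C)) * x = 0 := hz x (Ideal.subset_span rfl)
    have hne : h ≠ 0 := fun h0' => hh (h0' ▸ 𝔭.zero_mem)
    have hsm : h • x = 0 := by
      rw [Algebra.smul_def, Algebra.TensorProduct.algebraMap_apply]
      simpa using h0
    let bR := Algebra.TensorProduct.basis R (Module.Free.chooseBasis k C)
    exact (Submodule.mem_bot _).mpr ((bR.smul_eq_zero.mp hsm).resolve_left hne)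
  have h2 := (hI (CommRingCat.of (R ⊗[k] C)) (𝟙 _)).mpr (by rw [hI0]; exact bot_le)
  simpa using h2

variable (a : pullback yh xh ⟶ Zt)
  (x₀ : Spec (CommRingCat.of k) ⟶ Xf) (hx₀ : x₀ ≫ xh = 𝟙 _)

theorem K_chart_dom [CompactSpace Xf] [QuasiSeparatedSpace Xf]
    (hXf : Function.Bijective ((Scheme.ΓSpecIso (CommRingCat.of k)).inv ≫ xh.appTop).hom)
    (R C : Type u) [CommRing R] [CommRing C] [Algebra k R] [Algebra k C]
    [IsNoetherianRing R] [IsDomain R]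
    (jR : Spec (CommRingCat.of R) ⟶ Yb) [IsOpenImmersion jR]
    (hjR : jR ≫ yh = Spec.map (CommRingCat.ofHom (algebraMap k R)))
    (jC : Spec (CommRingCat.of C) ⟶ Xf) [IsOpenImmersion jC]
    (hjC : jC ≫ xh = Spec.map (CommRingCat.ofHom (algebraMap k C)))
    (𝔭 : PrimeSpectrum R) (y : Yb) (hy : jR 𝔭 = y)
    (hfib : ∀ w : ↥(pullback yh xh), pullback.fst yh xh w = y →
      a w = (pullback.fst yh xh ≫ AA4.σ yh xh x₀ hx₀ ≫ a) w) :
    ∀ w : ↥(pullback yh xh), pullback.fst yh xh w ∈ Set.range jR →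
      pullback.snd yh xh w ∈ Set.range jC →
      ∃ U : (pullback yh xh).Opens, w ∈ U ∧
        U.ι ≫ a = U.ι ≫ pullback.fst yh xh ≫ AA4.σ yh xh x₀ hx₀ ≫ a := by
  haveI : 𝔭.asIdeal.IsPrime := 𝔭.isPrime
  have hy_all : ∀ (n : ℕ) (p : ↥(Spec (CommRingCat.of (AA3.Bn 𝔭.asIdeal n)))),
      (Spec.map (CommRingCat.ofHom (AA3.φn k 𝔭.asIdeal n).toRingHom) ≫ jR) p = y := by
    intro n p
    rw [Scheme.Hom.comp_apply, ← hy]
    congr 1
    apply PrimeSpectrum.ext
    haveI : (PrimeSpectrum.asIdeal p).IsPrime := PrimeSpectrum.isPrime p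
    exact AA5.comap_φn (k := k) 𝔭.asIdeal n (PrimeSpectrum.asIdeal p)
  have hT := chart_dom yh xh a
    (pullback.fst yh xh ≫ AA4.σ yh xh x₀ hx₀ ≫ a) R C jR hjR jC hjC 𝔭.asIdeal
    (fun n => AA4.agree_artinian yh xh a x₀ hx₀ hXf (AA3.Bn 𝔭.asIdeal n) _ _ y (hy_all n) hfib
      C jC hjC)
  haveI hTo := AA4.T_isOpenImmersion yh xh R C jR hjR jC hjC
  intro w hw1 hw2
  have hw : w ∈ Set.range (AA4.T yh xh R C jR hjR jC hjC) := by
    rw [AA4.range_T]
    exact ⟨hw1, hw2⟩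
  refine ⟨(AA4.T yh xh R C jR hjR jC hjC).opensRange, hw, ?_⟩
  rw [← Scheme.Hom.isoOpensRange_inv_comp, Category.assoc, Category.assoc, hT]

theorem K_all_dom [CompactSpace Xf] [QuasiSeparatedSpace Xf] [IsLocallyNoetherian Yb]
    [IsIntegral Yb]
    (hXf : Function.Bijective ((Scheme.ΓSpecIso (CommRingCat.of k)).inv ≫ xh.appTop).hom)
    (y : Yb)
    (hfib : ∀ w : ↥(pullback yh xh), pullback.fst yh xh w = y →
      a w = (pullback.fst yh xh ≫ AA4.σ yh xh x₀ hx₀ ≫ a) w) :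
    ∃ V : Yb.Opens, y ∈ V ∧ ∀ w : ↥(pullback yh xh), pullback.fst yh xh w ∈ V →
      ∃ U : (pullback yh xh).Opens, w ∈ U ∧
        U.ι ≫ a = U.ι ≫ pullback.fst yh xh ≫ AA4.σ yh xh x₀ hx₀ ≫ a := by
  obtain ⟨V₁, hV₁, hyV₁, -⟩ :=
    exists_isAffineOpen_mem_and_subset (x := y) (U := ⊤) (TopologicalSpace.Opens.mem_top y)
  have eR : V₁ ≤ yh ⁻¹ᵁ ⊤ := fun _ _ => trivial
  letI algR : Algebra k Γ(Yb, V₁) :=
    ((Scheme.ΓSpecIso (CommRingCat.of k)).inv ≫ yh.appLE ⊤ V₁ eR).hom.toAlgebra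
  haveI : IsNoetherianRing Γ(Yb, V₁) := IsLocallyNoetherian.component_noetherian ⟨V₁, hV₁⟩
  haveI : Nonempty V₁ := ⟨⟨y, hyV₁⟩⟩
  haveI : IsDomain Γ(Yb, V₁) := inferInstance
  have hjR : hV₁.fromSpec ≫ yh = Spec.map (CommRingCat.ofHom (algebraMap k Γ(Yb, V₁))) :=
    AA5.chart_data yh V₁ hV₁ eR
  have hy𝔭 : hV₁.fromSpec (hV₁.primeIdealOf ⟨y, hyV₁⟩) = y :=
    hV₁.fromSpec_primeIdealOf ⟨y, hyV₁⟩
  refine ⟨V₁, hyV₁, fun w hw => ?_⟩
  obtain ⟨W, hW, hxW, -⟩ :=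
    exists_isAffineOpen_mem_and_subset (x := pullback.snd yh xh w) (U := ⊤)
      (TopologicalSpace.Opens.mem_top _)
  have eC : W ≤ xh ⁻¹ᵁ ⊤ := fun _ _ => trivial
  letI algC : Algebra k Γ(Xf, W) :=
    ((Scheme.ΓSpecIso (CommRingCat.of k)).inv ≫ xh.appLE ⊤ W eC).hom.toAlgebra
  have hjC : hW.fromSpec ≫ xh = Spec.map (CommRingCat.ofHom (algebraMap k Γ(Xf, W))) :=
    AA5.chart_data xh W hW eC
  have h5 := K_chart_dom yh xh a x₀ hx₀ hXf Γ(Yb, V₁) Γ(Xf, W) hV₁.fromSpec hjR hW.fromSpec hjC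
    (hV₁.primeIdealOf ⟨y, hyV₁⟩) y hy𝔭 hfib w
  rw [hW.range_fromSpec, hV₁.range_fromSpec] at h5
  exact h5 hw hxW

theorem rigid_dom [CompactSpace Xf] [QuasiSeparatedSpace Xf] [IsLocallyNoetherian Yb]
    [IsIntegral Yb]
    (hXf : Function.Bijective ((Scheme.ΓSpecIso (CommRingCat.of k)).inv ≫ xh.appTop).hom)
    (y₀ : Yb)
    (h₀ : ∀ w : ↥(pullback yh xh), pullback.fst yh xh w = y₀ →
      w ∈ Set.range (equalizer.ι a (pullback.fst yh xh ≫ AA4.σ yh xh x₀ hx₀ ≫ a))) :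
    a = pullback.fst yh xh ≫ AA4.σ yh xh x₀ hx₀ ≫ a := by
  have hι : equalizer.ι a (pullback.fst yh xh ≫ AA4.σ yh xh x₀ hx₀ ≫ a) ≫ a =
      equalizer.ι a (pullback.fst yh xh ≫ AA4.σ yh xh x₀ hx₀ ≫ a) ≫
        pullback.fst yh xh ≫ AA4.σ yh xh x₀ hx₀ ≫ a := equalizer.condition _ _
  have hcl : IsClosed (Set.range
      (equalizer.ι a (pullback.fst yh xh ≫ AA4.σ yh xh x₀ hx₀ ≫ a))) :=
    (Scheme.Hom.isClosedEmbedding _).isClosed_range
  let T' : Set Yb := {y | ∀ w : ↥(pullback yh xh), pullback.fst yh xh w = y →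
    w ∈ Set.range (equalizer.ι a (pullback.fst yh xh ≫ AA4.σ yh xh x₀ hx₀ ≫ a))}
  have hT'cl : IsClosed T' := by
    rw [← isOpen_compl_iff]
    have hc : T'ᶜ = pullback.fst yh xh ''
        (Set.range (equalizer.ι a (pullback.fst yh xh ≫ AA4.σ yh xh x₀ hx₀ ≫ a)))ᶜ := by
      ext y
      simp only [T', Set.mem_compl_iff, Set.mem_ofPred_eq, Set.mem_image, not_forall]
      constructor
      · rintro ⟨w, hw, hn⟩
        exact ⟨w, hn, hw⟩
      · rintro ⟨w, hn, hw⟩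
        exact ⟨w, hw, hn⟩
    rw [hc]
    exact (pullback.fst yh xh).isOpenMap _ hcl.isOpen_compl
  have hfibT : ∀ y ∈ T', ∀ w : ↥(pullback yh xh), pullback.fst yh xh w = y →
      a w = (pullback.fst yh xh ≫ AA4.σ yh xh x₀ hx₀ ≫ a) w := by
    intro y hy w hw
    obtain ⟨e, rfl⟩ := hy w hw
    rw [← Scheme.Hom.comp_apply, ← Scheme.Hom.comp_apply, hι]
  have hloc : ∀ w : ↥(pullback yh xh), (∃ U : (pullback yh xh).Opens, w ∈ U ∧
      U.ι ≫ a = U.ι ≫ pullback.fst yh xh ≫ AA4.σ yh xh x₀ hx₀ ≫ a) →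
      w ∈ Set.range (equalizer.ι a (pullback.fst yh xh ≫ AA4.σ yh xh x₀ hx₀ ≫ a)) := by
    rintro w ⟨U, hwU, hU⟩
    refine ⟨equalizer.lift U.ι hU ⟨w, hwU⟩, ?_⟩
    rw [← Scheme.Hom.comp_apply, equalizer.lift_ι]
    rfl
  have hT'op : IsOpen T' := by
    rw [isOpen_iff_forall_mem_open]
    intro y hy
    obtain ⟨V, hyV, hV⟩ := K_all_dom yh xh a x₀ hx₀ hXf y (hfibT y hy)
    exact ⟨V, fun y' hy' w hw => hloc w (hV w (hw ▸ hy')), V.isOpen, hyV⟩
  have hT'univ : T' = Set.univ :=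
    (isClopen_iff.mp ⟨hT'cl, hT'op⟩).resolve_left (Set.nonempty_iff_ne_empty.mp ⟨y₀, h₀⟩)
  apply Scheme.hom_ext_of_forall
  intro w
  have hw : pullback.fst yh xh w ∈ T' := hT'univ ▸ Set.mem_univ _
  obtain ⟨V, hyV, hV⟩ := K_all_dom yh xh a x₀ hx₀ hXf _ (hfibT _ hw)
  exact hV w hyV

end Chart

open MonoidalCategory CartesianMonoidalCategory MonObj

theorem rigid_over_dom (k : Type u) [Field k]
    (X Y Z : Over (Spec (CommRingCat.of k))) [QuasiCompact X.hom] [IsSeparated X.hom]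
    (hX : Function.Bijective ((Scheme.ΓSpecIso (CommRingCat.of k)).inv ≫ X.hom.appTop).hom)
    [IsLocallyNoetherian Y.left] [IrreducibleSpace ↥Y.left] [IsReduced Y.left]
    [IsSeparated Z.hom]
    (x₀ : 𝟙_ (Over (Spec (CommRingCat.of k))) ⟶ X)
    (f : X ⊗ Y ⟶ Z) (y₀ : 𝟙_ (Over (Spec (CommRingCat.of k))) ⟶ Y)
    (z₀ : 𝟙_ (Over (Spec (CommRingCat.of k))) ⟶ Z)
    (hf : (X ◁ y₀) ≫ f = toUnit _ ≫ z₀) :
    f = snd X Y ≫ lift (toUnit Y ≫ x₀) (𝟙 Y) ≫ f := by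
  haveI : CompactSpace ↥X.left := (quasiCompact_iff_compactSpace X.hom).mp inferInstance
  haveI : X.left.IsSeparated :=
    (HasAffineProperty.iff_of_isAffine (P := @IsSeparated) (f := X.hom)).mp inferInstance
  haveI : QuasiSeparatedSpace ↥X.left := inferInstance
  haveI : IsIntegral Y.left := isIntegral_of_irreducibleSpace_of_isReduced _
  haveI : Z.left.IsSeparated :=
    (HasAffineProperty.iff_of_isAffine (P := @IsSeparated) (f := Z.hom)).mp inferInstance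
  let m' : X ⟶ X ⊗ Y := lift (𝟙 X) (toUnit X ≫ y₀)
  have hm' : m' ≫ f = toUnit X ≫ z₀ := by
    have h1 : m' = (ρ_ X).inv ≫ (X ◁ y₀) := by
      apply CartesianMonoidalCategory.hom_ext <;> simp [m']
    rw [h1, Category.assoc, hf, ← Category.assoc]
    congr 1
    exact toUnit_unique _ _
  have hxy : lift x₀ y₀ ≫ f = z₀ := by
    have h2 : lift x₀ y₀ = x₀ ≫ m' := by
      apply CartesianMonoidalCategory.hom_ext
      · simp [m']
      · simp only [m', lift_snd, Category.assoc]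
        rw [← Category.assoc, toUnit_unique (x₀ ≫ toUnit X) (𝟙 _), Category.id_comp]
    rw [h2, Category.assoc, hm', ← Category.assoc, toUnit_unique (x₀ ≫ toUnit X) (𝟙 _),
      Category.id_comp]
  have hm'2 : m' ≫ snd X Y ≫ lift (toUnit Y ≫ x₀) (𝟙 Y) ≫ f = toUnit X ≫ z₀ := by
    have h3 : m' ≫ snd X Y = toUnit X ≫ y₀ := by simp [m']
    have h4 : y₀ ≫ lift (toUnit Y ≫ x₀) (𝟙 Y) = lift x₀ y₀ := by
      apply CartesianMonoidalCategory.hom_ext
      · simp only [Category.assoc, lift_fst]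
        rw [← Category.assoc, toUnit_unique (y₀ ≫ toUnit Y) (𝟙 _), Category.id_comp]
      · simp
    rw [reassoc_of% h3, reassoc_of% h4, hxy]
  -- scheme level
  let s := pullbackSymmetry X.hom Y.hom
  have hx₀ : x₀.left ≫ X.hom = 𝟙 (Spec (CommRingCat.of k)) := Over.w x₀
  have hy₀ : y₀.left ≫ Y.hom = 𝟙 (Spec (CommRingCat.of k)) := Over.w y₀
  let y₀' : Spec (CommRingCat.of k) ⟶ Y.left := y₀.left
  let pt : ↥(Spec (CommRingCat.of k)) := IsLocalRing.closedPoint k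
  let a : pullback Y.hom X.hom ⟶ Z.left := s.inv ≫ f.left
  have hσ : AA4.σ Y.hom X.hom x₀.left hx₀ ≫ s.inv = (lift (toUnit Y ≫ x₀) (𝟙 Y)).left := by
    apply pullback.hom_ext
    · rw [Category.assoc, pullbackSymmetry_inv_comp_fst, AA4.σ_snd]
      change _ = (lift (toUnit Y ≫ x₀) (𝟙 Y)).left ≫ (fst X Y).left
      rw [← Over.comp_left, lift_fst]
      rfl
    · rw [Category.assoc, pullbackSymmetry_inv_comp_snd, AA4.σ_fst]
      change _ = (lift (toUnit Y ≫ x₀) (𝟙 Y)).left ≫ (snd X Y).left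
      rw [← Over.comp_left, lift_snd]
      rfl
  have h₀ : ∀ w : ↥(pullback Y.hom X.hom), pullback.fst Y.hom X.hom w = y₀' pt →
      w ∈ Set.range (equalizer.ι a
        (pullback.fst Y.hom X.hom ≫ AA4.σ Y.hom X.hom x₀.left hx₀ ≫ a)) := by
    intro w hw
    let mm : X.left ⟶ pullback Y.hom X.hom := pullback.lift (X.hom ≫ y₀') (𝟙 _)
      (by rw [Category.assoc, hy₀, Category.comp_id, Category.id_comp])
    have hmm1 : mm ≫ pullback.fst Y.hom X.hom = X.hom ≫ y₀' := pullback.lift_fst _ _ _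
    have hmm2 : mm ≫ pullback.snd Y.hom X.hom = 𝟙 _ := pullback.lift_snd _ _ _
    have hmm3 : mm ≫ s.inv = m'.left := by
      apply pullback.hom_ext
      · rw [Category.assoc, pullbackSymmetry_inv_comp_fst, hmm2]
        change _ = m'.left ≫ (fst X Y).left
        rw [← Over.comp_left, lift_fst]
        rfl
      · rw [Category.assoc, pullbackSymmetry_inv_comp_snd, hmm1]
        change _ = m'.left ≫ (snd X Y).left
        rw [← Over.comp_left, lift_snd]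
        rfl
    have hmma : mm ≫ a =
        mm ≫ pullback.fst Y.hom X.hom ≫ AA4.σ Y.hom X.hom x₀.left hx₀ ≫ a := by
      have e1 : mm ≫ a = (toUnit X ≫ z₀).left := by
        rw [← hm', Over.comp_left, ← hmm3, Category.assoc]
      have e2 : mm ≫ pullback.fst Y.hom X.hom ≫ AA4.σ Y.hom X.hom x₀.left hx₀ ≫ a =
          (toUnit X ≫ z₀).left := by
        rw [← hm'2]
        simp only [Over.comp_left]
        rw [← hmm3, ← hσ]
        simp only [Category.assoc, a]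
        congr 1
        rw [← Category.assoc s.inv,
          show s.inv ≫ (snd X Y).left = pullback.fst Y.hom X.hom from
            pullbackSymmetry_inv_comp_snd _ _]
      rw [e1, e2]
    obtain ⟨z, hz1, -⟩ := Scheme.Pullback.exists_preimage_pullback
      (f := pullback.fst Y.hom X.hom) (g := y₀') w pt hw
    let q := pullback.fst (pullback.fst Y.hom X.hom) y₀'
    have hq : q = (q ≫ pullback.snd Y.hom X.hom) ≫ mm := by
      apply pullback.hom_ext
      · rw [Category.assoc, Category.assoc, hmm1]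
        have h7 : pullback.snd (pullback.fst Y.hom X.hom) y₀' =
            q ≫ pullback.snd Y.hom X.hom ≫ X.hom := by
          rw [← pullback.condition, ← Category.assoc,
            pullback.condition (f := pullback.fst Y.hom X.hom), Category.assoc, hy₀,
            Category.comp_id]
        rw [pullback.condition, h7]
        simp only [Category.assoc]
      · rw [Category.assoc, Category.assoc, hmm2, Category.comp_id]
    have hwmm : w ∈ Set.range mm :=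
      ⟨(q ≫ pullback.snd Y.hom X.hom) z, by
        rw [← Scheme.Hom.comp_apply, ← hq]
        exact hz1⟩
    obtain ⟨x, rfl⟩ := hwmm
    refine ⟨equalizer.lift mm hmma x, ?_⟩
    rw [← Scheme.Hom.comp_apply, equalizer.lift_ι]
  have key := rigid_dom Y.hom X.hom a x₀.left hx₀ hX (y₀' pt) h₀
  apply Over.OverMorphism.ext
  have h5 : f.left = s.hom ≫ a := by simp [a]
  calc f.left = s.hom ≫ a := h5
    _ = s.hom ≫ pullback.fst Y.hom X.hom ≫ AA4.σ Y.hom X.hom x₀.left hx₀ ≫ a := by rw [← key]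
    _ = (snd X Y ≫ lift (toUnit Y ≫ x₀) (𝟙 Y) ≫ f).left := by
      simp only [Over.comp_left]
      rw [← hσ]
      simp only [Category.assoc, a]
      rw [← Category.assoc s.hom,
        show s.hom ≫ pullback.fst Y.hom X.hom = (snd X Y).left from
          pullbackSymmetry_hom_comp_fst _ _]

theorem main14577 (k : Type u) [Field k]
    (X Y Z : Over (Spec (CommRingCat.of k))) [QuasiCompact X.hom] [IsSeparated X.hom]
    (hX : Function.Bijective ((Scheme.ΓSpecIso (CommRingCat.of k)).inv ≫ X.hom.appTop).hom)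
    [IsSeparated Y.hom] [IsLocallyNoetherian Y.left] [IrreducibleSpace ↥Y.left]
    [IsReduced Y.left] [IsSeparated Z.hom]
    (x₀ : 𝟙_ (Over (Spec (CommRingCat.of k))) ⟶ X)
    (y₀ : 𝟙_ (Over (Spec (CommRingCat.of k))) ⟶ Y) (f : X ⊗ Y ⟶ Z)
    (hf : (X ◁ y₀) ≫ f = toUnit _ ≫ lift x₀ y₀ ≫ f) :
    f = snd X Y ≫ lift (toUnit Y ≫ x₀) (𝟙 Y) ≫ f :=
  rigid_over_dom k X Y Z hX x₀ f y₀ (lift x₀ y₀ ≫ f) hf

end Groth.Agent.Helper17.AA9
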