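import Mathlib
import Groth.Prelude.Def_AlgGrp
import Groth.Agent.Lib.Helper17.AA8
import Groth.Agent.Lib.Helper16.Sch.GenGS3
import Groth.Agent.S0348

/-!
# Abelian varieties over an algebraically closed field are anti-affine (helper17)
-/

set_option autoImplicit false
set_option linter.style.haveILetI false

namespace Groth.Agent.Helper17.AB1

open CategoryTheory CategoryTheory.Limits MonoidalCategory CartesianMonoidalCategory MonObj
  AlgebraicGeometry Opposite

universe u

/-- an integral scheme universally closed over an algebraically closed field has only constant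
global functions -/
theorem antiAffine_of_universallyClosed (k : Type u) [Field k] [IsAlgClosed k] {X : Scheme.{u}}
    (f : X ⟶ Spec (CommRingCat.of k)) [IsIntegral X] [UniversallyClosed f] :
    Function.Bijective ((Scheme.ΓSpecIso (CommRingCat.of k)).inv ≫ f.appTop).hom := by
  have hint : ((Scheme.ΓSpecIso (CommRingCat.of k)).inv ≫ f.appTop).hom.IsIntegral := by
    apply RingHom.isIntegral_respectsIso.2
      (e := (Scheme.ΓSpecIso (CommRingCat.of k)).symm.commRingCatIsoToRingEquiv)
    exact isIntegral_appTop_of_universallyClosed f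
  haveI : IsDomain Γ(X, ⊤) := inferInstance
  exact IsAlgClosed.ringHom_bijective_of_isIntegral _ hint

/-- abelian varieties over an algebraically closed field are anti-affine -/
theorem antiAffine_abelian (k : Type u) [Field k] [IsAlgClosed k]
    (A : Over (Spec (CommRingCat.of k))) [GrpObj A] [IsProper A.hom] [Smooth A.hom]
    [ConnectedSpace ↥A.left] :
    Function.Bijective ((Scheme.ΓSpecIso (CommRingCat.of k)).inv ≫ A.hom.appTop).hom := by
  haveI : IrreducibleSpace ↥A.left := Groth.Agent.S0348.result k A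
  haveI : IsReduced A.left := Groth.Agent.Helper16.GenGS.isReduced_of_smooth A.hom
  haveI : IsIntegral A.left := isIntegral_of_irreducibleSpace_of_isReduced _
  exact antiAffine_of_universallyClosed k A.hom

theorem main11404 (k : Type u) [Field k] [IsAlgClosed k]
    (A S : Over (Spec (CommRingCat.of k))) [GrpObj A] [IsProper A.hom] [Smooth A.hom]
    [ConnectedSpace ↥A.left]
    [LocallyOfFiniteType S.hom] [QuasiCompact S.hom] [ConnectedSpace ↥S.left]
    (f : A ⊗ S ≅ A ⊗ S) (hf : f.hom ≫ snd A S = snd A S) :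
    ∃ (g : S ⟶ A) (h : A ⟶ A), IsMonHom h ∧ IsIso h ∧
      f.hom ≫ fst A S = (snd A S ≫ g) * (fst A S ≫ h) ∧
      ∀ (g' : S ⟶ A) (h' : A ⟶ A), IsMonHom h' →
        f.hom ≫ fst A S = (snd A S ≫ g') * (fst A S ≫ h') → g' = g ∧ h' = h := by
  have hA := antiAffine_abelian k A
  haveI : QuasiCompact A.hom := inferInstance
  obtain ⟨g, h, hh, hF, huniq⟩ := AA8.main11421 k A A S hA (f.hom ≫ fst A S)
  obtain ⟨g', h', hh', hF', -⟩ := AA8.main11421 k A A S hA (f.inv ≫ fst A S)
  -- a rational point of `S`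
  obtain ⟨hcS, -⟩ := AA1.qcqs_of_field k S.hom
  haveI := hcS
  obtain ⟨x, -, hx⟩ := IsClosed.exists_closed_singleton (X := ↥S.left) isClosed_univ
    Set.univ_nonempty
  let s₀ : 𝟙_ (Over (Spec (CommRingCat.of k))) ⟶ S :=
    Over.homMk (pointOfClosedPoint S.hom x hx) (by simp)
  let iS : S ⟶ A ⊗ S := lift (toUnit S ≫ η[A]) (𝟙 S)
  let iA : A ⟶ A ⊗ S := lift (𝟙 A) (toUnit A ≫ s₀)
  have hiS_fst : iS ≫ fst A S = 1 := lift_fst _ _
  have hiS_snd : iS ≫ snd A S = 𝟙 S := lift_snd _ _
  have hiA_fst : iA ≫ fst A S = 𝟙 A := lift_fst _ _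
  have hf' : f.inv ≫ snd A S = snd A S := by
    rw [Iso.inv_comp_eq, hf]
  -- the key computation: if `u ≫ u' = 𝟙` for automorphisms over `S` then `h ≫ h' = 𝟙`
  have key : ∀ (u u' : A ⊗ S ⟶ A ⊗ S) (g g' : S ⟶ A) (h h' : A ⟶ A), IsMonHom h → IsMonHom h' →
      u ≫ snd A S = snd A S →
      u ≫ fst A S = (snd A S ≫ g) * (fst A S ≫ h) →
      u' ≫ fst A S = (snd A S ≫ g') * (fst A S ≫ h') →
      u ≫ u' = 𝟙 _ → h ≫ h' = 𝟙 A := by
    intro u u' g g' h h' hh hh' hu hF hF' huu
    have h1 : fst A S = (snd A S ≫ g') * ((snd A S ≫ g ≫ h') * (fst A S ≫ h ≫ h')) := by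
      have h2 : (u ≫ u') ≫ fst A S = fst A S := by rw [huu, Category.id_comp]
      rw [Category.assoc, hF', MonObj.comp_mul, ← Category.assoc u (snd A S), hu,
        ← Category.assoc u (fst A S), hF, MonObj.mul_comp] at h2
      simpa only [Category.assoc] using h2.symm
    have h3 : (1 : S ⟶ A) = g' * ((g ≫ h') * 1) := by
      have h4 := congrArg (fun t => iS ≫ t) h1
      simp only [MonObj.comp_mul, ← Category.assoc, hiS_fst, hiS_snd, Category.id_comp,
        MonObj.one_comp] at h4
      exact h4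
    rw [_root_.mul_one] at h3
    have h5 : fst A S = fst A S ≫ h ≫ h' := by
      have h6 : (snd A S ≫ g') * (snd A S ≫ g ≫ h') = 1 := by
        rw [← MonObj.comp_mul, ← h3, MonObj.comp_one]
      rw [← _root_.mul_assoc, h6, _root_.one_mul] at h1
      exact h1
    have h7 := congrArg (fun t => iA ≫ t) h5
    simp only [← Category.assoc, hiA_fst, Category.id_comp] at h7
    simpa only [Category.assoc] using h7.symm
  have e1 : h ≫ h' = 𝟙 A := key f.hom f.inv g g' h h' hh hh' hf hF hF' f.hom_inv_id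
  have e2 : h' ≫ h = 𝟙 A := key f.inv f.hom g' g h' h hh' hh hf' hF' hF f.inv_hom_id
  exact ⟨g, h, hh, ⟨h', e1, e2⟩, hF, huniq⟩

end Groth.Agent.Helper17.AB1
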