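import Mathlib
import Groth.Prelude.Def_AlgGrp

/-!
# Epimorphisms of schemes from injectivity on sections; Albanese of a Stein factorisation
(helper17)
-/

set_option autoImplicit false
set_option linter.style.haveILetI false

namespace Groth.Agent.Helper17.AB3

open CategoryTheory CategoryTheory.Limits MonoidalCategory CartesianMonoidalCategory MonObj
  AlgebraicGeometry Opposite

universe u

/-- a surjective morphism of schemes which is injective on sections over every open is an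
epimorphism -/
theorem epi_of_app_mono {X Y : Scheme.{u}} (r : X ⟶ Y) (hs : Function.Surjective r)
    (hr : ∀ U : Y.Opens, Mono (r.app U)) : Epi r := by
  constructor
  intro Z g₁ g₂ h
  have hb : ∀ y, g₁ y = g₂ y := fun y => by
    obtain ⟨x, rfl⟩ := hs y
    rw [← Scheme.Hom.comp_apply, ← Scheme.Hom.comp_apply, h]
  apply Scheme.hom_ext_of_forall
  intro y
  obtain ⟨V, hV, hyV, -⟩ :=
    exists_isAffineOpen_mem_and_subset (x := g₁ y) (U := ⊤) (TopologicalSpace.Opens.mem_top _)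
  refine ⟨g₁ ⁻¹ᵁ V, hyV, ?_⟩
  have hr1 : Set.range ((g₁ ⁻¹ᵁ V).ι ≫ g₁) ⊆ Set.range V.ι := by
    rw [Scheme.Opens.range_ι]
    rintro _ ⟨w, rfl⟩
    exact w.2
  have hr2 : Set.range ((g₁ ⁻¹ᵁ V).ι ≫ g₂) ⊆ Set.range V.ι := by
    rw [Scheme.Opens.range_ι]
    rintro _ ⟨w, rfl⟩
    rw [Scheme.Hom.comp_apply, ← hb]
    exact w.2
  have hl₁ : IsOpenImmersion.lift V.ι ((g₁ ⁻¹ᵁ V).ι ≫ g₁) hr1 ≫ V.ι = (g₁ ⁻¹ᵁ V).ι ≫ g₁ :=
    IsOpenImmersion.lift_fac _ _ _
  have hl₂ : IsOpenImmersion.lift V.ι ((g₁ ⁻¹ᵁ V).ι ≫ g₂) hr2 ≫ V.ι = (g₁ ⁻¹ᵁ V).ι ≫ g₂ :=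
    IsOpenImmersion.lift_fac _ _ _
  suffices hl : IsOpenImmersion.lift V.ι ((g₁ ⁻¹ᵁ V).ι ≫ g₁) hr1 =
      IsOpenImmersion.lift V.ι ((g₁ ⁻¹ᵁ V).ι ≫ g₂) hr2 by
    rw [← hl₁, ← hl₂, hl]
  haveI : IsAffine (V : Scheme.{u}) := hV
  apply ext_of_isAffine
  haveI : Mono (r ∣_ (g₁ ⁻¹ᵁ V)).appTop := by
    have e : (r ∣_ (g₁ ⁻¹ᵁ V)).appTop = r.app ((g₁ ⁻¹ᵁ V).ι ''ᵁ ⊤) ≫
        X.presheaf.map (eqToHom (image_morphismRestrict_preimage r (g₁ ⁻¹ᵁ V) ⊤)).op :=
      morphismRestrict_appTop r (g₁ ⁻¹ᵁ V)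
    rw [e]
    have h2 : IsIso (X.presheaf.map
        (eqToHom (image_morphismRestrict_preimage r (g₁ ⁻¹ᵁ V) ⊤)).op) := inferInstance
    exact @mono_comp _ _ _ _ _ _ (hr _) _ (@IsIso.mono_of_iso _ _ _ _ _ h2)
  rw [← cancel_mono (r ∣_ (g₁ ⁻¹ᵁ V)).appTop, ← Scheme.Hom.comp_appTop,
    ← Scheme.Hom.comp_appTop]
  congr 1
  rw [← cancel_mono V.ι, Category.assoc, Category.assoc, hl₁, hl₂, ← Category.assoc,
    ← Category.assoc, morphismRestrict_ι, Category.assoc, Category.assoc, h]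

/-- a closed map of schemes which is injective on sections over every open is surjective -/
theorem surjective_of_app_mono {X Y : Scheme.{u}} (r : X ⟶ Y) (hc : IsClosedMap r)
    (hr : ∀ U : Y.Opens, Function.Injective (r.app U).hom) : Function.Surjective r := by
  have hcl : IsClosed (Set.range r) := by
    rw [← Set.image_univ]
    exact hc _ isClosed_univ
  let U : Y.Opens := ⟨(Set.range r)ᶜ, hcl.isOpen_compl⟩
  have hpre : r ⁻¹ᵁ U = ⊥ := by
    ext x
    simp only [TopologicalSpace.Opens.coe_bot, Set.mem_empty_iff_false, iff_false]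
    intro hx
    exact hx ⟨x, rfl⟩
  haveI : Subsingleton Γ(X, r ⁻¹ᵁ U) := by
    rw [hpre]
    infer_instance
  have h01 : (0 : Γ(Y, U)) = 1 := hr U (Subsingleton.elim _ _)
  have hU : U = ⊥ := by
    rw [← Y.basicOpen_of_isUnit (isUnit_one : IsUnit (1 : Γ(Y, U))), ← h01, Y.basicOpen_zero]
  intro y
  by_contra hy
  have : y ∈ (U : Set Y) := hy
  rw [hU] at this
  exact this

theorem main14834 (k : Type u) [Field k] (X Y : Over (Spec (CommRingCat.of k)))
    [IsProper X.hom] [IsProper Y.hom]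
    (x₀ : 𝟙_ (Over (Spec (CommRingCat.of k))) ⟶ X)
    (A : Over (Spec (CommRingCat.of k))) [GrpObj A] [IsProper A.hom]
    [GeometricallyIntegral A.hom]
    (alb : X ⟶ A)
    (huniv : ∀ (B : Over (Spec (CommRingCat.of k))) [GrpObj B] [IsProper B.hom]
      [GeometricallyReduced B.hom] [ConnectedSpace ↥B.left]
      (g : X ⟶ B), x₀ ≫ g = η[B] → ∃! h : A ⟶ B, IsMonHom h ∧ alb ≫ h = g)
    (r : X ⟶ Y) (hr : ∀ U : Y.left.Opens, IsIso (r.left.app U)) (s : Y ⟶ A)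
    (hrs : r ≫ s = alb)
    (B : Over (Spec (CommRingCat.of k))) [GrpObj B] [IsProper B.hom]
    [GeometricallyReduced B.hom] [ConnectedSpace ↥B.left]
    (g : Y ⟶ B) (hg : x₀ ≫ r ≫ g = η[B]) :
    ∃! h : A ⟶ B, IsMonHom h ∧ s ≫ h = g := by
  haveI : IsProper (r.left ≫ Y.hom) := by
    rw [Over.w]
    infer_instance
  haveI : IsProper r.left := IsProper.of_comp r.left Y.hom
  have hsurj : Function.Surjective r.left :=
    surjective_of_app_mono r.left r.left.isClosedMap (fun U => by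
      haveI := hr U
      exact (ConcreteCategory.bijective_of_isIso (r.left.app U)).1)
  haveI : Epi r.left := epi_of_app_mono r.left hsurj (fun U => by
    haveI := hr U
    infer_instance)
  haveI : Epi r := (Over.forget _).epi_of_epi_map ‹Epi r.left›
  obtain ⟨h, ⟨hh, hh2⟩, hu⟩ := huniv B (r ≫ g) hg
  refine ⟨h, ⟨hh, ?_⟩, ?_⟩
  · rw [← cancel_epi r, ← Category.assoc, hrs, hh2]
  · rintro h' ⟨hh', hh'2⟩
    exact hu h' ⟨hh', by rw [← hrs, Category.assoc, hh'2]⟩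

end Groth.Agent.Helper17.AB3
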