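import Mathlib
import Groth.Prelude.Def_AlgGrp
import Groth.Agent.Lib.Helper17.AA6
import Groth.Agent.Lib.Helper17.AA7
import Groth.Agent.Lib.Helper17.AB2

/-!
# The Albanese morphism of a product (helper17)
-/

set_option autoImplicit false
set_option linter.style.haveILetI false

namespace Groth.Agent.Helper17.AB4

open CategoryTheory CategoryTheory.Limits MonoidalCategory CartesianMonoidalCategory MonObj
  AlgebraicGeometry Opposite

universe u

theorem albanese_prod (k : Type u) [Field k] (XO YO : Over (Spec (CommRingCat.of k)))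
    [IsProper XO.hom] [IsProper YO.hom] [GeometricallyIntegral XO.hom]
    [GeometricallyIntegral YO.hom]
    (x₀ : 𝟙_ (Over (Spec (CommRingCat.of k))) ⟶ XO)
    (y₀ : 𝟙_ (Over (Spec (CommRingCat.of k))) ⟶ YO)
    (A : Over (Spec (CommRingCat.of k))) [GrpObj A] [IsProper A.hom]
    [GeometricallyIntegral A.hom]
    (albX : XO ⟶ A) (halbX : x₀ ≫ albX = η[A])
    (hunivA : ∀ (C : Over (Spec (CommRingCat.of k))) [GrpObj C] [IsProper C.hom]
      [GeometricallyReduced C.hom] [ConnectedSpace ↥C.left]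
      (g : XO ⟶ C), x₀ ≫ g = η[C] → ∃! h : A ⟶ C, IsMonHom h ∧ albX ≫ h = g)
    (B : Over (Spec (CommRingCat.of k))) [GrpObj B] [IsProper B.hom]
    [GeometricallyIntegral B.hom]
    (albY : YO ⟶ B) (halbY : y₀ ≫ albY = η[B])
    (hunivB : ∀ (C : Over (Spec (CommRingCat.of k))) [GrpObj C] [IsProper C.hom]
      [GeometricallyReduced C.hom] [ConnectedSpace ↥C.left]
      (g : YO ⟶ C), y₀ ≫ g = η[C] → ∃! h : B ⟶ C, IsMonHom h ∧ albY ≫ h = g)
    (C : Over (Spec (CommRingCat.of k))) [GrpObj C] [IsProper C.hom]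
    [GeometricallyReduced C.hom] [ConnectedSpace ↥C.left]
    (g : XO ⊗ YO ⟶ C) (hg : lift x₀ y₀ ≫ g = η[C]) :
    ∃! h : A ⊗ B ⟶ C, IsMonHom h ∧ (albX ⊗ₘ albY) ≫ h = g := by
  haveI : IsIntegral XO.left := GeometricallyIntegral.isIntegral_of_subsingleton XO.hom
  haveI : IsIntegral YO.left := GeometricallyIntegral.isIntegral_of_subsingleton YO.hom
  haveI : IsIntegral A.left := GeometricallyIntegral.isIntegral_of_subsingleton A.hom
  haveI : IsIntegral B.left := GeometricallyIntegral.isIntegral_of_subsingleton B.hom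
  have hX := AB2.antiAffine_of_point k XO.hom x₀.left (Over.w x₀)
  have hx1 : x₀ ≫ toUnit XO = 𝟙 _ := toUnit_unique _ _
  have hy1 : y₀ ≫ toUnit YO = 𝟙 _ := toUnit_unique _ _
  let iX : XO ⟶ XO ⊗ YO := lift (𝟙 XO) (toUnit XO ≫ y₀)
  let iY : YO ⟶ XO ⊗ YO := lift (toUnit YO ≫ x₀) (𝟙 YO)
  have hiX_fst : iX ≫ fst XO YO = 𝟙 XO := lift_fst _ _
  have hiX_snd : iX ≫ snd XO YO = toUnit XO ≫ y₀ := lift_snd _ _
  have hiY_fst : iY ≫ fst XO YO = toUnit YO ≫ x₀ := lift_fst _ _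
  have hiY_snd : iY ≫ snd XO YO = 𝟙 YO := lift_snd _ _
  have hx₀iX : x₀ ≫ iX = lift x₀ y₀ := by
    apply CartesianMonoidalCategory.hom_ext
    · rw [Category.assoc, hiX_fst, Category.comp_id, lift_fst]
    · rw [Category.assoc, hiX_snd, ← Category.assoc, hx1, Category.id_comp, lift_snd]
  have hy₀iY : y₀ ≫ iY = lift x₀ y₀ := by
    apply CartesianMonoidalCategory.hom_ext
    · rw [Category.assoc, hiY_fst, ← Category.assoc, hy1, Category.id_comp, lift_fst]
    · rw [Category.assoc, hiY_snd, Category.comp_id, lift_snd]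
  have hg₁ : x₀ ≫ iX ≫ g = η[C] := by rw [← Category.assoc, hx₀iX, hg]
  have hg₂ : y₀ ≫ iY ≫ g = η[C] := by rw [← Category.assoc, hy₀iY, hg]
  -- rigidity
  have hφ0 : (XO ◁ y₀) ≫ ((fst XO YO ≫ iX ≫ g)⁻¹ * g * (snd XO YO ≫ iY ≫ g)⁻¹) =
      toUnit _ ≫ η[C] := by
    rw [← Hom.one_def]
    have h2 : XO ◁ y₀ = fst XO (𝟙_ _) ≫ iX := by
      apply CartesianMonoidalCategory.hom_ext
      · rw [whiskerLeft_fst, Category.assoc, hiX_fst, Category.comp_id]
      · rw [whiskerLeft_snd, Category.assoc, hiX_snd, ← Category.assoc]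
        congr 1
        exact toUnit_unique _ _
    have h3 : (XO ◁ y₀) ≫ snd XO YO ≫ iY ≫ g = 1 := by
      rw [← Category.assoc, whiskerLeft_snd, Category.assoc, hg₂, Hom.one_def]
      congr 1
      exact toUnit_unique _ _
    have h4 : (XO ◁ y₀) ≫ fst XO YO ≫ iX ≫ g = (XO ◁ y₀) ≫ g := by
      rw [← Category.assoc, whiskerLeft_fst, h2, Category.assoc]
    rw [MonObj.comp_mul, MonObj.comp_mul, GrpObj.comp_inv, GrpObj.comp_inv, h3, h4]
    simp
  have hφ := AA6.rigid_over k XO YO C hX x₀ _ y₀ η[C] hφ0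
  have hiYφ : iY ≫ ((fst XO YO ≫ iX ≫ g)⁻¹ * g * (snd XO YO ≫ iY ≫ g)⁻¹) = 1 := by
    have h5 : iY ≫ fst XO YO ≫ iX ≫ g = 1 := by
      rw [← Category.assoc, hiY_fst, Category.assoc, hg₁, Hom.one_def]
    have h6 : iY ≫ snd XO YO ≫ iY ≫ g = iY ≫ g := by
      rw [← Category.assoc, hiY_snd, Category.id_comp]
    rw [MonObj.comp_mul, MonObj.comp_mul, GrpObj.comp_inv, GrpObj.comp_inv, h5, h6]
    simp
  have hφ1 : (fst XO YO ≫ iX ≫ g)⁻¹ * g * (snd XO YO ≫ iY ≫ g)⁻¹ = 1 := by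
    rw [hφ]
    change snd XO YO ≫ iY ≫ _ = 1
    rw [hiYφ, MonObj.comp_one]
  have hgdec : g = (fst XO YO ≫ iX ≫ g) * (snd XO YO ≫ iY ≫ g) := by
    have h7 : g = (fst XO YO ≫ iX ≫ g) *
        ((fst XO YO ≫ iX ≫ g)⁻¹ * g * (snd XO YO ≫ iY ≫ g)⁻¹) * (snd XO YO ≫ iY ≫ g) := by
      group
    rw [hφ1, _root_.mul_one] at h7
    exact h7
  obtain ⟨h₁, ⟨hh₁, hh₁2⟩, hu₁⟩ := hunivA C (iX ≫ g) hg₁
  obtain ⟨h₂, ⟨hh₂, hh₂2⟩, hu₂⟩ := hunivB C (iY ≫ g) hg₂
  have hA := AB2.antiAffine_abelian' k A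
  have hB := AB2.antiAffine_abelian' k B
  haveI : ConnectedSpace ↥A.left := inferInstance
  haveI : ConnectedSpace ↥B.left := inferInstance
  have hAB := (AA1.main18069 k A B).mpr ⟨hA, hB⟩
  haveI : IsProper (A ⊗ B).hom := by
    dsimp
    infer_instance
  have hη : η[A ⊗ B] ≫ ((fst A B ≫ h₁) * (snd A B ≫ h₂)) = η[C] := by
    rw [MonObj.comp_mul, ← Category.assoc, IsMonHom.one_hom (fst A B), IsMonHom.one_hom h₁,
      ← Category.assoc, IsMonHom.one_hom (snd A B), IsMonHom.one_hom h₂, MonObj.one_eq_one C,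
      _root_.mul_one]
  have hmon : IsMonHom ((fst A B ≫ h₁) * (snd A B ≫ h₂)) :=
    AA7.main14578 k (A ⊗ B) C hAB _ hη
  have hcomp : (albX ⊗ₘ albY) ≫ ((fst A B ≫ h₁) * (snd A B ≫ h₂)) = g := by
    rw [MonObj.comp_mul, ← Category.assoc, tensorHom_fst, Category.assoc, hh₁2,
      ← Category.assoc (albX ⊗ₘ albY), tensorHom_snd, Category.assoc, hh₂2, ← hgdec]
  refine ⟨(fst A B ≫ h₁) * (snd A B ≫ h₂), ⟨hmon, hcomp⟩, ?_⟩
  rintro h' ⟨hh', hh'2⟩
  let iA : A ⟶ A ⊗ B := lift (𝟙 A) (toUnit A ≫ η[B])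
  let iB : B ⟶ A ⊗ B := lift (toUnit B ≫ η[A]) (𝟙 B)
  haveI : IsMonHom iA := inferInstance
  haveI : IsMonHom iB := inferInstance
  have e1 : albX ≫ iA = iX ≫ (albX ⊗ₘ albY) := by
    apply CartesianMonoidalCategory.hom_ext
    · simp only [Category.assoc, iA, lift_fst, tensorHom_fst, Category.comp_id]
      rw [← Category.assoc, hiX_fst, Category.id_comp]
    · simp only [Category.assoc, iA, lift_snd, tensorHom_snd]
      rw [← Category.assoc iX, hiX_snd, Category.assoc, halbY, ← Category.assoc albX]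
      congr 1
      exact toUnit_unique _ _
  have e2 : albY ≫ iB = iY ≫ (albX ⊗ₘ albY) := by
    apply CartesianMonoidalCategory.hom_ext
    · simp only [Category.assoc, iB, lift_fst, tensorHom_fst]
      rw [← Category.assoc iY, hiY_fst, Category.assoc, halbX, ← Category.assoc albY]
      congr 1
      exact toUnit_unique _ _
    · simp only [Category.assoc, iB, lift_snd, tensorHom_snd, Category.comp_id]
      rw [← Category.assoc, hiY_snd, Category.id_comp]
  have k1 : iA ≫ h' = h₁ :=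
    hu₁ _ ⟨inferInstance, by rw [← Category.assoc, e1, Category.assoc, hh'2]⟩
  have k2 : iB ≫ h' = h₂ :=
    hu₂ _ ⟨inferInstance, by rw [← Category.assoc, e2, Category.assoc, hh'2]⟩
  have hid : (fst A B ≫ iA) * (snd A B ≫ iB) = 𝟙 (A ⊗ B) := by
    apply CartesianMonoidalCategory.hom_ext
    · rw [MonObj.mul_comp, Category.assoc, Category.assoc, lift_fst, lift_fst, Category.comp_id,
        Category.id_comp]
      simp only [← Hom.one_def, MonObj.comp_one, _root_.mul_one]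
    · rw [MonObj.mul_comp, Category.assoc, Category.assoc, lift_snd, lift_snd, Category.comp_id,
        Category.id_comp]
      simp only [← Hom.one_def, MonObj.comp_one, _root_.one_mul]
  calc h' = 𝟙 _ ≫ h' := (Category.id_comp _).symm
    _ = ((fst A B ≫ iA) * (snd A B ≫ iB)) ≫ h' := by rw [hid]
    _ = (fst A B ≫ iA ≫ h') * (snd A B ≫ iB ≫ h') := by
      rw [MonObj.mul_comp]
      simp only [Category.assoc]
    _ = (fst A B ≫ h₁) * (snd A B ≫ h₂) := by rw [k1, k2]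

end Groth.Agent.Helper17.AB4
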