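import Mathlib
import Groth.Prelude.Def_AlgGrp
import Groth.Agent.Lib.Helper17.AA6
import Groth.Agent.Lib.Helper17.AB1
import Groth.Agent.Lib.Helper17.AC1
import Groth.Agent.Lib.Helper16.Sch.GrpIrr1
import Groth.Agent.S0348

/-!
# Actions of connected groups on products of complete varieties (helper17)
-/

set_option autoImplicit false
set_option linter.style.haveILetI false

namespace Groth.Agent.Helper17.AC2

open CategoryTheory CategoryTheory.Limits MonoidalCategory CartesianMonoidalCategory MonObj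
  AlgebraicGeometry Opposite

universe u

/-- rigidity in terms of points -/
theorem indep (k : Type u) [Field k] (V W Z : Over (Spec (CommRingCat.of k)))
    [LocallyOfFiniteType V.hom] [QuasiCompact V.hom] [LocallyOfFiniteType W.hom]
    (hV : Function.Bijective ((Scheme.ΓSpecIso (CommRingCat.of k)).inv ≫ V.hom.appTop).hom)
    [PreconnectedSpace ↥W.left] [IsSeparated Z.hom]
    (v₁ : 𝟙_ (Over (Spec (CommRingCat.of k))) ⟶ V)
    (w₁ : 𝟙_ (Over (Spec (CommRingCat.of k))) ⟶ W)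
    (z₁ : 𝟙_ (Over (Spec (CommRingCat.of k))) ⟶ Z) (F : V ⊗ W ⟶ Z)
    (hF : (V ◁ w₁) ≫ F = toUnit _ ≫ z₁)
    {T : Over (Spec (CommRingCat.of k))} (v : T ⟶ V) (w : T ⟶ W) :
    lift v w ≫ F = lift (toUnit T ≫ v₁) w ≫ F := by
  have h := AA6.rigid_over k V W Z hV v₁ F w₁ z₁ hF
  rw [h, lift_snd_assoc, lift_snd_assoc]

theorem action_ext {S : Scheme.{u}} {G U : Over S} [GrpObj G] (a b : AlgGrp.Action G U)
    (h : a.act = b.act) : a = b := by
  cases a
  cases b
  congr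

theorem main11420 (k : Type u) [Field k] [IsAlgClosed k]
    (G X Y : Over (Spec (CommRingCat.of k))) [GrpObj G] [LocallyOfFiniteType G.hom]
    [QuasiCompact G.hom] [ConnectedSpace ↥G.left]
    [IsProper X.hom] [IsIntegral X.left]
    [IsProper Y.hom] [IsIntegral Y.left]
    (a : AlgGrp.Action G (X ⊗ Y)) :
    ∃ (b : AlgGrp.Action G X) (c : AlgGrp.Action G Y),
      a.act = lift ((G ◁ fst X Y) ≫ b.act) ((G ◁ snd X Y) ≫ c.act) ∧
      ∀ (b' : AlgGrp.Action G X) (c' : AlgGrp.Action G Y),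
        a.act = lift ((G ◁ fst X Y) ≫ b'.act) ((G ◁ snd X Y) ≫ c'.act) → b' = b ∧ c' = c := by
  -- rational points
  obtain ⟨hcX, -⟩ := AA1.qcqs_of_field k X.hom
  obtain ⟨hcY, -⟩ := AA1.qcqs_of_field k Y.hom
  haveI := hcX
  haveI := hcY
  obtain ⟨px, -, hpx⟩ := IsClosed.exists_closed_singleton (X := ↥X.left) isClosed_univ
    Set.univ_nonempty
  obtain ⟨py, -, hpy⟩ := IsClosed.exists_closed_singleton (X := ↥Y.left) isClosed_univ
    Set.univ_nonempty
  let x₁ : 𝟙_ (Over (Spec (CommRingCat.of k))) ⟶ X :=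
    Over.homMk (pointOfClosedPoint X.hom px hpx) (by simp)
  let y₁ : 𝟙_ (Over (Spec (CommRingCat.of k))) ⟶ Y :=
    Over.homMk (pointOfClosedPoint Y.hom py hpy) (by simp)
  have hX := AB1.antiAffine_of_universallyClosed k X.hom
  have hY := AB1.antiAffine_of_universallyClosed k Y.hom
  haveI : IrreducibleSpace ↥G.left := Groth.Agent.S0348.result k G
  haveI : GeometricallyIrreducible G.hom :=
    Groth.Agent.Helper16.GrpIrr.geometricallyIrreducible_of_isAlgClosed G.hom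
  haveI : IrreducibleSpace ↥(G ⊗ X).left := by
    change IrreducibleSpace ↥(pullback G.hom X.hom)
    infer_instance
  haveI : IrreducibleSpace ↥(G ⊗ Y).left := by
    change IrreducibleSpace ↥(pullback G.hom Y.hom)
    infer_instance
  haveI : LocallyOfFiniteType (G ⊗ X).hom := by
    dsimp
    infer_instance
  haveI : LocallyOfFiniteType (G ⊗ Y).hom := by
    dsimp
    infer_instance
  -- independence of the first component from `y`
  let R₁ : Y ⊗ (G ⊗ X) ⟶ G ⊗ (X ⊗ Y) :=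
    lift (snd Y (G ⊗ X) ≫ fst G X) (lift (snd Y (G ⊗ X) ≫ snd G X) (fst Y (G ⊗ X)))
  have hR₁ : ∀ {T : Over (Spec (CommRingCat.of k))} (g : T ⟶ G) (x : T ⟶ X) (y : T ⟶ Y),
      lift y (lift g x) ≫ R₁ = lift g (lift x y) := by
    intro T g x y
    simp only [R₁, comp_lift, lift_snd_assoc, lift_fst, lift_snd]
  have hw1 : ∀ (V : Over (Spec (CommRingCat.of k))),
      snd V (𝟙_ (Over (Spec (CommRingCat.of k)))) = toUnit _ := fun V => toUnit_unique _ _
  have hF₁ : (Y ◁ lift η[G] x₁) ≫ R₁ ≫ a.act ≫ fst X Y = toUnit _ ≫ x₁ := by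
    have e : Y ◁ lift η[G] x₁ =
        lift (fst Y (𝟙_ _)) (lift (toUnit _ ≫ η[G]) (toUnit _ ≫ x₁)) := by
      apply CartesianMonoidalCategory.hom_ext
      · rw [whiskerLeft_fst, lift_fst]
      · rw [whiskerLeft_snd, lift_snd, comp_lift, hw1]
    rw [e, reassoc_of% (hR₁ (toUnit _ ≫ η[G]) (toUnit _ ≫ x₁) (fst Y (𝟙_ _))),
      ← Category.assoc, AC1.act_one, lift_fst]
  have indep₁ : ∀ {T : Over (Spec (CommRingCat.of k))} (g : T ⟶ G) (x : T ⟶ X) (y : T ⟶ Y),
      lift g (lift x y) ≫ a.act ≫ fst X Y =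
        lift g (lift x (toUnit T ≫ y₁)) ≫ a.act ≫ fst X Y := by
    intro T g x y
    have h := indep k Y (G ⊗ X) X hY y₁ (lift η[G] x₁) x₁ (R₁ ≫ a.act ≫ fst X Y) hF₁ y
      (lift g x)
    rw [reassoc_of% (hR₁ g x y), reassoc_of% (hR₁ g x (toUnit T ≫ y₁))] at h
    exact h
  -- independence of the second component from `x`
  let R₂ : X ⊗ (G ⊗ Y) ⟶ G ⊗ (X ⊗ Y) :=
    lift (snd X (G ⊗ Y) ≫ fst G Y) (lift (fst X (G ⊗ Y)) (snd X (G ⊗ Y) ≫ snd G Y))
  have hR₂ : ∀ {T : Over (Spec (CommRingCat.of k))} (g : T ⟶ G) (x : T ⟶ X) (y : T ⟶ Y),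
      lift x (lift g y) ≫ R₂ = lift g (lift x y) := by
    intro T g x y
    simp only [R₂, comp_lift, lift_snd_assoc, lift_fst, lift_snd]
  have hF₂ : (X ◁ lift η[G] y₁) ≫ R₂ ≫ a.act ≫ snd X Y = toUnit _ ≫ y₁ := by
    have e : X ◁ lift η[G] y₁ =
        lift (fst X (𝟙_ _)) (lift (toUnit _ ≫ η[G]) (toUnit _ ≫ y₁)) := by
      apply CartesianMonoidalCategory.hom_ext
      · rw [whiskerLeft_fst, lift_fst]
      · rw [whiskerLeft_snd, lift_snd, comp_lift, hw1]
    rw [e, reassoc_of% (hR₂ (toUnit _ ≫ η[G]) (fst X (𝟙_ _)) (toUnit _ ≫ y₁)),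
      ← Category.assoc, AC1.act_one, lift_snd]
  have indep₂ : ∀ {T : Over (Spec (CommRingCat.of k))} (g : T ⟶ G) (x : T ⟶ X) (y : T ⟶ Y),
      lift g (lift x y) ≫ a.act ≫ snd X Y =
        lift g (lift (toUnit T ≫ x₁) y) ≫ a.act ≫ snd X Y := by
    intro T g x y
    have h := indep k X (G ⊗ Y) Y hX x₁ (lift η[G] y₁) y₁ (R₂ ≫ a.act ≫ snd X Y) hF₂ x
      (lift g y)
    rw [reassoc_of% (hR₂ g x y), reassoc_of% (hR₂ g (toUnit T ≫ x₁) y)] at h
    exact h
  -- the two actions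
  let bact : G ⊗ X ⟶ X :=
    lift (fst G X) (lift (snd G X) (toUnit _ ≫ y₁)) ≫ a.act ≫ fst X Y
  let cact : G ⊗ Y ⟶ Y :=
    lift (fst G Y) (lift (toUnit _ ≫ x₁) (snd G Y)) ≫ a.act ≫ snd X Y
  have hb : ∀ {T : Over (Spec (CommRingCat.of k))} (g : T ⟶ G) (x : T ⟶ X),
      lift g x ≫ bact = lift g (lift x (toUnit T ≫ y₁)) ≫ a.act ≫ fst X Y := by
    intro T g x
    simp only [bact, ← Category.assoc, comp_lift, lift_fst, lift_snd]
    rw [toUnit_unique (lift g x ≫ toUnit (G ⊗ X)) (toUnit T)]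
  have hc : ∀ {T : Over (Spec (CommRingCat.of k))} (g : T ⟶ G) (y : T ⟶ Y),
      lift g y ≫ cact = lift g (lift (toUnit T ≫ x₁) y) ≫ a.act ≫ snd X Y := by
    intro T g y
    simp only [cact, ← Category.assoc, comp_lift, lift_fst, lift_snd]
    rw [toUnit_unique (lift g y ≫ toUnit (G ⊗ Y)) (toUnit T)]
  have hsplit : ∀ {T : Over (Spec (CommRingCat.of k))} (v : T ⟶ X ⊗ Y),
      v = lift (v ≫ fst X Y) (v ≫ snd X Y) := by
    intro T v
    apply CartesianMonoidalCategory.hom_ext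
    · rw [lift_fst]
    · rw [lift_snd]
  let b : AlgGrp.Action G X := AC1.mk' bact
    (fun T x => by rw [hb, ← Category.assoc, AC1.act_one, lift_fst])
    (fun T g h x => by
      have e1 : lift h x ≫ bact = (lift h (lift x (toUnit T ≫ y₁)) ≫ a.act) ≫ fst X Y := by
        rw [hb, Category.assoc]
      rw [hb, ← Category.assoc, AC1.act_mul, hb, e1, Category.assoc,
        hsplit (lift h (lift x (toUnit T ≫ y₁)) ≫ a.act), indep₁, lift_fst])
  let c : AlgGrp.Action G Y := AC1.mk' cact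
    (fun T y => by rw [hc, ← Category.assoc, AC1.act_one, lift_snd])
    (fun T g h y => by
      have e1 : lift h y ≫ cact = (lift h (lift (toUnit T ≫ x₁) y) ≫ a.act) ≫ snd X Y := by
        rw [hc, Category.assoc]
      rw [hc, ← Category.assoc, AC1.act_mul, hc, e1, Category.assoc,
        hsplit (lift h (lift (toUnit T ≫ x₁) y) ≫ a.act), indep₂, lift_snd])
  have hid : lift (fst G (X ⊗ Y)) (lift (snd G (X ⊗ Y) ≫ fst X Y) (snd G (X ⊗ Y) ≫ snd X Y)) =
      𝟙 (G ⊗ (X ⊗ Y)) := by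
    apply CartesianMonoidalCategory.hom_ext
    · rw [lift_fst, Category.id_comp]
    · rw [lift_snd, Category.id_comp, ← hsplit]
  have hwf : G ◁ fst X Y = lift (fst G (X ⊗ Y)) (snd G (X ⊗ Y) ≫ fst X Y) := by
    apply CartesianMonoidalCategory.hom_ext
    · rw [whiskerLeft_fst, lift_fst]
    · rw [whiskerLeft_snd, lift_snd]
  have hws : G ◁ snd X Y = lift (fst G (X ⊗ Y)) (snd G (X ⊗ Y) ≫ snd X Y) := by
    apply CartesianMonoidalCategory.hom_ext
    · rw [whiskerLeft_fst, lift_fst]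
    · rw [whiskerLeft_snd, lift_snd]
  have hprod : a.act = lift ((G ◁ fst X Y) ≫ bact) ((G ◁ snd X Y) ≫ cact) := by
    apply CartesianMonoidalCategory.hom_ext
    · rw [lift_fst, hwf, hb, ← indep₁, hid, Category.id_comp]
    · rw [lift_snd, hws, hc, ← indep₂, hid, Category.id_comp]
  refine ⟨b, c, hprod, ?_⟩
  intro b' c' h'
  constructor
  · apply action_ext
    change b'.act = bact
    simp only [bact]
    rw [h', lift_fst, lift_whiskerLeft_assoc, lift_fst, lift_fst_snd, Category.id_comp]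
  · apply action_ext
    change c'.act = cact
    simp only [cact]
    rw [h', lift_snd, lift_whiskerLeft_assoc, lift_snd, lift_fst_snd, Category.id_comp]

end Groth.Agent.Helper17.AC2
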