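import Mathlib
import Groth.Prelude.Def_AlgGrp
import Groth.Agent.Lib.Helper17.AB1
import Groth.Agent.Lib.Helper17.AA2
import Groth.Agent.Lib.Helper18.GrpDesc

/-!
# Automorphisms fixing an affine kernel and trivial on a proper quotient (helper17)
-/

set_option autoImplicit false
set_option linter.style.haveILetI false

namespace Groth.Agent.Helper17.AE1

open CategoryTheory CategoryTheory.Limits MonoidalCategory CartesianMonoidalCategory MonObj
  AlgebraicGeometry Opposite

universe u

/-- reducedness descends along flat surjective morphisms -/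
theorem isReduced_of_flat_surjective {X Y : Scheme.{u}} (f : X ⟶ Y) [Flat f] [Surjective f]
    [IsReduced X] : IsReduced Y := by
  haveI : ∀ y : Y, _root_.IsReduced (Y.presheaf.stalk y) := by
    intro y
    obtain ⟨x, rfl⟩ := f.surjective y
    have hflat : (f.stalkMap x).hom.Flat := Flat.stalkMap f x
    have hinj : Function.Injective (f.stalkMap x).hom := by
      algebraize [(f.stalkMap x).hom]
      haveI : IsLocalHom (algebraMap (Y.presheaf.stalk (f x)) (X.presheaf.stalk x)) :=
        inferInstanceAs (IsLocalHom (f.stalkMap x).hom)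
      haveI : Module.FaithfullyFlat (Y.presheaf.stalk (f x)) (X.presheaf.stalk x) :=
        Module.FaithfullyFlat.of_flat_of_isLocalHom
      exact FaithfulSMul.algebraMap_injective _ _
    exact isReduced_of_injective _ hinj
  exact isReduced_of_isReduced_stalk Y

open Groth.Agent.Helper18.GrpFppf in
theorem main17833 (k : Type u) [Field k] [IsAlgClosed k]
    (G H Q : Over (Spec (CommRingCat.of k))) [GrpObj G] [GrpObj H] [GrpObj Q]
    [Smooth G.hom] [QuasiCompact G.hom] [ConnectedSpace ↥G.left]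
    [IsAffine H.left] [IsProper Q.hom]
    (j : H ⟶ G) [IsMonHom j] (q : G ⟶ Q) [IsMonHom q] [Flat q.left] [Surjective q.left]
    (hker : AlgGrp.IsKernel j q)
    (u : G ≅ G) [IsMonHom u.hom] (hH : j ≫ u.hom = j) (hQ : u.hom ≫ q = q) :
    u.hom = 𝟙 G := by
  have hjq : j ≫ q = 1 := IsKernel.comp_eq_one hker
  haveI : Mono j := by
    have := hker.flip
    exact CategoryTheory.Limits.PullbackCone.mono_snd_of_is_pullback_of_mono this.isLimit
  have hφq : (u.hom * (𝟙 G)⁻¹) ≫ q = 1 := by
    rw [MonObj.mul_comp, GrpObj.inv_comp, hQ, Category.id_comp, mul_inv_cancel]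
  obtain ⟨n, hn⟩ := IsKernel.exists_lift hker (u.hom * (𝟙 G)⁻¹) hφq
  -- invariance
  have hinv0 : (lift (fst G H ≫ 𝟙 G) (snd G H ≫ j) ≫ μ[G]) ≫ (u.hom * (𝟙 G)⁻¹) =
      fst G H ≫ (u.hom * (𝟙 G)⁻¹) := by
    have hmul : lift (fst G H ≫ 𝟙 G) (snd G H ≫ j) ≫ μ[G] = (fst G H) * (snd G H ≫ j) := by
      rw [Category.comp_id]; rfl
    rw [hmul, MonObj.comp_mul, MonObj.comp_mul, GrpObj.comp_inv, GrpObj.comp_inv,
      Category.comp_id, Category.comp_id, MonObj.mul_comp, Category.assoc, hH]
    group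
  have hinv : (lift (fst G H ≫ 𝟙 G) (snd G H ≫ j) ≫ μ[G]) ≫ n = fst G H ≫ n := by
    rw [← cancel_mono j, Category.assoc (fst G H) n j, Category.assoc _ n j, hn]
    exact hinv0
  -- descent
  haveI : LocallyOfFiniteType Q.hom := inferInstance
  haveI : QuasiCompact q.left := quasiCompact_left q
  haveI : EffectiveEpi q.left := inferInstance
  have hpb := isPullback_left (isPullback_mul_of_isKernel q j hker (𝟙 G))
  have hdesc : ∀ {Z : Scheme.{u}} (g₁ g₂ : Z ⟶ G.left), g₁ ≫ q.left = g₂ ≫ q.left →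
      g₁ ≫ n.left = g₂ ≫ n.left := by
    intro Z g₁ g₂ hg
    have hg' : g₁ ≫ q.left = g₂ ≫ (𝟙 G ≫ q).left := by rw [Category.id_comp]; exact hg
    calc g₁ ≫ n.left = (hpb.lift g₁ g₂ hg' ≫
          (lift (fst G H ≫ 𝟙 G) (snd G H ≫ j) ≫ μ[G]).left) ≫ n.left := by
          rw [hpb.lift_fst g₁ g₂ hg']
      _ = hpb.lift g₁ g₂ hg' ≫ ((lift (fst G H ≫ 𝟙 G) (snd G H ≫ j) ≫ μ[G]) ≫ n).left := by
          rw [Category.assoc]; rfl
      _ = hpb.lift g₁ g₂ hg' ≫ (fst G H ≫ n).left := by rw [hinv]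
      _ = (hpb.lift g₁ g₂ hg' ≫ (fst G H).left) ≫ n.left := by
          rw [Category.assoc]; rfl
      _ = g₂ ≫ n.left := by rw [hpb.lift_snd g₁ g₂ hg']
  let nbar : Q.left ⟶ H.left := EffectiveEpi.desc q.left n.left (fun g₁ g₂ hg => hdesc g₁ g₂ hg)
  have hfac : q.left ≫ nbar = n.left := EffectiveEpi.fac q.left n.left _
  haveI : Epi q.left := inferInstance
  have hover : nbar ≫ H.hom = Q.hom := by
    rw [← cancel_epi q.left, ← Category.assoc, hfac, Over.w n, Over.w q]
  let nb : Q ⟶ H := Over.homMk nbar hover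
  have hqnb : q ≫ nb = n := by
    apply Over.OverMorphism.ext
    exact hfac
  -- Q is integral
  haveI : ConnectedSpace Q.left :=
    Function.Surjective.connectedSpace q.left.surjective q.left.continuous
  haveI : IrreducibleSpace Q.left := Groth.Agent.S0348.result k Q
  haveI : IsReduced G.left := Groth.Agent.Helper16.GenGS.isReduced_of_smooth G.hom
  haveI : IsReduced Q.left := isReduced_of_flat_surjective q.left
  haveI : IsIntegral Q.left := isIntegral_of_irreducibleSpace_of_isReduced _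
  have hQanti := Groth.Agent.Helper17.AB1.antiAffine_of_universallyClosed k Q.hom
  have hconst := Groth.Agent.Helper17.AA2.const_of_affine k η[Q] hQanti nb
  have hφ : u.hom * (𝟙 G)⁻¹ = toUnit G ≫ (η[Q] ≫ nb ≫ j) := by
    rw [← hn, ← hqnb, Category.assoc]
    conv_lhs => rw [hconst]
    have ht : q ≫ toUnit Q = toUnit G := toUnit_unique _ _
    rw [← ht]
    simp only [Category.assoc]
  have hη : η[G] ≫ (u.hom * (𝟙 G)⁻¹) = η[G] := by
    rw [MonObj.comp_mul, GrpObj.comp_inv, Category.comp_id, IsMonHom.one_hom, mul_inv_cancel,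
      Hom.one_def, toUnit_unique (toUnit (𝟙_ (Over (Spec (CommRingCat.of k))))) (𝟙 _),
      Category.id_comp]
  have hpt : η[Q] ≫ nb ≫ j = η[G] := by
    rw [← hη, hφ, ← Category.assoc η[G], toUnit_unique (η[G] ≫ toUnit G) (𝟙 _), Category.id_comp]
  have h1 : u.hom * (𝟙 G)⁻¹ = 1 := by
    rw [hφ, hpt, Hom.one_def]
  exact mul_inv_eq_one.mp h1

end Groth.Agent.Helper17.AE1
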