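import Mathlib
import Groth.Prelude.Def_AlgGrp
import Groth.Agent.Lib.Helper17.AE1

/-!
# Anti-affineness in extensions of group schemes (helper17)
-/

set_option autoImplicit false
set_option linter.style.haveILetI false

namespace Groth.Agent.Helper17.AE2

open CategoryTheory CategoryTheory.Limits MonoidalCategory CartesianMonoidalCategory MonObj
  AlgebraicGeometry Opposite

universe u

/-- pullback of sections along a flat surjective morphism is injective -/
theorem app_injective_of_flat_surjective {X Y : Scheme.{u}} (f : X ⟶ Y) [Flat f] [Surjective f]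
    (U : Y.Opens) : Function.Injective (f.app U).hom := by
  intro s t hst
  refine TopCat.Presheaf.section_ext Y.sheaf U s t ?_
  intro y hy
  obtain ⟨x, rfl⟩ := f.surjective y
  have hflat : (f.stalkMap x).hom.Flat := Flat.stalkMap f x
  have hinj : Function.Injective (f.stalkMap x).hom := by
    algebraize [(f.stalkMap x).hom]
    haveI : IsLocalHom (algebraMap (Y.presheaf.stalk (f x)) (X.presheaf.stalk x)) :=
      inferInstanceAs (IsLocalHom (f.stalkMap x).hom)
    haveI : Module.FaithfullyFlat (Y.presheaf.stalk (f x)) (X.presheaf.stalk x) :=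
      Module.FaithfullyFlat.of_flat_of_isLocalHom
    exact FaithfulSMul.algebraMap_injective _ _
  apply hinj
  have h := Scheme.Hom.germ_stalkMap f U x hy
  have h1 := congrArg (fun φ => φ.hom s) h
  have h2 := congrArg (fun φ => φ.hom t) h
  simp only [CommRingCat.hom_comp, RingHom.comp_apply] at h1 h2
  exact h1.trans ((congrArg _ hst).trans h2.symm)

open Groth.Agent.Helper18.GrpFppf in
/-- descent of a right-invariant morphism along a quotient map -/
theorem descend_along_quotient {S : Scheme.{u}} {N G Q Z : Over S} [GrpObj G] [GrpObj Q]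
    (q : G ⟶ Q) [IsMonHom q] (i : N ⟶ G) (hK : AlgGrp.IsKernel i q) [EffectiveEpi q.left]
    (n : G ⟶ Z)
    (hinv : (lift (fst G N ≫ 𝟙 G) (snd G N ≫ i) ≫ μ[G]) ≫ n = fst G N ≫ n) :
    ∃ nb : Q ⟶ Z, q ≫ nb = n := by
  have hpb := isPullback_left (isPullback_mul_of_isKernel q i hK (𝟙 G))
  have hdesc : ∀ {W : Scheme.{u}} (g₁ g₂ : W ⟶ G.left), g₁ ≫ q.left = g₂ ≫ q.left →
      g₁ ≫ n.left = g₂ ≫ n.left := by
    intro W g₁ g₂ hg
    have hg' : g₁ ≫ q.left = g₂ ≫ (𝟙 G ≫ q).left := by rw [Category.id_comp]; exact hg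
    calc g₁ ≫ n.left = (hpb.lift g₁ g₂ hg' ≫
          (lift (fst G N ≫ 𝟙 G) (snd G N ≫ i) ≫ μ[G]).left) ≫ n.left := by
          rw [hpb.lift_fst g₁ g₂ hg']
      _ = hpb.lift g₁ g₂ hg' ≫ ((lift (fst G N ≫ 𝟙 G) (snd G N ≫ i) ≫ μ[G]) ≫ n).left := by
          rw [Category.assoc]; rfl
      _ = hpb.lift g₁ g₂ hg' ≫ (fst G N ≫ n).left := by rw [hinv]
      _ = (hpb.lift g₁ g₂ hg' ≫ (fst G N).left) ≫ n.left := by
          rw [Category.assoc]; rfl
      _ = g₂ ≫ n.left := by rw [hpb.lift_snd g₁ g₂ hg']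
  let nbar : Q.left ⟶ Z.left := EffectiveEpi.desc q.left n.left (fun g₁ g₂ hg => hdesc g₁ g₂ hg)
  have hfac : q.left ≫ nbar = n.left := EffectiveEpi.fac q.left n.left _
  haveI : Epi q.left := inferInstance
  have hover : nbar ≫ Z.hom = Q.hom := by
    rw [← cancel_epi q.left, ← Category.assoc, hfac, Over.w n, Over.w q]
  refine ⟨Over.homMk nbar hover, ?_⟩
  apply Over.OverMorphism.ext
  exact hfac

open Groth.Agent.Helper18.GrpFppf Groth.Agent.Helper17.AA1 in
theorem main18070 (k : Type u) [Field k]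
    (G₁ G G₂ : Over (Spec (CommRingCat.of k))) [GrpObj G₁] [LocallyOfFiniteType G₁.hom]
    [QuasiCompact G₁.hom] [ConnectedSpace ↥G₁.left]
    [GrpObj G] [LocallyOfFiniteType G.hom] [QuasiCompact G.hom]
    [GrpObj G₂] [LocallyOfFiniteType G₂.hom] [QuasiCompact G₂.hom] [ConnectedSpace ↥G₂.left]
    (i : G₁ ⟶ G) [IsMonHom i] [IsClosedImmersion i.left] (q : G ⟶ G₂) [IsMonHom q]
    [Surjective q.left] [Flat q.left]
    (hex : AlgGrp.IsKernel i q) :
    (Function.Bijective ((Scheme.ΓSpecIso (CommRingCat.of k)).inv ≫ G.hom.appTop).hom →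
      Function.Bijective ((Scheme.ΓSpecIso (CommRingCat.of k)).inv ≫ G₂.hom.appTop).hom) ∧
    (Function.Bijective ((Scheme.ΓSpecIso (CommRingCat.of k)).inv ≫ G₁.hom.appTop).hom →
      Function.Bijective ((Scheme.ΓSpecIso (CommRingCat.of k)).inv ≫ G₂.hom.appTop).hom →
      Function.Bijective ((Scheme.ΓSpecIso (CommRingCat.of k)).inv ≫ G.hom.appTop).hom) := by
  have hqinj : Function.Injective q.left.appTop.hom :=
    app_injective_of_flat_surjective q.left ⊤
  have hw : G.hom = q.left ≫ G₂.hom := (Over.w q).symm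
  have hcomp : (Scheme.ΓSpecIso (CommRingCat.of k)).inv ≫ G.hom.appTop =
      ((Scheme.ΓSpecIso (CommRingCat.of k)).inv ≫ G₂.hom.appTop) ≫ q.left.appTop := by
    rw [hw, Scheme.Hom.comp_appTop, Category.assoc]
  constructor
  · intro hG
    rw [hcomp] at hG
    have hG' : Function.Bijective (q.left.appTop.hom ∘
        ((Scheme.ΓSpecIso (CommRingCat.of k)).inv ≫ G₂.hom.appTop).hom) := by
      rw [CommRingCat.hom_comp, RingHom.coe_comp] at hG
      exact hG
    constructor
    · exact hG'.1.of_comp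
    · intro t
      obtain ⟨c, hc⟩ := hG'.2 (q.left.appTop.hom t)
      exact ⟨c, hqinj hc⟩
  · intro h1 h2
    obtain ⟨hc, hqs⟩ := qcqs_of_field k G.hom
    obtain ⟨hc1, hqs1⟩ := qcqs_of_field k G₁.hom
    have H : IsPullback (fst G G₁).left (snd G G₁).left G.hom G₁.hom :=
      IsPullback.of_hasPullback G.hom G₁.hom
    have hP := isPushout_appTop_of_field k H
    haveI : IsIso ((Scheme.ΓSpecIso (CommRingCat.of k)).inv ≫ G₁.hom.appTop) :=
      isIso_of_bijective _ h1
    haveI : IsIso G₁.hom.appTop :=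
      IsIso.of_isIso_comp_left (Scheme.ΓSpecIso (CommRingCat.of k)).inv _
    haveI : IsIso (fst G G₁).left.appTop := hP.isIso_inl_of_isIso
    obtain ⟨m, hm⟩ : ∃ m : G ⊗ G₁ ⟶ G, m = lift (fst G G₁ ≫ 𝟙 G) (snd G G₁ ≫ i) ≫ μ[G] :=
      ⟨_, rfl⟩
    obtain ⟨σ, hσ⟩ : ∃ σ : G ⟶ G ⊗ G₁, σ = lift (𝟙 G) (toUnit G ≫ η[G₁]) := ⟨_, rfl⟩
    have hσf : σ ≫ fst G G₁ = 𝟙 G := by rw [hσ]; exact lift_fst _ _
    have hσm : σ ≫ m = 𝟙 G := by
      rw [hσ, hm, ← Category.assoc, comp_lift, ← Category.assoc, lift_fst, ← Category.assoc,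
        lift_snd, Category.id_comp, Category.assoc, IsMonHom.one_hom]
      exact MonObj.lift_comp_one_right _ _
    have hmf : m.left.appTop = (fst G G₁).left.appTop := by
      have e1 : m.left.appTop ≫ σ.left.appTop = 𝟙 _ := by
        rw [← Scheme.Hom.comp_appTop, ← Over.comp_left, hσm]; simp
      have e2 : (fst G G₁).left.appTop ≫ σ.left.appTop = 𝟙 _ := by
        rw [← Scheme.Hom.comp_appTop, ← Over.comp_left, hσf]; simp
      haveI : IsIso σ.left.appTop := by
        have : σ.left.appTop = inv (fst G G₁).left.appTop := IsIso.eq_inv_of_hom_inv_id e2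
        rw [this]; infer_instance
      rw [← cancel_mono σ.left.appTop, e1, e2]
    let A : Over (Spec (CommRingCat.of k)) :=
      Over.mk (Spec.map ((Scheme.ΓSpecIso (CommRingCat.of k)).inv ≫ G.hom.appTop))
    have hπw : G.left.toSpecΓ ≫ A.hom = G.hom := by
      show G.left.toSpecΓ ≫ Spec.map ((Scheme.ΓSpecIso (CommRingCat.of k)).inv ≫ G.hom.appTop)
        = G.hom
      rw [Spec.map_comp, ← Scheme.toSpecΓ_naturality_assoc, toSpecΓ_SpecMap_ΓSpecIso_inv,
        Category.comp_id]
    let π : G ⟶ A := Over.homMk G.left.toSpecΓ hπw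
    haveI : IsAffine A.left := by show IsAffine (Spec _); infer_instance
    have hinv : m ≫ π = fst G G₁ ≫ π := by
      apply Over.OverMorphism.ext
      apply ext_of_isAffine
      rw [Over.comp_left, Over.comp_left, Scheme.Hom.comp_appTop, Scheme.Hom.comp_appTop, hmf]
    haveI : QuasiCompact q.left := quasiCompact_left q
    haveI : EffectiveEpi q.left := inferInstance
    obtain ⟨πb, hπb⟩ := descend_along_quotient q i hex π (by rw [← hm]; exact hinv)
    have hconst := Groth.Agent.Helper17.AA2.const_of_affine k η[G₂] h2 πb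
    have hπ : π = toUnit G ≫ (η[G₂] ≫ πb) := by
      rw [← hπb]
      conv_lhs => rw [hconst]
      have ht : q ≫ toUnit G₂ = toUnit G := toUnit_unique _ _
      rw [← ht]; simp only [Category.assoc]
    have hπl : G.left.toSpecΓ = G.hom ≫ (η[G₂] ≫ πb).left := by
      have := congrArg (fun f => f.left) hπ
      simpa [π] using this
    have happ : (Scheme.ΓSpecIso Γ(G.left, ⊤)).hom =
        (η[G₂] ≫ πb).left.appTop ≫ G.hom.appTop := by
      rw [← Scheme.toSpecΓ_appTop, hπl, Scheme.Hom.comp_appTop]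
    have hsurj : Function.Surjective G.hom.appTop.hom := by
      intro t
      refine ⟨(η[G₂] ≫ πb).left.appTop.hom ((Scheme.ΓSpecIso Γ(G.left, ⊤)).inv.hom t), ?_⟩
      have := congrArg (fun φ => φ.hom ((Scheme.ΓSpecIso Γ(G.left, ⊤)).inv.hom t)) happ
      simp only [CommRingCat.hom_comp, RingHom.comp_apply] at this
      rw [← this]
      exact congrArg (fun φ => φ.hom t) (Scheme.ΓSpecIso Γ(G.left, ⊤)).inv_hom_id
    have hinj : Function.Injective G.hom.appTop.hom := by
      have hwη : η[G].left ≫ G.hom = 𝟙 (Spec (CommRingCat.of k)) := Over.w η[G]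
      have e : G.hom.appTop ≫ η[G].left.appTop = 𝟙 _ := by
        rw [← Scheme.Hom.comp_appTop, hwη]; simp
      have ea : ∀ c, η[G].left.appTop.hom (G.hom.appTop.hom c) = c := fun c => by
        have := congrArg (fun φ => φ.hom c) e
        simpa using this
      intro a b hab
      have := congrArg η[G].left.appTop.hom hab
      rwa [ea, ea] at this
    have hiso : Function.Bijective (Scheme.ΓSpecIso (CommRingCat.of k)).inv.hom :=
      bijective_of_isIso _
    rw [CommRingCat.hom_comp, RingHom.coe_comp]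
    have hbij : Function.Bijective G.hom.appTop.hom := ⟨hinj, hsurj⟩
    exact Function.Bijective.comp hbij hiso

end Groth.Agent.Helper17.AE2
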