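import Mathlib
import Groth.Prelude.Def_AlgGrp
import Groth.Agent.Lib.Helper17.AA8
import Groth.Agent.Lib.Helper18.SchImgGrp3

/-!
# Pointed morphisms from anti-affine groups factor through the anti-affine part (helper17)
-/

set_option autoImplicit false
set_option linter.style.haveILetI false

namespace Groth.Agent.Helper17.AE5

open CategoryTheory CategoryTheory.Limits MonoidalCategory CartesianMonoidalCategory MonObj
  AlgebraicGeometry Opposite

universe u

/-- the target of a scheme-theoretically dominant quasi-compact morphism from an anti-affine scheme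
is anti-affine -/
theorem antiAffine_of_dominant (k : Type u) [Field k] {X Y : Over (Spec (CommRingCat.of k))}
    (g : X ⟶ Y) [IsSchemeTheoreticallyDominant g.left] [QuasiCompact g.left]
    (hX : Function.Bijective ((Scheme.ΓSpecIso (CommRingCat.of k)).inv ≫ X.hom.appTop).hom) :
    Function.Bijective ((Scheme.ΓSpecIso (CommRingCat.of k)).inv ≫ Y.hom.appTop).hom := by
  have hqinj : Function.Injective g.left.appTop.hom := Scheme.Hom.app_injective g.left ⊤
  have hw : X.hom = g.left ≫ Y.hom := (Over.w g).symm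
  have hcomp : (Scheme.ΓSpecIso (CommRingCat.of k)).inv ≫ X.hom.appTop =
      ((Scheme.ΓSpecIso (CommRingCat.of k)).inv ≫ Y.hom.appTop) ≫ g.left.appTop := by
    rw [hw, Scheme.Hom.comp_appTop, Category.assoc]
  rw [hcomp] at hX
  have hG' : Function.Bijective (g.left.appTop.hom ∘
      ((Scheme.ΓSpecIso (CommRingCat.of k)).inv ≫ Y.hom.appTop).hom) := by
    rw [CommRingCat.hom_comp, RingHom.coe_comp] at hX
    exact hX
  constructor
  · exact hG'.1.of_comp
  · intro t
    obtain ⟨c, hc⟩ := hG'.2 (g.left.appTop.hom t)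
    exact ⟨c, hqinj hc⟩

theorem main19703 (k : Type u) [Field k]
    (G H : Over (Spec (CommRingCat.of k))) [GrpObj G] [Smooth G.hom] [QuasiCompact G.hom]
    (hG : Function.Bijective ((Scheme.ΓSpecIso (CommRingCat.of k)).inv ≫ G.hom.appTop).hom)
    [GrpObj H] [LocallyOfFiniteType H.hom] [QuasiCompact H.hom] [ConnectedSpace ↥H.left]
    (M : Over (Spec (CommRingCat.of k))) [GrpObj M] [LocallyOfFiniteType M.hom]
    [QuasiCompact M.hom] (j : M ⟶ H) [IsMonHom j] [IsClosedImmersion j.left]
    (hM : Function.Bijective ((Scheme.ΓSpecIso (CommRingCat.of k)).inv ≫ M.hom.appTop).hom)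
    (hMmax : ∀ (M₁ : Over (Spec (CommRingCat.of k))) [GrpObj M₁] [LocallyOfFiniteType M₁.hom]
      [QuasiCompact M₁.hom] (j₁ : M₁ ⟶ H) [IsMonHom j₁] [IsClosedImmersion j₁.left],
      Function.Bijective ((Scheme.ΓSpecIso (CommRingCat.of k)).inv ≫ M₁.hom.appTop).hom →
        ∃ g : M₁ ⟶ M, g ≫ j = j₁)
    (f : G ⟶ H) (hf : η[G] ≫ f = η[H]) :
    ∃ g : G ⟶ M, g ≫ j = f := by
  haveI : LocallyOfFiniteType G.hom := inferInstance
  haveI hmon : IsMonHom f := AA7.main14578 k G H hG f hf
  haveI : QuasiCompact f.left := Groth.Agent.Helper18.GrpFppf.quasiCompact_left f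
  obtain ⟨H', inst, i, f', hi, hf', hfac, hci, hker, hqc, hsurj⟩ :=
    Groth.Agent.Helper18.SchImgGrp.main3 k G H f
  letI := inst
  haveI := hi
  haveI := hf'
  haveI := hci
  haveI := hqc
  haveI : IsSchemeTheoreticallyDominant f'.left := ⟨hker⟩
  have hH' := antiAffine_of_dominant k f' hG
  haveI : LocallyOfFiniteType H'.hom := by rw [← Over.w i]; infer_instance
  haveI : QuasiCompact H'.hom := by rw [← Over.w i]; infer_instance
  obtain ⟨g₁, hg₁⟩ := hMmax H' i hH'
  exact ⟨f' ≫ g₁, by rw [Category.assoc, hg₁, hfac]⟩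

end Groth.Agent.Helper17.AE5
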