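import Mathlib
import Groth.Prelude.Def_AlgGrp
import Groth.Agent.Lib.Helper17.AE2

/-!
# Descent of global functions along torsors (helper17)
-/

set_option autoImplicit false
set_option linter.style.haveILetI false

namespace Groth.Agent.Helper17.AE6

open CategoryTheory CategoryTheory.Limits MonoidalCategory CartesianMonoidalCategory MonObj
  AlgebraicGeometry Opposite

universe u

/-- descent of global functions along an effective epimorphism with given kernel pair -/
theorem range_appTop_eq {X Y P : Scheme.{u}} (f : X ⟶ Y) (p₁ p₂ : P ⟶ X)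
    (hsq : IsPullback p₁ p₂ f f) [EffectiveEpi f] :
    Set.range f.appTop.hom = {s : Γ(X, ⊤) | p₁.appTop.hom s = p₂.appTop.hom s} := by
  ext s
  constructor
  · rintro ⟨t, rfl⟩
    have h1 : f.appTop ≫ p₁.appTop = f.appTop ≫ p₂.appTop := by
      rw [← Scheme.Hom.comp_appTop, ← Scheme.Hom.comp_appTop, hsq.w]
    exact congrArg (fun φ => φ.hom t) h1
  · intro hs
    let B : CommRingCat.{u} := CommRingCat.of (RingHom.eqLocus p₁.appTop.hom p₂.appTop.hom)
    let inc : B ⟶ Γ(X, ⊤) := CommRingCat.ofHom (Subring.subtype _)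
    have hinc : inc ≫ p₁.appTop = inc ≫ p₂.appTop := by
      ext b
      exact b.2
    let h : X ⟶ Spec B := X.toSpecΓ ≫ Spec.map inc
    have hh : p₁ ≫ h = p₂ ≫ h := by
      show p₁ ≫ X.toSpecΓ ≫ Spec.map inc = p₂ ≫ X.toSpecΓ ≫ Spec.map inc
      rw [Scheme.toSpecΓ_naturality_assoc, Scheme.toSpecΓ_naturality_assoc, ← Spec.map_comp,
        ← Spec.map_comp, hinc]
    have hdesc : ∀ {Z : Scheme.{u}} (g₁ g₂ : Z ⟶ X), g₁ ≫ f = g₂ ≫ f → g₁ ≫ h = g₂ ≫ h := by
      intro Z g₁ g₂ hg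
      rw [← hsq.lift_fst g₁ g₂ hg, Category.assoc, hh, ← Category.assoc, hsq.lift_snd]
    let hb : Y ⟶ Spec B := EffectiveEpi.desc f h (fun g₁ g₂ hg => hdesc g₁ g₂ hg)
    have hfac : f ≫ hb = h := EffectiveEpi.fac f h _
    have happ : h.appTop = (Scheme.ΓSpecIso B).hom ≫ inc := by
      show (X.toSpecΓ ≫ Spec.map inc).appTop = _
      rw [Scheme.Hom.comp_appTop, Scheme.toSpecΓ_appTop, Scheme.ΓSpecIso_naturality]
    have happ2 : h.appTop = hb.appTop ≫ f.appTop := by
      rw [← hfac, Scheme.Hom.comp_appTop]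
    refine ⟨hb.appTop.hom ((Scheme.ΓSpecIso B).inv.hom ⟨s, hs⟩), ?_⟩
    have e1 := congrArg (fun φ => φ.hom ((Scheme.ΓSpecIso B).inv.hom ⟨s, hs⟩)) happ2
    have e2 := congrArg (fun φ => φ.hom ((Scheme.ΓSpecIso B).inv.hom ⟨s, hs⟩)) happ
    simp only [CommRingCat.hom_comp, RingHom.comp_apply] at e1 e2
    rw [← e1, e2]
    have e3 : (Scheme.ΓSpecIso B).hom.hom ((Scheme.ΓSpecIso B).inv.hom ⟨s, hs⟩) = ⟨s, hs⟩ :=
      congrArg (fun φ => φ.hom (⟨s, hs⟩ : B)) (Scheme.ΓSpecIso B).inv_hom_id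
    rw [e3]
    rfl

theorem main16127 (k : Type u) [Field k] [IsAlgClosed k]
    (G X Y : Over (Spec (CommRingCat.of k))) [GrpObj G] [Smooth G.hom] [QuasiCompact G.hom]
    [IsReduced X.left] [IsSeparated X.hom] [LocallyOfFiniteType X.hom] [QuasiCompact X.hom]
    [IsReduced Y.left] [IsSeparated Y.hom] [LocallyOfFiniteType Y.hom] [QuasiCompact Y.hom]
    (a : AlgGrp.Action G X) (f : X ⟶ Y) [Flat f.left] [Surjective f.left]
    (hsq : IsPullback a.act.left (snd G X).left f.left f.left) :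
    Function.Injective (f.left.appTop) ∧
      Set.range (f.left.appTop) =
        {s : Γ(X.left, ⊤) | a.act.left.appTop s = (snd G X).left.appTop s} := by
  haveI : QuasiCompact f.left := Groth.Agent.Helper18.GrpFppf.quasiCompact_left f
  haveI : EffectiveEpi f.left := inferInstance
  exact ⟨AE2.app_injective_of_flat_surjective f.left ⊤, range_appTop_eq f.left _ _ hsq⟩

end Groth.Agent.Helper17.AE6
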