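import Mathlib
import Groth.Prelude.Def_CohB1

/-!
# A point avoiding two translates of a proper closed subset (helper17)
-/

set_option autoImplicit false
set_option linter.style.haveILetI false

namespace Groth.Agent.Helper17.AE7

open CategoryTheory MonoidalCategory CartesianMonoidalCategory MonObj GrpObj AlgebraicGeometry

universe u

theorem main10959
    (K : Type u) [Field K] [IsAlgClosed K] (A : Over (Spec (CommRingCat.of K)))
    [GrpObj A] [IsProper A.hom] [Smooth A.hom] [IrreducibleSpace A.left]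
    (Z : Set A.left) (hZ : IsClosed Z) (hZne : Z ≠ Set.univ)
    (z : 𝟙_ (Over (Spec (CommRingCat.of K))) ⟶ A) :
    ∃ x : 𝟙_ (Over (Spec (CommRingCat.of K))) ⟶ A,
      Disjoint (Set.range z.left.base)
        ((𝟙 A * (toUnit A ≫ x)).left.base '' Z ∪ (𝟙 A * (toUnit A ≫ x)⁻¹).left.base '' Z) := by
  obtain ⟨α, hα⟩ : ∃ α : A ⟶ A, α = (toUnit A ≫ z) * (𝟙 A)⁻¹ := ⟨_, rfl⟩
  obtain ⟨β, hβ⟩ : ∃ β : A ⟶ A, β = (toUnit A ≫ z) * (𝟙 A) := ⟨_, rfl⟩
  obtain ⟨α', hα'⟩ : ∃ α' : A ⟶ A, α' = (𝟙 A)⁻¹ * (toUnit A ≫ z) := ⟨_, rfl⟩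
  obtain ⟨β', hβ'⟩ : ∃ β' : A ⟶ A, β' = (toUnit A ≫ z)⁻¹ * (𝟙 A) := ⟨_, rfl⟩
  have h1 : α' ≫ α = 𝟙 A := by
    rw [hα, MonObj.comp_mul, GrpObj.comp_inv, Category.comp_id, comp_toUnit_assoc, hα']
    group
  have h2 : β' ≫ β = 𝟙 A := by
    rw [hβ, MonObj.comp_mul, Category.comp_id, comp_toUnit_assoc, hβ']
    group
  have hαs : Function.Surjective α.left.base := by
    intro p
    refine ⟨α'.left.base p, ?_⟩
    have := congr(($h1).left.base p)
    simpa using this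
  have hβs : Function.Surjective β.left.base := by
    intro p
    refine ⟨β'.left.base p, ?_⟩
    have := congr(($h2).left.base p)
    simpa using this
  have hUne : (Zᶜ).Nonempty := by
    rw [Set.nonempty_compl]; exact hZne
  have hUo : IsOpen Zᶜ := hZ.isOpen_compl
  have hαo : IsOpen (α.left.base ⁻¹' Zᶜ) := hUo.preimage α.left.continuous
  have hβo : IsOpen (β.left.base ⁻¹' Zᶜ) := hUo.preimage β.left.continuous
  have hαn : (α.left.base ⁻¹' Zᶜ).Nonempty := hUne.preimage hαs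
  have hβn : (β.left.base ⁻¹' Zᶜ).Nonempty := hUne.preimage hβs
  have hne := nonempty_preirreducible_inter hαo hβo hαn hβn
  haveI : JacobsonSpace A.left := LocallyOfFiniteType.jacobsonSpace A.hom
  obtain ⟨p, ⟨hpα, hpβ⟩, hp⟩ := nonempty_inter_closedPoints hne (hαo.inter hβo).isLocallyClosed
  obtain ⟨x, hx⟩ : ∃ x : 𝟙_ (Over (Spec (CommRingCat.of K))) ⟶ A, ∀ s, x.left.base s = p :=
    ⟨Over.homMk (pointOfClosedPoint A.hom p hp) (by simp), fun s => by simp⟩
  refine ⟨x, ?_⟩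
  have hu : toUnit (𝟙_ (Over (Spec (CommRingCat.of K)))) = 𝟙 _ := toUnit_unique _ _
  have e1 : z ≫ (𝟙 A * (toUnit A ≫ x)⁻¹) = x ≫ α := by
    rw [hα, MonObj.comp_mul, MonObj.comp_mul, GrpObj.comp_inv, GrpObj.comp_inv, Category.comp_id,
      Category.comp_id, comp_toUnit_assoc, comp_toUnit_assoc, hu, Category.id_comp,
      Category.id_comp]
  have e2 : z ≫ (𝟙 A * (toUnit A ≫ x)) = x ≫ β := by
    rw [hβ, MonObj.comp_mul, MonObj.comp_mul, Category.comp_id,
      Category.comp_id, comp_toUnit_assoc, comp_toUnit_assoc, hu, Category.id_comp,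
      Category.id_comp]
  have t1 : (𝟙 A * (toUnit A ≫ x)) ≫ (𝟙 A * (toUnit A ≫ x)⁻¹) = 𝟙 A := by
    rw [MonObj.comp_mul, GrpObj.comp_inv, Category.comp_id, comp_toUnit_assoc]
    group
  have t2 : (𝟙 A * (toUnit A ≫ x)⁻¹) ≫ (𝟙 A * (toUnit A ≫ x)) = 𝟙 A := by
    rw [MonObj.comp_mul, Category.comp_id, comp_toUnit_assoc]
    group
  rw [Set.disjoint_left]
  rintro _ ⟨s, rfl⟩ (⟨w, hw, hwe⟩ | ⟨w, hw, hwe⟩)
  · have a1 := congr(($t1).left.base w)
    have a2 := congr(($e1).left.base s)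
    simp only [Over.comp_left, Scheme.Hom.comp_base, TopCat.comp_app, Over.id_left,
      Scheme.Hom.id_base, TopCat.id_app] at a1 a2
    rw [hwe, a2, hx] at a1
    exact hpα (a1 ▸ hw)
  · have a1 := congr(($t2).left.base w)
    have a2 := congr(($e2).left.base s)
    simp only [Over.comp_left, Scheme.Hom.comp_base, TopCat.comp_app, Over.id_left,
      Scheme.Hom.id_base, TopCat.id_app] at a1 a2
    rw [hwe, a2, hx] at a1
    exact hpβ (a1 ▸ hw)

end Groth.Agent.Helper17.AE7
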