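import Mathlib
import Groth.Agent.Lib.Helper17.AE8

/-!
# Finiteness of the stabiliser of the complement of an affine open in an abelian variety (helper17)
-/

set_option autoImplicit false
set_option linter.style.haveILetI false

namespace Groth.Agent.Helper17.AE9

open CategoryTheory CategoryTheory.Limits MonoidalCategory CartesianMonoidalCategory MonObj GrpObj
  AlgebraicGeometry Opposite

universe u

/-- a closed subset of a proper scheme over a field which lies in an affine open is finite -/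
theorem finite_of_isClosed_subset_affine (k : Type u) [Field k] {X : Scheme.{u}}
    (g : X ⟶ Spec (CommRingCat.of k)) [IsProper g] (U : X.Opens) (hU : IsAffineOpen U)
    (C : Set X) (hC : IsClosed C) (hCU : C ⊆ (U : Set X)) : C.Finite := by
  haveI : Subsingleton ↥(Spec (CommRingCat.of k)) := AA1.subsingleton_spec_field k
  obtain ⟨I, hI⟩ : ∃ I : X.IdealSheafData,
      I = Scheme.IdealSheafData.vanishingIdeal ⟨C, hC⟩ := ⟨_, rfl⟩
  obtain ⟨j, hj⟩ : ∃ j : I.subscheme ⟶ X, j = I.subschemeι := ⟨_, rfl⟩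
  haveI : IsClosedImmersion j := hj ▸ inferInstance
  have hrj : Set.range j = C := by
    rw [hj, Scheme.IdealSheafData.range_subschemeι, hI,
      Scheme.IdealSheafData.coe_support_vanishingIdeal]
    rfl
  have hr : Set.range j ⊆ Set.range U.ι := by
    rw [hrj, Scheme.Opens.range_ι]
    exact hCU
  obtain ⟨l, hl⟩ : ∃ l : I.subscheme ⟶ U.toScheme, l ≫ U.ι = j :=
    ⟨IsOpenImmersion.lift U.ι j hr, IsOpenImmersion.lift_fac _ _ _⟩
  haveI : IsClosedImmersion (l ≫ U.ι) := hl ▸ inferInstance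
  haveI : IsClosedImmersion l := IsClosedImmersion.of_comp l U.ι
  haveI : IsAffine U.toScheme := hU
  haveI : IsAffine I.subscheme := isAffine_of_isAffineHom l
  haveI : IsFinite (j ≫ g) := by
    rw [IsFinite.iff_isProper_and_isAffineHom]
    exact ⟨inferInstance, inferInstance⟩
  obtain ⟨pt⟩ : Nonempty ↥(Spec (CommRingCat.of k)) := ⟨IsLocalRing.closedPoint k⟩
  have hfin := (j ≫ g).finite_preimage_singleton pt
  have huniv : (j ≫ g) ⁻¹' {pt} = Set.univ := by
    ext v
    simp only [Set.mem_preimage, Set.mem_singleton_iff, Set.mem_univ, iff_true]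
    exact Subsingleton.elim _ _
  rw [huniv] at hfin
  rw [← hrj, ← Set.image_univ]
  exact hfin.image _

theorem main18372 (k : Type u) [Field k] [IsAlgClosed k]
    (A : Over (Spec (CommRingCat.of k))) [GrpObj A] [IsProper A.hom] [Smooth A.hom]
    [GeometricallyConnected A.hom]
    (U : A.left.Opens) (hU : IsAffineOpen U) (he : Set.range η[A].left.base ⊆ (U : Set A.left)) :
    Set.Finite {x : 𝟙_ (Over (Spec (CommRingCat.of k))) ⟶ A |
      (𝟙 A * (toUnit A ≫ x)).left.base ⁻¹' ((U : Set A.left)ᶜ) = (U : Set A.left)ᶜ} := by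
  obtain ⟨D, hD⟩ : ∃ D : Set A.left, D = (U : Set A.left)ᶜ := ⟨_, rfl⟩
  rw [← hD]
  have hDcl : IsClosed D := hD ▸ U.isOpen.isClosed_compl
  haveI : Subsingleton ↥(𝟙_ (Over (Spec (CommRingCat.of k)))).left :=
    AA1.subsingleton_spec_field k
  obtain ⟨pt, hpt⟩ : ∃ pt : ↥(𝟙_ (Over (Spec (CommRingCat.of k)))).left,
      pt = IsLocalRing.closedPoint k := ⟨_, rfl⟩
  have hsub : ∀ s : ↥(𝟙_ (Over (Spec (CommRingCat.of k)))).left, s = pt :=
    fun s => Subsingleton.elim _ _
  obtain ⟨C, hC⟩ : ∃ C : Set A.left,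
      C = ⋂ (d : 𝟙_ (Over (Spec (CommRingCat.of k))) ⟶ A) (_ : d.left.base pt ∈ D),
        ((toUnit A ≫ d) * (𝟙 A)⁻¹).left.base ⁻¹' D := ⟨_, rfl⟩
  have hCcl : IsClosed C := by
    rw [hC]
    exact isClosed_iInter fun d => isClosed_iInter fun _ =>
      hDcl.preimage (Scheme.Hom.continuous _)
  have hu : toUnit (𝟙_ (Over (Spec (CommRingCat.of k)))) = 𝟙 _ := toUnit_unique _ _
  have hη1 : η[A] = 1 := by
    rw [Hom.one_def, hu, Category.id_comp]
  -- (i) stabilising points lie in `C`
  have h1 : ∀ x : 𝟙_ (Over (Spec (CommRingCat.of k))) ⟶ A,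
      (𝟙 A * (toUnit A ≫ x)).left.base ⁻¹' D = D → x.left.base pt ∈ C := by
    intro x hx
    rw [hC]
    simp only [Set.mem_iInter, Set.mem_preimage]
    intro d hd
    rw [← hx]
    have e0 : x ≫ ((toUnit A ≫ d) * (𝟙 A)⁻¹) = d * x⁻¹ := by
      rw [MonObj.comp_mul, GrpObj.comp_inv, Category.comp_id,
        comp_toUnit_assoc, hu, Category.id_comp]
    have e1 : x ≫ ((toUnit A ≫ d) * (𝟙 A)⁻¹) ≫ (𝟙 A * (toUnit A ≫ x)) = d := by
      rw [← Category.assoc, e0, MonObj.comp_mul, Category.comp_id,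
        comp_toUnit_assoc, hu, Category.id_comp]
      group
    have a1 := congr(($e1).left.base pt)
    simp only [Over.comp_left, Scheme.Hom.comp_base, TopCat.comp_app] at a1
    show (𝟙 A * (toUnit A ≫ x)).left.base
      (((toUnit A ≫ d) * (𝟙 A)⁻¹).left.base (x.left.base pt)) ∈ D
    rw [a1]
    exact hd
  -- (iii) `C ⊆ U`
  haveI : JacobsonSpace A.left := LocallyOfFiniteType.jacobsonSpace A.hom
  have h3 : C ⊆ (U : Set A.left) := by
    intro c hc
    by_contra hcU
    have hcD : c ∈ D := by rw [hD]; exact hcU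
    have hne : (C ∩ D).Nonempty := ⟨c, hc, hcD⟩
    obtain ⟨p, ⟨hpC, hpD⟩, hp⟩ :=
      nonempty_inter_closedPoints hne (hCcl.inter hDcl).isLocallyClosed
    obtain ⟨x, hx⟩ : ∃ x : 𝟙_ (Over (Spec (CommRingCat.of k))) ⟶ A, ∀ s, x.left.base s = p :=
      ⟨Over.homMk (pointOfClosedPoint A.hom p hp) (by simp), fun s => by simp⟩
    rw [hC] at hpC
    simp only [Set.mem_iInter, Set.mem_preimage] at hpC
    have h4 := hpC x (by rw [hx]; exact hpD)
    have e2 : x ≫ ((toUnit A ≫ x) * (𝟙 A)⁻¹) = η[A] := by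
      rw [MonObj.comp_mul, GrpObj.comp_inv, Category.comp_id, comp_toUnit_assoc, hu,
        Category.id_comp, hη1]
      group
    have a2 := congr(($e2).left.base pt)
    simp only [Over.comp_left, Scheme.Hom.comp_base, TopCat.comp_app] at a2
    rw [← hx pt, a2, hD] at h4
    exact h4 (he ⟨pt, rfl⟩)
  have hCfin : C.Finite := finite_of_isClosed_subset_affine k A.hom U hU C hCcl h3
  -- injectivity of `x ↦ x pt`
  refine Set.Finite.of_finite_image (f := fun x => x.left.base pt) (hCfin.subset ?_) ?_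
  · rintro _ ⟨x, hx, rfl⟩
    exact h1 x hx
  · intro x _ y _ hxy
    apply Over.OverMorphism.ext
    refine ext_of_apply_closedPoint_eq A.hom ?_ ?_ ?_
    · exact Over.w x
    · exact Over.w y
    · rw [← hpt]; exact hxy

end Groth.Agent.Helper17.AE9
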