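import Mathlib
import Groth.Prelude.Def_Lef
import Groth.Agent.Lib.Helper17.AE3

/-!
# Formal functions along a connected closed subscheme of a proper scheme form a local ring (helper17)
-/

set_option autoImplicit false
set_option linter.style.haveILetI false

namespace Groth.Agent.Helper17.AF1

open CategoryTheory CategoryTheory.Limits AlgebraicGeometry TopologicalSpace Opposite

universe u

/-- on a connected quasi-compact universally closed scheme over a field, every global function is a
unit or nilpotent -/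
theorem unit_or_nilpotent (k : Type u) [Field k] (Y : Scheme.{u})
    (g : Y ⟶ Spec (CommRingCat.of k)) [UniversallyClosed g] [CompactSpace Y]
    [PreconnectedSpace Y] (s : Γ(Y, ⊤)) : IsUnit s ∨ IsNilpotent s := by
  have hint : g.appTop.hom.IsIntegral := isIntegral_appTop_of_universallyClosed g
  have hKf : IsField Γ(Spec (CommRingCat.of k), ⊤) :=
    MulEquiv.isField (Field.toIsField k)
      (Scheme.ΓSpecIso (CommRingCat.of k)).commRingCatIsoToRingEquiv.toMulEquiv
  obtain ⟨m, t', h⟩ := AE3.exists_pow_eq hKf g.appTop.hom s (hint s)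
  have hcl : IsClopen (Y.basicOpen s : Set Y) :=
    ⟨AE3.isClosed_basicOpen s m t' h, (Y.basicOpen s).isOpen⟩
  rcases isClopen_iff.mp hcl with h1 | h1
  · right
    rw [Scheme.isNilpotent_iff_basicOpen_eq_bot]
    exact SetLike.coe_injective (h1.trans TopologicalSpace.Opens.coe_bot.symm)
  · left
    apply Y.toRingedSpace.isUnit_of_isUnit_germ ⊤ s
    intro x hx
    refine (Y.mem_basicOpen_top s x).mp ?_
    rw [← SetLike.mem_coe, h1]
    trivial

/-- on a connected quasi-compact universally closed scheme over an algebraically closed field,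
every global function is a constant up to a nilpotent -/
theorem exists_const_sub_nilpotent (k : Type u) [Field k] [IsAlgClosed k] (Y : Scheme.{u})
    (g : Y ⟶ Spec (CommRingCat.of k)) [UniversallyClosed g] [CompactSpace Y] [ConnectedSpace Y]
    (s : Γ(Y, ⊤)) :
    ∃ c : k, IsNilpotent
      (s - (g.appTop.hom.comp (Scheme.ΓSpecIso (CommRingCat.of k)).inv.hom) c) := by
  obtain ⟨φ, hφ⟩ : ∃ φ : k →+* Γ(Y, ⊤),
      φ = g.appTop.hom.comp (Scheme.ΓSpecIso (CommRingCat.of k)).inv.hom := ⟨_, rfl⟩
  rw [← hφ]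
  haveI : Nonempty (⊤ : Y.Opens) := ⟨⟨Classical.arbitrary Y, trivial⟩⟩
  haveI : Nontrivial Γ(Y, ⊤) := Scheme.component_nontrivial Y ⊤
  have hint : g.appTop.hom.IsIntegral := isIntegral_appTop_of_universallyClosed g
  have hφint : φ.IsIntegral := by
    rw [hφ]
    refine RingHom.IsIntegral.trans _ _ (RingHom.isIntegral_of_surjective _ ?_) hint
    exact (Scheme.ΓSpecIso (CommRingCat.of k)).symm.commRingCatIsoToRingEquiv.surjective
  obtain ⟨p, hpm, hps⟩ := hφint s
  have hsplit := (IsAlgClosed.splits p).eq_prod_roots_of_monic hpm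
  have hprod : ((p.roots.map (fun a => s - φ a))).prod = 0 := by
    rw [← hps]
    conv_rhs => rw [hsplit]
    rw [← Polynomial.coe_eval₂RingHom, map_multiset_prod, Multiset.map_map]
    congr 1
    apply Multiset.map_congr rfl
    intro a _
    simp
  have key : ∀ M : Multiset Γ(Y, ⊤), M.prod = 0 → ∃ t ∈ M, ¬ IsUnit t := by
    intro M
    induction M using Multiset.induction_on with
    | empty =>
      intro h
      simp at h
    | cons a M ih =>
      intro h
      rw [Multiset.prod_cons] at h
      by_cases ha : IsUnit a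
      · obtain ⟨t, ht, h4⟩ := ih (ha.mul_right_eq_zero.mp h)
        exact ⟨t, Multiset.mem_cons_of_mem ht, h4⟩
      · exact ⟨a, Multiset.mem_cons_self a M, ha⟩
  obtain ⟨t, ht, h0⟩ := key _ hprod
  obtain ⟨a, _, rfl⟩ := Multiset.mem_map.mp ht
  exact ⟨a, (unit_or_nilpotent k Y g (s - φ a)).resolve_left h0⟩

/-- an element of a sequential limit of commutative rings from a compatible family -/
theorem exists_limit_elem (F : ℕᵒᵖ ⥤ CommRingCat.{u}) (b : ∀ j, F.obj j)
    (hb : ∀ {j j' : ℕᵒᵖ} (f : j ⟶ j'), (F.map f).hom (b j) = b j') :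
    ∃ x : ↑(limit F), ∀ j, (limit.π F j).hom x = b j := by
  let hl := isLimitOfPreserves (forget CommRingCat.{u}) (limit.isLimit F)
  let s : (F ⋙ forget CommRingCat.{u}).sections := ⟨fun j => b j, fun f => hb f⟩
  refine ⟨(Types.isLimitEquivSections hl).symm s, fun j => ?_⟩
  exact Types.isLimitEquivSections_symm_apply hl s j

/-- an element of a sequential limit of commutative rings all of whose components are units is a
unit -/
theorem isUnit_of_forall_isUnit (F : ℕᵒᵖ ⥤ CommRingCat.{u}) (a : ↑(limit F))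
    (h : ∀ j, IsUnit ((limit.π F j).hom a)) : IsUnit a := by
  obtain ⟨x, hx⟩ := exists_limit_elem F (fun j => (((h j).unit⁻¹ : Units _) : F.obj j)) (by
    intro j j' f
    have hw : (F.map f).hom ((limit.π F j).hom a) = (limit.π F j').hom a := by
      have := limit.w F f
      exact congr(($this).hom a)
    have h1 : (F.map f).hom (((h j).unit⁻¹ : Units _) : F.obj j) * (limit.π F j').hom a = 1 := by
      rw [← hw, ← map_mul, IsUnit.val_inv_mul, map_one]
    have h2 : (limit.π F j').hom a * (((h j').unit⁻¹ : Units _) : F.obj j') = 1 :=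
      (h j').mul_val_inv
    exact left_inv_eq_right_inv h1 h2)
  refine isUnit_iff_exists_inv.mpr ⟨x, ?_⟩
  apply Concrete.limit_ext F
  intro j
  show (limit.π F j).hom (a * x) = (limit.π F j).hom 1
  rw [map_mul, hx, map_one]
  exact (h j).mul_val_inv

/-- the limit of a sequence of rings in which every element is a unit or nilpotent and every
element of the bottom ring is a constant up to a nilpotent is a local ring -/
theorem local_of_sequence (k : Type u) [Field k] (R : ℕ → CommRingCat.{u})
    (t : ∀ m, R (m + 1) ⟶ R m)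
    (ψ : ∀ m, k →+* R m) (hψ : ∀ m c, (t m).hom (ψ (m + 1) c) = ψ m c)
    (H1 : ∀ m (s : R m), IsUnit s ∨ IsNilpotent s) (H2 : ∀ m, Nontrivial (R m))
    (H3 : ∀ s : R 0, ∃ c : k, IsNilpotent (s - ψ 0 c)) :
    IsLocalRing ↑(limit (Functor.ofOpSequence t)) ∧
      ∀ a : ↑(limit (Functor.ofOpSequence t)), ∃ c : k, ∀ m : ℕ,
        IsNilpotent (Sub.sub (α := ↑(R m))
          ((limit.π (Functor.ofOpSequence t) (op m)).hom a) (ψ m c)) := by
  obtain ⟨π, hπdef⟩ : ∃ π : ∀ m, ↑(limit (Functor.ofOpSequence t)) →+* R m,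
      ∀ m, π m = (limit.π (Functor.ofOpSequence t) (op m)).hom := ⟨fun m => _, fun m => rfl⟩
  have hπt : ∀ m a, (t m).hom (π (m + 1) a) = π m a := by
    intro m a
    have hw := limit.w (Functor.ofOpSequence t) (homOfLE (Nat.le_add_right m 1)).op
    rw [Functor.ofOpSequence_map_homOfLE_succ] at hw
    rw [hπdef, hπdef]
    exact congr(($hw).hom a)
  have step2 : ∀ a c, IsNilpotent (π 0 a - ψ 0 c) → ∀ m, IsNilpotent (π m a - ψ m c) := by
    intro a c h0 m
    have hnu : ∀ m, ¬ IsUnit (π m a - ψ m c) := by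
      intro m
      induction m with
      | zero =>
        haveI := H2 0
        exact h0.not_isUnit
      | succ n ih =>
        intro hu
        apply ih
        have := hu.map (t n).hom
        rwa [map_sub, hπt, hψ] at this
    exact (H1 m _).resolve_left (hnu m)
  constructor
  · haveI : Nontrivial ↑(limit (Functor.ofOpSequence t)) := by
      refine ⟨⟨0, 1, fun h => ?_⟩⟩
      have h01 := congrArg (π 0) h
      rw [map_zero, map_one] at h01
      haveI := H2 0
      exact zero_ne_one h01
    apply IsLocalRing.of_isUnit_or_isUnit_one_sub_self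
    intro a
    obtain ⟨c, hc⟩ := H3 (π 0 a)
    have hall := step2 a c hc
    by_cases hc0 : c = 0
    · right
      apply isUnit_of_forall_isUnit
      intro j
      obtain ⟨m⟩ := j
      have h1 : IsNilpotent (π m a) := by
        have := hall m
        rwa [hc0, map_zero, sub_zero] at this
      have h2 : IsUnit (π m (1 - a)) := by
        rw [map_sub, map_one]
        exact h1.isUnit_one_sub
      rw [hπdef] at h2
      exact h2
    · left
      apply isUnit_of_forall_isUnit
      intro j
      obtain ⟨m⟩ := j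
      have hu : IsUnit (ψ m c) := (IsUnit.mk0 c hc0).map (ψ m)
      have h2 : IsUnit (π m a) := by
        have h3 := (hall m).isUnit_add_left_of_commute hu (Commute.all _ _)
        rwa [add_sub_cancel] at h3
      rw [hπdef] at h2
      exact h2
  · intro a
    obtain ⟨c, hc⟩ := H3 (π 0 a)
    refine ⟨c, fun m => ?_⟩
    have := step2 a c hc m
    rw [hπdef] at this
    exact this


theorem main11393 (k : Type u) [Field k] [IsAlgClosed k] (X : Scheme.{u})
    [X.Over (Spec (CommRingCat.of k))] [IsProper (X ↘ (Spec (CommRingCat.of k)))]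
    (𝓘 : X.IdealSheafData) (hY : _root_.IsConnected (𝓘.support : Set X)) :
    IsLocalRing ↑(limit (Functor.ofOpSequence
        (X := fun m : ℕ => Γ((𝓘 ^ (m + 1)).subscheme, ⊤))
        (fun m : ℕ => (Scheme.IdealSheafData.inclusion (Lef.pow_succ_le 𝓘 m)).appTop))) ∧
      ∀ a : ↑(limit (Functor.ofOpSequence
        (X := fun m : ℕ => Γ((𝓘 ^ (m + 1)).subscheme, ⊤))
        (fun m : ℕ => (Scheme.IdealSheafData.inclusion (Lef.pow_succ_le 𝓘 m)).appTop))),
        ∃ c : k, ∀ m : ℕ, IsNilpotent (Sub.sub (α := ↑Γ((𝓘 ^ (m + 1)).subscheme, ⊤))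
          ((limit.π (Functor.ofOpSequence
              (X := fun m : ℕ => Γ((𝓘 ^ (m + 1)).subscheme, ⊤))
              (fun m : ℕ => (Scheme.IdealSheafData.inclusion (Lef.pow_succ_le 𝓘 m)).appTop))
              (Opposite.op m)).hom a)
          (((𝓘 ^ (m + 1)).subschemeι ≫ (X ↘ Spec (CommRingCat.of k))).appTop.hom
            ((Scheme.ΓSpecIso (CommRingCat.of k)).inv.hom c))) := by
  have hconn : ∀ m : ℕ, ConnectedSpace ↥((𝓘 ^ (m + 1)).subscheme) := by
    intro m
    have hr : Set.range (𝓘 ^ (m + 1)).subschemeι = (𝓘.support : Set X) := by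
      rw [Scheme.IdealSheafData.range_subschemeι]
      rfl
    haveI : PreconnectedSpace ↥((𝓘 ^ (m + 1)).subscheme) := by
      constructor
      rw [← (𝓘 ^ (m + 1)).subschemeι.isEmbedding.isInducing.isPreconnected_image,
        Set.image_univ, hr]
      exact hY.isPreconnected
    obtain ⟨x, hx⟩ := hY.nonempty
    obtain ⟨v, hv⟩ : x ∈ Set.range (𝓘 ^ (m + 1)).subschemeι := hr ▸ hx
    exact { toNonempty := ⟨v⟩ }
  have hprop : ∀ m : ℕ,
      IsProper ((𝓘 ^ (m + 1)).subschemeι ≫ (X ↘ Spec (CommRingCat.of k))) :=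
    fun m => inferInstance
  have hcomp : ∀ m : ℕ, CompactSpace ↥((𝓘 ^ (m + 1)).subscheme) := fun m => by
    haveI := hprop m
    exact (quasiCompact_iff_compactSpace
      ((𝓘 ^ (m + 1)).subschemeι ≫ (X ↘ Spec (CommRingCat.of k)))).mp inferInstance
  obtain ⟨ψ, hψdef⟩ : ∃ ψ : ∀ m : ℕ, k →+* Γ((𝓘 ^ (m + 1)).subscheme, ⊤),
      ∀ m, ψ m = ((𝓘 ^ (m + 1)).subschemeι ≫ (X ↘ Spec (CommRingCat.of k))).appTop.hom.comp
        (Scheme.ΓSpecIso (CommRingCat.of k)).inv.hom := ⟨fun m => _, fun m => rfl⟩
  have hmain := local_of_sequence k (fun m : ℕ => Γ((𝓘 ^ (m + 1)).subscheme, ⊤))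
    (fun m : ℕ => (Scheme.IdealSheafData.inclusion (Lef.pow_succ_le 𝓘 m)).appTop) ψ ?_ ?_ ?_ ?_
  · refine ⟨hmain.1, fun a => ?_⟩
    obtain ⟨c, hc⟩ := hmain.2 a
    refine ⟨c, fun m => ?_⟩
    have h1 := hc m
    rw [hψdef] at h1
    exact h1
  · intro m c
    have key : Scheme.IdealSheafData.inclusion (Lef.pow_succ_le 𝓘 m) ≫
        ((𝓘 ^ (m + 2)).subschemeι ≫ (X ↘ Spec (CommRingCat.of k))) =
        (𝓘 ^ (m + 1)).subschemeι ≫ (X ↘ Spec (CommRingCat.of k)) := by
      rw [← Category.assoc, Scheme.IdealSheafData.inclusion_subschemeι]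
    have h2 := congr(($key).appTop.hom ((Scheme.ΓSpecIso (CommRingCat.of k)).inv.hom c))
    rw [Scheme.Hom.comp_appTop] at h2
    rw [hψdef, hψdef]
    exact h2
  · intro m s
    haveI := hconn m
    haveI := hcomp m
    haveI := hprop m
    exact unit_or_nilpotent k _
      ((𝓘 ^ (m + 1)).subschemeι ≫ (X ↘ Spec (CommRingCat.of k))) s
  · intro m
    haveI := hconn m
    haveI : Nonempty (⊤ : ((𝓘 ^ (m + 1)).subscheme).Opens) :=
      ⟨⟨Classical.arbitrary _, trivial⟩⟩
    exact Scheme.component_nontrivial _ ⊤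
  · intro s
    haveI := hconn 0
    haveI := hcomp 0
    haveI := hprop 0
    have h3 := exists_const_sub_nilpotent k _
      ((𝓘 ^ (0 + 1)).subschemeι ≫ (X ↘ Spec (CommRingCat.of k))) s
    rw [hψdef]
    exact h3

end Groth.Agent.Helper17.AF1
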