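import Mathlib
import Groth.Prelude.Def_W4bk4git07Quot
import Groth.Prelude.Def_AlgGrp
import Groth.Agent.Lib.Helper17.AA1

set_option autoImplicit false
universe u
open CategoryTheory Limits MonoidalCategory CartesianMonoidalCategory MonObj GrpObj AlgebraicGeometry Topology

namespace Groth.Agent.Helper17.AF3

section SchemeLevel
variable {x y S : Scheme.{u}}

/-- the canonical map `x ×_y x ⟶ x ×_S x` -/
noncomputable def jmap (f : x ⟶ y) (q : y ⟶ S) (p : x ⟶ S) (hp : f ≫ q = p) :
    pullback f f ⟶ pullback p p :=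
  pullback.lift (pullback.fst f f) (pullback.snd f f) (by rw [← hp, pullback.condition_assoc])

/-- `f × f : x ×_S x ⟶ y ×_S y` -/
noncomputable def mmap (f : x ⟶ y) (q : y ⟶ S) (p : x ⟶ S) (hp : f ≫ q = p) :
    pullback p p ⟶ pullback q q :=
  pullback.map p p q q f f (𝟙 S) ((Category.comp_id _).trans hp.symm)
    ((Category.comp_id _).trans hp.symm)

theorem range_jmap (f : x ⟶ y) (q : y ⟶ S) (p : x ⟶ S) (hp : f ≫ q = p) :
    Set.range (jmap f q p hp).base =
      (mmap f q p hp).base ⁻¹' Set.range (pullback.diagonal q).base := by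
  subst hp
  have H := pullback_map_diagonal_isPullback f f q
  have h1 : jmap f q (f ≫ q) rfl = H.isoPullback.hom ≫ pullback.snd _ _ := by
    rw [H.isoPullback_hom_snd]
    apply pullback.hom_ext
    · simp only [jmap, pullback.map, pullback.lift_fst, Category.comp_id]
    · simp only [jmap, pullback.map, pullback.lift_snd, Category.comp_id]
  have h2 : mmap f q (f ≫ q) rfl =
      pullback.map (f ≫ q) (f ≫ q) q q f f (𝟙 _) (Category.comp_id _) (Category.comp_id _) := rfl
  rw [h1, h2, Scheme.Hom.comp_base, TopCat.coe_comp, Set.range_comp,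
    Set.range_eq_univ.mpr H.isoPullback.hom.surjective, Set.image_univ]
  exact Scheme.Pullback.range_snd _ _

theorem isQuotientMap_mmap (f : x ⟶ y) (q : y ⟶ S) (p : x ⟶ S) (hp : f ≫ q = p)
    (hf : GIT.IsUnivSubmersive f) : IsQuotientMap (mmap f q p hp).base := by
  haveI : (topologically @IsQuotientMap).IsStableUnderComposition :=
    topologically_isStableUnderComposition _ (fun f g hf hg => hg.comp hf)
  have := MorphismProperty.pullbackMap
    (P := MorphismProperty.universally (topologically @IsQuotientMap)) hf hf hp.symm hp.symm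
  exact MorphismProperty.universally_le (topologically @IsQuotientMap) _ this

end SchemeLevel

section Main11428
variable {S : Scheme.{u}} {G X Y : Over S} [GrpObj G]

set_option backward.isDefEq.respectTransparency false in
theorem psi_left_eq (a : AlgGrp.Action G X) (φ : X ⟶ Y) (hinv : GIT.IsInvariant a φ)
    (hp : φ.left ≫ Y.hom = X.hom) :
    (GIT.psi a (𝟙 X)).left = GIT.PsiY a φ hinv ≫ jmap φ.left Y.hom X.hom hp := by
  have e1 : GIT.psi a (𝟙 X) ≫ fst X X = a.act := by
    simp [GIT.psi]
  have e2 : GIT.psi a (𝟙 X) ≫ snd X X = snd G X := by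
    simp [GIT.psi]
  have e1' := congr(($e1).left)
  have e2' := congr(($e2).left)
  rw [Over.comp_left] at e1' e2'
  apply pullback.hom_ext
  · refine e1'.trans ?_
    simp [GIT.PsiY, jmap]
  · refine e2'.trans ?_
    simp [GIT.PsiY, jmap]

theorem main11428 (a : AlgGrp.Action G X) (φ : X ⟶ Y) (h : GIT.IsGeomQuot a φ) :
    IsSeparated Y.hom ↔ IsClosed (Set.range (GIT.psi a (𝟙 X)).left.base) := by
  have hp : φ.left ≫ Y.hom = X.hom := Over.w φ
  have hΨ := psi_left_eq a φ h.inv hp
  have hrange : Set.range (GIT.psi a (𝟙 X)).left.base =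
      Set.range (jmap φ.left Y.hom X.hom hp).base := by
    rw [hΨ, Scheme.Hom.comp_base, TopCat.coe_comp, Set.range_comp,
      Set.range_eq_univ.mpr h.orbit, Set.image_univ]
  rw [hrange, range_jmap]
  have hq := isQuotientMap_mmap φ.left Y.hom X.hom hp h.subm
  constructor
  · intro hs
    exact (pullback.diagonal Y.hom).isClosedEmbedding.isClosed_range.preimage
      (mmap φ.left Y.hom X.hom hp).continuous
  · intro hc
    have hcl : IsClosed (Set.range (pullback.diagonal Y.hom).base) := hq.isClosed_preimage.mp hc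
    exact ⟨IsClosedImmersion.of_isPreimmersion _ hcl⟩

end Main11428

section Shear
variable {S : Scheme.{u}} {G X : Over S} [GrpObj G]

theorem act_mul {T : Over S} (a : AlgGrp.Action G X) (g h : T ⟶ G) (x : T ⟶ X) :
    lift (g * h) x ≫ a.act = lift g (lift h x ≫ a.act) ≫ a.act := by
  have e : lift (g * h) x = lift (lift g h) x ≫ (μ[G] ▷ X) := by
    rw [lift_whiskerRight, Hom.mul_def]
  rw [e, Category.assoc, a.mul_act, lift_lift_associator_hom_assoc, lift_whiskerLeft_assoc]

theorem act_one {T : Over S} (a : AlgGrp.Action G X) (x : T ⟶ X) :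
    lift (1 : T ⟶ G) x ≫ a.act = x := by
  have e : lift (1 : T ⟶ G) x = lift (toUnit T) x ≫ (η[G] ▷ X) := by
    rw [lift_whiskerRight, Hom.one_def]
  rw [e, Category.assoc, a.one_act, lift_leftUnitor_hom]

/-- the shear automorphism `(g, x) ↦ (g, g x)` -/
noncomputable def shear (a : AlgGrp.Action G X) : G ⊗ X ≅ G ⊗ X where
  hom := lift (fst G X) a.act
  inv := lift (fst G X) (lift (fst G X)⁻¹ (snd G X) ≫ a.act)
  hom_inv_id := by
    apply CartesianMonoidalCategory.hom_ext
    · rw [Category.assoc, lift_fst, lift_fst, Category.id_comp]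
    · rw [Category.assoc, lift_snd, Category.id_comp, ← Category.assoc, comp_lift,
        GrpObj.comp_inv, lift_fst, lift_snd]
      calc lift (fst G X)⁻¹ a.act ≫ a.act
          = lift (fst G X)⁻¹ (lift (fst G X) (snd G X) ≫ a.act) ≫ a.act := by
            rw [lift_fst_snd, Category.id_comp]
        _ = snd G X := by rw [← act_mul, _root_.inv_mul_cancel, act_one]
  inv_hom_id := by
    apply CartesianMonoidalCategory.hom_ext
    · rw [Category.assoc, lift_fst, lift_fst, Category.id_comp]
    · rw [Category.assoc, lift_snd, Category.id_comp, ← act_mul, _root_.mul_inv_cancel, act_one]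

theorem shear_hom_snd (a : AlgGrp.Action G X) : (shear a).hom ≫ snd G X = a.act := lift_snd _ _

theorem universallyOpen_act (a : AlgGrp.Action G X) [UniversallyOpen G.hom] :
    UniversallyOpen a.act.left := by
  have e : a.act.left = (shear a).hom.left ≫ (snd G X).left := by
    rw [← Over.comp_left, shear_hom_snd]
  haveI : UniversallyOpen (snd G X).left := by
    change UniversallyOpen (pullback.snd G.hom X.hom)
    infer_instance
  haveI : IsIso (shear a).hom.left := inferInstance
  rw [e]
  infer_instance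

end Shear

section Orbit
variable {x y R : Scheme.{u}}

noncomputable def liftP {x' y' T : Scheme.{u}} {f : x ⟶ y} {i₁ : x' ⟶ x} {i₂ : y' ⟶ y}
    {f' : x' ⟶ y'} (H : IsPullback f' i₁ i₂ f) (u : T ⟶ x') (v : T ⟶ pullback f f)
    (huv : u ≫ i₁ = v ≫ pullback.fst f f) : T ⟶ pullback f' f' :=
  pullback.lift u (H.lift (u ≫ f') (v ≫ pullback.snd f f)
      (by rw [Category.assoc, H.w, reassoc_of% huv, pullback.condition, Category.assoc]))
    (by rw [H.lift_fst])

theorem isPullback_fst_map {x' y' : Scheme.{u}} (f : x ⟶ y) {i₁ : x' ⟶ x} {i₂ : y' ⟶ y}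
    {f' : x' ⟶ y'} (H : IsPullback f' i₁ i₂ f) :
    IsPullback (pullback.fst f' f') (pullback.map f' f' f f i₁ i₁ i₂ H.w H.w) i₁
      (pullback.fst f f) := by
  have w : pullback.fst f' f' ≫ i₁ =
      pullback.map f' f' f f i₁ i₁ i₂ H.w H.w ≫ pullback.fst f f := by
    simp only [pullback.map, pullback.lift_fst]
  refine ⟨⟨w⟩, ⟨PullbackCone.IsLimit.mk w (fun c => liftP H c.fst c.snd c.condition) ?_ ?_ ?_⟩⟩
  · intro c
    exact pullback.lift_fst _ _ _
  · intro c
    apply pullback.hom_ext
    · simp only [liftP, pullback.map, Category.assoc, pullback.lift_fst, pullback.lift_fst_assoc]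
      exact c.condition
    · simp only [liftP, pullback.map, Category.assoc, pullback.lift_snd, pullback.lift_snd_assoc,
        IsPullback.lift_snd]
  · intro c m hm1 hm2
    apply pullback.hom_ext
    · rw [hm1]
      exact (pullback.lift_fst _ _ _).symm
    · apply H.hom_ext
      · simp only [liftP, Category.assoc, pullback.lift_snd, IsPullback.lift_fst]
        rw [← pullback.condition, ← Category.assoc, hm1]
      · simp only [liftP, Category.assoc, pullback.lift_snd, IsPullback.lift_snd]
        rw [← hm2]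
        simp only [pullback.map, Category.assoc, pullback.lift_snd]

theorem universallyOpen_of_orbit (f : x ⟶ y) (s t : R ⟶ x) (hst : s ≫ f = t ≫ f)
    (hsurj : Function.Surjective (pullback.lift s t hst).base) [hs : UniversallyOpen s]
    (hsub : GIT.IsUnivSubmersive f) : UniversallyOpen f := by
  refine ⟨fun x' y' i₁ i₂ f' H => ?_⟩
  have hq : IsQuotientMap f'.base := hsub i₁ i₂ f' H
  have hW : pullback.fst (s ≫ f) i₂ ≫ s ≫ f = pullback.snd (s ≫ f) i₂ ≫ i₂ := pullback.condition
  obtain ⟨q₁, hq1f, hq1i⟩ : ∃ q : pullback (s ≫ f) i₂ ⟶ x',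
      q ≫ f' = pullback.snd (s ≫ f) i₂ ∧ q ≫ i₁ = pullback.fst (s ≫ f) i₂ ≫ s :=
    ⟨H.lift (pullback.snd (s ≫ f) i₂) (pullback.fst (s ≫ f) i₂ ≫ s)
      (by rw [Category.assoc]; exact hW.symm), H.lift_fst _ _ _, H.lift_snd _ _ _⟩
  obtain ⟨q₂, hq2f, hq2i⟩ : ∃ q : pullback (s ≫ f) i₂ ⟶ x',
      q ≫ f' = pullback.snd (s ≫ f) i₂ ∧ q ≫ i₁ = pullback.fst (s ≫ f) i₂ ≫ t :=
    ⟨H.lift (pullback.snd (s ≫ f) i₂) (pullback.fst (s ≫ f) i₂ ≫ t)
      (by rw [Category.assoc, ← hst]; exact hW.symm), H.lift_fst _ _ _, H.lift_snd _ _ _⟩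
  have hA : IsPullback q₁ (pullback.fst (s ≫ f) i₂) i₁ s := by
    refine IsPullback.of_right ?_ hq1i H
    rw [hq1f]
    exact (IsPullback.of_hasPullback (s ≫ f) i₂).flip
  haveI hq1 : UniversallyOpen q₁ := MorphismProperty.of_isPullback (P := @UniversallyOpen) hA.flip hs
  have hL : IsPullback (pullback.lift q₁ q₂ (hq1f.trans hq2f.symm)) (pullback.fst (s ≫ f) i₂)
      (pullback.map f' f' f f i₁ i₁ i₂ H.w H.w) (pullback.lift s t hst) := by
    refine IsPullback.of_right ?_ ?_ (isPullback_fst_map f H)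
    · rw [pullback.lift_fst, pullback.lift_fst]
      exact hA
    · apply pullback.hom_ext
      · simp only [pullback.map, Category.assoc, pullback.lift_fst, pullback.lift_fst_assoc]
        exact hq1i
      · simp only [pullback.map, Category.assoc, pullback.lift_snd, pullback.lift_snd_assoc]
        exact hq2i
  have hpt : ∀ (z : ↑(pullback f' f')) (r : R),
      (pullback.map f' f' f f i₁ i₁ i₂ H.w H.w) z = (pullback.lift s t hst) r →
      ∃ w : ↑(pullback (s ≫ f) i₂), (pullback.lift q₁ q₂ (hq1f.trans hq2f.symm)) w = z := by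
    intro z r hzr
    obtain ⟨w₀, hw1, hw2⟩ := Scheme.Pullback.exists_preimage_pullback z r hzr
    refine ⟨hL.isoPullback.inv w₀, ?_⟩
    rw [← Scheme.Hom.comp_apply, hL.isoPullback_inv_fst, hw1]
  intro U hU
  have hset : f'.base ⁻¹' (f'.base '' U) = q₁.base '' (q₂.base ⁻¹' U) := by
    ext a
    constructor
    · rintro ⟨b, hbU, hba⟩
      obtain ⟨z, hz1, hz2⟩ := Scheme.Pullback.exists_preimage_pullback (f := f') (g := f') a b hba.symm
      obtain ⟨r, hr⟩ := hsurj ((pullback.map f' f' f f i₁ i₁ i₂ H.w H.w) z)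
      obtain ⟨w, hw⟩ := hpt z r hr.symm
      refine ⟨w, ?_, ?_⟩
      · show q₂ w ∈ U
        have : q₂ w = b := by
          rw [← hz2, ← hw, ← Scheme.Hom.comp_apply, pullback.lift_snd]
        rw [this]; exact hbU
      · show q₁ w = a
        rw [← hz1, ← hw, ← Scheme.Hom.comp_apply, pullback.lift_fst]
    · rintro ⟨w, hwU, rfl⟩
      refine ⟨q₂ w, hwU, ?_⟩
      show f' (q₂ w) = f' (q₁ w)
      rw [← Scheme.Hom.comp_apply, ← Scheme.Hom.comp_apply, hq1f, hq2f]
  have hopen : IsOpen (q₁.base '' (q₂.base ⁻¹' U)) :=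
    q₁.isOpenMap _ (hU.preimage q₂.continuous)
  rw [← hset] at hopen
  exact hq.isOpen_preimage.mp hopen

end Orbit

section Main18504

theorem universallyOpen_of_field (k : Type u) [Field k] {Z : Scheme.{u}}
    (g : Z ⟶ Spec (CommRingCat.of k)) [LocallyOfFiniteType g] : UniversallyOpen g := by
  haveI := AA1.subsingleton_spec_field k
  haveI := AA1.isIntegral_spec_field k
  haveI : LocallyOfFinitePresentation g :=
    LocallyOfFinitePresentation.iff_locallyOfFiniteType.mpr inferInstance
  infer_instance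

theorem main18504 (k : Type u) [Field k]
    (G X Y : Over (Spec (CommRingCat.of k))) [GrpObj G] [IsAffine G.left] [LocallyOfFiniteType G.hom]
    [LocallyOfFiniteType X.hom] [QuasiCompact X.hom] [IsSeparated X.hom]
    [LocallyOfFiniteType Y.hom] [QuasiCompact Y.hom] [IsSeparated Y.hom]
    (a : AlgGrp.Action G X) (φ : X ⟶ Y) (h : GIT.IsGeomQuot a φ) :
    UniversallyOpen φ.left := by
  haveI : UniversallyOpen G.hom := universallyOpen_of_field k G.hom
  haveI : UniversallyOpen a.act.left := universallyOpen_act a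
  exact universallyOpen_of_orbit φ.left a.act.left (snd G X).left h.inv.left h.orbit h.subm

end Main18504

end Groth.Agent.Helper17.AF3
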