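import Mathlib
import Groth.Prelude.Def_W4bk4git07Quot

/-!
# Categorical quotients from local data (helper17)

Scheme-level descent of invariant morphisms along a surjective morphism `φ : X ⟶ Y` for which
`O_Y` is the sheaf of invariant functions; geometric quotients are categorical quotients.
-/

set_option autoImplicit false
set_option linter.style.haveILetI false

namespace Groth.Agent.Helper17.GITQ1

open CategoryTheory CategoryTheory.Limits MonoidalCategory CartesianMonoidalCategory MonObj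
  AlgebraicGeometry Opposite TopologicalSpace

universe u

section SchemeLevel

variable {X Y Z : Scheme.{u}}

theorem comp_base_apply {A B C : Scheme.{u}} (f : A ⟶ B) (g : B ⟶ C) (x : A) :
    (f ≫ g).base x = g.base (f.base x) := rfl

theorem eq_base_of_eq {A B : Scheme.{u}} {f g : A ⟶ B} (h : f = g) (x : A) :
    f.base x = g.base x := by rw [h]

theorem appLE_congr' {f g : X ⟶ Z} (h : f = g) (A : Z.Opens) (B : X.Opens)
    (e : B ≤ f ⁻¹ᵁ A) (e' : B ≤ g ⁻¹ᵁ A) : f.appLE A B e = g.appLE A B e' := by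
  subst h; rfl

theorem appLE_eq_of_comp_eq (φ : X ⟶ Y) (hinj : ∀ U : Y.Opens, Function.Injective (φ.app U))
    {α β : Y ⟶ Z} (h : φ ≫ α = φ ≫ β) (A : Z.Opens) (B : Y.Opens)
    (e : B ≤ α ⁻¹ᵁ A) (e' : B ≤ β ⁻¹ᵁ A) : α.appLE A B e = β.appLE A B e' := by
  have h1 : α.appLE A B e ≫ φ.app B = β.appLE A B e' ≫ φ.app B := by
    rw [Scheme.Hom.app_eq_appLE, Scheme.Hom.appLE_comp_appLE, Scheme.Hom.appLE_comp_appLE]
    exact appLE_congr' h _ _ _ _
  refine ConcreteCategory.hom_ext _ _ fun s => ?_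
  apply hinj B
  have h2 := ConcreteCategory.congr_hom h1 s
  rwa [ConcreteCategory.comp_apply, ConcreteCategory.comp_apply] at h2

/-- a surjective morphism with injective comorphisms is an epimorphism of schemes -/
theorem comp_cancel (φ : X ⟶ Y) (hsurj : Function.Surjective φ.base)
    (hinj : ∀ U : Y.Opens, Function.Injective (φ.app U))
    {α β : Y ⟶ Z} (h : φ ≫ α = φ ≫ β) : α = β := by
  have hpt : ∀ y, α.base y = β.base y := by
    intro y
    obtain ⟨x, rfl⟩ := hsurj y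
    rw [← comp_base_apply, ← comp_base_apply]
    exact eq_base_of_eq h x
  apply Scheme.hom_ext_of_forall
  intro y
  obtain ⟨V, hV, hyV, -⟩ := Opens.isBasis_iff_nbhd.mp Z.isBasis_affineOpens
    (Opens.mem_top (α.base y))
  have hVaff : IsAffineOpen V := hV
  have e' : α ⁻¹ᵁ V ≤ β ⁻¹ᵁ V := by
    intro z hz
    change β.base z ∈ V
    rw [← hpt z]
    exact hz
  refine ⟨α ⁻¹ᵁ V, hyV, ?_⟩
  have h1 : α.resLE V (α ⁻¹ᵁ V) le_rfl = β.resLE V (α ⁻¹ᵁ V) e' := by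
    haveI : IsAffine (V : Scheme.{u}) := hVaff
    apply ext_of_isAffine
    change (α.resLE V (α ⁻¹ᵁ V) le_rfl).app ⊤ = (β.resLE V (α ⁻¹ᵁ V) e').app ⊤
    rw [Scheme.Hom.resLE_app_top, Scheme.Hom.resLE_app_top,
      appLE_eq_of_comp_eq φ hinj h V (α ⁻¹ᵁ V) le_rfl e']
  rw [← Scheme.Hom.resLE_comp_ι α (le_refl (α ⁻¹ᵁ V)), ← Scheme.Hom.resLE_comp_ι β e', h1]

theorem restrict_surjective (φ : X ⟶ Y) (hsurj : Function.Surjective φ.base) (U : Y.Opens) :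
    Function.Surjective (φ ∣_ U).base := by
  rintro ⟨y, hy⟩
  obtain ⟨x, rfl⟩ := hsurj y
  refine ⟨⟨x, hy⟩, Subtype.ext ?_⟩
  exact morphismRestrict_base_coe φ U ⟨x, hy⟩

theorem restrict_app_injective (φ : X ⟶ Y)
    (hinj : ∀ U : Y.Opens, Function.Injective (φ.app U)) (U : Y.Opens)
    (V : (U : Scheme.{u}).Opens) : Function.Injective ((φ ∣_ U).app V) := by
  rw [morphismRestrict_app]
  intro s t hst
  apply hinj (U.ι ''ᵁ V)
  have hiso : Function.Injective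
      (X.presheaf.map (eqToHom (image_morphismRestrict_preimage φ U V)).op) :=
    (ConcreteCategory.bijective_of_isIso _).1
  apply hiso
  exact hst

theorem restrict_cancel (φ : X ⟶ Y) (hsurj : Function.Surjective φ.base)
    (hinj : ∀ U : Y.Opens, Function.Injective (φ.app U)) (U : Y.Opens)
    {α β : (U : Scheme.{u}) ⟶ Z} (h : (φ ∣_ U) ≫ α = (φ ∣_ U) ≫ β) : α = β :=
  comp_cancel (φ ∣_ U) (restrict_surjective φ hsurj U) (restrict_app_injective φ hinj U) h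

theorem exists_ringHom_factor {R S T : Type u} [CommRing R] [CommRing S] [CommRing T]
    (j : S →+* T) (hj : Function.Injective j) (k : R →+* T) (hk : ∀ r, k r ∈ Set.range j) :
    ∃ g : R →+* S, j.comp g = k := by
  let e : S ≃+* j.range := RingEquiv.ofBijective j.rangeRestrict
    ⟨fun a b h => hj (congrArg Subtype.val h), j.rangeRestrict_surjective⟩
  have hk' : ∀ r, k r ∈ j.range := fun r => by
    obtain ⟨s, hs⟩ := hk r
    exact ⟨s, hs⟩
  refine ⟨e.symm.toRingHom.comp (k.codRestrict j.range hk'), ?_⟩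
  ext r
  have h1 : e (e.symm ⟨k r, hk' r⟩) = ⟨k r, hk' r⟩ := e.apply_symm_apply _
  exact congrArg Subtype.val h1

variable {P : Scheme.{u}}

/-- the local descent of an invariant morphism to an affine open -/
theorem exists_local_desc (σ p₂ : P ⟶ X) (φ : X ⟶ Y)
    (hsec : ∀ U : Y.Opens, Function.Injective (φ.app U) ∧ ∀ s : Γ(X, φ ⁻¹ᵁ U),
      (σ.appLE (φ ⁻¹ᵁ U) (σ ⁻¹ᵁ (φ ⁻¹ᵁ U) ⊓ p₂ ⁻¹ᵁ (φ ⁻¹ᵁ U)) inf_le_left s =
        p₂.appLE (φ ⁻¹ᵁ U) (σ ⁻¹ᵁ (φ ⁻¹ᵁ U) ⊓ p₂ ⁻¹ᵁ (φ ⁻¹ᵁ U)) inf_le_right s) →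
        s ∈ Set.range (φ.app U))
    (ψ : X ⟶ Z) (hψ : σ ≫ ψ = p₂ ≫ ψ) (U : Y.Opens) (V : Z.Opens) (hV : IsAffineOpen V)
    (hUV : φ ⁻¹ᵁ U ≤ ψ ⁻¹ᵁ V) :
    ∃ χ : (U : Scheme.{u}) ⟶ Z, (φ ∣_ U) ≫ χ = (φ ⁻¹ᵁ U).ι ≫ ψ := by
  have hk : ∀ s, (ψ.appLE V (φ ⁻¹ᵁ U) hUV) s ∈ Set.range (φ.app U) := by
    intro s
    apply (hsec U).2
    have h1 : ψ.appLE V (φ ⁻¹ᵁ U) hUV ≫
          σ.appLE (φ ⁻¹ᵁ U) (σ ⁻¹ᵁ (φ ⁻¹ᵁ U) ⊓ p₂ ⁻¹ᵁ (φ ⁻¹ᵁ U)) inf_le_left =
        ψ.appLE V (φ ⁻¹ᵁ U) hUV ≫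
          p₂.appLE (φ ⁻¹ᵁ U) (σ ⁻¹ᵁ (φ ⁻¹ᵁ U) ⊓ p₂ ⁻¹ᵁ (φ ⁻¹ᵁ U)) inf_le_right := by
      rw [Scheme.Hom.appLE_comp_appLE, Scheme.Hom.appLE_comp_appLE]
      exact appLE_congr' hψ _ _ _ _
    have h2 := ConcreteCategory.congr_hom h1 s
    rwa [ConcreteCategory.comp_apply, ConcreteCategory.comp_apply] at h2
  obtain ⟨g', hg'⟩ := exists_ringHom_factor (φ.app U).hom (hsec U).1
    (ψ.appLE V (φ ⁻¹ᵁ U) hUV).hom hk
  have hg : CommRingCat.ofHom g' ≫ φ.app U = ψ.appLE V (φ ⁻¹ᵁ U) hUV := by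
    ext s
    exact congrArg (fun r : _ →+* _ => r s) hg'
  refine ⟨U.toSpecΓ ≫ Spec.map (CommRingCat.ofHom g') ≫ hV.fromSpec, ?_⟩
  rw [← Category.assoc, ← Scheme.Opens.toSpecΓ_naturality, Category.assoc,
    ← Category.assoc (Spec.map _), ← Spec.map_comp, hg, ← Category.assoc,
    Scheme.Opens.toSpecΓ_SpecMap_appLE, Category.assoc, hV.toSpecΓ_fromSpec,
    Scheme.Hom.resLE_comp_ι]

/-- gluing the local descents -/
theorem exists_desc (σ p₂ : P ⟶ X) (φ : X ⟶ Y) (hsurj : Function.Surjective φ.base)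
    (hsec : ∀ U : Y.Opens, Function.Injective (φ.app U) ∧ ∀ s : Γ(X, φ ⁻¹ᵁ U),
      (σ.appLE (φ ⁻¹ᵁ U) (σ ⁻¹ᵁ (φ ⁻¹ᵁ U) ⊓ p₂ ⁻¹ᵁ (φ ⁻¹ᵁ U)) inf_le_left s =
        p₂.appLE (φ ⁻¹ᵁ U) (σ ⁻¹ᵁ (φ ⁻¹ᵁ U) ⊓ p₂ ⁻¹ᵁ (φ ⁻¹ᵁ U)) inf_le_right s) →
        s ∈ Set.range (φ.app U))
    (ψ : X ⟶ Z) (hψ : σ ≫ ψ = p₂ ≫ ψ)
    (hloc : ∀ y : Y, ∃ (U : Y.Opens) (V : Z.Opens), y ∈ U ∧ IsAffineOpen V ∧
      φ ⁻¹ᵁ U ≤ ψ ⁻¹ᵁ V) :
    ∃ χ : Y ⟶ Z, φ ≫ χ = ψ := by
  have hinj : ∀ U : Y.Opens, Function.Injective (φ.app U) := fun U => (hsec U).1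
  choose U V hyU hVaff hUV using hloc
  have hχ : ∀ y : Y, ∃ χ : (U y : Scheme.{u}) ⟶ Z, (φ ∣_ U y) ≫ χ = (φ ⁻¹ᵁ U y).ι ≫ ψ :=
    fun y => exists_local_desc σ p₂ φ hsec ψ hψ (U y) (V y) (hVaff y) (hUV y)
  choose χ hχ using hχ
  have hcov : IsOpenCover U :=
    eq_top_iff.mpr fun y _ => Opens.mem_iSup.mpr ⟨y, hyU y⟩
  have hres : ∀ (y : Y) (W : Y.Opens) (hW : W ≤ U y),
      (φ ∣_ W) ≫ Y.homOfLE hW ≫ χ y = (φ ⁻¹ᵁ W).ι ≫ ψ := by
    intro y W hW
    have hle : φ ⁻¹ᵁ W ≤ φ ⁻¹ᵁ U y := fun x hx => hW hx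
    have h1 : (φ ∣_ W) ≫ Y.homOfLE hW = X.homOfLE hle ≫ (φ ∣_ U y) := by
      rw [← cancel_mono (U y).ι, Category.assoc, Category.assoc, Scheme.homOfLE_ι,
        morphismRestrict_ι, morphismRestrict_ι, ← Category.assoc, Scheme.homOfLE_ι]
    rw [← Category.assoc, h1, Category.assoc, hχ y, ← Category.assoc, Scheme.homOfLE_ι]
  have hcompat : ∀ x y : Y, pullback.fst (U x).ι (U y).ι ≫ χ x =
      pullback.snd (U x).ι (U y).ι ≫ χ y := by
    intro x y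
    have hq2 : pullback.fst (U x).ι (U y).ι ≫ (U x).ι =
        pullback.snd (U x).ι (U y).ι ≫ (U y).ι := pullback.condition
    have hWx : (pullback.fst (U x).ι (U y).ι ≫ (U x).ι).opensRange ≤ U x := by
      rintro _ ⟨p, rfl⟩
      exact ((pullback.fst (U x).ι (U y).ι).base p).2
    have hWy : (pullback.fst (U x).ι (U y).ι ≫ (U x).ι).opensRange ≤ U y := by
      rintro _ ⟨p, rfl⟩
      rw [hq2]
      exact ((pullback.snd (U x).ι (U y).ι).base p).2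
    rw [← cancel_epi (pullback.fst (U x).ι (U y).ι ≫ (U x).ι).isoOpensRange.inv]
    have ha : (pullback.fst (U x).ι (U y).ι ≫ (U x).ι).isoOpensRange.inv ≫
        pullback.fst (U x).ι (U y).ι = Y.homOfLE hWx := by
      rw [← cancel_mono (U x).ι, Category.assoc, Scheme.homOfLE_ι]
      exact (pullback.fst (U x).ι (U y).ι ≫ (U x).ι).isoOpensRange_inv_comp
    have hb : (pullback.fst (U x).ι (U y).ι ≫ (U x).ι).isoOpensRange.inv ≫
        pullback.snd (U x).ι (U y).ι = Y.homOfLE hWy := by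
      rw [← cancel_mono (U y).ι, Category.assoc, Scheme.homOfLE_ι, ← hq2]
      exact (pullback.fst (U x).ι (U y).ι ≫ (U x).ι).isoOpensRange_inv_comp
    rw [← Category.assoc, ← Category.assoc, ha, hb]
    apply restrict_cancel φ hsurj hinj
    rw [hres x _ hWx, hres y _ hWy]
  refine ⟨(Y.openCoverOfIsOpenCover U hcov).glueMorphisms χ hcompat, ?_⟩
  apply Scheme.hom_ext_of_forall
  intro x
  refine ⟨φ ⁻¹ᵁ U (φ.base x), hyU (φ.base x), ?_⟩
  have hglue : (U (φ.base x)).ι ≫ (Y.openCoverOfIsOpenCover U hcov).glueMorphisms χ hcompat =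
      χ (φ.base x) :=
    (Y.openCoverOfIsOpenCover U hcov).ι_glueMorphisms χ hcompat (φ.base x)
  rw [← Category.assoc, ← morphismRestrict_ι, Category.assoc, hglue, hχ]

end SchemeLevel

section OverLevel

variable {S : Scheme.{u}} {G X Y : Over S} [GrpObj G]

/-- the categorical quotient property from local data -/
theorem isCatQuot_of_local (a : AlgGrp.Action G X) (φ : X ⟶ Y) (hi : GIT.IsInvariant a φ)
    (hsurj : Function.Surjective φ.left.base)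
    (hsec : ∀ U : Y.left.Opens, Function.Injective (φ.left.app U) ∧
      Set.range (φ.left.app U) = {f | GIT.IsInvSection a φ U f})
    (hloc : ∀ (Z : Over S) (ψ : X ⟶ Z), GIT.IsInvariant a ψ → ∀ y : Y.left,
      ∃ (U : Y.left.Opens) (V : Z.left.Opens), y ∈ U ∧ IsAffineOpen V ∧
        φ.left ⁻¹ᵁ U ≤ ψ.left ⁻¹ᵁ V) :
    GIT.IsCatQuot a φ := by
  refine ⟨hi, fun Z ψ hψ => ?_⟩
  have hinj : ∀ U : Y.left.Opens, Function.Injective (φ.left.app U) := fun U => (hsec U).1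
  have hsec' : ∀ U : Y.left.Opens, Function.Injective (φ.left.app U) ∧
      ∀ s : Γ(X.left, φ.left ⁻¹ᵁ U),
      (a.act.left.appLE (φ.left ⁻¹ᵁ U) (a.act.left ⁻¹ᵁ (φ.left ⁻¹ᵁ U) ⊓
          (snd G X).left ⁻¹ᵁ (φ.left ⁻¹ᵁ U)) inf_le_left s =
        (snd G X).left.appLE (φ.left ⁻¹ᵁ U) (a.act.left ⁻¹ᵁ (φ.left ⁻¹ᵁ U) ⊓
          (snd G X).left ⁻¹ᵁ (φ.left ⁻¹ᵁ U)) inf_le_right s) →
        s ∈ Set.range (φ.left.app U) := by
    intro U
    refine ⟨(hsec U).1, fun s hs => ?_⟩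
    rw [(hsec U).2]
    exact hs
  obtain ⟨χ₀, hχ₀⟩ := exists_desc a.act.left (snd G X).left φ.left hsurj hsec' ψ.left hψ.left
    (hloc Z ψ hψ)
  have hw : χ₀ ≫ Z.hom = Y.hom := by
    apply comp_cancel φ.left hsurj hinj
    rw [← Category.assoc, hχ₀, Over.w, Over.w]
  refine ⟨Over.homMk χ₀ hw, ?_, ?_⟩
  · ext
    exact hχ₀
  · intro χ' hχ'
    ext
    apply comp_cancel φ.left hsurj hinj
    change φ.left ≫ χ'.left = φ.left ≫ χ₀
    rw [hχ₀, ← Over.comp_left, hχ']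

/-- an invariant morphism is constant on the fibres of a geometric quotient -/
theorem isCatQuot_of_isGeomQuot (a : AlgGrp.Action G X) (φ : X ⟶ Y) (h : GIT.IsGeomQuot a φ) :
    GIT.IsCatQuot a φ := by
  have hq : Topology.IsQuotientMap φ.left.base := MorphismProperty.universally_le _ _ h.subm
  refine isCatQuot_of_local a φ h.inv h.surj h.sections (fun Z ψ hψ y => ?_)
  have hfib : ∀ x₁ x₂ : X.left, φ.left.base x₁ = φ.left.base x₂ →
      ψ.left.base x₁ = ψ.left.base x₂ := by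
    intro x₁ x₂ hx
    obtain ⟨t, ht1, ht2⟩ := Scheme.Pullback.exists_preimage_pullback x₁ x₂ hx
    obtain ⟨w, rfl⟩ := h.orbit t
    have e1 : GIT.PsiY a φ h.inv ≫ pullback.fst φ.left φ.left = a.act.left :=
      pullback.lift_fst _ _ _
    have e2 : GIT.PsiY a φ h.inv ≫ pullback.snd φ.left φ.left = (snd G X).left :=
      pullback.lift_snd _ _ _
    have h1 : a.act.left.base w = x₁ := by
      rw [← ht1, ← comp_base_apply]
      exact eq_base_of_eq e1.symm w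
    have h2 : (snd G X).left.base w = x₂ := by
      rw [← ht2, ← comp_base_apply]
      exact eq_base_of_eq e2.symm w
    rw [← h1, ← h2, ← comp_base_apply, ← comp_base_apply]
    exact eq_base_of_eq hψ.left w
  obtain ⟨x, rfl⟩ := h.surj y
  obtain ⟨V, hV, hxV, -⟩ := Opens.isBasis_iff_nbhd.mp Z.left.isBasis_affineOpens
    (Opens.mem_top (ψ.left.base x))
  have hVaff : IsAffineOpen V := hV
  have hsat : φ.left.base ⁻¹' (φ.left.base '' ((ψ.left ⁻¹ᵁ V : X.left.Opens) : Set X.left)) =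
      ((ψ.left ⁻¹ᵁ V : X.left.Opens) : Set X.left) := by
    ext x₁
    constructor
    · rintro ⟨x₂, hx₂, hx⟩
      change ψ.left.base x₁ ∈ V
      rw [hfib x₁ x₂ hx.symm]
      exact hx₂
    · intro hx₁
      exact ⟨x₁, hx₁, rfl⟩
  have hopen : IsOpen (φ.left.base '' ((ψ.left ⁻¹ᵁ V : X.left.Opens) : Set X.left)) := by
    rw [← hq.isOpen_preimage, hsat]
    exact (ψ.left ⁻¹ᵁ V).isOpen
  refine ⟨⟨_, hopen⟩, V, ⟨x, hxV, rfl⟩, hVaff, ?_⟩
  intro x₁ hx₁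
  have : x₁ ∈ φ.left.base ⁻¹' (φ.left.base '' ((ψ.left ⁻¹ᵁ V : X.left.Opens) : Set X.left)) := hx₁
  rw [hsat] at this
  exact this

theorem main11427 (a : AlgGrp.Action G X) (φ : X ⟶ Y) (h : GIT.IsGeomQuot a φ) :
    GIT.IsCatQuot a φ ∧ (GIT.IsUnivGeomQuot a φ → GIT.IsUnivCatQuot a φ) := by
  refine ⟨isCatQuot_of_isGeomQuot a φ h, fun hU => ⟨isCatQuot_of_isGeomQuot a φ h, ?_⟩⟩
  intro X' Y' pr φ' g hg hpb a' hact hinv
  exact isCatQuot_of_isGeomQuot a' φ' (hU.2 pr φ' g hg hpb a' hact hinv)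

theorem main11445 (a : AlgGrp.Action G X) (φ : X ⟶ Y) (hi : GIT.IsInvariant a φ)
    (hii : ∀ U : Y.left.Opens,
      Function.Injective (φ.left.app U) ∧ Set.range (φ.left.app U) = {f | GIT.IsInvSection a φ U f})
    (hiii : ∀ W : Set X.left, IsClosed W → a.act.left.base '' ((snd G X).left.base ⁻¹' W) ⊆ W →
      IsClosed (φ.left.base '' W))
    (hiii' : ∀ (J : Type u) (W : J → Set X.left),
      (∀ i, IsClosed (W i) ∧ a.act.left.base '' ((snd G X).left.base ⁻¹' W i) ⊆ W i) →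
      φ.left.base '' (⋂ i, W i) = ⋂ i, φ.left.base '' W i) :
    GIT.IsCatQuot a φ ∧ Topology.IsQuotientMap φ.left.base := by
  -- surjectivity
  have hsurj : Function.Surjective φ.left.base := by
    have h0 := hiii' PEmpty (fun i => i.elim) (fun i => i.elim)
    rw [Set.iInter_of_empty, Set.iInter_of_empty, Set.image_univ] at h0
    exact Set.range_eq_univ.mp h0
  -- invariance of preimages
  have hinvpre : ∀ (Z : Scheme.{u}) (ψ : X.left ⟶ Z),
      a.act.left ≫ ψ = (snd G X).left ≫ ψ → ∀ s : Set Z,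
      a.act.left.base '' ((snd G X).left.base ⁻¹' (ψ.base ⁻¹' s)) ⊆ ψ.base ⁻¹' s := by
    rintro Z ψ hψ s _ ⟨w, hw, rfl⟩
    change ψ.base (a.act.left.base w) ∈ s
    rw [← comp_base_apply, eq_base_of_eq hψ w, comp_base_apply]
    exact hw
  refine ⟨?_, ?_⟩
  · refine isCatQuot_of_local a φ hi hsurj hii (fun Z ψ hψ y => ?_)
    let W : Z.left.affineOpens → Set X.left := fun V => (ψ.left.base ⁻¹' ((V.1 : Set Z.left)ᶜ))
    have hW : ∀ V, IsClosed (W V) ∧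
        a.act.left.base '' ((snd G X).left.base ⁻¹' W V) ⊆ W V := by
      intro V
      refine ⟨?_, hinvpre Z.left ψ.left hψ.left _⟩
      exact (V.1.isOpen.isClosed_compl).preimage ψ.left.base.hom.continuous
    have hempty : (⋂ V, W V) = ∅ := by
      ext x
      simp only [Set.mem_iInter, Set.mem_empty_iff_false, iff_false, not_forall]
      obtain ⟨V, hV, hxV, -⟩ := Opens.isBasis_iff_nbhd.mp Z.left.isBasis_affineOpens
        (Opens.mem_top (ψ.left.base x))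
      exact ⟨⟨V, hV⟩, fun hx => hx hxV⟩
    have h1 := hiii' _ W hW
    rw [hempty, Set.image_empty] at h1
    have hy : y ∉ ⋂ V, φ.left.base '' W V := by
      rw [← h1]
      exact Set.notMem_empty y
    rw [Set.mem_iInter, not_forall] at hy
    obtain ⟨V, hyV⟩ := hy
    have hcl : IsClosed (φ.left.base '' W V) := hiii (W V) (hW V).1 (hW V).2
    refine ⟨⟨(φ.left.base '' W V)ᶜ, hcl.isOpen_compl⟩, V.1, hyV, V.2, ?_⟩
    intro x hx
    by_contra hxV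
    exact hx ⟨x, hxV, rfl⟩
  · rw [Topology.isQuotientMap_iff_isClosed]
    refine ⟨hsurj, fun s => ⟨fun hs => hs.preimage φ.left.base.hom.continuous, fun hs => ?_⟩⟩
    have h1 := hiii _ hs (hinvpre Y.left φ.left hi.left s)
    rwa [Set.image_preimage_eq s hsurj] at h1

end OverLevel

end Groth.Agent.Helper17.GITQ1
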