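import Mathlib
import Groth.Prelude.Def_W4bk4git07Quot
import Groth.Prelude.Def_AlgGrp
import Groth.Agent.Lib.Helper17.AE2
import Groth.Agent.Lib.Helper17.AF3
import Groth.Agent.Lib.Helper17.GITQ1

set_option autoImplicit false
universe u
open CategoryTheory Limits MonoidalCategory CartesianMonoidalCategory MonObj GrpObj AlgebraicGeometry Topology

namespace Groth.Agent.Helper17.AF5

section Basic
variable {A B C : Scheme.{u}}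

theorem appLE_comp_apply (f : A ⟶ B) (g : B ⟶ C) (U : C.Opens) (V : B.Opens) (W : A.Opens)
    (e₁ : V ≤ g ⁻¹ᵁ U) (e₂ : W ≤ f ⁻¹ᵁ V) (e₃ : W ≤ (f ≫ g) ⁻¹ᵁ U) (s : Γ(C, U)) :
    (f ≫ g).appLE U W e₃ s = f.appLE V W e₂ (g.appLE U V e₁ s) := by
  rw [← Scheme.Hom.appLE_comp_appLE f g U V W e₁ e₂]
  rfl

theorem appLE_congr_apply {f g : A ⟶ B} (h : f = g) (U : B.Opens) (W : A.Opens)
    (e : W ≤ f ⁻¹ᵁ U) (e' : W ≤ g ⁻¹ᵁ U) (s : Γ(B, U)) :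
    f.appLE U W e s = g.appLE U W e' s := by
  subst h; rfl

theorem app_apply_eq_appLE (f : A ⟶ B) (U : B.Opens) (s : Γ(B, U)) :
    f.app U s = f.appLE U (f ⁻¹ᵁ U) le_rfl s := by
  rw [Scheme.Hom.appLE_eq_app]

theorem appTop_apply_eq_appLE (g : A ⟶ B) (e : (⊤ : A.Opens) ≤ g ⁻¹ᵁ ⊤) (s : Γ(B, ⊤)) :
    g.appTop s = g.appLE ⊤ ⊤ e s :=
  app_apply_eq_appLE g ⊤ s

theorem appLE_injective_of_eq (f : A ⟶ B) (U : B.Opens) (W : A.Opens) (e : W ≤ f ⁻¹ᵁ U)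
    (he : W = f ⁻¹ᵁ U) (hinj : Function.Injective (f.app U)) :
    Function.Injective (f.appLE U W e) := by
  subst he
  intro s t hst
  apply hinj
  rw [app_apply_eq_appLE, app_apply_eq_appLE]
  exact hst

end Basic

section FD
open AffineSpace

local notation3 "ℤ[" n "]" => CommRingCat.of (MvPolynomial n (ULift ℤ))

theorem exists_app_eq {X Y : Scheme.{u}} (f : X ⟶ Y) [Flat f] [Surjective f] [QuasiCompact f]
    (U : Y.Opens) (s : Γ(X, f ⁻¹ᵁ U)) (W : (pullback f f).Opens)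
    (hW : (pullback.fst f f ≫ f) ⁻¹ᵁ U ≤ W)
    (e₁ : W ≤ (pullback.fst f f) ⁻¹ᵁ (f ⁻¹ᵁ U)) (e₂ : W ≤ (pullback.snd f f) ⁻¹ᵁ (f ⁻¹ᵁ U))
    (hs : (pullback.fst f f).appLE (f ⁻¹ᵁ U) W e₁ s = (pullback.snd f f).appLE (f ⁻¹ᵁ U) W e₂ s) :
    ∃ t : Γ(Y, U), f.app U t = s := by
  haveI : Flat (f ∣_ U) := inferInstance
  haveI : Surjective (f ∣_ U) := IsZariskiLocalAtTarget.restrict (P := @Surjective) ‹_› U
  haveI : QuasiCompact (f ∣_ U) := inferInstance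
  obtain ⟨s', hs'⟩ : ∃ s' : Γ((f ⁻¹ᵁ U).toScheme, ⊤),
      s' = (f ⁻¹ᵁ U).ι.appLE (f ⁻¹ᵁ U) ⊤ (f ⁻¹ᵁ U).ι_preimage_self.ge s := ⟨_, rfl⟩
  obtain ⟨e, he⟩ : ∃ e : (f ⁻¹ᵁ U).toScheme ⟶ Spec ℤ[PUnit.{u+1}],
      e = (toSpecMvPolyIntEquiv PUnit.{u+1}).symm (fun _ => s') := ⟨_, rfl⟩
  have hdesc : ∀ {Z : Scheme.{u}} (g₁ g₂ : Z ⟶ (f ⁻¹ᵁ U).toScheme),
      g₁ ≫ (f ∣_ U) = g₂ ≫ (f ∣_ U) → g₁ ≫ e = g₂ ≫ e := by
    intro Z g₁ g₂ hg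
    apply (toSpecMvPolyIntEquiv PUnit.{u+1}).injective
    funext i
    rw [toSpecMvPolyIntEquiv_comp, toSpecMvPolyIntEquiv_comp, he, Equiv.apply_symm_apply]
    have hg' : (g₁ ≫ (f ⁻¹ᵁ U).ι) ≫ f = (g₂ ≫ (f ⁻¹ᵁ U).ι) ≫ f := by
      rw [Category.assoc, Category.assoc, ← morphismRestrict_ι, ← Category.assoc, hg,
        Category.assoc]
    obtain ⟨l, hl1, hl2⟩ : ∃ l : Z ⟶ pullback f f,
        l ≫ pullback.fst f f = g₁ ≫ (f ⁻¹ᵁ U).ι ∧ l ≫ pullback.snd f f = g₂ ≫ (f ⁻¹ᵁ U).ι :=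
      ⟨pullback.lift _ _ hg', pullback.lift_fst _ _ _, pullback.lift_snd _ _ _⟩
    have htop : l ⁻¹ᵁ ((pullback.fst f f ≫ f) ⁻¹ᵁ U) = ⊤ := by
      rw [← Scheme.Hom.comp_preimage, ← Category.assoc, hl1, Category.assoc,
        Scheme.Hom.comp_preimage, Scheme.Hom.comp_preimage, Scheme.Opens.ι_preimage_self]
      rfl
    have hlW : (⊤ : Z.Opens) ≤ l ⁻¹ᵁ W := by
      rw [← htop]
      exact ((TopologicalSpace.Opens.map l.base).map (homOfLE hW)).le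
    have k1 : g₁.appTop s' = l.appLE W ⊤ hlW ((pullback.fst f f).appLE (f ⁻¹ᵁ U) W e₁ s) := by
      rw [hs', appTop_apply_eq_appLE g₁ le_top,
        ← appLE_comp_apply g₁ (f ⁻¹ᵁ U).ι (f ⁻¹ᵁ U) ⊤ ⊤ _ le_top
          (by rw [Scheme.Hom.comp_preimage, Scheme.Opens.ι_preimage_self]; exact le_top),
        ← appLE_comp_apply l (pullback.fst f f) (f ⁻¹ᵁ U) W ⊤ e₁ hlW
          (by rw [hl1, Scheme.Hom.comp_preimage, Scheme.Opens.ι_preimage_self]; exact le_top)]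
      exact appLE_congr_apply hl1.symm _ _ _ _ _
    have k2 : g₂.appTop s' = l.appLE W ⊤ hlW ((pullback.snd f f).appLE (f ⁻¹ᵁ U) W e₂ s) := by
      rw [hs', appTop_apply_eq_appLE g₂ le_top,
        ← appLE_comp_apply g₂ (f ⁻¹ᵁ U).ι (f ⁻¹ᵁ U) ⊤ ⊤ _ le_top
          (by rw [Scheme.Hom.comp_preimage, Scheme.Opens.ι_preimage_self]; exact le_top),
        ← appLE_comp_apply l (pullback.snd f f) (f ⁻¹ᵁ U) W ⊤ e₂ hlW
          (by rw [hl2, Scheme.Hom.comp_preimage, Scheme.Opens.ι_preimage_self]; exact le_top)]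
      exact appLE_congr_apply hl2.symm _ _ _ _ _
    rw [k1, k2, hs]
  obtain ⟨tb, htb⟩ : ∃ tb : U.toScheme ⟶ Spec ℤ[PUnit.{u+1}], (f ∣_ U) ≫ tb = e :=
    ⟨EffectiveEpi.desc (f ∣_ U) e (fun g₁ g₂ hg => hdesc g₁ g₂ hg), EffectiveEpi.fac _ _ _⟩
  obtain ⟨t', ht'⟩ : ∃ t' : Γ(U.toScheme, ⊤), t' = toSpecMvPolyIntEquiv PUnit.{u+1} tb PUnit.unit :=
    ⟨_, rfl⟩
  have ht's : (f ∣_ U).appTop t' = s' := by
    rw [ht', ← toSpecMvPolyIntEquiv_comp, htb, he, Equiv.apply_symm_apply]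
  -- transport back to `Γ(Y, U)`
  obtain ⟨t, ht⟩ : ∃ t : Γ(Y, U), U.ι.appLE U ⊤ U.ι_preimage_self.ge t = t' := by
    haveI : IsIso (U.ι.appLE U ⊤ U.ι_preimage_self.ge) := inferInstance
    exact ⟨inv (U.ι.appLE U ⊤ U.ι_preimage_self.ge) t', by
      rw [← CommRingCat.comp_apply, IsIso.inv_hom_id]; rfl⟩
  refine ⟨t, ?_⟩
  have hinj : Function.Injective ((f ⁻¹ᵁ U).ι.appLE (f ⁻¹ᵁ U) ⊤ (f ⁻¹ᵁ U).ι_preimage_self.ge) := by
    haveI : IsIso ((f ⁻¹ᵁ U).ι.appLE (f ⁻¹ᵁ U) ⊤ (f ⁻¹ᵁ U).ι_preimage_self.ge) := inferInstance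
    exact ((ConcreteCategory.isIso_iff_bijective _).mp inferInstance).1
  apply hinj
  rw [← hs', ← ht's, ← ht, app_apply_eq_appLE,
    ← appLE_comp_apply (f ⁻¹ᵁ U).ι f U (f ⁻¹ᵁ U) ⊤ le_rfl _
      (by rw [Scheme.Hom.comp_preimage, Scheme.Opens.ι_preimage_self]),
    appTop_apply_eq_appLE (f ∣_ U) le_top,
    ← appLE_comp_apply (f ∣_ U) U.ι U ⊤ ⊤ _ le_top
      (by rw [Scheme.Hom.comp_preimage, Scheme.Opens.ι_preimage_self]; exact le_top)]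
  exact appLE_congr_apply (morphismRestrict_ι f U).symm _ _ _ _ _

end FD

section Sections
variable {A B C : Scheme.{u}}

theorem pre_mono (f : A ⟶ B) {U V : B.Opens} (h : U ≤ V) : f ⁻¹ᵁ U ≤ f ⁻¹ᵁ V :=
  fun _ hx => h hx

theorem preimage_comp_eq {B' : Scheme.{u}} {f : A ⟶ B} {g : B ⟶ C} {f' : A ⟶ B'} {g' : B' ⟶ C}
    (h : f ≫ g = f' ≫ g') (U : C.Opens) : f ⁻¹ᵁ (g ⁻¹ᵁ U) = f' ⁻¹ᵁ (g' ⁻¹ᵁ U) := by
  rw [← Scheme.Hom.comp_preimage, ← Scheme.Hom.comp_preimage, h]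

theorem appLE_appLE_apply (f : A ⟶ B) (g : B ⟶ C) (U : C.Opens) (V : B.Opens) (W : A.Opens)
    (e₁ : V ≤ g ⁻¹ᵁ U) (e₂ : W ≤ f ⁻¹ᵁ V) (s : Γ(C, U)) :
    f.appLE V W e₂ (g.appLE U V e₁ s) = (f ≫ g).appLE U W (e₂.trans (pre_mono f e₁)) s :=
  (appLE_comp_apply f g U V W e₁ e₂ _ s).symm

/-- invariant section predicate at scheme level -/
def InvSec {R X Y : Scheme.{u}} (σ p₂ : R ⟶ X) (φ : X ⟶ Y) (U : Y.Opens)
    (f : Γ(X, φ ⁻¹ᵁ U)) : Prop :=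
  σ.appLE (φ ⁻¹ᵁ U) (σ ⁻¹ᵁ (φ ⁻¹ᵁ U) ⊓ p₂ ⁻¹ᵁ (φ ⁻¹ᵁ U)) inf_le_left f =
    p₂.appLE (φ ⁻¹ᵁ U) (σ ⁻¹ᵁ (φ ⁻¹ᵁ U) ⊓ p₂ ⁻¹ᵁ (φ ⁻¹ᵁ U)) inf_le_right f

theorem isSchemeTheoreticallyDominant_of_injective {X Y : Scheme.{u}} (f : X ⟶ Y)
    (h : ∀ U : Y.Opens, Function.Injective (f.app U)) : IsSchemeTheoreticallyDominant f := by
  rw [isSchemeTheoreticallyDominant_iff]
  apply Scheme.IdealSheafData.ext
  funext U
  have h1 := Scheme.Hom.ideal_ker_le f U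
  have h2 : RingHom.ker (f.app U.1).hom = ⊥ := (RingHom.injective_iff_ker_eq_bot _).mp (h U.1)
  rw [h2] at h1
  rw [Scheme.IdealSheafData.ideal_bot, Pi.bot_apply]
  exact le_bot_iff.mp h1

theorem sections_descent {X Y X' Y' R R' : Scheme.{u}}
    (φ : X ⟶ Y) (α : Y' ⟶ Y) (pr : X' ⟶ X) (φ' : X' ⟶ Y') (H : IsPullback pr φ' φ α)
    [Flat α] [Surjective α] [QuasiCompact α] [QuasiCompact φ']
    (σ p₂ : R ⟶ X) (σ' p₂' : R' ⟶ X') (ρ : R' ⟶ R)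
    (hσ : σ' ≫ pr = ρ ≫ σ) (hp : p₂' ≫ pr = ρ ≫ p₂)
    (hinv : σ ≫ φ = p₂ ≫ φ)
    (hyp : ∀ U' : Y'.Opens, Function.Injective (φ'.app U') ∧
      Set.range (φ'.app U') = {f | InvSec σ' p₂' φ' U' f})
    (U : Y.Opens) :
    Function.Injective (φ.app U) ∧ Set.range (φ.app U) = {f | InvSec σ p₂ φ U f} := by
  haveI : Flat pr := MorphismProperty.of_isPullback (P := @Flat) H.flip ‹_›
  haveI : Surjective pr := MorphismProperty.of_isPullback (P := @Surjective) H.flip ‹_›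
  have hV' : φ' ⁻¹ᵁ (α ⁻¹ᵁ U) = pr ⁻¹ᵁ (φ ⁻¹ᵁ U) := by
    rw [← Scheme.Hom.comp_preimage, ← Scheme.Hom.comp_preimage, H.w]
  have hVle : φ' ⁻¹ᵁ (α ⁻¹ᵁ U) ≤ pr ⁻¹ᵁ (φ ⁻¹ᵁ U) := hV'.le
  have hprinj : Function.Injective (pr.appLE (φ ⁻¹ᵁ U) (φ' ⁻¹ᵁ (α ⁻¹ᵁ U)) hVle) :=
    appLE_injective_of_eq pr _ _ hVle hV' (AE2.app_injective_of_flat_surjective pr (φ ⁻¹ᵁ U))
  have hF2 : ∀ g : Γ(Y, U), pr.appLE (φ ⁻¹ᵁ U) (φ' ⁻¹ᵁ (α ⁻¹ᵁ U)) hVle (φ.app U g) =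
      φ'.app (α ⁻¹ᵁ U) (α.app U g) := by
    intro g
    rw [app_apply_eq_appLE φ U g, app_apply_eq_appLE φ' (α ⁻¹ᵁ U), app_apply_eq_appLE α U g,
      appLE_appLE_apply, appLE_appLE_apply]
    exact appLE_congr_apply H.w _ _ _ _ _
  have hαinj := AE2.app_injective_of_flat_surjective α U
  refine ⟨?_, ?_⟩
  · intro g₁ g₂ hg
    have e : φ'.app (α ⁻¹ᵁ U) (α.app U g₁) = φ'.app (α ⁻¹ᵁ U) (α.app U g₂) := by
      rw [← hF2, ← hF2, hg]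
    exact hαinj ((hyp _).1 e)
  · ext f
    simp only [Set.mem_range, Set.mem_ofPred_eq]
    constructor
    · rintro ⟨g, rfl⟩
      show σ.appLE (φ ⁻¹ᵁ U) (σ ⁻¹ᵁ (φ ⁻¹ᵁ U) ⊓ p₂ ⁻¹ᵁ (φ ⁻¹ᵁ U)) inf_le_left (φ.app U g) =
        p₂.appLE (φ ⁻¹ᵁ U) (σ ⁻¹ᵁ (φ ⁻¹ᵁ U) ⊓ p₂ ⁻¹ᵁ (φ ⁻¹ᵁ U)) inf_le_right (φ.app U g)
      rw [app_apply_eq_appLE φ U g, appLE_appLE_apply, appLE_appLE_apply]
      exact appLE_congr_apply hinv _ _ _ _ _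
    · intro hf
      obtain ⟨f', hf'⟩ : ∃ f' : Γ(X', φ' ⁻¹ᵁ (α ⁻¹ᵁ U)),
          f' = pr.appLE (φ ⁻¹ᵁ U) (φ' ⁻¹ᵁ (α ⁻¹ᵁ U)) hVle f := ⟨_, rfl⟩
      have hinvf' : InvSec σ' p₂' φ' (α ⁻¹ᵁ U) f' := by
        have hW' : σ' ⁻¹ᵁ (φ' ⁻¹ᵁ (α ⁻¹ᵁ U)) ⊓ p₂' ⁻¹ᵁ (φ' ⁻¹ᵁ (α ⁻¹ᵁ U)) ≤
            ρ ⁻¹ᵁ (σ ⁻¹ᵁ (φ ⁻¹ᵁ U) ⊓ p₂ ⁻¹ᵁ (φ ⁻¹ᵁ U)) := by
          rw [hV', preimage_comp_eq hσ (φ ⁻¹ᵁ U), preimage_comp_eq hp (φ ⁻¹ᵁ U)]
          exact fun x hx => hx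
        have L : σ'.appLE (φ' ⁻¹ᵁ (α ⁻¹ᵁ U))
            (σ' ⁻¹ᵁ (φ' ⁻¹ᵁ (α ⁻¹ᵁ U)) ⊓ p₂' ⁻¹ᵁ (φ' ⁻¹ᵁ (α ⁻¹ᵁ U))) inf_le_left f' =
            ρ.appLE (σ ⁻¹ᵁ (φ ⁻¹ᵁ U) ⊓ p₂ ⁻¹ᵁ (φ ⁻¹ᵁ U)) _ hW'
              (σ.appLE (φ ⁻¹ᵁ U) (σ ⁻¹ᵁ (φ ⁻¹ᵁ U) ⊓ p₂ ⁻¹ᵁ (φ ⁻¹ᵁ U)) inf_le_left f) := by
          rw [hf', appLE_appLE_apply, appLE_appLE_apply]
          exact appLE_congr_apply hσ _ _ _ _ _
        have Rr : p₂'.appLE (φ' ⁻¹ᵁ (α ⁻¹ᵁ U))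
            (σ' ⁻¹ᵁ (φ' ⁻¹ᵁ (α ⁻¹ᵁ U)) ⊓ p₂' ⁻¹ᵁ (φ' ⁻¹ᵁ (α ⁻¹ᵁ U))) inf_le_right f' =
            ρ.appLE (σ ⁻¹ᵁ (φ ⁻¹ᵁ U) ⊓ p₂ ⁻¹ᵁ (φ ⁻¹ᵁ U)) _ hW'
              (p₂.appLE (φ ⁻¹ᵁ U) (σ ⁻¹ᵁ (φ ⁻¹ᵁ U) ⊓ p₂ ⁻¹ᵁ (φ ⁻¹ᵁ U)) inf_le_right f) := by
          rw [hf', appLE_appLE_apply, appLE_appLE_apply]
          exact appLE_congr_apply hp _ _ _ _ _
        show σ'.appLE (φ' ⁻¹ᵁ (α ⁻¹ᵁ U))
            (σ' ⁻¹ᵁ (φ' ⁻¹ᵁ (α ⁻¹ᵁ U)) ⊓ p₂' ⁻¹ᵁ (φ' ⁻¹ᵁ (α ⁻¹ᵁ U))) inf_le_left f' =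
          p₂'.appLE (φ' ⁻¹ᵁ (α ⁻¹ᵁ U))
            (σ' ⁻¹ᵁ (φ' ⁻¹ᵁ (α ⁻¹ᵁ U)) ⊓ p₂' ⁻¹ᵁ (φ' ⁻¹ᵁ (α ⁻¹ᵁ U))) inf_le_right f'
        rw [L, Rr]
        exact congrArg _ hf
      obtain ⟨g', hg'⟩ : ∃ g' : Γ(Y', α ⁻¹ᵁ U), φ'.app (α ⁻¹ᵁ U) g' = f' := by
        have hm : f' ∈ {f | InvSec σ' p₂' φ' (α ⁻¹ᵁ U) f} := hinvf'
        rw [← (hyp (α ⁻¹ᵁ U)).2] at hm
        exact hm
      have e₁ : (pullback.fst α α ≫ α) ⁻¹ᵁ U ≤ (pullback.fst α α) ⁻¹ᵁ (α ⁻¹ᵁ U) := by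
        rw [Scheme.Hom.comp_preimage]
      have e₂ : (pullback.fst α α ≫ α) ⁻¹ᵁ U ≤ (pullback.snd α α) ⁻¹ᵁ (α ⁻¹ᵁ U) := by
        rw [pullback.condition, Scheme.Hom.comp_preimage]
      have hs : (pullback.fst α α).appLE (α ⁻¹ᵁ U) ((pullback.fst α α ≫ α) ⁻¹ᵁ U) e₁ g' =
          (pullback.snd α α).appLE (α ⁻¹ᵁ U) ((pullback.fst α α ≫ α) ⁻¹ᵁ U) e₂ g' := by
        haveI : IsSchemeTheoreticallyDominant φ' :=
          isSchemeTheoreticallyDominant_of_injective φ' (fun U' => (hyp U').1)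
        haveI : IsSchemeTheoreticallyDominant (pullback.snd φ' (pullback.fst α α)) := inferInstance
        haveI : QuasiCompact (pullback.snd φ' (pullback.fst α α)) := inferInstance
        apply (pullback.snd φ' (pullback.fst α α)).app_injective ((pullback.fst α α ≫ α) ⁻¹ᵁ U)
        obtain ⟨q₂, hq2a, hq2b⟩ : ∃ q₂ : pullback φ' (pullback.fst α α) ⟶ X',
            q₂ ≫ pr = pullback.fst φ' (pullback.fst α α) ≫ pr ∧
            q₂ ≫ φ' = pullback.snd φ' (pullback.fst α α) ≫ pullback.snd α α :=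
          ⟨H.lift (pullback.fst φ' (pullback.fst α α) ≫ pr)
            (pullback.snd φ' (pullback.fst α α) ≫ pullback.snd α α)
            (by rw [Category.assoc, H.w, pullback.condition_assoc, Category.assoc,
              pullback.condition]),
            H.lift_fst _ _ _, H.lift_snd _ _ _⟩
        -- the open `W₃ = φ''⁻¹ W`
        have hW3a : (pullback.snd φ' (pullback.fst α α)) ⁻¹ᵁ ((pullback.fst α α ≫ α) ⁻¹ᵁ U) ≤
            (pullback.fst φ' (pullback.fst α α)) ⁻¹ᵁ (φ' ⁻¹ᵁ (α ⁻¹ᵁ U)) := by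
          rw [Scheme.Hom.comp_preimage,
            preimage_comp_eq (pullback.condition (f := φ') (g := pullback.fst α α)).symm (α ⁻¹ᵁ U)]
        have hW3b : (pullback.snd φ' (pullback.fst α α)) ⁻¹ᵁ ((pullback.fst α α ≫ α) ⁻¹ᵁ U) ≤
            q₂ ⁻¹ᵁ (φ' ⁻¹ᵁ (α ⁻¹ᵁ U)) := by
          rw [pullback.condition (f := α) (g := α), Scheme.Hom.comp_preimage,
            preimage_comp_eq hq2b.symm (α ⁻¹ᵁ U)]
        have A1 : (pullback.snd φ' (pullback.fst α α)).app ((pullback.fst α α ≫ α) ⁻¹ᵁ U)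
            ((pullback.fst α α).appLE (α ⁻¹ᵁ U) ((pullback.fst α α ≫ α) ⁻¹ᵁ U) e₁ g') =
            (pullback.fst φ' (pullback.fst α α) ≫ pr).appLE (φ ⁻¹ᵁ U)
              ((pullback.snd φ' (pullback.fst α α)) ⁻¹ᵁ ((pullback.fst α α ≫ α) ⁻¹ᵁ U))
              (hW3a.trans (pre_mono _ hVle)) f := by
          rw [app_apply_eq_appLE, appLE_appLE_apply,
            appLE_congr_apply (pullback.condition (f := φ') (g := pullback.fst α α)).symm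
              (α ⁻¹ᵁ U) _ _ (hW3a.trans (pre_mono _ le_rfl)) g',
            appLE_comp_apply (pullback.fst φ' (pullback.fst α α)) φ' (α ⁻¹ᵁ U) (φ' ⁻¹ᵁ (α ⁻¹ᵁ U)) _
              le_rfl hW3a _ g',
            ← app_apply_eq_appLE, hg', hf', appLE_appLE_apply]
        have A2 : (pullback.snd φ' (pullback.fst α α)).app ((pullback.fst α α ≫ α) ⁻¹ᵁ U)
            ((pullback.snd α α).appLE (α ⁻¹ᵁ U) ((pullback.fst α α ≫ α) ⁻¹ᵁ U) e₂ g') =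
            (q₂ ≫ pr).appLE (φ ⁻¹ᵁ U)
              ((pullback.snd φ' (pullback.fst α α)) ⁻¹ᵁ ((pullback.fst α α ≫ α) ⁻¹ᵁ U))
              (hW3b.trans (pre_mono _ hVle)) f := by
          rw [app_apply_eq_appLE, appLE_appLE_apply,
            appLE_congr_apply hq2b.symm (α ⁻¹ᵁ U) _ _ (hW3b.trans (pre_mono _ le_rfl)) g',
            appLE_comp_apply q₂ φ' (α ⁻¹ᵁ U) (φ' ⁻¹ᵁ (α ⁻¹ᵁ U)) _ le_rfl hW3b _ g',
            ← app_apply_eq_appLE, hg', hf', appLE_appLE_apply]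
        rw [A1, A2]
        exact appLE_congr_apply hq2a.symm _ _ _ _ _
      obtain ⟨g, hg⟩ := exists_app_eq α U g' ((pullback.fst α α ≫ α) ⁻¹ᵁ U) le_rfl e₁ e₂ hs
      refine ⟨g, ?_⟩
      apply hprinj
      rw [hF2, hg, hg', hf']

end Sections

section Main
variable {S : Scheme.{u}} {G : Over S} [GrpObj G]

theorem isQuotientMap_descent {X Y X' Y' : Scheme.{u}}
    (φ : X ⟶ Y) (α : Y' ⟶ Y) (pr : X' ⟶ X) (φ' : X' ⟶ Y') (H : IsPullback pr φ' φ α)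
    [Flat α] [Surjective α] [QuasiCompact α]
    (hsub : GIT.IsUnivSubmersive φ') : GIT.IsUnivSubmersive φ := by
  intro X₁ Y₁ i₁ i₂ f₁ H₁
  have hcond : (pullback.fst f₁ (pullback.fst i₂ α) ≫ i₁) ≫ φ =
      (pullback.snd f₁ (pullback.fst i₂ α) ≫ pullback.snd i₂ α) ≫ α := by
    rw [Category.assoc, ← H₁.w, pullback.condition_assoc, Category.assoc, pullback.condition]
  obtain ⟨w, hw1, hw2⟩ : ∃ w : pullback f₁ (pullback.fst i₂ α) ⟶ X',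
      w ≫ pr = pullback.fst f₁ (pullback.fst i₂ α) ≫ i₁ ∧
      w ≫ φ' = pullback.snd f₁ (pullback.fst i₂ α) ≫ pullback.snd i₂ α :=
    ⟨H.lift _ _ hcond, H.lift_fst _ _ _, H.lift_snd _ _ _⟩
  have hbig : IsPullback (pullback.fst f₁ (pullback.fst i₂ α) ≫ i₁)
      (pullback.snd f₁ (pullback.fst i₂ α)) φ (pullback.fst i₂ α ≫ i₂) :=
    (IsPullback.of_hasPullback f₁ (pullback.fst i₂ α)).paste_horiz H₁.flip
  have hbig' : IsPullback (w ≫ pr) (pullback.snd f₁ (pullback.fst i₂ α)) φ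
      (pullback.snd i₂ α ≫ α) := by
    rw [hw1, ← pullback.condition]
    exact hbig
  have hleft : IsPullback w (pullback.snd f₁ (pullback.fst i₂ α)) φ' (pullback.snd i₂ α) :=
    IsPullback.of_right hbig' hw2 H
  have hq1 : IsQuotientMap (pullback.fst i₂ α).base := Flat.isQuotientMap_of_surjective _
  have hq2 : IsQuotientMap (pullback.snd f₁ (pullback.fst i₂ α)).base :=
    hsub w _ _ hleft.flip
  have hq3 : IsQuotientMap (f₁.base ∘ (pullback.fst f₁ (pullback.fst i₂ α)).base) := by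
    have e : (f₁.base ∘ (pullback.fst f₁ (pullback.fst i₂ α)).base : _ → _) =
        (pullback.fst i₂ α).base ∘ (pullback.snd f₁ (pullback.fst i₂ α)).base := by
      funext x
      exact GITQ1.eq_base_of_eq (pullback.condition (f := f₁) (g := pullback.fst i₂ α)) x
    rw [e]
    exact hq1.comp hq2
  exact IsQuotientMap.of_comp (pullback.fst f₁ _).continuous f₁.continuous hq3

theorem isGeomQuot_descent {X Y X' Y' : Over S}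
    (a : AlgGrp.Action G X) (φ : X ⟶ Y) (hinv : GIT.IsInvariant a φ)
    (α : Y' ⟶ Y) [Flat α.left] [Surjective α.left] [QuasiCompact α.left]
    (pr : X' ⟶ X) (φ' : X' ⟶ Y') (hpb : IsPullback pr φ' φ α) [QuasiCompact φ'.left]
    (a' : AlgGrp.Action G X') (heq : a'.act ≫ pr = (G ◁ pr) ≫ a.act)
    (h : GIT.IsGeomQuot a' φ') : GIT.IsGeomQuot a φ := by
  have H : IsPullback pr.left φ'.left φ.left α.left := hpb.map (Over.forget S)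
  have hσ : a'.act.left ≫ pr.left = (G ◁ pr).left ≫ a.act.left := by
    have := congr(($heq).left)
    rwa [Over.comp_left, Over.comp_left] at this
  have hp : (snd G X').left ≫ pr.left = (G ◁ pr).left ≫ (snd G X).left := by
    have := congr(($(whiskerLeft_snd G pr)).left)
    rw [Over.comp_left, Over.comp_left] at this
    exact this.symm
  haveI : Surjective pr.left := MorphismProperty.of_isPullback (P := @Surjective) H.flip ‹_›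
  have hsurj : Function.Surjective φ.left.base := by
    intro y
    obtain ⟨y', rfl⟩ := α.left.surjective y
    obtain ⟨x', rfl⟩ := h.surj y'
    exact ⟨pr.left.base x', GITQ1.eq_base_of_eq H.w x'⟩
  have horbit : Function.Surjective (GIT.PsiY a φ hinv).base := by
    have hP := AF3.isPullback_fst_map φ.left H.flip
    haveI : Surjective (pullback.map φ'.left φ'.left φ.left φ.left pr.left pr.left α.left
        H.flip.w H.flip.w) :=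
      MorphismProperty.of_isPullback (P := @Surjective) hP ‹Surjective pr.left›
    have hcomm : GIT.PsiY a' φ' h.inv ≫ pullback.map φ'.left φ'.left φ.left φ.left pr.left pr.left
        α.left H.flip.w H.flip.w = (G ◁ pr).left ≫ GIT.PsiY a φ hinv := by
      apply pullback.hom_ext
      · simp only [GIT.PsiY, pullback.map, Category.assoc, pullback.lift_fst,
          pullback.lift_fst_assoc]
        exact hσ
      · simp only [GIT.PsiY, pullback.map, Category.assoc, pullback.lift_snd,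
          pullback.lift_snd_assoc]
        exact hp
    intro z
    obtain ⟨z', rfl⟩ := (pullback.map φ'.left φ'.left φ.left φ.left pr.left pr.left α.left
        H.flip.w H.flip.w).surjective z
    obtain ⟨w, rfl⟩ := h.orbit z'
    exact ⟨(G ◁ pr).left.base w, (GITQ1.eq_base_of_eq hcomm w).symm⟩
  refine ⟨hinv, hsurj, horbit, isQuotientMap_descent φ.left α.left pr.left φ'.left H h.subm, ?_⟩
  intro U
  exact sections_descent φ.left α.left pr.left φ'.left H a.act.left (snd G X).left a'.act.left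
    (snd G X').left (G ◁ pr).left hσ hp hinv.left (fun U' => h.sections U') U

theorem main18507 (k : Type u) [Field k]
    (G X Y X' Y' : Over (Spec (CommRingCat.of k))) [GrpObj G] [IsAffine G.left]
    [LocallyOfFiniteType G.hom]
    [LocallyOfFiniteType X.hom] [QuasiCompact X.hom] [IsSeparated X.hom]
    [LocallyOfFiniteType Y.hom] [QuasiCompact Y.hom] [IsSeparated Y.hom]
    (a : AlgGrp.Action G X) (φ : X ⟶ Y) (hinv : GIT.IsInvariant a φ)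
    (α : Y' ⟶ Y) [Flat α.left] [Surjective α.left] [QuasiCompact α.left]
    (pr : X' ⟶ X) (φ' : X' ⟶ Y') (hpb : IsPullback pr φ' φ α)
    (a' : AlgGrp.Action G X') (heq : a'.act ≫ pr = (G ◁ pr) ≫ a.act)
    (hinv' : GIT.IsInvariant a' φ')
    (h : GIT.IsGeomQuot a' φ') :
    GIT.IsGeomQuot a φ := by
  have H : IsPullback pr.left φ'.left φ.left α.left := hpb.map (Over.forget _)
  haveI : QuasiCompact (φ.left ≫ Y.hom) := by rw [Over.w φ]; infer_instance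
  haveI : QuasiCompact φ.left := QuasiCompact.of_comp φ.left Y.hom
  haveI : QuasiCompact φ'.left := MorphismProperty.of_isPullback (P := @QuasiCompact) H ‹_›
  exact isGeomQuot_descent a φ hinv α pr φ' hpb a' heq h

end Main

end Groth.Agent.Helper17.AF5
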