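import Mathlib
import Groth.Prelude.Def_W4bk4git07Quot
import Groth.Prelude.Def_AlgGrp
import Groth.Agent.Lib.Helper17.AF5

set_option autoImplicit false
universe u
open CategoryTheory Limits MonoidalCategory CartesianMonoidalCategory MonObj GrpObj AlgebraicGeometry Topology

namespace Groth.Agent.Helper17.AF6

section Induced
variable {S : Scheme.{u}} {G : Over S} [GrpObj G]
variable {X Y X' Y' : Over S}

/-- The action morphism induced on a base change `X' = X ×_Y Y'` of an invariant morphism. -/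
noncomputable def inducedAct (a : AlgGrp.Action G X) (φ : X ⟶ Y)
    (hinv : GIT.IsInvariant a φ) {α : Y' ⟶ Y} {pr : X' ⟶ X} {φ' : X' ⟶ Y'}
    (hpb : IsPullback pr φ' φ α) : G ⊗ X' ⟶ X' :=
  hpb.lift ((G ◁ pr) ≫ a.act) (snd G X' ≫ φ') (by
    have h : a.act ≫ φ = snd G X ≫ φ := hinv
    simp only [Category.assoc]
    rw [h, whiskerLeft_snd_assoc, hpb.w])

theorem inducedAct_pr (a : AlgGrp.Action G X) (φ : X ⟶ Y)
    (hinv : GIT.IsInvariant a φ) {α : Y' ⟶ Y} {pr : X' ⟶ X} {φ' : X' ⟶ Y'}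
    (hpb : IsPullback pr φ' φ α) :
    inducedAct a φ hinv hpb ≫ pr = (G ◁ pr) ≫ a.act := hpb.lift_fst _ _ _

theorem inducedAct_phi (a : AlgGrp.Action G X) (φ : X ⟶ Y)
    (hinv : GIT.IsInvariant a φ) {α : Y' ⟶ Y} {pr : X' ⟶ X} {φ' : X' ⟶ Y'}
    (hpb : IsPullback pr φ' φ α) :
    inducedAct a φ hinv hpb ≫ φ' = snd G X' ≫ φ' := hpb.lift_snd _ _ _

/-- The induced action on a base change. -/
noncomputable def inducedAction (a : AlgGrp.Action G X) (φ : X ⟶ Y)
    (hinv : GIT.IsInvariant a φ) {α : Y' ⟶ Y} {pr : X' ⟶ X} {φ' : X' ⟶ Y'}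
    (hpb : IsPullback pr φ' φ α) : AlgGrp.Action G X' where
  act := inducedAct a φ hinv hpb
  one_act := by
    apply hpb.hom_ext
    · simp only [Category.assoc]
      rw [inducedAct_pr, ← whisker_exchange_assoc, a.one_act,
        MonoidalCategory.leftUnitor_naturality]
    · simp only [Category.assoc]
      rw [inducedAct_phi, whiskerRight_snd_assoc, leftUnitor_hom]
  mul_act := by
    apply hpb.hom_ext
    · have e : G ◁ inducedAct a φ hinv hpb ≫ G ◁ pr = G ◁ G ◁ pr ≫ G ◁ a.act := by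
        rw [← MonoidalCategory.whiskerLeft_comp, inducedAct_pr,
          MonoidalCategory.whiskerLeft_comp]
      simp only [Category.assoc]
      rw [inducedAct_pr, ← whisker_exchange_assoc, a.mul_act, reassoc_of% e,
        associator_naturality_right_assoc]
    · simp only [Category.assoc]
      rw [inducedAct_phi, whiskerRight_snd_assoc, whiskerLeft_snd_assoc, inducedAct_phi,
        associator_hom_snd_snd_assoc]

theorem inducedAction_act (a : AlgGrp.Action G X) (φ : X ⟶ Y)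
    (hinv : GIT.IsInvariant a φ) {α : Y' ⟶ Y} {pr : X' ⟶ X} {φ' : X' ⟶ Y'}
    (hpb : IsPullback pr φ' φ α) :
    (inducedAction a φ hinv hpb).act = inducedAct a φ hinv hpb := rfl

theorem isUnivGeomQuot_descent
    (a : AlgGrp.Action G X) (φ : X ⟶ Y) (hinv : GIT.IsInvariant a φ) [QuasiCompact φ.left]
    (α : Y' ⟶ Y) [Flat α.left] [Surjective α.left] [QuasiCompact α.left]
    (pr : X' ⟶ X) (φ' : X' ⟶ Y') (hpb : IsPullback pr φ' φ α)
    (a' : AlgGrp.Action G X') (heq : a'.act ≫ pr = (G ◁ pr) ≫ a.act)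
    (hinv' : GIT.IsInvariant a' φ')
    (h : GIT.IsUnivGeomQuot a' φ') : GIT.IsUnivGeomQuot a φ := by
  have H : IsPullback pr.left φ'.left φ.left α.left := hpb.map (Over.forget S)
  haveI : QuasiCompact φ'.left := MorphismProperty.of_isPullback (P := @QuasiCompact) H ‹_›
  refine ⟨AF5.isGeomQuot_descent a φ hinv α pr φ' hpb a' heq h.1, ?_⟩
  intro X₁ Y₁ pr₁ φ₁ g _ hpb₁ a₁ heq₁ hinv₁
  have H₁ : IsPullback pr₁.left φ₁.left φ.left g.left := hpb₁.map (Over.forget S)
  haveI : QuasiCompact φ₁.left := MorphismProperty.of_isPullback (P := @QuasiCompact) H₁ ‹_›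
  have hY : IsPullback (pullback.fst g α) (pullback.snd g α) g α := IsPullback.of_hasPullback g α
  have hYl : IsPullback (pullback.fst g α).left (pullback.snd g α).left g.left α.left :=
    hY.map (Over.forget S)
  haveI : Flat (pullback.fst g α).left :=
    MorphismProperty.of_isPullback (P := @Flat) hYl.flip ‹_›
  haveI : Surjective (pullback.fst g α).left :=
    MorphismProperty.of_isPullback (P := @Surjective) hYl.flip ‹_›
  haveI : QuasiCompact (pullback.fst g α).left :=
    MorphismProperty.of_isPullback (P := @QuasiCompact) hYl.flip ‹_›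
  have hX : IsPullback (pullback.fst φ₁ (pullback.fst g α)) (pullback.snd φ₁ (pullback.fst g α))
      φ₁ (pullback.fst g α) := IsPullback.of_hasPullback _ _
  have hXl : IsPullback (pullback.fst φ₁ (pullback.fst g α)).left
      (pullback.snd φ₁ (pullback.fst g α)).left φ₁.left (pullback.fst g α).left :=
    hX.map (Over.forget S)
  haveI : QuasiCompact (pullback.snd φ₁ (pullback.fst g α)).left :=
    MorphismProperty.of_isPullback (P := @QuasiCompact) hXl ‹_›
  have hcond : (pullback.fst φ₁ (pullback.fst g α) ≫ pr₁) ≫ φ =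
      (pullback.snd φ₁ (pullback.fst g α) ≫ pullback.snd g α) ≫ α := by
    simp only [Category.assoc]
    rw [hpb₁.w, pullback.condition_assoc, pullback.condition]
  obtain ⟨pr₂, hpr1, hpr2⟩ : ∃ pr₂ : pullback φ₁ (pullback.fst g α) ⟶ X',
      pr₂ ≫ pr = pullback.fst φ₁ (pullback.fst g α) ≫ pr₁ ∧
      pr₂ ≫ φ' = pullback.snd φ₁ (pullback.fst g α) ≫ pullback.snd g α :=
    ⟨hpb.lift _ _ hcond, hpb.lift_fst _ _ _, hpb.lift_snd _ _ _⟩
  have hbig : IsPullback (pullback.fst φ₁ (pullback.fst g α) ≫ pr₁)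
      (pullback.snd φ₁ (pullback.fst g α)) φ (pullback.fst g α ≫ g) := hX.paste_horiz hpb₁
  have hbig' : IsPullback (pr₂ ≫ pr) (pullback.snd φ₁ (pullback.fst g α)) φ
      (pullback.snd g α ≫ α) := by
    rw [hpr1, ← pullback.condition]
    exact hbig
  have hleft : IsPullback pr₂ (pullback.snd φ₁ (pullback.fst g α)) φ' (pullback.snd g α) :=
    IsPullback.of_right hbig' hpr2 hpb
  have hi' : a'.act ≫ φ' = snd G X' ≫ φ' := hinv'
  have heq₂ : (inducedAction a₁ φ₁ hinv₁ hX).act ≫ pr₂ = (G ◁ pr₂) ≫ a'.act := by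
    rw [inducedAction_act]
    apply hpb.hom_ext
    · simp only [Category.assoc]
      rw [hpr1, heq, reassoc_of% (inducedAct_pr a₁ φ₁ hinv₁ hX), heq₁,
        ← MonoidalCategory.whiskerLeft_comp_assoc, ← MonoidalCategory.whiskerLeft_comp_assoc,
        hpr1]
    · simp only [Category.assoc]
      rw [hpr2, reassoc_of% (inducedAct_phi a₁ φ₁ hinv₁ hX), hi', whiskerLeft_snd_assoc, hpr2]
  have hinv₂ : GIT.IsInvariant (inducedAction a₁ φ₁ hinv₁ hX)
      (pullback.snd φ₁ (pullback.fst g α)) := inducedAct_phi a₁ φ₁ hinv₁ hX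
  have hq : GIT.IsGeomQuot (inducedAction a₁ φ₁ hinv₁ hX) (pullback.snd φ₁ (pullback.fst g α)) :=
    h.2 pr₂ (pullback.snd φ₁ (pullback.fst g α)) (pullback.snd g α) trivial hleft _ heq₂ hinv₂
  exact AF5.isGeomQuot_descent a₁ φ₁ hinv₁ (pullback.fst g α) (pullback.fst φ₁ (pullback.fst g α))
    (pullback.snd φ₁ (pullback.fst g α)) hX (inducedAction a₁ φ₁ hinv₁ hX)
    (inducedAct_pr a₁ φ₁ hinv₁ hX) hq

end Induced

theorem main18511 (k : Type u) [Field k]
    (G X Y X' Y' : Over (Spec (CommRingCat.of k))) [GrpObj G] [IsAffine G.left]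
    [LocallyOfFiniteType G.hom]
    [LocallyOfFiniteType X.hom] [QuasiCompact X.hom] [IsSeparated X.hom]
    [LocallyOfFiniteType Y.hom] [QuasiCompact Y.hom] [IsSeparated Y.hom]
    (a : AlgGrp.Action G X) (φ : X ⟶ Y) (hinv : GIT.IsInvariant a φ)
    (α : Y' ⟶ Y) [Flat α.left] [Surjective α.left] [QuasiCompact α.left]
    (pr : X' ⟶ X) (φ' : X' ⟶ Y') (hpb : IsPullback pr φ' φ α)
    (a' : AlgGrp.Action G X') (heq : a'.act ≫ pr = (G ◁ pr) ≫ a.act)
    (hinv' : GIT.IsInvariant a' φ')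
    (h : GIT.IsUnivGeomQuot a' φ') :
    GIT.IsUnivGeomQuot a φ := by
  haveI : QuasiCompact (φ.left ≫ Y.hom) := by rw [Over.w φ]; infer_instance
  haveI : QuasiCompact φ.left := QuasiCompact.of_comp φ.left Y.hom
  exact isUnivGeomQuot_descent a φ hinv α pr φ' hpb a' heq hinv' h

end Groth.Agent.Helper17.AF6
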