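import Mathlib
import Groth.Prelude.Def_AlgGrp
import Groth.Agent.Lib.Helper17.AF3

set_option autoImplicit false
universe u
open CategoryTheory Limits MonoidalCategory CartesianMonoidalCategory MonObj GrpObj AlgebraicGeometry Topology

namespace Groth.Agent.Helper17.AF7

section Torsor
variable {S : Scheme.{u}} {G X Y : Over S} [GrpObj G]

theorem torsor_inj (a : AlgGrp.Action G X) (π : X ⟶ Y) (hcart : IsPullback (snd G X) a.act π π)
    {T : Over S} (g₁ g₂ : T ⟶ G) (x : T ⟶ X)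
    (h : lift g₁ x ≫ a.act = lift g₂ x ≫ a.act) : g₁ = g₂ := by
  have e : lift g₁ x = lift g₂ x := by
    apply hcart.hom_ext
    · rw [lift_snd, lift_snd]
    · exact h
  have := congrArg (fun m => m ≫ fst G X) e
  simpa using this

theorem bundle_aut (a : AlgGrp.Action G X) (π : X ⟶ Y)
    (hcart : IsPullback (snd G X) a.act π π)
    (φ : X ≅ X) (hφ : φ.hom ≫ π = π) (hφeq : (G ◁ φ.hom) ≫ a.act = a.act ≫ φ.hom) :
    ∃! f : X ⟶ G, (∀ (T : Over S) (g : T ⟶ G) (x : T ⟶ X),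
        lift g x ≫ a.act ≫ f = g * (x ≫ f) * g⁻¹) ∧ φ.hom = lift f (𝟙 X) ≫ a.act := by
  obtain ⟨l, hl1, hl2⟩ : ∃ l : X ⟶ G ⊗ X, l ≫ snd G X = 𝟙 X ∧ l ≫ a.act = φ.hom :=
    ⟨hcart.lift (𝟙 X) φ.hom (by rw [Category.id_comp, hφ]), hcart.lift_fst _ _ _,
      hcart.lift_snd _ _ _⟩
  obtain ⟨f, hf⟩ : ∃ f : X ⟶ G, f = l ≫ fst G X := ⟨_, rfl⟩
  have hl : lift f (𝟙 X) = l := by
    apply CartesianMonoidalCategory.hom_ext
    · rw [lift_fst, hf]
    · rw [lift_snd, hl1]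
  have hφf : φ.hom = lift f (𝟙 X) ≫ a.act := by rw [hl, hl2]
  refine ⟨f, ⟨?_, hφf⟩, ?_⟩
  · intro T g x
    have key : ∀ (y : T ⟶ X), lift (y ≫ f) y ≫ a.act = y ≫ φ.hom := by
      intro y
      rw [hφf, ← Category.assoc, comp_lift, Category.comp_id]
    rw [← Category.assoc]
    apply torsor_inj a π hcart _ _ (lift g x ≫ a.act)
    rw [key, Category.assoc, ← hφeq, lift_whiskerLeft_assoc, ← key x, ← AF3.act_mul,
      ← AF3.act_mul]
    congr 2
    rw [_root_.mul_assoc, _root_.inv_mul_cancel, _root_.mul_one]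
  · rintro f' ⟨-, hf'⟩
    have e : lift f' (𝟙 X) = l := by
      apply hcart.hom_ext
      · rw [lift_snd, hl1]
      · rw [← hf', hl2]
    rw [hf, ← e, lift_fst]

end Torsor

theorem main11418 (k : Type u) [Field k] [IsAlgClosed k]
    (G X Y : Over (Spec (CommRingCat.of k))) [GrpObj G] [Smooth G.hom] [QuasiCompact G.hom]
    [IsAffine G.left]
    [LocallyOfFiniteType X.hom] [QuasiCompact X.hom] [LocallyOfFiniteType Y.hom]
    [QuasiCompact Y.hom]
    (a : AlgGrp.Action G X) (π : X ⟶ Y) (hinv : a.act ≫ π = snd G X ≫ π) [Flat π.left]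
    [Surjective π.left]
    (hcart : IsPullback (snd G X) a.act π π)
    (φ : X ≅ X) (hφ : φ.hom ≫ π = π) (hφeq : (G ◁ φ.hom) ≫ a.act = a.act ≫ φ.hom) :
    ∃! f : X ⟶ G, (∀ (S : Over (Spec (CommRingCat.of k))) (g : S ⟶ G) (x : S ⟶ X),
        lift g x ≫ a.act ≫ f = g * (x ≫ f) * g⁻¹) ∧ φ.hom = lift f (𝟙 X) ≫ a.act :=
  bundle_aut a π hcart φ hφ hφeq

end Groth.Agent.Helper17.AF7
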