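import Mathlib
import Groth.Prelude.Def_Red
import Groth.Prelude.Def_Red2
import Groth.Prelude.Def_AlgGrp
import Groth.Prelude.Def_GmPts
import Groth.Agent.Lib.Helper18.DSPts
import Groth.Agent.Lib.Helper17.AE2
import Groth.Agent.Lib.Helper17.AF8

/-!
# Exact sequences of split tori over a field split (helper17)
-/

set_option autoImplicit false
universe u
open CategoryTheory Limits MonoidalCategory CartesianMonoidalCategory MonObj GrpObj AlgebraicGeometry Opposite
open Groth.Agent.Helper18.DSPts Groth.Agent.Helper17.AF8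

noncomputable section
namespace Groth.Agent.Helper17.AF9

/-- a left exact sequence `0 → MQ → MG → ℤ^n` of abelian groups has a retraction -/
theorem exists_retraction {MQ MG : Type} [AddCommGroup MQ] [AddCommGroup MG] (n : ℕ)
    (f : MQ →+ MG) (g : MG →+ (Fin n → ℤ)) (hf : Function.Injective f)
    (hfg : ∀ y, g y = 0 ↔ y ∈ f.range) : ∃ r : MG →+ MQ, r.comp f = AddMonoidHom.id MQ := by
  classical
  obtain ⟨F, hF⟩ : ∃ F : MQ →ₗ[ℤ] MG, F = f.toIntLinearMap := ⟨_, rfl⟩
  obtain ⟨L, hL⟩ : ∃ L : MG →ₗ[ℤ] (Fin n → ℤ), L = g.toIntLinearMap := ⟨_, rfl⟩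
  have hL' : Function.Surjective L.rangeRestrict := LinearMap.surjective_rangeRestrict L
  have : Module.Free ℤ (LinearMap.range L) := inferInstance
  obtain ⟨σ, hσ⟩ := Module.projective_lifting_property L.rangeRestrict LinearMap.id hL'
  have hex : Function.Exact F L.rangeRestrict := by
    intro y
    constructor
    · intro h
      have h1 : g y = 0 := by
        have := congrArg Subtype.val h
        rw [hL] at this
        exact this
      obtain ⟨z, hz⟩ := (hfg y).mp h1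
      exact ⟨z, by rw [hF]; exact hz⟩
    · rintro ⟨z, rfl⟩
      apply Subtype.ext
      rw [hF, hL]
      exact (hfg (f z)).mpr ⟨z, rfl⟩
  obtain ⟨-, r, hr⟩ := (hex.split_tfae'.out 0 1 rfl rfl).mp ⟨by rw [hF]; exact hf, σ, hσ⟩
  refine ⟨r.toAddMonoidHom, ?_⟩
  ext z
  have := LinearMap.congr_fun hr z
  rw [hF] at this
  exact this

theorem appTop_injective_of_comp_eq_id {S : Scheme.{u}} {X Y : Over S} (f : X ⟶ Y) (v : Y ⟶ X)
    (h : v ≫ f = 𝟙 Y) : Function.Injective f.left.appTop.hom := by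
  have h1 : ∀ r, v.left.appTop.hom (f.left.appTop.hom r) = r := by
    intro r
    have h2 : (v.left ≫ f.left).appTop = 𝟙 _ := by
      rw [← Over.comp_left, h, Over.id_left, Scheme.Hom.id_appTop]
    rw [Scheme.Hom.comp_appTop] at h2
    exact congrArg (fun φ => φ.hom r) h2
  intro s t hst
  rw [← h1 s, hst, h1 t]

theorem exists_isos {C : Type*} [Category C] [CartesianMonoidalCategory C] {X Y : C}
    [GrpObj X] [GrpObj Y] (e : Grp.mk X ≅ Grp.mk Y) :
    ∃ (a : X ⟶ Y) (a' : Y ⟶ X), IsMonHom a ∧ IsMonHom a' ∧ a ≫ a' = 𝟙 X ∧ a' ≫ a = 𝟙 Y := by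
  refine ⟨e.hom.hom.hom, e.inv.hom.hom, inferInstance, inferInstance, ?_, ?_⟩
  · exact congrArg (fun f => f.hom.hom) e.hom_inv_id
  · exact congrArg (fun f => f.hom.hom) e.inv_hom_id

section Core
variable {k : Type u} [Field k] {MK MG MQ : Type} [AddCommGroup MK] [AddCommGroup MG]
  [AddCommGroup MQ]

local notation "Sk" => Spec (CommRingCat.of k)

theorem injective_of_appTop_injective (f : MQ →+ MG)
    (hinj : Function.Injective
      (Red.DSmap Sk f : Red.DS Sk MG ⟶ Red.DS Sk MQ).left.appTop.hom) :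
    Function.Injective f := by
  rw [injective_iff_map_eq_zero]
  intro z hz
  have h1 : charOfPt (Red.DSmap Sk f ≫ 𝟙 (Red.DS Sk MQ)) (Multiplicative.ofAdd z) =
      (Red.DSmap Sk f).left.appTop.hom
        (charOfPt (𝟙 (Red.DS Sk MQ)) (Multiplicative.ofAdd z)) := by
    rw [charOfPt_comp]; rfl
  have h2 : charOfPt (𝟙 (Red.DS Sk MG) ≫ Red.DSmap Sk f) (Multiplicative.ofAdd z) =
      charOfPt (𝟙 (Red.DS Sk MG)) (Multiplicative.ofAdd (f z)) := charOfPt_DSmap_apply _ _ _
  rw [Category.comp_id] at h1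
  rw [Category.id_comp, hz, ofAdd_zero, map_one] at h2
  rw [h2] at h1
  have h3 : charOfPt (𝟙 (Red.DS Sk MQ)) (Multiplicative.ofAdd z) = 1 := by
    apply hinj
    rw [← h1, map_one]
  have h4 : charOfPt (upt k MQ ≫ 𝟙 (Red.DS Sk MQ)) (Multiplicative.ofAdd z) =
      (upt k MQ).left.appTop.hom (charOfPt (𝟙 (Red.DS Sk MQ)) (Multiplicative.ofAdd z)) := by
    rw [charOfPt_comp]; rfl
  rw [Category.comp_id, charOfPt_upt, h3, map_one, uchar_apply] at h4
  have h5 : MonoidAlgebra.of k (Multiplicative MQ) (Multiplicative.ofAdd z) = 1 := by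
    apply secHom_injective k
    rw [h4, map_one]
  have h6 : Multiplicative.ofAdd z = 1 := by
    apply MonoidAlgebra.of_injective (R := k)
    rw [h5, map_one]
  exact ofAdd_eq_one.mp h6

theorem ker_le_range (f : MQ →+ MG) (g : MG →+ MK)
    (hK2 : ∀ (T : Over Sk) (x : T ⟶ Red.DS Sk MG), x ≫ Red.DSmap Sk f = 1 →
      ∃ w : T ⟶ Red.DS Sk MK, w ≫ Red.DSmap Sk g = x)
    (y : MG) (hy : g y = 0) : y ∈ f.range := by
  have hq : (QuotientAddGroup.mk' f.range).comp f = 0 := by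
    ext z
    change ((f z : MG) : MG ⧸ f.range) = 0
    exact (QuotientAddGroup.eq_zero_iff _).mpr ⟨z, rfl⟩
  have hx : (upt k (MG ⧸ f.range) ≫ Red.DSmap Sk (QuotientAddGroup.mk' f.range)) ≫
      Red.DSmap Sk f = 1 := by
    rw [Category.assoc, DSmap_comp, hq, DSmap_zero, MonObj.comp_one]
  obtain ⟨w, hw⟩ := hK2 _ _ hx
  have h1 : charOfPt (w ≫ Red.DSmap Sk g) (Multiplicative.ofAdd y) =
      charOfPt (upt k (MG ⧸ f.range) ≫ Red.DSmap Sk (QuotientAddGroup.mk' f.range))
        (Multiplicative.ofAdd y) := by rw [hw]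
  rw [charOfPt_DSmap_apply, charOfPt_DSmap_apply, hy, ofAdd_zero, map_one, charOfPt_upt,
    uchar_apply] at h1
  have h2 : MonoidAlgebra.of k (Multiplicative (MG ⧸ f.range))
      (Multiplicative.ofAdd (QuotientAddGroup.mk' f.range y)) = 1 := by
    apply secHom_injective k
    rw [← h1, map_one]
  have h3 : Multiplicative.ofAdd (QuotientAddGroup.mk' f.range y) = 1 := by
    apply MonoidAlgebra.of_injective (R := k)
    rw [h2, map_one]
  have h4 : ((y : MG) : MG ⧸ f.range) = 0 := ofAdd_eq_one.mp h3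
  exact (QuotientAddGroup.eq_zero_iff _).mp h4

end Core

theorem main14754 (k : Type u) [Field k] [IsAlgClosed k]
    (K G Q : Over (Spec (CommRingCat.of k))) [GrpObj K] [GrpObj G] [GrpObj Q] (nK nG nQ : ℕ)
    (hK : Red.IsSplitTorusWith (Fin nK → ℤ) K) (hG : Red.IsSplitTorusWith (Fin nG → ℤ) G)
    (hQ : Red.IsSplitTorusWith (Fin nQ → ℤ) Q)
    (i : K ⟶ G) [IsMonHom i] [IsClosedImmersion i.left]
    (π : G ⟶ Q) [IsMonHom π] [Flat π.left] [Surjective π.left] (hker : AlgGrp.IsKernel i π) :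
    ∃ s : Q ⟶ G, IsMonHom s ∧ s ≫ π = 𝟙 Q := by
  obtain ⟨eK⟩ := hK
  obtain ⟨eG⟩ := hG
  obtain ⟨eQ⟩ := hQ
  obtain ⟨c, c', hcm, hcm', hcc', hc'c⟩ := exists_isos eK
  obtain ⟨a, a', ham, ham', haa', ha'a⟩ := exists_isos eG
  obtain ⟨b, b', hbm, hbm', hbb', hb'b⟩ := exists_isos eQ
  have hpb : IsPullback i (toUnit K) π η[Q] := hker
  obtain ⟨f, hf⟩ : ∃ f : (Fin nQ → ℤ) →+ (Fin nG → ℤ),
      a' ≫ π ≫ b = Red.DSmap (Spec (CommRingCat.of k)) f := ⟨dual (a' ≫ π ≫ b), full _⟩
  obtain ⟨g, hg⟩ : ∃ g : (Fin nG → ℤ) →+ (Fin nK → ℤ),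
      c' ≫ i ≫ a = Red.DSmap (Spec (CommRingCat.of k)) g := ⟨dual (c' ≫ i ≫ a), full _⟩
  have hinj : Function.Injective (Red.DSmap (Spec (CommRingCat.of k)) f).left.appTop.hom := by
    rw [← hf]
    have h1 := appTop_injective_of_comp_eq_id a' a haa'
    have h2 : Function.Injective π.left.appTop.hom :=
      Groth.Agent.Helper17.AE2.app_injective_of_flat_surjective π.left ⊤
    have h3 := appTop_injective_of_comp_eq_id b b' hb'b
    have h4 : ∀ s, (a' ≫ π ≫ b).left.appTop.hom s =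
        a'.left.appTop.hom (π.left.appTop.hom (b.left.appTop.hom s)) := by
      intro s
      simp only [Over.comp_left, Scheme.Hom.comp_appTop]
      rfl
    intro s t hst
    rw [h4, h4] at hst
    exact h3 (h2 (h1 hst))
  have hfinj : Function.Injective f := injective_of_appTop_injective f hinj
  have hK1 : Red.DSmap (Spec (CommRingCat.of k)) g ≫ Red.DSmap (Spec (CommRingCat.of k)) f = 1 := by
    have hw : i ≫ π = 1 := by rw [Hom.one_def]; exact hpb.w
    rw [← hf, ← hg]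
    simp only [Category.assoc]
    rw [reassoc_of% haa', reassoc_of% hw, MonObj.one_comp b, MonObj.comp_one]
  have hK2 : ∀ (T : Over (Spec (CommRingCat.of k))) (x : T ⟶ Red.DS (Spec (CommRingCat.of k)) (Fin nG → ℤ)),
      x ≫ Red.DSmap (Spec (CommRingCat.of k)) f = 1 →
      ∃ w : T ⟶ Red.DS (Spec (CommRingCat.of k)) (Fin nK → ℤ),
        w ≫ Red.DSmap (Spec (CommRingCat.of k)) g = x := by
    intro T x hx
    rw [← hf] at hx
    have h1 : (x ≫ a') ≫ π = toUnit T ≫ η[Q] := by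
      have h2 : (x ≫ a' ≫ π ≫ b) ≫ b' = 1 ≫ b' := by rw [hx]
      rw [MonObj.one_comp b'] at h2
      simp only [Category.assoc] at h2
      rw [hbb', Category.comp_id] at h2
      rw [Category.assoc, h2, Hom.one_def]
    obtain ⟨w₀, hw₀⟩ : ∃ w₀ : T ⟶ K, w₀ ≫ i = x ≫ a' :=
      ⟨hpb.lift (x ≫ a') (toUnit T) h1, hpb.lift_fst _ _ _⟩
    refine ⟨w₀ ≫ c, ?_⟩
    rw [← hg]
    simp only [Category.assoc]
    rw [reassoc_of% hcc', reassoc_of% hw₀, ha'a, Category.comp_id]
  have hgf : g.comp f = 0 := by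
    apply DSmap_injective (k := k)
    rw [← DSmap_comp, hK1, DSmap_zero]
  have hexact : ∀ y, g y = 0 ↔ y ∈ f.range := by
    intro y
    constructor
    · intro hy
      exact ker_le_range f g hK2 y hy
    · rintro ⟨z, rfl⟩
      exact DFunLike.congr_fun hgf z
  obtain ⟨r, hr⟩ := exists_retraction nK f g hfinj hexact
  refine ⟨b ≫ Red.DSmap (Spec (CommRingCat.of k)) r ≫ a', inferInstance, ?_⟩
  have h1 : a' ≫ π = Red.DSmap (Spec (CommRingCat.of k)) f ≫ b' := by
    rw [← hf]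
    simp only [Category.assoc]
    rw [hbb', Category.comp_id]
  simp only [Category.assoc]
  rw [h1, ← Category.assoc (Red.DSmap (Spec (CommRingCat.of k)) r), DSmap_comp, hr, DSmap_id,
    Category.id_comp, hbb']

end Groth.Agent.Helper17.AF9
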