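import Mathlib
import Groth.Prelude.Def_W4bk4git07Quot
import Groth.Prelude.Def_ChGrp
import Groth.Prelude.Def_AlgGrp
import Groth.Agent.Lib.Helper17.AF3

/-!
# Proper action with trivial stabilisers is free (helper17)
-/

set_option autoImplicit false
universe u
open CategoryTheory Limits MonoidalCategory CartesianMonoidalCategory MonObj GrpObj AlgebraicGeometry Opposite
open TensorProduct

noncomputable section
namespace Groth.Agent.Helper17.AG1

/-- a finite algebra all of whose fibres are (at most) the residue field is a quotient -/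
theorem surjective_of_fibres (R S : Type u) [CommRing R] [CommRing S] [Algebra R S]
    [Module.Finite R S]
    (h : ∀ p : PrimeSpectrum R, Function.Surjective
      (algebraMap p.asIdeal.ResidueField (p.asIdeal.Fiber S))) :
    Function.Surjective (algebraMap R S) := by
  obtain ⟨N, hN⟩ : ∃ N : Submodule R S, N = LinearMap.range (Algebra.linearMap R S) := ⟨_, rfl⟩
  have h1 : (1 : S) ∈ N := by rw [hN]; exact ⟨1, by simp⟩
  have hC : Subsingleton (S ⧸ N) := by
    rw [← Module.support_eq_empty_iff (R := R)]
    ext p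
    simp only [Set.mem_empty_iff_false, iff_false]
    rw [Module.mem_support_iff_nontrivial_residueField_tensorProduct,
      not_nontrivial_iff_subsingleton]
    have hsurj : Function.Surjective (LinearMap.lTensor p.asIdeal.ResidueField N.mkQ) :=
      LinearMap.lTensor_surjective _ N.mkQ_surjective
    have hz : ∀ t : p.asIdeal.ResidueField ⊗[R] (S ⧸ N), t = 0 := by
      intro t
      obtain ⟨s, rfl⟩ := hsurj t
      obtain ⟨c, rfl⟩ := h p s
      rw [Algebra.TensorProduct.algebraMap_apply]
      simp only [Algebra.algebraMap_self, RingHom.id_apply, LinearMap.lTensor_tmul]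
      have h0 : N.mkQ 1 = 0 := (Submodule.Quotient.mk_eq_zero N).mpr h1
      rw [h0, TensorProduct.tmul_zero]
    exact ⟨fun a b => (hz a).trans (hz b).symm⟩
  have htop : N = ⊤ := Submodule.Quotient.subsingleton_iff.mp hC
  intro s
  have hs : s ∈ N := by rw [htop]; trivial
  rw [hN] at hs
  obtain ⟨r, hr⟩ := hs
  exact ⟨r, hr⟩

/-- stability of "all fibres are trivial" under base change -/
theorem fibre_iso_baseChange {P X Y Z : Scheme.{u}} {fst : P ⟶ X} {snd : P ⟶ Y} {f : X ⟶ Z}
    {g : Y ⟶ Z} (h : IsPullback fst snd f g)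
    (hf : ∀ z, IsIso (f.fiberToSpecResidueField z)) (y : Y) :
    IsIso (snd.fiberToSpecResidueField y) := by
  exact (isPullback_fiberToSpecResidueField_of_isPullback h y).isIso_snd_of_isIso (hf _)

theorem fibre_iso_of_arrow_iso {P X P' X' : Scheme.{u}} {f : P ⟶ X} {f' : P' ⟶ X'}
    (e : Arrow.mk f ≅ Arrow.mk f') (hf : ∀ z, IsIso (f.fiberToSpecResidueField z)) (y : X') :
    IsIso (f'.fiberToSpecResidueField y) := by
  have hsq : CommSq e.inv.left f' f e.inv.right := ⟨e.inv.w⟩
  have hpb : IsPullback e.inv.left f' f e.inv.right := IsPullback.of_horiz_isIso hsq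
  exact fibre_iso_baseChange hpb hf y

theorem isClosedImmersion_specMap_of_fibres {R S : CommRingCat.{u}} (φ : R ⟶ S)
    [IsFinite (Spec.map φ)]
    (h : ∀ x : Spec R, IsIso ((Spec.map φ).fiberToSpecResidueField x)) :
    IsClosedImmersion (Spec.map φ) := by
  have hfin : φ.hom.Finite := (IsFinite.SpecMap_iff φ).mp inferInstance
  algebraize [φ.hom]
  have hsurj : Function.Surjective (algebraMap R S) := by
    apply surjective_of_fibres
    intro p
    have e := Spec.fiberToSpecResidueFieldIso R S p
    have h1 : IsIso ((Spec.map (CommRingCat.ofHom (algebraMap R S))).fiberToSpecResidueField p) :=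
      h p
    have h2 : IsIso (Spec.map (CommRingCat.ofHom
        (algebraMap p.asIdeal.ResidueField (p.asIdeal.Fiber S)))) :=
      ((MorphismProperty.isomorphisms Scheme).arrow_mk_iso_iff e).mp h1
    exact (isIso_SpecMap_iff.mp h2).2
  exact IsClosedImmersion.spec_of_surjective φ hsurj

theorem isClosedImmersion_of_fibres {P X : Scheme.{u}} (f : P ⟶ X) [IsFinite f]
    (h : ∀ x, IsIso (f.fiberToSpecResidueField x)) : IsClosedImmersion f := by
  rw [IsZariskiLocalAtTarget.iff_of_openCover (P := @IsClosedImmersion) X.affineCover]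
  intro i
  change IsClosedImmersion (pullback.snd f (X.affineCover.f i))
  have hQ : ∀ y, IsIso ((pullback.snd f (X.affineCover.f i)).fiberToSpecResidueField y) :=
    fun y => fibre_iso_baseChange (IsPullback.of_hasPullback f (X.affineCover.f i)) h y
  haveI : IsAffine (X.affineCover.X i) := by
    change IsAffine (Spec _)
    infer_instance
  haveI : IsAffine (pullback f (X.affineCover.f i)) :=
    isAffine_of_isAffineHom (pullback.snd f (X.affineCover.f i))
  have e := arrowIsoSpecΓOfIsAffine (pullback.snd f (X.affineCover.f i))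
  rw [MorphismProperty.arrow_mk_iso_iff @IsClosedImmersion e]
  haveI : IsFinite (Spec.map (pullback.snd f (X.affineCover.f i)).appTop) :=
    (MorphismProperty.arrow_mk_iso_iff @IsFinite e).mp inferInstance
  exact isClosedImmersion_specMap_of_fibres _ (fun y => fibre_iso_of_arrow_iso e hQ y)

section Act
variable {S : Scheme.{u}} {G X : Over S} [GrpObj G]
open Groth.Agent.Helper17.AF3

theorem mono_psi_of_mono_st (a : AlgGrp.Action G X)
    (hst : Mono (pullback.snd (GIT.psi a (𝟙 X)).left (lift (𝟙 X) (𝟙 X)).left)) :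
    Mono (GIT.psi a (𝟙 X)) := by
  have e1 : GIT.psi a (𝟙 X) ≫ fst X X = a.act := by simp [GIT.psi]
  have e2 : GIT.psi a (𝟙 X) ≫ snd X X = snd G X := by simp [GIT.psi]
  have key : ∀ (T : Over S) (h : T ⟶ G) (x : T ⟶ X), lift h x ≫ a.act = x → h = 1 := by
    intro T h x hx
    have c1 : lift h x ≫ GIT.psi a (𝟙 X) = x ≫ lift (𝟙 X) (𝟙 X) := by
      apply CartesianMonoidalCategory.hom_ext
      · rw [Category.assoc, e1, hx, Category.assoc, lift_fst, Category.comp_id]
      · rw [Category.assoc, e2, lift_snd, Category.assoc, lift_snd, Category.comp_id]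
    have c2 : lift (1 : T ⟶ G) x ≫ GIT.psi a (𝟙 X) = x ≫ lift (𝟙 X) (𝟙 X) := by
      apply CartesianMonoidalCategory.hom_ext
      · rw [Category.assoc, e1, act_one, Category.assoc, lift_fst, Category.comp_id]
      · rw [Category.assoc, e2, lift_snd, Category.assoc, lift_snd, Category.comp_id]
    have c1' : (lift h x).left ≫ (GIT.psi a (𝟙 X)).left =
        x.left ≫ (lift (𝟙 X) (𝟙 X)).left := by
      rw [← Over.comp_left, c1, Over.comp_left]
    have c2' : (lift (1 : T ⟶ G) x).left ≫ (GIT.psi a (𝟙 X)).left =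
        x.left ≫ (lift (𝟙 X) (𝟙 X)).left := by
      rw [← Over.comp_left, c2, Over.comp_left]
    have hp : pullback.lift (lift h x).left x.left c1' =
        pullback.lift (lift (1 : T ⟶ G) x).left x.left c2' := by
      rw [← cancel_mono (pullback.snd (GIT.psi a (𝟙 X)).left (lift (𝟙 X) (𝟙 X)).left)]
      rw [pullback.lift_snd, pullback.lift_snd]
    have hl : (lift h x).left = (lift (1 : T ⟶ G) x).left := by
      calc (lift h x).left = pullback.lift (lift h x).left x.left c1' ≫ pullback.fst _ _ :=
            (pullback.lift_fst _ _ _).symm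
        _ = pullback.lift (lift (1 : T ⟶ G) x).left x.left c2' ≫ pullback.fst _ _ := by rw [hp]
        _ = (lift (1 : T ⟶ G) x).left := pullback.lift_fst _ _ _
    have hl' : lift h x = lift (1 : T ⟶ G) x := Over.OverMorphism.ext hl
    have := congrArg (fun q => q ≫ fst G X) hl'
    simpa using this
  constructor
  intro T u v huv
  have h1 : u ≫ a.act = v ≫ a.act := by
    have := congrArg (fun q => q ≫ fst X X) huv
    simpa only [Category.assoc, e1] using this
  have h2 : u ≫ snd G X = v ≫ snd G X := by
    have := congrArg (fun q => q ≫ snd X X) huv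
    simpa only [Category.assoc, e2] using this
  obtain ⟨g, hg⟩ : ∃ g, g = u ≫ fst G X := ⟨_, rfl⟩
  obtain ⟨g', hg'⟩ : ∃ g', g' = v ≫ fst G X := ⟨_, rfl⟩
  obtain ⟨x, hx⟩ : ∃ x, x = u ≫ snd G X := ⟨_, rfl⟩
  have hu : u = lift g x := by rw [hg, hx, lift_comp_fst_snd]
  have hv : v = lift g' x := by rw [hg', hx, h2, lift_comp_fst_snd]
  rw [hu, hv] at h1
  have hstab : lift (g'⁻¹ * g) x ≫ a.act = x := by
    rw [act_mul, h1, ← act_mul, inv_mul_cancel, act_one]
  have h3 := key T _ x hstab
  have hgg : g' = g := inv_mul_eq_one.mp h3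
  rw [hu, hv, hgg]

end Act

theorem main18503 (k : Type u) [Field k]
    (G X : Over (Spec (CommRingCat.of k))) [GrpObj G] [IsAffine G.left] [LocallyOfFiniteType G.hom]
    [LocallyOfFiniteType X.hom] [QuasiCompact X.hom] [QuasiSeparated X.hom]
    (a : AlgGrp.Action G X) (hp : IsProper (GIT.psi a (𝟙 X)).left)
    (htriv : ∀ x : ↥X.left, IsIso ((Limits.pullback.snd (GIT.psi a (𝟙 X)).left
      (CartesianMonoidalCategory.lift (𝟙 X) (𝟙 X)).left).fiberToSpecResidueField x)) :
    IsClosedImmersion (GIT.psi a (𝟙 X)).left := by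
  rw [IsClosedImmersion.iff_isProper_and_mono]
  refine ⟨hp, ?_⟩
  haveI := hp
  haveI : IsProper (pullback.snd (GIT.psi a (𝟙 X)).left (lift (𝟙 X) (𝟙 X)).left) :=
    inferInstance
  haveI : LocallyQuasiFinite (pullback.snd (GIT.psi a (𝟙 X)).left (lift (𝟙 X) (𝟙 X)).left) :=
    LocallyQuasiFinite.of_fiberToSpecResidueField _ (fun x => by
      haveI := htriv x
      infer_instance)
  haveI : IsFinite (pullback.snd (GIT.psi a (𝟙 X)).left (lift (𝟙 X) (𝟙 X)).left) :=
    IsFinite.of_isProper_of_locallyQuasiFinite _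
  haveI : IsClosedImmersion (pullback.snd (GIT.psi a (𝟙 X)).left (lift (𝟙 X) (𝟙 X)).left) :=
    isClosedImmersion_of_fibres _ htriv
  haveI : Mono (GIT.psi a (𝟙 X)) := mono_psi_of_mono_st a inferInstance
  infer_instance

end Groth.Agent.Helper17.AG1
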