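import Mathlib
import Groth.Prelude.Def_Magnet4

/-!
# Schematic density of `A(M)_S × T → A(N)_S × T` for an injective monoid map `N → M` (helper17)

Two morphisms from `A(N)_S ×_S T` to a separated `S`-scheme which agree after precomposition with
`A(M)_S ×_S T → A(N)_S ×_S T` are equal.  Consequences: the attractor maps are monomorphisms.
-/

set_option autoImplicit false
universe u
open CategoryTheory Limits MonoidalCategory CartesianMonoidalCategory MonObj AlgebraicGeometry Opposite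
open TensorProduct

noncomputable section
namespace Groth.Agent.Helper17.AG9

/-! ### closed immersions through which a map with injective global sections factors -/

theorem isIso_of_factors_affine {W W' E : Scheme.{u}} [IsAffine W] (n : W' ⟶ W) (e : E ⟶ W)
    [IsClosedImmersion e] (n₀ : W' ⟶ E) (hn : n₀ ≫ e = n)
    (hinj : Function.Injective n.appTop.hom) : IsIso e := by
  rw [IsClosedImmersion.isIso_iff_ker_eq_bot]
  have h1 : e.ker ≤ n.ker := by
    rw [← hn]; exact Scheme.Hom.le_ker_comp n₀ e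
  have h2 : n.ker = ⊥ := by
    rw [Scheme.ker_of_isAffine]
    apply Scheme.IdealSheafData.ext_of_isAffine
    simp [(RingHom.injective_iff_ker_eq_bot _).mp hinj]
  rw [h2] at h1
  exact le_bot_iff.mp h1

theorem isIso_of_factors {Z Z' E : Scheme.{u}} (m : Z' ⟶ Z) (e : E ⟶ Z) [IsClosedImmersion e]
    (m₀ : Z' ⟶ E) (hm : m₀ ≫ e = m) (𝒰 : Z.OpenCover) [∀ i, IsAffine (𝒰.X i)]
    (hinj : ∀ i, Function.Injective (pullback.snd m (𝒰.f i)).appTop.hom) : IsIso e := by
  show MorphismProperty.isomorphisms Scheme e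
  rw [IsZariskiLocalAtTarget.iff_of_openCover (P := MorphismProperty.isomorphisms Scheme) 𝒰]
  intro i
  show IsIso (pullback.snd e (𝒰.f i))
  have hw : (pullback.fst m (𝒰.f i) ≫ m₀) ≫ e = pullback.snd m (𝒰.f i) ≫ 𝒰.f i := by
    rw [Category.assoc, hm, pullback.condition]
  exact isIso_of_factors_affine (pullback.snd m (𝒰.f i)) (pullback.snd e (𝒰.f i))
    (pullback.lift (pullback.fst m (𝒰.f i) ≫ m₀) (pullback.snd m (𝒰.f i)) hw)
    (pullback.lift_snd _ _ _) (hinj i)

theorem appTop_injective_of_iso {X Y X' Y' : Scheme.{u}} (f : X ⟶ Y) (f' : X' ⟶ Y') (a : X ≅ X')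
    (b : Y ≅ Y') (h : a.hom ≫ f' = f ≫ b.hom) (hf' : Function.Injective f'.appTop.hom) :
    Function.Injective f.appTop.hom := by
  have e : b.hom.appTop ≫ f.appTop = f'.appTop ≫ a.hom.appTop := by
    rw [← Scheme.Hom.comp_appTop, ← Scheme.Hom.comp_appTop, h]
  haveI : IsIso a.hom.appTop := ⟨⟨a.inv.appTop, by
    rw [← Scheme.Hom.comp_appTop, a.inv_hom_id]; rfl, by
    rw [← Scheme.Hom.comp_appTop, a.hom_inv_id]; rfl⟩⟩
  haveI : IsIso b.hom.appTop := ⟨⟨b.inv.appTop, by
    rw [← Scheme.Hom.comp_appTop, b.inv_hom_id]; rfl, by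
    rw [← Scheme.Hom.comp_appTop, b.hom_inv_id]; rfl⟩⟩
  have h1 : Function.Injective (f.appTop.hom ∘ b.hom.appTop.hom) := by
    have h2 : (f.appTop.hom ∘ b.hom.appTop.hom) = (a.hom.appTop.hom ∘ f'.appTop.hom) := by
      funext z
      exact congrArg (fun t => t.hom z) e
    rw [h2]
    exact (ConcreteCategory.bijective_of_isIso a.hom.appTop).1.comp hf'
  exact Function.Injective.of_comp_right h1 (ConcreteCategory.bijective_of_isIso b.hom.appTop).2

/-! ### the algebra: `R₀[N] ⊗ B → R₀[M] ⊗ B` is injective -/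

theorem mapDomain_tensor_injective (R₀ B : Type u) [CommRing R₀] [CommRing B] [Algebra R₀ B]
    {N M : Type} [AddCommMonoid N] [AddCommMonoid M] (f : N →+ M) (hf : Function.Injective f) :
    Function.Injective (Algebra.TensorProduct.map
      (MonoidAlgebra.mapDomainBialgHom R₀ (AddMonoidHom.toMultiplicative f)).toAlgHom
      (AlgHom.id R₀ B)) := by
  have hf' : Function.Injective (AddMonoidHom.toMultiplicative f) := fun x y h => hf h
  let ρ : MonoidAlgebra R₀ (Multiplicative M) →ₗ[R₀] MonoidAlgebra R₀ (Multiplicative N) :=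
    (MonoidAlgebra.coeffLinearEquiv R₀).symm.toLinearMap ∘ₗ
      Finsupp.lcomapDomain (AddMonoidHom.toMultiplicative f) hf' ∘ₗ
      (MonoidAlgebra.coeffLinearEquiv R₀).toLinearMap
  have hρ : ∀ x : MonoidAlgebra R₀ (Multiplicative N),
      ρ ((MonoidAlgebra.mapDomainBialgHom R₀ (AddMonoidHom.toMultiplicative f)).toAlgHom x) = x := by
    intro x
    have h1 : ((MonoidAlgebra.mapDomainBialgHom R₀ (AddMonoidHom.toMultiplicative f)).toAlgHom x).coeff =
        Finsupp.mapDomain (AddMonoidHom.toMultiplicative f) x.coeff := rfl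
    have h2 : ρ ((MonoidAlgebra.mapDomainBialgHom R₀ (AddMonoidHom.toMultiplicative f)).toAlgHom x) =
        MonoidAlgebra.ofCoeff (Finsupp.comapDomain (AddMonoidHom.toMultiplicative f)
          ((MonoidAlgebra.mapDomainBialgHom R₀ (AddMonoidHom.toMultiplicative f)).toAlgHom x).coeff
          hf'.injOn) := rfl
    rw [h2, h1, Finsupp.comapDomain_mapDomain _ hf']
  have key : ∀ z : MonoidAlgebra R₀ (Multiplicative N) ⊗[R₀] B,
      (LinearMap.rTensor B ρ) (Algebra.TensorProduct.map
        (MonoidAlgebra.mapDomainBialgHom R₀ (AddMonoidHom.toMultiplicative f)).toAlgHom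
        (AlgHom.id R₀ B) z) = z := by
    intro z
    induction z using TensorProduct.induction_on with
    | zero => simp
    | tmul a b =>
      rw [Algebra.TensorProduct.map_tmul, LinearMap.rTensor_tmul, hρ]
      rfl
    | add x y hx hy => rw [map_add, map_add, hx, hy]
  exact Function.LeftInverse.injective key

/-! ### the affine computation -/

theorem affine_injective (R₀ A C B : Type u) [CommRing R₀] [CommRing A] [CommRing C] [CommRing B]
    [Algebra R₀ A] [Algebra R₀ C] [Algebra R₀ B] (j0 : A →ₐ[R₀] C)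
    (hj : Function.Injective (Algebra.TensorProduct.map j0 (AlgHom.id R₀ B)))
    {W W' : Scheme.{u}} (σ : Spec (CommRingCat.of A) ⟶ Spec (CommRingCat.of R₀))
    (β : Spec (CommRingCat.of B) ⟶ Spec (CommRingCat.of R₀))
    (hσ : σ = Spec.map (CommRingCat.ofHom (algebraMap R₀ A)))
    (hβ : β = Spec.map (CommRingCat.ofHom (algebraMap R₀ B)))
    (hW : W ⟶ Spec (CommRingCat.of A)) (qW : W ⟶ Spec (CommRingCat.of B))
    (sq1 : IsPullback hW qW σ β)
    (hW' : W' ⟶ Spec (CommRingCat.of C)) (n : W' ⟶ W)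
    (sq2 : IsPullback hW' n (Spec.map (CommRingCat.ofHom j0.toRingHom)) hW) :
    IsAffine W ∧ Function.Injective n.appTop.hom := by
  subst hσ hβ
  have sqA := isPullback_SpecMap_of_isPushout _ _ _ _ (CommRingCat.isPushout_tensorProduct R₀ A B)
  have sqC := isPullback_SpecMap_of_isPushout _ _ _ _ (CommRingCat.isPushout_tensorProduct R₀ C B)
  have hcomp : Spec.map (CommRingCat.ofHom j0.toRingHom) ≫
      Spec.map (CommRingCat.ofHom (algebraMap R₀ A)) =
      Spec.map (CommRingCat.ofHom (algebraMap R₀ C)) := by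
    rw [← Spec.map_comp, ← CommRingCat.ofHom_comp]
    congr 2
    exact j0.comp_algebraMap
  have sqW' : IsPullback hW' (n ≫ qW) (Spec.map (CommRingCat.ofHom (algebraMap R₀ C)))
      (Spec.map (CommRingCat.ofHom (algebraMap R₀ B))) := by
    rw [← hcomp]
    exact sq2.paste_vert sq1
  obtain ⟨aL, haL⟩ : ∃ aL : CommRingCat.of A ⟶ CommRingCat.of (A ⊗[R₀] B),
      aL = CommRingCat.ofHom Algebra.TensorProduct.includeLeftRingHom := ⟨_, rfl⟩
  obtain ⟨aR, haR⟩ : ∃ aR : CommRingCat.of B ⟶ CommRingCat.of (A ⊗[R₀] B),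
      aR = CommRingCat.ofHom (Algebra.TensorProduct.includeRight (R := R₀) (A := A) (B := B)).toRingHom :=
    ⟨_, rfl⟩
  obtain ⟨cL, hcL⟩ : ∃ cL : CommRingCat.of C ⟶ CommRingCat.of (C ⊗[R₀] B),
      cL = CommRingCat.ofHom Algebra.TensorProduct.includeLeftRingHom := ⟨_, rfl⟩
  obtain ⟨cR, hcR⟩ : ∃ cR : CommRingCat.of B ⟶ CommRingCat.of (C ⊗[R₀] B),
      cR = CommRingCat.ofHom (Algebra.TensorProduct.includeRight (R := R₀) (A := C) (B := B)).toRingHom :=
    ⟨_, rfl⟩
  obtain ⟨τ, hτ⟩ : ∃ τ : CommRingCat.of (A ⊗[R₀] B) ⟶ CommRingCat.of (C ⊗[R₀] B),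
      τ = CommRingCat.ofHom (Algebra.TensorProduct.map j0 (AlgHom.id R₀ B)).toRingHom := ⟨_, rfl⟩
  obtain ⟨jj, hjj⟩ : ∃ jj : CommRingCat.of A ⟶ CommRingCat.of C,
      jj = CommRingCat.ofHom j0.toRingHom := ⟨_, rfl⟩
  rw [← haL, ← haR] at sqA
  rw [← hcL, ← hcR] at sqC
  rw [← hjj] at sq2
  have r1 : aL ≫ τ = jj ≫ cL := by
    rw [haL, hτ, hjj, hcL]
    ext a
    simp
  have r2 : aR ≫ τ = cR := by
    rw [haR, hτ, hcR]
    ext b
    simp
  have hW1 : (sq1.isoIsPullback _ _ sqA).hom ≫ Spec.map aL = hW := sq1.isoIsPullback_hom_fst _ _ sqA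
  have hW2 : (sq1.isoIsPullback _ _ sqA).hom ≫ Spec.map aR = qW := sq1.isoIsPullback_hom_snd _ _ sqA
  have hW'1 : (sqW'.isoIsPullback _ _ sqC).hom ≫ Spec.map cL = hW' :=
    sqW'.isoIsPullback_hom_fst _ _ sqC
  have hW'2 : (sqW'.isoIsPullback _ _ sqC).hom ≫ Spec.map cR = n ≫ qW :=
    sqW'.isoIsPullback_hom_snd _ _ sqC
  have key : (sqW'.isoIsPullback _ _ sqC).hom ≫ Spec.map τ = n ≫ (sq1.isoIsPullback _ _ sqA).hom := by
    apply sqA.hom_ext
    · calc ((sqW'.isoIsPullback _ _ sqC).hom ≫ Spec.map τ) ≫ Spec.map aL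
          = (sqW'.isoIsPullback _ _ sqC).hom ≫ Spec.map (aL ≫ τ) := by
            rw [Category.assoc, Spec.map_comp]
        _ = ((sqW'.isoIsPullback _ _ sqC).hom ≫ Spec.map cL) ≫ Spec.map jj := by
            rw [r1, Spec.map_comp, Category.assoc]
        _ = hW' ≫ Spec.map jj := by rw [hW'1]
        _ = n ≫ hW := sq2.w
        _ = (n ≫ (sq1.isoIsPullback _ _ sqA).hom) ≫ Spec.map aL := by rw [Category.assoc, hW1]
    · calc ((sqW'.isoIsPullback _ _ sqC).hom ≫ Spec.map τ) ≫ Spec.map aR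
          = (sqW'.isoIsPullback _ _ sqC).hom ≫ Spec.map (aR ≫ τ) := by
            rw [Category.assoc, Spec.map_comp]
        _ = n ≫ qW := by rw [r2, hW'2]
        _ = (n ≫ (sq1.isoIsPullback _ _ sqA).hom) ≫ Spec.map aR := by rw [Category.assoc, hW2]
  have hτinj : Function.Injective (Spec.map τ).appTop.hom := by
    have hnat := Scheme.ΓSpecIso_naturality τ
    have h3 : (Spec.map τ).appTop = (Scheme.ΓSpecIso _).hom ≫ τ ≫ (Scheme.ΓSpecIso _).inv := by
      rw [← Category.assoc, ← hnat, Category.assoc, Iso.hom_inv_id, Category.comp_id]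
    rw [h3]
    simp only [CommRingCat.hom_comp, RingHom.coe_comp]
    refine ((ConcreteCategory.bijective_of_isIso (Scheme.ΓSpecIso _).inv).1.comp ?_).comp
      (ConcreteCategory.bijective_of_isIso (Scheme.ΓSpecIso _).hom).1
    rw [hτ]
    exact hj
  refine ⟨?_, appTop_injective_of_iso n (Spec.map τ) (sqW'.isoIsPullback _ _ sqC)
    (sq1.isoIsPullback _ _ sqA) key hτinj⟩
  exact IsAffine.of_isIso (sq1.isoIsPullback _ _ sqA).hom


/-! ### pullback squares -/

theorem isPullback_whiskerRight_fst {C : Type*} [Category C] [CartesianMonoidalCategory C]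
    {X Y : C} (f : X ⟶ Y) (T : C) : IsPullback (fst X T) (f ▷ T) f (fst Y T) := by
  have w : fst X T ≫ f = (f ▷ T) ≫ fst Y T := by simp
  refine IsPullback.mk ⟨w⟩ ⟨PullbackCone.IsLimit.mk w
    (fun s => lift s.fst (s.snd ≫ snd Y T)) ?_ ?_ ?_⟩
  · intro s
    simp
  · intro s
    apply CartesianMonoidalCategory.hom_ext
    · simp [s.condition]
    · simp
  · intro s m h1 h2
    apply CartesianMonoidalCategory.hom_ext
    · simp [← h1]
    · simp [← h2]

theorem isPullback_overPullback_map {B B' : Scheme.{u}} (g : B' ⟶ B) {Y₁ Y₂ : Over B}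
    (φ : Y₁ ⟶ Y₂) :
    IsPullback (pullback.fst Y₁.hom g) ((Over.pullback g).map φ).left φ.left
      (pullback.fst Y₂.hom g) := by
  have t := IsPullback.of_hasPullback Y₂.hom g
  have h1 : ((Over.pullback g).map φ).left ≫ pullback.snd Y₂.hom g = pullback.snd Y₁.hom g :=
    pullback.lift_snd _ _ _
  have h0 : pullback.fst Y₁.hom g ≫ φ.left = ((Over.pullback g).map φ).left ≫ pullback.fst Y₂.hom g :=
    (pullback.lift_fst _ _ _).symm
  have s : IsPullback (pullback.fst Y₁.hom g)
      (((Over.pullback g).map φ).left ≫ pullback.snd Y₂.hom g) (φ.left ≫ Y₂.hom) g := by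
    have h2 : φ.left ≫ Y₂.hom = Y₁.hom := Over.w φ
    rw [h1, h2]
    exact IsPullback.of_hasPullback Y₁.hom g
  exact IsPullback.of_bot s h0 t

/-! ### the main extension lemma -/

variable {N M : Type} [AddCommMonoid N] [AddCommMonoid M]

theorem ext_of_whiskerRight_map (S : Scheme.{u}) (f : N →+ M) (hf : Function.Injective f)
    (T X : Over S) [IsSeparated X.hom] (u v : Magnet.AMonS S N ⊗ T ⟶ X)
    (h : (Magnet.AMonS.map S f ▷ T) ≫ u = (Magnet.AMonS.map S f ▷ T) ≫ v) : u = v := by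
  have hfac : (equalizer.lift (Magnet.AMonS.map S f ▷ T) h).left ≫ (equalizer.ι u v).left =
      (Magnet.AMonS.map S f ▷ T).left := by
    rw [← Over.comp_left, equalizer.lift_ι]
  let 𝒯a := T.left.affineOpenCover
  let 𝒰 : (Magnet.AMonS S N ⊗ T).left.OpenCover :=
    𝒯a.openCover.pullback₁ (snd (Magnet.AMonS S N) T).left
  have key : ∀ i, IsAffine (𝒰.X i) ∧ Function.Injective
      (pullback.snd (Magnet.AMonS.map S f ▷ T).left (𝒰.f i)).appTop.hom := by
    intro i
    letI : Algebra (ULift.{u} ℤ) (𝒯a.X i) :=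
      RingHom.toAlgebra ((Int.castRingHom (𝒯a.X i)).comp
        (ULift.ringEquiv : ULift.{u} ℤ ≃+* ℤ).toRingHom)
    refine affine_injective (ULift.{u} ℤ) (MonoidAlgebra (ULift.{u} ℤ) (Multiplicative N))
      (MonoidAlgebra (ULift.{u} ℤ) (Multiplicative M)) (𝒯a.X i)
      (MonoidAlgebra.mapDomainBialgHom (ULift.{u} ℤ) (AddMonoidHom.toMultiplicative f)).toAlgHom
      (mapDomain_tensor_injective _ _ f hf)
      (Magnet.AMon (ULift.{u} ℤ) N).hom
      (𝒯a.f i ≫ T.hom ≫ IsTerminal.from specULiftZIsTerminal S)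
      (specULiftZIsTerminal.hom_ext _ _) (specULiftZIsTerminal.hom_ext _ _)
      (pullback.fst (snd (Magnet.AMonS S N) T).left (𝒯a.f i) ≫ (fst (Magnet.AMonS S N) T).left ≫
        pullback.fst (Magnet.AMon (ULift.{u} ℤ) N).hom (IsTerminal.from specULiftZIsTerminal S))
      (pullback.snd (snd (Magnet.AMonS S N) T).left (𝒯a.f i))
      ?_
      (pullback.fst (Magnet.AMonS.map S f ▷ T).left (𝒰.f i) ≫ (fst (Magnet.AMonS S M) T).left ≫
        pullback.fst (Magnet.AMon (ULift.{u} ℤ) M).hom (IsTerminal.from specULiftZIsTerminal S))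
      (pullback.snd (Magnet.AMonS.map S f ▷ T).left (𝒰.f i))
      ?_
    · have s1 := IsPullback.of_hasPullback (snd (Magnet.AMonS S N) T).left (𝒯a.f i)
      have s2 : IsPullback (fst (Magnet.AMonS S N) T).left (snd (Magnet.AMonS S N) T).left
          (Magnet.AMonS S N).hom T.hom := by
        rw [Over.fst_left, Over.snd_left]
        exact IsPullback.of_hasPullback _ _
      have s3 := IsPullback.of_hasPullback (Magnet.AMon (ULift.{u} ℤ) N).hom
        (IsTerminal.from specULiftZIsTerminal S)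
      exact s1.paste_horiz (s2.paste_horiz s3)
    · have t1 := IsPullback.of_hasPullback (Magnet.AMonS.map S f ▷ T).left (𝒰.f i)
      have t2 := (isPullback_whiskerRight_fst (Magnet.AMonS.map S f) T).map (Over.forget S)
      have t3 := isPullback_overPullback_map (IsTerminal.from specULiftZIsTerminal S)
        (Magnet.AMon.map (ULift.{u} ℤ) f)
      exact t1.paste_horiz (t2.paste_horiz t3)
  haveI : ∀ i, IsAffine (𝒰.X i) := fun i => (key i).1
  haveI := isIso_of_factors _ (equalizer.ι u v).left _ hfac 𝒰 (fun i => (key i).2)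
  apply Over.OverMorphism.ext
  rw [← cancel_epi (equalizer.ι u v).left, ← Over.comp_left, ← Over.comp_left,
    equalizer.condition]

/-! ### attractors -/

section Attr
variable {S : Scheme.{u}} {M : Type} [AddCommMonoid M] {X : Over S}

theorem whisker_comp_eq_orbit (a : Magnet.MonAct (Magnet.AMonS S M) X) (N : AddSubmonoid M)
    (T : Over S) (φ : (Magnet.attr a N).obj (op T)) :
    (Magnet.AMonS.map S N.subtype ▷ T) ≫ φ.1 =
      lift (fst (Magnet.AMonS S M) T)
        (snd (Magnet.AMonS S M) T ≫ (Magnet.attrToX a N).app (op T) φ) ≫ a.act := by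
  have h := (Magnet.MonAct.mem_eqvHom_iff φ.1).mp φ.2 (Magnet.AMonS S M ⊗ T)
    (fst (Magnet.AMonS S M) T) (toUnit _ ≫ η[Magnet.AMonS S ↥N]) (snd (Magnet.AMonS S M) T)
  have e1 : lift (fst (Magnet.AMonS S M) T) (toUnit _ ≫ η[Magnet.AMonS S ↥N]) ≫
      (Magnet.subAct S M N).act = fst (Magnet.AMonS S M) T ≫ Magnet.AMonS.map S N.subtype := by
    unfold Magnet.subAct
    rw [Magnet.MonAct.lift_restrict_act, Magnet.MonAct.lift_regular_act, ← Hom.one_def,
      _root_.mul_one]
  have e2 : Magnet.AMonS.map S N.subtype ▷ T =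
      lift (fst (Magnet.AMonS S M) T ≫ Magnet.AMonS.map S N.subtype)
        (snd (Magnet.AMonS S M) T) := by
    apply CartesianMonoidalCategory.hom_ext <;> simp
  have e3 : lift (toUnit (Magnet.AMonS S M ⊗ T) ≫ η[Magnet.AMonS S ↥N])
      (snd (Magnet.AMonS S M) T) =
      snd (Magnet.AMonS S M) T ≫ lift (toUnit T ≫ η[Magnet.AMonS S ↥N]) (𝟙 T) := by
    rw [comp_lift, Category.comp_id, ← Category.assoc, comp_toUnit]
  rw [e2, ← e1, h, e3, Category.assoc]
  rfl

theorem attrToX_injective [IsSeparated X.hom] (a : Magnet.MonAct (Magnet.AMonS S M) X)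
    (N : AddSubmonoid M) (T : Over S) (φ ψ : (Magnet.attr a N).obj (op T))
    (h : (Magnet.attrToX a N).app (op T) φ = (Magnet.attrToX a N).app (op T) ψ) : φ = ψ := by
  apply Subtype.ext
  apply ext_of_whiskerRight_map S N.subtype Subtype.val_injective T X
  rw [whisker_comp_eq_orbit, whisker_comp_eq_orbit, h]

end Attr

theorem main18285 (S : Scheme.{u}) (M : Type) [AddCommMonoid M]
    (X : Over S) [IsSeparated X.hom] (a : Magnet.MonAct (Magnet.AMonS S M) X) (N : AddSubmonoid M) (T : Over S) :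
    Function.Injective (fun φ => (Magnet.attrToX a N).app (op T) φ) := by
  intro φ ψ h
  exact attrToX_injective a N T φ ψ h

theorem main18284 (S : Scheme.{u}) (M : Type) [AddCommMonoid M]
    (X : Over S) [IsSeparated X.hom] (a : Magnet.MonAct (Magnet.AMonS S M) X) {N N' : AddSubmonoid M}
    (h : N ≤ N') (T : Over S) :
    Function.Injective (fun φ => (Magnet.attrMap a h).app (op T) φ) := by
  intro φ ψ hφψ
  apply Subtype.ext
  apply ext_of_whiskerRight_map S (AddSubmonoid.inclusion h) (AddSubmonoid.inclusion_injective h) T X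
  exact congrArg Subtype.val hφψ

end Groth.Agent.Helper17.AG9
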