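import Mathlib
import Groth.Prelude.Def_Magnet4
import Groth.Agent.Lib.Helper17.AG9

/-!
# Change of monoid for attractors of separated schemes along an injective map to a group (helper17)
-/

set_option autoImplicit false
universe u
open CategoryTheory Limits MonoidalCategory CartesianMonoidalCategory MonObj AlgebraicGeometry Opposite
open Groth.Agent.Helper17.AG9

noncomputable section
namespace Groth.Agent.Helper17.AG10

theorem AMon_map_id (R : Type u) [CommRing R] (N : Type) [AddCommMonoid N] :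
    Magnet.AMon.map R (AddMonoidHom.id N) = 𝟙 (Magnet.AMon R N) := by
  ext : 1
  rw [Magnet.AMon.map_left]
  change Spec.map _ = 𝟙 _
  rw [← Spec.map_id]
  congr 1
  rw [← CommRingCat.ofHom_id]
  congr 1
  apply MonoidAlgebra.ringHom_ext
  · intro r; simp
  · intro m; simp

theorem AMonS_map_id (S : Scheme.{u}) (N : Type) [AddCommMonoid N] :
    Magnet.AMonS.map S (AddMonoidHom.id N) = 𝟙 (Magnet.AMonS S N) := by
  rw [Magnet.AMonS.map, AMon_map_id, CategoryTheory.Functor.map_id]

theorem hom_ext_lift₂₁ {C : Type*} [Category C] [CartesianMonoidalCategory C] {P Q R Z : C}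
    {f g : P ⊗ (Q ⊗ R) ⟶ Z}
    (h : ∀ (T : C) (p : T ⟶ P) (q : T ⟶ Q) (r : T ⟶ R),
      lift p (lift q r) ≫ f = lift p (lift q r) ≫ g) : f = g := by
  apply Magnet.hom_ext_lift₂
  intro T p q
  have := h T p (q ≫ fst _ _) (q ≫ snd _ _)
  rwa [lift_comp_fst_snd] at this

theorem main18288 (S : Scheme.{u}) (M Z : Type) [AddCommMonoid M]
    [AddCommGroup Z] (f : M →+ Z) (hf : Function.Injective f) (Y : AddSubmonoid Z)
    (hY : Y ≤ AddMonoidHom.mrange f) (X : Over S) [IsSeparated X.hom]
    (a : Magnet.MonAct (Magnet.AMonS S M) X) :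
    IsIso (Magnet.attrComap a f Y) := by
  obtain ⟨c, hc⟩ : ∃ c : ↥(Y.comap f) →+ ↥Y,
      c = (f.comp (Y.comap f).subtype).codRestrict Y (fun x => x.2) := ⟨_, rfl⟩
  have hcv : ∀ x : ↥(Y.comap f), (c x : Z) = f (x : M) := by
    intro x; rw [hc]; rfl
  have hcinj : Function.Injective c := by
    intro x x' hxx
    apply Subtype.ext
    apply hf
    rw [← hcv, ← hcv, hxx]
  have hcsurj : Function.Surjective c := by
    intro y
    obtain ⟨m, hm⟩ := hY y.2
    have hmY : f m ∈ Y := by rw [hm]; exact y.2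
    refine ⟨⟨m, hmY⟩, ?_⟩
    apply Subtype.ext
    rw [hcv]
    exact hm
  obtain ⟨s, hs⟩ : ∃ s : ↥Y →+ ↥(Y.comap f),
      s = (AddEquiv.ofBijective c ⟨hcinj, hcsurj⟩).symm.toAddMonoidHom := ⟨_, rfl⟩
  have hcs : ∀ y : ↥Y, c (s y) = y := by
    intro y
    rw [hs]
    exact (AddEquiv.ofBijective c ⟨hcinj, hcsurj⟩).apply_symm_apply y
  have h1 : c.comp s = AddMonoidHom.id ↥Y := by
    ext y
    rw [AddMonoidHom.comp_apply, hcs]
    rfl
  have h2 : f.comp ((Y.comap f).subtype.comp s) = Y.subtype := by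
    ext y
    show f ((s y : ↥(Y.comap f)) : M) = (y : Z)
    rw [← hcv, hcs]
  have m1 : Magnet.AMonS.map S c ≫ Magnet.AMonS.map S s = 𝟙 _ := by
    rw [← Magnet.AMonS.map_comp, h1, AMonS_map_id]
  have m2 : Magnet.AMonS.map S f ≫ Magnet.AMonS.map S (Y.comap f).subtype ≫ Magnet.AMonS.map S s =
      Magnet.AMonS.map S Y.subtype := by
    rw [← Magnet.AMonS.map_comp, ← Magnet.AMonS.map_comp, h2]
  haveI : ∀ T, IsIso ((Magnet.attrComap a f Y).app T) := by
    intro T
    rw [isIso_iff_bijective]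
    constructor
    · intro φ φ' hφ
      apply Subtype.ext
      apply ext_of_whiskerRight_map S c hcinj (unop T) X
      have := congrArg Subtype.val hφ
      rw [hc]
      exact this
    · intro ψ
      have hψ := (Magnet.MonAct.mem_eqvHom_iff ψ.1).mp ψ.2
      have heq : Magnet.MonAct.IsEquivariant
          ((Magnet.subAct S M (Y.comap f)).prod (Magnet.MonAct.trivial _ (unop T))) a
          ((Magnet.AMonS.map S s ▷ unop T) ≫ ψ.1) := by
        unfold Magnet.MonAct.IsEquivariant
        apply ext_of_whiskerRight_map S f hf (Magnet.AMonS S ↥(Y.comap f) ⊗ unop T) X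
        apply hom_ext_lift₂₁
        intro T' g' b t
        have e0 : (lift (g' ≫ Magnet.AMonS.map S f) b ≫ (Magnet.subAct S M (Y.comap f)).act) ≫
            Magnet.AMonS.map S s =
            lift g' (b ≫ Magnet.AMonS.map S s) ≫ (Magnet.subAct S Z Y).act := by
          unfold Magnet.subAct
          rw [Magnet.MonAct.lift_restrict_act, Magnet.MonAct.lift_regular_act,
            Magnet.MonAct.lift_restrict_act, Magnet.MonAct.lift_regular_act, MonObj.mul_comp,
            Category.assoc, Category.assoc, m2]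
        have L : lift g' (lift b t) ≫ (Magnet.AMonS.map S f ▷ _) ≫
            ((Magnet.subAct S M (Y.comap f)).prod (Magnet.MonAct.trivial _ (unop T))).act ≫
            (Magnet.AMonS.map S s ▷ unop T) ≫ ψ.1 =
            lift (g' ≫ Magnet.AMonS.map S f) (lift (b ≫ Magnet.AMonS.map S s) t ≫ ψ.1) ≫ a.act := by
          rw [lift_whiskerRight_assoc, Magnet.MonAct.lift_prod_act_assoc,
            Magnet.MonAct.lift_trivial_act, lift_whiskerRight_assoc, e0, hψ,
            Magnet.MonAct.lift_restrict_act]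
        have R : lift g' (lift b t) ≫ (Magnet.AMonS.map S f ▷ _) ≫
            (Magnet.AMonS S M ◁ ((Magnet.AMonS.map S s ▷ unop T) ≫ ψ.1)) ≫ a.act =
            lift (g' ≫ Magnet.AMonS.map S f) (lift (b ≫ Magnet.AMonS.map S s) t ≫ ψ.1) ≫ a.act := by
          rw [lift_whiskerRight_assoc, lift_whiskerLeft_assoc, lift_whiskerRight_assoc]
        rw [L, R]
      refine ⟨⟨(Magnet.AMonS.map S s ▷ unop T) ≫ ψ.1, heq⟩, Subtype.ext ?_⟩
      show (Magnet.AMonS.map S ((f.comp (Y.comap f).subtype).codRestrict Y (fun x => x.2)) ▷ unop T) ≫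
        (Magnet.AMonS.map S s ▷ unop T) ≫ ψ.1 = ψ.1
      rw [← hc, ← comp_whiskerRight_assoc, m1, id_whiskerRight, Category.id_comp]
  exact NatIso.isIso_of_isIso_app _

end Groth.Agent.Helper17.AG10
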