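import Mathlib
import Groth.Prelude.Def_HMNum
import Groth.Agent.Lib.Helper17.AG9

/-!
# Limits under a one-parameter subgroup: uniqueness, fixedness of the limit (helper17)
-/

set_option autoImplicit false
universe u
open CategoryTheory Limits MonoidalCategory CartesianMonoidalCategory MonObj AlgebraicGeometry Opposite
open Groth.Agent.Helper17.AG9

noncomputable section
namespace Groth.Agent.Helper17.AG11

/-! ### `A({0})_S` is terminal-like -/

theorem isIso_AMon_hom_of_subsingleton (R : Type u) [CommRing R] (N : Type) [AddCommMonoid N]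
    [Subsingleton N] : IsIso (Magnet.AMon R N).hom := by
  haveI : Subsingleton (Multiplicative N) :=
    ⟨fun a b => congrArg Multiplicative.ofAdd
      (Subsingleton.elim (Multiplicative.toAdd a) (Multiplicative.toAdd b))⟩
  have hb : Function.Bijective (algebraMap R (MonoidAlgebra R (Multiplicative N))) := by
    have h1 : ⇑(algebraMap R (MonoidAlgebra R (Multiplicative N))) =
        ⇑(MonoidAlgebra.uniqueRingEquiv (R := R) (Multiplicative N)).symm := by
      funext r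
      rw [MonoidAlgebra.uniqueRingEquiv_symm_apply]
      rfl
    rw [h1]
    exact (MonoidAlgebra.uniqueRingEquiv (R := R) (Multiplicative N)).symm.bijective
  haveI : IsIso (CommRingCat.ofHom (algebraMap R (MonoidAlgebra R (Multiplicative N)))) :=
    (ConcreteCategory.isIso_iff_bijective _).mpr hb
  show IsIso (Spec.map (CommRingCat.ofHom (algebraMap R (MonoidAlgebra R (Multiplicative N)))))
  infer_instance

theorem hom_ext_AMonS_bot (S : Scheme.{u}) {T' : Over S}
    (w w' : T' ⟶ Magnet.AMonS S ↥(⊥ : AddSubmonoid ℤ)) : w = w' := by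
  haveI : Subsingleton ↥(⊥ : AddSubmonoid ℤ) :=
    ⟨fun a b => Subtype.ext ((AddSubmonoid.mem_bot.mp a.2).trans (AddSubmonoid.mem_bot.mp b.2).symm)⟩
  haveI : IsIso (Magnet.AMon (ULift.{u} ℤ) ↥(⊥ : AddSubmonoid ℤ)).hom :=
    isIso_AMon_hom_of_subsingleton _ _
  haveI : IsIso (Magnet.AMonS S ↥(⊥ : AddSubmonoid ℤ)).hom := by
    show IsIso (pullback.snd (Magnet.AMon (ULift.{u} ℤ) ↥(⊥ : AddSubmonoid ℤ)).hom
      (IsTerminal.from specULiftZIsTerminal S))
    infer_instance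
  apply Over.OverMorphism.ext
  rw [← cancel_mono (Magnet.AMonS S ↥(⊥ : AddSubmonoid ℤ)).hom, Over.w, Over.w]

/-- the origin of the affine line is absorbing for the multiplicative group -/
theorem incl_mul_origin (S : Scheme.{u}) {T' : Over S} (g : T' ⟶ Red.Gm S) :
    (g ≫ HMNum.incl S) * (toUnit T' ≫ HMNum.origin S) = toUnit T' ≫ HMNum.origin S := by
  have h := (Magnet.MonAct.isEquivariant_iff _ _ _).mp
    (Magnet.isEquivariant_faceMapS S HMNum.isFace_bot) T' g
    (toUnit T' ≫ η[Magnet.AMonS S ↥(⊥ : AddSubmonoid ℤ)])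
  have e1 : lift g (toUnit T' ≫ η[Magnet.AMonS S ↥(⊥ : AddSubmonoid ℤ)]) ≫
      (Magnet.subAct S ℤ ⊥).act = toUnit T' ≫ η[Magnet.AMonS S ↥(⊥ : AddSubmonoid ℤ)] :=
    hom_ext_AMonS_bot S _ _
  rw [← Category.assoc, e1] at h
  unfold Magnet.subAct at h
  rw [Magnet.MonAct.lift_restrict_act, Magnet.MonAct.lift_regular_act] at h
  unfold HMNum.origin
  rw [Category.assoc] at h
  exact h.symm

variable {S : Scheme.{u}} {G X : Over S} [GrpObj G]

theorem attrPlus_ext [IsSeparated X.hom] (a : AlgGrp.Action G X) (l : Red.Gm S ⟶ G) [IsMonHom l]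
    {T : Over S} (φ ψ : (HMNum.attrPlus a l).obj (op T))
    (h : (Magnet.attrToX (HMNum.gmAct a l) HMNum.plus).app (op T) φ =
      (Magnet.attrToX (HMNum.gmAct a l) HMNum.plus).app (op T) ψ) : φ = ψ :=
  attrToX_injective (M := ℤ) (HMNum.gmAct a l) HMNum.plus T φ ψ h

theorem isLimitPt_unique [IsSeparated X.hom] (a : AlgGrp.Action G X) (l : Red.Gm S ⟶ G)
    [IsMonHom l] {T : Over S} {x y y' : T ⟶ X} (h : HMNum.IsLimitPt a l x y)
    (h' : HMNum.IsLimitPt a l x y') : y = y' := by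
  obtain ⟨φ, hφx, hφy⟩ := h
  obtain ⟨ψ, hψx, hψy⟩ := h'
  have e : φ = ψ := attrPlus_ext a l φ ψ (hφx.trans hψx.symm)
  rw [← hφy, ← hψy, e]

theorem isFixedBy_of_isLimitPt (a : AlgGrp.Action G X) (l : Red.Gm S ⟶ G) [IsMonHom l]
    {T : Over S} {x y : T ⟶ X} (h : HMNum.IsLimitPt a l x y) : HMNum.IsFixedBy a l y := by
  obtain ⟨φ, -, hφy⟩ := h
  have hφ := (Magnet.MonAct.mem_eqvHom_iff φ.1).mp φ.2
  intro T' t g
  have hy : t ≫ y = lift (toUnit T' ≫ HMNum.origin S) t ≫ φ.1 := by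
    rw [← hφy, HMNum.limitPt_eq, ← Category.assoc, comp_lift, Category.comp_id,
      comp_toUnit_assoc]
  have h1 := hφ T' g (toUnit T' ≫ HMNum.origin S) t
  have e1 : lift g (toUnit T' ≫ HMNum.origin S) ≫ (Magnet.subAct S ℤ HMNum.plus).act =
      toUnit T' ≫ HMNum.origin S := by
    unfold Magnet.subAct
    rw [Magnet.MonAct.lift_restrict_act, Magnet.MonAct.lift_regular_act]
    exact incl_mul_origin S g
  rw [e1, ← hy, Magnet.MonAct.lift_restrict_act, Magnet.MonAct.ofAction_act] at h1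
  exact h1.symm

theorem isLimitPt_self_of_isFixedBy (a : AlgGrp.Action G X) (l : Red.Gm S ⟶ G) [IsMonHom l]
    {T : Over S} {y : T ⟶ X} (h : HMNum.IsFixedBy a l y) : HMNum.IsLimitPt a l y y := by
  have heq : Magnet.MonAct.IsEquivariant
      ((Magnet.subAct S ℤ HMNum.plus).prod (Magnet.MonAct.trivial _ T)) (HMNum.gmAct a l)
      (snd (HMNum.A1 S) T ≫ y) := by
    rw [Magnet.MonAct.mem_eqvHom_iff]
    intro T' g b t
    rw [lift_snd_assoc, lift_snd_assoc]
    exact ((HMNum.isFixedBy_iff a l y).mp h T' t g).symm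
  refine ⟨⟨snd (HMNum.A1 S) T ≫ y, heq⟩, ?_, ?_⟩
  · show lift (toUnit T ≫ η[Magnet.AMonS S ↥HMNum.plus]) (𝟙 T) ≫ snd _ _ ≫ y = y
    rw [lift_snd_assoc, Category.id_comp]
  · rw [HMNum.limitPt_eq]
    show lift (toUnit T ≫ HMNum.origin S) (𝟙 T) ≫ snd _ _ ≫ y = y
    rw [lift_snd_assoc, Category.id_comp]

theorem isMu_limit_iff [IsSeparated X.hom] {a : AlgGrp.Action G X} (B : GLinSh.LinBun G a)
    (l : Red.Gm S ⟶ G) [IsMonHom l] {T : Over S} (x y : T ⟶ X) (hy : HMNum.IsLimitPt a l x y)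
    (m : ℤ) : HMNum.IsMu B l x m ↔ HMNum.IsMu B l y m := by
  have hfy := isFixedBy_of_isLimitPt a l hy
  have hyy := isLimitPt_self_of_isFixedBy a l hfy
  constructor
  · rintro ⟨y', hlim, hwt⟩
    have e : y' = y := isLimitPt_unique a l hlim hy
    rw [e] at hwt
    exact ⟨y, hyy, hwt⟩
  · rintro ⟨y'', hlim, hwt⟩
    have e : y'' = y := isLimitPt_unique a l hlim hyy
    rw [e] at hwt
    exact ⟨y, hy, hwt⟩

theorem main19787 (k : Type u) [Field k] [IsAlgClosed k]
    (G X : Over (Spec (CommRingCat.of k))) [GrpObj G] [Smooth G.hom] [QuasiCompact G.hom] [IsProper X.hom]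
    (a : AlgGrp.Action G X) (B : GLinSh.LinBun G a) (x : 𝟙_ (Over (Spec (CommRingCat.of k))) ⟶ X)
    (l : Red.Gm (Spec (CommRingCat.of k)) ⟶ G) [IsMonHom l] (y : 𝟙_ (Over (Spec (CommRingCat.of k))) ⟶ X) (hy : HMNum.IsLimitPt a l x y)
    (m : ℤ) : HMNum.IsMu B l x m ↔ HMNum.IsMu B l y m :=
  isMu_limit_iff B l x y hy m

end Groth.Agent.Helper17.AG11
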