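import Mathlib
import Groth.Prelude.Def_W4bk4git07Quot
import Groth.Prelude.Def_AlgGrp

/-!
# A geometric quotient has closed geometric orbits (helper17)
-/

set_option autoImplicit false
universe u
open CategoryTheory Limits MonoidalCategory CartesianMonoidalCategory MonObj GrpObj AlgebraicGeometry Opposite

noncomputable section
namespace Groth.Agent.Helper17.AG2

section Cart
variable {C : Type*} [Category C] [CartesianMonoidalCategory C]

theorem isPullback_whiskerLeft_snd (G : C) {T X : C} (f : T ⟶ X) :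
    IsPullback (G ◁ f) (snd G T) (snd G X) f := by
  have w : (G ◁ f) ≫ snd G X = snd G T ≫ f := by simp
  refine IsPullback.mk ⟨w⟩ ⟨PullbackCone.IsLimit.mk w (fun s => lift (s.fst ≫ fst G X) s.snd)
    ?_ ?_ ?_⟩
  · intro s
    apply CartesianMonoidalCategory.hom_ext
    · simp
    · simp [s.condition]
  · intro s
    simp
  · intro s m h1 h2
    apply CartesianMonoidalCategory.hom_ext
    · simp [← h1]
    · simp [← h2]

theorem isPullback_whiskerRight_fst {X Y : C} (φ : X ⟶ Y) (T : C) :
    IsPullback (φ ▷ T) (fst X T) (fst Y T) φ := by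
  have w : (φ ▷ T) ≫ fst Y T = fst X T ≫ φ := by simp
  refine IsPullback.mk ⟨w⟩ ⟨PullbackCone.IsLimit.mk w (fun s => lift s.snd (s.fst ≫ snd Y T))
    ?_ ?_ ?_⟩
  · intro s
    apply CartesianMonoidalCategory.hom_ext
    · simp [s.condition]
    · simp
  · intro s
    simp
  · intro s m h1 h2
    apply CartesianMonoidalCategory.hom_ext
    · simp [← h2]
    · simp [← h1]

end Cart

theorem range_snd_of_isPullback {P X Y Z : Scheme.{u}} {fst : P ⟶ X} {snd : P ⟶ Y} {f : X ⟶ Z}
    {g : Y ⟶ Z} (h : IsPullback fst snd f g) :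
    Set.range snd.base = g.base ⁻¹' Set.range f.base := by
  have h1 : snd = h.isoPullback.hom ≫ pullback.snd f g := (h.isoPullback_hom_snd).symm
  rw [h1, Scheme.Hom.comp_base, TopCat.coe_comp, Set.range_comp,
    Set.range_eq_univ.mpr h.isoPullback.hom.surjective, Set.image_univ]
  exact Scheme.Pullback.range_snd _ _

theorem isClosed_range_section {W T : Scheme.{u}} (s : T ⟶ W) (r : W ⟶ T) (hsr : s ≫ r = 𝟙 T)
    [IsAffine T] (hT : ∀ t t' : T, t = t') (t₀ : T) : IsClosed (Set.range s.base) := by
  have hrange : Set.range s.base = {s.base t₀} := by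
    ext w
    constructor
    · rintro ⟨t, rfl⟩
      rw [hT t t₀]; rfl
    · intro hw
      exact ⟨t₀, hw.symm⟩
  apply isClosed_of_closure_subset
  intro w hw
  rw [hrange] at hw
  have hzw : s.base t₀ ⤳ w := specializes_iff_mem_closure.mpr hw
  obtain ⟨U, hU, hwU, -⟩ := exists_isAffineOpen_mem_and_subset (x := w) (U := ⊤) trivial
  have hzU : s.base t₀ ∈ U := hzw.mem_open U.isOpen hwU
  have hsub : Set.range s.base ⊆ Set.range U.ι.base := by
    rw [hrange]
    have : Set.range U.ι.base = (U : Set W) := Scheme.Opens.range_ι U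
    rw [this]
    exact Set.singleton_subset_iff.mpr hzU
  haveI : IsAffine U := hU
  obtain ⟨sU, hsU⟩ : ∃ sU : T ⟶ U, sU ≫ U.ι = s :=
    ⟨IsOpenImmersion.lift U.ι s hsub, IsOpenImmersion.lift_fac _ _ _⟩
  haveI : IsClosedImmersion (sU ≫ (U.ι ≫ r)) := by
    rw [← Category.assoc, hsU, hsr]; infer_instance
  haveI : IsClosedImmersion sU := IsClosedImmersion.of_comp sU (U.ι ≫ r)
  have hcl : IsClosed (Set.range sU.base) := sU.isClosedEmbedding.isClosed_range
  have hz : U.ι.base (sU.base t₀) = s.base t₀ := by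
    rw [← hsU]; rfl
  have hspec : sU.base t₀ ⤳ (⟨w, hwU⟩ : U) := by
    rw [← U.ι.isOpenEmbedding.isInducing.specializes_iff]
    exact hz ▸ hzw
  obtain ⟨t, ht⟩ := hspec.mem_closed hcl ⟨t₀, rfl⟩
  refine ⟨t, ?_⟩
  rw [← hsU]
  change U.ι.base (sU.base t) = w
  rw [ht]; rfl

theorem singleton_of_iso_spec_field {T : Scheme.{u}} (Ω : Type u) [Field Ω]
    (e : T ≅ Spec (CommRingCat.of Ω)) : (∀ t t' : T, t = t') ∧ Nonempty T := by
  have hinj : ∀ t : T, e.inv.base (e.hom.base t) = t := by
    intro t
    exact congrArg (fun g => g.base t) e.hom_inv_id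
  constructor
  · intro t t'
    rw [← hinj t, ← hinj t']
    exact congrArg _ (Subsingleton.elim (α := PrimeSpectrum Ω) _ _)
  · exact ⟨e.inv.base (IsLocalRing.closedPoint Ω)⟩

theorem range_psi {S : Scheme.{u}} {G X Y T : Over S} [GrpObj G]
    (a : AlgGrp.Action G X) (φ : X ⟶ Y) (h : GIT.IsGeomQuot a φ) (f : T ⟶ X) (ψ : T ⟶ Y)
    (hψ : f ≫ φ = ψ) :
    Set.range (GIT.psi a f).left.base =
      (φ ▷ T).left.base ⁻¹' Set.range (lift ψ (𝟙 T)).left.base := by
  have hfψ : f.left ≫ φ.left = ψ.left := by rw [← Over.comp_left, hψ]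
  have hcond : pullback.fst φ.left ψ.left ≫ φ.left =
      pullback.snd φ.left ψ.left ≫ ψ.left := pullback.condition
  have hw1 : pullback.fst φ.left ψ.left ≫ X.hom =
      pullback.snd φ.left ψ.left ≫ T.hom := by
    rw [← Over.w φ, ← Category.assoc, hcond, Category.assoc, Over.w ψ]
  obtain ⟨fstO, hfstO⟩ : ∃ fstO : Over.mk (pullback.snd φ.left ψ.left ≫ T.hom) ⟶ X,
      fstO.left = pullback.fst φ.left ψ.left := ⟨Over.homMk _ hw1, rfl⟩
  obtain ⟨sndO, hsndO⟩ : ∃ sndO : Over.mk (pullback.snd φ.left ψ.left ≫ T.hom) ⟶ T,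
      sndO.left = pullback.snd φ.left ψ.left := ⟨Over.homMk _ rfl, rfl⟩
  have hOcond : fstO ≫ φ = sndO ≫ ψ := by
    apply Over.OverMorphism.ext
    rw [Over.comp_left, Over.comp_left, hfstO, hsndO]
    exact hcond
  -- the map `j : X ×_Y T ⟶ X ×_S T`
  have hj1 : (lift fstO sndO).left ≫ (fst X T).left = pullback.fst φ.left ψ.left := by
    rw [← Over.comp_left, lift_fst, hfstO]
  have hj2 : (lift fstO sndO).left ≫ (snd X T).left = pullback.snd φ.left ψ.left := by
    rw [← Over.comp_left, lift_snd, hsndO]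
  -- (P2): `j` is the base change of the graph
  have hP2 : IsPullback (pullback.snd φ.left ψ.left) (lift fstO sndO).left
      (lift ψ (𝟙 T)).left (φ ▷ T).left := by
    have t : IsPullback (φ ▷ T).left (fst X T).left (fst Y T).left φ.left :=
      (isPullback_whiskerRight_fst φ T).map (Over.forget S)
    have hΓ1 : (lift ψ (𝟙 T)).left ≫ (fst Y T).left = ψ.left := by
      rw [← Over.comp_left, lift_fst]
    have s : IsPullback (pullback.snd φ.left ψ.left)
        ((lift fstO sndO).left ≫ (fst X T).left)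
        ((lift ψ (𝟙 T)).left ≫ (fst Y T).left) φ.left := by
      rw [hj1, hΓ1]
      exact (IsPullback.of_hasPullback φ.left ψ.left).flip
    have p : pullback.snd φ.left ψ.left ≫ (lift ψ (𝟙 T)).left =
        (lift fstO sndO).left ≫ (φ ▷ T).left := by
      have p' : sndO ≫ lift ψ (𝟙 T) = lift fstO sndO ≫ (φ ▷ T) := by
        apply CartesianMonoidalCategory.hom_ext
        · rw [Category.assoc, lift_fst, Category.assoc, whiskerRight_fst, lift_fst_assoc, hOcond]
        · rw [Category.assoc, lift_snd, Category.comp_id, Category.assoc, whiskerRight_snd,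
            lift_snd]
      have := congrArg (fun q => q.left) p'
      simp only [Over.comp_left, hsndO] at this
      exact this
    exact IsPullback.of_bot s p t
  have hrange_j : Set.range (lift fstO sndO).left.base =
      (φ ▷ T).left.base ⁻¹' Set.range (lift ψ (𝟙 T)).left.base :=
    range_snd_of_isPullback hP2
  -- the map `psi' : G ×_S T ⟶ X ×_Y T`
  have hinv : ((G ◁ f) ≫ a.act).left ≫ φ.left = (snd G T).left ≫ ψ.left := by
    rw [← Over.comp_left, ← Over.comp_left, Category.assoc, h.inv, ← Category.assoc,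
      whiskerLeft_snd, Category.assoc, hψ]
  obtain ⟨psi', hpsi'⟩ : ∃ psi' : (G ⊗ T).left ⟶ pullback φ.left ψ.left,
      psi' = pullback.lift ((G ◁ f) ≫ a.act).left (snd G T).left hinv := ⟨_, rfl⟩
  have hpsi1 : psi' ≫ pullback.fst φ.left ψ.left = ((G ◁ f) ≫ a.act).left := by
    rw [hpsi', pullback.lift_fst]
  have hpsi2 : psi' ≫ pullback.snd φ.left ψ.left = (snd G T).left := by
    rw [hpsi', pullback.lift_snd]
  have hfac : (GIT.psi a f).left = psi' ≫ (lift fstO sndO).left := by
    have hO : psi' ≫ pullback.snd φ.left ψ.left ≫ T.hom = (G ⊗ T).hom := by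
      rw [← Category.assoc, hpsi2]
      exact Over.w (snd G T)
    have e1 : GIT.psi a f = Over.homMk psi' hO ≫ lift fstO sndO := by
      apply CartesianMonoidalCategory.hom_ext
      · rw [Category.assoc, lift_fst]
        apply Over.OverMorphism.ext
        rw [Over.comp_left, Over.comp_left, hfstO]
        change _ = psi' ≫ _
        have e0 : GIT.psi a f ≫ fst X T = (G ◁ f) ≫ a.act := by simp [GIT.psi]
        rw [hpsi1, ← Over.comp_left, e0]
      · rw [Category.assoc, lift_snd]
        apply Over.OverMorphism.ext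
        rw [Over.comp_left, Over.comp_left, hsndO]
        change _ = psi' ≫ _
        have e0 : GIT.psi a f ≫ snd X T = snd G T := by simp [GIT.psi]
        rw [hpsi2, ← Over.comp_left, e0]
    rw [e1, Over.comp_left]
    rfl
  -- (P1): `psi'` is a base change of `PsiY`, hence surjective
  have hsurj : Function.Surjective psi'.base := by
    obtain ⟨m, hm⟩ : ∃ m : pullback φ.left ψ.left ⟶ pullback φ.left φ.left,
        m = pullback.map φ.left ψ.left φ.left φ.left (𝟙 _) f.left (𝟙 _)
          (by simp) (by rw [Category.comp_id, hfψ]) := ⟨_, rfl⟩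
    have hm1 : m ≫ pullback.fst φ.left φ.left = pullback.fst φ.left ψ.left := by
      rw [hm]; exact (pullback.lift_fst _ _ _).trans (Category.comp_id _)
    have hm2 : m ≫ pullback.snd φ.left φ.left = pullback.snd φ.left ψ.left ≫ f.left := by
      rw [hm]; exact pullback.lift_snd _ _ _
    have hb : IsPullback (pullback.snd φ.left ψ.left) m f.left
        (pullback.snd φ.left φ.left) := by
      have s_b : IsPullback (pullback.snd φ.left ψ.left) (m ≫ pullback.fst φ.left φ.left)
          (f.left ≫ φ.left) φ.left := by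
        rw [hm1, hfψ]
        exact (IsPullback.of_hasPullback φ.left ψ.left).flip
      exact IsPullback.of_bot s_b hm2.symm (IsPullback.of_hasPullback φ.left φ.left).flip
    have ha : IsPullback (G ◁ f).left (snd G T).left (snd G X).left f.left :=
      (isPullback_whiskerLeft_snd G f).map (Over.forget S)
    have hY1 : GIT.PsiY a φ h.inv ≫ pullback.fst φ.left φ.left = a.act.left := by
      unfold GIT.PsiY
      exact pullback.lift_fst _ _ _
    have hY2 : GIT.PsiY a φ h.inv ≫ pullback.snd φ.left φ.left = (snd G X).left := by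
      unfold GIT.PsiY
      exact pullback.lift_snd _ _ _
    have s_c : IsPullback (psi' ≫ pullback.snd φ.left ψ.left) (G ◁ f).left f.left
        (GIT.PsiY a φ h.inv ≫ pullback.snd φ.left φ.left) := by
      rw [hpsi2, hY2]
      exact ha.flip
    have p_c : psi' ≫ m = (G ◁ f).left ≫ GIT.PsiY a φ h.inv := by
      apply pullback.hom_ext
      · rw [Category.assoc, hm1, hpsi1, Category.assoc, hY1, Over.comp_left]
      · rw [Category.assoc, hm2, ← Category.assoc, hpsi2, Category.assoc, hY2,
          ← Over.comp_left, ← Over.comp_left, whiskerLeft_snd]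
    have hc : IsPullback psi' (G ◁ f).left m (GIT.PsiY a φ h.inv) :=
      IsPullback.of_right s_c p_c hb
    haveI : Surjective (GIT.PsiY a φ h.inv) := ⟨h.orbit⟩
    haveI : Surjective psi' := MorphismProperty.of_isPullback (P := @Surjective) hc.flip ‹_›
    exact psi'.surjective
  rw [hfac, Scheme.Hom.comp_base, TopCat.coe_comp, Set.range_comp,
    Set.range_eq_univ.mpr hsurj, Set.image_univ, hrange_j]

theorem main11441 (S : Scheme.{u}) (G X Y : Over S) [GrpObj G]
    (a : AlgGrp.Action G X) (φ : X ⟶ Y) (h : GIT.IsGeomQuot a φ) : GIT.IsClosedAction a := by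
  intro Ω _ _ T e f
  obtain ⟨hT, ⟨t₀⟩⟩ := singleton_of_iso_spec_field Ω e
  haveI : IsAffine T.left := IsAffine.of_isIso e.hom
  have hΓr : (lift (f ≫ φ) (𝟙 T)).left ≫ (snd Y T).left = 𝟙 T.left := by
    rw [← Over.comp_left, lift_snd]; rfl
  have hΓ : IsClosed (Set.range (lift (f ≫ φ) (𝟙 T)).left.base) :=
    isClosed_range_section _ _ hΓr hT t₀
  rw [range_psi a φ h f (f ≫ φ) rfl]
  exact hΓ.preimage (φ ▷ T).left.continuous

end Groth.Agent.Helper17.AG2
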