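import Mathlib
import Groth.Prelude.Def_HMNum
import Groth.Prelude.Def_GLinSh
import Groth.Prelude.Def_AlgGrp
import Groth.Prelude.Def_Red
import Groth.Prelude.Def_ChGrp
import Groth.Agent.Lib.Helper17.AG2

/-!
# The numerical function under translation of the point / conjugation of the 1-PS (helper17)
-/

set_option autoImplicit false
universe u
open CategoryTheory Limits MonoidalCategory CartesianMonoidalCategory MonObj GrpObj AlgebraicGeometry Opposite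

noncomputable section
namespace Groth.Agent.Helper17.AG7

theorem appLE_appLE_apply {X Y Z : Scheme.{u}} (f : X ⟶ Y) (g : Y ⟶ Z) (U : Z.Opens) (V : Y.Opens)
    (W : X.Opens) (e₁ : V ≤ g ⁻¹ᵁ U) (e₂ : W ≤ f ⁻¹ᵁ V) (e₃ : W ≤ (f ≫ g) ⁻¹ᵁ U) (y : Γ(Z, U)) :
    f.appLE V W e₂ (g.appLE U V e₁ y) = (f ≫ g).appLE U W e₃ y :=
  congrArg (fun m => m.hom y) (Scheme.Hom.appLE_comp_appLE f g U V W e₁ e₂)

section
variable {S : Scheme.{u}} {G X : Over S} [GrpObj G] (a : AlgGrp.Action G X)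

/-- translation by a point of `G` -/
def trans (g₀ : 𝟙_ (Over S) ⟶ G) : X ⟶ X := lift (toUnit X ≫ g₀) (𝟙 X) ≫ a.act

theorem comp_trans (g₀ : 𝟙_ (Over S) ⟶ G) {T : Over S} (p : T ⟶ X) :
    p ≫ trans a g₀ = lift (toUnit T ≫ g₀) p ≫ a.act := by
  unfold trans
  rw [← Category.assoc, comp_lift, comp_toUnit_assoc, Category.comp_id]

theorem evalFn_congr {V : Over S} (π : V ⟶ X) {U : X.left.Opens} (y : Γ(V.left, π.left ⁻¹ᵁ U))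
    {T' : Over S} {v w : T' ⟶ V} (e : v = w) (h : ⊤ ≤ v.left ⁻¹ᵁ (π.left ⁻¹ᵁ U))
    (h' : ⊤ ≤ w.left ⁻¹ᵁ (π.left ⁻¹ᵁ U)) :
    HMNum.evalFn π y v h = HMNum.evalFn π y w h' := by
  subst e
  rfl

variable {a}

theorem eval_linear (B : GLinSh.LinBun G a)
    (U U₁ : X.left.Opens) (yc : Γ(B.V.left, B.π.left ⁻¹ᵁ U)) (yc₁ : Γ(B.V.left, B.π.left ⁻¹ᵁ U₁))
    (c : Γ((G ⊗ X).left, a.act.left ⁻¹ᵁ U₁ ⊓ (snd G X).left ⁻¹ᵁ U))
    (hc : B.lift.act.left.appLE (B.π.left ⁻¹ᵁ U₁) (GLinSh.liftOpen a B.π U U₁)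
        (GLinSh.liftOpen_le_act a B.π B.lift B.lift_π) yc₁ =
      (G ◁ B.π).left.appLE _ (GLinSh.liftOpen a B.π U U₁) (GLinSh.liftOpen_le_base a B.π) c *
        (snd G B.V).left.appLE (B.π.left ⁻¹ᵁ U) (GLinSh.liftOpen a B.π U U₁)
          (GLinSh.liftOpen_le_snd a B.π) yc)
    {T' : Over S} (Q : T' ⟶ G ⊗ X)
    (hQ : ⊤ ≤ Q.left ⁻¹ᵁ (a.act.left ⁻¹ᵁ U₁ ⊓ (snd G X).left ⁻¹ᵁ U))
    (P : T' ⟶ G ⊗ B.V) (hPQ : P ≫ (G ◁ B.π) = Q)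
    (h1 : ⊤ ≤ (P ≫ B.lift.act).left ⁻¹ᵁ (B.π.left ⁻¹ᵁ U₁))
    (h2 : ⊤ ≤ (P ≫ snd G B.V).left ⁻¹ᵁ (B.π.left ⁻¹ᵁ U)) :
    HMNum.evalFn B.π yc₁ (P ≫ B.lift.act) h1 =
      Q.left.appLE _ ⊤ hQ c * HMNum.evalFn B.π yc (P ≫ snd G B.V) h2 := by
  subst hPQ
  have hP : ⊤ ≤ P.left ⁻¹ᵁ (GLinSh.liftOpen a B.π U U₁) := hQ
  have s1 : (P ≫ B.lift.act).left.appLE (B.π.left ⁻¹ᵁ U₁) ⊤ h1 yc₁ =
      P.left.appLE (GLinSh.liftOpen a B.π U U₁) ⊤ hP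
        (B.lift.act.left.appLE (B.π.left ⁻¹ᵁ U₁) (GLinSh.liftOpen a B.π U U₁)
          (GLinSh.liftOpen_le_act a B.π B.lift B.lift_π) yc₁) :=
    (appLE_appLE_apply P.left B.lift.act.left _ _ ⊤ _ hP h1 yc₁).symm
  have s2 : P.left.appLE (GLinSh.liftOpen a B.π U U₁) ⊤ hP
      ((G ◁ B.π).left.appLE _ (GLinSh.liftOpen a B.π U U₁) (GLinSh.liftOpen_le_base a B.π) c) =
      (P ≫ G ◁ B.π).left.appLE _ ⊤ hQ c :=
    appLE_appLE_apply P.left (G ◁ B.π).left _ _ ⊤ _ hP hQ c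
  have s3 : P.left.appLE (GLinSh.liftOpen a B.π U U₁) ⊤ hP
      ((snd G B.V).left.appLE (B.π.left ⁻¹ᵁ U) (GLinSh.liftOpen a B.π U U₁)
        (GLinSh.liftOpen_le_snd a B.π) yc) =
      (P ≫ snd G B.V).left.appLE (B.π.left ⁻¹ᵁ U) ⊤ h2 yc :=
    appLE_appLE_apply P.left (snd G B.V).left _ _ ⊤ _ hP h2 yc
  show (P ≫ B.lift.act).left.appLE (B.π.left ⁻¹ᵁ U₁) ⊤ h1 yc₁ =
    (P ≫ G ◁ B.π).left.appLE _ ⊤ hQ c * (P ≫ snd G B.V).left.appLE (B.π.left ⁻¹ᵁ U) ⊤ h2 yc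
  rw [s1, hc, map_mul, s2, s3]

theorem isMu_translate (B : GLinSh.LinBun G a) (l l' : Red.Gm S ⟶ G) [IsMonHom l] [IsMonHom l']
    (g₀ : 𝟙_ (Over S) ⟶ G)
    (hc : ∀ (T' : Over S) (g : T' ⟶ Red.Gm S),
      (g ≫ l) * (toUnit T' ≫ g₀) = (toUnit T' ≫ g₀) * (g ≫ l'))
    (hS : ∀ p q : S, p = q) (pt : S)
    (x : 𝟙_ (Over S) ⟶ X) (m : ℤ) (h : HMNum.IsMu B l' x m) :
    HMNum.IsMu B l (lift g₀ x ≫ a.act) m := by
  obtain ⟨y', ⟨φ', hφx, hφy⟩, hfix, U', yc', hyc', hU', hwt⟩ := h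
  have h' := (Magnet.MonAct.mem_eqvHom_iff φ'.1).mp φ'.2
  obtain ⟨φ, hφ⟩ : ∃ φ : (HMNum.attrPlus a l).obj (op (𝟙_ (Over S))),
      φ.1 = φ'.1 ≫ trans a g₀ := by
    refine ⟨⟨φ'.1 ≫ trans a g₀, (Magnet.MonAct.mem_eqvHom_iff _).mpr ?_⟩, rfl⟩
    intro T' g b t
    obtain ⟨p, hp⟩ : ∃ p : T' ⟶ X, p = lift b t ≫ φ'.1 := ⟨_, rfl⟩
    have e1 : lift (lift g b ≫ (Magnet.subAct S ℤ HMNum.plus).act) t ≫ φ'.1 =
        lift (g ≫ l') p ≫ a.act := by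
      rw [h' T' g b t, ← hp, Magnet.MonAct.lift_restrict_act, Magnet.MonAct.ofAction_act]
    have e2 : lift g (p ≫ trans a g₀) ≫ (HMNum.gmAct a l).act =
        lift (g ≫ l) (p ≫ trans a g₀) ≫ a.act := by
      rw [Magnet.MonAct.lift_restrict_act, Magnet.MonAct.ofAction_act]
    have L : lift (lift g b ≫ (Magnet.subAct S ℤ HMNum.plus).act) t ≫ φ'.1 ≫ trans a g₀ =
        lift ((toUnit T' ≫ g₀) * (g ≫ l')) p ≫ a.act := by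
      rw [← Category.assoc, e1, comp_trans, ← a.lift_mul_act]
    have R : lift g (lift b t ≫ φ'.1 ≫ trans a g₀) ≫ (HMNum.gmAct a l).act =
        lift ((g ≫ l) * (toUnit T' ≫ g₀)) p ≫ a.act := by
      rw [← Category.assoc, ← hp, e2, comp_trans, ← a.lift_mul_act]
    rw [L, R]
    exact congrArg (fun q => lift q p ≫ a.act) (hc T' g).symm
  have hbase : (Magnet.attrToX (HMNum.gmAct a l) HMNum.plus).app (op (𝟙_ (Over S))) φ =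
      lift g₀ x ≫ a.act := by
    have hx' : lift (toUnit (𝟙_ (Over S)) ≫ η[Magnet.AMonS S ↥HMNum.plus]) (𝟙 (𝟙_ (Over S))) ≫
        φ'.1 = x := hφx
    show lift (toUnit (𝟙_ (Over S)) ≫ η[Magnet.AMonS S ↥HMNum.plus]) (𝟙 (𝟙_ (Over S))) ≫ φ.1 = _
    rw [hφ, ← Category.assoc, hx', comp_trans, toUnit_unit, Category.id_comp]
  have hlim : HMNum.limitPt φ = y' ≫ trans a g₀ := by
    rw [HMNum.limitPt_eq, hφ, ← Category.assoc, ← HMNum.limitPt_eq, hφy]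
  have hfix' : HMNum.IsFixedBy a l (y' ≫ trans a g₀) := by
    intro T' t g
    have e0 : t ≫ y' ≫ trans a g₀ = lift (toUnit T' ≫ g₀) (t ≫ y') ≫ a.act := by
      rw [← Category.assoc, comp_trans]
    rw [e0, ← a.lift_mul_act, hc T' g, a.lift_mul_act, hfix T' t g]
  obtain ⟨U₁, hpU₁, yc₁, hyc₁⟩ := B.atlas.cover ((y' ≫ trans a g₀).left.base pt)
  have hU₁ : (y' ≫ trans a g₀).left ⁻¹ᵁ U₁ = ⊤ := by
    refine eq_top_iff.mpr (fun q _ => ?_)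
    show (y' ≫ trans a g₀).left.base q ∈ U₁
    rw [hS q pt]
    exact hpU₁
  obtain ⟨c, hcc⟩ := B.lift_linear U' U₁ yc' yc₁ hyc' hyc₁
  refine ⟨y' ≫ trans a g₀, ⟨φ, hbase, hlim⟩, hfix', U₁, yc₁, hyc₁, hU₁, ?_⟩
  intro T' t g v hv hgv
  obtain ⟨gg, hgg⟩ : ∃ gg : T' ⟶ G, gg = toUnit T' ≫ g₀ := ⟨_, rfl⟩
  have hcgg : (g ≫ l) * gg = gg * (g ≫ l') := by
    rw [hgg]
    exact hc T' g
  have htr : ∀ p : T' ⟶ X, p ≫ trans a g₀ = lift gg p ≫ a.act := fun p => by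
    rw [hgg]
    exact comp_trans a g₀ p
  obtain ⟨v', hv'⟩ : ∃ v' : T' ⟶ B.V, v' = lift gg⁻¹ v ≫ B.lift.act := ⟨_, rfl⟩
  have F1 : lift gg v' ≫ B.lift.act = v := by
    rw [hv', ← B.lift.lift_mul_act, mul_inv_cancel, B.lift.lift_one_act]
  have hπ : ∀ (δ : T' ⟶ G) (w : T' ⟶ B.V),
      (lift δ w ≫ B.lift.act) ≫ B.π = lift δ (w ≫ B.π) ≫ a.act := by
    intro δ w
    rw [Category.assoc, B.lift_π, lift_whiskerLeft_assoc]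
  have F2 : v' ≫ B.π = t ≫ y' := by
    rw [hv', hπ, hv, ← Category.assoc, htr, ← a.lift_mul_act, inv_mul_cancel, a.lift_one_act]
  obtain ⟨v'', hv''⟩ : ∃ v'' : T' ⟶ B.V, v'' = lift (g ≫ l') v' ≫ B.lift.act := ⟨_, rfl⟩
  have F4 : v'' ≫ B.π = t ≫ y' := by
    rw [hv'', hπ, F2, hfix T' t g]
  have F3 : lift gg v'' ≫ B.lift.act = lift (g ≫ l) v ≫ B.lift.act := by
    rw [hv'', ← B.lift.lift_mul_act, ← hcgg, B.lift.lift_mul_act, F1]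
  obtain ⟨Q, hQd⟩ : ∃ Q : T' ⟶ G ⊗ X, Q = lift gg (t ≫ y') := ⟨_, rfl⟩
  have hQ : ⊤ ≤ Q.left ⁻¹ᵁ (a.act.left ⁻¹ᵁ U₁ ⊓ (snd G X).left ⁻¹ᵁ U') := by
    have hQ1 : Q ≫ a.act = t ≫ (y' ≫ trans a g₀) := by
      rw [hQd, ← Category.assoc, htr]
    have hQ2 : Q ≫ snd G X = t ≫ y' := by
      rw [hQd, lift_snd]
    have i1 : ⊤ ≤ (Q ≫ a.act).left ⁻¹ᵁ U₁ := by
      rw [hQ1]
      show ⊤ ≤ t.left ⁻¹ᵁ ((y' ≫ trans a g₀).left ⁻¹ᵁ U₁)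
      rw [hU₁]
      exact le_of_eq rfl
    have i2 : ⊤ ≤ (Q ≫ snd G X).left ⁻¹ᵁ U' := by
      rw [hQ2]
      show ⊤ ≤ t.left ⁻¹ᵁ (y'.left ⁻¹ᵁ U')
      rw [hU']
      exact le_of_eq rfl
    exact le_inf i1 i2
  have hP₁Q : lift gg v' ≫ (G ◁ B.π) = Q := by
    rw [lift_whiskerLeft, F2, hQd]
  have hP₂Q : lift gg v'' ≫ (G ◁ B.π) = Q := by
    rw [lift_whiskerLeft, F4, hQd]
  have a1 : (lift gg v' ≫ B.lift.act) ≫ B.π = t ≫ y' ≫ trans a g₀ := by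
    rw [F1, hv]
  have a2 : (lift gg v' ≫ snd G B.V) ≫ B.π = t ≫ y' := by
    rw [lift_snd, F2]
  have a3 : (lift gg v'' ≫ B.lift.act) ≫ B.π = t ≫ y' ≫ trans a g₀ := by
    rw [F3, hgv]
  have a4 : (lift gg v'' ≫ snd G B.V) ≫ B.π = t ≫ y' := by
    rw [lift_snd, F4]
  have hF4' : (lift (g ≫ l') v' ≫ B.lift.act) ≫ B.π = t ≫ y' := by
    rw [← hv'']
    exact F4
  have E1 := eval_linear B U' U₁ yc' yc₁ c hcc Q hQ (lift gg v') hP₁Q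
    (HMNum.top_le_preimage B.π hU₁ a1) (HMNum.top_le_preimage B.π hU' a2)
  have E2 := eval_linear B U' U₁ yc' yc₁ c hcc Q hQ (lift gg v'') hP₂Q
    (HMNum.top_le_preimage B.π hU₁ a3) (HMNum.top_le_preimage B.π hU' a4)
  have W := hwt T' t g v' F2 hF4'
  have k1 : HMNum.evalFn B.π yc₁ (lift (g ≫ l) v ≫ B.lift.act) (HMNum.top_le_preimage B.π hU₁ hgv) =
      HMNum.evalFn B.π yc₁ (lift gg v'' ≫ B.lift.act) (HMNum.top_le_preimage B.π hU₁ a3) :=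
    evalFn_congr B.π yc₁ F3.symm _ _
  have k2 : HMNum.evalFn B.π yc' (lift gg v'' ≫ snd G B.V) (HMNum.top_le_preimage B.π hU' a4) =
      HMNum.evalFn B.π yc' (lift (g ≫ l') v' ≫ B.lift.act) (HMNum.top_le_preimage B.π hU' hF4') :=
    evalFn_congr B.π yc' (by rw [lift_snd, hv'']) _ _
  have k3 : HMNum.evalFn B.π yc' (lift gg v' ≫ snd G B.V) (HMNum.top_le_preimage B.π hU' a2) =
      HMNum.evalFn B.π yc' v' (HMNum.top_le_preimage B.π hU' F2) :=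
    evalFn_congr B.π yc' (lift_snd _ _) _ _
  have k4 : HMNum.evalFn B.π yc₁ (lift gg v' ≫ B.lift.act) (HMNum.top_le_preimage B.π hU₁ a1) =
      HMNum.evalFn B.π yc₁ v (HMNum.top_le_preimage B.π hU₁ hv) :=
    evalFn_congr B.π yc₁ F1 _ _
  rw [k1, E2, k2, W, ← k4, E1, k3]
  exact _root_.mul_left_comm _ _ _

end

theorem main19786 (k : Type u) [Field k] [IsAlgClosed k]
    (G X : Over (Spec (CommRingCat.of k))) [GrpObj G] [Smooth G.hom] [QuasiCompact G.hom] [IsProper X.hom]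
    (a : AlgGrp.Action G X) (B : GLinSh.LinBun G a) (x : 𝟙_ (Over (Spec (CommRingCat.of k))) ⟶ X)
    (l : Red.Gm (Spec (CommRingCat.of k)) ⟶ G) [IsMonHom l] (g₀ : 𝟙_ (Over (Spec (CommRingCat.of k))) ⟶ G)
    (l' : Red.Gm (Spec (CommRingCat.of k)) ⟶ G) [IsMonHom l'] (hl' : l' = (toUnit _ ≫ g₀)⁻¹ * l * (toUnit _ ≫ g₀))
    (m : ℤ) : HMNum.IsMu B l (lift g₀ x ≫ a.act) m ↔ HMNum.IsMu B l' x m := by
  obtain ⟨hS, ⟨pt⟩⟩ := Groth.Agent.Helper17.AG2.singleton_of_iso_spec_field k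
    (Iso.refl (Spec (CommRingCat.of k)))
  have hgl : ∀ (T' : Over (Spec (CommRingCat.of k))) (g : T' ⟶ Red.Gm (Spec (CommRingCat.of k))),
      g ≫ l' = (toUnit T' ≫ g₀)⁻¹ * (g ≫ l) * (toUnit T' ≫ g₀) := by
    intro T' g
    rw [hl', MonObj.comp_mul, MonObj.comp_mul, GrpObj.comp_inv, comp_toUnit_assoc]
  constructor
  · intro h
    have h2 := isMu_translate B l' l g₀⁻¹ ?_ hS pt (lift g₀ x ≫ a.act) m h
    · rwa [← a.lift_mul_act, inv_mul_cancel, a.lift_one_act] at h2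
    · intro T' g
      rw [hgl T' g, GrpObj.comp_inv, _root_.mul_inv_cancel_right]
  · intro h
    refine isMu_translate B l l' g₀ ?_ hS pt x m h
    intro T' g
    rw [hgl T' g, _root_.mul_assoc, _root_.mul_inv_cancel_left]

end Groth.Agent.Helper17.AG7
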