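import Mathlib
import Groth.Prelude.Def_HMNum
import Groth.Prelude.Def_GLinSh
import Groth.Prelude.Def_AlgGrp
import Groth.Prelude.Def_Red
import Groth.Prelude.Def_ChGrp
import Groth.Agent.Lib.Helper17.AG2
import Groth.Agent.Lib.Helper17.AG7

/-!
# Conjugation invariance of the normalised numerical function (helper17)
-/

set_option autoImplicit false
universe u
open CategoryTheory Limits MonoidalCategory CartesianMonoidalCategory MonObj GrpObj AlgebraicGeometry Opposite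
open Groth.Agent.Helper17.AG7

noncomputable section
namespace Groth.Agent.Helper17.AG8

section Conj
variable {C : Type*} [Category C] [CartesianMonoidalCategory C] {A G : C} [MonObj A] [GrpObj G]

/-- the conjugate of a homomorphism by a global point is a homomorphism -/
theorem isMonHom_conj (l : A ⟶ G) [IsMonHom l] (c : 𝟙_ C ⟶ G) :
    IsMonHom ((toUnit A ≫ c) * l * (toUnit A ≫ c)⁻¹) := by
  constructor
  · have h1 : (η[G] : 𝟙_ C ⟶ G) = 1 := by
      rw [Hom.one_def, toUnit_unit, Category.id_comp]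
    rw [MonObj.comp_mul, MonObj.comp_mul, GrpObj.comp_inv, IsMonHom.one_hom l, h1, _root_.mul_one,
      _root_.mul_inv_cancel]
  · have e1 : μ[A] ≫ l = (fst A A ≫ l) * (snd A A ≫ l) := by
      rw [IsMonHom.mul_hom l, Hom.mul_def, lift_fst_comp_snd_comp]
    have e2 : ∀ f : A ⟶ G, (f ⊗ₘ f) ≫ μ[G] = (fst A A ≫ f) * (snd A A ≫ f) := by
      intro f
      rw [Hom.mul_def, lift_fst_comp_snd_comp]
    rw [e2]
    simp only [MonObj.comp_mul, GrpObj.comp_inv, comp_toUnit_assoc, e1]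
    group

end Conj

section
variable {S : Scheme.{u}} {G X : Over S} [GrpObj G] {a : AlgGrp.Action G X}

theorem isMu_conj_iff (B : GLinSh.LinBun G a) (hS : ∀ p q : S, p = q) (pt : S)
    (x : 𝟙_ (Over S) ⟶ X) (l : Red.Gm S ⟶ G) [IsMonHom l] (g₀ : 𝟙_ (Over S) ⟶ G)
    (l' : Red.Gm S ⟶ G) [IsMonHom l'] (hl' : l' = (toUnit _ ≫ g₀)⁻¹ * l * (toUnit _ ≫ g₀))
    (m : ℤ) : HMNum.IsMu B l (lift g₀ x ≫ a.act) m ↔ HMNum.IsMu B l' x m := by
  have hgl : ∀ (T' : Over S) (g : T' ⟶ Red.Gm S),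
      g ≫ l' = (toUnit T' ≫ g₀)⁻¹ * (g ≫ l) * (toUnit T' ≫ g₀) := by
    intro T' g
    rw [hl', MonObj.comp_mul, MonObj.comp_mul, GrpObj.comp_inv, comp_toUnit_assoc]
  constructor
  · intro h
    have h2 := isMu_translate B l' l g₀⁻¹ ?_ hS pt (lift g₀ x ≫ a.act) m h
    · rwa [← a.lift_mul_act, inv_mul_cancel, a.lift_one_act] at h2
    · intro T' g
      rw [hgl T' g, GrpObj.comp_inv, _root_.mul_inv_cancel_right]
  · intro h
    refine isMu_translate B l l' g₀ ?_ hS pt x m h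
    intro T' g
    rw [hgl T' g, _root_.mul_assoc, _root_.mul_inv_cancel_left]

end

theorem main19791 (k : Type u) [Field k] [IsAlgClosed k]
    (G X : Over (Spec (CommRingCat.of k))) [GrpObj G] (hG : Red.IsReductive G) [IsProper X.hom]
    (a : AlgGrp.Action G X) (B : GLinSh.LinBun G a) (hB : HMNum.AmpleCover B)
    (nrm : (Red.Gm (Spec (CommRingCat.of k)) ⟶ G) → ℝ)
    (hnrm : ∀ (l : Red.Gm (Spec (CommRingCat.of k)) ⟶ G) [IsMonHom l] (g : 𝟙_ (Over (Spec (CommRingCat.of k))) ⟶ G),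
      nrm ((toUnit _ ≫ g) * l * (toUnit _ ≫ g)⁻¹) = nrm l)
    (x : 𝟙_ (Over (Spec (CommRingCat.of k))) ⟶ X) (g : 𝟙_ (Over (Spec (CommRingCat.of k))) ⟶ G) (q : ℝ) :
    (∃ (l : Red.Gm (Spec (CommRingCat.of k)) ⟶ G) (_ : IsMonHom l) (m : ℤ),
        l ≠ 1 ∧ HMNum.IsMu B l (lift g x ≫ a.act) m ∧ q = (m : ℝ) / nrm l) ↔
      ∃ (l : Red.Gm (Spec (CommRingCat.of k)) ⟶ G) (_ : IsMonHom l) (m : ℤ),
        l ≠ 1 ∧ HMNum.IsMu B l x m ∧ q = (m : ℝ) / nrm l := by
  obtain ⟨hS, ⟨pt⟩⟩ := Groth.Agent.Helper17.AG2.singleton_of_iso_spec_field k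
    (Iso.refl (Spec (CommRingCat.of k)))
  constructor
  · rintro ⟨l, hl, m, hne, hmu, hq⟩
    haveI := hl
    obtain ⟨l', hl'⟩ : ∃ l' : Red.Gm (Spec (CommRingCat.of k)) ⟶ G,
        l' = (toUnit _ ≫ g)⁻¹ * l * (toUnit _ ≫ g) := ⟨_, rfl⟩
    have hmon : IsMonHom l' := by
      rw [hl']
      have h0 := isMonHom_conj l g⁻¹
      rwa [GrpObj.comp_inv, _root_.inv_inv] at h0
    haveI := hmon
    refine ⟨l', hmon, m, ?_, ?_, ?_⟩
    · intro h1
      apply hne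
      have h2 : l = (toUnit _ ≫ g) * l' * (toUnit _ ≫ g)⁻¹ := by
        rw [hl']
        group
      rw [h2, h1]
      group
    · exact (isMu_conj_iff B hS pt x l g l' hl' m).mp hmu
    · have h0 := hnrm l g⁻¹
      rw [GrpObj.comp_inv, _root_.inv_inv] at h0
      rw [hq, hl', h0]
  · rintro ⟨l, hl, m, hne, hmu, hq⟩
    haveI := hl
    obtain ⟨l₂, hl₂⟩ : ∃ l₂ : Red.Gm (Spec (CommRingCat.of k)) ⟶ G,
        l₂ = (toUnit _ ≫ g) * l * (toUnit _ ≫ g)⁻¹ := ⟨_, rfl⟩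
    have hmon : IsMonHom l₂ := by
      rw [hl₂]
      exact isMonHom_conj l g
    haveI := hmon
    have hrel : l = (toUnit _ ≫ g)⁻¹ * l₂ * (toUnit _ ≫ g) := by
      rw [hl₂]
      group
    refine ⟨l₂, hmon, m, ?_, ?_, ?_⟩
    · intro h1
      apply hne
      rw [hrel, h1]
      group
    · exact (isMu_conj_iff B hS pt x l₂ g l hrel m).mpr hmu
    · rw [hq, hl₂, hnrm l g]

end Groth.Agent.Helper17.AG8
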