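import Mathlib
import Groth.Prelude.Def_HMNum
import Groth.Prelude.Def_GLinSh
import Groth.Prelude.Def_AlgGrp
import Groth.Prelude.Def_Red
import Groth.Agent.Lib.Helper17.AG2
import Groth.Agent.Lib.Helper17.AG7
import Groth.Agent.Lib.Helper17.AG8
import Groth.Agent.Lib.Helper17.AG9
import Groth.Agent.Lib.Helper17.AG11

/-!
# The numerical function is constant on `P(λ)`-conjugates (helper17)
-/

set_option autoImplicit false
universe u
open CategoryTheory Limits MonoidalCategory CartesianMonoidalCategory MonObj GrpObj AlgebraicGeometry Opposite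
open Groth.Agent.Helper17.AG7 Groth.Agent.Helper17.AG8 Groth.Agent.Helper17.AG9
  Groth.Agent.Helper17.AG11

noncomputable section
namespace Groth.Agent.Helper17.AG12

variable {S : Scheme.{u}} {G X : Over S} [GrpObj G]

/-- `f(su) l(s) = l(s) f(u)` on `G_m × 𝔸¹`, by density of `G_m × G_m`. -/
theorem parabolic_key [IsSeparated G.hom] (l : Red.Gm S ⟶ G) [IsMonHom l] (g₀ : 𝟙_ (Over S) ⟶ G)
    (f : HMNum.A1 S ⟶ G) (hf : HMNum.incl S ≫ f = l * (toUnit _ ≫ g₀) * l⁻¹)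
    {T' : Over S} (g : T' ⟶ Red.Gm S) (b : T' ⟶ HMNum.A1 S) :
    (((g ≫ HMNum.incl S) * b) ≫ f) * (g ≫ l) = (g ≫ l) * (b ≫ f) := by
  have hfc : ∀ {T'' : Over S} (r : T'' ⟶ Red.Gm S),
      (r ≫ HMNum.incl S) ≫ f = (r ≫ l) * (toUnit T'' ≫ g₀) * (r ≫ l)⁻¹ := by
    intro T'' r
    rw [Category.assoc, hf, MonObj.comp_mul, MonObj.comp_mul, GrpObj.comp_inv, comp_toUnit_assoc]
  obtain ⟨u, hu⟩ : ∃ u : HMNum.A1 S ⊗ Red.Gm S ⟶ G,
      u = (((snd (HMNum.A1 S) (Red.Gm S) ≫ HMNum.incl S) * fst (HMNum.A1 S) (Red.Gm S)) ≫ f) *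
        (snd (HMNum.A1 S) (Red.Gm S) ≫ l) := ⟨_, rfl⟩
  obtain ⟨v, hv⟩ : ∃ v : HMNum.A1 S ⊗ Red.Gm S ⟶ G,
      v = (snd (HMNum.A1 S) (Red.Gm S) ≫ l) * (fst (HMNum.A1 S) (Red.Gm S) ≫ f) := ⟨_, rfl⟩
  have huv : u = v := by
    refine ext_of_whiskerRight_map S HMNum.plus.subtype Subtype.val_injective (Red.Gm S) G u v ?_
    obtain ⟨w, hw⟩ : ∃ w : Red.Gm S ⊗ Red.Gm S ⟶ HMNum.A1 S ⊗ Red.Gm S,
        w = HMNum.incl S ▷ Red.Gm S := ⟨_, rfl⟩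
    have hW1 : w ≫ fst (HMNum.A1 S) (Red.Gm S) = fst (Red.Gm S) (Red.Gm S) ≫ HMNum.incl S := by
      rw [hw]
      exact whiskerRight_fst _ _
    have hW2 : w ≫ snd (HMNum.A1 S) (Red.Gm S) = snd (Red.Gm S) (Red.Gm S) := by
      rw [hw]
      exact whiskerRight_snd _ _
    obtain ⟨p, hp⟩ : ∃ p : Red.Gm S ⊗ Red.Gm S ⟶ Red.Gm S, p = fst (Red.Gm S) (Red.Gm S) :=
      ⟨_, rfl⟩
    obtain ⟨q, hq⟩ : ∃ q : Red.Gm S ⊗ Red.Gm S ⟶ Red.Gm S, q = snd (Red.Gm S) (Red.Gm S) :=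
      ⟨_, rfl⟩
    rw [← hp] at hW1
    rw [← hq] at hW2
    have a1 : w ≫ ((snd (HMNum.A1 S) (Red.Gm S) ≫ HMNum.incl S) * fst (HMNum.A1 S) (Red.Gm S)) =
        (q * p) ≫ HMNum.incl S := by
      rw [MonObj.comp_mul, ← Category.assoc, hW2, hW1, MonObj.mul_comp]
    have a2 : w ≫ (((snd (HMNum.A1 S) (Red.Gm S) ≫ HMNum.incl S) *
        fst (HMNum.A1 S) (Red.Gm S)) ≫ f) =
        ((q ≫ l) * (p ≫ l)) * (toUnit _ ≫ g₀) * ((q ≫ l) * (p ≫ l))⁻¹ := by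
      rw [← Category.assoc, a1, hfc, MonObj.mul_comp]
    have a3 : w ≫ (snd (HMNum.A1 S) (Red.Gm S) ≫ l) = q ≫ l := by
      rw [← Category.assoc, hW2]
    have a4 : w ≫ (fst (HMNum.A1 S) (Red.Gm S) ≫ f) =
        (p ≫ l) * (toUnit _ ≫ g₀) * (p ≫ l)⁻¹ := by
      rw [← Category.assoc, hW1, hfc]
    have goal : w ≫ u = w ≫ v := by
      rw [hu, hv, MonObj.comp_mul, MonObj.comp_mul, a2, a3, a4]
      group
    rw [hw] at goal
    exact goal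
  have hfin : lift b g ≫ u = lift b g ≫ v := by rw [huv]
  rw [hu, hv, MonObj.comp_mul, MonObj.comp_mul, ← Category.assoc, MonObj.comp_mul,
    lift_fst, ← Category.assoc (lift b g), lift_snd, lift_snd_assoc, lift_fst_assoc] at hfin
  exact hfin

/-- the value of `f` at the origin commutes with the one-parameter subgroup -/
theorem origin_comm [IsSeparated G.hom] (l : Red.Gm S ⟶ G) [IsMonHom l] (g₀ : 𝟙_ (Over S) ⟶ G)
    (f : HMNum.A1 S ⟶ G) (hf : HMNum.incl S ≫ f = l * (toUnit _ ≫ g₀) * l⁻¹)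
    {T' : Over S} (g : T' ⟶ Red.Gm S) :
    (g ≫ l) * (toUnit T' ≫ HMNum.origin S ≫ f) = (toUnit T' ≫ HMNum.origin S ≫ f) * (g ≫ l) := by
  have h := parabolic_key l g₀ f hf g (toUnit T' ≫ HMNum.origin S)
  rw [incl_mul_origin S g] at h
  simp only [Category.assoc] at h
  exact h.symm

theorem unit_comp_eq (l : Red.Gm S ⟶ G) [IsMonHom l] (g₀ : 𝟙_ (Over S) ⟶ G)
    (f : HMNum.A1 S ⟶ G) (hf : HMNum.incl S ≫ f = l * (toUnit _ ≫ g₀) * l⁻¹) :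
    η[HMNum.A1 S] ≫ f = g₀ := by
  have h1 : (η[G] : 𝟙_ (Over S) ⟶ G) = 1 := by
    rw [Hom.one_def, toUnit_unit, Category.id_comp]
  rw [← IsMonHom.one_hom (HMNum.incl S), Category.assoc, hf, MonObj.comp_mul, MonObj.comp_mul,
    GrpObj.comp_inv, IsMonHom.one_hom l, h1, comp_toUnit_assoc, toUnit_unit, Category.id_comp,
    _root_.one_mul, inv_one, _root_.mul_one]

/-- if `y` is the limit of `x` under `l` and `g₀ ∈ P(l)` with extension `f`, then `f(0) · y` is the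
limit of `g₀ · x`. -/
theorem isLimitPt_parabolic [IsSeparated G.hom] (a : AlgGrp.Action G X) (l : Red.Gm S ⟶ G)
    [IsMonHom l] (g₀ : 𝟙_ (Over S) ⟶ G)
    (f : HMNum.A1 S ⟶ G) (hf : HMNum.incl S ≫ f = l * (toUnit _ ≫ g₀) * l⁻¹)
    {T : Over S} (x y : T ⟶ X) (h : HMNum.IsLimitPt a l x y) :
    HMNum.IsLimitPt a l (lift (toUnit T ≫ g₀) x ≫ a.act)
      (lift (toUnit T ≫ HMNum.origin S ≫ f) y ≫ a.act) := by
  obtain ⟨φ, hφx, hφy⟩ := h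
  have hφ := (Magnet.MonAct.mem_eqvHom_iff φ.1).mp φ.2
  obtain ⟨φ', hφ'⟩ : ∃ φ' : (HMNum.attrPlus a l).obj (op T),
      φ'.1 = lift (fst (HMNum.A1 S) T ≫ f) φ.1 ≫ a.act := by
    refine ⟨⟨lift (fst (HMNum.A1 S) T ≫ f) φ.1 ≫ a.act,
      (Magnet.MonAct.mem_eqvHom_iff _).mpr ?_⟩, rfl⟩
    intro T' g b t
    obtain ⟨p, hp⟩ : ∃ p : T' ⟶ X, p = lift b t ≫ φ.1 := ⟨_, rfl⟩
    have hgb : lift g b ≫ (Magnet.subAct S ℤ HMNum.plus).act = (g ≫ HMNum.incl S) * b := by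
      unfold Magnet.subAct
      rw [Magnet.MonAct.lift_restrict_act, Magnet.MonAct.lift_regular_act]
    have e1 : lift ((g ≫ HMNum.incl S) * b) t ≫ φ.1 = lift (g ≫ l) p ≫ a.act := by
      rw [← hgb, hφ T' g b t, ← hp, Magnet.MonAct.lift_restrict_act, Magnet.MonAct.ofAction_act]
    have L : lift (lift g b ≫ (Magnet.subAct S ℤ HMNum.plus).act) t ≫
        lift (fst (HMNum.A1 S) T ≫ f) φ.1 ≫ a.act =
        lift ((((g ≫ HMNum.incl S) * b) ≫ f) * (g ≫ l)) p ≫ a.act := by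
      rw [hgb, ← Category.assoc, comp_lift, lift_fst_assoc, e1, ← a.lift_mul_act]
    have R : lift g (lift b t ≫ lift (fst (HMNum.A1 S) T ≫ f) φ.1 ≫ a.act) ≫
        (HMNum.gmAct a l).act = lift ((g ≫ l) * (b ≫ f)) p ≫ a.act := by
      rw [Magnet.MonAct.lift_restrict_act, Magnet.MonAct.ofAction_act,
        ← Category.assoc (lift b t), comp_lift, lift_fst_assoc, ← hp, ← a.lift_mul_act]
    rw [L, R, parabolic_key l g₀ f hf g b]
  have hbase : (Magnet.attrToX (HMNum.gmAct a l) HMNum.plus).app (op T) φ' =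
      lift (toUnit T ≫ g₀) x ≫ a.act := by
    have hx' : lift (toUnit T ≫ η[Magnet.AMonS S ↥HMNum.plus]) (𝟙 T) ≫ φ.1 = x := hφx
    show lift (toUnit T ≫ η[Magnet.AMonS S ↥HMNum.plus]) (𝟙 T) ≫ φ'.1 = _
    rw [hφ', ← Category.assoc, comp_lift, lift_fst_assoc, hx', Category.assoc,
      unit_comp_eq l g₀ f hf]
  have hlim : HMNum.limitPt φ' = lift (toUnit T ≫ HMNum.origin S ≫ f) y ≫ a.act := by
    have hy' : lift (toUnit T ≫ HMNum.origin S) (𝟙 T) ≫ φ.1 = y := by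
      rw [← HMNum.limitPt_eq]
      exact hφy
    rw [HMNum.limitPt_eq, hφ', ← Category.assoc, comp_lift, lift_fst_assoc, hy', Category.assoc]
  exact ⟨φ', hbase, hlim⟩

theorem isMu_parabolic [IsSeparated G.hom] [IsSeparated X.hom] {a : AlgGrp.Action G X}
    (B : GLinSh.LinBun G a) (hS : ∀ p q : S, p = q) (pt : S)
    (l : Red.Gm S ⟶ G) [IsMonHom l] (g₀ : 𝟙_ (Over S) ⟶ G)
    (f : HMNum.A1 S ⟶ G) (hf : HMNum.incl S ≫ f = l * (toUnit _ ≫ g₀) * l⁻¹)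
    (x : 𝟙_ (Over S) ⟶ X) (m : ℤ) (h : HMNum.IsMu B l x m) :
    HMNum.IsMu B l (lift g₀ x ≫ a.act) m := by
  obtain ⟨y, hlim, hwt⟩ := h
  have hxy : HMNum.IsMu B l y m := (isMu_limit_iff B l x y hlim m).mp ⟨y, hlim, hwt⟩
  have hlim' := isLimitPt_parabolic a l g₀ f hf x y hlim
  obtain ⟨p₀, hp₀⟩ : ∃ p₀ : 𝟙_ (Over S) ⟶ G, p₀ = HMNum.origin S ≫ f := ⟨_, rfl⟩
  have h3 : HMNum.IsMu B l (lift p₀ y ≫ a.act) m := by
    refine isMu_translate B l l p₀ ?_ hS pt y m hxy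
    intro T' g
    rw [hp₀]
    exact origin_comm l g₀ f hf g
  have e1 : toUnit (𝟙_ (Over S)) ≫ g₀ = g₀ := by
    rw [toUnit_unit, Category.id_comp]
  have e2 : toUnit (𝟙_ (Over S)) ≫ HMNum.origin S ≫ f = p₀ := by
    rw [toUnit_unit, Category.id_comp, hp₀]
  rw [e1, e2] at hlim'
  exact (isMu_limit_iff B l _ _ hlim' m).mpr h3

theorem main19785 (k : Type u) [Field k] [IsAlgClosed k]
    (G X : Over (Spec (CommRingCat.of k))) [GrpObj G] (hG : Red.IsReductive G) [IsProper X.hom]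
    (a : AlgGrp.Action G X) (B : GLinSh.LinBun G a) (x : 𝟙_ (Over (Spec (CommRingCat.of k))) ⟶ X)
    (l : Red.Gm (Spec (CommRingCat.of k)) ⟶ G) [IsMonHom l] (g₀ : 𝟙_ (Over (Spec (CommRingCat.of k))) ⟶ G)
    (hg₀ : ∃ f : HMNum.A1 (Spec (CommRingCat.of k)) ⟶ G, HMNum.incl (Spec (CommRingCat.of k)) ≫ f = l * (toUnit _ ≫ g₀) * l⁻¹)
    (l' : Red.Gm (Spec (CommRingCat.of k)) ⟶ G) [IsMonHom l'] (hl' : l' = (toUnit _ ≫ g₀)⁻¹ * l * (toUnit _ ≫ g₀))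
    (m : ℤ) : HMNum.IsMu B l x m ↔ HMNum.IsMu B l' x m := by
  obtain ⟨hS, ⟨pt⟩⟩ := Groth.Agent.Helper17.AG2.singleton_of_iso_spec_field k
    (Iso.refl (Spec (CommRingCat.of k)))
  haveI : IsAffineHom G.hom := hG.1
  haveI : IsSeparated G.hom := inferInstance
  obtain ⟨f, hf⟩ := hg₀
  rw [← isMu_conj_iff B hS pt x l g₀ l' hl' m]
  constructor
  · exact isMu_parabolic B hS pt l g₀ f hf x m
  · intro h
    have hf' : HMNum.incl (Spec (CommRingCat.of k)) ≫ f⁻¹ = l * (toUnit _ ≫ g₀⁻¹) * l⁻¹ := by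
      rw [GrpObj.comp_inv, hf, GrpObj.comp_inv]
      group
    have h2 := isMu_parabolic B hS pt l g₀⁻¹ f⁻¹ hf' (lift g₀ x ≫ a.act) m h
    rwa [← a.lift_mul_act, inv_mul_cancel, a.lift_one_act] at h2

end Groth.Agent.Helper17.AG12
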