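import Mathlib
import Groth.Prelude.Def_Magnet4
import Groth.Agent.Lib.Helper17.AG9

/-!
# Attractors and equivariant closed immersions (helper17)

A closed subscheme of `A(N)_S × T` through which `A(M)_S × T → A(N)_S × T` factors (`N → M`
injective) is everything; hence `Z^N = Z ×_Y Y^N` for an equivariant closed immersion `Z → Y`.
-/

set_option autoImplicit false
universe u
open CategoryTheory Limits MonoidalCategory CartesianMonoidalCategory MonObj AlgebraicGeometry Opposite
open Groth.Agent.Helper17.AG9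

noncomputable section
namespace Groth.Agent.Helper17.AG13

section
variable {N M : Type} [AddCommMonoid N] [AddCommMonoid M]

theorem isIso_closedImmersion_of_factors (S : Scheme.{u}) (f : N →+ M)
    (hf : Function.Injective f) (T : Over S) {E : Scheme.{u}}
    (e : E ⟶ (Magnet.AMonS S N ⊗ T).left) [IsClosedImmersion e]
    (m₀ : (Magnet.AMonS S M ⊗ T).left ⟶ E)
    (hm : m₀ ≫ e = (Magnet.AMonS.map S f ▷ T).left) : IsIso e := by
  let 𝒯a := T.left.affineOpenCover
  let 𝒰 : (Magnet.AMonS S N ⊗ T).left.OpenCover :=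
    𝒯a.openCover.pullback₁ (snd (Magnet.AMonS S N) T).left
  have key : ∀ i, IsAffine (𝒰.X i) ∧ Function.Injective
      (pullback.snd (Magnet.AMonS.map S f ▷ T).left (𝒰.f i)).appTop.hom := by
    intro i
    letI : Algebra (ULift.{u} ℤ) (𝒯a.X i) :=
      RingHom.toAlgebra ((Int.castRingHom (𝒯a.X i)).comp
        (ULift.ringEquiv : ULift.{u} ℤ ≃+* ℤ).toRingHom)
    refine affine_injective (ULift.{u} ℤ) (MonoidAlgebra (ULift.{u} ℤ) (Multiplicative N))
      (MonoidAlgebra (ULift.{u} ℤ) (Multiplicative M)) (𝒯a.X i)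
      (MonoidAlgebra.mapDomainBialgHom (ULift.{u} ℤ) (AddMonoidHom.toMultiplicative f)).toAlgHom
      (mapDomain_tensor_injective _ _ f hf)
      (Magnet.AMon (ULift.{u} ℤ) N).hom
      (𝒯a.f i ≫ T.hom ≫ IsTerminal.from specULiftZIsTerminal S)
      (specULiftZIsTerminal.hom_ext _ _) (specULiftZIsTerminal.hom_ext _ _)
      (pullback.fst (snd (Magnet.AMonS S N) T).left (𝒯a.f i) ≫ (fst (Magnet.AMonS S N) T).left ≫
        pullback.fst (Magnet.AMon (ULift.{u} ℤ) N).hom (IsTerminal.from specULiftZIsTerminal S))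
      (pullback.snd (snd (Magnet.AMonS S N) T).left (𝒯a.f i))
      ?_
      (pullback.fst (Magnet.AMonS.map S f ▷ T).left (𝒰.f i) ≫ (fst (Magnet.AMonS S M) T).left ≫
        pullback.fst (Magnet.AMon (ULift.{u} ℤ) M).hom (IsTerminal.from specULiftZIsTerminal S))
      (pullback.snd (Magnet.AMonS.map S f ▷ T).left (𝒰.f i))
      ?_
    · have s1 := IsPullback.of_hasPullback (snd (Magnet.AMonS S N) T).left (𝒯a.f i)
      have s2 : IsPullback (fst (Magnet.AMonS S N) T).left (snd (Magnet.AMonS S N) T).left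
          (Magnet.AMonS S N).hom T.hom := by
        rw [Over.fst_left, Over.snd_left]
        exact IsPullback.of_hasPullback _ _
      have s3 := IsPullback.of_hasPullback (Magnet.AMon (ULift.{u} ℤ) N).hom
        (IsTerminal.from specULiftZIsTerminal S)
      exact s1.paste_horiz (s2.paste_horiz s3)
    · have t1 := IsPullback.of_hasPullback (Magnet.AMonS.map S f ▷ T).left (𝒰.f i)
      have t2 := (isPullback_whiskerRight_fst (Magnet.AMonS.map S f) T).map (Over.forget S)
      have t3 := isPullback_overPullback_map (IsTerminal.from specULiftZIsTerminal S)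
        (Magnet.AMon.map (ULift.{u} ℤ) f)
      exact t1.paste_horiz (t2.paste_horiz t3)
  haveI : ∀ i, IsAffine (𝒰.X i) := fun i => (key i).1
  exact isIso_of_factors _ e _ hm 𝒰 (fun i => (key i).2)

end

theorem main18286 (S : Scheme.{u}) (M : Type) [AddCommMonoid M]
    (N : AddSubmonoid M) (Y Z : Over S) [IsAffineHom Y.hom] (aY : Magnet.MonAct (Magnet.AMonS S M) Y)
    (aZ : Magnet.MonAct (Magnet.AMonS S M) Z) (f : Z ⟶ Y) [IsClosedImmersion f.left]
    (hf : Magnet.MonAct.IsEquivariant aZ aY f) :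
    IsPullback (Magnet.MonAct.eqvHom.postcomp (Magnet.subAct S M N) f hf) (Magnet.attrToX aZ N)
      (Magnet.attrToX aY N) (yoneda.map f) := by
  haveI hmono : Mono f := by
    haveI : Mono ((Over.forget S).map f) := by
      show Mono f.left
      infer_instance
    exact (Over.forget S).mono_of_mono_map inferInstance
  have hfe := (Magnet.MonAct.isEquivariant_iff aZ aY f).mp hf
  apply IsPullback.of_forall_isPullback_app
  intro T
  obtain ⟨T⟩ := T
  rw [Types.isPullback_iff]
  refine ⟨?_, ?_, ?_⟩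
  · refine ConcreteCategory.hom_ext _ _ (fun ψ => ?_)
    show lift (toUnit T ≫ η[Magnet.AMonS S ↥N]) (𝟙 T) ≫ ψ.1 ≫ f =
      (lift (toUnit T ≫ η[Magnet.AMonS S ↥N]) (𝟙 T) ≫ ψ.1) ≫ f
    rw [Category.assoc]
  · rintro ψ₁ ψ₂ ⟨h1, -⟩
    apply Subtype.ext
    have h2 : ψ₁.1 ≫ f = ψ₂.1 ≫ f := congrArg Subtype.val h1
    exact (cancel_mono f).mp h2
  · intro φ z hφz
    have hφ := (Magnet.MonAct.mem_eqvHom_iff φ.1).mp φ.2
    have hz : (Magnet.attrToX aY N).app (op T) φ = z ≫ f := hφz
    obtain ⟨o, ho⟩ : ∃ o : Magnet.AMonS S M ⊗ T ⟶ Z,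
        o = lift (fst (Magnet.AMonS S M) T) (snd (Magnet.AMonS S M) T ≫ z) ≫ aZ.act := ⟨_, rfl⟩
    have hw : (Magnet.AMonS.map S N.subtype ▷ T) ≫ φ.1 = o ≫ f := by
      rw [whisker_comp_eq_orbit aY N T φ, hz, ho, Category.assoc, hfe, Category.assoc]
    obtain ⟨e, he⟩ : ∃ e : pullback φ.1.left f.left ⟶ (Magnet.AMonS S ↥N ⊗ T).left,
        e = pullback.fst φ.1.left f.left := ⟨_, rfl⟩
    haveI : IsClosedImmersion e := by
      rw [he]
      infer_instance
    have hwl : (Magnet.AMonS.map S N.subtype ▷ T).left ≫ φ.1.left = o.left ≫ f.left := by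
      rw [← Over.comp_left, ← Over.comp_left, hw]
    haveI : IsIso e := isIso_closedImmersion_of_factors S N.subtype Subtype.val_injective T e
      (pullback.lift _ _ hwl) (by rw [he]; exact pullback.lift_fst _ _ _)
    obtain ⟨ψl, hψl⟩ : ∃ ψl : (Magnet.AMonS S ↥N ⊗ T).left ⟶ Z.left,
        ψl = inv e ≫ pullback.snd φ.1.left f.left := ⟨_, rfl⟩
    have hψf : ψl ≫ f.left = φ.1.left := by
      rw [hψl, Category.assoc, ← pullback.condition, ← he, IsIso.inv_hom_id_assoc]
    have hψw : ψl ≫ Z.hom = (Magnet.AMonS S ↥N ⊗ T).hom := by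
      rw [← Over.w f, ← Category.assoc, hψf, Over.w]
    obtain ⟨ψ, hψ⟩ : ∃ ψ : Magnet.AMonS S ↥N ⊗ T ⟶ Z, ψ = Over.homMk ψl hψw := ⟨_, rfl⟩
    have hψ_f : ψ ≫ f = φ.1 := by
      apply Over.OverMorphism.ext
      rw [Over.comp_left, hψ]
      exact hψf
    have heqv : Magnet.MonAct.IsEquivariant
        ((Magnet.subAct S M N).prod (Magnet.MonAct.trivial _ T)) aZ ψ := by
      rw [Magnet.MonAct.mem_eqvHom_iff]
      intro T' g b t
      rw [← cancel_mono f, Category.assoc, hψ_f, hφ T' g b t, Category.assoc, hfe,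
        Category.assoc, hψ_f]
    refine ⟨⟨ψ, heqv⟩, Subtype.ext hψ_f, ?_⟩
    show lift (toUnit T ≫ η[Magnet.AMonS S ↥N]) (𝟙 T) ≫ ψ = z
    rw [← cancel_mono f, Category.assoc, hψ_f]
    exact hφz

end Groth.Agent.Helper17.AG13
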