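import Mathlib
import Groth.Prelude.Def_GmPts
import Groth.Prelude.Def_Magnet4
import Groth.Agent.Lib.Helper17.AG14

/-!
# Points of the affine line `A(ℕ)_S` are functions (helper17)

Functoriality of `AG14.charOfPt` in the monoid, and the coordinate `fn` of a point of
`A(multiples 1)_S`.
-/

set_option autoImplicit false
universe u
open CategoryTheory CategoryTheory.Limits MonoidalCategory CartesianMonoidalCategory MonObj AlgebraicGeometry Opposite

noncomputable section
namespace Groth.Agent.Helper17.AG15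
open GmPts (baseZ toBaseZ)
open Groth.Agent.Helper17.AG14

theorem specMap_appTop_inv {R R' : CommRingCat.{u}} (φ : R ⟶ R') (c : R) :
    (Spec.map φ).appTop ((Scheme.ΓSpecIso R).inv c) = (Scheme.ΓSpecIso R').inv (φ c) := by
  have h := congrArg (fun ψ => (ConcreteCategory.hom ψ) c) (Scheme.ΓSpecIso_inv_naturality φ)
  exact h.symm

section Functoriality
variable {M N : Type} [AddCommMonoid M] [AddCommMonoid N] {S : Scheme.{u}} {T T' : Over S}

theorem specPt_map (φ : N →+ M) (t : T ⟶ Magnet.AMonS S M) :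
    specPt (t ≫ Magnet.AMonS.map S φ) = specPt t ≫ (Magnet.AMon.map (ULift.{u} ℤ) φ).left := by
  have h3 := GmPts.pullback_map_left_fst (S := S) (Magnet.AMon.map (ULift.{u} ℤ) φ)
  exact (Category.assoc _ _ _).trans ((congrArg (t.left ≫ ·) h3).trans (Category.assoc _ _ _).symm)

theorem map_appTop (φ : N →+ M) (n : N) :
    (Magnet.AMon.map (ULift.{u} ℤ) φ).left.appTop ((coordIso N).inv (mono n)) =
      (coordIso M).inv (mono (φ n)) := by
  have h := specMap_appTop_coordIso_inv (M := N) (CommRingCat.ofHom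
    (MonoidAlgebra.mapDomainBialgHom (ULift.{u} ℤ)
      (AddMonoidHom.toMultiplicative φ)).toAlgHom.toRingHom) (mono n)
  refine h.trans ?_
  congr 1
  change MonoidAlgebra.mapDomain _ (MonoidAlgebra.single _ _) = _
  rw [MonoidAlgebra.mapDomain_single]
  rfl

theorem charOfPt_map_apply (φ : N →+ M) (t : T ⟶ Magnet.AMonS S M) (n : N) :
    charOfPt (t ≫ Magnet.AMonS.map S φ) (Multiplicative.ofAdd n) =
      charOfPt t (Multiplicative.ofAdd (φ n)) := by
  have e0 : (specPt (t ≫ Magnet.AMonS.map S φ)).appTop ((coordIso N).inv (mono n)) =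
      (specPt t ≫ (Magnet.AMon.map (ULift.{u} ℤ) φ).left).appTop ((coordIso N).inv (mono n)) := by
    rw [specPt_map]; rfl
  have e1 := GmPts.appTop_comp_apply (specPt t) (Magnet.AMon.map (ULift.{u} ℤ) φ).left
    ((coordIso N).inv (mono n))
  have e2 := congrArg (fun z => (specPt t).appTop z) (map_appTop φ n)
  exact e0.trans (e1.trans e2)

end Functoriality

section A1
variable {S : Scheme.{u}} {T T' : Over S}

/-- the magnet `ℕ ⊆ ℤ` -/
abbrev N1 : AddSubmonoid ℤ := AddSubmonoid.multiples (1 : ℤ)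

/-- the generator -/
def gen : ↥N1 := ⟨1, AddSubmonoid.mem_multiples 1⟩

theorem N1_nonneg (n : ↥N1) : (0 : ℤ) ≤ (n : ℤ) := by
  obtain ⟨k, hk⟩ := (AddSubmonoid.mem_multiples_iff _ _).mp n.2
  rw [← hk]; simp

def toN : ↥N1 →+ ℕ where
  toFun n := (n : ℤ).toNat
  map_zero' := rfl
  map_add' a b := by
    change ((a : ℤ) + (b : ℤ)).toNat = _
    exact Int.toNat_add (N1_nonneg a) (N1_nonneg b)

theorem toN_gen : toN gen = 1 := rfl

theorem eq_toN_nsmul_gen (n : ↥N1) : n = toN n • gen := by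
  apply Subtype.ext
  rw [AddSubmonoidClass.coe_nsmul]
  change (n : ℤ) = (n : ℤ).toNat • (1 : ℤ)
  rw [nsmul_eq_mul, _root_.mul_one, Int.toNat_of_nonneg (N1_nonneg n)]

/-- the coordinate function of a point of the affine line -/
def fn (m : T ⟶ Magnet.AMonS S ↥N1) : Γ(T.left, ⊤) := charOfPt m (Multiplicative.ofAdd gen)

theorem fn_mul (m m' : T ⟶ Magnet.AMonS S ↥N1) : fn (m * m') = fn m * fn m' := by
  rw [fn, charOfPt_mul]; rfl

theorem fn_one : fn (1 : T ⟶ Magnet.AMonS S ↥N1) = 1 := by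
  rw [fn, charOfPt_one]; rfl

theorem fn_pow (m : T ⟶ Magnet.AMonS S ↥N1) (n : ℕ) : fn (m ^ n) = fn m ^ n := by
  induction n with
  | zero => rw [pow_zero, pow_zero, fn_one]
  | succ n ih => rw [pow_succ, pow_succ, fn_mul, ih]

theorem fn_comp (g : T' ⟶ T) (m : T ⟶ Magnet.AMonS S ↥N1) :
    fn (g ≫ m) = g.left.appTop.hom (fn m) := by
  rw [fn, charOfPt_comp]; rfl

theorem charOfPt_eq_pow (m : T ⟶ Magnet.AMonS S ↥N1) (n : ↥N1) :
    charOfPt m (Multiplicative.ofAdd n) = fn m ^ toN n := by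
  conv_lhs => rw [eq_toN_nsmul_gen n, ofAdd_nsmul, map_pow]
  rfl

theorem fn_injective : Function.Injective (fn : (T ⟶ Magnet.AMonS S ↥N1) → Γ(T.left, ⊤)) := by
  intro m m' h
  apply charOfPt_injective
  ext n
  exact (charOfPt_eq_pow m n).trans
    ((congrArg (· ^ toN n) h).trans (charOfPt_eq_pow m' n).symm)

/-- the character with a given value at the generator -/
def charOfFn (f : Γ(T.left, ⊤)) : Multiplicative ↥N1 →* Γ(T.left, ⊤) :=
  (powersHom Γ(T.left, ⊤) f).comp (AddMonoidHom.toMultiplicative toN)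

/-- the point with a given coordinate -/
def ptOfFn (f : Γ(T.left, ⊤)) : T ⟶ Magnet.AMonS S ↥N1 := ptOfChar (charOfFn f)

theorem fn_ptOfFn (f : Γ(T.left, ⊤)) : fn (ptOfFn f : T ⟶ Magnet.AMonS S ↥N1) = f := by
  rw [fn, ptOfFn, charOfPt_ptOfChar]
  change f ^ (1 : ℕ) = f
  exact pow_one f

theorem nilp_of_fn_pow_eq_zero (m : T ⟶ Magnet.AMonS S ↥N1) (n : ℕ) (h : fn m ^ (n + 1) = 0)
    (m' : T ⟶ Magnet.AMonS S ↥N1) : m ^ (n + 1) * m' = m ^ (n + 1) := by
  apply fn_injective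
  rw [fn_mul, fn_pow, h, zero_mul]

theorem fn_map_subtype (g : T ⟶ Magnet.AMonS S ℤ) :
    fn (g ≫ Magnet.AMonS.map S N1.subtype) = charOfPt g (Multiplicative.ofAdd (1 : ℤ)) :=
  charOfPt_map_apply N1.subtype g gen

theorem charOfPt_one_eq_gmFn (t : T ⟶ Red.Gm S) :
    charOfPt (M := ℤ) t (Multiplicative.ofAdd (1 : ℤ)) = Red.gmFn t := rfl

theorem fn_ptOfUnit (v : (Γ(T.left, ⊤))ˣ) :
    fn ((GmPts.ptOfUnit v : T ⟶ Red.Gm S) ≫ Magnet.AMonS.map S N1.subtype) = v := by
  rw [fn_map_subtype]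
  exact GmPts.gmFn_ptOfUnit v

end A1

end Groth.Agent.Helper17.AG15
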