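import Mathlib
import Groth.Agent.Lib.Helper17.AG15

/-!
# Algebra for the affine line (helper17)

* `away_sep`: in `B[X]_{f · f(0)}` the intersection of the ideals `(Xⁿ)` is zero;
* `polyEquiv`: `B[ℕ'] ≃ B[X]`, where `ℕ' = multiples (1 : ℤ)`.
-/

set_option autoImplicit false
universe u
open Polynomial

noncomputable section
namespace Groth.Agent.Helper17.AG16

section Sep
variable {B : Type u} [CommRing B]

theorem away_sep (f : B[X]) (b : B) (hb : f.coeff 0 = b) (g : B[X]) (hg : g = f * C b)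
    {R' : Type u} [CommRing R'] [Algebra B[X] R'] [IsLocalization.Away g R'] (δ : R')
    (h : ∀ n : ℕ, (algebraMap B[X] R' X) ^ (n + 1) ∣ δ) : δ = 0 := by
  let B' := Localization.Away b
  let ψ : B[X] →+* PowerSeries B' :=
    (PowerSeries.map (algebraMap B B')).comp Polynomial.coeToPowerSeries.ringHom
  have hψ : ∀ c : B[X], ψ c = PowerSeries.map (algebraMap B B') (c : PowerSeries B) := fun c => rfl
  have hψX : ψ X = PowerSeries.X := by rw [hψ, Polynomial.coe_X, PowerSeries.map_X]
  have hbu : IsUnit (algebraMap B B' b) := IsLocalization.Away.algebraMap_isUnit b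
  have hcoeff : ∀ (c : B[X]) (i : ℕ), PowerSeries.coeff i (ψ c) = algebraMap B B' (c.coeff i) := by
    intro c i
    rw [hψ, PowerSeries.coeff_map, Polynomial.coeff_coe]
  have hψf : IsUnit (ψ f) := by
    rw [PowerSeries.isUnit_iff_constantCoeff, ← PowerSeries.coeff_zero_eq_constantCoeff_apply,
      hcoeff, hb]
    exact hbu
  have hψC : IsUnit (ψ (C b)) := by
    rw [hψ, Polynomial.coe_C, PowerSeries.map_C]
    exact hbu.map _
  have hψg : IsUnit (ψ g) := by rw [hg, map_mul]; exact hψf.mul hψC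
  let Ψ : R' →+* PowerSeries B' := IsLocalization.Away.lift g hψg
  have hΨ : ∀ c, Ψ (algebraMap B[X] R' c) = ψ c := fun c => IsLocalization.Away.lift_eq g hψg c
  have h0 : Ψ δ = 0 := by
    ext m
    have hd : (PowerSeries.X : PowerSeries B') ^ (m + 1) ∣ Ψ δ := by
      have := map_dvd Ψ (h m)
      rwa [map_pow, hΨ, hψX] at this
    rw [PowerSeries.X_pow_dvd_iff] at hd
    rw [hd m (Nat.lt_succ_self m), map_zero]
  obtain ⟨⟨c, s⟩, hcs⟩ := IsLocalization.surj (Submonoid.powers g) δ
  have hc : ψ c = 0 := by rw [← hΨ, ← hcs, map_mul, h0, zero_mul]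
  have hkill : ∀ i, ∃ N : ℕ, b ^ N * c.coeff i = 0 := by
    intro i
    have h1 : algebraMap B B' (c.coeff i) = 0 := by rw [← hcoeff, hc, map_zero]
    obtain ⟨⟨_, N, rfl⟩, hN⟩ :=
      (IsLocalization.map_eq_zero_iff (Submonoid.powers b) B' (c.coeff i)).mp h1
    exact ⟨N, hN⟩
  choose N hN using hkill
  have hCb : C b ^ (c.support.sup N) * c = 0 := by
    ext i
    rw [← C_pow, coeff_C_mul, coeff_zero]
    by_cases hi : i ∈ c.support
    · obtain ⟨d, hd⟩ := Nat.exists_eq_add_of_le (Finset.le_sup (f := N) hi)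
      rw [hd, pow_add, mul_comm (b ^ N i), mul_assoc, hN i, mul_zero]
    · rw [notMem_support_iff.mp hi, mul_zero]
  have hu : IsUnit (algebraMap B[X] R' (C b)) := by
    have hgu : IsUnit (algebraMap B[X] R' g) := IsLocalization.Away.algebraMap_isUnit g
    rw [hg, map_mul] at hgu
    exact isUnit_of_mul_isUnit_right hgu
  have hc0 : algebraMap B[X] R' c = 0 := by
    have h2 := congrArg (algebraMap B[X] R') hCb
    rw [map_mul, map_pow, map_zero] at h2
    exact (hu.pow _).mul_right_eq_zero.mp h2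
  have hs : IsUnit (algebraMap B[X] R' s) := IsLocalization.map_units _ s
  rw [hc0] at hcs
  exact hs.mul_left_eq_zero.mp hcs

end Sep

section PolyEquiv
variable (B : Type u) [CommRing B]
open Groth.Agent.Helper17.AG15

def toPolyMonoidHom : Multiplicative ↥N1 →* B[X] :=
  (powersHom B[X] X).comp (AddMonoidHom.toMultiplicative toN)

def toPoly : MonoidAlgebra B (Multiplicative ↥N1) →ₐ[B] B[X] :=
  MonoidAlgebra.lift B B[X] (Multiplicative ↥N1) (toPolyMonoidHom B)

def ofPoly : B[X] →ₐ[B] MonoidAlgebra B (Multiplicative ↥N1) :=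
  Polynomial.aeval (MonoidAlgebra.single (Multiplicative.ofAdd gen) 1)

theorem toPoly_single (n : ↥N1) :
    toPoly B (MonoidAlgebra.single (Multiplicative.ofAdd n) 1) = X ^ toN n := by
  rw [toPoly, MonoidAlgebra.lift_single, one_smul]; rfl

theorem toPoly_ofPoly : (toPoly B).comp (ofPoly B) = AlgHom.id B B[X] := by
  apply Polynomial.algHom_ext
  rw [AlgHom.comp_apply, ofPoly, aeval_X, toPoly_single, toN_gen, pow_one]
  rfl

theorem ofPoly_toPoly : (ofPoly B).comp (toPoly B) = AlgHom.id B _ := by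
  refine MonoidAlgebra.algHom_ext (fun n => ?_) (Subsingleton.elim _ _)
  rw [AlgHom.comp_apply, AlgHom.id_apply]
  change ofPoly B (toPoly B (MonoidAlgebra.single (Multiplicative.ofAdd (Multiplicative.toAdd n)) 1)) =
    MonoidAlgebra.single n 1
  rw [toPoly_single, map_pow, ofPoly, aeval_X, MonoidAlgebra.single_pow, one_pow]
  congr 1
  exact (congrArg Multiplicative.ofAdd (eq_toN_nsmul_gen (Multiplicative.toAdd n))).symm

/-- `B[ℕ'] ≃ B[X]` -/
def polyEquiv : MonoidAlgebra B (Multiplicative ↥N1) ≃+* B[X] :=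
  (AlgEquiv.ofAlgHom (toPoly B) (ofPoly B) (toPoly_ofPoly B) (ofPoly_toPoly B)).toRingEquiv

theorem polyEquiv_single_gen :
    polyEquiv B (MonoidAlgebra.single (Multiplicative.ofAdd gen) 1) = X := by
  change toPoly B (MonoidAlgebra.single (Multiplicative.ofAdd gen) 1) = X
  rw [toPoly_single, toN_gen, pow_one]

end PolyEquiv

end Groth.Agent.Helper17.AG16
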