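import Mathlib
import Groth.Agent.Lib.Helper17.AG16

/-!
# Two morphisms out of `Spec B[X]` agreeing on all infinitesimal neighbourhoods of `X = 0`
agree on a Zariski neighbourhood of every point of `X = 0` (helper17)
-/

set_option autoImplicit false
universe u
open CategoryTheory AlgebraicGeometry Polynomial

noncomputable section
namespace Groth.Agent.Helper17.AG17

theorem appTop_comp_apply {X Y Z : Scheme.{u}} (f : X ⟶ Y) (g : Y ⟶ Z) (z : Γ(Z, ⊤)) :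
    (f ≫ g).appTop z = f.appTop (g.appTop z) := by
  rw [Scheme.Hom.comp_appTop]; rfl

theorem ΓSpecIso_hom_specMap_appTop {R R' : CommRingCat.{u}} (φ : R ⟶ R') (z : Γ(Spec R, ⊤)) :
    (Scheme.ΓSpecIso R').hom ((Spec.map φ).appTop z) = φ ((Scheme.ΓSpecIso R).hom z) := by
  have h := congrArg (fun ψ => (ConcreteCategory.hom ψ) z) (Scheme.ΓSpecIso_naturality φ)
  exact h

theorem local_agree {Xl : Scheme.{u}} {B : Type u} [CommRing B]
    (f₁ f₂ : Spec (CommRingCat.of B[X]) ⟶ Xl)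
    (H : ∀ (D : Type u) [CommRing D] (π : B[X] →+* D) (n : ℕ), π X ^ (n + 1) = 0 →
        Spec.map (CommRingCat.ofHom π) ≫ f₁ = Spec.map (CommRingCat.ofHom π) ≫ f₂)
    (𝔭 : PrimeSpectrum B[X]) (h𝔭 : (X : B[X]) ∈ 𝔭.asIdeal) :
    ∃ g : B[X], g ∉ 𝔭.asIdeal ∧
      Spec.map (CommRingCat.ofHom (algebraMap B[X] (Localization.Away g))) ≫ f₁ =
      Spec.map (CommRingCat.ofHom (algebraMap B[X] (Localization.Away g))) ≫ f₂ := by
  -- Step 1: the two images of `𝔭` agree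
  have hx : f₁ 𝔭 = f₂ 𝔭 := by
    have hπ : (Ideal.Quotient.mk 𝔭.asIdeal) X ^ (0 + 1) = 0 := by
      rw [zero_add, pow_one]; exact Ideal.Quotient.eq_zero_iff_mem.mpr h𝔭
    have hH := H (B[X] ⧸ 𝔭.asIdeal) (Ideal.Quotient.mk 𝔭.asIdeal) 0 hπ
    have hmem : 𝔭 ∈ Set.range (PrimeSpectrum.comap (Ideal.Quotient.mk 𝔭.asIdeal)) := by
      rw [range_comap_of_surjective _ _ Ideal.Quotient.mk_surjective, Ideal.mk_ker]
      exact fun _ h => h
    obtain ⟨x', hx'⟩ := hmem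
    have h1 := congrArg (fun φ : Spec (CommRingCat.of (B[X] ⧸ 𝔭.asIdeal)) ⟶ Xl => φ x') hH
    simp only [Scheme.Hom.comp_apply] at h1
    have h2 : (Spec.map (CommRingCat.ofHom (Ideal.Quotient.mk 𝔭.asIdeal))) x' = 𝔭 := hx'
    rwa [h2] at h1
  -- Step 2: an affine neighbourhood of the image
  obtain ⟨i, hi⟩ : ∃ i, f₁ 𝔭 ∈ Set.range (Xl.affineCover.f i) :=
    ⟨_, Xl.affineCover.covers (f₁ 𝔭)⟩
  obtain ⟨j, hj⟩ : ∃ j : Xl.affineCover.X i ⟶ Xl, j = Xl.affineCover.f i := ⟨_, rfl⟩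
  haveI : IsOpenImmersion j := by rw [hj]; infer_instance
  rw [← hj] at hi
  have hjo : IsOpen (Set.range j) := j.isOpenEmbedding.isOpen_range
  have hO : IsOpen ((f₁ ⁻¹' Set.range j) ∩ (f₂ ⁻¹' Set.range j) : Set (PrimeSpectrum B[X])) :=
    (hjo.preimage f₁.continuous).inter (hjo.preimage f₂.continuous)
  have h𝔭O : 𝔭 ∈ ((f₁ ⁻¹' Set.range j) ∩ (f₂ ⁻¹' Set.range j) : Set (PrimeSpectrum B[X])) :=
    ⟨hi, by rw [Set.mem_preimage, ← hx]; exact hi⟩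
  obtain ⟨_, ⟨f, rfl⟩, h𝔭f, hfO⟩ :=
    PrimeSpectrum.isTopologicalBasis_basic_opens.exists_subset_of_mem_open h𝔭O hO
  -- Step 3: the element `g = f * f(0)`
  have hf𝔭 : f ∉ 𝔭.asIdeal := h𝔭f
  have hCb : C (f.coeff 0) ∉ 𝔭.asIdeal := by
    intro hC
    apply hf𝔭
    rw [← Polynomial.divX_mul_X_add f]
    exact 𝔭.asIdeal.add_mem (𝔭.asIdeal.mul_mem_left _ h𝔭) hC
  have hg𝔭 : f * C (f.coeff 0) ∉ 𝔭.asIdeal := by
    intro hg
    rcases 𝔭.isPrime.mem_or_mem hg with h | h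
    exacts [hf𝔭 h, hCb h]
  refine ⟨f * C (f.coeff 0), hg𝔭, ?_⟩
  -- Step 4: lift through the affine open
  obtain ⟨ℓ, hℓ⟩ : ∃ ℓ : Spec (CommRingCat.of (Localization.Away (f * C (f.coeff 0)))) ⟶
      Spec (CommRingCat.of B[X]),
      ℓ = Spec.map (CommRingCat.ofHom
        (algebraMap B[X] (Localization.Away (f * C (f.coeff 0))))) := ⟨_, rfl⟩
  rw [← hℓ]
  have hℓO : ∀ z, ℓ z ∈
      ((f₁ ⁻¹' Set.range j) ∩ (f₂ ⁻¹' Set.range j) : Set (PrimeSpectrum B[X])) := by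
    intro z
    apply hfO
    have h1 : ℓ z ∈ Set.range (PrimeSpectrum.comap
        (algebraMap B[X] (Localization.Away (f * C (f.coeff 0))))) := by
      rw [hℓ]; exact ⟨z, rfl⟩
    rw [PrimeSpectrum.localization_away_comap_range (Localization.Away (f * C (f.coeff 0)))
      (f * C (f.coeff 0))] at h1
    exact PrimeSpectrum.basicOpen_mul_le_left f (C (f.coeff 0)) h1
  have hr₁ : Set.range (ℓ ≫ f₁) ⊆ Set.range j := by
    rintro _ ⟨z, rfl⟩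
    rw [Scheme.Hom.comp_apply]
    exact (hℓO z).1
  have hr₂ : Set.range (ℓ ≫ f₂) ⊆ Set.range j := by
    rintro _ ⟨z, rfl⟩
    rw [Scheme.Hom.comp_apply]
    exact (hℓO z).2
  have hψ₁ := IsOpenImmersion.lift_fac j (ℓ ≫ f₁) hr₁
  have hψ₂ := IsOpenImmersion.lift_fac j (ℓ ≫ f₂) hr₂
  suffices hψ : IsOpenImmersion.lift j (ℓ ≫ f₁) hr₁ = IsOpenImmersion.lift j (ℓ ≫ f₂) hr₂ by
    rw [← hψ₁, ← hψ₂, hψ]
  obtain ⟨ψ₁, hψ₁'⟩ : ∃ ψ, ψ = IsOpenImmersion.lift j (ℓ ≫ f₁) hr₁ := ⟨_, rfl⟩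
  obtain ⟨ψ₂, hψ₂'⟩ : ∃ ψ, ψ = IsOpenImmersion.lift j (ℓ ≫ f₂) hr₂ := ⟨_, rfl⟩
  rw [← hψ₁'] at hψ₁ ⊢
  rw [← hψ₂'] at hψ₂ ⊢
  -- Step 5: the two lifts agree
  haveI : IsAffine (Xl.affineCover.X i) := inferInstance
  refine ext_of_isAffine (CommRingCat.hom_ext (RingHom.ext fun a => ?_))
  apply (ConcreteCategory.bijective_of_isIso (Scheme.ΓSpecIso
    (CommRingCat.of (Localization.Away (f * C (f.coeff 0))))).hom).1
  rw [← sub_eq_zero]
  apply AG16.away_sep f (f.coeff 0) rfl (f * C (f.coeff 0)) rfl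
  intro n
  obtain ⟨τ', hτ'⟩ : ∃ t, t = algebraMap B[X] (Localization.Away (f * C (f.coeff 0))) X :=
    ⟨_, rfl⟩
  rw [← hτ']
  have hπ : ((Ideal.Quotient.mk (Ideal.span {τ' ^ (n + 1)})).comp
      (algebraMap B[X] (Localization.Away (f * C (f.coeff 0))))) X ^ (n + 1) = 0 := by
    rw [RingHom.comp_apply, ← hτ', ← map_pow]
    exact Ideal.Quotient.eq_zero_iff_mem.mpr (Ideal.mem_span_singleton_self _)
  have hH := H _ _ n hπ
  have hsplit : Spec.map (CommRingCat.ofHom ((Ideal.Quotient.mk (Ideal.span {τ' ^ (n + 1)})).comp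
      (algebraMap B[X] (Localization.Away (f * C (f.coeff 0)))))) =
      Spec.map (CommRingCat.ofHom (Ideal.Quotient.mk (Ideal.span {τ' ^ (n + 1)}))) ≫ ℓ := by
    rw [hℓ, ← Spec.map_comp]; rfl
  have hH' : Spec.map (CommRingCat.ofHom (Ideal.Quotient.mk (Ideal.span {τ' ^ (n + 1)}))) ≫ ψ₁ =
      Spec.map (CommRingCat.ofHom (Ideal.Quotient.mk (Ideal.span {τ' ^ (n + 1)}))) ≫ ψ₂ := by
    rw [← cancel_mono j, Category.assoc, Category.assoc, hψ₁, hψ₂, ← Category.assoc,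
      ← Category.assoc, ← hsplit]
    exact hH
  have h3 := congrArg (fun φ => φ.appTop a) hH'
  simp only [appTop_comp_apply] at h3
  have h4 := congrArg (fun z => (Scheme.ΓSpecIso _).hom z) h3
  rw [← Ideal.mem_span_singleton, ← Ideal.Quotient.eq_zero_iff_mem, map_sub, sub_eq_zero]
  exact (ΓSpecIso_hom_specMap_appTop (CommRingCat.ofHom
    (Ideal.Quotient.mk (Ideal.span {τ' ^ (n + 1)}))) (ψ₁.appTop a)).symm.trans
    (h4.trans (ΓSpecIso_hom_specMap_appTop (CommRingCat.ofHom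
    (Ideal.Quotient.mk (Ideal.span {τ' ^ (n + 1)}))) (ψ₂.appTop a)))

end Groth.Agent.Helper17.AG17
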