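import Mathlib
import Groth.Prelude.Def_GmPts
import Groth.Prelude.Def_Magnet4
import Groth.Agent.Lib.Helper17.AG17

/-!
# Local agreement near the zero section of `A¹ × Y` (helper17)

Charts `Spec B[X] → A¹ ×_S Y`, and: two morphisms `A¹ × Y → X` which agree on all points with
nilpotent first coordinate agree on a Zariski neighbourhood of the zero section.
-/

set_option autoImplicit false
universe u
open CategoryTheory CategoryTheory.Limits MonoidalCategory CartesianMonoidalCategory MonObj AlgebraicGeometry Opposite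

noncomputable section
namespace Groth.Agent.Helper17.AG18
open GmPts (baseZ toBaseZ)
open Groth.Agent.Helper17.AG14 Groth.Agent.Helper17.AG15
open scoped AlgebraMonoidAlgebra

theorem chart_pushout (R₀ B : Type u) [CommRing R₀] [CommRing B] [Algebra R₀ B] (M : Type)
    [CommMonoid M] :
    IsPullback
      (Spec.map (CommRingCat.ofHom (algebraMap (MonoidAlgebra R₀ M) (MonoidAlgebra B M))))
      (Spec.map (CommRingCat.ofHom (algebraMap B (MonoidAlgebra B M))))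
      (Spec.map (CommRingCat.ofHom (algebraMap R₀ (MonoidAlgebra R₀ M))))
      (Spec.map (CommRingCat.ofHom (algebraMap R₀ B))) :=
  isPullback_SpecMap_of_isPushout _ _ _ _
    (CommRingCat.isPushout_of_isPushout R₀ (MonoidAlgebra R₀ M) B (MonoidAlgebra B M))

theorem chart_iso (R₀ B : Type u) [CommRing R₀] [CommRing B] [Algebra R₀ B] (M : Type)
    [CommMonoid M] {W : Scheme.{u}}
    (σ : Spec (CommRingCat.of (MonoidAlgebra R₀ M)) ⟶ Spec (CommRingCat.of R₀))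
    (β : Spec (CommRingCat.of B) ⟶ Spec (CommRingCat.of R₀))
    (hσ : σ = Spec.map (CommRingCat.ofHom (algebraMap R₀ (MonoidAlgebra R₀ M))))
    (hβ : β = Spec.map (CommRingCat.ofHom (algebraMap R₀ B)))
    (hW : W ⟶ Spec (CommRingCat.of (MonoidAlgebra R₀ M))) (qW : W ⟶ Spec (CommRingCat.of B))
    (sq1 : IsPullback hW qW σ β) :
    ∃ iso : W ≅ Spec (CommRingCat.of (MonoidAlgebra B M)),
      iso.hom ≫ Spec.map (CommRingCat.ofHom
        (algebraMap (MonoidAlgebra R₀ M) (MonoidAlgebra B M))) = hW ∧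
      iso.hom ≫ Spec.map (CommRingCat.ofHom (algebraMap B (MonoidAlgebra B M))) = qW := by
  subst hσ hβ
  exact ⟨sq1.isoIsPullback _ _ (chart_pushout R₀ B M), sq1.isoIsPullback_hom_fst _ _ _,
    sq1.isoIsPullback_hom_snd _ _ _⟩

variable {S : Scheme.{u}}

section Chart
variable (Y : Over S)

theorem poly_chart (B : CommRingCat.{u}) (jY : Spec B ⟶ Y.left) [IsOpenImmersion jY] :
    ∃ ic : Spec (CommRingCat.of (Polynomial B)) ⟶ (Magnet.AMonS S ↥N1 ⊗ Y).left,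
      IsOpenImmersion ic ∧
      ic.appTop (fn (fst (Magnet.AMonS S ↥N1) Y)) =
        (Scheme.ΓSpecIso (CommRingCat.of (Polynomial B))).inv Polynomial.X ∧
      Set.range ic = (snd (Magnet.AMonS S ↥N1) Y).left ⁻¹' Set.range jY := by
  letI : Algebra (ULift.{u} ℤ) B :=
    RingHom.toAlgebra ((Int.castRingHom B).comp (ULift.ringEquiv : ULift.{u} ℤ ≃+* ℤ).toRingHom)
  have s1 := IsPullback.of_hasPullback (snd (Magnet.AMonS S ↥N1) Y).left jY
  have s2 : IsPullback (fst (Magnet.AMonS S ↥N1) Y).left (snd (Magnet.AMonS S ↥N1) Y).left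
      (Magnet.AMonS S ↥N1).hom Y.hom := by
    rw [Over.fst_left, Over.snd_left]
    exact IsPullback.of_hasPullback _ _
  have s3 := IsPullback.of_hasPullback (Magnet.AMon (ULift.{u} ℤ) ↥N1).hom (toBaseZ S)
  have sq1 := s1.paste_horiz (s2.paste_horiz s3)
  obtain ⟨iso, hiso1, hiso2⟩ := chart_iso (ULift.{u} ℤ) B (Multiplicative ↥N1)
    (Magnet.AMon (ULift.{u} ℤ) ↥N1).hom (jY ≫ Y.hom ≫ toBaseZ S)
    (specULiftZIsTerminal.hom_ext _ _) (specULiftZIsTerminal.hom_ext _ _) _ _ sq1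
  obtain ⟨e, he⟩ : ∃ e : MonoidAlgebra B (Multiplicative ↥N1) ≃+* Polynomial B,
      e = AG16.polyEquiv B := ⟨_, rfl⟩
  obtain ⟨θ, hθ⟩ : ∃ θ : Spec (CommRingCat.of (Polynomial B)) ⟶
      pullback (snd (Magnet.AMonS S ↥N1) Y).left jY,
      θ = Spec.map e.toCommRingCatIso.hom ≫ iso.inv := ⟨_, rfl⟩
  haveI : IsIso θ := by rw [hθ]; infer_instance
  refine ⟨θ ≫ pullback.fst _ _, inferInstance, ?_, ?_⟩
  · have hW_eq : pullback.fst (snd (Magnet.AMonS S ↥N1) Y).left jY ≫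
        specPt (fst (Magnet.AMonS S ↥N1) Y) = iso.hom ≫ Spec.map (CommRingCat.ofHom
          (algebraMap (Coord.{u} ↥N1) (MonoidAlgebra B (Multiplicative ↥N1)))) := hiso1.symm
    have h1 : (θ ≫ pullback.fst _ _) ≫ specPt (fst (Magnet.AMonS S ↥N1) Y) =
        Spec.map e.toCommRingCatIso.hom ≫ Spec.map (CommRingCat.ofHom
          (algebraMap (Coord.{u} ↥N1) (MonoidAlgebra B (Multiplicative ↥N1)))) := by
      rw [hθ]
      simp only [Category.assoc]
      rw [hW_eq, Iso.inv_hom_id_assoc]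
    change (θ ≫ pullback.fst _ _).appTop ((specPt (fst (Magnet.AMonS S ↥N1) Y)).appTop
      ((coordIso ↥N1).inv (mono gen))) = _
    rw [← AG17.appTop_comp_apply, h1, AG17.appTop_comp_apply, specMap_appTop_coordIso_inv,
      specMap_appTop_inv]
    congr 1
    have h2 : (algebraMap (Coord.{u} ↥N1) (MonoidAlgebra B (Multiplicative ↥N1))) (mono gen) =
        MonoidAlgebra.single (Multiplicative.ofAdd gen) 1 := by
      rw [MonoidAlgebra.algebraMap_def, MonoidAlgebra.mapRingHom_single, map_one]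
    rw [he]
    exact (congrArg (AG16.polyEquiv B) h2).trans (AG16.polyEquiv_single_gen B)
  · rw [← Scheme.Pullback.range_fst]
    ext x
    constructor
    · rintro ⟨z, rfl⟩
      exact ⟨θ z, (Scheme.Hom.comp_apply _ _ _).symm⟩
    · rintro ⟨w, rfl⟩
      refine ⟨(inv θ) w, ?_⟩
      rw [← Scheme.Hom.comp_apply, IsIso.inv_hom_id_assoc]

end Chart

section Agree
variable {X Y : Over S}

theorem nil_agree (φ₁ φ₂ : Magnet.AMonS S ↥N1 ⊗ Y ⟶ X)
    (h : ∀ (T : Over S) (m : T ⟶ Magnet.AMonS S ↥N1) (t : T ⟶ Y),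
      (∃ n : ℕ, ∀ m' : T ⟶ Magnet.AMonS S ↥N1, m ^ (n + 1) * m' = m ^ (n + 1)) →
      lift m t ≫ φ₁ = lift m t ≫ φ₂)
    {Z : Scheme.{u}} (û : Z ⟶ (Magnet.AMonS S ↥N1 ⊗ Y).left) (n : ℕ)
    (hn : (û.appTop (fn (fst (Magnet.AMonS S ↥N1) Y))) ^ (n + 1) = 0) :
    û ≫ φ₁.left = û ≫ φ₂.left := by
  obtain ⟨pt, hpt⟩ : ∃ pt : Over.mk (û ≫ (Magnet.AMonS S ↥N1 ⊗ Y).hom) ⟶ Magnet.AMonS S ↥N1 ⊗ Y,
      pt = Over.homMk û rfl := ⟨_, rfl⟩
  have hptl : pt.left = û := by rw [hpt]; rfl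
  have hfn : fn (pt ≫ fst (Magnet.AMonS S ↥N1) Y) = û.appTop (fn (fst (Magnet.AMonS S ↥N1) Y)) := by
    rw [fn_comp, hptl]
  have hnil := nilp_of_fn_pow_eq_zero (pt ≫ fst (Magnet.AMonS S ↥N1) Y) n (by rw [hfn]; exact hn)
  have h1 := h _ (pt ≫ fst (Magnet.AMonS S ↥N1) Y) (pt ≫ snd (Magnet.AMonS S ↥N1) Y) ⟨n, hnil⟩
  have e : lift (pt ≫ fst (Magnet.AMonS S ↥N1) Y) (pt ≫ snd (Magnet.AMonS S ↥N1) Y) = pt := by
    apply CartesianMonoidalCategory.hom_ext <;> simp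
  rw [e] at h1
  have h2 := congrArg (fun f => f.left) h1
  simp only [Over.comp_left, hptl] at h2
  exact h2

theorem partA (φ₁ φ₂ : Magnet.AMonS S ↥N1 ⊗ Y ⟶ X)
    (h : ∀ (T : Over S) (m : T ⟶ Magnet.AMonS S ↥N1) (t : T ⟶ Y),
      (∃ n : ℕ, ∀ m' : T ⟶ Magnet.AMonS S ↥N1, m ^ (n + 1) * m' = m ^ (n + 1)) →
      lift m t ≫ φ₁ = lift m t ≫ φ₂)
    (x₀ : (Magnet.AMonS S ↥N1 ⊗ Y).left)
    (hx₀ : x₀ ∉ (Magnet.AMonS S ↥N1 ⊗ Y).left.basicOpen (fn (fst (Magnet.AMonS S ↥N1) Y))) :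
    ∃ (W : Scheme.{u}) (w : W ⟶ (Magnet.AMonS S ↥N1 ⊗ Y).left), IsOpenImmersion w ∧
      x₀ ∈ Set.range w ∧ w ≫ φ₁.left = w ≫ φ₂.left := by
  obtain ⟨i, hi⟩ : ∃ i, (snd (Magnet.AMonS S ↥N1) Y).left x₀ ∈
      Set.range (Y.left.affineOpenCover.f i) :=
    ⟨_, Y.left.affineOpenCover.openCover.covers ((snd (Magnet.AMonS S ↥N1) Y).left x₀)⟩
  obtain ⟨ic, hic1, hic2, hic3⟩ := poly_chart Y (Y.left.affineOpenCover.X i)
    (Y.left.affineOpenCover.f i)
  have hx₀ic : x₀ ∈ Set.range ic := by rw [hic3]; exact hi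
  obtain ⟨𝔭, h𝔭⟩ := hx₀ic
  have hX : (Polynomial.X : Polynomial (Y.left.affineOpenCover.X i)) ∈
      (show PrimeSpectrum (Polynomial (Y.left.affineOpenCover.X i)) from 𝔭).asIdeal := by
    by_contra hX
    apply hx₀
    rw [← h𝔭]
    have h1 : 𝔭 ∈ ic ⁻¹ᵁ ((Magnet.AMonS S ↥N1 ⊗ Y).left.basicOpen
        (fn (fst (Magnet.AMonS S ↥N1) Y))) := by
      rw [Scheme.preimage_basicOpen_top, hic2, basicOpen_eq_of_affine]
      exact hX
    exact h1
  have H : ∀ (D : Type u) [CommRing D] (π : Polynomial (Y.left.affineOpenCover.X i) →+* D) (n : ℕ),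
      π Polynomial.X ^ (n + 1) = 0 →
      Spec.map (CommRingCat.ofHom π) ≫ ic ≫ φ₁.left = Spec.map (CommRingCat.ofHom π) ≫ ic ≫ φ₂.left := by
    intro D _ π n hπ
    rw [← Category.assoc, ← Category.assoc]
    apply nil_agree φ₁ φ₂ h _ n
    rw [AG17.appTop_comp_apply, hic2, specMap_appTop_inv, ← map_pow]
    have : (CommRingCat.ofHom π) Polynomial.X ^ (n + 1) = 0 := hπ
    rw [this, map_zero]
  obtain ⟨g, hg, hagree⟩ := AG17.local_agree (ic ≫ φ₁.left) (ic ≫ φ₂.left) H 𝔭 hX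
  refine ⟨_, Spec.map (CommRingCat.ofHom (algebraMap (Polynomial (Y.left.affineOpenCover.X i))
    (Localization.Away g))) ≫ ic, inferInstance, ?_, ?_⟩
  · have h1 : (show PrimeSpectrum (Polynomial (Y.left.affineOpenCover.X i)) from 𝔭) ∈
        Set.range (PrimeSpectrum.comap (algebraMap (Polynomial (Y.left.affineOpenCover.X i))
          (Localization.Away g))) := by
      rw [PrimeSpectrum.localization_away_comap_range (Localization.Away g) g]
      exact hg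
    obtain ⟨z, hz⟩ := h1
    refine ⟨z, ?_⟩
    rw [Scheme.Hom.comp_apply, ← h𝔭]
    exact congrArg (fun q => ic q) hz
  · rw [Category.assoc, Category.assoc]
    exact hagree

end Agree

end Groth.Agent.Helper17.AG18
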