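import Mathlib
import Groth.Prelude.Def_GmPts
import Groth.Prelude.Def_Magnet4
import Groth.Prelude.Def_ChGrp
import Groth.Agent.Lib.Helper17.AG18

/-!
# Injectivity of `D_X → formal D_X` (helper17)

Two `G_m`-equivariant morphisms `A¹ × Y → X` which agree on all points with nilpotent first
coordinate are equal (no separatedness of `X` needed): they agree on a neighbourhood of the zero
section, and the `G_m`-translates of that neighbourhood form a flat cover of `A¹ × Y`.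
-/

set_option autoImplicit false
universe u
open CategoryTheory CategoryTheory.Limits MonoidalCategory CartesianMonoidalCategory MonObj AlgebraicGeometry Opposite

noncomputable section
namespace Groth.Agent.Helper17.AG19
open GmPts (baseZ toBaseZ)
open Groth.Agent.Helper17.AG14 Groth.Agent.Helper17.AG15

/-! ### flat covers are jointly epimorphic -/

theorem eq_of_flat_cover {Z Xl : Scheme.{u}} (Q : Z → Scheme.{u}) (q : ∀ p : Z, Q p ⟶ Z)
    [∀ p, Flat (q p)] (hq : ∀ p : Z, p ∈ Set.range (q p)) (f g : Z ⟶ Xl)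
    (h : ∀ p, q p ≫ f = q p ≫ g) : f = g := by
  haveI : Surjective (Sigma.desc q) := ⟨fun z => by
    obtain ⟨x, hx⟩ := hq z
    refine ⟨(Sigma.ι Q z) x, ?_⟩
    rw [← Scheme.Hom.comp_apply, Sigma.ι_desc]
    exact hx⟩
  haveI := Flat.epi_of_flat_of_surjective (Sigma.desc q)
  rw [← cancel_epi (Sigma.desc q)]
  apply Sigma.hom_ext
  intro p
  rw [Sigma.ι_desc_assoc, Sigma.ι_desc_assoc]
  exact h p

/-! ### cancelling a group element -/

theorem cancel_act {S : Scheme.{u}} {G X : Over S} [GrpObj G] (a : AlgGrp.Action G X) {T : Over S}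
    (g : T ⟶ G) (x x' : T ⟶ X) (h : lift g x ≫ a.act = lift g x' ≫ a.act) : x = x' := by
  have h1 := congrArg (fun z => lift g⁻¹ z ≫ a.act) h
  simp only [← a.lift_mul_act, inv_mul_cancel, a.lift_one_act] at h1
  exact h1

variable {S : Scheme.{u}}

/-- the action of `G_m` on `A¹ × Y` through the first factor -/
abbrev actP (S : Scheme.{u}) (Y : Over S) :
    Magnet.MonAct (Magnet.AMonS S ℤ) (Magnet.AMonS S ↥N1 ⊗ Y) :=
  (Magnet.subAct S ℤ N1).prod (Magnet.MonAct.trivial (Magnet.AMonS S ℤ) Y)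

theorem act_formula {Y T : Over S} (g : T ⟶ Magnet.AMonS S ℤ) (s : T ⟶ Magnet.AMonS S ↥N1)
    (y : T ⟶ Y) :
    lift g (lift s y) ≫ (actP S Y).act = lift ((g ≫ Magnet.AMonS.map S N1.subtype) * s) y := by
  rw [Magnet.MonAct.lift_prod_act, Magnet.MonAct.lift_trivial_act]
  unfold Magnet.subAct
  rw [Magnet.MonAct.lift_restrict_act, Magnet.MonAct.lift_regular_act]

/-! ### flatness -/

theorem flat_snd_left (P : Over S) : Flat (snd (Magnet.AMonS S ℤ) P).left := by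
  rw [Over.snd_left]
  haveI : Flat (Magnet.AMon (ULift.{u} ℤ) ℤ).hom := by
    have h : (Magnet.AMon (ULift.{u} ℤ) ℤ).hom = Spec.map (CommRingCat.ofHom
        (algebraMap (ULift.{u} ℤ) (MonoidAlgebra (ULift.{u} ℤ) (Multiplicative ℤ)))) :=
      specULiftZIsTerminal.hom_ext _ _
    have hf : Flat (Spec.map (CommRingCat.ofHom
        (algebraMap (ULift.{u} ℤ) (MonoidAlgebra (ULift.{u} ℤ) (Multiplicative ℤ))))) := by
      rw [Flat.SpecMap_iff, CommRingCat.hom_ofHom, RingHom.flat_algebraMap_iff]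
      infer_instance
    rw [h]
    exact hf
  haveI : Flat (Magnet.AMonS S ℤ).hom := by
    change Flat (pullback.snd (Magnet.AMon (ULift.{u} ℤ) ℤ).hom (toBaseZ S))
    infer_instance
  infer_instance

/-! ### equivariance spreads agreement -/

theorem agree_of_equivariant {X Y : Over S} (a : AlgGrp.Action (Red.DS S ℤ) X)
    (γ₁ γ₂ : (Magnet.attr (Magnet.MonAct.ofAction a) N1).obj (op Y))
    {W : Scheme.{u}} (w : W ⟶ (Magnet.AMonS S ↥N1 ⊗ Y).left)
    (hw : w ≫ γ₁.1.left = w ≫ γ₂.1.left) :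
    (pullback.fst (actP S Y).act.left w ≫
        (snd (Magnet.AMonS S ℤ) (Magnet.AMonS S ↥N1 ⊗ Y)).left) ≫ γ₁.1.left =
      (pullback.fst (actP S Y).act.left w ≫
        (snd (Magnet.AMonS S ℤ) (Magnet.AMonS S ↥N1 ⊗ Y)).left) ≫ γ₂.1.left := by
  obtain ⟨qq, hqq⟩ : ∃ qq : Over.mk (pullback.fst (actP S Y).act.left w ≫
      (Magnet.AMonS S ℤ ⊗ (Magnet.AMonS S ↥N1 ⊗ Y)).hom) ⟶
      Magnet.AMonS S ℤ ⊗ (Magnet.AMonS S ↥N1 ⊗ Y),
      qq = Over.homMk (pullback.fst (actP S Y).act.left w) rfl := ⟨_, rfl⟩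
  have hql : qq.left = pullback.fst (actP S Y).act.left w := by rw [hqq]; rfl
  have e0 : lift (qq ≫ fst _ _) (qq ≫ snd _ _) = qq := by
    apply CartesianMonoidalCategory.hom_ext <;> simp
  have hE₁ := (Magnet.MonAct.isEquivariant_iff _ _ _).mp γ₁.2 _ (qq ≫ fst _ _) (qq ≫ snd _ _)
  have hE₂ := (Magnet.MonAct.isEquivariant_iff _ _ _).mp γ₂.2 _ (qq ≫ fst _ _) (qq ≫ snd _ _)
  rw [e0] at hE₁ hE₂
  have hmid : qq ≫ (actP S Y).act ≫ γ₁.1 = qq ≫ (actP S Y).act ≫ γ₂.1 := by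
    apply Over.OverMorphism.ext
    simp only [Over.comp_left]
    rw [hql, pullback.condition_assoc, pullback.condition_assoc, hw]
  have hcancel := cancel_act a (qq ≫ fst _ _) ((qq ≫ snd _ _) ≫ γ₁.1) ((qq ≫ snd _ _) ≫ γ₂.1)
    (hE₁.symm.trans (hmid.trans hE₂))
  have h3 := congrArg (fun f => f.left) hcancel
  simp only [Over.comp_left, hql] at h3
  exact h3

/-! ### orbits -/

section Orbit
variable {Y : Over S}

theorem orbit_abs (T₁ T₀ TL : Over S) (p₁ : T₁ ⟶ Magnet.AMonS S ↥N1 ⊗ Y) (xf : Γ(T₁.left, ⊤))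
    (ζ₀ : T₀ ⟶ T₁) (h0 : ζ₀.left.appTop xf = 0)
    (ζη : TL ⟶ T₁) (hu : IsUnit (ζη.left.appTop xf))
    (z : T₀.left) (zL : TL.left) (hspec : ζη.left zL ⤳ ζ₀.left z) :
    ∃ x₀ : (Magnet.AMonS S ↥N1 ⊗ Y).left,
      x₀ ∉ (Magnet.AMonS S ↥N1 ⊗ Y).left.basicOpen (fn (fst (Magnet.AMonS S ↥N1) Y)) ∧
      ∀ U : Set (Magnet.AMonS S ↥N1 ⊗ Y).left, IsOpen U → x₀ ∈ U →
        ∃ x : (Magnet.AMonS S ℤ ⊗ (Magnet.AMonS S ↥N1 ⊗ Y)).left,
          (snd (Magnet.AMonS S ℤ) (Magnet.AMonS S ↥N1 ⊗ Y)).left x = p₁.left (ζη.left zL) ∧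
          (actP S Y).act.left x ∈ U := by
  obtain ⟨xpt, hxpt⟩ : ∃ xpt : T₁ ⟶ Magnet.AMonS S ↥N1, fn xpt = xf := ⟨ptOfFn xf, fn_ptOfFn xf⟩
  obtain ⟨l, hl⟩ : ∃ l : T₁ ⟶ Magnet.AMonS S ↥N1 ⊗ Y,
      l = lift (xpt * (p₁ ≫ fst (Magnet.AMonS S ↥N1) Y)) (p₁ ≫ snd (Magnet.AMonS S ↥N1) Y) :=
    ⟨_, rfl⟩
  refine ⟨(ζ₀ ≫ l).left z, ?_, ?_⟩
  · have hfn0 : fn ((ζ₀ ≫ l) ≫ fst (Magnet.AMonS S ↥N1) Y) = 0 := by
      rw [Category.assoc, hl, lift_fst, fn_comp, fn_mul, hxpt, map_mul]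
      have : ζ₀.left.appTop.hom xf = 0 := h0
      rw [this, zero_mul]
    intro hmem
    have h1 : z ∈ (ζ₀ ≫ l).left ⁻¹ᵁ ((Magnet.AMonS S ↥N1 ⊗ Y).left.basicOpen
        (fn (fst (Magnet.AMonS S ↥N1) Y))) := hmem
    rw [Scheme.preimage_basicOpen_top] at h1
    have h2 : (ζ₀ ≫ l).left.appTop (fn (fst (Magnet.AMonS S ↥N1) Y)) = 0 := by
      rw [← hfn0, fn_comp]
    rw [h2, Scheme.basicOpen_zero] at h1
    exact h1
  · intro U hU hx₀U
    obtain ⟨lam, hlam⟩ : ∃ lam : TL ⟶ Magnet.AMonS S ℤ,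
        fn (lam ≫ Magnet.AMonS.map S N1.subtype) = ζη.left.appTop xf :=
      ⟨(GmPts.ptOfUnit hu.unit : TL ⟶ Red.Gm S), (fn_ptOfUnit hu.unit).trans hu.unit_spec⟩
    have e1 : ζη ≫ p₁ = lift ((ζη ≫ p₁) ≫ fst (Magnet.AMonS S ↥N1) Y)
        ((ζη ≫ p₁) ≫ snd (Magnet.AMonS S ↥N1) Y) := by
      apply CartesianMonoidalCategory.hom_ext <;> simp
    have e2 : ζη ≫ xpt = lam ≫ Magnet.AMonS.map S N1.subtype := by
      apply fn_injective
      rw [fn_comp, hxpt, hlam]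
    have key : lift lam (ζη ≫ p₁) ≫ (actP S Y).act = ζη ≫ l := by
      rw [e1, act_formula, hl, comp_lift, MonObj.comp_mul, e2]
      simp only [Category.assoc]
    refine ⟨(lift lam (ζη ≫ p₁)).left zL, ?_, ?_⟩
    · rw [← Scheme.Hom.comp_apply, ← Over.comp_left, lift_snd, Over.comp_left,
        Scheme.Hom.comp_apply]
    · rw [← Scheme.Hom.comp_apply, ← Over.comp_left, key, Over.comp_left, Scheme.Hom.comp_apply]
      have hs : l.left (ζη.left zL) ⤳ l.left (ζ₀.left z) := hspec.map l.left.continuous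
      refine hs.mem_open hU ?_
      rw [Over.comp_left, Scheme.Hom.comp_apply] at hx₀U
      exact hx₀U

theorem orbit_point (K : Type u) [Field K]
    (κ : Spec (CommRingCat.of K) ⟶ (Magnet.AMonS S ↥N1 ⊗ Y).left) :
    ∃ x₀ : (Magnet.AMonS S ↥N1 ⊗ Y).left,
      x₀ ∉ (Magnet.AMonS S ↥N1 ⊗ Y).left.basicOpen (fn (fst (Magnet.AMonS S ↥N1) Y)) ∧
      ∀ U : Set (Magnet.AMonS S ↥N1 ⊗ Y).left, IsOpen U → x₀ ∈ U →
        ∃ x : (Magnet.AMonS S ℤ ⊗ (Magnet.AMonS S ↥N1 ⊗ Y)).left,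
          (snd (Magnet.AMonS S ℤ) (Magnet.AMonS S ↥N1 ⊗ Y)).left x ∈ Set.range κ ∧
          (actP S Y).act.left x ∈ U := by
  obtain ⟨zK⟩ : Nonempty (Spec (CommRingCat.of K)) := inferInstance
  obtain ⟨zL⟩ : Nonempty (Spec (CommRingCat.of (FractionRing (Polynomial K)))) := inferInstance
  have hX0 : algebraMap (Polynomial K) (FractionRing (Polynomial K)) Polynomial.X ≠ 0 := by
    intro h
    exact Polynomial.X_ne_zero ((IsFractionRing.injective (Polynomial K)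
      (FractionRing (Polynomial K))) (h.trans (map_zero _).symm))
  obtain ⟨x₀, hx₀, hU⟩ := orbit_abs (Y := Y)
    (Over.mk ((Spec.map (CommRingCat.ofHom (Polynomial.C : K →+* Polynomial K)) ≫ κ) ≫
      (Magnet.AMonS S ↥N1 ⊗ Y).hom))
    (Over.mk (Spec.map (CommRingCat.ofHom (Polynomial.evalRingHom (0 : K))) ≫
      ((Spec.map (CommRingCat.ofHom (Polynomial.C : K →+* Polynomial K)) ≫ κ) ≫
      (Magnet.AMonS S ↥N1 ⊗ Y).hom)))
    (Over.mk (Spec.map (CommRingCat.ofHom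
      (algebraMap (Polynomial K) (FractionRing (Polynomial K)))) ≫
      ((Spec.map (CommRingCat.ofHom (Polynomial.C : K →+* Polynomial K)) ≫ κ) ≫
      (Magnet.AMonS S ↥N1 ⊗ Y).hom)))
    (Over.homMk (Spec.map (CommRingCat.ofHom (Polynomial.C : K →+* Polynomial K)) ≫ κ) rfl)
    ((Scheme.ΓSpecIso (CommRingCat.of (Polynomial K))).inv Polynomial.X)
    (Over.homMk (Spec.map (CommRingCat.ofHom (Polynomial.evalRingHom (0 : K)))) rfl)
    (by
      change (Spec.map (CommRingCat.ofHom (Polynomial.evalRingHom (0 : K)))).appTop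
        ((Scheme.ΓSpecIso (CommRingCat.of (Polynomial K))).inv Polynomial.X) = 0
      rw [specMap_appTop_inv]
      have : (CommRingCat.ofHom (Polynomial.evalRingHom (0 : K))) Polynomial.X = 0 :=
        Polynomial.eval_X
      rw [this, map_zero])
    (Over.homMk (Spec.map (CommRingCat.ofHom
      (algebraMap (Polynomial K) (FractionRing (Polynomial K))))) rfl)
    (by
      change IsUnit ((Spec.map (CommRingCat.ofHom
        (algebraMap (Polynomial K) (FractionRing (Polynomial K))))).appTop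
        ((Scheme.ΓSpecIso (CommRingCat.of (Polynomial K))).inv Polynomial.X))
      rw [specMap_appTop_inv]
      exact (isUnit_iff_ne_zero.mpr hX0).map _)
    zK zL
    (by
      change (Spec.map (CommRingCat.ofHom
        (algebraMap (Polynomial K) (FractionRing (Polynomial K))))) zL ⤳
        (Spec.map (CommRingCat.ofHom (Polynomial.evalRingHom (0 : K)))) zK
      refine (PrimeSpectrum.le_iff_specializes _ _).mp ?_
      intro c hc
      have h1 : algebraMap (Polynomial K) (FractionRing (Polynomial K)) c ∈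
          (show PrimeSpectrum (FractionRing (Polynomial K)) from zL).asIdeal := hc
      rw [Ideal.eq_bot_of_prime (show PrimeSpectrum (FractionRing (Polynomial K)) from zL).asIdeal,
        Ideal.mem_bot] at h1
      have h2 : c = 0 := (IsFractionRing.injective (Polynomial K)
        (FractionRing (Polynomial K))) (h1.trans (map_zero _).symm)
      rw [h2]
      exact Ideal.zero_mem _)
  refine ⟨x₀, hx₀, fun U hUo hxU => ?_⟩
  obtain ⟨x, hx1, hx2⟩ := hU U hUo hxU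
  refine ⟨x, ?_, hx2⟩
  rw [hx1]
  exact ⟨_, (Scheme.Hom.comp_apply _ _ _).symm⟩

end Orbit

/-! ### the theorem -/

theorem main18963 (k : Type u) [Field k]
    (X Y : Over (Spec (CommRingCat.of k))) (a : AlgGrp.Action (Red.DS (Spec (CommRingCat.of k)) ℤ) X)
    (γ₁ γ₂ : (Magnet.attr (Magnet.MonAct.ofAction a) (AddSubmonoid.multiples (1 : ℤ))).obj (op Y))
    (h : ∀ (T : Over (Spec (CommRingCat.of k))) (m : T ⟶ Magnet.AMonS (Spec (CommRingCat.of k)) (AddSubmonoid.multiples (1 : ℤ))) (t : T ⟶ Y),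
      (∃ n : ℕ, ∀ m' : T ⟶ Magnet.AMonS (Spec (CommRingCat.of k)) (AddSubmonoid.multiples (1 : ℤ)), m ^ (n + 1) * m' = m ^ (n + 1)) →
      CartesianMonoidalCategory.lift m t ≫ γ₁.1 = CartesianMonoidalCategory.lift m t ≫ γ₂.1) :
    γ₁ = γ₂ := by
  apply Subtype.ext
  apply Over.OverMorphism.ext
  have key : ∀ p : (Magnet.AMonS (Spec (CommRingCat.of k)) ↥N1 ⊗ Y).left,
      ∃ (Q : Scheme.{u}) (q : Q ⟶ (Magnet.AMonS (Spec (CommRingCat.of k)) ↥N1 ⊗ Y).left),
        Flat q ∧ p ∈ Set.range q ∧ q ≫ γ₁.1.left = q ≫ γ₂.1.left := by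
    intro p
    obtain ⟨x₀, hx₀, hU⟩ := orbit_point (Y := Y)
      ((Magnet.AMonS (Spec (CommRingCat.of k)) ↥N1 ⊗ Y).left.residueField p)
      ((Magnet.AMonS (Spec (CommRingCat.of k)) ↥N1 ⊗ Y).left.fromSpecResidueField p)
    obtain ⟨W, w, hw1, hw2, hw3⟩ := AG18.partA γ₁.1 γ₂.1 h x₀ hx₀
    obtain ⟨x, hx1, hx2⟩ := hU (Set.range w) w.isOpenEmbedding.isOpen_range hw2
    obtain ⟨u', hu'⟩ := hx2
    obtain ⟨z, hz1, hz2⟩ := Scheme.Pullback.exists_preimage_pullback x u' hu'.symm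
    refine ⟨_, pullback.fst (actP _ Y).act.left w ≫
      (snd (Magnet.AMonS (Spec (CommRingCat.of k)) ℤ)
        (Magnet.AMonS (Spec (CommRingCat.of k)) ↥N1 ⊗ Y)).left, ?_, ?_,
      agree_of_equivariant a γ₁ γ₂ w hw3⟩
    · haveI := flat_snd_left (Magnet.AMonS (Spec (CommRingCat.of k)) ↥N1 ⊗ Y)
      infer_instance
    · refine ⟨z, ?_⟩
      rw [Scheme.Hom.comp_apply, hz1]
      rw [Scheme.range_fromSpecResidueField] at hx1
      exact hx1
  choose Q q hflat hp hagree using key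
  haveI : ∀ p, Flat (q p) := hflat
  exact eq_of_flat_cover Q q hp _ _ hagree

end Groth.Agent.Helper17.AG19
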