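import Mathlib
import Groth.Prelude.Def_GmPts
import Groth.Prelude.Def_Magnet4
import Groth.Prelude.Def_ChGrp
import Groth.Agent.Lib.Helper17.AG9
import Groth.Agent.Lib.Helper17.AG15

/-!
# The attractor of a subgroup magnet is the fixed-point functor of the quotient torus (helper17)

For a subgroup `Z ≤ M`, `D(M) → D(Z)` is faithfully flat and quasi-compact (the group algebra of
`M` is free over that of `Z`), hence an effective epimorphism; equivariant maps out of `D(Z) × T`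
are obtained by descent from orbit maps of `D(M/Z)`-fixed points.
-/

set_option autoImplicit false
universe u
open CategoryTheory CategoryTheory.Limits MonoidalCategory CartesianMonoidalCategory MonObj AlgebraicGeometry Opposite

noncomputable section
namespace Groth.Agent.Helper17.AG20
open GmPts (baseZ toBaseZ)
open Groth.Agent.Helper17.AG14 Groth.Agent.Helper17.AG15

/-! ### the group algebra is free over the group algebra of a subgroup -/

section Free

theorem free_of_injective {k : Type u} [CommRing k] {H G : Type} [CommMonoid H] [CommGroup G]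
    (j : H →* G) (hj : Function.Injective j) (N : Subgroup G) (hN : ∀ g, g ∈ N ↔ ∃ h, j h = g)
    (φ : MonoidAlgebra k H →+* MonoidAlgebra k G)
    (hφ : ∀ h a, φ (MonoidAlgebra.single h a) = MonoidAlgebra.single (j h) a) :
    letI := φ.toAlgebra
    Module.Free (MonoidAlgebra k H) (MonoidAlgebra k G) := by
  letI := φ.toAlgebra
  have hmk : ∀ c : G ⧸ N, (QuotientGroup.mk (Quotient.out c) : G ⧸ N) = c :=
    fun c => QuotientGroup.out_eq' c
  have key : ∀ g : G, ∃ h : H, j h * Quotient.out (QuotientGroup.mk g : G ⧸ N) = g := by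
    intro g
    have h1 : (QuotientGroup.mk (Quotient.out (QuotientGroup.mk g : G ⧸ N)) : G ⧸ N) =
        QuotientGroup.mk g := hmk _
    rw [QuotientGroup.eq] at h1
    obtain ⟨h, hh⟩ := (hN _).mp h1
    exact ⟨h, by rw [hh, mul_comm, mul_inv_cancel_left]⟩
  choose τ hτ using key
  obtain ⟨Φ, hΦdef⟩ : ∃ Φ : ((G ⧸ N) →₀ MonoidAlgebra k H) →ₗ[MonoidAlgebra k H] MonoidAlgebra k G,
      Φ = Finsupp.linearCombination (MonoidAlgebra k H)
        (fun c : G ⧸ N => (MonoidAlgebra.single (Quotient.out c) (1 : k) : MonoidAlgebra k G)) :=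
    ⟨_, rfl⟩
  have hΦ : ∀ (c : G ⧸ N) (h : H) (a : k),
      Φ (Finsupp.single c (MonoidAlgebra.single h a)) =
        MonoidAlgebra.single (j h * Quotient.out c) a := by
    intro c h a
    rw [hΦdef, Finsupp.linearCombination_single, Algebra.smul_def, RingHom.algebraMap_toAlgebra, hφ,
      MonoidAlgebra.single_mul_single, _root_.mul_one]
  obtain ⟨Ψ, hΨdef⟩ : ∃ Ψ : MonoidAlgebra k G →+ ((G ⧸ N) →₀ MonoidAlgebra k H),
      Ψ = (Finsupp.liftAddHom (fun g : G =>
        (Finsupp.singleAddHom (QuotientGroup.mk g : G ⧸ N)).comp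
          (MonoidAlgebra.singleAddHom (τ g)))).comp
        (MonoidAlgebra.coeffAddEquiv (R := k) (M := G)).toAddMonoidHom := ⟨_, rfl⟩
  have hΨ : ∀ (g : G) (a : k), Ψ (MonoidAlgebra.single g a) =
      Finsupp.single (QuotientGroup.mk g : G ⧸ N) (MonoidAlgebra.single (τ g) a) := by
    intro g a
    rw [hΨdef]
    change Finsupp.liftAddHom _ (Finsupp.single g a) = _
    rw [Finsupp.liftAddHom_apply_single]
    rfl
  have hcomp : ∀ v, Ψ (Φ v) = v := by
    have h1 : Ψ.comp Φ.toAddMonoidHom = AddMonoidHom.id _ := by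
      refine Finsupp.addHom_ext fun c ρ => ?_
      have h2 : (Ψ.comp Φ.toAddMonoidHom).comp (Finsupp.singleAddHom c) =
          (AddMonoidHom.id _).comp (Finsupp.singleAddHom c) := by
        refine MonoidAlgebra.addMonoidHom_ext fun h a => ?_
        change Ψ (Φ (Finsupp.single c (MonoidAlgebra.single h a))) =
          Finsupp.single c (MonoidAlgebra.single h a)
        rw [hΦ, hΨ]
        have hm : (QuotientGroup.mk (j h * Quotient.out c) : G ⧸ N) = c := by
          rw [QuotientGroup.mk_mul, (QuotientGroup.eq_one_iff (j h)).mpr ((hN _).mpr ⟨h, rfl⟩),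
            _root_.one_mul, hmk]
        have ht : τ (j h * Quotient.out c) = h := by
          have h3 := hτ (j h * Quotient.out c)
          rw [hm] at h3
          exact hj (mul_right_cancel h3)
        rw [hm, ht]
      exact DFunLike.congr_fun h2 ρ
    exact fun v => DFunLike.congr_fun h1 v
  have hinj : Function.Injective Φ := Function.LeftInverse.injective hcomp
  have hsurj : Function.Surjective Φ := by
    intro x
    induction x using MonoidAlgebra.induction_linear with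
    | zero => exact ⟨0, map_zero Φ⟩
    | add x y hx hy =>
      obtain ⟨v, rfl⟩ := hx
      obtain ⟨w, rfl⟩ := hy
      exact ⟨v + w, map_add Φ v w⟩
    | single g a =>
      exact ⟨Finsupp.single (QuotientGroup.mk g : G ⧸ N) (MonoidAlgebra.single (τ g) a), by
        rw [hΦ, hτ]⟩
  exact Module.Free.of_equiv (LinearEquiv.ofBijective Φ ⟨hinj, hsurj⟩)

theorem faithfullyFlat_mapDomain (k : Type u) [CommRing k] [Nontrivial k] {N M : Type}
    [AddCommMonoid N] [AddCommGroup M] (f : N →+ M) (hf : Function.Injective f)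
    (Zs : AddSubgroup M) (hZ : ∀ m, m ∈ Zs ↔ ∃ n, f n = m) :
    (MonoidAlgebra.mapDomainBialgHom k
      (AddMonoidHom.toMultiplicative f)).toAlgHom.toRingHom.FaithfullyFlat := by
  unfold RingHom.FaithfullyFlat
  letI := (MonoidAlgebra.mapDomainBialgHom k
      (AddMonoidHom.toMultiplicative f)).toAlgHom.toRingHom.toAlgebra
  haveI := free_of_injective (k := k) (AddMonoidHom.toMultiplicative f) (fun x y h => hf h)
    (AddSubgroup.toSubgroup Zs) (fun g => hZ (Multiplicative.toAdd g))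
    (MonoidAlgebra.mapDomainBialgHom k (AddMonoidHom.toMultiplicative f)).toAlgHom.toRingHom
    (fun h a => by
      change MonoidAlgebra.mapDomain _ (MonoidAlgebra.single h a) = _
      rw [MonoidAlgebra.mapDomain_single])
  infer_instance

end Free

/-! ### geometry -/

theorem isPullback_snd_whiskerLeft {C : Type*} [Category C] [CartesianMonoidalCategory C]
    (A : C) {X Y : C} (f : X ⟶ Y) : IsPullback (snd A X) (A ◁ f) f (snd A Y) := by
  have w : snd A X ≫ f = (A ◁ f) ≫ snd A Y := by simp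
  refine IsPullback.mk ⟨w⟩ ⟨PullbackCone.IsLimit.mk w
    (fun s => lift (s.snd ≫ fst A Y) s.fst) ?_ ?_ ?_⟩
  · intro s
    simp
  · intro s
    apply CartesianMonoidalCategory.hom_ext
    · simp
    · simp [s.condition]
  · intro s m h1 h2
    apply CartesianMonoidalCategory.hom_ext
    · simp [← h2]
    · simp [← h1]

variable {S : Scheme.{u}}

theorem ffqc_map {N M : Type} [AddCommMonoid N] [AddCommGroup M] (f : N →+ M)
    (hf : Function.Injective f) (Zs : AddSubgroup M) (hZ : ∀ m, m ∈ Zs ↔ ∃ n, f n = m)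
    (T : Over S) :
    Flat (Magnet.AMonS.map S f ▷ T).left ∧ Surjective (Magnet.AMonS.map S f ▷ T).left ∧
      QuasiCompact (Magnet.AMonS.map S f ▷ T).left := by
  have t2 := (AG9.isPullback_whiskerRight_fst (Magnet.AMonS.map S f) T).map (Over.forget S)
  have t3 := AG9.isPullback_overPullback_map (toBaseZ S) (Magnet.AMon.map (ULift.{u} ℤ) f)
  have sq := t2.paste_horiz t3
  have h0 : Flat (Magnet.AMon.map (ULift.{u} ℤ) f).left ∧
      Surjective (Magnet.AMon.map (ULift.{u} ℤ) f).left :=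
    (flat_and_surjective_SpecMap_iff (CommRingCat.ofHom
      (MonoidAlgebra.mapDomainBialgHom (ULift.{u} ℤ)
        (AddMonoidHom.toMultiplicative f)).toAlgHom.toRingHom)).mpr
      (faithfullyFlat_mapDomain (ULift.{u} ℤ) f hf Zs hZ)
  have hqc : QuasiCompact (Magnet.AMon.map (ULift.{u} ℤ) f).left := by
    have hq' : QuasiCompact (Spec.map (CommRingCat.ofHom
      (MonoidAlgebra.mapDomainBialgHom (ULift.{u} ℤ)
        (AddMonoidHom.toMultiplicative f)).toAlgHom.toRingHom)) := inferInstance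
    exact hq'
  exact ⟨MorphismProperty.of_isPullback (P := @Flat) sq h0.1,
    MorphismProperty.of_isPullback (P := @Surjective) sq h0.2,
    MorphismProperty.of_isPullback (P := @QuasiCompact) sq hqc⟩

theorem epi_of_flat_surj {A B : Over S} (g : A ⟶ B) [Flat g.left] [Surjective g.left] : Epi g := by
  haveI : Epi ((Over.forget S).map g) := Flat.epi_of_flat_of_surjective g.left
  exact (Over.forget S).epi_of_epi_map ‹_›

/-! ### characters -/

section Kernel
variable {M : Type} [AddCommGroup M] (Z : AddSubgroup M) {W : Over S}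

theorem kq_r_trivial (κ : W ⟶ Magnet.AMonS S (M ⧸ Z)) :
    (κ ≫ Magnet.AMonS.map S (QuotientAddGroup.mk' Z)) ≫
      Magnet.AMonS.map S Z.toAddSubmonoid.subtype = 1 := by
  rw [Category.assoc, ← Magnet.AMonS.map_comp]
  apply charOfPt_injective
  refine MonoidHom.ext fun z' => ?_
  obtain ⟨z, rfl⟩ : ∃ z : ↥Z.toAddSubmonoid, Multiplicative.ofAdd z = z' := ⟨Multiplicative.toAdd z', rfl⟩
  rw [charOfPt_map_apply, charOfPt_one]
  have h : ((QuotientAddGroup.mk' Z).comp Z.toAddSubmonoid.subtype) z = 0 :=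
    (QuotientAddGroup.eq_zero_iff _).mpr z.2
  rw [h]
  exact map_one _

theorem exists_lift_of_trivial (δ : W ⟶ Magnet.AMonS S M)
    (hδ : ∀ z : M, z ∈ Z → charOfPt δ (Multiplicative.ofAdd z) = 1) :
    ∃ κ : W ⟶ Magnet.AMonS S (M ⧸ Z), κ ≫ Magnet.AMonS.map S (QuotientAddGroup.mk' Z) = δ := by
  obtain ⟨χ', hχ'⟩ : ∃ χ' : M →+ Additive Γ(W.left, ⊤), χ' = MonoidHom.toAdditiveRight (charOfPt δ) :=
    ⟨_, rfl⟩
  have hker : Z ≤ χ'.ker := fun z hz => by
    rw [AddMonoidHom.mem_ker, hχ']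
    exact congrArg Additive.ofMul (hδ z hz)
  refine ⟨ptOfChar (AddMonoidHom.toMultiplicativeLeft (QuotientAddGroup.lift Z χ' hker)), ?_⟩
  apply charOfPt_injective
  refine MonoidHom.ext fun m' => ?_
  obtain ⟨m, rfl⟩ : ∃ m : M, Multiplicative.ofAdd m = m' := ⟨Multiplicative.toAdd m', rfl⟩
  rw [charOfPt_map_apply, charOfPt_ptOfChar]
  subst hχ'
  rfl

end Kernel

/-! ### the comparison -/

section Main
variable {M : Type} [AddCommGroup M] (Z : AddSubgroup M) {X : Over S}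
  (a : AlgGrp.Action (Red.DS S M) X)

theorem subAct_formula {T' : Over S} (g : T' ⟶ Magnet.AMonS S M)
    (b : T' ⟶ Magnet.AMonS S ↥Z.toAddSubmonoid) :
    lift g b ≫ (Magnet.subAct S M Z.toAddSubmonoid).act =
      (g ≫ Magnet.AMonS.map S Z.toAddSubmonoid.subtype) * b := by
  unfold Magnet.subAct
  rw [Magnet.MonAct.lift_restrict_act, Magnet.MonAct.lift_regular_act]

theorem fixed_of_attr (T : Over S)
    (φ : (Magnet.attr (Magnet.MonAct.ofAction a) Z.toAddSubmonoid).obj (op T))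
    (T' : Over S) (t : T' ⟶ T) (g : T' ⟶ Magnet.AMonS S (M ⧸ Z)) :
    lift g (t ≫ (Magnet.attrToX (Magnet.MonAct.ofAction a) Z.toAddSubmonoid).app (op T) φ) ≫
      ((Magnet.MonAct.ofAction a).restrict (Magnet.AMonS.map S (QuotientAddGroup.mk' Z))).act =
      t ≫ (Magnet.attrToX (Magnet.MonAct.ofAction a) Z.toAddSubmonoid).app (op T) φ := by
  have h := (Magnet.MonAct.mem_eqvHom_iff φ.1).mp φ.2 T'
    (g ≫ Magnet.AMonS.map S (QuotientAddGroup.mk' Z))
    (toUnit T' ≫ η[Magnet.AMonS S ↥Z.toAddSubmonoid]) t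
  have e1 : lift (g ≫ Magnet.AMonS.map S (QuotientAddGroup.mk' Z))
      (toUnit T' ≫ η[Magnet.AMonS S ↥Z.toAddSubmonoid]) ≫
      (Magnet.subAct S M Z.toAddSubmonoid).act =
      toUnit T' ≫ η[Magnet.AMonS S ↥Z.toAddSubmonoid] := by
    rw [subAct_formula, ← Hom.one_def, _root_.mul_one]
    exact kq_r_trivial Z g
  have e2 : lift (toUnit T' ≫ η[Magnet.AMonS S ↥Z.toAddSubmonoid]) t =
      t ≫ lift (toUnit T ≫ η[Magnet.AMonS S ↥Z.toAddSubmonoid]) (𝟙 T) := by
    rw [comp_lift, Category.comp_id, ← Category.assoc, comp_toUnit]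
  rw [Magnet.MonAct.lift_restrict_act]
  rw [e1, e2, Category.assoc] at h
  exact h.symm

/-- the comparison map -/
def fwd : Magnet.attr (Magnet.MonAct.ofAction a) Z.toAddSubmonoid ⟶
    Magnet.MonAct.fixedPsh ((Magnet.MonAct.ofAction a).restrict
      (Magnet.AMonS.map S (QuotientAddGroup.mk' Z))) where
  app T := TypeCat.ofHom fun φ =>
    ⟨(Magnet.attrToX (Magnet.MonAct.ofAction a) Z.toAddSubmonoid).app T φ,
      fun T' t g => fixed_of_attr Z a (unop T) φ T' t g⟩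
  naturality _ _ t := ConcreteCategory.hom_ext _ _ fun φ => Subtype.ext
    (congrArg (fun f => f φ)
      ((Magnet.attrToX (Magnet.MonAct.ofAction a) Z.toAddSubmonoid).naturality t))

theorem fwd_injective (T : Over S) : Function.Injective ((fwd Z a).app (op T)) := by
  intro φ φ' h
  have hx : (Magnet.attrToX (Magnet.MonAct.ofAction a) Z.toAddSubmonoid).app (op T) φ =
      (Magnet.attrToX (Magnet.MonAct.ofAction a) Z.toAddSubmonoid).app (op T) φ' :=
    congrArg Subtype.val h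
  obtain ⟨hfl, hsu, -⟩ := ffqc_map (S := S) Z.toAddSubmonoid.subtype Subtype.val_injective Z
    (fun m => ⟨fun hm => ⟨⟨m, hm⟩, rfl⟩, fun ⟨n, hn⟩ => hn ▸ n.2⟩) T
  haveI := hfl
  haveI := hsu
  haveI := epi_of_flat_surj (Magnet.AMonS.map S Z.toAddSubmonoid.subtype ▷ T)
  apply Subtype.ext
  rw [← cancel_epi (Magnet.AMonS.map S Z.toAddSubmonoid.subtype ▷ T)]
  have h1 := AG9.whisker_comp_eq_orbit (Magnet.MonAct.ofAction a) Z.toAddSubmonoid T φ
  have h2 := AG9.whisker_comp_eq_orbit (Magnet.MonAct.ofAction a) Z.toAddSubmonoid T φ'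
  rw [h1, h2, hx]

theorem exists_attr_of_fixed (T : Over S) (x : T ⟶ X)
    (hx : ∀ (T' : Over S) (t : T' ⟶ T) (g : T' ⟶ Magnet.AMonS S (M ⧸ Z)),
      lift g (t ≫ x) ≫ ((Magnet.MonAct.ofAction a).restrict
        (Magnet.AMonS.map S (QuotientAddGroup.mk' Z))).act = t ≫ x) :
    ∃ φ : (Magnet.attr (Magnet.MonAct.ofAction a) Z.toAddSubmonoid).obj (op T),
      (Magnet.attrToX (Magnet.MonAct.ofAction a) Z.toAddSubmonoid).app (op T) φ = x := by
  obtain ⟨hfl, hsu, hqc⟩ := ffqc_map (S := S) Z.toAddSubmonoid.subtype Subtype.val_injective Z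
    (fun m => ⟨fun hm => ⟨⟨m, hm⟩, rfl⟩, fun ⟨n, hn⟩ => hn ▸ n.2⟩) T
  haveI := hfl
  haveI := hsu
  haveI := hqc
  obtain ⟨r, hr⟩ : ∃ r : Magnet.AMonS S M ⟶ Magnet.AMonS S ↥Z.toAddSubmonoid,
      r = Magnet.AMonS.map S Z.toAddSubmonoid.subtype := ⟨_, rfl⟩
  haveI : IsMonHom r := by rw [hr]; infer_instance
  rw [← hr] at hfl hsu hqc
  haveI := hfl
  haveI := hsu
  haveI := hqc
  obtain ⟨ψ, hψ⟩ : ∃ ψ : Magnet.AMonS S M ⊗ T ⟶ X, ψ = (Magnet.AMonS S M ◁ x) ≫ a.act :=
    ⟨_, rfl⟩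
  have hψpt : ∀ (T' : Over S) (g : T' ⟶ Magnet.AMonS S M) (t : T' ⟶ T),
      lift g t ≫ ψ = lift g (t ≫ x) ≫ a.act := by
    intro T' g t
    rw [hψ, lift_whiskerLeft_assoc]
  -- the descent condition
  have hdesc : ∀ {W : Scheme.{u}} (g₁ g₂ : W ⟶ (Magnet.AMonS S M ⊗ T).left),
      g₁ ≫ (r ▷ T).left = g₂ ≫ (r ▷ T).left → g₁ ≫ ψ.left = g₂ ≫ ψ.left := by
    intro W g₁ g₂ hg
    have hw : g₂ ≫ (Magnet.AMonS S M ⊗ T).hom = g₁ ≫ (Magnet.AMonS S M ⊗ T).hom := by
      rw [← Over.w (r ▷ T), ← Category.assoc, ← hg, Category.assoc]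
    obtain ⟨k₁, hk₁⟩ : ∃ k : Over.mk (g₁ ≫ (Magnet.AMonS S M ⊗ T).hom) ⟶ Magnet.AMonS S M ⊗ T,
        k = Over.homMk g₁ rfl := ⟨_, rfl⟩
    obtain ⟨k₂, hk₂⟩ : ∃ k : Over.mk (g₁ ≫ (Magnet.AMonS S M ⊗ T).hom) ⟶ Magnet.AMonS S M ⊗ T,
        k = Over.homMk g₂ hw := ⟨_, rfl⟩
    have hk₁l : k₁.left = g₁ := by rw [hk₁]; rfl
    have hk₂l : k₂.left = g₂ := by rw [hk₂]; rfl
    have hk : k₁ ≫ (r ▷ T) = k₂ ≫ (r ▷ T) := by
      apply Over.OverMorphism.ext
      rw [Over.comp_left, Over.comp_left, hk₁l, hk₂l]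
      exact hg
    have hfst : (k₁ ≫ fst _ _) ≫ r = (k₂ ≫ fst _ _) ≫ r := by
      have h1 := congrArg (· ≫ fst (Magnet.AMonS S ↥Z.toAddSubmonoid) T) hk
      simp only [Category.assoc, whiskerRight_fst] at h1
      simpa only [Category.assoc] using h1
    have hsnd : k₁ ≫ snd _ _ = k₂ ≫ snd _ _ := by
      have h1 := congrArg (· ≫ snd (Magnet.AMonS S ↥Z.toAddSubmonoid) T) hk
      simp only [Category.assoc, whiskerRight_snd] at h1
      exact h1
    obtain ⟨gam1, hgam1⟩ : ∃ gam : Over.mk (g₁ ≫ (Magnet.AMonS S M ⊗ T).hom) ⟶ Red.DS S M,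
        gam = k₁ ≫ fst _ _ := ⟨_, rfl⟩
    obtain ⟨gam2, hgam2⟩ : ∃ gam : Over.mk (g₁ ≫ (Magnet.AMonS S M ⊗ T).hom) ⟶ Red.DS S M,
        gam = k₂ ≫ fst _ _ := ⟨_, rfl⟩
    rw [← hgam1, ← hgam2] at hfst
    have hδ : ∀ z : M, z ∈ Z → charOfPt (M := M) (gam2⁻¹ * gam1) (Multiplicative.ofAdd z) = 1 := by
      intro z hz
      have e1 : charOfPt (gam1 ≫ r) (Multiplicative.ofAdd (⟨z, hz⟩ : ↥Z.toAddSubmonoid)) =
          charOfPt (gam2 ≫ r) (Multiplicative.ofAdd (⟨z, hz⟩ : ↥Z.toAddSubmonoid)) := by rw [hfst]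
      rw [hr, charOfPt_map_apply, charOfPt_map_apply] at e1
      have e2 : charOfPt (M := M) (gam2⁻¹ * gam1) = charOfPt (M := M) gam2⁻¹ * charOfPt (M := M) gam1 :=
        charOfPt_mul _ _
      have e3 : charOfPt (M := M) gam2⁻¹ * charOfPt (M := M) gam2 = 1 :=
        (charOfPt_mul _ _).symm.trans ((congrArg (charOfPt (M := M)) (inv_mul_cancel gam2)).trans
          charOfPt_one)
      rw [e2, MonoidHom.mul_apply]
      have e4 : charOfPt (M := M) gam1 (Multiplicative.ofAdd z) =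
          charOfPt (M := M) gam2 (Multiplicative.ofAdd z) := e1
      rw [e4, ← MonoidHom.mul_apply, e3]
      rfl
    obtain ⟨κ, hκ⟩ := exists_lift_of_trivial Z (gam2⁻¹ * gam1) hδ
    have hgam : gam1 = gam2 * (gam2⁻¹ * gam1) := (mul_inv_cancel_left gam2 gam1).symm
    have hfix : lift (gam2⁻¹ * gam1) ((k₁ ≫ snd _ _) ≫ x) ≫ a.act = (k₁ ≫ snd _ _) ≫ x := by
      have h1 := hx _ (k₁ ≫ snd _ _) κ
      rw [Magnet.MonAct.lift_restrict_act, hκ] at h1
      exact h1
    have hkk : k₁ ≫ ψ = k₂ ≫ ψ := by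
      calc k₁ ≫ ψ = lift (k₁ ≫ fst _ _) (k₁ ≫ snd _ _) ≫ ψ := by rw [lift_comp_fst_snd]
        _ = lift gam1 ((k₁ ≫ snd _ _) ≫ x) ≫ a.act := by rw [hψpt, hgam1]
        _ = lift (gam2 * (gam2⁻¹ * gam1)) ((k₁ ≫ snd _ _) ≫ x) ≫ a.act := by rw [← hgam]
        _ = lift gam2 (lift (gam2⁻¹ * gam1) ((k₁ ≫ snd _ _) ≫ x) ≫ a.act) ≫ a.act :=
            a.lift_mul_act _ _ _
        _ = lift gam2 ((k₁ ≫ snd _ _) ≫ x) ≫ a.act := by rw [hfix]
        _ = lift gam2 ((k₂ ≫ snd _ _) ≫ x) ≫ a.act := by rw [hsnd]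
        _ = lift (k₂ ≫ fst _ _) (k₂ ≫ snd _ _) ≫ ψ := by rw [hψpt, hgam2]
        _ = k₂ ≫ ψ := by rw [lift_comp_fst_snd]
    have h3 := congrArg (fun f => f.left) hkk
    simp only [Over.comp_left, hk₁l, hk₂l] at h3
    exact h3
  obtain ⟨φl, hφl⟩ : ∃ φl : (Magnet.AMonS S ↥Z.toAddSubmonoid ⊗ T).left ⟶ X.left,
      (r ▷ T).left ≫ φl = ψ.left :=
    ⟨EffectiveEpi.desc (r ▷ T).left ψ.left hdesc, EffectiveEpi.fac _ _ _⟩
  haveI : Epi (r ▷ T).left := Flat.epi_of_flat_of_surjective _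
  have hw : φl ≫ X.hom = (Magnet.AMonS S ↥Z.toAddSubmonoid ⊗ T).hom := by
    rw [← cancel_epi (r ▷ T).left, ← Category.assoc, hφl, Over.w ψ, Over.w (r ▷ T)]
  obtain ⟨φ, hφ⟩ : ∃ φ : Magnet.AMonS S ↥Z.toAddSubmonoid ⊗ T ⟶ X, φ = Over.homMk φl hw :=
    ⟨_, rfl⟩
  have hφψ : (r ▷ T) ≫ φ = ψ := by
    apply Over.OverMorphism.ext
    rw [Over.comp_left, hφ]
    exact hφl
  have hφpt : ∀ (T' : Over S) (g : T' ⟶ Magnet.AMonS S M) (t : T' ⟶ T),
      lift (g ≫ r) t ≫ φ = lift g (t ≫ x) ≫ a.act := by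
    intro T' g t
    rw [← lift_whiskerRight_assoc, hφψ, hψpt]
  -- equivariance
  have heq : Magnet.MonAct.IsEquivariant ((Magnet.subAct S M Z.toAddSubmonoid).prod
      (Magnet.MonAct.trivial (Magnet.AMonS S M) T)) (Magnet.MonAct.ofAction a) φ := by
    unfold Magnet.MonAct.IsEquivariant
    haveI : Flat (Magnet.AMonS S M ◁ (r ▷ T)).left :=
      MorphismProperty.of_isPullback (P := @Flat)
        ((isPullback_snd_whiskerLeft (Magnet.AMonS S M) (r ▷ T)).map (Over.forget S)) hfl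
    haveI : Surjective (Magnet.AMonS S M ◁ (r ▷ T)).left :=
      MorphismProperty.of_isPullback (P := @Surjective)
        ((isPullback_snd_whiskerLeft (Magnet.AMonS S M) (r ▷ T)).map (Over.forget S)) hsu
    haveI := epi_of_flat_surj (Magnet.AMonS S M ◁ (r ▷ T))
    rw [← cancel_epi (Magnet.AMonS S M ◁ (r ▷ T))]
    apply Magnet.hom_ext_lift₂
    intro T' g z
    have ez : z ≫ (r ▷ T) = lift ((z ≫ fst _ _) ≫ r) (z ≫ snd _ _) := by
      rw [← lift_whiskerRight, lift_comp_fst_snd]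
    rw [lift_whiskerLeft_assoc, lift_whiskerLeft_assoc, ez,
      Magnet.MonAct.lift_prod_act_assoc, Magnet.MonAct.lift_trivial_act, lift_whiskerLeft_assoc]
    have e5 : lift g ((z ≫ fst _ _) ≫ r) ≫ (Magnet.subAct S M Z.toAddSubmonoid).act =
        (g * (z ≫ fst _ _)) ≫ r := by
      rw [hr]
      exact (subAct_formula Z g _).trans (MonObj.mul_comp g _ _).symm
    have e6 := hφpt T' (g * (z ≫ fst _ _)) (z ≫ snd _ _)
    have e7 := hφpt T' (z ≫ fst _ _) (z ≫ snd _ _)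
    have e8 := a.lift_mul_act g (z ≫ fst _ _) ((z ≫ snd _ _) ≫ x)
    exact (congrArg (fun w => lift w (z ≫ snd _ _) ≫ φ) e5).trans
      (e6.trans (e8.trans (congrArg (fun w => lift g w ≫ a.act) e7).symm))
  refine ⟨⟨φ, heq⟩, ?_⟩
  change lift (toUnit T ≫ η[Magnet.AMonS S ↥Z.toAddSubmonoid]) (𝟙 T) ≫ φ = x
  have e1 : toUnit T ≫ η[Magnet.AMonS S ↥Z.toAddSubmonoid] =
      (toUnit T ≫ η[Magnet.AMonS S M]) ≫ r := by
    rw [Category.assoc, IsMonHom.one_hom]
  rw [e1, hφpt, Category.id_comp, ← Hom.one_def]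
  exact a.lift_one_act x

theorem isIso_fwd : IsIso (fwd Z a) := by
  haveI : ∀ T : (Over S)ᵒᵖ, IsIso ((fwd Z a).app T) := by
    intro T
    rw [isIso_iff_bijective]
    refine ⟨fwd_injective Z a (unop T), ?_⟩
    intro x
    obtain ⟨φ, hφ⟩ := exists_attr_of_fixed Z a (unop T) x.1 x.2
    exact ⟨φ, Subtype.ext hφ⟩
  exact NatIso.isIso_of_isIso_app _

end Main

theorem main18289 (S : Scheme.{u}) (M : Type) [AddCommGroup M] [AddGroup.FG M]
    (Z : AddSubgroup M) (X : Over S) (a : AlgGrp.Action (Red.DS S M) X) :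
    ∃ e : Magnet.attr (Magnet.MonAct.ofAction a) Z.toAddSubmonoid ≅
        Magnet.MonAct.fixedPsh ((Magnet.MonAct.ofAction a).restrict (Magnet.AMonS.map S (QuotientAddGroup.mk' Z))),
      e.hom ≫ Magnet.MonAct.fixedPshι _ = Magnet.attrToX (Magnet.MonAct.ofAction a) Z.toAddSubmonoid := by
  haveI := isIso_fwd Z a
  refine ⟨asIso (fwd Z a), ?_⟩
  ext T φ
  rfl

end Groth.Agent.Helper17.AG20
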