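import Mathlib
import Groth.Prelude.Def_GmPts
import Groth.Prelude.Def_Magnet4
import Groth.Prelude.Def_ChGrp
import Groth.Agent.Lib.Helper17.AG9
import Groth.Agent.Lib.Helper17.AG15
import Groth.Agent.Lib.Helper17.AG20

/-!
# Change of monoid for attractors of diagonalisable group actions (helper17)

For `f : M → Z`, a submonoid `Y ≤ f(M)` and `N = f⁻¹ Y`, the orbit map
`D(M) × A(Y) × T → A(N) × T` is faithfully flat and quasi-compact (a base change of `D(M) → D(ker f)`),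
and `D(Z)`-equivariant maps out of `A(Y) × T` descend along it to `D(M)`-equivariant maps out of
`A(N) × T`.
-/

set_option autoImplicit false
universe u
open CategoryTheory CategoryTheory.Limits MonoidalCategory CartesianMonoidalCategory MonObj AlgebraicGeometry Opposite

noncomputable section
namespace Groth.Agent.Helper17.AG21
open GmPts (baseZ toBaseZ)
open Groth.Agent.Helper17.AG14 Groth.Agent.Helper17.AG15 Groth.Agent.Helper17.AG20

/-! ### abstract part -/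

section Abstract
universe v₁ u₁
variable {C : Type u₁} [Category.{v₁} C] [CartesianMonoidalCategory C]

theorem eq_lift₃ {A B T W : C} (z : W ⟶ A ⊗ (B ⊗ T)) :
    z = lift (z ≫ fst _ _) (lift (z ≫ snd _ _ ≫ fst _ _) (z ≫ snd _ _ ≫ snd _ _)) := by
  apply CartesianMonoidalCategory.hom_ext
  · simp
  · apply CartesianMonoidalCategory.hom_ext <;> simp

theorem abstract_lift_theta {G AN AY T W : C} [MonObj AN] (rN : G ⟶ AN) (i : AY ⟶ AN)
    (g : W ⟶ G) (y : W ⟶ AY) (t : W ⟶ T) :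
    lift g (lift y t) ≫ lift ((fst G (AY ⊗ T) ≫ rN) * ((snd G (AY ⊗ T) ≫ fst AY T) ≫ i))
        (snd G (AY ⊗ T) ≫ snd AY T) = lift ((g ≫ rN) * (y ≫ i)) t := by
  rw [comp_lift, MonObj.comp_mul]
  simp only [Category.assoc, lift_fst_assoc, lift_snd_assoc, lift_snd]

theorem abstract_isPullback {G AN AY K T : C} [GrpObj G] [MonObj AN] [MonObj AY] [MonObj K]
    (rN : G ⟶ AN) (hrN : IsMonHom rN) (i : AY ⟶ AN) (hi : Mono i) (ρ : AN ⟶ K) (hρ : IsMonHom ρ)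
    (rK : G ⟶ K) (hrK : rN ≫ ρ = rK)
    (htriv : ∀ {W : C} (y : W ⟶ AY), (y ≫ i) ≫ ρ = 1)
    (hlift : ∀ {W : C} (p : W ⟶ AN), p ≫ ρ = 1 → ∃ y : W ⟶ AY, y ≫ i = p)
    (Θ : G ⊗ (AY ⊗ T) ⟶ AN ⊗ T)
    (hΘ : ∀ {W : C} (g : W ⟶ G) (y : W ⟶ AY) (t : W ⟶ T),
      lift g (lift y t) ≫ Θ = lift ((g ≫ rN) * (y ≫ i)) t) :
    IsPullback (fst G (AY ⊗ T)) Θ rK (fst AN T ≫ ρ) := by
  subst hrK
  haveI := hrN
  haveI := hρ
  haveI := hi
  have w : fst G (AY ⊗ T) ≫ rN ≫ ρ = Θ ≫ fst AN T ≫ ρ := by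
    apply Magnet.hom_ext_lift₂
    intro W g z
    obtain ⟨y, t, rfl⟩ : ∃ (y : W ⟶ AY) (t : W ⟶ T), z = lift y t :=
      ⟨_, _, (lift_comp_fst_snd z).symm⟩
    calc lift g (lift y t) ≫ fst G (AY ⊗ T) ≫ rN ≫ ρ = g ≫ rN ≫ ρ := by rw [lift_fst_assoc]
      _ = ((g ≫ rN) ≫ ρ) * ((y ≫ i) ≫ ρ) := by rw [htriv, _root_.mul_one, Category.assoc]
      _ = ((g ≫ rN) * (y ≫ i)) ≫ ρ := (MonObj.mul_comp _ _ _).symm
      _ = lift ((g ≫ rN) * (y ≫ i)) t ≫ fst AN T ≫ ρ := by rw [lift_fst_assoc]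
      _ = (lift g (lift y t) ≫ Θ) ≫ fst AN T ≫ ρ := by rw [hΘ]
      _ = lift g (lift y t) ≫ Θ ≫ fst AN T ≫ ρ := Category.assoc _ _ _
  have hq : ∀ {W : C} (g : W ⟶ G) (p : W ⟶ AN), g ≫ rN ≫ ρ = p ≫ ρ →
      ((g⁻¹ ≫ rN) * p) ≫ ρ = 1 := by
    intro W g p hgp
    calc ((g⁻¹ ≫ rN) * p) ≫ ρ = ((g⁻¹ ≫ rN) ≫ ρ) * (p ≫ ρ) := MonObj.mul_comp _ _ _
      _ = (g⁻¹ ≫ rN ≫ ρ) * (g ≫ rN ≫ ρ) := by rw [← hgp, Category.assoc]
      _ = (g⁻¹ * g) ≫ rN ≫ ρ := (MonObj.mul_comp g⁻¹ g (rN ≫ ρ)).symm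
      _ = 1 := by rw [_root_.inv_mul_cancel, MonObj.one_comp]
  have hy : ∀ s : PullbackCone (rN ≫ ρ) (fst AN T ≫ ρ),
      ∃ y : s.pt ⟶ AY, y ≫ i = (s.fst⁻¹ ≫ rN) * (s.snd ≫ fst AN T) := fun s =>
    hlift _ (hq s.fst (s.snd ≫ fst AN T) (by rw [Category.assoc]; exact s.condition))
  choose yy hyy using hy
  refine IsPullback.mk ⟨w⟩ ⟨PullbackCone.IsLimit.mk w
    (fun s => lift s.fst (lift (yy s) (s.snd ≫ snd AN T))) ?_ ?_ ?_⟩
  · intro s
    exact lift_fst _ _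
  · intro s
    show lift s.fst (lift (yy s) (s.snd ≫ snd AN T)) ≫ Θ = s.snd
    rw [hΘ, hyy, ← _root_.mul_assoc, ← MonObj.mul_comp, _root_.mul_inv_cancel, MonObj.one_comp,
      _root_.one_mul, lift_comp_fst_snd]
  · intro s m hm1 hm2
    obtain ⟨g, y, t, rfl⟩ : ∃ (g : s.pt ⟶ G) (y : s.pt ⟶ AY) (t : s.pt ⟶ T),
        m = lift g (lift y t) := ⟨_, _, _, eq_lift₃ m⟩
    rw [lift_fst] at hm1
    rw [hΘ] at hm2
    have ht : t = s.snd ≫ snd AN T := by rw [← hm2, lift_snd]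
    have hy' : y = yy s := by
      rw [← cancel_mono i, hyy, ← hm1, ← hm2, lift_fst, ← _root_.mul_assoc, ← MonObj.mul_comp,
        _root_.inv_mul_cancel, MonObj.one_comp, _root_.one_mul]
    show lift g (lift y t) = lift s.fst (lift (yy s) (s.snd ≫ snd AN T))
    rw [hy', ht, hm1]

theorem abstract_inj {G AN AY X T : C} [GrpObj G] [MonObj AN] (a : Magnet.MonAct G X)
    (rN : G ⟶ AN) (i : AY ⟶ AN) (Θ : G ⊗ (AY ⊗ T) ⟶ AN ⊗ T)
    (hΘ : ∀ {W : C} (g : W ⟶ G) (y : W ⟶ AY) (t : W ⟶ T),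
      lift g (lift y t) ≫ Θ = lift ((g ≫ rN) * (y ≫ i)) t)
    (hepi : Epi Θ) (φ φ' : AN ⊗ T ⟶ X)
    (hφ : ∀ {W : C} (g : W ⟶ G) (p : W ⟶ AN) (t : W ⟶ T),
      lift ((g ≫ rN) * p) t ≫ φ = lift g (lift p t ≫ φ) ≫ a.act)
    (hφ' : ∀ {W : C} (g : W ⟶ G) (p : W ⟶ AN) (t : W ⟶ T),
      lift ((g ≫ rN) * p) t ≫ φ' = lift g (lift p t ≫ φ') ≫ a.act)
    (h : (i ▷ T) ≫ φ = (i ▷ T) ≫ φ') : φ = φ' := by
  haveI := hepi
  rw [← cancel_epi Θ]
  apply Magnet.hom_ext_lift₂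
  intro W g z
  obtain ⟨y, t, rfl⟩ : ∃ (y : W ⟶ AY) (t : W ⟶ T), z = lift y t :=
    ⟨_, _, (lift_comp_fst_snd z).symm⟩
  have h1 : lift (y ≫ i) t ≫ φ = lift (y ≫ i) t ≫ φ' := by
    have h2 := congrArg (fun m => lift y t ≫ m) h
    simp only [lift_whiskerRight_assoc] at h2
    exact h2
  calc lift g (lift y t) ≫ Θ ≫ φ = (lift g (lift y t) ≫ Θ) ≫ φ := (Category.assoc _ _ _).symm
    _ = lift g (lift (y ≫ i) t ≫ φ) ≫ a.act := by rw [hΘ, hφ]
    _ = lift g (lift (y ≫ i) t ≫ φ') ≫ a.act := by rw [h1]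
    _ = (lift g (lift y t) ≫ Θ) ≫ φ' := by rw [hΘ, hφ']
    _ = lift g (lift y t) ≫ Θ ≫ φ' := Category.assoc _ _ _

theorem abstract_surj {G AN AY K H Q X T : C} [GrpObj G] [MonObj AN] [MonObj AY] [MonObj K]
    (a : Magnet.MonAct G X)
    (rN : G ⟶ AN) (hrN : IsMonHom rN) (i : AY ⟶ AN) (hi : IsMonHom i) (hmono : Mono i)
    (ρ : AN ⟶ K) (hρ : IsMonHom ρ) (htriv : ∀ {W : C} (y : W ⟶ AY), (y ≫ i) ≫ ρ = 1)
    (F : H ⟶ G) (rY : H ⟶ AY) (comm : rY ≫ i = F ≫ rN)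
    (Fbar : H ⟶ Q) (q : Q ⟶ G) (hF : Fbar ≫ q = F)
    (Θ : G ⊗ (AY ⊗ T) ⟶ AN ⊗ T)
    (hΘ : ∀ {W : C} (g : W ⟶ G) (y : W ⟶ AY) (t : W ⟶ T),
      lift g (lift y t) ≫ Θ = lift ((g ≫ rN) * (y ≫ i)) t)
    (hepi : Epi (G ◁ Θ))
    (hdesc : ∀ Ψ : G ⊗ (AY ⊗ T) ⟶ X,
      (∀ {W : C} (k₁ k₂ : W ⟶ G ⊗ (AY ⊗ T)), k₁ ≫ Θ = k₂ ≫ Θ → k₁ ≫ Ψ = k₂ ≫ Ψ) →
        ∃ φ : AN ⊗ T ⟶ X, Θ ≫ φ = Ψ)
    (hQ : ∀ {W : C} (h : W ⟶ G), (h ≫ rN) ≫ ρ = 1 → ∃ κ : W ⟶ Q, κ ≫ q = h)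
    (hloc : ∀ {W : C} (κ : W ⟶ Q), ∃ (W' : C) (w : W' ⟶ W) (_ : Epi w) (h' : W' ⟶ H),
      h' ≫ Fbar = w ≫ κ)
    (ψ : AY ⊗ T ⟶ X)
    (hψ : ∀ {W : C} (h : W ⟶ H) (y : W ⟶ AY) (t : W ⟶ T),
      lift ((h ≫ rY) * y) t ≫ ψ = lift (h ≫ F) (lift y t ≫ ψ) ≫ a.act) :
    ∃ φ : AN ⊗ T ⟶ X,
      (∀ {W : C} (g : W ⟶ G) (p : W ⟶ AN) (t : W ⟶ T),
        lift ((g ≫ rN) * p) t ≫ φ = lift g (lift p t ≫ φ) ≫ a.act) ∧ (i ▷ T) ≫ φ = ψ := by
  haveI := hrN
  haveI := hi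
  haveI := hmono
  haveI := hρ
  haveI := hepi
  obtain ⟨Ψ, hΨdef⟩ : ∃ Ψ : G ⊗ (AY ⊗ T) ⟶ X, Ψ = (G ◁ ψ) ≫ a.act := ⟨_, rfl⟩
  have hΨ : ∀ {W : C} (g : W ⟶ G) (y : W ⟶ AY) (t : W ⟶ T),
      lift g (lift y t) ≫ Ψ = lift g (lift y t ≫ ψ) ≫ a.act := by
    intro W g y t
    rw [hΨdef, lift_whiskerLeft_assoc]
  -- the key claim
  have claimA : ∀ {W : C} (h : W ⟶ G) (y₁ y₂ : W ⟶ AY) (t : W ⟶ T),
      (h ≫ rN) * (y₁ ≫ i) = y₂ ≫ i → lift y₂ t ≫ ψ = lift h (lift y₁ t ≫ ψ) ≫ a.act := by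
    intro W h y₁ y₂ t hrel
    have hh : (h ≫ rN) ≫ ρ = 1 := by
      have e := congrArg (fun p => p ≫ ρ) hrel
      simp only [MonObj.mul_comp, htriv, _root_.mul_one] at e
      exact e
    obtain ⟨κ, hκ⟩ := hQ h hh
    obtain ⟨W', w, hw, h', hh'⟩ := hloc κ
    haveI := hw
    rw [← cancel_epi w]
    have e1 : w ≫ h = h' ≫ F := by
      calc w ≫ h = w ≫ κ ≫ q := by rw [hκ]
        _ = (h' ≫ Fbar) ≫ q := by rw [hh', Category.assoc]
        _ = h' ≫ F := by rw [Category.assoc, hF]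
    have e2 : w ≫ y₂ = (h' ≫ rY) * (w ≫ y₁) := by
      rw [← cancel_mono i]
      calc (w ≫ y₂) ≫ i = w ≫ (y₂ ≫ i) := Category.assoc _ _ _
        _ = w ≫ ((h ≫ rN) * (y₁ ≫ i)) := by rw [hrel]
        _ = ((w ≫ h) ≫ rN) * ((w ≫ y₁) ≫ i) := by simp only [MonObj.comp_mul, Category.assoc]
        _ = ((h' ≫ F) ≫ rN) * ((w ≫ y₁) ≫ i) := by rw [e1]
        _ = ((h' ≫ rY) ≫ i) * ((w ≫ y₁) ≫ i) := by
            rw [Category.assoc h' F rN, Category.assoc h' rY i, comm]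
        _ = ((h' ≫ rY) * (w ≫ y₁)) ≫ i := (MonObj.mul_comp _ _ _).symm
    calc w ≫ lift y₂ t ≫ ψ = lift (w ≫ y₂) (w ≫ t) ≫ ψ := by rw [comp_lift_assoc]
      _ = lift ((h' ≫ rY) * (w ≫ y₁)) (w ≫ t) ≫ ψ := by rw [e2]
      _ = lift (h' ≫ F) (lift (w ≫ y₁) (w ≫ t) ≫ ψ) ≫ a.act := hψ _ _ _
      _ = w ≫ lift h (lift y₁ t ≫ ψ) ≫ a.act := by
          simp only [comp_lift_assoc]
          rw [e1]
  -- descent condition
  have hdescΨ : ∀ {W : C} (k₁ k₂ : W ⟶ G ⊗ (AY ⊗ T)), k₁ ≫ Θ = k₂ ≫ Θ → k₁ ≫ Ψ = k₂ ≫ Ψ := by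
    intro W k₁ k₂ hk
    obtain ⟨g₁, y₁, t₁, rfl⟩ : ∃ (g : W ⟶ G) (y : W ⟶ AY) (t : W ⟶ T),
        k₁ = lift g (lift y t) := ⟨_, _, _, eq_lift₃ k₁⟩
    obtain ⟨g₂, y₂, t₂, rfl⟩ : ∃ (g : W ⟶ G) (y : W ⟶ AY) (t : W ⟶ T),
        k₂ = lift g (lift y t) := ⟨_, _, _, eq_lift₃ k₂⟩
    rw [hΘ, hΘ] at hk
    have ht : t₁ = t₂ := by
      have e := congrArg (fun p => p ≫ snd AN T) hk
      simp only [lift_snd] at e
      exact e
    have hp : (g₁ ≫ rN) * (y₁ ≫ i) = (g₂ ≫ rN) * (y₂ ≫ i) := by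
      have e := congrArg (fun p => p ≫ fst AN T) hk
      simp only [lift_fst] at e
      exact e
    have hrel : ((g₂⁻¹ * g₁) ≫ rN) * (y₁ ≫ i) = y₂ ≫ i := by
      rw [MonObj.mul_comp, _root_.mul_assoc, hp, ← _root_.mul_assoc, ← MonObj.mul_comp,
        _root_.inv_mul_cancel, MonObj.one_comp, _root_.one_mul]
    have hA := claimA (g₂⁻¹ * g₁) y₁ y₂ t₁ hrel
    rw [hΨ, hΨ, ← ht, hA, ← a.lift_mul_act, _root_.mul_inv_cancel_left]
  obtain ⟨φ, hφ⟩ := hdesc Ψ hdescΨ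
  have hφpt : ∀ {W : C} (g : W ⟶ G) (y : W ⟶ AY) (t : W ⟶ T),
      lift ((g ≫ rN) * (y ≫ i)) t ≫ φ = lift g (lift y t ≫ ψ) ≫ a.act := by
    intro W g y t
    rw [← hΘ, Category.assoc, hφ, hΨ]
  refine ⟨φ, ?_, ?_⟩
  · have key : ∀ {W : C} (g g' : W ⟶ G) (y : W ⟶ AY) (t : W ⟶ T),
        lift ((g ≫ rN) * ((g' ≫ rN) * (y ≫ i))) t ≫ φ =
          lift g (lift ((g' ≫ rN) * (y ≫ i)) t ≫ φ) ≫ a.act := by
      intro W g g' y t
      rw [← _root_.mul_assoc, ← MonObj.mul_comp, hφpt, hφpt, a.lift_mul_act]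
    obtain ⟨E, hEdef⟩ : ∃ E : G ⊗ (AN ⊗ T) ⟶ AN ⊗ T,
        E = lift ((fst G (AN ⊗ T) ≫ rN) * (snd G (AN ⊗ T) ≫ fst AN T))
          (snd G (AN ⊗ T) ≫ snd AN T) := ⟨_, rfl⟩
    have hEpt : ∀ {W : C} (g : W ⟶ G) (p : W ⟶ AN) (t : W ⟶ T),
        lift g (lift p t) ≫ E = lift ((g ≫ rN) * p) t := by
      intro W g p t
      rw [hEdef, comp_lift, MonObj.comp_mul]
      simp only [lift_fst_assoc, lift_snd_assoc, lift_fst, lift_snd]
    have hE : E ≫ φ = (G ◁ φ) ≫ a.act := by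
      rw [← cancel_epi (G ◁ Θ)]
      apply Magnet.hom_ext_lift₂
      intro W g z
      obtain ⟨g', y, t, rfl⟩ : ∃ (g' : W ⟶ G) (y : W ⟶ AY) (t : W ⟶ T),
          z = lift g' (lift y t) := ⟨_, _, _, eq_lift₃ z⟩
      calc lift g (lift g' (lift y t)) ≫ (G ◁ Θ) ≫ E ≫ φ
          = lift g (lift g' (lift y t) ≫ Θ) ≫ E ≫ φ := by rw [lift_whiskerLeft_assoc]
        _ = (lift g (lift ((g' ≫ rN) * (y ≫ i)) t) ≫ E) ≫ φ := by rw [hΘ, Category.assoc]
        _ = lift ((g ≫ rN) * ((g' ≫ rN) * (y ≫ i))) t ≫ φ := by rw [hEpt]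
        _ = lift g (lift ((g' ≫ rN) * (y ≫ i)) t ≫ φ) ≫ a.act := key g g' y t
        _ = lift g ((lift g' (lift y t) ≫ Θ) ≫ φ) ≫ a.act := by rw [hΘ]
        _ = lift g (lift g' (lift y t)) ≫ (G ◁ Θ) ≫ (G ◁ φ) ≫ a.act := by
            rw [lift_whiskerLeft_assoc, lift_whiskerLeft_assoc]
    intro W g p t
    calc lift ((g ≫ rN) * p) t ≫ φ = (lift g (lift p t) ≫ E) ≫ φ := by rw [hEpt]
      _ = lift g (lift p t) ≫ E ≫ φ := Category.assoc _ _ _
      _ = lift g (lift p t) ≫ (G ◁ φ) ≫ a.act := by rw [hE]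
      _ = lift g (lift p t ≫ φ) ≫ a.act := by rw [lift_whiskerLeft_assoc]
  · apply Magnet.hom_ext_lift₂
    intro W y t
    have h1 := hφpt (1 : W ⟶ G) y t
    rw [MonObj.one_comp, _root_.one_mul, a.lift_one_act] at h1
    rw [lift_whiskerRight_assoc]
    exact h1

end Abstract

/-! ### concrete part -/

variable {S : Scheme.{u}}

theorem ffqc_map0 {N M : Type} [AddCommMonoid N] [AddCommGroup M] (f : N →+ M)
    (hf : Function.Injective f) (Zs : AddSubgroup M) (hZ : ∀ m, m ∈ Zs ↔ ∃ n, f n = m) :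
    Flat (Magnet.AMonS.map S f).left ∧ Surjective (Magnet.AMonS.map S f).left ∧
      QuasiCompact (Magnet.AMonS.map S f).left := by
  have t3 := AG9.isPullback_overPullback_map (toBaseZ S) (Magnet.AMon.map (ULift.{u} ℤ) f)
  have h0 : Flat (Magnet.AMon.map (ULift.{u} ℤ) f).left ∧
      Surjective (Magnet.AMon.map (ULift.{u} ℤ) f).left :=
    (flat_and_surjective_SpecMap_iff (CommRingCat.ofHom
      (MonoidAlgebra.mapDomainBialgHom (ULift.{u} ℤ)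
        (AddMonoidHom.toMultiplicative f)).toAlgHom.toRingHom)).mpr
      (faithfullyFlat_mapDomain (ULift.{u} ℤ) f hf Zs hZ)
  have hqc : QuasiCompact (Magnet.AMon.map (ULift.{u} ℤ) f).left := by
    have hq' : QuasiCompact (Spec.map (CommRingCat.ofHom
      (MonoidAlgebra.mapDomainBialgHom (ULift.{u} ℤ)
        (AddMonoidHom.toMultiplicative f)).toAlgHom.toRingHom)) := inferInstance
    exact hq'
  exact ⟨MorphismProperty.of_isPullback (P := @Flat) t3 h0.1,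
    MorphismProperty.of_isPullback (P := @Surjective) t3 h0.2,
    MorphismProperty.of_isPullback (P := @QuasiCompact) t3 hqc⟩

theorem mono_map_of_surjective {N' M' : Type} [AddCommMonoid N'] [AddCommMonoid M'] (g : N' →+ M')
    (hg : Function.Surjective g) : Mono (Magnet.AMonS.map S g) := by
  refine ⟨fun {W} u v h => ?_⟩
  apply charOfPt_injective
  refine MonoidHom.ext fun m' => ?_
  obtain ⟨n, hn⟩ := hg (Multiplicative.toAdd m')
  have e1 := charOfPt_map_apply g u n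
  have e2 := charOfPt_map_apply g v n
  rw [h] at e1
  have hm : m' = Multiplicative.ofAdd (g n) := by rw [hn]; rfl
  rw [hm, ← e1, e2]

theorem exists_lift_mon {N' Y' : Type} [AddCommMonoid N'] [AddCommMonoid Y'] (g : N' →+ Y')
    (hg : Function.Surjective g) {W : Over S} (p : W ⟶ Magnet.AMonS S N')
    (hp : ∀ n n' : N', g n = g n' →
      charOfPt p (Multiplicative.ofAdd n) = charOfPt p (Multiplicative.ofAdd n')) :
    ∃ y : W ⟶ Magnet.AMonS S Y', y ≫ Magnet.AMonS.map S g = p := by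
  have hs : ∀ bb : Y', g (Function.surjInv hg bb) = bb := Function.surjInv_eq hg
  obtain ⟨χ', hχ'⟩ : ∃ χ' : Multiplicative Y' →* Γ(W.left, ⊤),
      ∀ bb : Y', χ' (Multiplicative.ofAdd bb) =
        charOfPt p (Multiplicative.ofAdd (Function.surjInv hg bb)) := by
    refine ⟨{ toFun := fun bb => charOfPt p
                (Multiplicative.ofAdd (Function.surjInv hg (Multiplicative.toAdd bb)))
              map_one' := ?_
              map_mul' := ?_ }, fun bb => rfl⟩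
    · have h1 := hp (Function.surjInv hg (0 : Y')) 0 (by rw [hs, map_zero])
      exact h1.trans (map_one (charOfPt p))
    · intro bb bb'
      have h1 := hp (Function.surjInv hg (Multiplicative.toAdd bb + Multiplicative.toAdd bb'))
        (Function.surjInv hg (Multiplicative.toAdd bb) + Function.surjInv hg (Multiplicative.toAdd bb'))
        (by rw [hs, map_add, hs, hs])
      exact h1.trans (map_mul (charOfPt p)
        (Multiplicative.ofAdd (Function.surjInv hg (Multiplicative.toAdd bb)))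
        (Multiplicative.ofAdd (Function.surjInv hg (Multiplicative.toAdd bb'))))
  refine ⟨ptOfChar χ', ?_⟩
  apply charOfPt_injective
  refine MonoidHom.ext fun m' => ?_
  obtain ⟨n, rfl⟩ : ∃ n : N', Multiplicative.ofAdd n = m' := ⟨Multiplicative.toAdd m', rfl⟩
  rw [charOfPt_map_apply, charOfPt_ptOfChar, hχ']
  exact hp _ _ (hs _)

theorem subAct_formula' {M : Type} [AddCommMonoid M] (N : AddSubmonoid M) {T' : Over S}
    (g : T' ⟶ Magnet.AMonS S M) (b : T' ⟶ Magnet.AMonS S ↥N) :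
    lift g b ≫ (Magnet.subAct S M N).act = (g ≫ Magnet.AMonS.map S N.subtype) * b := by
  unfold Magnet.subAct
  rw [Magnet.MonAct.lift_restrict_act, Magnet.MonAct.lift_regular_act]

theorem eqv_iff_pt {M : Type} [AddCommMonoid M] (N : AddSubmonoid M) {X T : Over S}
    (a : Magnet.MonAct (Magnet.AMonS S M) X) (φ : Magnet.AMonS S ↥N ⊗ T ⟶ X) :
    Magnet.MonAct.IsEquivariant
        ((Magnet.subAct S M N).prod (Magnet.MonAct.trivial (Magnet.AMonS S M) T)) a φ ↔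
      ∀ (W : Over S) (g : W ⟶ Magnet.AMonS S M) (p : W ⟶ Magnet.AMonS S ↥N) (t : W ⟶ T),
        lift ((g ≫ Magnet.AMonS.map S N.subtype) * p) t ≫ φ = lift g (lift p t ≫ φ) ≫ a.act := by
  refine (Magnet.MonAct.mem_eqvHom_iff φ).trans ⟨fun h W g p t => ?_, fun h W g p t => ?_⟩
  · exact (congrArg (fun w => lift w t ≫ φ) (subAct_formula' N g p)).symm.trans (h W g p t)
  · exact (congrArg (fun w => lift w t ≫ φ) (subAct_formula' N g p)).trans (h W g p t)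

theorem over_desc {A B X : Over S} (θ : A ⟶ B) [Flat θ.left] [Surjective θ.left]
    [QuasiCompact θ.left] (Ψ : A ⟶ X)
    (h : ∀ {W : Over S} (k₁ k₂ : W ⟶ A), k₁ ≫ θ = k₂ ≫ θ → k₁ ≫ Ψ = k₂ ≫ Ψ) :
    ∃ φ : B ⟶ X, θ ≫ φ = Ψ := by
  have hdesc : ∀ {W : Scheme.{u}} (g₁ g₂ : W ⟶ A.left),
      g₁ ≫ θ.left = g₂ ≫ θ.left → g₁ ≫ Ψ.left = g₂ ≫ Ψ.left := by
    intro W g₁ g₂ hg
    have hw : g₂ ≫ A.hom = g₁ ≫ A.hom := by
      rw [← Over.w θ, ← Category.assoc, ← hg, Category.assoc]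
    obtain ⟨k₁, hk₁⟩ : ∃ k : Over.mk (g₁ ≫ A.hom) ⟶ A, k = Over.homMk g₁ rfl := ⟨_, rfl⟩
    obtain ⟨k₂, hk₂⟩ : ∃ k : Over.mk (g₁ ≫ A.hom) ⟶ A, k = Over.homMk g₂ hw := ⟨_, rfl⟩
    have hk₁l : k₁.left = g₁ := by rw [hk₁]; rfl
    have hk₂l : k₂.left = g₂ := by rw [hk₂]; rfl
    have hk : k₁ ≫ θ = k₂ ≫ θ := by
      apply Over.OverMorphism.ext
      rw [Over.comp_left, Over.comp_left, hk₁l, hk₂l]
      exact hg
    have h3 := congrArg (fun f => f.left) (h k₁ k₂ hk)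
    simp only [Over.comp_left, hk₁l, hk₂l] at h3
    exact h3
  obtain ⟨φl, hφl⟩ : ∃ φl : B.left ⟶ X.left, θ.left ≫ φl = Ψ.left :=
    ⟨EffectiveEpi.desc θ.left Ψ.left hdesc, EffectiveEpi.fac _ _ _⟩
  haveI : Epi θ.left := Flat.epi_of_flat_of_surjective _
  have hw : φl ≫ X.hom = B.hom := by
    rw [← cancel_epi θ.left, ← Category.assoc, hφl, Over.w Ψ, Over.w θ]
  refine ⟨Over.homMk φl hw, ?_⟩
  apply Over.OverMorphism.ext
  rw [Over.comp_left]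
  exact hφl

theorem exists_local_lift {N' M' : Type} [AddCommMonoid N'] [AddCommGroup M'] (j : N' →+ M')
    (hj : Function.Injective j) (Zs : AddSubgroup M') (hZ : ∀ m, m ∈ Zs ↔ ∃ n, j n = m)
    {W : Over S} (κ : W ⟶ Magnet.AMonS S N') :
    ∃ (W' : Over S) (w : W' ⟶ W) (_ : Epi w) (h' : W' ⟶ Magnet.AMonS S M'),
      h' ≫ Magnet.AMonS.map S j = w ≫ κ := by
  obtain ⟨hfl, hsu, -⟩ := ffqc_map0 (S := S) j hj Zs hZ
  have sq := ((IsPullback.of_hasPullback κ (Magnet.AMonS.map S j)).flip).map (Over.forget S)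
  haveI : Flat (pullback.fst κ (Magnet.AMonS.map S j)).left :=
    MorphismProperty.of_isPullback (P := @Flat) sq hfl
  haveI : Surjective (pullback.fst κ (Magnet.AMonS.map S j)).left :=
    MorphismProperty.of_isPullback (P := @Surjective) sq hsu
  exact ⟨pullback κ (Magnet.AMonS.map S j), pullback.fst _ _, epi_of_flat_surj _, pullback.snd _ _,
    pullback.condition.symm⟩

section Main
variable {M Z : Type} [AddCommGroup M] [AddCommGroup Z] (f : M →+ Z) (Y : AddSubmonoid Z)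

/-- the map `N = f⁻¹ Y → Y` -/
abbrev f0 : ↥(Y.comap f) →+ ↥Y := (f.comp (Y.comap f).subtype).codRestrict Y (fun x => x.2)

theorem f0_surjective (hY : Y ≤ AddMonoidHom.mrange f) : Function.Surjective (f0 f Y) := by
  intro bb
  obtain ⟨m, hm⟩ := AddMonoidHom.mem_mrange.mp (hY bb.2)
  exact ⟨⟨m, by show f m ∈ Y; rw [hm]; exact bb.2⟩, Subtype.ext hm⟩

theorem ker_le_comap : f.ker.toAddSubmonoid ≤ Y.comap f := fun k hk => by
  show f k ∈ Y
  rw [(AddMonoidHom.mem_ker.mp hk : f k = 0)]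
  exact Y.zero_mem

theorem hrK : Magnet.AMonS.map S (Y.comap f).subtype ≫
      Magnet.AMonS.map S (AddSubmonoid.inclusion (ker_le_comap f Y)) =
    Magnet.AMonS.map S f.ker.toAddSubmonoid.subtype :=
  (Magnet.AMonS.map_comp S _ _).symm.trans
    (congrArg (Magnet.AMonS.map S) (AddMonoidHom.ext fun _ => rfl))

theorem comm : Magnet.AMonS.map S Y.subtype ≫ Magnet.AMonS.map S (f0 f Y) =
    Magnet.AMonS.map S f ≫ Magnet.AMonS.map S (Y.comap f).subtype :=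
  (Magnet.AMonS.map_comp S Y.subtype (f0 f Y)).symm.trans
    ((congrArg (Magnet.AMonS.map S) (AddMonoidHom.ext fun _ => rfl)).trans
      (Magnet.AMonS.map_comp S f (Y.comap f).subtype))

theorem hFq : Magnet.AMonS.map S (QuotientAddGroup.kerLift f) ≫
      Magnet.AMonS.map S (QuotientAddGroup.mk' f.ker) = Magnet.AMonS.map S f :=
  (Magnet.AMonS.map_comp S _ _).symm.trans
    (congrArg (Magnet.AMonS.map S) (AddMonoidHom.ext fun m => QuotientAddGroup.kerLift_mk f m))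

theorem hrange (z : Z) : z ∈ f.range ↔ ∃ n : M ⧸ f.ker, QuotientAddGroup.kerLift f n = z := by
  constructor
  · rintro ⟨m, rfl⟩
    exact ⟨(m : M ⧸ f.ker), QuotientAddGroup.kerLift_mk f m⟩
  · rintro ⟨n, rfl⟩
    obtain ⟨m, rfl⟩ := QuotientAddGroup.mk_surjective n
    exact ⟨m, (QuotientAddGroup.kerLift_mk f m).symm⟩

theorem htriv {W : Over S} (y : W ⟶ Magnet.AMonS S ↥Y) :
    (y ≫ Magnet.AMonS.map S (f0 f Y)) ≫
      Magnet.AMonS.map S (AddSubmonoid.inclusion (ker_le_comap f Y)) = 1 := by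
  rw [Category.assoc, ← Magnet.AMonS.map_comp]
  apply charOfPt_injective
  refine MonoidHom.ext fun k' => ?_
  obtain ⟨k, rfl⟩ : ∃ k : ↥f.ker.toAddSubmonoid, Multiplicative.ofAdd k = k' :=
    ⟨Multiplicative.toAdd k', rfl⟩
  rw [charOfPt_map_apply, charOfPt_one]
  have h : ((f0 f Y).comp (AddSubmonoid.inclusion (ker_le_comap f Y))) k = 0 :=
    Subtype.ext (AddMonoidHom.mem_ker.mp k.2)
  rw [h]
  exact map_one _

theorem char_eq_of_trivial {W : Over S} (p : W ⟶ Magnet.AMonS S ↥(Y.comap f))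
    (hp : p ≫ Magnet.AMonS.map S (AddSubmonoid.inclusion (ker_le_comap f Y)) = 1)
    (n n' : ↥(Y.comap f)) (h : f0 f Y n = f0 f Y n') :
    charOfPt p (Multiplicative.ofAdd n) = charOfPt p (Multiplicative.ofAdd n') := by
  have hfn : f (n : M) = f (n' : M) := congrArg Subtype.val h
  have hk : (n : M) - (n' : M) ∈ f.ker := by
    rw [AddMonoidHom.mem_ker, map_sub, hfn, sub_self]
  obtain ⟨k, hkdef⟩ : ∃ k : ↥f.ker.toAddSubmonoid, k = ⟨(n : M) - (n' : M), hk⟩ := ⟨_, rfl⟩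
  have hn : n = n' + AddSubmonoid.inclusion (ker_le_comap f Y) k := by
    apply Subtype.ext
    rw [hkdef]
    show (n : M) = (n' : M) + ((n : M) - (n' : M))
    abel
  have e1 : charOfPt p (Multiplicative.ofAdd (AddSubmonoid.inclusion (ker_le_comap f Y) k)) = 1 := by
    have e := charOfPt_map_apply (AddSubmonoid.inclusion (ker_le_comap f Y)) p k
    rw [hp, charOfPt_one] at e
    exact e.symm
  rw [hn, ofAdd_add, map_mul, e1, _root_.mul_one]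

theorem hlift (hY : Y ≤ AddMonoidHom.mrange f) {W : Over S} (p : W ⟶ Magnet.AMonS S ↥(Y.comap f))
    (hp : p ≫ Magnet.AMonS.map S (AddSubmonoid.inclusion (ker_le_comap f Y)) = 1) :
    ∃ y : W ⟶ Magnet.AMonS S ↥Y, y ≫ Magnet.AMonS.map S (f0 f Y) = p :=
  exists_lift_mon (f0 f Y) (f0_surjective f Y hY) p
    (fun n n' h => char_eq_of_trivial f Y p hp n n' h)

theorem hQ {W : Over S} (h : W ⟶ Red.DS S M)
    (hh : (h ≫ Magnet.AMonS.map S (Y.comap f).subtype) ≫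
      Magnet.AMonS.map S (AddSubmonoid.inclusion (ker_le_comap f Y)) = 1) :
    ∃ κ : W ⟶ Magnet.AMonS S (M ⧸ f.ker),
      κ ≫ Magnet.AMonS.map S (QuotientAddGroup.mk' f.ker) = h := by
  have hK : h ≫ Magnet.AMonS.map S f.ker.toAddSubmonoid.subtype = 1 :=
    (congrArg (fun r => h ≫ r) (hrK f Y)).symm.trans ((Category.assoc _ _ _).symm.trans hh)
  refine exists_lift_of_trivial f.ker h (fun z hz => ?_)
  have e := charOfPt_map_apply f.ker.toAddSubmonoid.subtype h ⟨z, hz⟩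
  rw [hK, charOfPt_one] at e
  exact e.symm

/-- the orbit map `D(M) × A(Y) × T → A(N) × T` -/
def Theta (T : Over S) :
    Red.DS S M ⊗ (Magnet.AMonS S ↥Y ⊗ T) ⟶ Magnet.AMonS S ↥(Y.comap f) ⊗ T :=
  lift ((fst (Red.DS S M) (Magnet.AMonS S ↥Y ⊗ T) ≫ Magnet.AMonS.map S (Y.comap f).subtype) *
      ((snd (Red.DS S M) (Magnet.AMonS S ↥Y ⊗ T) ≫ fst (Magnet.AMonS S ↥Y) T) ≫
        Magnet.AMonS.map S (f0 f Y)))
    (snd (Red.DS S M) (Magnet.AMonS S ↥Y ⊗ T) ≫ snd (Magnet.AMonS S ↥Y) T)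

theorem lift_Theta {T W : Over S} (g : W ⟶ Red.DS S M) (y : W ⟶ Magnet.AMonS S ↥Y) (t : W ⟶ T) :
    lift g (lift y t) ≫ Theta f Y T =
      lift ((g ≫ Magnet.AMonS.map S (Y.comap f).subtype) * (y ≫ Magnet.AMonS.map S (f0 f Y))) t :=
  abstract_lift_theta _ _ g y t

theorem isPullback_Theta (hY : Y ≤ AddMonoidHom.mrange f) (T : Over S) :
    IsPullback (fst (Red.DS S M) (Magnet.AMonS S ↥Y ⊗ T)) (Theta f Y T)
      (Magnet.AMonS.map S f.ker.toAddSubmonoid.subtype)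
      (fst (Magnet.AMonS S ↥(Y.comap f)) T ≫
        Magnet.AMonS.map S (AddSubmonoid.inclusion (ker_le_comap f Y))) :=
  abstract_isPullback (G := Red.DS S M) (T := T)
    (Magnet.AMonS.map S (Y.comap f).subtype) (Magnet.AMonS.map_isMonHom S _)
    (Magnet.AMonS.map S (f0 f Y)) (mono_map_of_surjective _ (f0_surjective f Y hY))
    (Magnet.AMonS.map S (AddSubmonoid.inclusion (ker_le_comap f Y))) (Magnet.AMonS.map_isMonHom S _)
    (Magnet.AMonS.map S f.ker.toAddSubmonoid.subtype) (hrK f Y)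
    (fun y => htriv f Y y) (fun p hp => hlift f Y hY p hp)
    (Theta f Y T) (fun g y t => lift_Theta f Y g y t)

theorem ffqc_Theta (hY : Y ≤ AddMonoidHom.mrange f) (T : Over S) :
    Flat (Theta (S := S) f Y T).left ∧ Surjective (Theta (S := S) f Y T).left ∧
      QuasiCompact (Theta (S := S) f Y T).left := by
  obtain ⟨hfl, hsu, hqc⟩ := ffqc_map0 (S := S) f.ker.toAddSubmonoid.subtype Subtype.val_injective
    f.ker (fun m => ⟨fun hm => ⟨⟨m, hm⟩, rfl⟩, fun ⟨n, hn⟩ => hn ▸ n.2⟩)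
  have sq := (isPullback_Theta f Y hY T).map (Over.forget S)
  exact ⟨MorphismProperty.of_isPullback (P := @Flat) sq hfl,
    MorphismProperty.of_isPullback (P := @Surjective) sq hsu,
    MorphismProperty.of_isPullback (P := @QuasiCompact) sq hqc⟩

theorem bijective_app (hY : Y ≤ AddMonoidHom.mrange f) {X : Over S}
    (a : AlgGrp.Action (Red.DS S M) X) (T : Over S) :
    Function.Bijective ((Magnet.attrComap (Magnet.MonAct.ofAction a) f Y).app (op T)) := by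
  obtain ⟨hfl, hsu, hqc⟩ := ffqc_Theta (S := S) f Y hY T
  haveI := hfl
  haveI := hsu
  haveI := hqc
  have hepiΘ : Epi (Theta (S := S) f Y T) := epi_of_flat_surj _
  haveI : Flat (Red.DS S M ◁ Theta (S := S) f Y T).left :=
    MorphismProperty.of_isPullback (P := @Flat)
      ((isPullback_snd_whiskerLeft (Red.DS S M) (Theta (S := S) f Y T)).map (Over.forget S)) hfl
  haveI : Surjective (Red.DS S M ◁ Theta (S := S) f Y T).left :=
    MorphismProperty.of_isPullback (P := @Surjective)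
      ((isPullback_snd_whiskerLeft (Red.DS S M) (Theta (S := S) f Y T)).map (Over.forget S)) hsu
  have hepiGΘ : Epi (Red.DS S M ◁ Theta (S := S) f Y T) := epi_of_flat_surj _
  constructor
  · intro φ φ' h
    have h' : (Magnet.AMonS.map S (f0 f Y) ▷ T) ≫ φ.1 =
        (Magnet.AMonS.map S (f0 f Y) ▷ T) ≫ φ'.1 := congrArg Subtype.val h
    apply Subtype.ext
    exact abstract_inj (G := Red.DS S M) (Magnet.MonAct.ofAction a)
      (Magnet.AMonS.map S (Y.comap f).subtype) (Magnet.AMonS.map S (f0 f Y)) (Theta f Y T)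
      (fun g y t => lift_Theta f Y g y t) hepiΘ φ.1 φ'.1
      (fun g p t => (eqv_iff_pt (Y.comap f) (Magnet.MonAct.ofAction a) φ.1).mp φ.2 _ g p t)
      (fun g p t => (eqv_iff_pt (Y.comap f) (Magnet.MonAct.ofAction a) φ'.1).mp φ'.2 _ g p t) h'
  · intro ψ
    have hψ := (eqv_iff_pt (M := Z) Y
      ((Magnet.MonAct.ofAction a).restrict (Magnet.AMonS.map S f)) ψ.1).mp ψ.2
    obtain ⟨φ, hφ1, hφ2⟩ := abstract_surj (G := Red.DS S M)
      (K := Magnet.AMonS S ↥f.ker.toAddSubmonoid) (H := Magnet.AMonS S Z)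
      (Q := Magnet.AMonS S (M ⧸ f.ker)) (T := T) (Magnet.MonAct.ofAction a)
      (Magnet.AMonS.map S (Y.comap f).subtype) (Magnet.AMonS.map_isMonHom S _)
      (Magnet.AMonS.map S (f0 f Y)) (Magnet.AMonS.map_isMonHom S _)
      (mono_map_of_surjective _ (f0_surjective f Y hY))
      (Magnet.AMonS.map S (AddSubmonoid.inclusion (ker_le_comap f Y)))
      (Magnet.AMonS.map_isMonHom S _) (fun y => htriv f Y y)
      (Magnet.AMonS.map S f) (Magnet.AMonS.map S Y.subtype) (comm f Y)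
      (Magnet.AMonS.map S (QuotientAddGroup.kerLift f))
      (Magnet.AMonS.map S (QuotientAddGroup.mk' f.ker)) (hFq f)
      (Theta f Y T) (fun g y t => lift_Theta f Y g y t) hepiGΘ
      (fun Ψ hΨ => over_desc (Theta f Y T) Ψ hΨ)
      (fun h hh => hQ f Y h hh)
      (fun κ => exists_local_lift (QuotientAddGroup.kerLift f)
        (QuotientAddGroup.kerLift_injective f) f.range (hrange f) κ)
      ψ.1
      (fun h y t => (hψ _ h y t).trans (Magnet.MonAct.lift_restrict_act _ _ _ _))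
    exact ⟨⟨φ, (eqv_iff_pt (Y.comap f) (Magnet.MonAct.ofAction a) φ).mpr
      (fun W g p t => hφ1 g p t)⟩, Subtype.ext hφ2⟩

end Main

theorem main18298 (S : Scheme.{u}) (M Z : Type) [AddCommGroup M] [AddCommGroup Z]
    [AddGroup.FG M] [AddGroup.FG Z] (f : M →+ Z) (Y : AddSubmonoid Z)
    (hY : Y ≤ AddMonoidHom.mrange f)
    (X : Over S) (a : AlgGrp.Action (Red.DS S M) X) :
    IsIso (Magnet.attrComap (Magnet.MonAct.ofAction a) f Y) := by
  haveI : ∀ T : (Over S)ᵒᵖ,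
      IsIso ((Magnet.attrComap (Magnet.MonAct.ofAction a) f Y).app T) := by
    intro T
    rw [isIso_iff_bijective]
    exact bijective_app f Y hY a (unop T)
  exact NatIso.isIso_of_isIso_app _

end Groth.Agent.Helper17.AG21
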