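import Mathlib
import Groth.Prelude.Def_GmPts
import Groth.Prelude.Def_Magnet4
import Groth.Prelude.Def_ChGrp
import Groth.Agent.Lib.Helper17.AG9
import Groth.Agent.Lib.Helper17.AG15
import Groth.Agent.Lib.Helper17.AG20
import Groth.Agent.Lib.Helper17.AG21

/-!
# Attractors of a directed union of magnets (helper17)

`A(⋃ Nᵢ) × T = lim A(Nᵢ) × T` (checked on points through characters), so for `X` locally of finite
presentation and `T` affine every morphism `A(⋃ Nᵢ) × T → X` factors through some `A(Nᵢ) × T`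
(Mathlib's limit theorem); for `X` separated the factorisation is again equivariant since
`A(N) → A(Nᵢ)` is schematically dominant.
-/

set_option autoImplicit false
universe u
open CategoryTheory CategoryTheory.Limits MonoidalCategory CartesianMonoidalCategory MonObj AlgebraicGeometry Opposite

noncomputable section
namespace Groth.Agent.Helper17.AG22
open GmPts (baseZ toBaseZ)
open Groth.Agent.Helper17.AG14 Groth.Agent.Helper17.AG15 Groth.Agent.Helper17.AG20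
  Groth.Agent.Helper17.AG21

/-! ### abstract part -/

section Abstract
universe v₁ u₁
variable {C : Type u₁} [Category.{v₁} C] [CartesianMonoidalCategory C]

theorem abstract_cancel_whiskerLeft {P A A' T X : C} (f' : A ⟶ A')
    (hcancel : ∀ (u v : A' ⊗ (P ⊗ T) ⟶ X), (f' ▷ (P ⊗ T)) ≫ u = (f' ▷ (P ⊗ T)) ≫ v → u = v)
    (u v : P ⊗ (A' ⊗ T) ⟶ X) (h : (P ◁ (f' ▷ T)) ≫ u = (P ◁ (f' ▷ T)) ≫ v) : u = v := by
  obtain ⟨σ', hσ'⟩ : ∃ σ' : A' ⊗ (P ⊗ T) ⟶ P ⊗ (A' ⊗ T),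
      σ' = lift (snd A' (P ⊗ T) ≫ fst P T) (lift (fst A' (P ⊗ T)) (snd A' (P ⊗ T) ≫ snd P T)) :=
    ⟨_, rfl⟩
  obtain ⟨τ', hτ'⟩ : ∃ τ' : P ⊗ (A' ⊗ T) ⟶ A' ⊗ (P ⊗ T),
      τ' = lift (snd P (A' ⊗ T) ≫ fst A' T) (lift (fst P (A' ⊗ T)) (snd P (A' ⊗ T) ≫ snd A' T)) :=
    ⟨_, rfl⟩
  obtain ⟨σ, hσ⟩ : ∃ σ : A ⊗ (P ⊗ T) ⟶ P ⊗ (A ⊗ T),
      σ = lift (snd A (P ⊗ T) ≫ fst P T) (lift (fst A (P ⊗ T)) (snd A (P ⊗ T) ≫ snd P T)) :=
    ⟨_, rfl⟩
  have h1 : τ' ≫ σ' = 𝟙 _ := by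
    rw [hτ', hσ']
    apply CartesianMonoidalCategory.hom_ext
    · simp
    · apply CartesianMonoidalCategory.hom_ext <;> simp
  have h2 : (f' ▷ (P ⊗ T)) ≫ σ' = σ ≫ (P ◁ (f' ▷ T)) := by
    rw [hσ, hσ']
    apply CartesianMonoidalCategory.hom_ext
    · simp
    · apply CartesianMonoidalCategory.hom_ext <;> simp
  have h3 : σ' ≫ u = σ' ≫ v := by
    apply hcancel
    calc (f' ▷ (P ⊗ T)) ≫ σ' ≫ u = ((f' ▷ (P ⊗ T)) ≫ σ') ≫ u := (Category.assoc _ _ _).symm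
      _ = (σ ≫ (P ◁ (f' ▷ T))) ≫ u := by rw [h2]
      _ = σ ≫ (P ◁ (f' ▷ T)) ≫ u := Category.assoc _ _ _
      _ = σ ≫ (P ◁ (f' ▷ T)) ≫ v := by rw [h]
      _ = (σ ≫ (P ◁ (f' ▷ T))) ≫ v := (Category.assoc _ _ _).symm
      _ = ((f' ▷ (P ⊗ T)) ≫ σ') ≫ v := by rw [h2]
      _ = (f' ▷ (P ⊗ T)) ≫ σ' ≫ v := Category.assoc _ _ _
  calc u = (τ' ≫ σ') ≫ u := by rw [h1, Category.id_comp]
    _ = τ' ≫ σ' ≫ u := Category.assoc _ _ _
    _ = τ' ≫ σ' ≫ v := by rw [h3]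
    _ = (τ' ≫ σ') ≫ v := (Category.assoc _ _ _).symm
    _ = v := by rw [h1, Category.id_comp]

theorem abstract_eqv_descend {G AN AN' T X : C} [MonObj G] [MonObj AN] [MonObj AN']
    (a : Magnet.MonAct G X) (rN : G ⟶ AN) (rN' : G ⟶ AN') (π : AN ⟶ AN') (hπ : IsMonHom π)
    (hr : rN ≫ π = rN')
    (hcancel : ∀ (u v : AN' ⊗ (G ⊗ T) ⟶ X), (π ▷ (G ⊗ T)) ≫ u = (π ▷ (G ⊗ T)) ≫ v → u = v)
    (φ : AN ⊗ T ⟶ X)
    (hφ : ∀ {W : C} (g : W ⟶ G) (p : W ⟶ AN) (t : W ⟶ T),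
      lift ((g ≫ rN) * p) t ≫ φ = lift g (lift p t ≫ φ) ≫ a.act)
    (ψ₀ : AN' ⊗ T ⟶ X) (hψ₀ : (π ▷ T) ≫ ψ₀ = φ) {W : C} (g : W ⟶ G) (p : W ⟶ AN') (t : W ⟶ T) :
    lift ((g ≫ rN') * p) t ≫ ψ₀ = lift g (lift p t ≫ ψ₀) ≫ a.act := by
  haveI := hπ
  obtain ⟨E, hEdef⟩ : ∃ E : G ⊗ (AN' ⊗ T) ⟶ AN' ⊗ T,
      E = lift ((fst G (AN' ⊗ T) ≫ rN') * (snd G (AN' ⊗ T) ≫ fst AN' T))
        (snd G (AN' ⊗ T) ≫ snd AN' T) := ⟨_, rfl⟩
  have hEpt : ∀ {W : C} (g : W ⟶ G) (p : W ⟶ AN') (t : W ⟶ T),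
      lift g (lift p t) ≫ E = lift ((g ≫ rN') * p) t := by
    intro W g p t
    rw [hEdef, comp_lift, MonObj.comp_mul]
    simp only [lift_fst_assoc, lift_snd_assoc, lift_fst, lift_snd]
  have hE : E ≫ ψ₀ = (G ◁ ψ₀) ≫ a.act := by
    apply abstract_cancel_whiskerLeft π hcancel
    apply Magnet.hom_ext_lift₂
    intro W g z
    obtain ⟨p, t, rfl⟩ : ∃ (p : W ⟶ AN) (t : W ⟶ T), z = lift p t :=
      ⟨_, _, (lift_comp_fst_snd z).symm⟩
    have e1 : lift g (lift p t) ≫ (G ◁ (π ▷ T)) = lift g (lift (p ≫ π) t) := by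
      rw [lift_whiskerLeft, lift_whiskerRight]
    have e2 : lift ((g ≫ rN') * (p ≫ π)) t = lift ((g ≫ rN) * p) t ≫ (π ▷ T) := by
      rw [lift_whiskerRight, MonObj.mul_comp, Category.assoc, hr]
    calc lift g (lift p t) ≫ (G ◁ (π ▷ T)) ≫ E ≫ ψ₀
        = (lift g (lift p t) ≫ (G ◁ (π ▷ T))) ≫ E ≫ ψ₀ := (Category.assoc _ _ _).symm
      _ = (lift g (lift (p ≫ π) t) ≫ E) ≫ ψ₀ := by rw [e1, Category.assoc]
      _ = (lift ((g ≫ rN) * p) t ≫ (π ▷ T)) ≫ ψ₀ := by rw [hEpt, e2]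
      _ = lift ((g ≫ rN) * p) t ≫ φ := by rw [Category.assoc, hψ₀]
      _ = lift g (lift p t ≫ φ) ≫ a.act := hφ g p t
      _ = lift g ((lift p t ≫ (π ▷ T)) ≫ ψ₀) ≫ a.act := by rw [Category.assoc, hψ₀]
      _ = lift g (lift (p ≫ π) t ≫ ψ₀) ≫ a.act := by rw [lift_whiskerRight]
      _ = (lift g (lift p t) ≫ (G ◁ (π ▷ T))) ≫ (G ◁ ψ₀) ≫ a.act := by
          rw [e1, lift_whiskerLeft_assoc]
      _ = lift g (lift p t) ≫ (G ◁ (π ▷ T)) ≫ (G ◁ ψ₀) ≫ a.act := Category.assoc _ _ _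
  calc lift ((g ≫ rN') * p) t ≫ ψ₀ = (lift g (lift p t) ≫ E) ≫ ψ₀ := by rw [hEpt]
    _ = lift g (lift p t) ≫ E ≫ ψ₀ := Category.assoc _ _ _
    _ = lift g (lift p t) ≫ (G ◁ ψ₀) ≫ a.act := by rw [hE]
    _ = lift g (lift p t ≫ ψ₀) ≫ a.act := by rw [lift_whiskerLeft_assoc]

/-- `- ⊗ T` preserves connected limits. -/
def isLimitMapConeTensorRight {I : Type*} [Category I] [IsConnected I] {D₀ : I ⥤ C}
    (c₀ : Cone D₀) (hc₀ : IsLimit c₀) (T : C) : IsLimit ((tensorRight T).mapCone c₀) := by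
  refine IsLimit.ofExistsUnique fun s => ?_
  haveI : Nonempty I := IsConnected.is_nonempty
  obtain ⟨i₀⟩ := ‹Nonempty I›
  have hw : ∀ {i j : I} (f : i ⟶ j), s.π.app i ≫ (D₀.map f ▷ T) = s.π.app j := fun f => s.w f
  obtain ⟨α, hα⟩ : ∃ α : (Functor.const I).obj s.pt ⟶ D₀,
      ∀ i, α.app i = s.π.app i ≫ fst (D₀.obj i) T :=
    ⟨{ app := fun i => s.π.app i ≫ fst (D₀.obj i) T
       naturality := fun i j f => by
        have h := hw f
        calc 𝟙 s.pt ≫ s.π.app j ≫ fst (D₀.obj j) T = s.π.app j ≫ fst (D₀.obj j) T :=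
              Category.id_comp _
          _ = (s.π.app i ≫ (D₀.map f ▷ T)) ≫ fst (D₀.obj j) T := by rw [h]
          _ = (s.π.app i ≫ fst (D₀.obj i) T) ≫ D₀.map f := by
              rw [Category.assoc, whiskerRight_fst, Category.assoc] }, fun _ => rfl⟩
  obtain ⟨l₀, hl₀⟩ : ∃ l₀ : s.pt ⟶ c₀.pt, ∀ i, l₀ ≫ c₀.π.app i = s.π.app i ≫ fst (D₀.obj i) T :=
    ⟨hc₀.lift ⟨s.pt, α⟩, fun i => (hc₀.fac ⟨s.pt, α⟩ i).trans (hα i)⟩
  have ht : ∀ i, s.π.app i ≫ snd (D₀.obj i) T = s.π.app i₀ ≫ snd (D₀.obj i₀) T := fun i =>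
    constant_of_preserves_morphisms (fun i => s.π.app i ≫ snd (D₀.obj i) T)
      (fun i j f => by rw [← hw f, Category.assoc, whiskerRight_snd]) i i₀
  refine ⟨lift l₀ (s.π.app i₀ ≫ snd (D₀.obj i₀) T), fun i => ?_, fun l' hl' => ?_⟩
  · show lift l₀ (s.π.app i₀ ≫ snd (D₀.obj i₀) T) ≫ (c₀.π.app i ▷ T) = s.π.app i
    rw [lift_whiskerRight, hl₀, ← ht i, lift_comp_fst_snd]
  · have h1 : ∀ i, l' ≫ (c₀.π.app i ▷ T) = s.π.app i := hl'
    apply CartesianMonoidalCategory.hom_ext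
    · rw [lift_fst]
      apply hc₀.hom_ext
      intro i
      calc (l' ≫ fst c₀.pt T) ≫ c₀.π.app i = l' ≫ (c₀.π.app i ▷ T) ≫ fst (D₀.obj i) T := by
            rw [Category.assoc, whiskerRight_fst]
            rfl
        _ = s.π.app i ≫ fst (D₀.obj i) T := by rw [← Category.assoc, h1]
        _ = l₀ ≫ c₀.π.app i := (hl₀ i).symm
    · rw [lift_snd]
      calc l' ≫ snd c₀.pt T = l' ≫ (c₀.π.app i₀ ▷ T) ≫ snd (D₀.obj i₀) T := by
            rw [whiskerRight_snd]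
            rfl
        _ = s.π.app i₀ ≫ snd (D₀.obj i₀) T := by rw [← Category.assoc, h1]

end Abstract

/-! ### concrete part -/

variable {S : Scheme.{u}}

section Incl
variable {M : Type} [AddCommMonoid M]

theorem map_inclusion_self {N₁ : AddSubmonoid M} (h : N₁ ≤ N₁) :
    Magnet.AMonS.map S (AddSubmonoid.inclusion h) = 𝟙 _ := by
  have key : ∀ {W : Over S} (t : W ⟶ Magnet.AMonS S ↥N₁),
      t ≫ Magnet.AMonS.map S (AddSubmonoid.inclusion h) = t := by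
    intro W t
    apply charOfPt_injective
    refine MonoidHom.ext fun m' => ?_
    obtain ⟨n, rfl⟩ : ∃ n : ↥N₁, Multiplicative.ofAdd n = m' := ⟨Multiplicative.toAdd m', rfl⟩
    rw [charOfPt_map_apply]
    rfl
  have h1 := key (𝟙 _)
  rwa [Category.id_comp] at h1

theorem map_inclusion_comp {N₁ N₂ N₃ : AddSubmonoid M} (h12 : N₁ ≤ N₂) (h23 : N₂ ≤ N₃)
    (h13 : N₁ ≤ N₃) :
    Magnet.AMonS.map S (AddSubmonoid.inclusion h23) ≫ Magnet.AMonS.map S (AddSubmonoid.inclusion h12) =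
      Magnet.AMonS.map S (AddSubmonoid.inclusion h13) :=
  (Magnet.AMonS.map_comp S _ _).symm.trans
    (congrArg (Magnet.AMonS.map S) (AddMonoidHom.ext fun _ => rfl))

theorem isAffineHom_AMonS_hom (M' : Type) [AddCommMonoid M'] :
    IsAffineHom (Magnet.AMonS S M').hom := by
  have h : ∀ {X Y : Scheme.{u}} (f : X ⟶ Y), IsAffine X → IsAffine Y → IsAffineHom f :=
    fun f hX hY => by haveI := hX; haveI := hY; infer_instance
  haveI : IsAffineHom (Magnet.AMon (ULift.{u} ℤ) M').hom :=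
    h _ (by show IsAffine (Spec _); infer_instance) (by show IsAffine (Spec _); infer_instance)
  show IsAffineHom (pullback.snd (Magnet.AMon (ULift.{u} ℤ) M').hom (toBaseZ S))
  exact MorphismProperty.pullback_snd _ _ ‹_›

theorem isAffine_tensor_left (M' : Type) [AddCommMonoid M'] (T : Over S) [IsAffine T.left] :
    IsAffine (Magnet.AMonS S M' ⊗ T).left := by
  haveI := isAffineHom_AMonS_hom (S := S) M'
  show IsAffine (pullback (Magnet.AMonS S M').hom T.hom)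
  infer_instance

end Incl

section Directed
variable {M : Type} [AddCommMonoid M] {J' : Type u} [Preorder J']
  (N' : J' → AddSubmonoid M) (hN' : Monotone N') (N₀ : AddSubmonoid M) (hle : ∀ i, N' i ≤ N₀)

/-- the diagram `i ↦ A(Nᵢ)` -/
def D0 : J'ᵒᵖ ⥤ Over S where
  obj i := Magnet.AMonS S ↥(N' (unop i))
  map f := Magnet.AMonS.map S (AddSubmonoid.inclusion (hN' (leOfHom f.unop)))
  map_id _ := map_inclusion_self _
  map_comp _ _ := (map_inclusion_comp _ _ _).symm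

/-- the cone with vertex `A(N₀)` -/
def c0 : Cone (D0 (S := S) N' hN') where
  pt := Magnet.AMonS S ↥N₀
  π :=
    { app := fun i => Magnet.AMonS.map S (AddSubmonoid.inclusion (hle (unop i)))
      naturality := fun _ _ _ => (Category.id_comp _).trans (map_inclusion_comp _ _ _).symm }

theorem exists_unique_lift [IsDirected J' (· ≤ ·)] [Nonempty J'] (hmem : ∀ m ∈ N₀, ∃ i, m ∈ N' i)
    (s : Cone (D0 (S := S) N' hN')) :
    ∃! l : s.pt ⟶ Magnet.AMonS S ↥N₀,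
      ∀ j : J'ᵒᵖ, l ≫ Magnet.AMonS.map S (AddSubmonoid.inclusion (hle (unop j))) = s.π.app j := by
  have hmem' := hmem
  obtain ⟨y, hy⟩ : ∃ y : ∀ i : J', s.pt ⟶ Magnet.AMonS S ↥(N' i), ∀ i, y i = s.π.app (op i) :=
    ⟨fun i => s.π.app (op i), fun _ => rfl⟩
  have hyw : ∀ (i j : J') (h : i ≤ j),
      y j ≫ Magnet.AMonS.map S (AddSubmonoid.inclusion (hN' h)) = y i := by
    intro i j h
    rw [hy, hy]
    exact s.w (homOfLE h).op
  have hχ : ∀ (i j : J') (h : i ≤ j) (n : ↥(N' i)),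
      charOfPt (y i) (Multiplicative.ofAdd n) =
        charOfPt (y j) (Multiplicative.ofAdd (AddSubmonoid.inclusion (hN' h) n)) := by
    intro i j h n
    rw [← hyw i j h, charOfPt_map_apply]
  choose idx hidx using hmem
  have key : ∀ (k : J') (m : M) (hm : m ∈ N₀) (hk : m ∈ N' k),
      charOfPt (y (idx m hm)) (Multiplicative.ofAdd (⟨m, hidx m hm⟩ : ↥(N' (idx m hm)))) =
        charOfPt (y k) (Multiplicative.ofAdd (⟨m, hk⟩ : ↥(N' k))) := by
    intro k m hm hk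
    obtain ⟨l, h1, h2⟩ := directed_of (· ≤ ·) (idx m hm) k
    rw [hχ _ l h1, hχ k l h2]
    rfl
  obtain ⟨χ₀, hχ₀⟩ : ∃ χ₀ : Multiplicative ↥N₀ →* Γ(s.pt.left, ⊤),
      ∀ (k : J') (m : M) (hm : m ∈ N₀) (hk : m ∈ N' k),
        χ₀ (Multiplicative.ofAdd (⟨m, hm⟩ : ↥N₀)) =
          charOfPt (y k) (Multiplicative.ofAdd (⟨m, hk⟩ : ↥(N' k))) := by
    refine ⟨{ toFun := fun m => charOfPt (y (idx (Multiplicative.toAdd m).1
                  (Multiplicative.toAdd m).2))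
                (Multiplicative.ofAdd (⟨(Multiplicative.toAdd m).1, hidx _ _⟩ :
                  ↥(N' (idx (Multiplicative.toAdd m).1 (Multiplicative.toAdd m).2))))
              map_one' := ?_
              map_mul' := ?_ }, fun k m hm hk => key k m hm hk⟩
    · have h0 : (0 : M) ∈ N' (idx 0 N₀.zero_mem) := (N' _).zero_mem
      exact (key _ 0 N₀.zero_mem h0).trans (map_one (charOfPt (y (idx 0 N₀.zero_mem))))
    · intro m m'
      obtain ⟨l, h1, h2⟩ := directed_of (· ≤ ·)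
        (idx (Multiplicative.toAdd m).1 (Multiplicative.toAdd m).2)
        (idx (Multiplicative.toAdd m').1 (Multiplicative.toAdd m').2)
      have hm : (Multiplicative.toAdd m).1 ∈ N' l := hN' h1 (hidx _ _)
      have hm' : (Multiplicative.toAdd m').1 ∈ N' l := hN' h2 (hidx _ _)
      have hmm : (Multiplicative.toAdd m).1 + (Multiplicative.toAdd m').1 ∈ N' l :=
        (N' l).add_mem hm hm'
      have e1 := key l ((Multiplicative.toAdd m).1 + (Multiplicative.toAdd m').1)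
        (Multiplicative.toAdd (m * m')).2 hmm
      have e2 := key l (Multiplicative.toAdd m).1 (Multiplicative.toAdd m).2 hm
      have e3 := key l (Multiplicative.toAdd m').1 (Multiplicative.toAdd m').2 hm'
      have e4 : charOfPt (y l) (Multiplicative.ofAdd
            (⟨(Multiplicative.toAdd m).1 + (Multiplicative.toAdd m').1, hmm⟩ : ↥(N' l))) =
          charOfPt (y l) (Multiplicative.ofAdd (⟨(Multiplicative.toAdd m).1, hm⟩ : ↥(N' l))) *
            charOfPt (y l)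
              (Multiplicative.ofAdd (⟨(Multiplicative.toAdd m').1, hm'⟩ : ↥(N' l))) :=
        map_mul (charOfPt (y l))
          (Multiplicative.ofAdd (⟨(Multiplicative.toAdd m).1, hm⟩ : ↥(N' l)))
          (Multiplicative.ofAdd (⟨(Multiplicative.toAdd m').1, hm'⟩ : ↥(N' l)))
      exact e1.trans (e4.trans (congrArg₂ (· * ·) e2.symm e3.symm))
  refine ⟨ptOfChar χ₀, fun j => ?_, fun l' hl' => ?_⟩
  · refine Eq.trans ?_ (hy (unop j))
    apply charOfPt_injective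
    refine MonoidHom.ext fun n' => ?_
    obtain ⟨n, rfl⟩ : ∃ n : ↥(N' (unop j)), Multiplicative.ofAdd n = n' :=
      ⟨Multiplicative.toAdd n', rfl⟩
    rw [charOfPt_map_apply, charOfPt_ptOfChar]
    exact hχ₀ (unop j) n.1 (hle _ n.2) n.2
  · apply charOfPt_injective
    rw [charOfPt_ptOfChar]
    refine MonoidHom.ext fun n' => ?_
    obtain ⟨n, rfl⟩ : ∃ n : ↥N₀, Multiplicative.ofAdd n = n' := ⟨Multiplicative.toAdd n', rfl⟩
    obtain ⟨i, hi⟩ := hmem' n.1 n.2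
    have h1 := hχ₀ i n.1 n.2 hi
    have h2 := charOfPt_map_apply (AddSubmonoid.inclusion (hle i)) l' (⟨n.1, hi⟩ : ↥(N' i))
    have h3 : l' ≫ Magnet.AMonS.map S (AddSubmonoid.inclusion (hle i)) = y i :=
      (hl' (op i)).trans (hy i).symm
    rw [h3] at h2
    exact h2.symm.trans h1.symm

def isLimit_c0 [IsDirected J' (· ≤ ·)] [Nonempty J'] (hmem : ∀ m ∈ N₀, ∃ i, m ∈ N' i) :
    IsLimit (c0 (S := S) N' hN' N₀ hle) :=
  IsLimit.ofExistsUnique fun s => exists_unique_lift N' hN' N₀ hle hmem s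

end Directed

theorem core {M : Type} [AddCommMonoid M] {X : Over S} [IsSeparated X.hom]
    [LocallyOfFinitePresentation X.hom] (a : Magnet.MonAct (Magnet.AMonS S M) X)
    {J' : Type u} [Preorder J'] [IsDirected J' (· ≤ ·)] [Nonempty J']
    (N' : J' → AddSubmonoid M) (hN' : Monotone N') (N₀ : AddSubmonoid M) (hle : ∀ i, N' i ≤ N₀)
    (hmem : ∀ m ∈ N₀, ∃ i, m ∈ N' i) (T : Over S) [IsAffine T.left]
    (φ : (Magnet.attr a N₀).obj (op T)) :
    ∃ (i : J') (ψ : (Magnet.attr a (N' i)).obj (op T)),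
      (Magnet.AMonS.map S (AddSubmonoid.inclusion (hle i)) ▷ T) ≫ ψ.1 = φ.1 := by
  haveI : IsConnected J'ᵒᵖ := IsCofiltered.isConnected _
  have hc := isLimitMapConeTensorRight (c0 (S := S) N' hN' N₀ hle)
    (isLimit_c0 N' hN' N₀ hle hmem) T
  haveI hAff : ∀ i : J'ᵒᵖ, IsAffine ((D0 (S := S) N' hN' ⋙ tensorRight T).obj i).left :=
    fun i => isAffine_tensor_left ↥(N' (unop i)) T
  haveI : ∀ {i j : J'ᵒᵖ} (f : i ⟶ j),
      IsAffineHom ((D0 (S := S) N' hN' ⋙ tensorRight T).map f).left := fun f => inferInstance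
  haveI : ∀ i : J'ᵒᵖ, CompactSpace ((D0 (S := S) N' hN' ⋙ tensorRight T).obj i).left :=
    fun i => inferInstance
  haveI : ∀ i : J'ᵒᵖ, QuasiSeparatedSpace ((D0 (S := S) N' hN' ⋙ tensorRight T).obj i).left :=
    fun i => inferInstance
  have hcolim := isColimitOfPreserves (yoneda.obj X) hc.op
  obtain ⟨j, ψ₀, hψ₀⟩ := Types.jointly_surjective_of_isColimit hcolim φ.1
  have h1 : (Magnet.AMonS.map S (AddSubmonoid.inclusion (hle (unop (unop j)))) ▷ T) ≫ ψ₀ = φ.1 :=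
    hψ₀
  refine ⟨unop (unop j), ⟨ψ₀, (eqv_iff_pt (N' (unop (unop j))) a ψ₀).mpr fun W g p t => ?_⟩, h1⟩
  exact abstract_eqv_descend a (Magnet.AMonS.map S N₀.subtype)
    (Magnet.AMonS.map S (N' (unop (unop j))).subtype)
    (Magnet.AMonS.map S (AddSubmonoid.inclusion (hle (unop (unop j)))))
    (Magnet.AMonS.map_isMonHom S _)
    ((Magnet.AMonS.map_comp S _ _).symm.trans
      (congrArg (Magnet.AMonS.map S) (AddMonoidHom.ext fun _ => rfl)))
    (fun u v h => AG9.ext_of_whiskerRight_map S (AddSubmonoid.inclusion (hle (unop (unop j))))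
      (fun x y hxy => Subtype.ext (congrArg (fun z : ↥N₀ => (z : M)) hxy))
      (Magnet.AMonS S M ⊗ T) X u v h)
    φ.1 (fun g p t => (eqv_iff_pt N₀ a φ.1).mp φ.2 _ g p t) ψ₀ h1 g p t

theorem main18290 (S : Scheme.{u}) (M : Type) [AddCommMonoid M]
    (X : Over S) [IsSeparated X.hom] [LocallyOfFinitePresentation X.hom]
    (a : Magnet.MonAct (Magnet.AMonS S M) X) {J : Type} [Preorder J] [IsDirected J (· ≤ ·)] [Nonempty J]
    (N : J → AddSubmonoid M) (hN : Monotone N) (T : Over S) [IsAffine T.left]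
    (φ : (Magnet.attr a (⨆ i, N i)).obj (op T)) :
    ∃ (i : J) (ψ : (Magnet.attr a (N i)).obj (op T)), (Magnet.attrMap a (le_iSup N i)).app (op T) ψ = φ := by
  haveI : IsDirected (ULift.{u} J) (· ≤ ·) := ⟨fun x y => by
    obtain ⟨z, h1, h2⟩ := directed_of (· ≤ ·) x.down y.down
    exact ⟨⟨z⟩, h1, h2⟩⟩
  obtain ⟨i, ψ, h⟩ := core a (fun i : ULift.{u} J => N i.down) (fun x y h => hN h) (⨆ i, N i)
    (fun i => le_iSup N i.down)
    (fun m hm => by
      obtain ⟨i, hi⟩ := (AddSubmonoid.mem_iSup_of_directed hN.directed_le).mp hm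
      exact ⟨⟨i⟩, hi⟩) T φ
  exact ⟨i.down, ψ, Subtype.ext h⟩

end Groth.Agent.Helper17.AG22
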