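import Mathlib
import Groth.Prelude.Def_Magnet4
import Groth.Prelude.Def_ActBC

/-!
# Attractors and base change, objectwise (helper17)

`((a.bc g).bc f)` and `a.bc (f ≫ g)` are intertwined by the canonical isomorphisms `bcCompIso`
(monoid-action version of the prelude's `ActBC.equivIsoBcComp`), hence equivariance of morphisms
between twice base-changed objects transports along these isomorphisms.
-/

set_option autoImplicit false
universe u
open CategoryTheory CategoryTheory.Limits MonoidalCategory CartesianMonoidalCategory MonObj AlgebraicGeometry Opposite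

noncomputable section
namespace Groth.Agent.Helper17.AG23

section Abstract
universe v₁ u₁
variable {C : Type u₁} [Category.{v₁} C] [CartesianMonoidalCategory C]

theorem abstract_eqv_transport {A2 Ad B2 Bd X2 Xd : C} [MonObj A2] [MonObj Ad]
    (α : Magnet.MonAct A2 B2) (β : Magnet.MonAct A2 X2) (αd : Magnet.MonAct Ad Bd)
    (βd : Magnet.MonAct Ad Xd) (iA : A2 ≅ Ad) (iB : B2 ≅ Bd) (iX : X2 ≅ Xd)
    (h1 : α.act ≫ iB.hom = (A2 ◁ iB.hom) ≫ (iA.hom ▷ Bd) ≫ αd.act)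
    (h2 : β.act ≫ iX.hom = (A2 ◁ iX.hom) ≫ (iA.hom ▷ Xd) ≫ βd.act)
    (ψd : Bd ⟶ Xd) :
    Magnet.MonAct.IsEquivariant α β (iB.hom ≫ ψd ≫ iX.inv) ↔
      Magnet.MonAct.IsEquivariant αd βd ψd := by
  unfold Magnet.MonAct.IsEquivariant
  have e1 : (α.act ≫ iB.hom ≫ ψd ≫ iX.inv) ≫ iX.hom =
      ((A2 ◁ iB.hom) ≫ (iA.hom ▷ Bd)) ≫ (αd.act ≫ ψd) := by
    calc (α.act ≫ iB.hom ≫ ψd ≫ iX.inv) ≫ iX.hom = (α.act ≫ iB.hom) ≫ ψd := by
          simp only [Category.assoc, Iso.inv_hom_id, Category.comp_id]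
      _ = ((A2 ◁ iB.hom) ≫ (iA.hom ▷ Bd) ≫ αd.act) ≫ ψd := by rw [h1]
      _ = ((A2 ◁ iB.hom) ≫ (iA.hom ▷ Bd)) ≫ (αd.act ≫ ψd) := by simp only [Category.assoc]
  have e2 : ((A2 ◁ (iB.hom ≫ ψd ≫ iX.inv)) ≫ β.act) ≫ iX.hom =
      ((A2 ◁ iB.hom) ≫ (iA.hom ▷ Bd)) ≫ ((Ad ◁ ψd) ≫ βd.act) := by
    calc ((A2 ◁ (iB.hom ≫ ψd ≫ iX.inv)) ≫ β.act) ≫ iX.hom
        = (A2 ◁ (iB.hom ≫ ψd ≫ iX.inv)) ≫ (β.act ≫ iX.hom) := Category.assoc _ _ _
      _ = (A2 ◁ (iB.hom ≫ ψd ≫ iX.inv)) ≫ (A2 ◁ iX.hom) ≫ (iA.hom ▷ Xd) ≫ βd.act := by rw [h2]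
      _ = (A2 ◁ iB.hom) ≫ ((A2 ◁ ψd) ≫ (iA.hom ▷ Xd)) ≫ βd.act := by
          simp only [MonoidalCategory.whiskerLeft_comp, Category.assoc,
            whiskerLeft_inv_hom_assoc]
      _ = (A2 ◁ iB.hom) ≫ ((iA.hom ▷ Bd) ≫ (Ad ◁ ψd)) ≫ βd.act := by rw [whisker_exchange]
      _ = ((A2 ◁ iB.hom) ≫ (iA.hom ▷ Bd)) ≫ ((Ad ◁ ψd) ≫ βd.act) := by
          simp only [Category.assoc]
  haveI : IsIso ((A2 ◁ iB.hom) ≫ (iA.hom ▷ Bd)) := inferInstance
  constructor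
  · intro h
    have h3 : (α.act ≫ iB.hom ≫ ψd ≫ iX.inv) ≫ iX.hom =
        ((A2 ◁ (iB.hom ≫ ψd ≫ iX.inv)) ≫ β.act) ≫ iX.hom := by rw [h]
    rw [e1, e2] at h3
    exact (cancel_epi _).mp h3
  · intro h
    have h3 : (α.act ≫ iB.hom ≫ ψd ≫ iX.inv) ≫ iX.hom =
        ((A2 ◁ (iB.hom ≫ ψd ≫ iX.inv)) ≫ β.act) ≫ iX.hom := by
      rw [e1, e2, h]
    exact (cancel_mono _).mp h3

end Abstract

section BC
variable {S S' S'' : Scheme.{u}} (f : S'' ⟶ S') (g : S' ⟶ S) {d : S'' ⟶ S}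
  {A X : Over S} [MonObj A]

theorem bc_bc_act (h : f ≫ g = d) (a : Magnet.MonAct A X) :
    ((a.bc g).bc f).act ≫ (ActBC.bcCompIso f g X h).hom =
      (Red.bc f (Red.bc g A) ◁ (ActBC.bcCompIso f g X h).hom) ≫
        ((ActBC.bcCompIso f g A h).hom ▷ Red.bc d X) ≫ (a.bc d).act := by
  ext
  apply pullback.hom_ext
  · simp only [Magnet.MonAct.bc_act, Over.comp_left, Category.assoc,
      ActBC.bcCompIso_hom_left_fst, ActBC.pullback_map_left_fst, ActBC.pullback_map_left_fst_assoc]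
    simp only [← Category.assoc]
    congr 1
    simp only [Category.assoc]
    apply pullback.hom_ext
    · simp only [Category.assoc]
      rw [ActBC.μ_left_fst_fst, ActBC.μ_left_fst_fst_assoc, ActBC.μ_left_fst_fst,
        Over.whiskerRight_left_fst_assoc, Over.whiskerLeft_left_fst_assoc,
        ActBC.bcCompIso_hom_left_fst]
    · simp only [Category.assoc]
      rw [ActBC.μ_left_fst_snd, ActBC.μ_left_fst_snd_assoc, ActBC.μ_left_fst_snd,
        Over.whiskerRight_left_snd_assoc, Over.whiskerLeft_left_snd_assoc,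
        ActBC.bcCompIso_hom_left_fst]
  · exact (Over.w _).trans (Over.w _).symm

end BC

section Main
variable {S : Scheme.{u}}

theorem eqv_transport {A B X : Over S} [MonObj A] (ρ : Magnet.MonAct A B) (a : Magnet.MonAct A X)
    {S' S'' : Scheme.{u}} (f : S'' ⟶ S') (g : S' ⟶ S) {d : S'' ⟶ S} (h : f ≫ g = d)
    (ψd : Red.bc d B ⟶ Red.bc d X) :
    Magnet.MonAct.IsEquivariant ((ρ.bc g).bc f) ((a.bc g).bc f)
        ((ActBC.bcCompIso f g B h).hom ≫ ψd ≫ (ActBC.bcCompIso f g X h).inv) ↔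
      Magnet.MonAct.IsEquivariant (ρ.bc d) (a.bc d) ψd :=
  abstract_eqv_transport _ _ _ _ (ActBC.bcCompIso f g A h) (ActBC.bcCompIso f g B h)
    (ActBC.bcCompIso f g X h) (bc_bc_act f g h ρ) (bc_bc_act f g h a) ψd

theorem main18300 (S : Scheme.{u}) (M : Type) [AddCommMonoid M] (N : AddSubmonoid M)
    (X : Over S) (a : Magnet.MonAct (Magnet.AMonS S M) X) (T : Over S) (T'' : Over T.left) :
    ∃ Φ : (Magnet.attr a N).obj (op ((Over.map T.hom).obj T'')) ≃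
        (Magnet.MonAct.eqvHom ((Magnet.subAct S M N).bc T.hom) (a.bc T.hom)).obj (op T''),
      ∀ φ, (Magnet.eqvHomEquivBc T'' ((Magnet.subAct S M N).bc T.hom) (a.bc T.hom) (Φ φ)).1 ≫
          (ActBC.bcCompIso T''.hom T.hom X rfl).hom =
        (ActBC.bcCompIso T''.hom T.hom (Magnet.AMonS S N) rfl).hom ≫
          (Magnet.eqvHomEquivBc ((Over.map T.hom).obj T'') (Magnet.subAct S M N) a φ).1 := by
  obtain ⟨iB, hiB⟩ : ∃ iB : Red.bc T''.hom (Red.bc T.hom (Magnet.AMonS S N)) ≅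
      Red.bc ((Over.map T.hom).obj T'').hom (Magnet.AMonS S N),
      iB = ActBC.bcCompIso T''.hom T.hom (Magnet.AMonS S N) rfl := ⟨_, rfl⟩
  obtain ⟨iX, hiX⟩ : ∃ iX : Red.bc T''.hom (Red.bc T.hom X) ≅
      Red.bc ((Over.map T.hom).obj T'').hom X,
      iX = ActBC.bcCompIso T''.hom T.hom X rfl := ⟨_, rfl⟩
  have key : ∀ ψd : Red.bc ((Over.map T.hom).obj T'').hom (Magnet.AMonS S N) ⟶
      Red.bc ((Over.map T.hom).obj T'').hom X,
      Magnet.MonAct.IsEquivariant (((Magnet.subAct S M N).bc T.hom).bc T''.hom)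
          ((a.bc T.hom).bc T''.hom) (iB.hom ≫ ψd ≫ iX.inv) ↔
        Magnet.MonAct.IsEquivariant ((Magnet.subAct S M N).bc ((Over.map T.hom).obj T'').hom)
          (a.bc ((Over.map T.hom).obj T'').hom) ψd := by
    intro ψd
    rw [hiB, hiX]
    exact eqv_transport (Magnet.subAct S M N) a T''.hom T.hom rfl ψd
  let conj : {ψ : Red.bc ((Over.map T.hom).obj T'').hom (Magnet.AMonS S N) ⟶
        Red.bc ((Over.map T.hom).obj T'').hom X //
        Magnet.MonAct.IsEquivariant ((Magnet.subAct S M N).bc ((Over.map T.hom).obj T'').hom)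
          (a.bc ((Over.map T.hom).obj T'').hom) ψ} ≃
      {ψ : Red.bc T''.hom (Red.bc T.hom (Magnet.AMonS S N)) ⟶ Red.bc T''.hom (Red.bc T.hom X) //
        Magnet.MonAct.IsEquivariant (((Magnet.subAct S M N).bc T.hom).bc T''.hom)
          ((a.bc T.hom).bc T''.hom) ψ} :=
    { toFun := fun ψ => ⟨iB.hom ≫ ψ.1 ≫ iX.inv, (key ψ.1).mpr ψ.2⟩
      invFun := fun ψ => ⟨iB.inv ≫ ψ.1 ≫ iX.hom, (key _).mp (by
        have : iB.hom ≫ (iB.inv ≫ ψ.1 ≫ iX.hom) ≫ iX.inv = ψ.1 := by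
          simp only [Category.assoc, Iso.hom_inv_id, Category.comp_id, Iso.hom_inv_id_assoc]
        rw [this]
        exact ψ.2)⟩
      left_inv := fun ψ => Subtype.ext (by
        simp only [Category.assoc, Iso.inv_hom_id, Category.comp_id, Iso.inv_hom_id_assoc])
      right_inv := fun ψ => Subtype.ext (by
        simp only [Category.assoc, Iso.hom_inv_id, Category.comp_id, Iso.hom_inv_id_assoc]) }
  refine ⟨((Magnet.eqvHomEquivBc ((Over.map T.hom).obj T'') (Magnet.subAct S M N) a).trans conj).trans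
    (Magnet.eqvHomEquivBc T'' ((Magnet.subAct S M N).bc T.hom) (a.bc T.hom)).symm, fun φ => ?_⟩
  rw [← hiB, ← hiX]
  simp only [Equiv.trans_apply, Equiv.apply_symm_apply]
  show (iB.hom ≫ _ ≫ iX.inv) ≫ iX.hom = _
  simp only [Category.assoc, Iso.inv_hom_id, Category.comp_id]

end Main

end Groth.Agent.Helper17.AG23
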