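import Mathlib
import Groth.Prelude.Def_GmPts
import Groth.Prelude.Def_Magnet4
import Groth.Agent.Lib.Helper17.AG15
import Groth.Agent.Lib.Helper17.AG17
import Groth.Agent.Lib.Helper17.AG18
import Groth.Agent.Lib.Helper17.AG22

/-!
# Functions on `A(M)_S × T'` for affine `T'` (helper17)

`Γ(A(M)_S × T') = Γ(T')[M]` for affine `T'`, naturally in `T'` and `M`; comodule-type algebra
lemmas (homogeneous components of the image of an equivariant ring map); morphisms of affine
schemes from ring maps.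
-/

set_option autoImplicit false
universe u
open CategoryTheory CategoryTheory.Limits MonoidalCategory CartesianMonoidalCategory MonObj AlgebraicGeometry Opposite

noncomputable section
namespace Groth.Agent.Helper17.AG24
open GmPts (baseZ toBaseZ)
open Groth.Agent.Helper17.AG14 Groth.Agent.Helper17.AG15
open scoped AlgebraMonoidAlgebra

/-! ### pure algebra -/
section Alg

theorem alg_K {G : Type} [Monoid G] {B R GP GQ GA : Type u} [CommRing B] [CommRing R]
    [CommRing GP] [CommRing GQ] [CommRing GA]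
    (ET : MonoidAlgebra B G →+* GP) (EP : MonoidAlgebra GP G →+* GQ)
    (EX : MonoidAlgebra R G →+* GA)
    (o : R →+* GP) (ρ : R →+* GA) (w : GA →+* GQ) (Δ : GP →+* GQ)
    (h1 : ∀ r, Δ (o r) = w (ρ r))
    (h2 : ∀ s, w (EX s) = EP (MonoidAlgebra.mapRingHom G o s))
    (h3 : ∀ g b, Δ (ET (MonoidAlgebra.single g b)) =
      EP (MonoidAlgebra.single g (ET (MonoidAlgebra.single g b))))
    (hEP : Function.Injective EP)
    (r : R) (c : MonoidAlgebra B G) (s : MonoidAlgebra R G) (hc : ET c = o r) (hs : EX s = ρ r)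
    (g : G) :
    o (s.coeff g) = ET (MonoidAlgebra.single g (c.coeff g)) := by
  have hA : ∀ c : MonoidAlgebra B G, ∃ D : MonoidAlgebra GP G, Δ (ET c) = EP D ∧
      ∀ g, D.coeff g = ET (MonoidAlgebra.single g (c.coeff g)) := by
    intro c
    induction c using MonoidAlgebra.induction_linear with
    | zero => exact ⟨0, by simp, fun g => by simp⟩
    | add x y hx hy =>
      obtain ⟨D₁, e₁, k₁⟩ := hx
      obtain ⟨D₂, e₂, k₂⟩ := hy
      refine ⟨D₁ + D₂, by rw [map_add, map_add, map_add, e₁, e₂], fun g => ?_⟩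
      simp only [MonoidAlgebra.coeff_add, Finsupp.add_apply, k₁, k₂, MonoidAlgebra.single_add,
        map_add]
    | single g' b =>
      refine ⟨MonoidAlgebra.single g' (ET (MonoidAlgebra.single g' b)), h3 g' b, fun g => ?_⟩
      rw [MonoidAlgebra.coeff_single, MonoidAlgebra.coeff_single]
      by_cases hg : g' = g
      · subst hg
        rw [Finsupp.single_eq_same, Finsupp.single_eq_same]
      · rw [Finsupp.single_eq_of_ne' hg, Finsupp.single_eq_of_ne' hg, MonoidAlgebra.single_zero,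
          map_zero]
  obtain ⟨D, hD, hDk⟩ := hA c
  have h4 : EP D = EP (MonoidAlgebra.mapRingHom G o s) := by
    rw [← hD, hc, h1, ← hs, h2]
  have h5 := hEP h4
  rw [← hDk g, h5, MonoidAlgebra.coeff_mapRingHom]

theorem alg_Y {G H K : Type} [Monoid G] [Monoid H] [Monoid K] (f : G →* H) (j : K →* H)
    {B GP GPZ GPY : Type u} [CommRing B] [CommRing GP] [CommRing GPZ] [CommRing GPY]
    (ET : MonoidAlgebra B G →+* GP) (EZ : MonoidAlgebra B H →+* GPZ)
    (EY : MonoidAlgebra B K →+* GPY) (e : GP →+* GPZ) (dY : GPY →+* GPZ)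
    (he : ∀ g b, e (ET (MonoidAlgebra.single g b)) = EZ (MonoidAlgebra.single (f g) b))
    (hd : ∀ c, dY (EY c) = EZ (MonoidAlgebra.mapDomain j c))
    (hEZ : Function.Injective EZ) (hEY : Function.Surjective EY)
    (g : G) (b : B) (y : GPY) (hy : dY y = e (ET (MonoidAlgebra.single g b))) :
    b = 0 ∨ ∃ k, j k = f g := by
  obtain ⟨c', rfl⟩ := hEY y
  rw [hd, he] at hy
  have h2 := hEZ hy
  by_contra hcon
  push_neg at hcon
  obtain ⟨hb, hk⟩ := hcon
  have h3 := congrArg (fun z => z.coeff (f g)) h2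
  simp only [MonoidAlgebra.coeff_single, Finsupp.single_eq_same, MonoidAlgebra.coeff_mapDomain]
    at h3
  rw [Finsupp.mapDomain_of_notMem_range] at h3
  · exact hb h3.symm
  · rintro ⟨k, hk'⟩
    exact hk k hk'

theorem alg_N {K G : Type} (incl : K → G) (hincl : Function.Injective incl) {B : Type u}
    [CommRing B] (c : MonoidAlgebra B G) (hc : ∀ g, c.coeff g ≠ 0 → ∃ k, incl k = g) :
    ∃ c₀ : MonoidAlgebra B K, MonoidAlgebra.mapDomain incl c₀ = c := by
  refine ⟨MonoidAlgebra.ofCoeff (Finsupp.comapDomain incl c.coeff hincl.injOn), ?_⟩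
  apply MonoidAlgebra.coeff_injective
  rw [MonoidAlgebra.coeff_mapDomain, MonoidAlgebra.coeff_ofCoeff]
  apply Finsupp.mapDomain_comapDomain incl hincl
  intro g hg
  exact hc g (Finsupp.mem_support_iff.mp hg)

end Alg

/-! ### morphisms to affine schemes from ring maps -/
section Affine

theorem isoSpec_inv_appTop' (Q : Scheme.{u}) [IsAffine Q] :
    Q.isoSpec.inv.appTop = (Scheme.ΓSpecIso Γ(Q, ⊤)).inv := by
  have h1 : Q.isoSpec.hom.appTop = (Scheme.ΓSpecIso Γ(Q, ⊤)).hom := by
    rw [Scheme.isoSpec_hom]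
    exact Scheme.toSpecΓ_appTop Q
  have h2 : Q.isoSpec.hom.appTop ≫ Q.isoSpec.inv.appTop = 𝟙 _ := by
    rw [← Scheme.Hom.comp_appTop, Iso.inv_hom_id]
    rfl
  rw [h1] at h2
  exact (Iso.hom_comp_eq_id _).mp h2

theorem exists_hom_of_ringHom (W Q : Scheme.{u}) [IsAffine Q] (ψ : Γ(Q, ⊤) ⟶ Γ(W, ⊤)) :
    ∃ φ : W ⟶ Q, φ.appTop = ψ := by
  refine ⟨(ΓSpec.adjunction.homEquiv W (op Γ(Q, ⊤))) ψ.op ≫ Q.isoSpec.inv, ?_⟩
  rw [Scheme.Hom.comp_appTop, ΓSpec_adjunction_homEquiv_eq, isoSpec_inv_appTop',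
    Iso.inv_hom_id_assoc]

theorem affine_factor {V W Q : Scheme.{u}} [IsAffine Q] (d : V ⟶ W) (o : V ⟶ Q)
    (hinj : Function.Injective d.appTop.hom)
    (hr : ∀ r, ∃ y, d.appTop.hom y = o.appTop.hom r) :
    ∃ φ : W ⟶ Q, d ≫ φ = o := by
  choose y hy using hr
  obtain ⟨ψ, hψ⟩ : ∃ ψ : Γ(Q, ⊤) →+* Γ(W, ⊤), ∀ r, ψ r = y r :=
    ⟨{ toFun := y
       map_one' := hinj (by rw [hy, map_one, map_one])
       map_mul' := fun r r' => hinj (by rw [hy, map_mul, map_mul, hy, hy])
       map_zero' := hinj (by rw [hy, map_zero, map_zero])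
       map_add' := fun r r' => hinj (by rw [hy, map_add, map_add, hy, hy]) }, fun _ => rfl⟩
  obtain ⟨φ, hφ⟩ := exists_hom_of_ringHom W Q (CommRingCat.ofHom ψ)
  refine ⟨φ, ext_of_isAffine ?_⟩
  rw [Scheme.Hom.comp_appTop, hφ]
  apply CommRingCat.hom_ext
  ext r
  show d.appTop.hom (ψ r) = o.appTop.hom r
  rw [hψ, hy]

theorem affine_cancel {V W Q : Scheme.{u}} [IsAffine Q] (d : V ⟶ W)
    (hinj : Function.Injective d.appTop.hom) (u v : W ⟶ Q) (h : d ≫ u = d ≫ v) : u = v := by
  apply ext_of_isAffine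
  apply CommRingCat.hom_ext
  ext r
  apply hinj
  have h1 := congrArg (fun k => k.appTop.hom r) h
  exact ((AG17.appTop_comp_apply d u r).symm.trans h1).trans (AG17.appTop_comp_apply d v r)

end Affine

/-! ### the evaluation maps -/

variable {S : Scheme.{u}}

/-- pullback of functions along a morphism over `S` -/
def pb {W W' : Over S} (k : W ⟶ W') : Γ(W'.left, ⊤) →+* Γ(W.left, ⊤) := k.left.appTop.hom

theorem pb_comp_apply {W W' W'' : Over S} (k : W ⟶ W') (k' : W' ⟶ W'') (z : Γ(W''.left, ⊤)) :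
    pb (k ≫ k') z = pb k (pb k' z) :=
  AG17.appTop_comp_apply k.left k'.left z

section Ev
variable {M : Type} [AddCommMonoid M]

/-- the ring map `Γ(T')[M] → Γ(W)` of a point `p` of `A(M)` and a morphism `t : W ⟶ T'` -/
def ev {W T' : Over S} (p : W ⟶ Magnet.AMonS S M) (t : W ⟶ T') :
    MonoidAlgebra Γ(T'.left, ⊤) (Multiplicative M) →+* Γ(W.left, ⊤) :=
  MonoidAlgebra.liftNCRingHom (pb t) (charOfPt p) (fun _ _ => Commute.all _ _)

theorem ev_single {W T' : Over S} (p : W ⟶ Magnet.AMonS S M) (t : W ⟶ T')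
    (g : Multiplicative M) (b : Γ(T'.left, ⊤)) :
    ev p t (MonoidAlgebra.single g b) = pb t b * charOfPt p g :=
  MonoidAlgebra.liftNCRingHom_single _ _ _ _ _

theorem charOfPt_comp_apply {W W' : Over S} (w : W' ⟶ W) (p : W ⟶ Magnet.AMonS S M)
    (g : Multiplicative M) : charOfPt (w ≫ p) g = pb w (charOfPt p g) := by
  rw [charOfPt_comp]
  rfl

theorem ev_comp {W' W T' : Over S} (w : W' ⟶ W) (p : W ⟶ Magnet.AMonS S M) (t : W ⟶ T') :
    (pb w).comp (ev p t) = ev (w ≫ p) (w ≫ t) := by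
  refine MonoidAlgebra.ringHom_ext (fun b => ?_) (fun g => ?_)
  · simp only [RingHom.comp_apply, ev_single, map_one, _root_.mul_one, pb_comp_apply]
  · simp only [RingHom.comp_apply, ev_single, map_one, _root_.one_mul, charOfPt_comp_apply]

theorem ev_mapRing {W T' T'' : Over S} (p : W ⟶ Magnet.AMonS S M) (t : W ⟶ T') (g : T' ⟶ T'') :
    (ev p t).comp (MonoidAlgebra.mapRingHom (Multiplicative M) (pb g)) = ev p (t ≫ g) := by
  refine MonoidAlgebra.ringHom_ext (fun b => ?_) (fun m => ?_)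
  · simp only [RingHom.comp_apply, MonoidAlgebra.mapRingHom_single, ev_single, map_one,
      _root_.mul_one, pb_comp_apply]
  · simp only [RingHom.comp_apply, MonoidAlgebra.mapRingHom_single, ev_single, map_one,
      _root_.one_mul]

/-- the canonical ring map `Γ(T')[M] → Γ(A(M) × T')` -/
def E (M : Type) [AddCommMonoid M] (T' : Over S) :
    MonoidAlgebra Γ(T'.left, ⊤) (Multiplicative M) →+* Γ((Magnet.AMonS S M ⊗ T').left, ⊤) :=
  ev (fst (Magnet.AMonS S M) T') (snd (Magnet.AMonS S M) T')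

theorem E_single (T' : Over S) (g : Multiplicative M) (b : Γ(T'.left, ⊤)) :
    E M T' (MonoidAlgebra.single g b) =
      pb (snd (Magnet.AMonS S M) T') b * charOfPt (fst (Magnet.AMonS S M) T') g :=
  ev_single _ _ _ _

theorem pb_E {W T' : Over S} (w : W ⟶ Magnet.AMonS S M ⊗ T')
    (c : MonoidAlgebra Γ(T'.left, ⊤) (Multiplicative M)) :
    pb w (E M T' c) = ev (w ≫ fst _ _) (w ≫ snd _ _) c :=
  DFunLike.congr_fun (ev_comp w _ _) c

theorem E_whiskerLeft {T' T'' : Over S} (g : T' ⟶ T'')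
    (s : MonoidAlgebra Γ(T''.left, ⊤) (Multiplicative M)) :
    pb (Magnet.AMonS S M ◁ g) (E M T'' s) =
      E M T' (MonoidAlgebra.mapRingHom (Multiplicative M) (pb g) s) := by
  rw [pb_E, whiskerLeft_fst, whiskerLeft_snd]
  exact (DFunLike.congr_fun (ev_mapRing (fst (Magnet.AMonS S M) T') (snd _ _) g) s).symm

theorem E_map {N : Type} [AddCommMonoid N] (φ : N →+ M) (T' : Over S)
    (c : MonoidAlgebra Γ(T'.left, ⊤) (Multiplicative N)) :
    pb (Magnet.AMonS.map S φ ▷ T') (E N T' c) =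
      E M T' (MonoidAlgebra.mapDomain (AddMonoidHom.toMultiplicative φ) c) := by
  rw [pb_E, whiskerRight_fst, whiskerRight_snd]
  have h : ev (fst (Magnet.AMonS S M) T' ≫ Magnet.AMonS.map S φ) (snd (Magnet.AMonS S M) T') =
      (E M T').comp (MonoidAlgebra.mapDomainRingHom Γ(T'.left, ⊤)
        (AddMonoidHom.toMultiplicative φ)) := by
    refine MonoidAlgebra.ringHom_ext (fun b => ?_) (fun n' => ?_)
    · simp only [RingHom.comp_apply, MonoidAlgebra.mapDomainRingHom_apply,
        MonoidAlgebra.mapDomain_single, ev_single, E_single, map_one, _root_.mul_one]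
    · obtain ⟨n, rfl⟩ : ∃ n, Multiplicative.ofAdd n = n' := ⟨Multiplicative.toAdd n', rfl⟩
      simp only [RingHom.comp_apply, MonoidAlgebra.mapDomainRingHom_apply,
        MonoidAlgebra.mapDomain_single, ev_single, E_single, map_one, _root_.one_mul]
      exact charOfPt_map_apply φ _ n
  rw [h]
  rfl

/-- multiplication on the first factor of `A(M) × (A(M) × T')` -/
def mulT (M : Type) [AddCommMonoid M] (T' : Over S) :
    Magnet.AMonS S M ⊗ (Magnet.AMonS S M ⊗ T') ⟶ Magnet.AMonS S M ⊗ T' :=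
  lift (fst (Magnet.AMonS S M) (Magnet.AMonS S M ⊗ T') *
      (snd (Magnet.AMonS S M) (Magnet.AMonS S M ⊗ T') ≫ fst (Magnet.AMonS S M) T'))
    (snd (Magnet.AMonS S M) (Magnet.AMonS S M ⊗ T') ≫ snd (Magnet.AMonS S M) T')

theorem E_mulT (T' : Over S) (g : Multiplicative M) (b : Γ(T'.left, ⊤)) :
    pb (mulT M T') (E M T' (MonoidAlgebra.single g b)) =
      E M (Magnet.AMonS S M ⊗ T') (MonoidAlgebra.single g (E M T' (MonoidAlgebra.single g b))) := by
  rw [pb_E, ev_single, E_single, E_single, map_mul]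
  unfold mulT
  rw [lift_fst, lift_snd, charOfPt_mul, MonoidHom.mul_apply, charOfPt_comp_apply, pb_comp_apply]
  ring

end Ev

/-! ### bijectivity of `E` over an affine base -/
section Bij
variable {M : Type} [AddCommMonoid M]

theorem E_bijective (T' : Over S) [IsAffine T'.left] : Function.Bijective (E M T') := by
  letI : Algebra (ULift.{u} ℤ) Γ(T'.left, ⊤) :=
    RingHom.toAlgebra ((Int.castRingHom Γ(T'.left, ⊤)).comp
      (ULift.ringEquiv : ULift.{u} ℤ ≃+* ℤ).toRingHom)
  obtain ⟨jY, hjY⟩ : ∃ jY : Spec Γ(T'.left, ⊤) ⟶ T'.left, jY = T'.left.isoSpec.inv := ⟨_, rfl⟩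
  haveI : IsIso jY := by rw [hjY]; infer_instance
  have s1 := IsPullback.of_hasPullback (snd (Magnet.AMonS S M) T').left jY
  have s2 : IsPullback (fst (Magnet.AMonS S M) T').left (snd (Magnet.AMonS S M) T').left
      (Magnet.AMonS S M).hom T'.hom := by
    rw [Over.fst_left, Over.snd_left]
    exact IsPullback.of_hasPullback _ _
  have s3 := IsPullback.of_hasPullback (Magnet.AMon (ULift.{u} ℤ) M).hom (toBaseZ S)
  have sq1 := s1.paste_horiz (s2.paste_horiz s3)
  obtain ⟨iso, hiso1, hiso2⟩ := AG18.chart_iso (ULift.{u} ℤ) Γ(T'.left, ⊤) (Multiplicative M)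
    (Magnet.AMon (ULift.{u} ℤ) M).hom (jY ≫ T'.hom ≫ toBaseZ S)
    (specULiftZIsTerminal.hom_ext _ _) (specULiftZIsTerminal.hom_ext _ _) _ _ sq1
  obtain ⟨θ, hθ⟩ : ∃ θ : Spec (CommRingCat.of
      (MonoidAlgebra Γ(T'.left, ⊤) (Multiplicative M))) ⟶ (Magnet.AMonS S M ⊗ T').left,
      θ = iso.inv ≫ pullback.fst _ _ := ⟨_, rfl⟩
  haveI : IsIso θ := by rw [hθ]; infer_instance
  have hθ1 : θ ≫ specPt (fst (Magnet.AMonS S M) T') = Spec.map (CommRingCat.ofHom
      (algebraMap (Coord.{u} M) (MonoidAlgebra Γ(T'.left, ⊤) (Multiplicative M)))) := by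
    rw [hθ, Category.assoc, Iso.inv_comp_eq]
    exact hiso1.symm
  have hθ2 : θ ≫ (snd (Magnet.AMonS S M) T').left = Spec.map (CommRingCat.ofHom
      (algebraMap Γ(T'.left, ⊤) (MonoidAlgebra Γ(T'.left, ⊤) (Multiplicative M)))) ≫ jY := by
    rw [hθ, Category.assoc, pullback.condition, Iso.inv_comp_eq, ← Category.assoc, hiso2]
  obtain ⟨F, hF⟩ : ∃ F : Γ((Magnet.AMonS S M ⊗ T').left, ⊤) →+*
      MonoidAlgebra Γ(T'.left, ⊤) (Multiplicative M),
      ∀ z, F z = (Scheme.ΓSpecIso (CommRingCat.of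
        (MonoidAlgebra Γ(T'.left, ⊤) (Multiplicative M)))).hom (θ.appTop z) :=
    ⟨(Scheme.ΓSpecIso (CommRingCat.of
        (MonoidAlgebra Γ(T'.left, ⊤) (Multiplicative M)))).hom.hom.comp θ.appTop.hom,
      fun _ => rfl⟩
  have hFbij : Function.Bijective F := by
    haveI : IsIso θ.appTop := inferInstanceAs (IsIso (θ.app ⊤))
    have hb1 : Function.Bijective θ.appTop := ConcreteCategory.bijective_of_isIso θ.appTop
    have hb2 : Function.Bijective (Scheme.ΓSpecIso (CommRingCat.of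
        (MonoidAlgebra Γ(T'.left, ⊤) (Multiplicative M)))).hom :=
      ConcreteCategory.bijective_of_isIso _
    have : (F : _ → _) = fun z => (Scheme.ΓSpecIso (CommRingCat.of
        (MonoidAlgebra Γ(T'.left, ⊤) (Multiplicative M)))).hom (θ.appTop z) := funext hF
    rw [this]
    exact hb2.comp hb1
  have hFE : F.comp (E M T') = RingHom.id _ := by
    refine MonoidAlgebra.ringHom_ext (fun b => ?_) (fun m' => ?_)
    · rw [RingHom.comp_apply, E_single, map_one, _root_.mul_one, hF, RingHom.id_apply]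
      have e1 : θ.appTop (pb (snd (Magnet.AMonS S M) T') b) =
          (Spec.map (CommRingCat.ofHom (algebraMap Γ(T'.left, ⊤)
            (MonoidAlgebra Γ(T'.left, ⊤) (Multiplicative M))))).appTop (jY.appTop b) := by
        rw [← AG17.appTop_comp_apply, ← hθ2]
        exact AG17.appTop_comp_apply θ _ b
      have e2 : jY.appTop b = (Scheme.ΓSpecIso Γ(T'.left, ⊤)).inv b := by
        rw [hjY, isoSpec_inv_appTop']
      have e4 : (Spec.map (CommRingCat.ofHom (algebraMap Γ(T'.left, ⊤)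
            (MonoidAlgebra Γ(T'.left, ⊤) (Multiplicative M))))).appTop
            ((Scheme.ΓSpecIso Γ(T'.left, ⊤)).inv b) =
          (Scheme.ΓSpecIso (CommRingCat.of
            (MonoidAlgebra Γ(T'.left, ⊤) (Multiplicative M)))).inv
            ((CommRingCat.ofHom (algebraMap Γ(T'.left, ⊤)
              (MonoidAlgebra Γ(T'.left, ⊤) (Multiplicative M)))) b) :=
        specMap_appTop_inv (R := Γ(T'.left, ⊤)) (CommRingCat.ofHom (algebraMap Γ(T'.left, ⊤)
            (MonoidAlgebra Γ(T'.left, ⊤) (Multiplicative M)))) b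
      rw [e1, e2, e4]
      have e3 : (Scheme.ΓSpecIso (CommRingCat.of
          (MonoidAlgebra Γ(T'.left, ⊤) (Multiplicative M)))).hom
          ((Scheme.ΓSpecIso (CommRingCat.of
            (MonoidAlgebra Γ(T'.left, ⊤) (Multiplicative M)))).inv
            ((CommRingCat.ofHom (algebraMap Γ(T'.left, ⊤)
              (MonoidAlgebra Γ(T'.left, ⊤) (Multiplicative M)))) b)) =
          (CommRingCat.ofHom (algebraMap Γ(T'.left, ⊤)
              (MonoidAlgebra Γ(T'.left, ⊤) (Multiplicative M)))) b :=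
        Iso.inv_hom_id_apply _ _
      rw [e3]
      rfl
    · obtain ⟨m, rfl⟩ : ∃ m, Multiplicative.ofAdd m = m' := ⟨Multiplicative.toAdd m', rfl⟩
      rw [RingHom.comp_apply, E_single, map_one, _root_.one_mul, hF, RingHom.id_apply,
        charOfPt_apply]
      have e1 : θ.appTop ((specPt (fst (Magnet.AMonS S M) T')).appTop
          ((coordIso M).inv (mono m))) =
          (Spec.map (CommRingCat.ofHom (algebraMap (Coord.{u} M)
            (MonoidAlgebra Γ(T'.left, ⊤) (Multiplicative M))))).appTop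
            ((coordIso M).inv (mono m)) := by
        rw [← AG17.appTop_comp_apply, hθ1]
      rw [e1, specMap_appTop_inv]
      have e3 : (Scheme.ΓSpecIso (CommRingCat.of
          (MonoidAlgebra Γ(T'.left, ⊤) (Multiplicative M)))).hom
          ((Scheme.ΓSpecIso (CommRingCat.of
            (MonoidAlgebra Γ(T'.left, ⊤) (Multiplicative M)))).inv
            ((CommRingCat.ofHom (algebraMap (Coord.{u} M)
              (MonoidAlgebra Γ(T'.left, ⊤) (Multiplicative M)))) (mono m))) =
          (CommRingCat.ofHom (algebraMap (Coord.{u} M)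
              (MonoidAlgebra Γ(T'.left, ⊤) (Multiplicative M)))) (mono m) :=
        Iso.inv_hom_id_apply _ _
      rw [e3]
      show (algebraMap (Coord.{u} M) (MonoidAlgebra Γ(T'.left, ⊤) (Multiplicative M))) (mono m) = _
      rw [MonoidAlgebra.algebraMap_def, MonoidAlgebra.mapRingHom_single, map_one]
  have hFE' : ∀ c, F (E M T' c) = c := fun c => DFunLike.congr_fun hFE c
  refine ⟨fun c c' h => ?_, fun z => ⟨F z, hFbij.1 ?_⟩⟩
  · rw [← hFE' c, h, hFE']
  · rw [hFE']

end Bij

end Groth.Agent.Helper17.AG24
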