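import Mathlib
import Groth.Prelude.Def_GmPts
import Groth.Prelude.Def_Magnet4
import Groth.Agent.Lib.Helper17.AG9
import Groth.Agent.Lib.Helper17.AG24

/-!
# Change of monoid for attractors of schemes affine over the base: local existence (helper17)

For `T` affine and `X → S` affine: if the orbit map of `x : T → X` restricted to `A(Z) × T`
factors through `A(Y) × T`, then the orbit map factors through `A(f⁻¹Y) × T`
(homogeneous components of functions).
-/

set_option autoImplicit false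
universe u
open CategoryTheory CategoryTheory.Limits MonoidalCategory CartesianMonoidalCategory MonObj AlgebraicGeometry Opposite

noncomputable section
namespace Groth.Agent.Helper17.AG25
open Groth.Agent.Helper17.AG14 Groth.Agent.Helper17.AG15 Groth.Agent.Helper17.AG24

section Abstract
universe v₁ u₁
variable {C : Type u₁} [Category.{v₁} C] [CartesianMonoidalCategory C]

theorem abstract_orbit_eq {G X T : C} [MonObj G] (a : Magnet.MonAct G X) (x : T ⟶ X) :
    (G ◁ lift ((G ◁ x) ≫ a.act) (snd G T)) ≫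
        lift ((G ◁ fst X T) ≫ a.act) (snd G (X ⊗ T) ≫ snd X T) =
      lift (fst G (G ⊗ T) * (snd G (G ⊗ T) ≫ fst G T)) (snd G (G ⊗ T) ≫ snd G T) ≫
        lift ((G ◁ x) ≫ a.act) (snd G T) := by
  apply Magnet.hom_ext_lift₂
  intro W g z
  obtain ⟨h, t, rfl⟩ : ∃ (h : W ⟶ G) (t : W ⟶ T), z = lift h t :=
    ⟨_, _, (lift_comp_fst_snd z).symm⟩
  simp only [comp_lift, comp_lift_assoc, lift_whiskerLeft_assoc, lift_fst,
    lift_snd, lift_snd_assoc, Category.assoc, Magnet.MonAct.lift_mul_act]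

theorem abstract_Y_eq {G G' AY X T : C} [MonObj G] [MonObj G'] (a : Magnet.MonAct G X)
    (φ : G' ⟶ G) [IsMonHom φ] (rY : G' ⟶ AY) (x : T ⟶ X) (ψ : AY ⊗ T ⟶ X)
    (hψ : (rY ▷ T) ≫ ψ = lift (fst G' T) (snd G' T ≫ x) ≫ (a.restrict φ).act) :
    (φ ▷ T) ≫ lift ((G ◁ x) ≫ a.act) (snd G T) = (rY ▷ T) ≫ lift ψ (snd AY T) := by
  apply CartesianMonoidalCategory.hom_ext
  · rw [Category.assoc, lift_fst, Category.assoc, lift_fst, hψ, Magnet.MonAct.lift_restrict_act,
      ← Category.assoc]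
    congr 1
    apply CartesianMonoidalCategory.hom_ext <;> simp
  · rw [Category.assoc, lift_snd, Category.assoc, lift_snd, whiskerRight_snd, whiskerRight_snd]

end Abstract

variable {S : Scheme.{u}}

theorem toMult_subtype_injective {M : Type} [AddCommMonoid M] (N : AddSubmonoid M) :
    Function.Injective (AddMonoidHom.toMultiplicative N.subtype) := fun _ _ h =>
  Multiplicative.toAdd.injective (Subtype.ext (congrArg Multiplicative.toAdd h))

theorem local_exists {M Z : Type} [AddCommMonoid M] [AddCommMonoid Z] (f : M →+ Z)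
    (Y : AddSubmonoid Z) {X : Over S} [IsAffineHom X.hom]
    (a : Magnet.MonAct (Magnet.AMonS S M) X) (T : Over S) [IsAffine T.left]
    (x : T ⟶ X) (ψ : Magnet.AMonS S ↥Y ⊗ T ⟶ X)
    (hψ : (Magnet.AMonS.map S Y.subtype ▷ T) ≫ ψ =
      lift (fst (Magnet.AMonS S Z) T) (snd (Magnet.AMonS S Z) T ≫ x) ≫
        (a.restrict (Magnet.AMonS.map S f)).act) :
    ∃ φ : Magnet.AMonS S ↥(Y.comap f) ⊗ T ⟶ X,
      (Magnet.AMonS.map S (Y.comap f).subtype ▷ T) ≫ φ = (Magnet.AMonS S M ◁ x) ≫ a.act := by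
  haveI hP : IsAffine (Magnet.AMonS S M ⊗ T).left := AG22.isAffine_tensor_left M T
  haveI hPZ : IsAffine (Magnet.AMonS S Z ⊗ T).left := AG22.isAffine_tensor_left Z T
  haveI hPY : IsAffine (Magnet.AMonS S ↥Y ⊗ T).left := AG22.isAffine_tensor_left ↥Y T
  haveI hPN : IsAffine (Magnet.AMonS S ↥(Y.comap f) ⊗ T).left :=
    AG22.isAffine_tensor_left ↥(Y.comap f) T
  haveI hXT : IsAffine (X ⊗ T).left := by
    show IsAffine (pullback X.hom T.hom)
    infer_instance
  haveI hQ : IsAffine (Magnet.AMonS S M ⊗ (Magnet.AMonS S M ⊗ T)).left :=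
    AG22.isAffine_tensor_left M (Magnet.AMonS S M ⊗ T)
  haveI hAX : IsAffine (Magnet.AMonS S M ⊗ (X ⊗ T)).left :=
    AG22.isAffine_tensor_left M (X ⊗ T)
  obtain ⟨õ, hõ⟩ : ∃ õ : Magnet.AMonS S M ⊗ T ⟶ X ⊗ T,
      õ = lift ((Magnet.AMonS S M ◁ x) ≫ a.act) (snd (Magnet.AMonS S M) T) := ⟨_, rfl⟩
  obtain ⟨aT, haT⟩ : ∃ aT : Magnet.AMonS S M ⊗ (X ⊗ T) ⟶ X ⊗ T,
      aT = lift ((Magnet.AMonS S M ◁ fst X T) ≫ a.act)
        (snd (Magnet.AMonS S M) (X ⊗ T) ≫ snd X T) := ⟨_, rfl⟩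
  have hu : (Magnet.AMonS S M ◁ õ) ≫ aT = mulT M T ≫ õ := by
    rw [hõ, haT]
    exact abstract_orbit_eq a x
  obtain ⟨ψT, hψT⟩ : ∃ ψT : Magnet.AMonS S ↥Y ⊗ T ⟶ X ⊗ T,
      ψT = lift ψ (snd (Magnet.AMonS S ↥Y) T) := ⟨_, rfl⟩
  have hY : (Magnet.AMonS.map S f ▷ T) ≫ õ = (Magnet.AMonS.map S Y.subtype ▷ T) ≫ ψT := by
    rw [hõ, hψT]
    exact abstract_Y_eq a (Magnet.AMonS.map S f) (Magnet.AMonS.map S Y.subtype) x ψ hψ
  have bT := E_bijective (M := M) T
  have bP := E_bijective (M := M) (Magnet.AMonS S M ⊗ T)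
  have bX := E_bijective (M := M) (X ⊗ T)
  have bZ := E_bijective (M := Z) T
  have bY := E_bijective (M := ↥Y) T
  have bN := E_bijective (M := ↥(Y.comap f)) T
  have hK : ∀ (r : Γ((X ⊗ T).left, ⊤)) (c : MonoidAlgebra Γ(T.left, ⊤) (Multiplicative M))
      (s : MonoidAlgebra Γ((X ⊗ T).left, ⊤) (Multiplicative M)),
      E M T c = pb õ r → E M (X ⊗ T) s = pb aT r →
        ∀ g, pb õ (s.coeff g) = E M T (MonoidAlgebra.single g (c.coeff g)) := by
    intro r c s hc hs g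
    exact alg_K (E M T) (E M (Magnet.AMonS S M ⊗ T)) (E M (X ⊗ T)) (pb õ) (pb aT)
      (pb (Magnet.AMonS S M ◁ õ)) (pb (mulT M T))
      (fun r => by rw [← pb_comp_apply, ← pb_comp_apply, hu])
      (fun s => E_whiskerLeft õ s) (fun g b => E_mulT T g b) bP.1 r c s hc hs g
  have hsupp : ∀ (r : Γ((X ⊗ T).left, ⊤)) (c : MonoidAlgebra Γ(T.left, ⊤) (Multiplicative M)),
      E M T c = pb õ r → ∀ g, c.coeff g ≠ 0 →
        ∃ k : Multiplicative ↥(Y.comap f),
          AddMonoidHom.toMultiplicative (Y.comap f).subtype k = g := by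
    intro r c hc g hg
    obtain ⟨s, hs⟩ := bX.2 (pb aT r)
    have h1 := hK r c s hc hs g
    have h2 : pb (Magnet.AMonS.map S Y.subtype ▷ T) (pb ψT (s.coeff g)) =
        pb (Magnet.AMonS.map S f ▷ T) (E M T (MonoidAlgebra.single g (c.coeff g))) := by
      rw [← h1, ← pb_comp_apply, ← pb_comp_apply, hY]
    rcases alg_Y (AddMonoidHom.toMultiplicative f) (AddMonoidHom.toMultiplicative Y.subtype)
      (E M T) (E Z T) (E ↥Y T) (pb (Magnet.AMonS.map S f ▷ T))
      (pb (Magnet.AMonS.map S Y.subtype ▷ T))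
      (fun g b => by rw [E_map, MonoidAlgebra.mapDomain_single])
      (fun c => E_map Y.subtype T c) bZ.1 bY.2 g (c.coeff g) _ h2 with h0 | ⟨k, hk⟩
    · exact absurd h0 hg
    · have h3 : ((Multiplicative.toAdd k : ↥Y) : Z) = f (Multiplicative.toAdd g) :=
        congrArg Multiplicative.toAdd hk
      have h4 : Multiplicative.toAdd g ∈ Y.comap f := by
        show f (Multiplicative.toAdd g) ∈ Y
        rw [← h3]
        exact (Multiplicative.toAdd k).2
      exact ⟨Multiplicative.ofAdd ⟨Multiplicative.toAdd g, h4⟩, rfl⟩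
  have hrange : ∀ r : Γ((X ⊗ T).left, ⊤),
      ∃ y, pb (Magnet.AMonS.map S (Y.comap f).subtype ▷ T) y = pb õ r := by
    intro r
    obtain ⟨c, hc⟩ := bT.2 (pb õ r)
    obtain ⟨c₀, hc₀⟩ := alg_N (AddMonoidHom.toMultiplicative (Y.comap f).subtype)
      (toMult_subtype_injective (Y.comap f)) c (hsupp r c hc)
    refine ⟨E ↥(Y.comap f) T c₀, ?_⟩
    rw [E_map, hc₀, hc]
  have hinj : Function.Injective (pb (Magnet.AMonS.map S (Y.comap f).subtype ▷ T)) := by
    intro y₁ y₂ h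
    obtain ⟨c₁, rfl⟩ := bN.2 y₁
    obtain ⟨c₂, rfl⟩ := bN.2 y₂
    rw [E_map, E_map] at h
    rw [MonoidAlgebra.mapDomain_injective (toMult_subtype_injective (Y.comap f)) (bT.1 h)]
  obtain ⟨φl, hφl⟩ := affine_factor (Magnet.AMonS.map S (Y.comap f).subtype ▷ T).left õ.left
    hinj hrange
  have e1 : õ ≫ snd X T = snd (Magnet.AMonS S M) T := by rw [hõ, lift_snd]
  have e2 : (Magnet.AMonS.map S (Y.comap f).subtype ▷ T) ≫ snd (Magnet.AMonS S ↥(Y.comap f)) T =
      snd (Magnet.AMonS S M) T := whiskerRight_snd _ _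
  have hsnd : φl ≫ (snd X T).left = (snd (Magnet.AMonS S ↥(Y.comap f)) T).left := by
    apply affine_cancel (Magnet.AMonS.map S (Y.comap f).subtype ▷ T).left hinj
    calc (Magnet.AMonS.map S (Y.comap f).subtype ▷ T).left ≫ φl ≫ (snd X T).left
        = ((Magnet.AMonS.map S (Y.comap f).subtype ▷ T).left ≫ φl) ≫ (snd X T).left :=
          (Category.assoc _ _ _).symm
      _ = õ.left ≫ (snd X T).left := by rw [hφl]
      _ = (õ ≫ snd X T).left := rfl
      _ = (snd (Magnet.AMonS S M) T).left := by rw [e1]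
      _ = ((Magnet.AMonS.map S (Y.comap f).subtype ▷ T) ≫
            snd (Magnet.AMonS S ↥(Y.comap f)) T).left := by rw [e2]
      _ = (Magnet.AMonS.map S (Y.comap f).subtype ▷ T).left ≫
            (snd (Magnet.AMonS S ↥(Y.comap f)) T).left := rfl
  have w : φl ≫ (X ⊗ T).hom = (Magnet.AMonS S ↥(Y.comap f) ⊗ T).hom := by
    rw [← Over.w (snd X T), ← Category.assoc, hsnd, Over.w]
  have e3 : (Magnet.AMonS.map S (Y.comap f).subtype ▷ T) ≫ Over.homMk φl w = õ := by
    apply Over.OverMorphism.ext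
    exact hφl
  refine ⟨Over.homMk φl w ≫ fst X T, ?_⟩
  rw [← Category.assoc, e3, hõ, lift_fst]

end Groth.Agent.Helper17.AG25
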