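import Mathlib
import Groth.Prelude.Def_GmPts
import Groth.Prelude.Def_Magnet4
import Groth.Agent.Lib.Helper17.AG9
import Groth.Agent.Lib.Helper17.AG21
import Groth.Agent.Lib.Helper17.AG22
import Groth.Agent.Lib.Helper17.AG25

/-!
# Change of monoid for attractors of schemes affine over the base (helper17)

Gluing of morphisms `P × T → X` along an open cover of `T`, and the isomorphism
`X^{f⁻¹Y ⊂ M} → X^{Y ⊂ Z}` for `X → S` affine.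
-/

set_option autoImplicit false
universe u
open CategoryTheory CategoryTheory.Limits MonoidalCategory CartesianMonoidalCategory MonObj AlgebraicGeometry Opposite

noncomputable section
namespace Groth.Agent.Helper17.AG26

/-! ### abstract part -/
section Abstract
universe v₁ u₁
variable {C : Type u₁} [Category.{v₁} C] [CartesianMonoidalCategory C]

theorem abstract_restrict_hyp {G' AY X T T' : C} (rY : G' ⟶ AY) (ψ : AY ⊗ T ⟶ X)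
    (k : G' ⊗ X ⟶ X) (x : T ⟶ X) (j : T' ⟶ T)
    (hψ : (rY ▷ T) ≫ ψ = lift (fst G' T) (snd G' T ≫ x) ≫ k) :
    (rY ▷ T') ≫ (AY ◁ j) ≫ ψ = lift (fst G' T') (snd G' T' ≫ j ≫ x) ≫ k := by
  calc (rY ▷ T') ≫ (AY ◁ j) ≫ ψ = ((rY ▷ T') ≫ (AY ◁ j)) ≫ ψ := (Category.assoc _ _ _).symm
    _ = ((G' ◁ j) ≫ (rY ▷ T)) ≫ ψ := by rw [whisker_exchange]
    _ = (G' ◁ j) ≫ (rY ▷ T) ≫ ψ := Category.assoc _ _ _
    _ = (G' ◁ j) ≫ lift (fst G' T) (snd G' T ≫ x) ≫ k := by rw [hψ]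
    _ = ((G' ◁ j) ≫ lift (fst G' T) (snd G' T ≫ x)) ≫ k := (Category.assoc _ _ _).symm
    _ = lift (fst G' T') (snd G' T' ≫ j ≫ x) ≫ k := by
        congr 1
        apply CartesianMonoidalCategory.hom_ext <;> simp

theorem abstract_compat {G AN X T Ti Tj W : C} (π : G ⟶ AN) (k : G ⊗ X ⟶ X) (x : T ⟶ X)
    (ji : Ti ⟶ T) (jj : Tj ⟶ T) (φi : AN ⊗ Ti ⟶ X) (φj : AN ⊗ Tj ⟶ X)
    (hi : (π ▷ Ti) ≫ φi = (G ◁ (ji ≫ x)) ≫ k) (hj : (π ▷ Tj) ≫ φj = (G ◁ (jj ≫ x)) ≫ k)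
    (hcancel : ∀ u v : AN ⊗ W ⟶ X, (π ▷ W) ≫ u = (π ▷ W) ≫ v → u = v)
    (mi : W ⟶ AN ⊗ Ti) (mj : W ⟶ AN ⊗ Tj) (hm : mi ≫ (AN ◁ ji) = mj ≫ (AN ◁ jj)) :
    mi ≫ φi = mj ≫ φj := by
  have hp : mj ≫ fst AN Tj = mi ≫ fst AN Ti := by
    have h1 := congrArg (fun z => z ≫ fst AN T) hm
    simp only [Category.assoc, whiskerLeft_fst] at h1
    exact h1.symm
  have ht : (mi ≫ snd AN Ti) ≫ ji = (mj ≫ snd AN Tj) ≫ jj := by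
    have h1 := congrArg (fun z => z ≫ snd AN T) hm
    simp only [Category.assoc, whiskerLeft_snd] at h1
    simpa only [Category.assoc] using h1
  have key : ∀ {T₀ : C} (j₀ : T₀ ⟶ T) (φ₀ : AN ⊗ T₀ ⟶ X)
      (_ : (π ▷ T₀) ≫ φ₀ = (G ◁ (j₀ ≫ x)) ≫ k) (t₀ : W ⟶ T₀),
      (π ▷ W) ≫ (AN ◁ t₀) ≫ φ₀ = (G ◁ (t₀ ≫ j₀ ≫ x)) ≫ k := by
    intro T₀ j₀ φ₀ h₀ t₀
    calc (π ▷ W) ≫ (AN ◁ t₀) ≫ φ₀ = ((π ▷ W) ≫ (AN ◁ t₀)) ≫ φ₀ := (Category.assoc _ _ _).symm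
      _ = ((G ◁ t₀) ≫ (π ▷ T₀)) ≫ φ₀ := by rw [whisker_exchange]
      _ = (G ◁ t₀) ≫ (π ▷ T₀) ≫ φ₀ := Category.assoc _ _ _
      _ = (G ◁ t₀) ≫ (G ◁ (j₀ ≫ x)) ≫ k := by rw [h₀]
      _ = (G ◁ (t₀ ≫ j₀ ≫ x)) ≫ k := by
          rw [← Category.assoc, ← MonoidalCategory.whiskerLeft_comp]
  have huv : (AN ◁ (mi ≫ snd AN Ti)) ≫ φi = (AN ◁ (mj ≫ snd AN Tj)) ≫ φj := by
    apply hcancel
    rw [key ji φi hi, key jj φj hj]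
    have : (mi ≫ snd AN Ti) ≫ ji ≫ x = (mj ≫ snd AN Tj) ≫ jj ≫ x := by
      rw [← Category.assoc, ht, Category.assoc]
    rw [this]
  have e1 : mi = lift (mi ≫ fst AN Ti) (𝟙 W) ≫ (AN ◁ (mi ≫ snd AN Ti)) := by
    rw [lift_whiskerLeft, Category.id_comp, lift_comp_fst_snd]
  have e2 : mj = lift (mi ≫ fst AN Ti) (𝟙 W) ≫ (AN ◁ (mj ≫ snd AN Tj)) := by
    rw [lift_whiskerLeft, Category.id_comp, ← hp, lift_comp_fst_snd]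
  calc mi ≫ φi = (lift (mi ≫ fst AN Ti) (𝟙 W) ≫ (AN ◁ (mi ≫ snd AN Ti))) ≫ φi := by rw [← e1]
    _ = lift (mi ≫ fst AN Ti) (𝟙 W) ≫ (AN ◁ (mi ≫ snd AN Ti)) ≫ φi := Category.assoc _ _ _
    _ = lift (mi ≫ fst AN Ti) (𝟙 W) ≫ (AN ◁ (mj ≫ snd AN Tj)) ≫ φj := by rw [huv]
    _ = (lift (mi ≫ fst AN Ti) (𝟙 W) ≫ (AN ◁ (mj ≫ snd AN Tj))) ≫ φj :=
        (Category.assoc _ _ _).symm
    _ = mj ≫ φj := by rw [← e2]

theorem abstract_final {G AN X T Ti : C} (π : G ⟶ AN) (k : G ⊗ X ⟶ X) (x : T ⟶ X)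
    (ji : Ti ⟶ T) (φi : AN ⊗ Ti ⟶ X) (Φ : AN ⊗ T ⟶ X)
    (hi : (π ▷ Ti) ≫ φi = (G ◁ (ji ≫ x)) ≫ k) (hΦ : (AN ◁ ji) ≫ Φ = φi) :
    (G ◁ ji) ≫ (π ▷ T) ≫ Φ = (G ◁ ji) ≫ (G ◁ x) ≫ k := by
  calc (G ◁ ji) ≫ (π ▷ T) ≫ Φ = ((G ◁ ji) ≫ (π ▷ T)) ≫ Φ := (Category.assoc _ _ _).symm
    _ = ((π ▷ Ti) ≫ (AN ◁ ji)) ≫ Φ := by rw [whisker_exchange]
    _ = (π ▷ Ti) ≫ (AN ◁ ji) ≫ Φ := Category.assoc _ _ _
    _ = (π ▷ Ti) ≫ φi := by rw [hΦ]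
    _ = (G ◁ (ji ≫ x)) ≫ k := hi
    _ = (G ◁ ji) ≫ (G ◁ x) ≫ k := by
        rw [MonoidalCategory.whiskerLeft_comp, Category.assoc]

theorem abstract_orbit_eqv {G X T : C} [MonObj G] (a : Magnet.MonAct G X) (x : T ⟶ X) {W : C}
    (g p : W ⟶ G) (t : W ⟶ T) :
    lift ((g ≫ 𝟙 G) * p) t ≫ (G ◁ x) ≫ a.act =
      lift g (lift p t ≫ (G ◁ x) ≫ a.act) ≫ a.act := by
  rw [Category.comp_id, lift_whiskerLeft_assoc, lift_whiskerLeft_assoc,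
    Magnet.MonAct.lift_mul_act]

theorem abstract_eval {G AN X T : C} [MonObj G] [MonObj AN] (a : Magnet.MonAct G X) (π : G ⟶ AN)
    [IsMonHom π] (x : T ⟶ X) (φ₀ : AN ⊗ T ⟶ X) (h : (π ▷ T) ≫ φ₀ = (G ◁ x) ≫ a.act) :
    lift (toUnit T ≫ η[AN]) (𝟙 T) ≫ φ₀ = x := by
  calc lift (toUnit T ≫ η[AN]) (𝟙 T) ≫ φ₀
      = lift ((toUnit T ≫ η[G]) ≫ π) (𝟙 T) ≫ φ₀ := by rw [Category.assoc, IsMonHom.one_hom]
    _ = lift (toUnit T ≫ η[G]) (𝟙 T) ≫ (π ▷ T) ≫ φ₀ := by rw [lift_whiskerRight_assoc]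
    _ = lift (toUnit T ≫ η[G]) (𝟙 T) ≫ (G ◁ x) ≫ a.act := by rw [h]
    _ = lift (1 : T ⟶ G) x ≫ a.act := by
        rw [lift_whiskerLeft_assoc, Category.id_comp, ← Hom.one_def]
    _ = x := a.lift_one_act x

end Abstract

variable {S : Scheme.{u}}

/-! ### gluing along an open cover of `T` -/
section Glue
variable {T : Over S} (𝒰 : Scheme.OpenCover.{u} T.left)

/-- members of the cover, over `S` -/
abbrev Ti (i : 𝒰.I₀) : Over S := Over.mk (𝒰.f i ≫ T.hom)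

/-- the inclusions -/
abbrev inc (i : 𝒰.I₀) : Ti 𝒰 i ⟶ T := Over.homMk (𝒰.f i) rfl

/-- the induced cover of `P × T` -/
abbrev Vc (P : Over S) : Scheme.OpenCover.{u} (P ⊗ T).left := 𝒰.pullback₁ (snd P T).left

abbrev Vi (P : Over S) (i : 𝒰.I₀) : Over S := Over.mk ((Vc 𝒰 P).f i ≫ (P ⊗ T).hom)

abbrev vi (P : Over S) (i : 𝒰.I₀) : Vi 𝒰 P i ⟶ P ⊗ T := Over.homMk ((Vc 𝒰 P).f i) rfl

def si (P : Over S) (i : 𝒰.I₀) : Vi 𝒰 P i ⟶ Ti 𝒰 i :=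
  Over.homMk (𝒰.pullbackHom (snd P T).left i) (by
    show 𝒰.pullbackHom (snd P T).left i ≫ 𝒰.f i ≫ T.hom = (Vc 𝒰 P).f i ≫ (P ⊗ T).hom
    rw [← Category.assoc, Scheme.Cover.pullbackHom_map, Category.assoc, Over.w])

theorem si_inc (P : Over S) (i : 𝒰.I₀) : si 𝒰 P i ≫ inc 𝒰 i = vi 𝒰 P i ≫ snd P T :=
  Over.OverMorphism.ext (Scheme.Cover.pullbackHom_map 𝒰 (snd P T).left i)

def thetaI (P : Over S) (i : 𝒰.I₀) : Vi 𝒰 P i ⟶ P ⊗ Ti 𝒰 i :=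
  lift (vi 𝒰 P i ≫ fst P T) (si 𝒰 P i)

theorem thetaI_whisker (P : Over S) (i : 𝒰.I₀) :
    thetaI 𝒰 P i ≫ (P ◁ inc 𝒰 i) = vi 𝒰 P i := by
  rw [thetaI, lift_whiskerLeft, si_inc, ← comp_lift, lift_fst_snd, Category.comp_id]

theorem glue_ext {P X : Over S} (u v : P ⊗ T ⟶ X)
    (h : ∀ i, (P ◁ inc 𝒰 i) ≫ u = (P ◁ inc 𝒰 i) ≫ v) : u = v := by
  apply Over.OverMorphism.ext
  apply (Vc 𝒰 P).hom_ext
  intro i
  have h1 : vi 𝒰 P i ≫ u = vi 𝒰 P i ≫ v := by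
    rw [← thetaI_whisker, Category.assoc, Category.assoc, h]
  exact congrArg (fun k => k.left) h1

theorem glue_exists {P X : Over S} (φ : ∀ i, P ⊗ Ti 𝒰 i ⟶ X)
    (hφ : ∀ (i j : 𝒰.I₀) (W : Over S) (mi : W ⟶ P ⊗ Ti 𝒰 i) (mj : W ⟶ P ⊗ Ti 𝒰 j),
      mi ≫ (P ◁ inc 𝒰 i) = mj ≫ (P ◁ inc 𝒰 j) → mi ≫ φ i = mj ≫ φ j) :
    ∃ Φ : P ⊗ T ⟶ X, ∀ i, (P ◁ inc 𝒰 i) ≫ Φ = φ i := by
  have hcompat : ∀ i j, pullback.fst ((Vc 𝒰 P).f i) ((Vc 𝒰 P).f j) ≫ (thetaI 𝒰 P i ≫ φ i).left =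
      pullback.snd ((Vc 𝒰 P).f i) ((Vc 𝒰 P).f j) ≫ (thetaI 𝒰 P j ≫ φ j).left := by
    intro i j
    obtain ⟨W, hW⟩ : ∃ W : Over S,
        W = Over.mk (pullback.fst ((Vc 𝒰 P).f i) ((Vc 𝒰 P).f j) ≫ (Vi 𝒰 P i).hom) := ⟨_, rfl⟩
    subst hW
    let πi : Over.mk (pullback.fst ((Vc 𝒰 P).f i) ((Vc 𝒰 P).f j) ≫ (Vi 𝒰 P i).hom) ⟶ Vi 𝒰 P i :=
      Over.homMk (pullback.fst _ _) rfl
    let πj : Over.mk (pullback.fst ((Vc 𝒰 P).f i) ((Vc 𝒰 P).f j) ≫ (Vi 𝒰 P i).hom) ⟶ Vi 𝒰 P j :=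
      Over.homMk (pullback.snd _ _) (by
        show pullback.snd _ _ ≫ (Vc 𝒰 P).f j ≫ (P ⊗ T).hom =
          pullback.fst _ _ ≫ (Vc 𝒰 P).f i ≫ (P ⊗ T).hom
        rw [← Category.assoc, ← pullback.condition, Category.assoc])
    have h1 : πi ≫ vi 𝒰 P i = πj ≫ vi 𝒰 P j := Over.OverMorphism.ext pullback.condition
    have h2 := hφ i j _ (πi ≫ thetaI 𝒰 P i) (πj ≫ thetaI 𝒰 P j) (by
      rw [Category.assoc, Category.assoc, thetaI_whisker, thetaI_whisker, h1])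
    rw [Category.assoc, Category.assoc] at h2
    exact congrArg (fun k => k.left) h2
  obtain ⟨gl, hgl⟩ : ∃ gl : (P ⊗ T).left ⟶ X.left,
      ∀ i, (Vc 𝒰 P).f i ≫ gl = (thetaI 𝒰 P i ≫ φ i).left :=
    ⟨(Vc 𝒰 P).glueMorphisms (fun i => (thetaI 𝒰 P i ≫ φ i).left) hcompat,
      fun i => Scheme.Cover.ι_glueMorphisms _ _ _ i⟩
  have hw : gl ≫ X.hom = (P ⊗ T).hom := by
    apply (Vc 𝒰 P).hom_ext
    intro i
    rw [← Category.assoc, hgl, Over.w]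
    rfl
  refine ⟨Over.homMk gl hw, fun i => ?_⟩
  have h1 : vi 𝒰 P i ≫ Over.homMk gl hw = thetaI 𝒰 P i ≫ φ i := Over.OverMorphism.ext (hgl i)
  have hcond : (P ◁ inc 𝒰 i).left ≫ (snd P T).left = (snd P (Ti 𝒰 i)).left ≫ 𝒰.f i :=
    congrArg (fun k => k.left) (whiskerLeft_snd P (inc 𝒰 i))
  obtain ⟨σl, hσl1, hσl2⟩ : ∃ σl : (P ⊗ Ti 𝒰 i).left ⟶ (Vc 𝒰 P).X i,
      σl ≫ (Vc 𝒰 P).f i = (P ◁ inc 𝒰 i).left ∧
      σl ≫ 𝒰.pullbackHom (snd P T).left i = (snd P (Ti 𝒰 i)).left :=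
    ⟨pullback.lift (P ◁ inc 𝒰 i).left (snd P (Ti 𝒰 i)).left hcond,
      pullback.lift_fst _ _ _, pullback.lift_snd _ _ _⟩
  obtain ⟨σ, hσ⟩ : ∃ σ : P ⊗ Ti 𝒰 i ⟶ Vi 𝒰 P i, σ.left = σl :=
    ⟨Over.homMk σl (by
      show σl ≫ (Vc 𝒰 P).f i ≫ (P ⊗ T).hom = (P ⊗ Ti 𝒰 i).hom
      rw [← Category.assoc, hσl1, Over.w]), rfl⟩
  have hσv : σ ≫ vi 𝒰 P i = P ◁ inc 𝒰 i := by
    apply Over.OverMorphism.ext
    show σ.left ≫ (Vc 𝒰 P).f i = _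
    rw [hσ, hσl1]
  have hσs : σ ≫ si 𝒰 P i = snd P (Ti 𝒰 i) := by
    apply Over.OverMorphism.ext
    show σ.left ≫ 𝒰.pullbackHom (snd P T).left i = _
    rw [hσ, hσl2]
  have hσθ : σ ≫ thetaI 𝒰 P i = 𝟙 _ := by
    rw [thetaI, comp_lift, ← Category.assoc, hσv, hσs, whiskerLeft_fst, lift_fst_snd]
  calc (P ◁ inc 𝒰 i) ≫ Over.homMk gl hw = (σ ≫ vi 𝒰 P i) ≫ Over.homMk gl hw := by rw [hσv]
    _ = σ ≫ thetaI 𝒰 P i ≫ φ i := by rw [Category.assoc, h1]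
    _ = φ i := by rw [← Category.assoc, hσθ, Category.id_comp]

end Glue

/-! ### the global statement -/
section Main
variable {M Z : Type} [AddCommMonoid M] [AddCommMonoid Z] (f : M →+ Z) (Y : AddSubmonoid Z)

theorem global_exists {X : Over S} [IsAffineHom X.hom]
    (a : Magnet.MonAct (Magnet.AMonS S M) X) (T : Over S)
    (x : T ⟶ X) (ψ : Magnet.AMonS S ↥Y ⊗ T ⟶ X)
    (hψ : (Magnet.AMonS.map S Y.subtype ▷ T) ≫ ψ =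
      lift (fst (Magnet.AMonS S Z) T) (snd (Magnet.AMonS S Z) T ≫ x) ≫
        (a.restrict (Magnet.AMonS.map S f)).act) :
    ∃ φ : Magnet.AMonS S ↥(Y.comap f) ⊗ T ⟶ X,
      (Magnet.AMonS.map S (Y.comap f).subtype ▷ T) ≫ φ = (Magnet.AMonS S M ◁ x) ≫ a.act := by
  obtain ⟨𝒰, h𝒰⟩ : ∃ 𝒰 : Scheme.OpenCover.{u} T.left, ∀ i, IsAffine (𝒰.X i) :=
    ⟨T.left.affineCover, fun i => inferInstance⟩
  haveI : ∀ i, IsAffine (Ti 𝒰 i).left := fun i => h𝒰 i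
  have hloc : ∀ i, ∃ φi : Magnet.AMonS S ↥(Y.comap f) ⊗ Ti 𝒰 i ⟶ X,
      (Magnet.AMonS.map S (Y.comap f).subtype ▷ Ti 𝒰 i) ≫ φi =
        (Magnet.AMonS S M ◁ (inc 𝒰 i ≫ x)) ≫ a.act := fun i =>
    AG25.local_exists f Y a (Ti 𝒰 i) (inc 𝒰 i ≫ x) ((Magnet.AMonS S ↥Y ◁ inc 𝒰 i) ≫ ψ)
      (abstract_restrict_hyp (Magnet.AMonS.map S Y.subtype) ψ _ x (inc 𝒰 i) hψ)
  choose φi hφi using hloc
  obtain ⟨Φ, hΦ⟩ := glue_exists 𝒰 φi (fun i j W mi mj hm =>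
    abstract_compat (Magnet.AMonS.map S (Y.comap f).subtype) a.act x (inc 𝒰 i) (inc 𝒰 j)
      (φi i) (φi j) (hφi i) (hφi j)
      (fun u v h => AG9.ext_of_whiskerRight_map S (Y.comap f).subtype Subtype.val_injective
        W X u v h) mi mj hm)
  refine ⟨Φ, ?_⟩
  apply glue_ext 𝒰
  intro i
  exact abstract_final (Magnet.AMonS.map S (Y.comap f).subtype) a.act x (inc 𝒰 i) (φi i) Φ
    (hφi i) (hΦ i)

theorem attrToX_attrComap {X : Over S} (a : Magnet.MonAct (Magnet.AMonS S M) X) (T : Over S)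
    (φ : (Magnet.attr a (Y.comap f)).obj (op T)) :
    (Magnet.attrToX (a.restrict (Magnet.AMonS.map S f)) Y).app (op T)
        ((Magnet.attrComap a f Y).app (op T) φ) =
      (Magnet.attrToX a (Y.comap f)).app (op T) φ := by
  show lift (toUnit T ≫ η[Magnet.AMonS S ↥Y]) (𝟙 T) ≫
      ((Magnet.attrComap a f Y).app (op T) φ).1 =
    lift (toUnit T ≫ η[Magnet.AMonS S ↥(Y.comap f)]) (𝟙 T) ≫ φ.1
  rw [Magnet.attrComap_app_coe]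
  show lift (toUnit T ≫ η[Magnet.AMonS S ↥Y]) (𝟙 T) ≫
      (Magnet.AMonS.map S ((f.comp (Y.comap f).subtype).codRestrict Y (fun x => x.2)) ▷ T) ≫ φ.1 = _
  rw [lift_whiskerRight_assoc, Category.assoc, IsMonHom.one_hom]

theorem bijective_app {X : Over S} [IsAffineHom X.hom]
    (a : Magnet.MonAct (Magnet.AMonS S M) X) (T : Over S) :
    Function.Bijective ((Magnet.attrComap a f Y).app (op T)) := by
  haveI : IsSeparated X.hom := inferInstance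
  constructor
  · intro φ φ' h
    apply AG9.attrToX_injective a (Y.comap f) T φ φ'
    rw [← attrToX_attrComap f Y a T φ, ← attrToX_attrComap f Y a T φ', h]
  · intro ψ
    obtain ⟨x, hx⟩ : ∃ x : T ⟶ X,
        x = (Magnet.attrToX (a.restrict (Magnet.AMonS.map S f)) Y).app (op T) ψ := ⟨_, rfl⟩
    have hψ := AG9.whisker_comp_eq_orbit (a.restrict (Magnet.AMonS.map S f)) Y T ψ
    rw [← hx] at hψ
    obtain ⟨φ₀, hφ₀⟩ := global_exists f Y a T x ψ.1 hψ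
    have heqv : Magnet.MonAct.IsEquivariant
        ((Magnet.subAct S M (Y.comap f)).prod (Magnet.MonAct.trivial (Magnet.AMonS S M) T)) a φ₀ :=
      (AG21.eqv_iff_pt (Y.comap f) a φ₀).mpr fun W g p t =>
        AG22.abstract_eqv_descend a (𝟙 (Magnet.AMonS S M))
          (Magnet.AMonS.map S (Y.comap f).subtype) (Magnet.AMonS.map S (Y.comap f).subtype)
          (Magnet.AMonS.map_isMonHom S _) (Category.id_comp _)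
          (fun u v h => AG9.ext_of_whiskerRight_map S (Y.comap f).subtype Subtype.val_injective
            (Magnet.AMonS S M ⊗ T) X u v h)
          ((Magnet.AMonS S M ◁ x) ≫ a.act) (fun g p t => abstract_orbit_eqv a x g p t)
          φ₀ hφ₀ g p t
    refine ⟨⟨φ₀, heqv⟩, ?_⟩
    apply AG9.attrToX_injective (a.restrict (Magnet.AMonS.map S f)) Y T
    rw [attrToX_attrComap, ← hx]
    exact abstract_eval a (Magnet.AMonS.map S (Y.comap f).subtype) x φ₀ hφ₀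

end Main

theorem main18287 (S : Scheme.{u}) (M Z : Type) [AddCommMonoid M] [AddCommMonoid Z]
    (f : M →+ Z) (Y : AddSubmonoid Z) (X : Over S) [IsAffineHom X.hom]
    (a : Magnet.MonAct (Magnet.AMonS S M) X) :
    IsIso (Magnet.attrComap a f Y) := by
  haveI : ∀ T : (Over S)ᵒᵖ, IsIso ((Magnet.attrComap a f Y).app T) := by
    intro T
    rw [isIso_iff_bijective]
    exact bijective_app f Y a (unop T)
  exact NatIso.isIso_of_isIso_app _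

end Groth.Agent.Helper17.AG26
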