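import Mathlib
import Groth.Prelude.Def_Magnet4
import Groth.Agent.Lib.Helper17.AG9
import Groth.Agent.Lib.Helper17.AG13

/-!
# Attractors and equivariant closed immersions, general target (helper17)

`Z^N = Z ×_Y Y^N` for an equivariant closed immersion `Z → Y` (no hypothesis on `Y`): the closed
subscheme `φ⁻¹(Z)` of `A(N) × T` receives the schematically dominant `A(M) × T → A(N) × T`.
-/

set_option autoImplicit false
universe u
open CategoryTheory Limits MonoidalCategory CartesianMonoidalCategory MonObj AlgebraicGeometry Opposite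
open Groth.Agent.Helper17.AG9 Groth.Agent.Helper17.AG13

noncomputable section
namespace Groth.Agent.Helper17.AG27

theorem isPullback_postcomp_of_isClosedImmersion (S : Scheme.{u}) (M : Type) [AddCommMonoid M]
    (N : AddSubmonoid M) (Y Z : Over S) (aY : Magnet.MonAct (Magnet.AMonS S M) Y)
    (aZ : Magnet.MonAct (Magnet.AMonS S M) Z) (f : Z ⟶ Y) [IsClosedImmersion f.left]
    (hf : Magnet.MonAct.IsEquivariant aZ aY f) :
    IsPullback (Magnet.MonAct.eqvHom.postcomp (Magnet.subAct S M N) f hf) (Magnet.attrToX aZ N)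
      (Magnet.attrToX aY N) (yoneda.map f) := by
  haveI hmono : Mono f := by
    haveI : Mono ((Over.forget S).map f) := by
      show Mono f.left
      infer_instance
    exact (Over.forget S).mono_of_mono_map inferInstance
  have hfe := (Magnet.MonAct.isEquivariant_iff aZ aY f).mp hf
  apply IsPullback.of_forall_isPullback_app
  intro T
  obtain ⟨T⟩ := T
  rw [Types.isPullback_iff]
  refine ⟨?_, ?_, ?_⟩
  · refine ConcreteCategory.hom_ext _ _ (fun ψ => ?_)
    show lift (toUnit T ≫ η[Magnet.AMonS S ↥N]) (𝟙 T) ≫ ψ.1 ≫ f =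
      (lift (toUnit T ≫ η[Magnet.AMonS S ↥N]) (𝟙 T) ≫ ψ.1) ≫ f
    rw [Category.assoc]
  · rintro ψ₁ ψ₂ ⟨h1, -⟩
    apply Subtype.ext
    have h2 : ψ₁.1 ≫ f = ψ₂.1 ≫ f := congrArg Subtype.val h1
    exact (cancel_mono f).mp h2
  · intro φ z hφz
    have hφ := (Magnet.MonAct.mem_eqvHom_iff φ.1).mp φ.2
    have hz : (Magnet.attrToX aY N).app (op T) φ = z ≫ f := hφz
    obtain ⟨o, ho⟩ : ∃ o : Magnet.AMonS S M ⊗ T ⟶ Z,
        o = lift (fst (Magnet.AMonS S M) T) (snd (Magnet.AMonS S M) T ≫ z) ≫ aZ.act := ⟨_, rfl⟩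
    have hw : (Magnet.AMonS.map S N.subtype ▷ T) ≫ φ.1 = o ≫ f := by
      rw [whisker_comp_eq_orbit aY N T φ, hz, ho, Category.assoc, hfe, Category.assoc]
    obtain ⟨e, he⟩ : ∃ e : pullback φ.1.left f.left ⟶ (Magnet.AMonS S ↥N ⊗ T).left,
        e = pullback.fst φ.1.left f.left := ⟨_, rfl⟩
    haveI : IsClosedImmersion e := by
      rw [he]
      infer_instance
    have hwl : (Magnet.AMonS.map S N.subtype ▷ T).left ≫ φ.1.left = o.left ≫ f.left := by
      rw [← Over.comp_left, ← Over.comp_left, hw]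
    haveI : IsIso e := isIso_closedImmersion_of_factors S N.subtype Subtype.val_injective T e
      (pullback.lift _ _ hwl) (by rw [he]; exact pullback.lift_fst _ _ _)
    obtain ⟨ψl, hψl⟩ : ∃ ψl : (Magnet.AMonS S ↥N ⊗ T).left ⟶ Z.left,
        ψl = inv e ≫ pullback.snd φ.1.left f.left := ⟨_, rfl⟩
    have hψf : ψl ≫ f.left = φ.1.left := by
      rw [hψl, Category.assoc, ← pullback.condition, ← he, IsIso.inv_hom_id_assoc]
    have hψw : ψl ≫ Z.hom = (Magnet.AMonS S ↥N ⊗ T).hom := by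
      rw [← Over.w f, ← Category.assoc, hψf, Over.w]
    obtain ⟨ψ, hψ⟩ : ∃ ψ : Magnet.AMonS S ↥N ⊗ T ⟶ Z, ψ = Over.homMk ψl hψw := ⟨_, rfl⟩
    have hψ_f : ψ ≫ f = φ.1 := by
      apply Over.OverMorphism.ext
      rw [Over.comp_left, hψ]
      exact hψf
    have heqv : Magnet.MonAct.IsEquivariant
        ((Magnet.subAct S M N).prod (Magnet.MonAct.trivial _ T)) aZ ψ := by
      rw [Magnet.MonAct.mem_eqvHom_iff]
      intro T' g b t
      rw [← cancel_mono f, Category.assoc, hψ_f, hφ T' g b t, Category.assoc, hfe,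
        Category.assoc, hψ_f]
    refine ⟨⟨ψ, heqv⟩, Subtype.ext hψ_f, ?_⟩
    show lift (toUnit T ≫ η[Magnet.AMonS S ↥N]) (𝟙 T) ≫ ψ = z
    rw [← cancel_mono f, Category.assoc, hψ_f]
    exact hφz

theorem main18236 (S : Scheme.{u}) (M : Type)
    [AddCommGroup M] [AddGroup.FG M] (N : AddSubmonoid M) (Z : AddSubgroup M)
    (hZ : ∀ m : M, m ∈ Z ↔ (m ∈ N ∧ -m ∈ N)) {X Y : Over S} [LocallyOfFinitePresentation X.hom]
    [LocallyOfFinitePresentation Y.hom] (aX : Magnet.MonAct (Magnet.AMonS S M) X)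
    (aY : Magnet.MonAct (Magnet.AMonS S M) Y) (f : X ⟶ Y) (hf : Magnet.MonAct.IsEquivariant aX aY f)
    [IsClosedImmersion f.left] (U : Over S) (aU : Magnet.MonAct (Magnet.AMonS S M) U) (g : U ⟶ Y)
    (hg : Magnet.MonAct.IsEquivariant aU aY g) [Etale g.left] [Surjective g.left]
    (J : Type u) (V : J → U.left.Opens) (hVd : ∀ i i', i ≠ i' → Disjoint (V i) (V i'))
    (hVc : ⨆ i, V i = ⊤) (hVa : ∀ i, IsAffineHom ((V i).ι ≫ U.hom))
    (hVs : ∀ i, (CartesianMonoidalCategory.snd (Magnet.AMonS S M) U).left ⁻¹ᵁ (V i) ≤ aU.act.left ⁻¹ᵁ (V i))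
    (hgZ : Magnet.MonAct.IsEquivariant (aU.restrict (Magnet.AMonS.map S (QuotientAddGroup.mk' Z))) (aY.restrict (Magnet.AMonS.map S (QuotientAddGroup.mk' Z))) g)
    (hfpr : IsPullback (Magnet.MonAct.fixedPsh.map g hgZ)
      (Magnet.MonAct.fixedPshι (aU.restrict (Magnet.AMonS.map S (QuotientAddGroup.mk' Z))))
      (Magnet.MonAct.fixedPshι (aY.restrict (Magnet.AMonS.map S (QuotientAddGroup.mk' Z)))) (yoneda.map g))
    (hc : N.FG ∨ IsSeparated X.hom) :
    IsPullback (Magnet.MonAct.eqvHom.postcomp (Magnet.subAct S M N) f hf) (Magnet.attrToX aX N)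
      (Magnet.attrToX aY N) (yoneda.map f) :=
  isPullback_postcomp_of_isClosedImmersion S M N Y X aY aX f hf

end Groth.Agent.Helper17.AG27
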