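import Mathlib

/-!
# Descent of ideals along flat ring maps (helper17)

* `key_lemma`: for a flat `A`-algebra `B` and an ideal `I'` of `B` which is *saturated* (for ring maps
  `ψ₁ ψ₂ : B → C` agreeing on `A`, `I' ≤ ker ψ₁ → I' ≤ ker ψ₂`), one has `I' ≤ (I' ∩ A) B`.
* `alg_descent`: a predicate `Q` on `A`-algebras which is stable under extension, satisfies descent
  along faithfully flat maps, and is represented by `B ⧸ I'` on `B`-algebras (for a faithfully flat
  `A`-algebra `B`), is represented by `A ⧸ (I' ∩ A)`.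
-/

set_option autoImplicit false
universe u
open TensorProduct

namespace Groth.Agent.Helper17.AG28

theorem key_lemma {A B : Type u} [CommRing A] [CommRing B] [Algebra A B] [Module.Flat A B]
    (I' : Ideal B)
    (hsat : ∀ (C : Type u) [CommRing C] (ψ₁ ψ₂ : B →+* C),
      ψ₁.comp (algebraMap A B) = ψ₂.comp (algebraMap A B) →
        I' ≤ RingHom.ker ψ₁ → I' ≤ RingHom.ker ψ₂) :
    I' ≤ (I'.comap (algebraMap A B)).map (algebraMap A B) := by
  intro b hb
  let ψ₁ : B →+* (B ⧸ I') ⊗[A] B :=
    (Algebra.TensorProduct.includeLeft (R := A) (S := A) (A := B ⧸ I') (B := B)).toRingHom.comp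
      (Ideal.Quotient.mk I')
  let ψ₂ : B →+* (B ⧸ I') ⊗[A] B :=
    (Algebra.TensorProduct.includeRight (R := A) (A := B ⧸ I') (B := B)).toRingHom
  have h12 : ψ₁.comp (algebraMap A B) = ψ₂.comp (algebraMap A B) := by
    ext a
    show ((Ideal.Quotient.mk I') (algebraMap A B a)) ⊗ₜ[A] (1 : B) =
      (1 : B ⧸ I') ⊗ₜ[A] (algebraMap A B a)
    have e1 : (Ideal.Quotient.mk I') (algebraMap A B a) = a • (1 : B ⧸ I') := by
      rw [Algebra.smul_def, mul_one]
      rfl
    rw [e1, Algebra.algebraMap_eq_smul_one (A := B), TensorProduct.smul_tmul]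
  have h1 : I' ≤ RingHom.ker ψ₁ := by
    intro x hx
    rw [RingHom.mem_ker]
    show ((Ideal.Quotient.mk I') x) ⊗ₜ[A] (1 : B) = 0
    rw [Ideal.Quotient.eq_zero_iff_mem.mpr hx, TensorProduct.zero_tmul]
  have h2 : (1 : B ⧸ I') ⊗ₜ[A] b = 0 := by
    have := hsat _ ψ₁ ψ₂ h12 h1 hb
    rw [RingHom.mem_ker] at this
    exact this
  -- the exact sequence `I → A → B ⧸ I'`
  let I : Ideal A := I'.comap (algebraMap A B)
  let f : I →ₗ[A] A := Submodule.subtype I
  let g : A →ₗ[A] (B ⧸ I') := Algebra.linearMap A (B ⧸ I')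
  have hex : Function.Exact f g := by
    intro a
    constructor
    · intro ha
      have ha' : algebraMap A B a ∈ I' := by
        apply Ideal.Quotient.eq_zero_iff_mem.mp
        exact ha
      exact ⟨⟨a, ha'⟩, rfl⟩
    · rintro ⟨⟨a', ha'⟩, rfl⟩
      exact Ideal.Quotient.eq_zero_iff_mem.mpr ha'
  have hex2 := Module.Flat.lTensor_exact B hex
  have h3 : (g.lTensor B) (b ⊗ₜ[A] (1 : A)) = 0 := by
    rw [LinearMap.lTensor_tmul]
    have e2 : g 1 = (1 : B ⧸ I') := by
      show algebraMap A (B ⧸ I') 1 = 1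
      exact map_one _
    rw [e2]
    have := congrArg (TensorProduct.comm A (B ⧸ I') B) h2
    rw [TensorProduct.comm_tmul, map_zero] at this
    exact this
  obtain ⟨w, hw⟩ := (hex2 _).mp h3
  have hall : ∀ w : B ⊗[A] I, (TensorProduct.rid A B) ((f.lTensor B) w) ∈
      (I'.comap (algebraMap A B)).map (algebraMap A B) := by
    intro w
    induction w using TensorProduct.induction_on with
    | zero => simp
    | tmul b' i =>
      rw [LinearMap.lTensor_tmul, TensorProduct.rid_tmul, Algebra.smul_def]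
      exact Ideal.mul_mem_right _ _ (Ideal.mem_map_of_mem _ i.2)
    | add x y hx hy =>
      rw [map_add, map_add]
      exact add_mem hx hy
  have := hall w
  rw [hw, TensorProduct.rid_tmul, one_smul] at this
  exact this

theorem alg_descent {A B : Type u} [CommRing A] [CommRing B] [Algebra A B]
    [Module.FaithfullyFlat A B]
    (Q : ∀ (C : Type u) [CommRing C], (A →+* C) → Prop)
    (q1 : ∀ (C C' : Type u) [CommRing C] [CommRing C'] (χ : A →+* C) (ρ : C →+* C'),
      Q C χ → Q C' (ρ.comp χ))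
    (q2 : ∀ (C C' : Type u) [CommRing C] [CommRing C'] (χ : A →+* C) (ρ : C →+* C'),
      ρ.FaithfullyFlat → Q C' (ρ.comp χ) → Q C χ)
    (I' : Ideal B)
    (hI' : ∀ (C : Type u) [CommRing C] (ψ : B →+* C),
      Q C (ψ.comp (algebraMap A B)) ↔ I' ≤ RingHom.ker ψ)
    (C : Type u) [CommRing C] (χ : A →+* C) :
    Q C χ ↔ I'.comap (algebraMap A B) ≤ RingHom.ker χ := by
  have hsat : ∀ (C : Type u) [CommRing C] (ψ₁ ψ₂ : B →+* C),
      ψ₁.comp (algebraMap A B) = ψ₂.comp (algebraMap A B) →
        I' ≤ RingHom.ker ψ₁ → I' ≤ RingHom.ker ψ₂ := by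
    intro C _ ψ₁ ψ₂ h h1
    have := (hI' C ψ₁).mpr h1
    rw [h] at this
    exact (hI' C ψ₂).mp this
  have hkey : (I'.comap (algebraMap A B)).map (algebraMap A B) = I' :=
    le_antisymm Ideal.map_comap_le (key_lemma I' hsat)
  letI : Algebra A C := χ.toAlgebra
  let ρ : C →+* C ⊗[A] B := algebraMap C (C ⊗[A] B)
  let ψ : B →+* C ⊗[A] B :=
    (Algebra.TensorProduct.includeRight (R := A) (A := C) (B := B)).toRingHom
  have hρ : ρ.FaithfullyFlat := RingHom.faithfullyFlat_algebraMap_iff.mpr inferInstance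
  have hρψ : ρ.comp χ = ψ.comp (algebraMap A B) := by
    ext a
    show algebraMap C (C ⊗[A] B) (χ a) = (1 : C) ⊗ₜ[A] (algebraMap A B a)
    rw [Algebra.TensorProduct.algebraMap_apply]
    have e1 : algebraMap C C (χ a) = a • (1 : C) := by
      rw [Algebra.smul_def, mul_one]
      rfl
    rw [e1, Algebra.algebraMap_eq_smul_one (A := B), TensorProduct.smul_tmul]
  have hinj : Function.Injective ρ := hρ.injective
  constructor
  · intro hQ a ha
    have h1 : Q (C ⊗[A] B) (ψ.comp (algebraMap A B)) := by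
      rw [← hρψ]
      exact q1 C _ χ ρ hQ
    have h2 := (hI' _ ψ).mp h1 ha
    rw [RingHom.mem_ker] at h2 ⊢
    have h3 : ρ (χ a) = 0 := by
      have := congrArg (fun k => k a) hρψ
      simp only [RingHom.comp_apply] at this
      rw [this]
      exact h2
    exact hinj (h3.trans (map_zero ρ).symm)
  · intro h
    have h1 : I' ≤ RingHom.ker ψ := by
      rw [← hkey, Ideal.map_le_iff_le_comap]
      intro a ha
      have h2 := h ha
      rw [RingHom.mem_ker] at h2
      rw [Ideal.mem_comap, RingHom.mem_ker]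
      have := congrArg (fun k => k a) hρψ
      simp only [RingHom.comp_apply] at this
      rw [← this, h2, map_zero]
    have h3 := (hI' _ ψ).mpr h1
    rw [← hρψ] at h3
    exact q2 C _ χ ρ hρ h3

end Groth.Agent.Helper17.AG28
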