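import Mathlib
import Groth.Agent.Lib.Helper17.AG28

/-!
# Effective descent of closed subschemes along flat covers, local part (helper17)

`P` is a predicate on morphisms into a scheme `X` (a subfunctor of `h_X`), stable under
precomposition and satisfying descent along flat surjective morphisms.  If `f : U ⟶ X` is flat,
surjective and locally of finite presentation and the pullback of `P` to `U` is represented by a
closed subscheme of `U`, then on every affine open `V` of `X` the predicate `P` is represented (on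
affine test schemes) by an ideal of `Γ(X, V)`.
-/

set_option autoImplicit false
universe u
open CategoryTheory Limits AlgebraicGeometry Opposite

noncomputable section
namespace Groth.Agent.Helper17.AG29

theorem app_injective_of_flat_surjective {T' T : Scheme.{u}} (t : T' ⟶ T) [Flat t] [Surjective t]
    (O : T.Opens) : Function.Injective (t.app O).hom := by
  intro a b hab
  refine TopCat.Presheaf.section_ext T.sheaf O a b (fun x hx => ?_)
  obtain ⟨y, rfl⟩ := t.surjective x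
  have hinj : Function.Injective (t.stalkMap y).hom := by
    algebraize [(t.stalkMap y).hom]
    have : Module.FaithfullyFlat (T.presheaf.stalk (t y)) (T'.presheaf.stalk y) :=
      @Module.FaithfullyFlat.of_flat_of_isLocalHom _ _ _ _ _ _ _
        (Flat.stalkMap t y) (t.toLRSHom.prop y)
    exact ‹RingHom.FaithfullyFlat _›.injective
  apply hinj
  have e1 := Scheme.Hom.germ_stalkMap_apply t O y hx a
  have e2 := Scheme.Hom.germ_stalkMap_apply t O y hx b
  exact e1.trans ((congrArg (fun z => T'.presheaf.germ (t ⁻¹ᵁ O) y hx z) hab).trans e2.symm)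

theorem exists_lift_of_cover {T' T X W : Scheme.{u}} (t : T' ⟶ T) [Flat t] [Surjective t]
    (x : T ⟶ X) (i : W ⟶ X) [IsClosedImmersion i] (h : ∃ w : T' ⟶ W, w ≫ i = t ≫ x) :
    ∃ w : T ⟶ W, w ≫ i = x := by
  obtain ⟨w, hw⟩ := h
  have h1 : i.ker ≤ (t ≫ x).ker := by
    rw [← hw]
    exact Scheme.Hom.le_ker_comp w i
  have h2 : i.ker ≤ x.ker := by
    show i.ker ≤ Scheme.IdealSheafData.ofIdeals _
    rw [Scheme.IdealSheafData.le_ofIdeals_iff]
    intro V a ha
    have h3 := (t ≫ x).ideal_ker_le V (h1 V ha)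
    rw [RingHom.mem_ker] at h3 ⊢
    rw [Scheme.Hom.comp_app] at h3
    apply app_injective_of_flat_surjective t (x ⁻¹ᵁ V.1)
    rw [map_zero]
    exact h3
  exact ⟨IsClosedImmersion.lift i x h2, IsClosedImmersion.lift_fac i x h2⟩

theorem spec_factor_iff {B : CommRingCat.{u}} {Z : Scheme.{u}} (j : Z ⟶ Spec B)
    [IsClosedImmersion j] :
    ∃ I : Ideal B, ∀ (C : CommRingCat.{u}) (ψ : B ⟶ C),
      (∃ w : Spec C ⟶ Z, w ≫ j = Spec.map ψ) ↔ I ≤ RingHom.ker ψ.hom := by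
  obtain ⟨I, e, he⟩ := IsClosedImmersion.Spec_iff.mp ‹IsClosedImmersion j›
  refine ⟨I, fun C ψ => ⟨?_, ?_⟩⟩
  · rintro ⟨w, hw⟩ a ha
    obtain ⟨θ, hθ⟩ := Spec.map_surjective (w ≫ e.hom)
    have h1 : Spec.map (CommRingCat.ofHom (Ideal.Quotient.mk I) ≫ θ) = Spec.map ψ := by
      rw [Spec.map_comp, hθ, Category.assoc, ← he, hw]
    have h2 := Spec.map_injective h1
    rw [RingHom.mem_ker, ← h2]
    show θ.hom ((Ideal.Quotient.mk I) a) = 0
    rw [Ideal.Quotient.eq_zero_iff_mem.mpr ha, map_zero]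
  · intro h
    refine ⟨Spec.map (CommRingCat.ofHom (Ideal.Quotient.lift I ψ.hom
      (fun a ha => RingHom.mem_ker.mp (h ha)))) ≫ e.inv, ?_⟩
    rw [he, Category.assoc, Iso.inv_hom_id_assoc, ← Spec.map_comp]
    congr 1

theorem exists_affine_cover {U X : Scheme.{u}} (f : U ⟶ X) [Flat f] [Surjective f]
    [LocallyOfFinitePresentation f] (V : X.Opens) (hV : IsAffineOpen V) :
    ∃ (Y : Scheme.{u}) (_ : IsAffine Y) (u₀ : Y ⟶ U) (p : Y ⟶ V.toScheme),
      p ≫ V.ι = u₀ ≫ f ∧ Flat p ∧ Surjective p := by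
  let f' : (f ⁻¹ᵁ V).toScheme ⟶ V.toScheme := f ∣_ V
  haveI : Flat f' := IsZariskiLocalAtTarget.restrict ‹Flat f› V
  haveI : Surjective f' := IsZariskiLocalAtTarget.restrict ‹Surjective f› V
  haveI : LocallyOfFinitePresentation f' :=
    IsZariskiLocalAtTarget.restrict ‹LocallyOfFinitePresentation f› V
  haveI : CompactSpace V.toScheme := isCompact_iff_compactSpace.mp hV.isCompact
  obtain ⟨K : (f ⁻¹ᵁ V).toScheme.Opens, hK, e⟩ := f'.isOpenMap.exists_opens_image_eq_of_prespectralSpace f'.continuous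
    (fun x _ => f'.surjective x) isOpen_univ isCompact_univ
  haveI : CompactSpace K.toScheme := isCompact_iff_compactSpace.mp hK
  obtain ⟨Y, q, hqs, hqf, hY⟩ :=
    Scheme.exists_hom_isAffine_of_isZariskiLocalAtSource @Flat K.toScheme
  refine ⟨Y, hY, q ≫ K.ι ≫ (f ⁻¹ᵁ V).ι, q ≫ K.ι ≫ f', ?_, ?_, ?_⟩
  · simp only [Category.assoc]
    rw [morphismRestrict_ι]
  · haveI := hqf
    infer_instance
  · haveI := hqs
    haveI : Surjective (K.ι ≫ f') := ⟨fun x =>
      have ⟨y, hyK, hy⟩ := e.ge (Set.mem_univ x)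
      ⟨⟨y, hyK⟩, hy⟩⟩
    infer_instance

section Local

variable {U X : Scheme.{u}} (f : U ⟶ X) [Flat f] [Surjective f] [LocallyOfFinitePresentation f]
  (P : ∀ {T : Scheme.{u}}, (T ⟶ X) → Prop)
  (hP1 : ∀ {T' T : Scheme.{u}} (t : T' ⟶ T) (x : T ⟶ X), P x → P (t ≫ x))
  (hP2 : ∀ {T' T : Scheme.{u}} (t : T' ⟶ T) [Flat t] [Surjective t] (x : T ⟶ X),
    P (t ≫ x) → P x)
  {W' : Scheme.{u}} (i' : W' ⟶ U) [IsClosedImmersion i']
  (hW' : ∀ {T : Scheme.{u}} (u : T ⟶ U), P (u ≫ f) ↔ ∃ w : T ⟶ W', w ≫ i' = u)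

include hP1 hP2 hW' in
theorem local_ideal (V : X.Opens) (hV : IsAffineOpen V) :
    ∃ I : Ideal Γ(X, V), ∀ (C : CommRingCat.{u}) (χ : Γ(X, V) ⟶ C),
      P (Spec.map χ ≫ hV.fromSpec) ↔ I ≤ RingHom.ker χ.hom := by
  obtain ⟨Y, hY, u₀, p, hp, hpf, hps⟩ := exists_affine_cover f V hV
  let g : Y ⟶ X := u₀ ≫ f
  have hg : ⊤ ≤ g ⁻¹ᵁ V := by
    show ⊤ ≤ (u₀ ≫ f) ⁻¹ᵁ V
    rw [← hp, Scheme.Hom.comp_preimage, Scheme.Opens.ι_preimage_self]
    exact le_rfl
  let φ : Γ(X, V) ⟶ Γ(Y, ⊤) := g.appLE V ⊤ hg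
  have hkey : Spec.map φ ≫ hV.fromSpec = Y.isoSpec.inv ≫ g := by
    have := IsAffineOpen.SpecMap_appLE_fromSpec g hV (isAffineOpen_top Y) hg
    rw [IsAffineOpen.fromSpec_top] at this
    exact this
  haveI : IsAffine V.toScheme := hV
  have e1 : Spec.map φ = Y.isoSpec.inv ≫ p ≫ hV.isoSpec.hom := by
    rw [← cancel_mono hV.isoSpec.inv, ← cancel_mono V.ι]
    simp only [Category.assoc, Iso.hom_inv_id_assoc]
    have h' : Spec.map φ ≫ hV.isoSpec.inv ≫ V.ι = Y.isoSpec.inv ≫ g := hkey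
    rw [h', hp]
  have hff : φ.hom.FaithfullyFlat := by
    apply (flat_and_surjective_SpecMap_iff φ).mp
    rw [e1]
    exact ⟨inferInstance, inferInstance⟩
  let j : pullback u₀ i' ⟶ Spec Γ(Y, ⊤) := pullback.fst u₀ i' ≫ Y.isoSpec.hom
  haveI : IsClosedImmersion j := by
    show IsClosedImmersion (pullback.fst u₀ i' ≫ Y.isoSpec.hom)
    infer_instance
  obtain ⟨I', hI'⟩ := spec_factor_iff j
  have hrep : ∀ (C : CommRingCat.{u}) (ψ : Γ(Y, ⊤) ⟶ C),
      P (Spec.map (φ ≫ ψ) ≫ hV.fromSpec) ↔ I' ≤ RingHom.ker ψ.hom := by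
    intro C ψ
    have e2 : Spec.map (φ ≫ ψ) ≫ hV.fromSpec = (Spec.map ψ ≫ Y.isoSpec.inv ≫ u₀) ≫ f := by
      rw [Spec.map_comp, Category.assoc, hkey]
      simp only [Category.assoc, g]
    rw [e2, hW', ← hI']
    constructor
    · rintro ⟨w, hw⟩
      refine ⟨pullback.lift (Spec.map ψ ≫ Y.isoSpec.inv) w (by rw [Category.assoc, hw]), ?_⟩
      show pullback.lift _ _ _ ≫ pullback.fst u₀ i' ≫ Y.isoSpec.hom = Spec.map ψ
      rw [pullback.lift_fst_assoc, Category.assoc, Iso.inv_hom_id, Category.comp_id]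
    · rintro ⟨w, hw⟩
      refine ⟨w ≫ pullback.snd u₀ i', ?_⟩
      have hw' : w ≫ pullback.fst u₀ i' = Spec.map ψ ≫ Y.isoSpec.inv := by
        rw [← hw]
        show w ≫ pullback.fst u₀ i' = (w ≫ pullback.fst u₀ i' ≫ Y.isoSpec.hom) ≫ Y.isoSpec.inv
        simp only [Category.assoc, Iso.hom_inv_id, Category.comp_id]
      rw [Category.assoc, ← pullback.condition, ← Category.assoc, hw', Category.assoc]
  letI : Algebra Γ(X, V) Γ(Y, ⊤) := φ.hom.toAlgebra
  haveI : Module.FaithfullyFlat Γ(X, V) Γ(Y, ⊤) := hff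
  refine ⟨I'.comap φ.hom, fun C χ => ?_⟩
  have := AG28.alg_descent (A := Γ(X, V)) (B := Γ(Y, ⊤))
    (Q := fun C _ χ => P (Spec.map (CommRingCat.ofHom χ : Γ(X, V) ⟶ CommRingCat.of C) ≫
      hV.fromSpec))
    (fun C C' _ _ χ ρ hQ => by
      have h1 : (CommRingCat.ofHom (ρ.comp χ) : Γ(X, V) ⟶ CommRingCat.of C') =
          (CommRingCat.ofHom χ : Γ(X, V) ⟶ CommRingCat.of C) ≫ CommRingCat.ofHom ρ := rfl
      rw [h1, Spec.map_comp, Category.assoc]
      exact hP1 _ _ hQ)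
    (fun C C' _ _ χ ρ hρ hQ => by
      have h1 : (CommRingCat.ofHom (ρ.comp χ) : Γ(X, V) ⟶ CommRingCat.of C') =
          (CommRingCat.ofHom χ : Γ(X, V) ⟶ CommRingCat.of C) ≫ CommRingCat.ofHom ρ := rfl
      rw [h1, Spec.map_comp, Category.assoc] at hQ
      obtain ⟨hfl, hsj⟩ := (flat_and_surjective_SpecMap_iff (CommRingCat.ofHom ρ)).mpr hρ
      exact hP2 (Spec.map (CommRingCat.ofHom ρ)) _ hQ)
    I'
    (fun C _ ψ => by
      have h1 : (CommRingCat.ofHom (ψ.comp (algebraMap Γ(X, V) Γ(Y, ⊤))) :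
          Γ(X, V) ⟶ CommRingCat.of C) = φ ≫ (CommRingCat.ofHom ψ : Γ(Y, ⊤) ⟶ CommRingCat.of C) :=
        rfl
      rw [h1]
      exact hrep (CommRingCat.of C) (CommRingCat.ofHom ψ))
    C χ.hom
  exact this

end Local

end Groth.Agent.Helper17.AG29
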