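import Mathlib
import Groth.Prelude.Def_W4bk4git07Quot
import Groth.Prelude.Def_AlgGrp
import Groth.Agent.Lib.Helper18.GeomQuot
import Groth.Agent.Lib.Helper17.AF6
import Groth.Agent.Lib.Helper17.AG2

/-!
# Universal categorical quotients (helper17)
-/

set_option autoImplicit false
universe u
open CategoryTheory Limits MonoidalCategory CartesianMonoidalCategory MonObj GrpObj AlgebraicGeometry Opposite
open Groth.Agent.Helper13.GaPts Groth.Agent.Helper18.GeomQuot Groth.Agent.Helper17.AF6
  Groth.Agent.Helper17.AG2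

noncomputable section
namespace Groth.Agent.Helper17.AG3

variable {S : Scheme.{u}} {G X Y : Over S} [GrpObj G]

theorem eq_of_isEmpty_left {A B : Over S} (hA : IsEmpty A.left) (f g : A ⟶ B) : f = g := by
  apply Over.OverMorphism.ext
  exact (isInitialOfIsEmpty : IsInitial A.left).hom_ext _ _

theorem surjective_of_univCatQuot (a : AlgGrp.Action G X) (φ : X ⟶ Y)
    (h : GIT.IsUnivCatQuot a φ) : Function.Surjective φ.left.base := by
  intro y
  by_contra hy
  obtain ⟨g, hg⟩ : ∃ g : Over.mk (Y.left.fromSpecResidueField y ≫ Y.hom) ⟶ Y,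
      g.left = Y.left.fromSpecResidueField y := ⟨Over.homMk _ rfl, rfl⟩
  have hpb : IsPullback (pullback.fst φ g) (pullback.snd φ g) φ g := IsPullback.of_hasPullback φ g
  have hempty : IsEmpty (pullback φ g).left := by
    constructor
    intro x'
    apply hy
    refine ⟨(pullback.fst φ g).left.base x', ?_⟩
    have h1 : (pullback.fst φ g).left ≫ φ.left = (pullback.snd φ g).left ≫ g.left := by
      rw [← Over.comp_left, ← Over.comp_left, hpb.w]
    have h3 : φ.left.base ((pullback.fst φ g).left.base x') =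
        g.left.base ((pullback.snd φ g).left.base x') := congrArg (fun m => m.base x') h1
    rw [h3, hg]
    exact Scheme.fromSpecResidueField_apply _ _
  have hempty2 : IsEmpty (G ⊗ pullback φ g).left :=
    Function.isEmpty (snd G (pullback φ g)).left.base
  have hq : GIT.IsCatQuot (inducedAction a φ h.1.1 hpb) (pullback.snd φ g) :=
    h.2 (pullback.fst φ g) (pullback.snd φ g) g trivial hpb _ (inducedAct_pr a φ h.1.1 hpb)
      (inducedAct_phi a φ h.1.1 hpb)
  have hinvψ : GIT.IsInvariant (inducedAction a φ h.1.1 hpb)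
      (pullback.snd φ g ≫ (ptOfElt 0 : _ ⟶ Red.Ga S)) := eq_of_isEmpty_left hempty2 _ _
  have huniq := (hq.2 (Red.Ga S) _ hinvψ).unique (y₁ := ptOfElt 0) (y₂ := ptOfElt 1) rfl
    (eq_of_isEmpty_left hempty _ _)
  have h01 := congrArg (fun t => Red.gaFn t) huniq
  simp only [gaFn_ptOfElt] at h01
  haveI : Nonempty ((⊤ : (Over.mk (Y.left.fromSpecResidueField y ≫ Y.hom)).left.Opens)) :=
    ⟨⟨IsLocalRing.closedPoint (Y.left.residueField y), trivial⟩⟩
  exact zero_ne_one h01

theorem sections_of_univCatQuot (a : AlgGrp.Action G X) (φ : X ⟶ Y)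
    (h : GIT.IsUnivCatQuot a φ) (U : Y.left.Opens) :
    Function.Injective (φ.left.app U) ∧
      Set.range (φ.left.app U) = {f | GIT.IsInvSection a φ U f} := by
  have inv : a.act ≫ φ = snd G X ≫ φ := h.1.1
  have invl : a.act.left ≫ φ.left = (snd G X).left ≫ φ.left := by
    rw [← Over.comp_left, ← Over.comp_left, inv]
  set V : X.left.Opens := φ.left ⁻¹ᵁ U with hV
  set W : (G ⊗ X).left.Opens := a.act.left ⁻¹ᵁ V ⊓ (snd G X).left ⁻¹ᵁ V with hW
  let YU : Over S := Over.mk (U.ι ≫ Y.hom)
  let jY : YU ⟶ Y := Over.homMk U.ι rfl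
  let XV : Over S := Over.mk (V.ι ≫ X.hom)
  let jX : XV ⟶ X := Over.homMk V.ι rfl
  have hφU : (φ.left ∣_ U) ≫ U.ι ≫ Y.hom = V.ι ≫ X.hom := by
    rw [← Category.assoc, morphismRestrict_ι, Category.assoc, Over.w φ]
  let φU : XV ⟶ YU := Over.homMk (φ.left ∣_ U) hφU
  have sq : IsPullback jX φU φ jY :=
    IsPullback.of_map_of_faithful (Over.forget S) (isPullback_morphismRestrict φ.left U).flip
  let RW : Over S := Over.mk (W.ι ≫ (G ⊗ X).hom)
  let jR : RW ⟶ G ⊗ X := Over.homMk W.ι rfl
  obtain ⟨sW, hsW⟩ := exists_lift_open V (jR ≫ a.act) (fun x => x.2.1)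
  obtain ⟨tW, htW⟩ := exists_lift_open V (jR ≫ snd G X) (fun x => x.2.2)
  haveI : Mono jX := by
    haveI : Mono jX.left := inferInstanceAs (Mono V.ι)
    exact Over.mono_of_mono_left jX
  -- the induced action and its quotient property
  have hq : GIT.IsCatQuot (inducedAction a φ inv sq) φU :=
    h.2 jX φU jY trivial sq _ (inducedAct_pr a φ inv sq) (inducedAct_phi a φ inv sq)
  have hact_pr : (inducedAction a φ inv sq).act ≫ jX = (G ◁ jX) ≫ a.act := inducedAct_pr a φ inv sq
  have hact_phi : (inducedAction a φ inv sq).act ≫ φU = snd G XV ≫ φU := inducedAct_phi a φ inv sq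
  -- the comparison `k : G ⊗ XV ⟶ RW`
  obtain ⟨k, hk⟩ := exists_lift_open W (G ◁ jX) (fun pt => by
    constructor
    · have e1 : a.act.left ((G ◁ jX).left pt) = V.ι ((inducedAction a φ inv sq).act.left pt) :=
        congrArg (fun m => m.left.base pt) hact_pr.symm
      show a.act.left ((G ◁ jX).left pt) ∈ V
      rw [e1]
      exact ((inducedAction a φ inv sq).act.left pt).2
    · have e0 : (G ◁ jX) ≫ snd G X = snd G XV ≫ jX := whiskerLeft_snd _ _
      have e2 : (snd G X).left ((G ◁ jX).left pt) = V.ι ((snd G XV).left pt) :=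
        congrArg (fun m => m.left.base pt) e0
      show (snd G X).left ((G ◁ jX).left pt) ∈ V
      rw [e2]
      exact ((snd G XV).left pt).2)
  have hks : k ≫ sW = (inducedAction a φ inv sq).act := by
    rw [← cancel_mono jX, Category.assoc, hsW, ← Category.assoc, hk, hact_pr]
  have hkt : k ≫ tW = snd G XV := by
    rw [← cancel_mono jX, Category.assoc, htW, ← Category.assoc, hk, whiskerLeft_snd]
  -- compatibility of the restricted maps
  have hsWl : sW.left ≫ V.ι = W.ι ≫ a.act.left := congrArg (fun m => m.left) hsW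
  have htWl : tW.left ≫ V.ι = W.ι ≫ (snd G X).left := congrArg (fun m => m.left) htW
  have hφUl : φU.left ≫ U.ι = V.ι ≫ φ.left := morphismRestrict_ι φ.left U
  have key1 : ∀ g : Γ(Y.left, U),
      φU.left.appTop (U.topIso.inv g) = V.topIso.inv (φ.left.app U g) := by
    intro g
    rw [appTop_topIso_inv_apply φ.left U V φU.left hφUl le_rfl g, Scheme.Hom.app_eq_appLE]
  have key2 : ∀ f : Γ(X.left, V), sW.left.appTop (V.topIso.inv f) =
      W.topIso.inv (a.act.left.appLE V W inf_le_left f) :=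
    fun f => appTop_topIso_inv_apply a.act.left V W sW.left hsWl inf_le_left f
  have key3 : ∀ f : Γ(X.left, V), tW.left.appTop (V.topIso.inv f) =
      W.topIso.inv ((snd G X).left.appLE V W inf_le_right f) :=
    fun f => appTop_topIso_inv_apply (snd G X).left V W tW.left htWl inf_le_right f
  have hinj : ∀ {Z : Scheme.{u}} (O : Z.Opens) (x y : Γ(Z, O)),
      O.topIso.inv x = O.topIso.inv y → x = y := by
    intro Z O x y h
    have := congrArg O.topIso.hom h
    rwa [Iso.inv_hom_id_apply, Iso.inv_hom_id_apply] at this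
  have hinvφ : ∀ χ : YU ⟶ Red.Ga S, GIT.IsInvariant (inducedAction a φ inv sq) (φU ≫ χ) := by
    intro χ
    change (inducedAction a φ inv sq).act ≫ φU ≫ χ = snd G XV ≫ φU ≫ χ
    rw [← Category.assoc, hact_phi, Category.assoc]
  constructor
  · intro g₁ g₂ h12
    have hχ : φU ≫ (ptOfElt (U.topIso.inv g₁) : YU ⟶ Red.Ga S) =
        φU ≫ (ptOfElt (U.topIso.inv g₂) : YU ⟶ Red.Ga S) := by
      apply gaFn_injective
      change Red.gaFn _ = Red.gaFn _
      rw [gaFn_comp, gaFn_comp, gaFn_ptOfElt, gaFn_ptOfElt, key1, key1, h12]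
    have h2 := (hq.2 (Red.Ga S) _ (hinvφ (ptOfElt (U.topIso.inv g₁)))).unique
      (y₁ := ptOfElt (U.topIso.inv g₁)) (y₂ := ptOfElt (U.topIso.inv g₂)) rfl hχ.symm
    have h3 : U.topIso.inv g₁ = U.topIso.inv g₂ := by
      have := congrArg (fun t => Red.gaFn t) h2
      simpa only [gaFn_ptOfElt] using this
    exact hinj U _ _ h3
  · ext f
    simp only [Set.mem_range, Set.mem_ofPred_eq]
    constructor
    · rintro ⟨g, rfl⟩
      unfold GIT.IsInvSection
      have e1 : a.act.left.appLE V W inf_le_left (φ.left.app U g) =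
          (a.act.left ≫ φ.left).appLE U W inf_le_left g := by
        rw [Scheme.Hom.comp_appLE]
        rfl
      have e2 : (snd G X).left.appLE V W inf_le_right (φ.left.app U g) =
          ((snd G X).left ≫ φ.left).appLE U W inf_le_right g := by
        rw [Scheme.Hom.comp_appLE]
        rfl
      refine e1.trans (Eq.trans ?_ e2.symm)
      exact congrArg (fun m => m.hom g) (appLE_congr_hom invl U W inf_le_left inf_le_right)
    · intro hf
      have hf' : a.act.left.appLE V W inf_le_left f =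
          (snd G X).left.appLE V W inf_le_right f := hf
      have hψ : GIT.IsInvariant (inducedAction a φ inv sq)
          (ptOfElt (V.topIso.inv f) : XV ⟶ Red.Ga S) := by
        change (inducedAction a φ inv sq).act ≫ _ = snd G XV ≫ _
        apply gaFn_injective
        change Red.gaFn _ = Red.gaFn _
        rw [← hks, ← hkt, Category.assoc, Category.assoc, gaFn_comp, gaFn_comp k, gaFn_comp,
          gaFn_comp tW, gaFn_ptOfElt, key2, key3, hf']
      obtain ⟨χ, hχ, -⟩ := hq.2 (Red.Ga S) _ hψ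
      refine ⟨U.topIso.hom (Red.gaFn χ), hinj V _ _ ?_⟩
      rw [← key1]
      have h4 : U.topIso.inv (U.topIso.hom (Red.gaFn χ)) = Red.gaFn χ :=
        Iso.hom_inv_id_apply U.topIso _
      rw [h4, ← gaFn_comp, hχ, gaFn_ptOfElt]

theorem univCatQuot_baseChange (a : AlgGrp.Action G X) (φ : X ⟶ Y) (h : GIT.IsUnivCatQuot a φ)
    {X' Y' : Over S} (pr : X' ⟶ X) (φ' : X' ⟶ Y') (g : Y' ⟶ Y) (hpb : IsPullback pr φ' φ g)
    (a' : AlgGrp.Action G X') (heq : a'.act ≫ pr = (G ◁ pr) ≫ a.act)
    (hinv' : GIT.IsInvariant a' φ') : GIT.IsUnivCatQuot a' φ' := by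
  refine ⟨h.2 pr φ' g trivial hpb a' heq hinv', ?_⟩
  intro X₂ Y₂ pr₂ φ₂ g₂ _ hpb₂ a₂ heq₂ hinv₂
  refine h.2 (pr₂ ≫ pr) φ₂ (g₂ ≫ g) trivial (hpb₂.paste_horiz hpb) a₂ ?_ hinv₂
  calc a₂.act ≫ pr₂ ≫ pr = (a₂.act ≫ pr₂) ≫ pr := (Category.assoc _ _ _).symm
    _ = ((G ◁ pr₂) ≫ a'.act) ≫ pr := by rw [heq₂]
    _ = (G ◁ pr₂) ≫ (G ◁ pr) ≫ a.act := by rw [Category.assoc, heq]
    _ = (G ◁ (pr₂ ≫ pr)) ≫ a.act := by rw [MonoidalCategory.whiskerLeft_comp, Category.assoc]

theorem psiY_surjective_baseChange (a : AlgGrp.Action G X) (φ : X ⟶ Y)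
    (hinv : GIT.IsInvariant a φ)
    {X' Y' : Over S} (pr : X' ⟶ X) (φ' : X' ⟶ Y') (g : Y' ⟶ Y) (hpb : IsPullback pr φ' φ g)
    (a' : AlgGrp.Action G X') (heq : a'.act ≫ pr = (G ◁ pr) ≫ a.act)
    (hinv' : GIT.IsInvariant a' φ')
    (hs : Function.Surjective (GIT.PsiY a φ hinv).base) :
    Function.Surjective (GIT.PsiY a' φ' hinv').base := by
  have H : IsPullback pr.left φ'.left φ.left g.left := hpb.map (Over.forget S)
  obtain ⟨m, hm⟩ : ∃ m : pullback φ'.left φ'.left ⟶ pullback φ.left φ.left,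
      m = pullback.map φ'.left φ'.left φ.left φ.left pr.left pr.left g.left H.w.symm H.w.symm :=
    ⟨_, rfl⟩
  have hm1 : m ≫ pullback.fst φ.left φ.left = pullback.fst φ'.left φ'.left ≫ pr.left := by
    rw [hm]; exact pullback.lift_fst _ _ _
  have hm2 : m ≫ pullback.snd φ.left φ.left = pullback.snd φ'.left φ'.left ≫ pr.left := by
    rw [hm]; exact pullback.lift_snd _ _ _
  have hb : IsPullback (pullback.snd φ'.left φ'.left) m pr.left
      (pullback.snd φ.left φ.left) := by
    have big : IsPullback (pullback.fst φ'.left φ'.left ≫ pr.left) (pullback.snd φ'.left φ'.left)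
        φ.left (φ'.left ≫ g.left) := (IsPullback.of_hasPullback φ'.left φ'.left).paste_horiz H
    have s_b : IsPullback (pullback.snd φ'.left φ'.left) (m ≫ pullback.fst φ.left φ.left)
        (pr.left ≫ φ.left) φ.left := by
      rw [hm1, H.w]
      exact big.flip
    exact IsPullback.of_bot s_b hm2.symm (IsPullback.of_hasPullback φ.left φ.left).flip
  have ha : IsPullback (G ◁ pr).left (snd G X').left (snd G X).left pr.left :=
    (isPullback_whiskerLeft_snd G pr).map (Over.forget S)
  have hY1 : GIT.PsiY a φ hinv ≫ pullback.fst φ.left φ.left = a.act.left := by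
    unfold GIT.PsiY
    exact pullback.lift_fst _ _ _
  have hY2 : GIT.PsiY a φ hinv ≫ pullback.snd φ.left φ.left = (snd G X).left := by
    unfold GIT.PsiY
    exact pullback.lift_snd _ _ _
  have hY1' : GIT.PsiY a' φ' hinv' ≫ pullback.fst φ'.left φ'.left = a'.act.left := by
    unfold GIT.PsiY
    exact pullback.lift_fst _ _ _
  have hY2' : GIT.PsiY a' φ' hinv' ≫ pullback.snd φ'.left φ'.left = (snd G X').left := by
    unfold GIT.PsiY
    exact pullback.lift_snd _ _ _
  have s_c : IsPullback (GIT.PsiY a' φ' hinv' ≫ pullback.snd φ'.left φ'.left) (G ◁ pr).left pr.left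
      (GIT.PsiY a φ hinv ≫ pullback.snd φ.left φ.left) := by
    rw [hY2', hY2]
    exact ha.flip
  have p_c : GIT.PsiY a' φ' hinv' ≫ m = (G ◁ pr).left ≫ GIT.PsiY a φ hinv := by
    apply pullback.hom_ext
    · rw [Category.assoc, hm1, ← Category.assoc, hY1', Category.assoc, hY1, ← Over.comp_left,
        ← Over.comp_left, heq]
    · rw [Category.assoc, hm2, ← Category.assoc, hY2', Category.assoc, hY2, ← Over.comp_left,
        ← Over.comp_left, whiskerLeft_snd]
  have hc : IsPullback (GIT.PsiY a' φ' hinv') (G ◁ pr).left m (GIT.PsiY a φ hinv) :=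
    IsPullback.of_right s_c p_c hb
  haveI : Surjective (GIT.PsiY a φ hinv) := ⟨hs⟩
  haveI : Surjective (GIT.PsiY a' φ' hinv') :=
    MorphismProperty.of_isPullback (P := @Surjective) hc.flip ‹_›
  exact (GIT.PsiY a' φ' hinv').surjective

theorem isGeomQuot_of (a : AlgGrp.Action G X) (φ : X ⟶ Y) (h : GIT.IsUnivCatQuot a φ)
    (hsub : GIT.IsUnivSubmersive φ.left)
    (horb : Function.Surjective (GIT.PsiY a φ h.1.1).base) : GIT.IsGeomQuot a φ :=
  ⟨h.1.1, surjective_of_univCatQuot a φ h, horb, hsub, sections_of_univCatQuot a φ h⟩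

theorem main11446 (S : Scheme.{u}) (G X Y : Over S) [GrpObj G]
    (a : AlgGrp.Action G X) (φ : X ⟶ Y) (h : GIT.IsUnivCatQuot a φ) :
    Function.Surjective φ.left.base ∧
      (∀ U : Y.left.Opens,
        Function.Injective (φ.left.app U) ∧
          Set.range (φ.left.app U) = {f | GIT.IsInvSection a φ U f}) ∧
      (GIT.IsUnivGeomQuot a φ ↔
        GIT.IsUnivSubmersive φ.left ∧ Function.Surjective (GIT.PsiY a φ h.1.1).base) := by
  refine ⟨surjective_of_univCatQuot a φ h, sections_of_univCatQuot a φ h,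
    ⟨fun hu => ⟨hu.1.subm, hu.1.orbit⟩, fun ⟨hsub, horb⟩ => ⟨isGeomQuot_of a φ h hsub horb, ?_⟩⟩⟩
  intro X' Y' pr φ' g _ hpb a' heq hinv'
  have H : IsPullback pr.left φ'.left φ.left g.left := hpb.map (Over.forget S)
  have hsub' : GIT.IsUnivSubmersive φ'.left :=
    MorphismProperty.of_isPullback
      (P := MorphismProperty.universally (topologically @Topology.IsQuotientMap)) H hsub
  exact isGeomQuot_of a' φ' (univCatQuot_baseChange a φ h pr φ' g hpb a' heq hinv') hsub'
    (psiY_surjective_baseChange a φ h.1.1 pr φ' g hpb a' heq hinv' horb)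

end Groth.Agent.Helper17.AG3
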