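import Mathlib
import Groth.Prelude.Def_Magnet4
import Groth.Agent.Lib.Helper17.AG20
import Groth.Agent.Lib.Helper17.AG26
import Groth.Agent.Lib.Helper17.AG30

/-!
# Fixed points along an fppf fixed-point-reflecting atlas (helper17)

`fixed_descent`: if `f : U ⟶ X` is an equivariant fppf cover which is fixed-point reflecting and the
fixed-point functor of `U` is a closed subscheme of `U`, then the fixed-point functor of `X` is a
closed subscheme of `X` (effective descent of closed subschemes, `AG30.descent_closed`).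
-/

set_option autoImplicit false
universe u
open CategoryTheory CategoryTheory.Limits MonoidalCategory CartesianMonoidalCategory MonObj
open AlgebraicGeometry Opposite

noncomputable section
namespace Groth.Agent.Helper17.AG31

variable {S : Scheme.{u}} {G X : Over S} [MonObj G]

/-- the condition defining `fixedPsh` -/
def Fix (a : Magnet.MonAct G X) {T : Over S} (x : T ⟶ X) : Prop :=
  ∀ (T' : Over S) (t : T' ⟶ T) (g : T' ⟶ G), lift g (t ≫ x) ≫ a.act = t ≫ x

theorem fix_comp (a : Magnet.MonAct G X) {T T' : Over S} (s : T' ⟶ T) (x : T ⟶ X)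
    (h : Fix a x) : Fix a (s ≫ x) := by
  intro T'' t g
  rw [← Category.assoc]
  exact h T'' (t ≫ s) g

theorem fix_iff (a : Magnet.MonAct G X) {T : Over S} (x : T ⟶ X) :
    Fix a x ↔ (G ◁ x) ≫ a.act = snd G T ≫ x := by
  constructor
  · intro h
    have hwl : G ◁ x = lift (fst G T) (snd G T ≫ x) := by
      apply CartesianMonoidalCategory.hom_ext <;> simp
    rw [hwl]
    exact h _ _ _
  · intro h T' t g
    have e : lift g (t ≫ x) = lift g t ≫ (G ◁ x) := by rw [lift_whiskerLeft]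
    rw [e, Category.assoc, h, lift_snd_assoc]

/-- the same condition for a morphism of plain schemes -/
def PX (a : Magnet.MonAct G X) {T : Scheme.{u}} (x : T ⟶ X.left) : Prop :=
  Fix a (Over.homMk x rfl : Over.mk (x ≫ X.hom) ⟶ X)

theorem fix_iff_PX (a : Magnet.MonAct G X) {T : Over S} (x : T ⟶ X) : Fix a x ↔ PX a x.left := by
  let ε : Over.mk (x.left ≫ X.hom) ≅ T := Over.isoMk (Iso.refl _) (by
    rw [Iso.refl_hom, Category.id_comp]
    exact (Over.w x).symm)
  have e1 : (Over.homMk x.left rfl : Over.mk (x.left ≫ X.hom) ⟶ X) = ε.hom ≫ x := by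
    apply Over.OverMorphism.ext
    simp [ε]
  constructor
  · intro h
    show Fix a _
    rw [e1]
    exact fix_comp a _ _ h
  · intro h
    have h' : Fix a (ε.hom ≫ x) := by
      rw [← e1]
      exact h
    have := fix_comp a ε.inv _ h'
    rwa [Iso.inv_hom_id_assoc] at this

theorem PX_comp (a : Magnet.MonAct G X) {T' T : Scheme.{u}} (t : T' ⟶ T) (x : T ⟶ X.left)
    (h : PX a x) : PX a (t ≫ x) := by
  let t' : Over.mk ((t ≫ x) ≫ X.hom) ⟶ Over.mk (x ≫ X.hom) :=
    Over.homMk t (by simp)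
  have e : (Over.homMk (t ≫ x) rfl : Over.mk ((t ≫ x) ≫ X.hom) ⟶ X) =
      t' ≫ Over.homMk x rfl := by
    apply Over.OverMorphism.ext
    simp [t']
  show Fix a _
  rw [e]
  exact fix_comp a t' _ h

theorem PX_descent (a : Magnet.MonAct G X) {T' T : Scheme.{u}} (t : T' ⟶ T) [Flat t]
    [Surjective t] (x : T ⟶ X.left) (h : PX a (t ≫ x)) : PX a x := by
  let t' : Over.mk ((t ≫ x) ≫ X.hom) ⟶ Over.mk (x ≫ X.hom) :=
    Over.homMk t (by simp)
  have e : (Over.homMk (t ≫ x) rfl : Over.mk ((t ≫ x) ≫ X.hom) ⟶ X) =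
      t' ≫ Over.homMk x rfl := by
    apply Over.OverMorphism.ext
    simp [t']
  have h' : Fix a (t' ≫ Over.homMk x rfl) := by
    rw [← e]
    exact h
  show Fix a _
  rw [fix_iff] at h' ⊢
  haveI : Epi (G ◁ t') := by
    have sq := (AG20.isPullback_snd_whiskerLeft G t').map (Over.forget S)
    haveI : Flat (G ◁ t').left :=
      MorphismProperty.of_isPullback (P := @Flat) sq (show Flat t'.left from ‹Flat t›)
    haveI : Surjective (G ◁ t').left :=
      MorphismProperty.of_isPullback (P := @Surjective) sq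
        (show Surjective t'.left from ‹Surjective t›)
    exact AG20.epi_of_flat_surj _
  rw [← cancel_epi (G ◁ t'), ← Category.assoc, ← MonoidalCategory.whiskerLeft_comp, h',
    whiskerLeft_snd_assoc]

theorem PX_local (a : Magnet.MonAct G X) {T : Scheme.{u}} (x : T ⟶ X.left)
    (𝒰 : Scheme.OpenCover.{u} T) (h : ∀ j, PX a (𝒰.f j ≫ x)) : PX a x := by
  show Fix a _
  rw [fix_iff]
  apply AG26.glue_ext (T := Over.mk (x ≫ X.hom)) 𝒰
  intro j
  have hj : Fix a (AG26.inc (T := Over.mk (x ≫ X.hom)) 𝒰 j ≫ Over.homMk x rfl) :=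
    (fix_iff_PX a _).mpr (h j)
  rw [fix_iff] at hj
  rw [← Category.assoc, ← MonoidalCategory.whiskerLeft_comp, hj, whiskerLeft_snd_assoc]

theorem fixed_descent {U : Over S}
    (aX : Magnet.MonAct G X) (aU : Magnet.MonAct G U) (f : U ⟶ X)
    [Flat f.left] [Surjective f.left] [LocallyOfFinitePresentation f.left]
    (hf : Magnet.MonAct.IsEquivariant aU aX f)
    (hfpr : IsPullback (Magnet.MonAct.fixedPsh.map f hf) (Magnet.MonAct.fixedPshι aU)
      (Magnet.MonAct.fixedPshι aX) (yoneda.map f))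
    (hU : ∃ (W' : Over S) (i' : W' ⟶ U) (e' : (Magnet.MonAct.fixedPsh aU).RepresentableBy W'),
      IsClosedImmersion i'.left ∧ ∀ (T : Over S) (w : T ⟶ W'),
        (Magnet.MonAct.fixedPshι aU).app (op T) (e'.homEquiv w) = w ≫ i') :
    ∃ (W : Over S) (i : W ⟶ X) (e : (Magnet.MonAct.fixedPsh aX).RepresentableBy W),
      IsClosedImmersion i.left ∧ ∀ (T : Over S) (w : T ⟶ W),
        (Magnet.MonAct.fixedPshι aX).app (op T) (e.homEquiv w) = w ≫ i := by
  obtain ⟨W', i', e', hi', he'⟩ := hU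
  have hfix : ∀ (T₀ : Over S) (u : T₀ ⟶ U), Fix aU u ↔ Fix aX (u ≫ f) := by
    intro T₀ u
    constructor
    · intro h
      exact ((Magnet.MonAct.fixedPsh.map f hf).app (op T₀) ⟨u, h⟩).2
    · intro h
      have sq := hfpr.map ((evaluation (Over S)ᵒᵖ (Type u)).obj (op T₀))
      obtain ⟨x₁, hx₁, hx₂⟩ := Types.exists_of_isPullback sq
        (⟨u ≫ f, h⟩ : (Magnet.MonAct.fixedPsh aX).obj (op T₀))
        (u : (yoneda.obj U).obj (op T₀)) rfl
      have hx : x₁.1 = u := hx₂
      rw [← hx]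
      exact x₁.2
  have hrepU : ∀ (T₀ : Over S) (u : T₀ ⟶ U), Fix aU u ↔ ∃ w : T₀ ⟶ W', w ≫ i' = u := by
    intro T₀ u
    constructor
    · intro h
      refine ⟨e'.homEquiv.symm ⟨u, h⟩, ?_⟩
      rw [← he', Equiv.apply_symm_apply]
      rfl
    · rintro ⟨w, rfl⟩
      rw [← he']
      exact (e'.homEquiv w).2
  have hW' : ∀ {T : Scheme.{u}} (u : T ⟶ U.left),
      PX aX (u ≫ f.left) ↔ ∃ w : T ⟶ W'.left, w ≫ i'.left = u := by
    intro T u
    let ũ : Over.mk (u ≫ U.hom) ⟶ U := Over.homMk u rfl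
    have h1 : PX aX (u ≫ f.left) ↔ Fix aX (ũ ≫ f) := (fix_iff_PX aX (ũ ≫ f)).symm
    rw [h1, ← hfix, hrepU]
    constructor
    · rintro ⟨w, hw⟩
      refine ⟨w.left, ?_⟩
      rw [← Over.comp_left, hw]
      rfl
    · rintro ⟨w, hw⟩
      refine ⟨Over.homMk w (by
        show w ≫ W'.hom = u ≫ U.hom
        rw [← Over.w i', ← Category.assoc, hw]), ?_⟩
      apply Over.OverMorphism.ext
      exact hw
  haveI := hi'
  obtain ⟨W, i, hi, hWi⟩ := AG30.descent_closed f.left (fun {T} x => PX aX x)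
    (fun t x h => PX_comp aX t x h) (fun t _ _ x h => PX_descent aX t x h)
    (fun x 𝒰 h => PX_local aX x 𝒰 h) i'.left hW'
  let ĩ : Over.mk (i ≫ X.hom) ⟶ X := Over.homMk i rfl
  haveI : Mono ĩ := by
    haveI : Mono ((Over.forget S).map ĩ) := by
      show Mono i
      infer_instance
    exact (Over.forget S).mono_of_mono_map inferInstance
  have hrep : ∀ (T₀ : Over S) (x : T₀ ⟶ X),
      Fix aX x ↔ ∃ w : T₀ ⟶ Over.mk (i ≫ X.hom), w ≫ ĩ = x := by
    intro T₀ x
    rw [fix_iff_PX, hWi]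
    constructor
    · rintro ⟨w, hw⟩
      refine ⟨Over.homMk w (by
        show w ≫ i ≫ X.hom = T₀.hom
        rw [← Category.assoc, hw, Over.w]), ?_⟩
      apply Over.OverMorphism.ext
      exact hw
    · rintro ⟨w, hw⟩
      refine ⟨w.left, ?_⟩
      have := congrArg (fun k => k.left) hw
      exact this
  let e : (Magnet.MonAct.fixedPsh aX).RepresentableBy (Over.mk (i ≫ X.hom)) :=
    { homEquiv := fun {T₀} =>
        { toFun := fun w => ⟨w ≫ ĩ, (hrep T₀ (w ≫ ĩ)).mpr ⟨w, rfl⟩⟩
          invFun := fun x => Classical.choose ((hrep T₀ x.1).mp x.2)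
          left_inv := fun w => by
            have := Classical.choose_spec ((hrep T₀ (w ≫ ĩ)).mp ((hrep T₀ (w ≫ ĩ)).mpr ⟨w, rfl⟩))
            exact (cancel_mono ĩ).mp this
          right_inv := fun x => Subtype.ext (Classical.choose_spec ((hrep T₀ x.1).mp x.2)) }
      homEquiv_comp := fun {T₀ T₁} g w => Subtype.ext (Category.assoc g w ĩ) }
  exact ⟨Over.mk (i ≫ X.hom), ĩ, e, hi, fun T w => rfl⟩

theorem main18299 (S : Scheme.{u}) (Q : Type)
    [AddCommGroup Q] (X U : Over S) (aX : AlgGrp.Action (Red.DS S Q) X)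
    (aU : AlgGrp.Action (Red.DS S Q) U)
    (f : U ⟶ X) [Etale f.left] [Surjective f.left]
    (hf : Magnet.MonAct.IsEquivariant (Magnet.MonAct.ofAction aU) (Magnet.MonAct.ofAction aX) f)
    (hfpr : IsPullback (Magnet.MonAct.fixedPsh.map f hf)
      (Magnet.MonAct.fixedPshι (Magnet.MonAct.ofAction aU))
      (Magnet.MonAct.fixedPshι (Magnet.MonAct.ofAction aX)) (yoneda.map f))
    (hU : ∃ (W' : Over S) (i' : W' ⟶ U)
      (e' : (Magnet.MonAct.fixedPsh (Magnet.MonAct.ofAction aU)).RepresentableBy W'),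
      IsClosedImmersion i'.left ∧ ∀ (T : Over S) (w : T ⟶ W'),
        (Magnet.MonAct.fixedPshι (Magnet.MonAct.ofAction aU)).app (op T) (e'.homEquiv w) =
          w ≫ i') :
    ∃ (W : Over S) (i : W ⟶ X)
      (e : (Magnet.MonAct.fixedPsh (Magnet.MonAct.ofAction aX)).RepresentableBy W),
      IsClosedImmersion i.left ∧ ∀ (T : Over S) (w : T ⟶ W),
        (Magnet.MonAct.fixedPshι (Magnet.MonAct.ofAction aX)).app (op T) (e.homEquiv w) =
          w ≫ i :=
  fixed_descent (Magnet.MonAct.ofAction aX) (Magnet.MonAct.ofAction aU) f hf hfpr hU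

end Groth.Agent.Helper17.AG31
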