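import Mathlib

/-!
# Closed subschemes from local ideals (helper17)

`of_local_ideal`: a predicate `P` on morphisms into a scheme `X`, stable under precomposition and
Zariski local on the source, which on every affine open `V` of `X` is represented (on affine test
schemes) by an ideal of `Γ(X, V)`, is represented by a closed subscheme of `X`.
-/

set_option autoImplicit false
universe u
open CategoryTheory Limits AlgebraicGeometry Opposite

noncomputable section
namespace Groth.Agent.Helper17.AG32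

theorem of_local_ideal {X : Scheme.{u}}
    (P : ∀ {T : Scheme.{u}}, (T ⟶ X) → Prop)
    (hP1 : ∀ {T' T : Scheme.{u}} (t : T' ⟶ T) (x : T ⟶ X), P x → P (t ≫ x))
    (hP3 : ∀ {T : Scheme.{u}} (x : T ⟶ X) (𝒰 : Scheme.OpenCover.{u} T),
      (∀ j, P (𝒰.f j ≫ x)) → P x)
    (hloc : ∀ V : X.affineOpens, ∃ I : Ideal Γ(X, V.1), ∀ (C : CommRingCat.{u})
      (χ : Γ(X, V.1) ⟶ C), P (Spec.map χ ≫ V.2.fromSpec) ↔ I ≤ RingHom.ker χ.hom) :
    ∃ (W : Scheme.{u}) (i : W ⟶ X), IsClosedImmersion i ∧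
      ∀ {T : Scheme.{u}} (x : T ⟶ X), P x ↔ ∃ w : T ⟶ W, w ≫ i = x := by
  choose Ifam hIfam using hloc
  have hmk : ∀ (V : X.affineOpens) (𝔞 : Ideal Γ(X, V.1)),
      RingHom.ker (CommRingCat.ofHom (Ideal.Quotient.mk 𝔞)).hom = 𝔞 := by
    intro V 𝔞
    exact Ideal.mk_ker
  have huniq : ∀ (V : X.affineOpens) (𝔞 : Ideal Γ(X, V.1)),
      (∀ (C : CommRingCat.{u}) (χ : Γ(X, V.1) ⟶ C),
        P (Spec.map χ ≫ V.2.fromSpec) ↔ 𝔞 ≤ RingHom.ker χ.hom) → 𝔞 = Ifam V := by
    intro V 𝔞 h𝔞
    apply le_antisymm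
    · have h1 : P (Spec.map (CommRingCat.ofHom (Ideal.Quotient.mk (Ifam V))) ≫ V.2.fromSpec) :=
        (hIfam V _ _).mpr (by rw [hmk V])
      have h2 := (h𝔞 _ _).mp h1
      rwa [hmk V] at h2
    · have h1 : P (Spec.map (CommRingCat.ofHom (Ideal.Quotient.mk 𝔞)) ≫ V.2.fromSpec) :=
        (h𝔞 _ _).mpr (by rw [hmk V])
      have h2 := (hIfam V _ _).mp h1
      rwa [hmk V] at h2
  let J : X.IdealSheafData :=
    { ideal := Ifam
      map_ideal_basicOpen := by
        intro V s
        apply huniq (X.affineBasicOpen s)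
        intro C χ'
        let r : Γ(X, V.1) ⟶ Γ(X, (X.affineBasicOpen s).1) :=
          X.presheaf.map (homOfLE (X.basicOpen_le s)).op
        have e0 : Spec.map r ≫ V.2.fromSpec = (X.affineBasicOpen s).2.fromSpec :=
          IsAffineOpen.map_fromSpec V.2 (X.affineBasicOpen s).2 (homOfLE (X.basicOpen_le s)).op
        have e : Spec.map χ' ≫ (X.affineBasicOpen s).2.fromSpec =
            Spec.map (r ≫ χ') ≫ V.2.fromSpec := by
          rw [Spec.map_comp, Category.assoc, e0]
        have hk : RingHom.ker (r ≫ χ').hom = (RingHom.ker χ'.hom).comap r.hom := by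
          rw [RingHom.comap_ker]
          rfl
        rw [e, hIfam V, hk]
        exact Ideal.map_le_iff_le_comap.symm }
  have hJ : ∀ V : X.affineOpens, J.ideal V = Ifam V := fun V => rfl
  refine ⟨J.subscheme, J.subschemeι, inferInstance, fun {T} x => ⟨fun hx => ?_, ?_⟩⟩
  · have h2 : J ≤ x.ker := by
      show J ≤ Scheme.IdealSheafData.ofIdeals _
      rw [Scheme.IdealSheafData.le_ofIdeals_iff]
      intro V a ha
      rw [RingHom.mem_ker]
      refine TopCat.Presheaf.section_ext T.sheaf (x ⁻¹ᵁ V.1) _ 0 (fun y hy => ?_)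
      obtain ⟨_, ⟨T₁, hT₁, rfl⟩, hyT₁, hle⟩ :=
        T.isBasis_affineOpens.exists_subset_of_mem_open hy (x ⁻¹ᵁ V.1).2
      have hle' : T₁ ≤ x ⁻¹ᵁ V.1 := hle
      have hP' : P (Spec.map (x.appLE V.1 T₁ hle') ≫ V.2.fromSpec) := by
        rw [IsAffineOpen.SpecMap_appLE_fromSpec x V.2 hT₁ hle']
        exact hP1 _ _ hx
      have h3 := (hIfam V _ _).mp hP' ha
      rw [RingHom.mem_ker] at h3
      have h4 : (T.presheaf.map (homOfLE hle').op).hom ((x.app V.1).hom a) = 0 := h3
      have h5 := TopCat.Presheaf.germ_res_apply T.presheaf (homOfLE hle') y hyT₁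
        ((x.app V.1).hom a)
      have h6 := TopCat.Presheaf.germ_res_apply T.presheaf (homOfLE hle') y hyT₁
        (0 : Γ(T, x ⁻¹ᵁ V.1))
      exact h5.symm.trans ((congrArg (fun z => T.presheaf.germ T₁ y hyT₁ z)
        (h4.trans (map_zero (T.presheaf.map (homOfLE hle').op).hom).symm)).trans h6)
    exact ⟨IsClosedImmersion.lift J.subschemeι x (by rw [Scheme.IdealSheafData.ker_subschemeι]; exact h2),
      IsClosedImmersion.lift_fac _ _ _⟩
  · rintro ⟨w, rfl⟩
    apply hP1
    apply hP3 _ J.subschemeCover.openCover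
    intro (V : X.affineOpens)
    have e : J.subschemeCover.openCover.f V ≫ J.subschemeι =
        Spec.map (CommRingCat.ofHom (Ideal.Quotient.mk (J.ideal V))) ≫ V.2.fromSpec := by
      show J.subschemeCover.f V ≫ J.subschemeι = _
      rw [Scheme.IdealSheafData.subschemeCover_map_subschemeι,
        Scheme.IdealSheafData.glueDataObjι_ι]
    have h1 : P (Spec.map (CommRingCat.ofHom (Ideal.Quotient.mk (Ifam V))) ≫ V.2.fromSpec) :=
      (hIfam V _ _).mpr (by rw [hmk V])
    rw [e]
    exact h1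

end Groth.Agent.Helper17.AG32
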