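import Mathlib
import Groth.Prelude.Def_GmPts
import Groth.Prelude.Def_Magnet4
import Groth.Agent.Lib.Helper17.AG9
import Groth.Agent.Lib.Helper17.AG15
import Groth.Agent.Lib.Helper17.AG20
import Groth.Agent.Lib.Helper17.AG21
import Groth.Agent.Lib.Helper17.AG22
import Groth.Agent.Lib.Helper17.AG24
import Groth.Agent.Lib.Helper17.AG25
import Groth.Agent.Lib.Helper17.AG26

/-!
# The attractor of an `S`-affine scheme, locally: the coefficient ideal (helper17)

`ExtP N a x`: the orbit map of a `T`-point `x` of `X` extends to `A(N) × T`.  For `X → S` affine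
and `T` affine this holds iff the coefficients of degree outside `N` of all functions pulled back
along the orbit map vanish (`extP_of_coeff`, `coeff_of_extP`); on an affine open `V` of `X` it is
therefore represented by an ideal (`local_ideal_attr`).
-/

set_option autoImplicit false
universe u
open CategoryTheory CategoryTheory.Limits MonoidalCategory CartesianMonoidalCategory MonObj
open AlgebraicGeometry Opposite

noncomputable section
namespace Groth.Agent.Helper17.AG33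
open Groth.Agent.Helper17.AG24 Groth.Agent.Helper17.AG25 Groth.Agent.Helper17.AG26

variable {S : Scheme.{u}} {M : Type} [AddCommMonoid M] (N : AddSubmonoid M) {X : Over S}
  (a : Magnet.MonAct (Magnet.AMonS S M) X)

/-- the orbit map of `x` extends to `A(N) × T` -/
def ExtP {T : Over S} (x : T ⟶ X) : Prop :=
  ∃ φ : Magnet.AMonS S ↥N ⊗ T ⟶ X,
    (Magnet.AMonS.map S N.subtype ▷ T) ≫ φ = (Magnet.AMonS S M ◁ x) ≫ a.act

theorem extP_comp {T T' : Over S} (t : T' ⟶ T) (x : T ⟶ X) (h : ExtP N a x) :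
    ExtP N a (t ≫ x) := by
  obtain ⟨φ, hφ⟩ := h
  refine ⟨(Magnet.AMonS S ↥N ◁ t) ≫ φ, ?_⟩
  calc (Magnet.AMonS.map S N.subtype ▷ T') ≫ (Magnet.AMonS S ↥N ◁ t) ≫ φ
      = ((Magnet.AMonS.map S N.subtype ▷ T') ≫ (Magnet.AMonS S ↥N ◁ t)) ≫ φ :=
        (Category.assoc _ _ _).symm
    _ = ((Magnet.AMonS S M ◁ t) ≫ (Magnet.AMonS.map S N.subtype ▷ T)) ≫ φ := by
        rw [whisker_exchange]
    _ = (Magnet.AMonS S M ◁ t) ≫ (Magnet.AMonS.map S N.subtype ▷ T) ≫ φ := Category.assoc _ _ _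
    _ = (Magnet.AMonS S M ◁ t) ≫ (Magnet.AMonS S M ◁ x) ≫ a.act := by rw [hφ]
    _ = (Magnet.AMonS S M ◁ (t ≫ x)) ≫ a.act := by
        rw [MonoidalCategory.whiskerLeft_comp, Category.assoc]

theorem extP_of_attr {T : Over S} (φ : (Magnet.attr a N).obj (op T)) :
    ExtP N a ((Magnet.attrToX a N).app (op T) φ) := by
  refine ⟨φ.1, ?_⟩
  rw [AG9.whisker_comp_eq_orbit]
  congr 1

theorem attr_of_extP [IsSeparated X.hom] {T : Over S} (x : T ⟶ X) (h : ExtP N a x) :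
    ∃ φ : (Magnet.attr a N).obj (op T), (Magnet.attrToX a N).app (op T) φ = x := by
  obtain ⟨φ₀, hφ₀⟩ := h
  have heqv : Magnet.MonAct.IsEquivariant
      ((Magnet.subAct S M N).prod (Magnet.MonAct.trivial (Magnet.AMonS S M) T)) a φ₀ :=
    (AG21.eqv_iff_pt N a φ₀).mpr fun W g p t =>
      AG22.abstract_eqv_descend a (𝟙 (Magnet.AMonS S M))
        (Magnet.AMonS.map S N.subtype) (Magnet.AMonS.map S N.subtype)
        (Magnet.AMonS.map_isMonHom S _) (Category.id_comp _)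
        (fun u v h => AG9.ext_of_whiskerRight_map S N.subtype Subtype.val_injective
          (Magnet.AMonS S M ⊗ T) X u v h)
        ((Magnet.AMonS S M ◁ x) ≫ a.act) (fun g p t => abstract_orbit_eqv a x g p t)
        φ₀ hφ₀ g p t
  exact ⟨⟨φ₀, heqv⟩, abstract_eval a (Magnet.AMonS.map S N.subtype) x φ₀ hφ₀⟩

theorem extP_local [IsSeparated X.hom] {T : Over S} (x : T ⟶ X)
    (𝒰 : Scheme.OpenCover.{u} T.left) (h : ∀ i, ExtP N a (inc 𝒰 i ≫ x)) : ExtP N a x := by
  choose φi hφi using h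
  obtain ⟨Φ, hΦ⟩ := glue_exists 𝒰 φi (fun i j W mi mj hm =>
    abstract_compat (Magnet.AMonS.map S N.subtype) a.act x (inc 𝒰 i) (inc 𝒰 j)
      (φi i) (φi j) (hφi i) (hφi j)
      (fun u v h => AG9.ext_of_whiskerRight_map S N.subtype Subtype.val_injective
        W X u v h) mi mj hm)
  refine ⟨Φ, ?_⟩
  apply glue_ext 𝒰
  intro i
  exact abstract_final (Magnet.AMonS.map S N.subtype) a.act x (inc 𝒰 i) (φi i) Φ
    (hφi i) (hΦ i)

/-- the orbit map over `T` -/
abbrev orb {T : Over S} (x : T ⟶ X) : Magnet.AMonS S M ⊗ T ⟶ X ⊗ T :=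
  lift ((Magnet.AMonS S M ◁ x) ≫ a.act) (snd (Magnet.AMonS S M) T)

theorem orbit_natural {T T' : Over S} (t : T' ⟶ T) (x : T ⟶ X) :
    orb a (t ≫ x) ≫ (X ◁ t) = (Magnet.AMonS S M ◁ t) ≫ orb a x := by
  apply CartesianMonoidalCategory.hom_ext
  · simp [MonoidalCategory.whiskerLeft_comp]
  · simp

theorem coeff_natural {T T' : Over S} (t : T' ⟶ T) (x : T ⟶ X) (r : Γ((X ⊗ T).left, ⊤))
    (c : MonoidAlgebra Γ(T.left, ⊤) (Multiplicative M)) (hc : E M T c = pb (orb a x) r) :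
    E M T' (MonoidAlgebra.mapRingHom (Multiplicative M) (pb t) c) =
      pb (orb a (t ≫ x)) (pb (X ◁ t) r) := by
  rw [← E_whiskerLeft, hc, ← pb_comp_apply, ← pb_comp_apply, orbit_natural]

theorem extP_of_coeff [IsAffineHom X.hom] (T : Over S) [IsAffine T.left] (x : T ⟶ X)
    (hsupp : ∀ (r : Γ((X ⊗ T).left, ⊤)) (c : MonoidAlgebra Γ(T.left, ⊤) (Multiplicative M)),
      E M T c = pb (orb a x) r → ∀ g, c.coeff g ≠ 0 →
        ∃ k : Multiplicative ↥N, AddMonoidHom.toMultiplicative N.subtype k = g) :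
    ExtP N a x := by
  haveI hP : IsAffine (Magnet.AMonS S M ⊗ T).left := AG22.isAffine_tensor_left M T
  haveI hPN : IsAffine (Magnet.AMonS S ↥N ⊗ T).left := AG22.isAffine_tensor_left ↥N T
  haveI hXT : IsAffine (X ⊗ T).left := by
    show IsAffine (pullback X.hom T.hom)
    infer_instance
  obtain ⟨oo, hoo⟩ : ∃ oo : Magnet.AMonS S M ⊗ T ⟶ X ⊗ T, oo = orb a x := ⟨_, rfl⟩
  have bT := E_bijective (M := M) T
  have bN := E_bijective (M := ↥N) T
  have hrange : ∀ r : Γ((X ⊗ T).left, ⊤),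
      ∃ y, pb (Magnet.AMonS.map S N.subtype ▷ T) y = pb oo r := by
    intro r
    obtain ⟨c, hc⟩ := bT.2 (pb oo r)
    obtain ⟨c₀, hc₀⟩ := alg_N (AddMonoidHom.toMultiplicative N.subtype)
      (toMult_subtype_injective N) c (hsupp r c (by rw [hc, hoo]))
    refine ⟨E ↥N T c₀, ?_⟩
    rw [E_map, hc₀, hc]
  have hinj : Function.Injective (pb (Magnet.AMonS.map S N.subtype ▷ T)) := by
    intro y₁ y₂ h
    obtain ⟨c₁, rfl⟩ := bN.2 y₁
    obtain ⟨c₂, rfl⟩ := bN.2 y₂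
    rw [E_map, E_map] at h
    rw [MonoidAlgebra.mapDomain_injective (toMult_subtype_injective N) (bT.1 h)]
  obtain ⟨φl, hφl⟩ := affine_factor (Magnet.AMonS.map S N.subtype ▷ T).left oo.left
    hinj hrange
  have e1 : oo ≫ snd X T = snd (Magnet.AMonS S M) T := by rw [hoo, lift_snd]
  have e2 : (Magnet.AMonS.map S N.subtype ▷ T) ≫ snd (Magnet.AMonS S ↥N) T =
      snd (Magnet.AMonS S M) T := whiskerRight_snd _ _
  have hsnd : φl ≫ (snd X T).left = (snd (Magnet.AMonS S ↥N) T).left := by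
    apply affine_cancel (Magnet.AMonS.map S N.subtype ▷ T).left hinj
    calc (Magnet.AMonS.map S N.subtype ▷ T).left ≫ φl ≫ (snd X T).left
        = ((Magnet.AMonS.map S N.subtype ▷ T).left ≫ φl) ≫ (snd X T).left :=
          (Category.assoc _ _ _).symm
      _ = oo.left ≫ (snd X T).left := by rw [hφl]
      _ = (oo ≫ snd X T).left := rfl
      _ = (snd (Magnet.AMonS S M) T).left := by rw [e1]
      _ = ((Magnet.AMonS.map S N.subtype ▷ T) ≫ snd (Magnet.AMonS S ↥N) T).left := by rw [e2]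
      _ = (Magnet.AMonS.map S N.subtype ▷ T).left ≫ (snd (Magnet.AMonS S ↥N) T).left := rfl
  have w : φl ≫ (X ⊗ T).hom = (Magnet.AMonS S ↥N ⊗ T).hom := by
    rw [← Over.w (snd X T), ← Category.assoc, hsnd, Over.w]
  have e3 : (Magnet.AMonS.map S N.subtype ▷ T) ≫ Over.homMk φl w = oo := by
    apply Over.OverMorphism.ext
    exact hφl
  refine ⟨Over.homMk φl w ≫ fst X T, ?_⟩
  rw [← Category.assoc, e3, hoo, lift_fst]

theorem coeff_of_extP (T : Over S) [IsAffine T.left] (x : T ⟶ X) (h : ExtP N a x)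
    (r : Γ((X ⊗ T).left, ⊤)) (c : MonoidAlgebra Γ(T.left, ⊤) (Multiplicative M))
    (hc : E M T c = pb (orb a x) r) (g : Multiplicative M)
    (hg : ¬ ∃ k : Multiplicative ↥N, AddMonoidHom.toMultiplicative N.subtype k = g) :
    c.coeff g = 0 := by
  obtain ⟨φ, hφ⟩ := h
  have bT := E_bijective (M := M) T
  have bN := E_bijective (M := ↥N) T
  have h1 : (Magnet.AMonS.map S N.subtype ▷ T) ≫ lift φ (snd (Magnet.AMonS S ↥N) T) =
      orb a x := by
    rw [comp_lift, hφ, whiskerRight_snd]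
  obtain ⟨c₀, hc₀⟩ := bN.2 (pb (lift φ (snd (Magnet.AMonS S ↥N) T)) r)
  have h2 : E M T c = E M T (MonoidAlgebra.mapDomain
      (AddMonoidHom.toMultiplicative N.subtype) c₀) := by
    rw [hc, ← h1, pb_comp_apply, ← hc₀, E_map]
  have h3 := bT.1 h2
  rw [h3, MonoidAlgebra.coeff_mapDomain, Finsupp.mapDomain_of_notMem_range]
  rintro ⟨k, hk⟩
  exact hg ⟨k, hk⟩

/-- the same condition for a morphism of plain schemes -/
def PXp {T : Scheme.{u}} (x : T ⟶ X.left) : Prop :=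
  ExtP N a (Over.homMk x rfl : Over.mk (x ≫ X.hom) ⟶ X)

theorem extP_iff_pxp {T : Over S} (x : T ⟶ X) : ExtP N a x ↔ PXp N a x.left := by
  let ε : Over.mk (x.left ≫ X.hom) ≅ T := Over.isoMk (Iso.refl _) (by
    rw [Iso.refl_hom, Category.id_comp]
    exact (Over.w x).symm)
  have e1 : (Over.homMk x.left rfl : Over.mk (x.left ≫ X.hom) ⟶ X) = ε.hom ≫ x := by
    apply Over.OverMorphism.ext
    simp [ε]
  constructor
  · intro h
    show ExtP N a _
    rw [e1]
    exact extP_comp N a _ _ h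
  · intro h
    have h' : ExtP N a (ε.hom ≫ x) := by
      rw [← e1]
      exact h
    have := extP_comp N a ε.inv _ h'
    rwa [Iso.inv_hom_id_assoc] at this

theorem pxp_comp {T' T : Scheme.{u}} (t : T' ⟶ T) (x : T ⟶ X.left) (h : PXp N a x) :
    PXp N a (t ≫ x) := by
  let t' : Over.mk ((t ≫ x) ≫ X.hom) ⟶ Over.mk (x ≫ X.hom) :=
    Over.homMk t (by simp)
  have e : (Over.homMk (t ≫ x) rfl : Over.mk ((t ≫ x) ≫ X.hom) ⟶ X) =
      t' ≫ Over.homMk x rfl := by
    apply Over.OverMorphism.ext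
    simp [t']
  show ExtP N a _
  rw [e]
  exact extP_comp N a t' _ h

theorem pxp_local [IsSeparated X.hom] {T : Scheme.{u}} (x : T ⟶ X.left)
    (𝒰 : Scheme.OpenCover.{u} T) (h : ∀ j, PXp N a (𝒰.f j ≫ x)) : PXp N a x := by
  show ExtP N a _
  apply extP_local N a (T := Over.mk (x ≫ X.hom)) _ 𝒰
  intro j
  exact (extP_iff_pxp N a _).mpr (h j)

theorem local_ideal_attr [IsAffineHom X.hom] (V : X.left.Opens) (hV : IsAffineOpen V) :
    ∃ I : Ideal Γ(X.left, V), ∀ (C : CommRingCat.{u}) (χ : Γ(X.left, V) ⟶ C),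
      PXp N a (Spec.map χ ≫ hV.fromSpec) ↔ I ≤ RingHom.ker χ.hom := by
  obtain ⟨T₀, hT₀⟩ : ∃ T₀ : Over S, T₀ = Over.mk (hV.fromSpec ≫ X.hom) := ⟨_, rfl⟩
  obtain ⟨x₀, hx₀⟩ : ∃ x₀ : Over.mk (hV.fromSpec ≫ X.hom) ⟶ X, x₀ = Over.homMk hV.fromSpec rfl :=
    ⟨_, rfl⟩
  haveI hA0 : IsAffine (Over.mk (hV.fromSpec ≫ X.hom)).left :=
    inferInstanceAs (IsAffine (Spec Γ(X.left, V)))
  haveI hXT0 : IsAffine (X ⊗ Over.mk (hV.fromSpec ≫ X.hom)).left := by
    show IsAffine (pullback X.hom (Over.mk (hV.fromSpec ≫ X.hom)).hom)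
    infer_instance
  have bT0 := E_bijective (M := M) (Over.mk (hV.fromSpec ≫ X.hom))
  let K : Ideal Γ((Over.mk (hV.fromSpec ≫ X.hom)).left, ⊤) :=
    Ideal.span {b | ∃ (r : Γ((X ⊗ Over.mk (hV.fromSpec ≫ X.hom)).left, ⊤))
      (c : MonoidAlgebra Γ((Over.mk (hV.fromSpec ≫ X.hom)).left, ⊤) (Multiplicative M))
      (g : Multiplicative M), E M (Over.mk (hV.fromSpec ≫ X.hom)) c = pb (orb a x₀) r ∧
        (¬ ∃ k : Multiplicative ↥N, AddMonoidHom.toMultiplicative N.subtype k = g) ∧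
        b = c.coeff g}
  refine ⟨K.comap (Scheme.ΓSpecIso Γ(X.left, V)).inv.hom, fun C χ => ?_⟩
  -- the test object
  have hsplit : ∀ (C : CommRingCat.{u}) (χ : Γ(X.left, V) ⟶ C),
      ∃ tt : Over.mk ((Spec.map χ ≫ hV.fromSpec) ≫ X.hom) ⟶ Over.mk (hV.fromSpec ≫ X.hom),
        tt.left = Spec.map χ ∧
        (Over.homMk (Spec.map χ ≫ hV.fromSpec) rfl :
          Over.mk ((Spec.map χ ≫ hV.fromSpec) ≫ X.hom) ⟶ X) = tt ≫ x₀ := by
    intro C χ
    refine ⟨Over.homMk (Spec.map χ) (Category.assoc _ _ _).symm, rfl, ?_⟩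
    apply Over.OverMorphism.ext
    rw [hx₀]
    rfl
  constructor
  · intro h a₀ ha₀
    obtain ⟨tt, htt, hxt⟩ := hsplit C χ
    haveI : IsAffine (Over.mk ((Spec.map χ ≫ hV.fromSpec) ≫ X.hom)).left :=
      inferInstanceAs (IsAffine (Spec C))
    have h' : ExtP N a (tt ≫ x₀) := by
      rw [← hxt]
      exact h
    have hK : K ≤ RingHom.ker (pb tt) := by
      apply Ideal.span_le.mpr
      rintro b ⟨r, c, g, hc, hg, rfl⟩
      rw [SetLike.mem_coe, RingHom.mem_ker, ← MonoidAlgebra.coeff_mapRingHom]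
      exact coeff_of_extP N a _ (tt ≫ x₀) h' _ _ (coeff_natural a tt x₀ r c hc) g hg
    have h1 : pb tt ((Scheme.ΓSpecIso Γ(X.left, V)).inv a₀) = 0 := hK ha₀
    have h2 : (Spec.map χ).appTop ((Scheme.ΓSpecIso Γ(X.left, V)).inv a₀) =
        (Scheme.ΓSpecIso C).inv (χ a₀) := AG15.specMap_appTop_inv χ a₀
    have h3 : (Scheme.ΓSpecIso C).inv (χ a₀) = 0 := by
      rw [← h2, ← htt]
      exact h1
    rw [RingHom.mem_ker]
    apply (ConcreteCategory.bijective_of_isIso (Scheme.ΓSpecIso C).inv).1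
    rw [map_zero]
    exact h3
  · intro h
    obtain ⟨I, hI⟩ : ∃ I : Ideal Γ(X.left, V),
        I = K.comap (Scheme.ΓSpecIso Γ(X.left, V)).inv.hom := ⟨_, rfl⟩
    rw [← hI] at h
    let χb : CommRingCat.of (Γ(X.left, V) ⧸ I) ⟶ C :=
      CommRingCat.ofHom (Ideal.Quotient.lift I χ.hom (fun a₀ ha₀ => RingHom.mem_ker.mp (h ha₀)))
    have hχ : χ = CommRingCat.ofHom (Ideal.Quotient.mk I) ≫ χb := by
      ext a₀
      simp [χb]
    suffices hz : PXp N a (Spec.map (CommRingCat.ofHom (Ideal.Quotient.mk I)) ≫ hV.fromSpec) by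
      have := pxp_comp N a (Spec.map χb) _ hz
      rw [← Category.assoc, ← Spec.map_comp, ← hχ] at this
      exact this
    obtain ⟨tt, htt, hxt⟩ := hsplit _ (CommRingCat.ofHom (Ideal.Quotient.mk I))
    haveI : IsAffine (Over.mk ((Spec.map (CommRingCat.ofHom (Ideal.Quotient.mk I)) ≫
        hV.fromSpec) ≫ X.hom)).left :=
      inferInstanceAs (IsAffine (Spec (CommRingCat.of (Γ(X.left, V) ⧸ I))))
    show ExtP N a _
    rw [hxt]
    have bTz := E_bijective (M := M) (Over.mk ((Spec.map (CommRingCat.ofHom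
      (Ideal.Quotient.mk I)) ≫ hV.fromSpec) ≫ X.hom))
    apply extP_of_coeff N a _ (tt ≫ x₀)
    intro r' c' hc' g hne
    by_contra hg
    apply hne
    -- closed immersion
    have sq := (AG20.isPullback_snd_whiskerLeft X tt).map (Over.forget S)
    haveI hcl : IsClosedImmersion tt.left := by
      rw [htt]
      infer_instance
    haveI : IsClosedImmersion (X ◁ tt).left :=
      MorphismProperty.of_isPullback (P := @IsClosedImmersion) sq hcl
    obtain ⟨r, hr⟩ : ∃ r, pb (X ◁ tt) r = r' :=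
      (IsClosedImmersion.isAffine_surjective_of_isAffine (f := (X ◁ tt).left)).2 r'
    obtain ⟨c, hc⟩ := bT0.2 (pb (orb a x₀) r)
    have h4 := coeff_natural a tt x₀ r c hc
    rw [hr, ← hc'] at h4
    have h5 := bTz.1 h4
    rw [← h5, MonoidAlgebra.coeff_mapRingHom]
    have hb : c.coeff g ∈ K := Ideal.subset_span ⟨r, c, g, hc, hg, rfl⟩
    obtain ⟨a₀, ha₀⟩ : ∃ a₀ : Γ(X.left, V),
        (Scheme.ΓSpecIso Γ(X.left, V)).inv a₀ = c.coeff g :=
      ⟨(Scheme.ΓSpecIso Γ(X.left, V)).hom (c.coeff g), Iso.hom_inv_id_apply _ _⟩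
    have ha₀I : a₀ ∈ I := by
      rw [hI, Ideal.mem_comap]
      show (Scheme.ΓSpecIso Γ(X.left, V)).inv a₀ ∈ K
      rw [ha₀]
      exact hb
    have h6 : (Spec.map (CommRingCat.ofHom (Ideal.Quotient.mk I))).appTop
        ((Scheme.ΓSpecIso Γ(X.left, V)).inv a₀) =
        (Scheme.ΓSpecIso (CommRingCat.of (Γ(X.left, V) ⧸ I))).inv
          ((CommRingCat.ofHom (Ideal.Quotient.mk I)) a₀) :=
      AG15.specMap_appTop_inv (CommRingCat.ofHom (Ideal.Quotient.mk I)) a₀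
    have h7 : (CommRingCat.ofHom (Ideal.Quotient.mk I)) a₀ = 0 :=
      Ideal.Quotient.eq_zero_iff_mem.mpr ha₀I
    rw [← ha₀]
    show tt.left.appTop ((Scheme.ΓSpecIso Γ(X.left, V)).inv a₀) = 0
    rw [htt, h6, h7, map_zero]

end Groth.Agent.Helper17.AG33
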