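import Mathlib
import Groth.Prelude.Def_Magnet4
import Groth.Agent.Lib.Helper17.AG9
import Groth.Agent.Lib.Helper17.AG32
import Groth.Agent.Lib.Helper17.AG33

/-!
# The attractor of an `S`-affine scheme is a closed subscheme (helper17)
-/

set_option autoImplicit false
universe u
open CategoryTheory CategoryTheory.Limits MonoidalCategory CartesianMonoidalCategory MonObj
open AlgebraicGeometry Opposite

noncomputable section
namespace Groth.Agent.Helper17.AG34
open Groth.Agent.Helper17.AG33

theorem main18295 (S : Scheme.{u}) (M : Type)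
    [AddCommMonoid M] (N : AddSubmonoid M) (X : Over S) [IsAffineHom X.hom]
    (a : Magnet.MonAct (Magnet.AMonS S M) X) :
    ∃ (Z : Over S) (i : Z ⟶ X) (e : (Magnet.attr a N).RepresentableBy Z),
      IsClosedImmersion i.left ∧
      ∀ (T : Over S) (z : T ⟶ Z), (Magnet.attrToX a N).app (op T) (e.homEquiv z) = z ≫ i := by
  haveI : IsSeparated X.hom := inferInstance
  obtain ⟨W, i, hi, hWi⟩ := AG32.of_local_ideal (X := X.left) (fun {T} x => PXp N a x)
    (fun t x h => pxp_comp N a t x h) (fun x 𝒰 h => pxp_local N a x 𝒰 h)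
    (fun V => local_ideal_attr N a V.1 V.2)
  let ĩ : Over.mk (i ≫ X.hom) ⟶ X := Over.homMk i rfl
  haveI : Mono ĩ := by
    haveI : Mono ((Over.forget S).map ĩ) := by
      show Mono i
      infer_instance
    exact (Over.forget S).mono_of_mono_map inferInstance
  have hrep : ∀ (T₀ : Over S) (x : T₀ ⟶ X),
      ExtP N a x ↔ ∃ w : T₀ ⟶ Over.mk (i ≫ X.hom), w ≫ ĩ = x := by
    intro T₀ x
    rw [extP_iff_pxp, hWi]
    constructor
    · rintro ⟨w, hw⟩
      refine ⟨Over.homMk w (by
        show w ≫ i ≫ X.hom = T₀.hom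
        rw [← Category.assoc, hw, Over.w]), ?_⟩
      apply Over.OverMorphism.ext
      exact hw
    · rintro ⟨w, hw⟩
      refine ⟨w.left, ?_⟩
      have := congrArg (fun k => k.left) hw
      exact this
  have hattr : ∀ (T₀ : Over S) (x : T₀ ⟶ X), ExtP N a x ↔
      ∃ φ : (Magnet.attr a N).obj (op T₀), (Magnet.attrToX a N).app (op T₀) φ = x := by
    intro T₀ x
    constructor
    · exact attr_of_extP N a x
    · rintro ⟨φ, rfl⟩
      exact extP_of_attr N a φ
  choose toF toF_spec using (fun (T₀ : Over S) (w : T₀ ⟶ Over.mk (i ≫ X.hom)) =>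
    (hattr T₀ (w ≫ ĩ)).mp ((hrep T₀ (w ≫ ĩ)).mpr ⟨w, rfl⟩))
  choose inv inv_spec using (fun (T₀ : Over S) (φ : (Magnet.attr a N).obj (op T₀)) =>
    (hrep T₀ ((Magnet.attrToX a N).app (op T₀) φ)).mp
      ((hattr T₀ ((Magnet.attrToX a N).app (op T₀) φ)).mpr ⟨φ, rfl⟩))
  have hnat : ∀ (T₀ T₁ : Over S) (g : T₁ ⟶ T₀) (φ : (Magnet.attr a N).obj (op T₀)),
      (Magnet.attrToX a N).app (op T₁) ((Magnet.attr a N).map g.op φ) =
        g ≫ (Magnet.attrToX a N).app (op T₀) φ := by
    intro T₀ T₁ g φ
    have := congrArg (fun k => (ConcreteCategory.hom k) φ) ((Magnet.attrToX a N).naturality g.op)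
    exact this
  let e : (Magnet.attr a N).RepresentableBy (Over.mk (i ≫ X.hom)) :=
    { homEquiv := fun {T₀} =>
        { toFun := toF T₀
          invFun := inv T₀
          left_inv := fun w => by
            apply (cancel_mono ĩ).mp
            exact (inv_spec T₀ (toF T₀ w)).trans (toF_spec T₀ w)
          right_inv := fun φ => by
            apply AG9.attrToX_injective a N T₀
            exact (toF_spec T₀ (inv T₀ φ)).trans (inv_spec T₀ φ) }
      homEquiv_comp := fun {T₁ T₀} g w => by
        apply AG9.attrToX_injective a N T₁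
        show (Magnet.attrToX a N).app (op T₁) (toF T₁ (g ≫ w)) =
          (Magnet.attrToX a N).app (op T₁) ((Magnet.attr a N).map g.op (toF T₀ w))
        rw [hnat, toF_spec, toF_spec, Category.assoc] }
  exact ⟨Over.mk (i ≫ X.hom), ĩ, e, hi, fun T z => toF_spec T z⟩

end Groth.Agent.Helper17.AG34
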