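import Mathlib
import Groth.Prelude.Def_Magnet4

/-!
# Powers of the complement of a face, and Dickson's lemma (helper17)

`Nk N Q k`: the elements of `N` that are a sum of `k` elements of `N ∖ Q` and an element of `N`
(the exponents of the monomials of the `k`-th power of the ideal of `A(Q) ⊆ A(N)`).  For a finitely
generated `N` and a face `Q`, every element lies outside `Nk N Q k` for `k` large (`dickson`).
-/

set_option autoImplicit false
universe u

noncomputable section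
namespace Groth.Agent.Helper17.AG35

variable {M : Type} [AddCommGroup M]

/-- elements of `N` of the form `a₁ + … + a_k + b` with `aᵢ ∈ N ∖ Q` and `b ∈ N` -/
def Nk (N Q : AddSubmonoid M) : ℕ → Set M
  | 0 => {m | m ∈ N}
  | (k + 1) => {m | ∃ a ∈ N, a ∉ Q ∧ ∃ b ∈ Nk N Q k, m = a + b}

variable {N Q : AddSubmonoid M}

theorem Nk_subset (k : ℕ) {m : M} (h : m ∈ Nk N Q k) : m ∈ N := by
  induction k generalizing m with
  | zero => exact h
  | succ k ih =>
    obtain ⟨a, ha, -, b, hb, rfl⟩ := h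
    exact N.add_mem ha (ih hb)

theorem Nk_add (k : ℕ) {m n : M} (h : m ∈ Nk N Q k) (hn : n ∈ N) : m + n ∈ Nk N Q k := by
  induction k generalizing m with
  | zero => exact N.add_mem h hn
  | succ k ih =>
    obtain ⟨a, ha, haQ, b, hb, rfl⟩ := h
    exact ⟨a, ha, haQ, b + n, ih hb, add_assoc a b n⟩

theorem Nk_succ_subset (k : ℕ) {m : M} (h : m ∈ Nk N Q (k + 1)) : m ∈ Nk N Q k := by
  obtain ⟨a, ha, -, b, hb, rfl⟩ := h
  rw [add_comm]
  exact Nk_add k hb ha

theorem Nk_anti {k k' : ℕ} (hk : k ≤ k') {m : M} (h : m ∈ Nk N Q k') : m ∈ Nk N Q k := by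
  obtain ⟨d, rfl⟩ := Nat.exists_eq_add_of_le hk
  clear hk
  induction d with
  | zero => exact h
  | succ d ih => exact ih (Nk_succ_subset _ h)

theorem not_mem_face_of_mem_Nk (hQ : Magnet.IsFace N Q) (k : ℕ) {m : M}
    (h : m ∈ Nk N Q (k + 1)) : m ∉ Q := by
  obtain ⟨a, ha, haQ, b, hb, rfl⟩ := h
  intro hm
  exact haQ (hQ.mem_of_add_mem a ha b (Nk_subset k hb) hm).1

theorem nsmul_mem_Nk {a : M} (ha : a ∈ N) (haQ : a ∉ Q) (k : ℕ) : k • a ∈ Nk N Q k := by
  induction k with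
  | zero => rw [zero_nsmul]; exact N.zero_mem
  | succ k ih => exact ⟨a, ha, haQ, k • a, ih, succ_nsmul' a k⟩

open Classical in
/-- the weight of a representation: the total multiplicity of the generators outside `Q` -/
def wt (Q : AddSubmonoid M) (s : Finset M) (c : ↥s → ℕ) : ℕ :=
  ∑ i : ↥s, if (i : M) ∈ Q then 0 else c i

theorem exists_repr (s : Finset M) (hs : AddSubmonoid.closure (s : Set M) = N) (k : ℕ) {m : M}
    (h : m ∈ Nk N Q k) :
    ∃ c : ↥s → ℕ, m = ∑ i : ↥s, c i • (i : M) ∧ k ≤ wt Q s c := by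
  classical
  induction k generalizing m with
  | zero =>
    have hm : m ∈ AddSubmonoid.closure (s : Set M) := by rw [hs]; exact h
    obtain ⟨c, hc⟩ := AddSubmonoid.mem_closure_finset'.mp hm
    exact ⟨c, hc, Nat.zero_le _⟩
  | succ k ih =>
    obtain ⟨a, ha, haQ, b, hb, rfl⟩ := h
    obtain ⟨cb, hcb, hkb⟩ := ih hb
    have ha' : a ∈ AddSubmonoid.closure (s : Set M) := by rw [hs]; exact ha
    obtain ⟨ca, hca⟩ := AddSubmonoid.mem_closure_finset'.mp ha'
    have hpos : 1 ≤ wt Q s ca := by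
      by_contra hlt
      have hz : wt Q s ca = 0 := by omega
      have hall : ∀ i : ↥s, (i : M) ∉ Q → ca i = 0 := by
        intro i hi
        have := (Finset.sum_eq_zero_iff.mp hz) i (Finset.mem_univ i)
        rwa [if_neg hi] at this
      apply haQ
      rw [hca]
      refine Q.sum_mem fun i _ => ?_
      by_cases hi : (i : M) ∈ Q
      · exact Q.nsmul_mem hi _
      · rw [hall i hi, zero_nsmul]; exact Q.zero_mem
    refine ⟨ca + cb, ?_, ?_⟩
    · rw [hca, hcb, ← Finset.sum_add_distrib]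
      refine Finset.sum_congr rfl fun i _ => ?_
      rw [Pi.add_apply, add_nsmul]
    · have : wt Q s (ca + cb) = wt Q s ca + wt Q s cb := by
        unfold wt
        rw [← Finset.sum_add_distrib]
        refine Finset.sum_congr rfl fun i _ => ?_
        by_cases hi : (i : M) ∈ Q
        · simp [hi]
        · simp [hi]
      rw [this]
      omega

/-- **Dickson**: for `N` finitely generated and `Q` a face, no element lies in all `Nk N Q k` -/
theorem dickson (hQ : Magnet.IsFace N Q) (hfg : N.FG) (m : M) : ∃ k, m ∉ Nk N Q k := by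
  classical
  by_contra hcon
  push_neg at hcon
  obtain ⟨s, hs⟩ := hfg
  have hsN : ∀ i : ↥s, (i : M) ∈ N := fun i => by
    rw [← hs]; exact AddSubmonoid.subset_closure i.2
  choose c hc hw using fun k => exists_repr (Q := Q) s hs k (hcon k)
  obtain ⟨g, hg⟩ : ∃ g : ℕ → ℕ, ∀ j, g (j + 1) = wt Q s (c (g j)) + 1 :=
    ⟨fun j => Nat.rec 0 (fun _ prev => wt Q s (c prev) + 1) j, fun j => rfl⟩
  have hstep : ∀ j, wt Q s (c (g j)) < wt Q s (c (g (j + 1))) := by
    intro j
    have h2 := hw (g (j + 1))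
    have h3 := hg j
    omega
  have hmono : ∀ j d, wt Q s (c (g j)) < wt Q s (c (g (j + d + 1))) := by
    intro j d
    induction d with
    | zero => exact hstep j
    | succ d ih => exact ih.trans (hstep _)
  obtain ⟨j, j', hjj', hle⟩ := wellQuasiOrdered_le (α := ↥s → ℕ) (fun j => c (g j))
  obtain ⟨d, rfl⟩ : ∃ d, j' = j + d + 1 := ⟨j' - j - 1, by omega⟩
  have hlt := hmono j d
  obtain ⟨c₁, hc₁⟩ : ∃ c₁, c₁ = c (g j) := ⟨_, rfl⟩
  obtain ⟨c₂, hc₂⟩ : ∃ c₂, c₂ = c (g (j + d + 1)) := ⟨_, rfl⟩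
  have hle' : c₁ ≤ c₂ := by rw [hc₁, hc₂]; exact hle
  have hm₁ : m = ∑ i : ↥s, c₁ i • (i : M) := by rw [hc₁]; exact hc _
  have hm₂ : m = ∑ i : ↥s, c₂ i • (i : M) := by rw [hc₂]; exact hc _
  rw [← hc₁, ← hc₂] at hlt
  have hex : ∃ i₀ : ↥s, (i₀ : M) ∉ Q ∧ c₁ i₀ < c₂ i₀ := by
    by_contra hno
    push_neg at hno
    have : wt Q s c₂ ≤ wt Q s c₁ := by
      unfold wt
      refine Finset.sum_le_sum fun i _ => ?_
      by_cases hi : (i : M) ∈ Q
      · simp [hi]
      · simp only [hi, if_false]; exact hno i hi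
    omega
  obtain ⟨i₀, hi₀Q, hi₀⟩ := hex
  have hsum : ∑ i : ↥s, (c₂ i - c₁ i) • (i : M) = 0 := by
    have h1 : ∑ i : ↥s, c₂ i • (i : M) =
        ∑ i : ↥s, c₁ i • (i : M) + ∑ i : ↥s, (c₂ i - c₁ i) • (i : M) := by
      rw [← Finset.sum_add_distrib]
      refine Finset.sum_congr rfl fun i _ => ?_
      rw [← add_nsmul, Nat.add_sub_cancel' (hle' i)]
    rw [← hm₁, ← hm₂] at h1
    exact add_left_cancel (a := m) (by rw [add_zero]; exact h1.symm)
  rw [← Finset.add_sum_erase Finset.univ _ (Finset.mem_univ i₀)] at hsum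
  obtain ⟨e, he⟩ : ∃ e, c₂ i₀ - c₁ i₀ = e + 1 := ⟨c₂ i₀ - c₁ i₀ - 1, by omega⟩
  rw [he, succ_nsmul', add_assoc] at hsum
  have hrest : e • (i₀ : M) + ∑ i ∈ Finset.univ.erase i₀, (c₂ i - c₁ i) • (i : M) ∈ N :=
    N.add_mem (N.nsmul_mem (hsN i₀) _) (N.sum_mem fun i _ => N.nsmul_mem (hsN i) _)
  have hin : (i₀ : M) + (e • (i₀ : M) +
      ∑ i ∈ Finset.univ.erase i₀, (c₂ i - c₁ i) • (i : M)) ∈ Q := by
    rw [hsum]; exact Q.zero_mem
  exact hi₀Q (hQ.mem_of_add_mem _ (hsN i₀) _ hrest hin).1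

end Groth.Agent.Helper17.AG35
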