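import Mathlib
import Groth.Prelude.Def_GmPts
import Groth.Prelude.Def_Magnet4
import Groth.Agent.Lib.Helper17.AG9
import Groth.Agent.Lib.Helper17.AG14
import Groth.Agent.Lib.Helper17.AG15
import Groth.Agent.Lib.Helper17.AG20
import Groth.Agent.Lib.Helper17.AG24
import Groth.Agent.Lib.Helper17.AG35

/-!
# Characters of the face morphism; monomial closed subschemes of `A(N)_S` (helper17)

* `charOfPt_faceMap_of_mem`, `charOfPt_faceMap_of_not_mem`: the character of `t ≫ faceMap`.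
* `Z S N 𝒩 ⟶ A(N)_S`: the closed subscheme cut out by the monomials `e^n`, `n ∈ 𝒩`; a point of
  `A(N)_S` factors through it iff its character vanishes on `𝒩` (`exists_factor`, `char_comp_emb`).
* the infinitesimal neighbourhoods `Zk k` of `A(Q)_S` in `A(N)_S` for a face `Q`, transition maps,
  and the nilpotent closed immersions `A(Q)_S ⟶ Zk (k+1)` (closed immersion, surjective).
-/

set_option autoImplicit false
universe u
open CategoryTheory CategoryTheory.Limits MonoidalCategory CartesianMonoidalCategory MonObj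
open AlgebraicGeometry Opposite

noncomputable section
namespace Groth.Agent.Helper17.AG36
open GmPts (baseZ toBaseZ)
open Groth.Agent.Helper17.AG14 Groth.Agent.Helper17.AG15 Groth.Agent.Helper17.AG24

section Face
variable {M : Type} [AddCommMonoid M] {S : Scheme.{u}} {T : Over S}
  {N F : AddSubmonoid M} (hF : Magnet.IsFace N F)

theorem specPt_faceMap (t : T ⟶ Magnet.AMonS S ↥F) :
    specPt (t ≫ Magnet.AMonS.faceMap S hF) =
      specPt t ≫ (Magnet.AMon.faceMap (ULift.{u} ℤ) hF).left := by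
  have h3 := GmPts.pullback_map_left_fst (S := S) (Magnet.AMon.faceMap (ULift.{u} ℤ) hF)
  exact (Category.assoc _ _ _).trans ((congrArg (t.left ≫ ·) h3).trans (Category.assoc _ _ _).symm)

theorem faceMap_appTop (n : ↥N) :
    (Magnet.AMon.faceMap (ULift.{u} ℤ) hF).left.appTop ((coordIso ↥N).inv (mono n)) =
      (coordIso ↥F).inv (Magnet.faceAlgHom (ULift.{u} ℤ) hF (mono n)) :=
  specMap_appTop_coordIso_inv (M := ↥N)
    (CommRingCat.ofHom (Magnet.faceAlgHom (ULift.{u} ℤ) hF).toRingHom) (mono n)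

theorem charOfPt_faceMap_of_mem (t : T ⟶ Magnet.AMonS S ↥F) (n : ↥N) (h : (n : M) ∈ F) :
    charOfPt (t ≫ Magnet.AMonS.faceMap S hF) (Multiplicative.ofAdd n) =
      charOfPt t (Multiplicative.ofAdd (⟨n, h⟩ : ↥F)) := by
  have e0 : (specPt (t ≫ Magnet.AMonS.faceMap S hF)).appTop ((coordIso ↥N).inv (mono n)) =
      (specPt t ≫ (Magnet.AMon.faceMap (ULift.{u} ℤ) hF).left).appTop
        ((coordIso ↥N).inv (mono n)) := by
    rw [specPt_faceMap]; rfl
  have e1 := GmPts.appTop_comp_apply (specPt t) (Magnet.AMon.faceMap (ULift.{u} ℤ) hF).left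
    ((coordIso ↥N).inv (mono n))
  have e2 := congrArg (fun z => (specPt t).appTop z) (faceMap_appTop hF n)
  have e3 : Magnet.faceAlgHom (ULift.{u} ℤ) hF (mono n) = mono (⟨n, h⟩ : ↥F) :=
    Magnet.faceAlgHom_single_of_mem (ULift.{u} ℤ) hF n h 1
  rw [e3] at e2
  exact e0.trans (e1.trans e2)

theorem charOfPt_faceMap_of_not_mem (t : T ⟶ Magnet.AMonS S ↥F) (n : ↥N) (h : (n : M) ∉ F) :
    charOfPt (t ≫ Magnet.AMonS.faceMap S hF) (Multiplicative.ofAdd n) = 0 := by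
  have e0 : (specPt (t ≫ Magnet.AMonS.faceMap S hF)).appTop ((coordIso ↥N).inv (mono n)) =
      (specPt t ≫ (Magnet.AMon.faceMap (ULift.{u} ℤ) hF).left).appTop
        ((coordIso ↥N).inv (mono n)) := by
    rw [specPt_faceMap]; rfl
  have e1 := GmPts.appTop_comp_apply (specPt t) (Magnet.AMon.faceMap (ULift.{u} ℤ) hF).left
    ((coordIso ↥N).inv (mono n))
  have e2 := congrArg (fun z => (specPt t).appTop z) (faceMap_appTop hF n)
  have e3 : Magnet.faceAlgHom (ULift.{u} ℤ) hF (mono n) = 0 :=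
    Magnet.faceAlgHom_single_of_not_mem (ULift.{u} ℤ) hF n h 1
  rw [e3] at e2
  have e4 : (fun z => (specPt t).appTop z) ((coordIso ↥F).inv (0 : Coord.{u} ↥F)) = 0 := by
    show (specPt t).appTop ((coordIso ↥F).inv (0 : Coord.{u} ↥F)) = 0
    rw [map_zero, map_zero]
  exact e0.trans (e1.trans (e2.trans e4))

theorem faceAlgHom_surjective (R : Type u) [CommRing R] :
    Function.Surjective (Magnet.faceAlgHom R hF) := fun x =>
  ⟨(MonoidAlgebra.mapDomainBialgHom R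
      (AddMonoidHom.toMultiplicative (AddSubmonoid.inclusion hF.le))).toAlgHom x,
    DFunLike.congr_fun (Magnet.faceAlgHom_comp_mapDomain R hF) x⟩

theorem isClosedImmersion_faceMapZ :
    IsClosedImmersion (Magnet.AMon.faceMap (ULift.{u} ℤ) hF).left :=
  IsClosedImmersion.spec_of_surjective
    (CommRingCat.ofHom (Magnet.faceAlgHom (ULift.{u} ℤ) hF).toRingHom)
    (faceAlgHom_surjective hF (ULift.{u} ℤ))

theorem isClosedImmersion_faceMapS :
    IsClosedImmersion (Magnet.AMonS.faceMap S hF).left :=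
  MorphismProperty.of_isPullback (P := @IsClosedImmersion)
    (AG9.isPullback_overPullback_map (toBaseZ S) (Magnet.AMon.faceMap (ULift.{u} ℤ) hF))
    (isClosedImmersion_faceMapZ hF)

end Face

/-! ### monomial closed subschemes -/
section Sub
variable {M : Type} [AddCommMonoid M] (S : Scheme.{u}) (N : AddSubmonoid M) (𝒩 : Set M)

/-- the ideal of `ℤ[N]` generated by the monomials with exponent in `𝒩` -/
def J : Ideal (Coord.{u} ↥N) := Ideal.span {c | ∃ n : ↥N, (n : M) ∈ 𝒩 ∧ c = mono n}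

/-- the quotient map -/
abbrev qm : CommRingCat.of (Coord.{u} ↥N) ⟶ CommRingCat.of (Coord.{u} ↥N ⧸ J.{u} N 𝒩) :=
  CommRingCat.ofHom (Ideal.Quotient.mk (J.{u} N 𝒩))

/-- the closed subscheme `V(e^n, n ∈ 𝒩)` of `A(N)_S`, as an object over `S` -/
def Z : Over S :=
  Over.mk (pullback.snd (Spec.map (qm.{u} N 𝒩)) (pullback.fst (DZ ↥N).hom (toBaseZ S)) ≫
    (Magnet.AMonS S ↥N).hom)

/-- the inclusion -/
def emb : Z S N 𝒩 ⟶ Magnet.AMonS S ↥N :=
  Over.homMk (pullback.snd (Spec.map (qm.{u} N 𝒩)) (pullback.fst (DZ ↥N).hom (toBaseZ S))) rfl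

instance isClosedImmersion_emb : IsClosedImmersion (emb S N 𝒩).left := by
  haveI : IsClosedImmersion (Spec.map (qm.{u} N 𝒩)) :=
    IsClosedImmersion.spec_of_surjective _ Ideal.Quotient.mk_surjective
  show IsClosedImmersion
    (pullback.snd (Spec.map (qm.{u} N 𝒩)) (pullback.fst (DZ ↥N).hom (toBaseZ S)))
  infer_instance

instance mono_emb : Mono (emb S N 𝒩) := by
  haveI : Mono ((Over.forget S).map (emb S N 𝒩)) := by
    show Mono (emb S N 𝒩).left
    infer_instance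
  exact (Over.forget S).mono_of_mono_map inferInstance

theorem char_emb (n : ↥N) (hn : (n : M) ∈ 𝒩) :
    charOfPt (emb S N 𝒩) (Multiplicative.ofAdd n) = 0 := by
  have h1 : specPt (emb S N 𝒩) =
      pullback.fst (Spec.map (qm.{u} N 𝒩)) (pullback.fst (DZ ↥N).hom (toBaseZ S)) ≫
        Spec.map (qm.{u} N 𝒩) :=
    pullback.condition.symm
  have e0 : charOfPt (emb S N 𝒩) (Multiplicative.ofAdd n) =
      (specPt (emb S N 𝒩)).appTop ((coordIso ↥N).inv (mono n)) := rfl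
  have e1 : (specPt (emb S N 𝒩)).appTop ((coordIso ↥N).inv (mono n)) =
      (pullback.fst (Spec.map (qm.{u} N 𝒩)) (pullback.fst (DZ ↥N).hom (toBaseZ S)) ≫
        Spec.map (qm.{u} N 𝒩)).appTop ((coordIso ↥N).inv (mono n)) := by
    rw [h1]; rfl
  have e2 := GmPts.appTop_comp_apply
    (pullback.fst (Spec.map (qm.{u} N 𝒩)) (pullback.fst (DZ ↥N).hom (toBaseZ S)))
    (Spec.map (qm.{u} N 𝒩)) ((coordIso ↥N).inv (mono n))
  have e3 : (Spec.map (qm.{u} N 𝒩)).appTop ((coordIso ↥N).inv (mono n)) =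
      (Scheme.ΓSpecIso (CommRingCat.of (Coord.{u} ↥N ⧸ J.{u} N 𝒩))).inv
        ((qm.{u} N 𝒩) (mono n)) :=
    specMap_appTop_coordIso_inv (M := ↥N) (qm.{u} N 𝒩) (mono n)
  have e4 : (qm.{u} N 𝒩) (mono n) = 0 := by
    show Ideal.Quotient.mk (J.{u} N 𝒩) (mono n) = 0
    rw [Ideal.Quotient.eq_zero_iff_mem]
    exact Ideal.subset_span ⟨n, hn, rfl⟩
  rw [e0, e1, e2, e3, e4, map_zero, map_zero]; rfl

theorem char_comp_emb {K : Over S} (z : K ⟶ Z S N 𝒩) (n : ↥N) (hn : (n : M) ∈ 𝒩) :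
    charOfPt (z ≫ emb S N 𝒩) (Multiplicative.ofAdd n) = 0 := by
  rw [charOfPt_comp_apply, char_emb S N 𝒩 n hn, map_zero]

theorem exists_factor {K : Over S} (p : K ⟶ Magnet.AMonS S ↥N)
    (h : ∀ n : ↥N, (n : M) ∈ 𝒩 → charOfPt p (Multiplicative.ofAdd n) = 0) :
    ∃ z : K ⟶ Z S N 𝒩, z ≫ emb S N 𝒩 = p := by
  have hle : J.{u} N 𝒩 ≤ RingHom.ker (ringHomOfPt p) := by
    unfold J
    rw [Ideal.span_le]
    rintro _ ⟨n, hn, rfl⟩
    exact h n hn
  have hker : ∀ c ∈ J.{u} N 𝒩, ringHomOfPt p c = 0 := fun c hc => hle hc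
  obtain ⟨ρb, hρb⟩ : ∃ ρb : (Coord.{u} ↥N ⧸ J.{u} N 𝒩) →+* Γ(K.left, ⊤),
      ρb.comp (Ideal.Quotient.mk (J.{u} N 𝒩)) = ringHomOfPt p :=
    ⟨Ideal.Quotient.lift (J.{u} N 𝒩) (ringHomOfPt p) hker, Ideal.Quotient.lift_comp_mk _ _ _⟩
  obtain ⟨w, hw⟩ : ∃ w : K.left ⟶ Spec (CommRingCat.of (Coord.{u} ↥N ⧸ J.{u} N 𝒩)),
      w = ΓSpec.adjunction.homEquiv K.left (op (CommRingCat.of (Coord.{u} ↥N ⧸ J.{u} N 𝒩)))
        (CommRingCat.ofHom ρb).op := ⟨_, rfl⟩
  have hwq : w ≫ Spec.map (qm.{u} N 𝒩) = specPt p := by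
    rw [← specOfChar_charOfPt p, hw]
    have hnat := ΓSpec.adjunction.homEquiv_naturality_right (X := K.left)
      (CommRingCat.ofHom ρb).op (qm.{u} N 𝒩).op
    have hcomp : qm.{u} N 𝒩 ≫ CommRingCat.ofHom ρb = homOfChar (charOfPt p) := by
      unfold homOfChar
      rw [ringHomOfChar_charOfPt, ← hρb]
      rfl
    have hop : (CommRingCat.ofHom ρb).op ≫ (qm.{u} N 𝒩).op = (homOfChar (charOfPt p)).op := by
      rw [← hcomp]; rfl
    refine hnat.symm.trans ?_
    exact congrArg (fun x => ΓSpec.adjunction.homEquiv K.left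
      (op (CommRingCat.of (Coord.{u} ↥N))) x) hop
  have hcond : w ≫ Spec.map (qm.{u} N 𝒩) = p.left ≫ pullback.fst (DZ ↥N).hom (toBaseZ S) := hwq
  obtain ⟨zl, hzl⟩ : ∃ zl : K.left ⟶ (Z S N 𝒩).left, zl = pullback.lift w p.left hcond :=
    ⟨_, rfl⟩
  have hz2 : zl ≫ (emb S N 𝒩).left = p.left := by
    rw [hzl]; exact pullback.lift_snd _ _ _
  have hzw : zl ≫ (Z S N 𝒩).hom = K.hom := by
    have e : (Z S N 𝒩).hom = (emb S N 𝒩).left ≫ (Magnet.AMonS S ↥N).hom := rfl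
    rw [e, ← Category.assoc, hz2, Over.w]
  exact ⟨Over.homMk zl hzw, Over.OverMorphism.ext hz2⟩

end Sub

/-! ### infinitesimal neighbourhoods of a face -/
section Nbhd
variable {M : Type} [AddCommGroup M] (S : Scheme.{u}) (N Q : AddSubmonoid M)

/-- the `k`-th infinitesimal neighbourhood of `A(Q)` in `A(N)` -/
abbrev Zk (k : ℕ) : Over S := Z S N (AG35.Nk N Q k)

abbrev embk (k : ℕ) : Zk S N Q k ⟶ Magnet.AMonS S ↥N := emb S N (AG35.Nk N Q k)

theorem exists_trans {k k' : ℕ} (hk : k ≤ k') :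
    ∃ t : Zk S N Q k ⟶ Zk S N Q k', t ≫ embk S N Q k' = embk S N Q k :=
  exists_factor S N _ (embk S N Q k) fun n hn => char_emb S N _ n (AG35.Nk_anti hk hn)

variable {N Q}

theorem exists_j (hQ : Magnet.IsFace N Q) (k : ℕ) :
    ∃ j : Magnet.AMonS S ↥Q ⟶ Zk S N Q (k + 1),
      j ≫ embk S N Q (k + 1) = Magnet.AMonS.faceMap S hQ :=
  exists_factor S N _ _ fun n hn => by
    have h := charOfPt_faceMap_of_not_mem hQ (𝟙 (Magnet.AMonS S ↥Q)) n
      (AG35.not_mem_face_of_mem_Nk hQ k hn)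
    rwa [Category.id_comp] at h

theorem isClosedImmersion_j (hQ : Magnet.IsFace N Q) (k : ℕ)
    (j : Magnet.AMonS S ↥Q ⟶ Zk S N Q (k + 1))
    (hj : j ≫ embk S N Q (k + 1) = Magnet.AMonS.faceMap S hQ) : IsClosedImmersion j.left := by
  haveI : IsClosedImmersion (j.left ≫ (embk S N Q (k + 1)).left) := by
    rw [← Over.comp_left, hj]
    exact isClosedImmersion_faceMapS hQ
  exact IsClosedImmersion.of_comp_isClosedImmersion j.left (embk S N Q (k + 1)).left

theorem surjective_j (hQ : Magnet.IsFace N Q) (k : ℕ)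
    (j : Magnet.AMonS S ↥Q ⟶ Zk S N Q (k + 1))
    (hj : j ≫ embk S N Q (k + 1) = Magnet.AMonS.faceMap S hQ) : Surjective j.left := by
  constructor
  intro z
  obtain ⟨zs, hzs⟩ : ∃ zs : Spec ((Zk S N Q (k + 1)).left.residueField z) ⟶
      (Zk S N Q (k + 1)).left, zs = (Zk S N Q (k + 1)).left.fromSpecResidueField z := ⟨_, rfl⟩
  obtain ⟨zK, hzK⟩ : ∃ zK : Over.mk (zs ≫ (Zk S N Q (k + 1)).hom) ⟶ Zk S N Q (k + 1),
      zK = Over.homMk zs rfl := ⟨_, rfl⟩
  have hzKl : zK.left = zs := by rw [hzK]; rfl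
  haveI : _root_.IsReduced Γ((Over.mk (zs ≫ (Zk S N Q (k + 1)).hom)).left, ⊤) := by
    show _root_.IsReduced Γ(Spec ((Zk S N Q (k + 1)).left.residueField z), ⊤)
    infer_instance
  obtain ⟨p, hp⟩ : ∃ p : Over.mk (zs ≫ (Zk S N Q (k + 1)).hom) ⟶ Magnet.AMonS S ↥N,
      p = zK ≫ embk S N Q (k + 1) := ⟨_, rfl⟩
  have hvan : ∀ n : ↥N, (n : M) ∉ Q → charOfPt p (Multiplicative.ofAdd n) = 0 := by
    intro n hn
    have h1 : charOfPt p (Multiplicative.ofAdd ((k + 1) • n)) = 0 := by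
      rw [hp]
      refine char_comp_emb S N _ zK _ ?_
      rw [AddSubmonoidClass.coe_nsmul]
      exact AG35.nsmul_mem_Nk n.2 hn (k + 1)
    rw [ofAdd_nsmul, map_pow] at h1
    exact IsNilpotent.eq_zero ⟨k + 1, h1⟩
  have hfac : p = (p ≫ Magnet.AMonS.map S (AddSubmonoid.inclusion hQ.le)) ≫
      Magnet.AMonS.faceMap S hQ := by
    apply charOfPt_injective
    refine MonoidHom.ext fun n' => ?_
    obtain ⟨n, rfl⟩ : ∃ n : ↥N, Multiplicative.ofAdd n = n' := ⟨Multiplicative.toAdd n', rfl⟩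
    by_cases hn : (n : M) ∈ Q
    · rw [charOfPt_faceMap_of_mem hQ _ n hn, charOfPt_map_apply]
      rfl
    · rw [charOfPt_faceMap_of_not_mem hQ _ n hn, hvan n hn]
  have hz : zK = (p ≫ Magnet.AMonS.map S (AddSubmonoid.inclusion hQ.le)) ≫ j := by
    rw [← cancel_mono (embk S N Q (k + 1)), Category.assoc, hj, ← hfac, hp]
  obtain ⟨pt, hpt⟩ : ∃ pt : ↥(Spec ((Zk S N Q (k + 1)).left.residueField z)),
      pt = IsLocalRing.closedPoint ((Zk S N Q (k + 1)).left.residueField z) := ⟨_, rfl⟩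
  refine ⟨(p ≫ Magnet.AMonS.map S (AddSubmonoid.inclusion hQ.le)).left pt, ?_⟩
  have h2 : zs = (p ≫ Magnet.AMonS.map S (AddSubmonoid.inclusion hQ.le)).left ≫ j.left :=
    hzKl.symm.trans (congrArg (fun w => w.left) hz)
  have h3 : zs pt = z := by
    rw [hzs]; exact Scheme.fromSpecResidueField_apply _ _
  have h4 : zs pt = j.left ((p ≫ Magnet.AMonS.map S (AddSubmonoid.inclusion hQ.le)).left pt) := by
    have := congrArg (fun w : Spec ((Zk S N Q (k + 1)).left.residueField z) ⟶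
      (Zk S N Q (k + 1)).left => w pt) h2
    exact this.trans (Scheme.Hom.comp_apply _ _ _)
  exact h4.symm.trans h3

end Nbhd

end Groth.Agent.Helper17.AG36
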