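import Mathlib
import Groth.Prelude.Def_GmPts
import Groth.Prelude.Def_Magnet4
import Groth.Agent.Lib.Helper17.AG9
import Groth.Agent.Lib.Helper17.AG14
import Groth.Agent.Lib.Helper17.AG15
import Groth.Agent.Lib.Helper17.AG17
import Groth.Agent.Lib.Helper17.AG20
import Groth.Agent.Lib.Helper17.AG22
import Groth.Agent.Lib.Helper17.AG24
import Groth.Agent.Lib.Helper17.AG35
import Groth.Agent.Lib.Helper17.AG36

/-!
# Functions on the infinitesimal neighbourhoods `Zk k × T` (helper17)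

For affine `T`: the kernel of `Γ(A(N) × T) → Γ(Zk k × T)` is the monomial ideal of `Nk N Q k`
(`kerE`); for `N` finitely generated and `Q` a face the `Zk k × T` are jointly schematically dense
in `A(N) × T` (`inter_ker`, `hom_ext_family`), also after multiplying with `A(M)`.
-/

set_option autoImplicit false
universe u
open CategoryTheory CategoryTheory.Limits MonoidalCategory CartesianMonoidalCategory MonObj
open AlgebraicGeometry Opposite

noncomputable section
namespace Groth.Agent.Helper17.AG37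
open Groth.Agent.Helper17.AG14 Groth.Agent.Helper17.AG15 Groth.Agent.Helper17.AG24
open Groth.Agent.Helper17.AG36

/-! ### elements of a monoid algebra supported in a monoid ideal -/
section Alg

/-- the ideal of elements supported in a set closed under multiplication by the monoid -/
def supp (R : Type*) [CommRing R] {G : Type*} [CommMonoid G] (𝒩 : Set G)
    (h𝒩 : ∀ a ∈ 𝒩, ∀ b, a * b ∈ 𝒩) : Ideal (MonoidAlgebra R G) where
  carrier := {y | ∀ g, g ∉ 𝒩 → y.coeff g = 0}
  add_mem' := by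
    intro x y hx hy g hg
    rw [MonoidAlgebra.coeff_add, Finsupp.add_apply, hx g hg, hy g hg, add_zero]
  zero_mem' := by
    intro g _
    simp
  smul_mem' := by
    intro x y hy g hg
    classical
    rw [smul_eq_mul, MonoidAlgebra.coeff_mul]
    unfold Finsupp.sum
    refine Finset.sum_eq_zero fun m₁ _ => Finset.sum_eq_zero fun m₂ _ => ?_
    show (if m₁ * m₂ = g then x.coeff m₁ * y.coeff m₂ else 0) = 0
    split_ifs with h
    · have hm₂ : m₂ ∉ 𝒩 := fun hm => hg (by rw [← h, mul_comm]; exact h𝒩 m₂ hm m₁)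
      rw [hy m₂ hm₂, mul_zero]
    · rfl

theorem mem_supp {R : Type*} [CommRing R] {G : Type*} [CommMonoid G] (𝒩 : Set G)
    (h𝒩 : ∀ a ∈ 𝒩, ∀ b, a * b ∈ 𝒩) (y : MonoidAlgebra R G) :
    y ∈ supp R 𝒩 h𝒩 ↔ ∀ g, g ∉ 𝒩 → y.coeff g = 0 := Iff.rfl

end Alg

variable {M : Type} [AddCommGroup M] {S : Scheme.{u}} (N Q : AddSubmonoid M) (T : Over S)

/-- `A(N) × T` -/
abbrev W : Over S := Magnet.AMonS S ↥N ⊗ T

/-- the `k`-th infinitesimal neighbourhood of `A(Q) × T` in `A(N) × T` -/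
abbrev Wk (k : ℕ) : Over S := Zk S N Q k ⊗ T

/-- its inclusion -/
abbrev incT (k : ℕ) : Wk N Q T k ⟶ W N T := embk S N Q k ▷ T

theorem isClosedImmersion_incT (k : ℕ) : IsClosedImmersion (incT N Q T k).left :=
  MorphismProperty.of_isPullback (P := @IsClosedImmersion)
    ((AG9.isPullback_whiskerRight_fst (embk S N Q k) T).map (Over.forget S))
    (isClosedImmersion_emb S N _)

theorem isAffine_Wk [IsAffine T.left] (k : ℕ) : IsAffine (Wk N Q T k).left := by
  haveI : IsAffine (W N T).left := AG22.isAffine_tensor_left ↥N T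
  haveI := isClosedImmersion_incT N Q T k
  exact (IsClosedImmersion.isAffine_surjective_of_isAffine (incT N Q T k).left).1

/-- the multiplicative set of exponents of `Nk` -/
def NkM (k : ℕ) : Set (Multiplicative ↥N) :=
  {g | ((Multiplicative.toAdd g : ↥N) : M) ∈ AG35.Nk N Q k}

theorem NkM_mul (k : ℕ) : ∀ a ∈ NkM N Q k, ∀ b, a * b ∈ NkM N Q k := by
  intro a ha b
  show ((Multiplicative.toAdd (a * b) : ↥N) : M) ∈ AG35.Nk N Q k
  rw [toAdd_mul, AddSubmonoid.coe_add]
  exact AG35.Nk_add k ha (Multiplicative.toAdd b).2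

theorem ker_le [IsAffine T.left] (k : ℕ) (x : Γ((W N T).left, ⊤))
    (hx : pb (incT N Q T k) x = 0) :
    x ∈ Ideal.span {y : Γ((W N T).left, ⊤) | ∃ n : ↥N, (n : M) ∈ AG35.Nk N Q k ∧
      y = E ↥N T (MonoidAlgebra.single (Multiplicative.ofAdd n) 1)} := by
  haveI hWaff : IsAffine (W N T).left := AG22.isAffine_tensor_left ↥N T
  obtain ⟨𝔤, h𝔤⟩ : ∃ 𝔤 : Ideal Γ((W N T).left, ⊤),
      𝔤 = Ideal.span {y : Γ((W N T).left, ⊤) | ∃ n : ↥N, (n : M) ∈ AG35.Nk N Q k ∧
        y = E ↥N T (MonoidAlgebra.single (Multiplicative.ofAdd n) 1)} := ⟨_, rfl⟩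
  rw [← h𝔤]
  obtain ⟨τ₀, hτ₀⟩ : ∃ τ₀ : Spec (CommRingCat.of (Γ((W N T).left, ⊤) ⧸ 𝔤)) ⟶ (W N T).left,
      τ₀ = Spec.map (CommRingCat.ofHom (Ideal.Quotient.mk 𝔤)) ≫ (W N T).left.isoSpec.inv :=
    ⟨_, rfl⟩
  have hτapp : ∀ y : Γ((W N T).left, ⊤), τ₀.appTop y =
      (Scheme.ΓSpecIso (CommRingCat.of (Γ((W N T).left, ⊤) ⧸ 𝔤))).inv
        (Ideal.Quotient.mk 𝔤 y) := by
    intro y
    rw [hτ₀, AG17.appTop_comp_apply, isoSpec_inv_appTop']
    exact specMap_appTop_inv (R := Γ((W N T).left, ⊤))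
      (CommRingCat.ofHom (Ideal.Quotient.mk 𝔤)) y
  have hτzero : ∀ y : Γ((W N T).left, ⊤), τ₀.appTop y = 0 ↔ y ∈ 𝔤 := by
    intro y
    rw [hτapp, ← Ideal.Quotient.eq_zero_iff_mem]
    exact map_eq_zero_iff _ (ConcreteCategory.bijective_of_isIso
      (Scheme.ΓSpecIso (CommRingCat.of (Γ((W N T).left, ⊤) ⧸ 𝔤))).inv).1
  obtain ⟨τ, hτ⟩ : ∃ τ : Over.mk (τ₀ ≫ (W N T).hom) ⟶ W N T, τ = Over.homMk τ₀ rfl := ⟨_, rfl⟩
  have hτl : τ.left = τ₀ := by rw [hτ]; rfl
  have hpbτ : ∀ y : Γ((W N T).left, ⊤), pb τ y = τ₀.appTop y := fun y =>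
    congrArg (fun t : (Over.mk (τ₀ ≫ (W N T).hom)).left ⟶ (W N T).left => t.appTop.hom y) hτl
  have hchar : ∀ n : ↥N, (n : M) ∈ AG35.Nk N Q k →
      charOfPt (τ ≫ fst (Magnet.AMonS S ↥N) T) (Multiplicative.ofAdd n) = 0 := by
    intro n hn
    rw [charOfPt_comp_apply]
    have e1 : charOfPt (fst (Magnet.AMonS S ↥N) T) (Multiplicative.ofAdd n) =
        E ↥N T (MonoidAlgebra.single (Multiplicative.ofAdd n) 1) := by
      rw [E_single, map_one, _root_.one_mul]
    rw [e1, hpbτ, hτzero, h𝔤]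
    exact Ideal.subset_span ⟨n, hn, rfl⟩
  obtain ⟨z, hz⟩ := exists_factor S N _ (τ ≫ fst (Magnet.AMonS S ↥N) T) hchar
  have hfac : lift z (τ ≫ snd (Magnet.AMonS S ↥N) T) ≫ incT N Q T k = τ := by
    rw [lift_whiskerRight, hz]
    exact lift_comp_fst_snd τ
  have h0 : pb τ x = 0 := by
    rw [← hfac, pb_comp_apply, hx, map_zero]
  rw [hpbτ, hτzero] at h0
  exact h0

theorem kerE [IsAffine T.left] (k : ℕ) (c : MonoidAlgebra Γ(T.left, ⊤) (Multiplicative ↥N))
    (hc : pb (incT N Q T k) (E ↥N T c) = 0) (g : Multiplicative ↥N)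
    (hg : g ∉ NkM N Q k) : c.coeff g = 0 := by
  have h1 := ker_le N Q T k _ hc
  have hle : Ideal.span {y : Γ((W N T).left, ⊤) | ∃ n : ↥N, (n : M) ∈ AG35.Nk N Q k ∧
      y = E ↥N T (MonoidAlgebra.single (Multiplicative.ofAdd n) 1)} ≤
      Ideal.map (E ↥N T) (supp Γ(T.left, ⊤) (NkM N Q k) (NkM_mul N Q k)) := by
    rw [Ideal.span_le]
    rintro _ ⟨n, hn, rfl⟩
    refine Ideal.mem_map_of_mem _ ?_
    intro g' hg'
    classical
    rw [MonoidAlgebra.coeff_single, Finsupp.single_apply, if_neg]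
    rintro rfl
    exact hg' hn
  have h2 := hle h1
  rw [Ideal.mem_map_iff_of_surjective _ (E_bijective (M := ↥N) T).2] at h2
  obtain ⟨c', hc', hcc'⟩ := h2
  have : c' = c := (E_bijective (M := ↥N) T).1 hcc'
  rw [← this]
  exact hc' g hg

theorem inter_ker [IsAffine T.left] (hQ : Magnet.IsFace N Q) (hfg : N.FG)
    (x : Γ((W N T).left, ⊤)) (hx : ∀ k, pb (incT N Q T k) x = 0) : x = 0 := by
  obtain ⟨c, rfl⟩ := (E_bijective (M := ↥N) T).2 x
  have hc0 : c = 0 := by
    apply MonoidAlgebra.ext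
    apply Finsupp.ext
    intro g
    obtain ⟨k, hk⟩ := AG35.dickson hQ hfg ((Multiplicative.toAdd g : ↥N) : M)
    rw [kerE N Q T k c (hx k) g hk]
    rfl
  rw [hc0, map_zero]

/-- the `Zk k × T` are jointly schematically dense in `A(N) × T` -/
theorem hom_ext_family [IsAffine T.left] (hQ : Magnet.IsFace N Q) (hfg : N.FG) {Y : Over S}
    [IsAffine Y.left] (u v : W N T ⟶ Y) (h : ∀ k, incT N Q T k ≫ u = incT N Q T k ≫ v) :
    u = v := by
  apply Over.OverMorphism.ext
  apply ext_of_isAffine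
  apply CommRingCat.hom_ext
  ext r
  have h0 : pb u r - pb v r = 0 := by
    apply inter_ker N Q T hQ hfg
    intro k
    rw [map_sub, ← pb_comp_apply, ← pb_comp_apply, h k, sub_self]
  exact sub_eq_zero.mp h0

/-- the same after multiplying with `A(M)` -/
theorem inter_ker_A [IsAffine T.left] (hQ : Magnet.IsFace N Q) (hfg : N.FG)
    (y : Γ((Magnet.AMonS S M ⊗ W N T).left, ⊤))
    (hy : ∀ k, pb (Magnet.AMonS S M ◁ incT N Q T k) y = 0) : y = 0 := by
  haveI : IsAffine (W N T).left := AG22.isAffine_tensor_left ↥N T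
  obtain ⟨C, rfl⟩ := (E_bijective (M := M) (W N T)).2 y
  have hC0 : C = 0 := by
    apply MonoidAlgebra.ext
    apply Finsupp.ext
    intro g
    have hg : C.coeff g = 0 := by
      apply inter_ker N Q T hQ hfg
      intro k
      haveI : IsAffine (Wk N Q T k).left := isAffine_Wk N Q T k
      have h1 := hy k
      rw [E_whiskerLeft] at h1
      have h2 : MonoidAlgebra.mapRingHom (Multiplicative M) (pb (incT N Q T k)) C = 0 :=
        (E_bijective (M := M) (Wk N Q T k)).1 (h1.trans (map_zero _).symm)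
      have h3 := congrArg (fun D => D.coeff g) h2
      simp only [MonoidAlgebra.coeff_mapRingHom] at h3
      exact h3
    rw [hg]
    rfl
  rw [hC0, map_zero]

theorem hom_ext_family_A [IsAffine T.left] (hQ : Magnet.IsFace N Q) (hfg : N.FG) {Y : Over S}
    [IsAffine Y.left] (u v : Magnet.AMonS S M ⊗ W N T ⟶ Y)
    (h : ∀ k, (Magnet.AMonS S M ◁ incT N Q T k) ≫ u = (Magnet.AMonS S M ◁ incT N Q T k) ≫ v) :
    u = v := by
  apply Over.OverMorphism.ext
  apply ext_of_isAffine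
  apply CommRingCat.hom_ext
  ext r
  have h0 : pb u r - pb v r = 0 := by
    apply inter_ker_A N Q T hQ hfg
    intro k
    rw [map_sub, ← pb_comp_apply, ← pb_comp_apply, h k, sub_self]
  exact sub_eq_zero.mp h0

end Groth.Agent.Helper17.AG37
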