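import Mathlib
import Groth.Prelude.Def_GmPts
import Groth.Prelude.Def_Magnet4
import Groth.Agent.Lib.Helper16.Sch.NilLift2
import Groth.Agent.Lib.Helper17.AG9
import Groth.Agent.Lib.Helper17.AG14
import Groth.Agent.Lib.Helper17.AG15
import Groth.Agent.Lib.Helper17.AG17
import Groth.Agent.Lib.Helper17.AG20
import Groth.Agent.Lib.Helper17.AG21
import Groth.Agent.Lib.Helper17.AG22
import Groth.Agent.Lib.Helper17.AG24
import Groth.Agent.Lib.Helper17.AG35
import Groth.Agent.Lib.Helper17.AG36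
import Groth.Agent.Lib.Helper17.AG37

/-!
# Gradings on functions: comodule decomposition, homogeneous functions on `Zk k × T` (helper17)

* `decomp`: for an action of `A(M)` on an affine `Qo`, every function on `Qo` is a finite sum of
  homogeneous functions.
* the action of `A(M)` on `A(N) × T` and on the infinitesimal neighbourhoods `Zk k × T`.
* `homog`: a homogeneous function of degree `g` on `Zk k × T` is the restriction of a function on
  `A(N) × T` supported in the fibre of `N → M` over `g`.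
* unique lifting along surjective closed immersions for étale morphisms, in `Over S`.
-/

set_option autoImplicit false
universe u
open CategoryTheory CategoryTheory.Limits MonoidalCategory CartesianMonoidalCategory MonObj
open AlgebraicGeometry Opposite

noncomputable section
namespace Groth.Agent.Helper17.AG38
open Groth.Agent.Helper17.AG14 Groth.Agent.Helper17.AG15 Groth.Agent.Helper17.AG24
open Groth.Agent.Helper17.AG36 Groth.Agent.Helper17.AG37

variable {S : Scheme.{u}}

theorem pb_id {W : Over S} (z : Γ(W.left, ⊤)) : pb (𝟙 W) z = z := by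
  simp [pb]

/-! ### comodule decomposition -/
section Decomp
variable {M : Type} [AddCommMonoid M]

theorem mulT_E (T' : Over S) (c : MonoidAlgebra Γ(T'.left, ⊤) (Multiplicative M)) :
    ∃ D : MonoidAlgebra Γ((Magnet.AMonS S M ⊗ T').left, ⊤) (Multiplicative M),
      pb (mulT M T') (E M T' c) = E M (Magnet.AMonS S M ⊗ T') D ∧
      ∀ g, D.coeff g = E M T' (MonoidAlgebra.single g (c.coeff g)) := by
  induction c using MonoidAlgebra.induction_linear with
  | zero => exact ⟨0, by simp, fun g => by simp⟩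
  | add x y hx hy =>
    obtain ⟨D₁, e₁, k₁⟩ := hx
    obtain ⟨D₂, e₂, k₂⟩ := hy
    refine ⟨D₁ + D₂, by rw [map_add, map_add, map_add, e₁, e₂], fun g => ?_⟩
    simp only [MonoidAlgebra.coeff_add, Finsupp.add_apply, k₁, k₂, MonoidAlgebra.single_add,
      map_add]
  | single g' b =>
    refine ⟨MonoidAlgebra.single g' (E M T' (MonoidAlgebra.single g' b)), E_mulT T' g' b,
      fun g => ?_⟩
    rw [MonoidAlgebra.coeff_single, MonoidAlgebra.coeff_single]
    by_cases hg : g' = g
    · subst hg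
      rw [Finsupp.single_eq_same, Finsupp.single_eq_same]
    · rw [Finsupp.single_eq_of_ne' hg, Finsupp.single_eq_of_ne' hg, MonoidAlgebra.single_zero,
        map_zero]

theorem mulT_act {Qo : Over S} (a : Magnet.MonAct (Magnet.AMonS S M) Qo) :
    mulT M Qo ≫ a.act = (Magnet.AMonS S M ◁ a.act) ≫ a.act := by
  apply Magnet.hom_ext_lift₂
  intro K g y
  obtain ⟨h, x, rfl⟩ : ∃ h x, y = lift h x :=
    ⟨y ≫ fst _ _, y ≫ snd _ _, (lift_comp_fst_snd y).symm⟩
  unfold mulT
  rw [comp_lift_assoc, lift_whiskerLeft_assoc, MonObj.comp_mul, lift_fst, lift_snd_assoc,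
    lift_snd_assoc, lift_fst, lift_snd, Magnet.MonAct.lift_mul_act]

theorem ev_one_id {Qo : Over S} (c : MonoidAlgebra Γ(Qo.left, ⊤) (Multiplicative M)) :
    ev (1 : Qo ⟶ Magnet.AMonS S M) (𝟙 Qo) c = c.coeff.sum fun _ r => r := by
  induction c using MonoidAlgebra.induction_linear with
  | zero => simp
  | add x y hx hy =>
    rw [map_add, hx, hy, MonoidAlgebra.coeff_add]
    exact (Finsupp.sum_add_index' (fun _ => rfl) (fun _ _ _ => rfl)).symm
  | single g b =>
    rw [ev_single, pb_id, charOfPt_one, MonoidHom.one_apply, _root_.mul_one,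
      MonoidAlgebra.coeff_single, Finsupp.sum_single_index rfl]

/-- every function on an affine `Qo` with an `A(M)`-action is a finite sum of homogeneous ones -/
theorem decomp {Qo : Over S} [IsAffine Qo.left] (a : Magnet.MonAct (Magnet.AMonS S M) Qo)
    (q : Γ(Qo.left, ⊤)) :
    ∃ c : MonoidAlgebra Γ(Qo.left, ⊤) (Multiplicative M),
      (q = c.coeff.sum fun _ r => r) ∧
      ∀ g, pb a.act (c.coeff g) = E M Qo (MonoidAlgebra.single g (c.coeff g)) := by
  haveI : IsAffine (Magnet.AMonS S M ⊗ Qo).left := AG22.isAffine_tensor_left M Qo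
  obtain ⟨c, hc⟩ := (E_bijective (M := M) Qo).2 (pb a.act q)
  refine ⟨c, ?_, fun g => ?_⟩
  · have h1 : pb (lift (1 : Qo ⟶ Magnet.AMonS S M) (𝟙 Qo)) (pb a.act q) = q := by
      rw [← pb_comp_apply, a.lift_one_act, pb_id]
    rw [← hc, pb_E, lift_fst, lift_snd, ev_one_id] at h1
    exact h1.symm
  · obtain ⟨D, hD, hDk⟩ := mulT_E Qo c
    have h2 : pb (mulT M Qo) (pb a.act q) = pb (Magnet.AMonS S M ◁ a.act) (pb a.act q) := by
      rw [← pb_comp_apply, ← pb_comp_apply, mulT_act]
    rw [← hc, hD, E_whiskerLeft] at h2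
    have h3 := (E_bijective (M := M) (Magnet.AMonS S M ⊗ Qo)).1 h2
    rw [← hDk g, h3, MonoidAlgebra.coeff_mapRingHom]

end Decomp

/-! ### the action on `A(N) × T` and on the infinitesimal neighbourhoods -/
section Act
variable {M : Type} [AddCommGroup M] (N Q : AddSubmonoid M) (T : Over S)

/-- the action of `A(M)` on `A(N) × T` -/
abbrev actW : Magnet.AMonS S M ⊗ W N T ⟶ W N T :=
  ((Magnet.subAct S M N).prod (Magnet.MonAct.trivial (Magnet.AMonS S M) T)).act

theorem actW_formula {K : Over S} (g : K ⟶ Magnet.AMonS S M) (p : K ⟶ Magnet.AMonS S ↥N)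
    (t : K ⟶ T) :
    lift g (lift p t) ≫ actW N T = lift ((g ≫ Magnet.AMonS.map S N.subtype) * p) t := by
  rw [Magnet.MonAct.lift_prod_act, Magnet.MonAct.lift_trivial_act, AG21.subAct_formula']

/-- the coaction on functions of `A(N) × T` -/
theorem actW_E (c : MonoidAlgebra Γ(T.left, ⊤) (Multiplicative ↥N)) :
    ∃ D : MonoidAlgebra Γ((W N T).left, ⊤) (Multiplicative M),
      pb (actW N T) (E ↥N T c) = E M (W N T) D ∧
      ∀ g, ∃ cg : MonoidAlgebra Γ(T.left, ⊤) (Multiplicative ↥N), D.coeff g = E ↥N T cg ∧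
        ∀ n' : Multiplicative ↥N, AddMonoidHom.toMultiplicative N.subtype n' ≠ g →
          cg.coeff n' = 0 := by
  induction c using MonoidAlgebra.induction_linear with
  | zero => exact ⟨0, by simp, fun g => ⟨0, by simp, fun _ _ => by simp⟩⟩
  | add x y hx hy =>
    obtain ⟨D₁, e₁, k₁⟩ := hx
    obtain ⟨D₂, e₂, k₂⟩ := hy
    refine ⟨D₁ + D₂, by rw [map_add, map_add, map_add, e₁, e₂], fun g => ?_⟩
    obtain ⟨c₁, h₁, s₁⟩ := k₁ g
    obtain ⟨c₂, h₂, s₂⟩ := k₂ g
    refine ⟨c₁ + c₂, by rw [MonoidAlgebra.coeff_add, Finsupp.add_apply, h₁, h₂, map_add],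
      fun n' hn' => ?_⟩
    rw [MonoidAlgebra.coeff_add, Finsupp.add_apply, s₁ n' hn', s₂ n' hn', add_zero]
  | single n' b =>
    obtain ⟨n, rfl⟩ : ∃ n : ↥N, Multiplicative.ofAdd n = n' := ⟨Multiplicative.toAdd n', rfl⟩
    have hD : pb (actW N T) (E ↥N T (MonoidAlgebra.single (Multiplicative.ofAdd n) b)) =
        E M (W N T) (MonoidAlgebra.single (Multiplicative.ofAdd (n : M))
          (E ↥N T (MonoidAlgebra.single (Multiplicative.ofAdd n) b))) := by
      have hact1 : actW N T ≫ fst (Magnet.AMonS S ↥N) T =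
          (fst (Magnet.AMonS S M) (W N T) ≫ Magnet.AMonS.map S N.subtype) *
            (snd (Magnet.AMonS S M) (W N T) ≫ fst (Magnet.AMonS S ↥N) T) := by
        have := actW_formula N T (fst (Magnet.AMonS S M) (W N T))
          (snd (Magnet.AMonS S M) (W N T) ≫ fst (Magnet.AMonS S ↥N) T)
          (snd (Magnet.AMonS S M) (W N T) ≫ snd (Magnet.AMonS S ↥N) T)
        rw [lift_comp_fst_snd, lift_fst_snd, Category.id_comp] at this
        rw [this, lift_fst]
      have hact2 : actW N T ≫ snd (Magnet.AMonS S ↥N) T =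
          snd (Magnet.AMonS S M) (W N T) ≫ snd (Magnet.AMonS S ↥N) T := by
        have := actW_formula N T (fst (Magnet.AMonS S M) (W N T))
          (snd (Magnet.AMonS S M) (W N T) ≫ fst (Magnet.AMonS S ↥N) T)
          (snd (Magnet.AMonS S M) (W N T) ≫ snd (Magnet.AMonS S ↥N) T)
        rw [lift_comp_fst_snd, lift_fst_snd, Category.id_comp] at this
        rw [this, lift_snd]
      rw [pb_E, ev_single, hact1, hact2, charOfPt_mul, MonoidHom.mul_apply, charOfPt_map_apply,
        E_single, E_single, map_mul, charOfPt_comp_apply, pb_comp_apply]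
      exact (by intro a b c; ring :
        ∀ a b c : Γ((Magnet.AMonS S M ⊗ W N T).left, ⊤), a * (b * c) = a * c * b) _ _ _
    refine ⟨_, hD, fun g => ?_⟩
    by_cases hg : Multiplicative.ofAdd (n : M) = g
    · refine ⟨MonoidAlgebra.single (Multiplicative.ofAdd n) b, ?_, fun n'' hn'' => ?_⟩
      · rw [MonoidAlgebra.coeff_single, hg, Finsupp.single_eq_same]
      · rw [MonoidAlgebra.coeff_single, Finsupp.single_eq_of_ne']
        rintro rfl
        exact hn'' hg
    · refine ⟨0, ?_, fun _ _ => by simp⟩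
      rw [MonoidAlgebra.coeff_single, Finsupp.single_eq_of_ne' hg, map_zero]

instance mono_incT (k : ℕ) : Mono (incT N Q T k) := by
  haveI := isClosedImmersion_incT N Q T k
  haveI : Mono ((Over.forget S).map (incT N Q T k)) := by
    show Mono (incT N Q T k).left
    infer_instance
  exact (Over.forget S).mono_of_mono_map inferInstance

theorem exists_actk (k : ℕ) :
    ∃ m : Magnet.AMonS S M ⊗ Wk N Q T k ⟶ Wk N Q T k,
      m ≫ incT N Q T k = (Magnet.AMonS S M ◁ incT N Q T k) ≫ actW N T := by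
  obtain ⟨g, hg⟩ : ∃ g : Magnet.AMonS S M ⊗ Wk N Q T k ⟶ Magnet.AMonS S M,
      g = fst _ _ := ⟨_, rfl⟩
  obtain ⟨zz, hzz⟩ : ∃ zz : Magnet.AMonS S M ⊗ Wk N Q T k ⟶ Zk S N Q k,
      zz = snd _ _ ≫ fst _ _ := ⟨_, rfl⟩
  obtain ⟨tt, htt⟩ : ∃ tt : Magnet.AMonS S M ⊗ Wk N Q T k ⟶ T,
      tt = snd _ _ ≫ snd _ _ := ⟨_, rfl⟩
  have hchar : ∀ n : ↥N, (n : M) ∈ AG35.Nk N Q k →
      charOfPt ((g ≫ Magnet.AMonS.map S N.subtype) * (zz ≫ embk S N Q k))
        (Multiplicative.ofAdd n) = 0 := by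
    intro n hn
    rw [charOfPt_mul, MonoidHom.mul_apply, char_comp_emb S N _ zz n hn, mul_zero]
  obtain ⟨z', hz'⟩ := exists_factor S N _ _ hchar
  refine ⟨lift z' tt, ?_⟩
  have e1 : (Magnet.AMonS S M ◁ incT N Q T k) = lift g (lift (zz ≫ embk S N Q k) tt) := by
    apply CartesianMonoidalCategory.hom_ext
    · rw [whiskerLeft_fst, lift_fst, hg]
    · rw [whiskerLeft_snd, lift_snd, hzz, htt]
      apply CartesianMonoidalCategory.hom_ext
      · rw [Category.assoc, whiskerRight_fst, lift_fst, Category.assoc]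
      · rw [Category.assoc, whiskerRight_snd, lift_snd]
  rw [lift_whiskerRight, hz', e1, actW_formula]

theorem actk_snd (k : ℕ) (m : Magnet.AMonS S M ⊗ Wk N Q T k ⟶ Wk N Q T k)
    (hm : m ≫ incT N Q T k = (Magnet.AMonS S M ◁ incT N Q T k) ≫ actW N T) :
    m ≫ snd (Zk S N Q k) T = snd _ _ ≫ snd (Zk S N Q k) T := by
  have h1 : incT N Q T k ≫ snd (Magnet.AMonS S ↥N) T = snd (Zk S N Q k) T :=
    whiskerRight_snd _ _
  have h2 : actW N T ≫ snd (Magnet.AMonS S ↥N) T =
      snd (Magnet.AMonS S M) (W N T) ≫ snd (Magnet.AMonS S ↥N) T := by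
    have := actW_formula N T (fst (Magnet.AMonS S M) (W N T))
      (snd (Magnet.AMonS S M) (W N T) ≫ fst (Magnet.AMonS S ↥N) T)
      (snd (Magnet.AMonS S M) (W N T) ≫ snd (Magnet.AMonS S ↥N) T)
    rw [lift_comp_fst_snd, lift_fst_snd, Category.id_comp] at this
    rw [this, lift_snd]
  calc m ≫ snd (Zk S N Q k) T = m ≫ incT N Q T k ≫ snd (Magnet.AMonS S ↥N) T := by rw [h1]
    _ = (Magnet.AMonS S M ◁ incT N Q T k) ≫ actW N T ≫ snd (Magnet.AMonS S ↥N) T := by
        rw [← Category.assoc, hm, Category.assoc]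
    _ = (Magnet.AMonS S M ◁ incT N Q T k) ≫ snd (Magnet.AMonS S M) (W N T) ≫
          snd (Magnet.AMonS S ↥N) T := by rw [h2]
    _ = snd _ _ ≫ incT N Q T k ≫ snd (Magnet.AMonS S ↥N) T := by
        rw [← Category.assoc, whiskerLeft_snd, Category.assoc]
    _ = snd _ _ ≫ snd (Zk S N Q k) T := by rw [h1]

variable {N Q}

theorem face_equivariant (hQ : Magnet.IsFace N Q) :
    (Magnet.AMonS S M ◁ (Magnet.AMonS.faceMap S hQ ▷ T)) ≫ actW N T =
      actW Q T ≫ (Magnet.AMonS.faceMap S hQ ▷ T) := by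
  apply Magnet.hom_ext_lift₂
  intro K g y
  obtain ⟨b, t, rfl⟩ : ∃ b t, y = lift b t :=
    ⟨y ≫ fst _ _, y ≫ snd _ _, (lift_comp_fst_snd y).symm⟩
  have hface := (Magnet.MonAct.isEquivariant_iff _ _ _).mp
    (Magnet.isEquivariant_faceMapS S hQ) K g b
  rw [AG21.subAct_formula', ← Category.assoc, AG21.subAct_formula'] at hface
  calc lift g (lift b t) ≫ (Magnet.AMonS S M ◁ (Magnet.AMonS.faceMap S hQ ▷ T)) ≫ actW N T
      = lift g (lift (b ≫ Magnet.AMonS.faceMap S hQ) t) ≫ actW N T := by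
        rw [lift_whiskerLeft_assoc, lift_whiskerRight]
    _ = lift ((g ≫ Magnet.AMonS.map S N.subtype) * (b ≫ Magnet.AMonS.faceMap S hQ)) t :=
        actW_formula N T _ _ _
    _ = lift (((g ≫ Magnet.AMonS.map S Q.subtype) * b) ≫ Magnet.AMonS.faceMap S hQ) t := by
        rw [hface]
    _ = lift ((g ≫ Magnet.AMonS.map S Q.subtype) * b) t ≫ (Magnet.AMonS.faceMap S hQ ▷ T) :=
        (lift_whiskerRight _ _ _).symm
    _ = (lift g (lift b t) ≫ actW Q T) ≫ (Magnet.AMonS.faceMap S hQ ▷ T) :=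
        congrArg (fun z => z ≫ (Magnet.AMonS.faceMap S hQ ▷ T)) (actW_formula Q T g b t).symm
    _ = lift g (lift b t) ≫ actW Q T ≫ (Magnet.AMonS.faceMap S hQ ▷ T) := Category.assoc _ _ _

theorem actk_j (hQ : Magnet.IsFace N Q) (k : ℕ) (j : Magnet.AMonS S ↥Q ⟶ Zk S N Q k)
    (hj : j ≫ embk S N Q k = Magnet.AMonS.faceMap S hQ)
    (m : Magnet.AMonS S M ⊗ Wk N Q T k ⟶ Wk N Q T k)
    (hm : m ≫ incT N Q T k = (Magnet.AMonS S M ◁ incT N Q T k) ≫ actW N T) :
    (Magnet.AMonS S M ◁ (j ▷ T)) ≫ m = actW Q T ≫ (j ▷ T) := by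
  have e : (j ▷ T) ≫ incT N Q T k = Magnet.AMonS.faceMap S hQ ▷ T := by
    rw [← comp_whiskerRight, hj]
  haveI : Mono (incT N Q T k) := mono_incT N Q T k
  apply (cancel_mono (incT N Q T k)).mp
  calc ((Magnet.AMonS S M ◁ (j ▷ T)) ≫ m) ≫ incT N Q T k
      = (Magnet.AMonS S M ◁ (j ▷ T)) ≫ (m ≫ incT N Q T k) := Category.assoc _ _ _
    _ = (Magnet.AMonS S M ◁ (j ▷ T)) ≫ (Magnet.AMonS S M ◁ incT N Q T k) ≫ actW N T := by
        rw [hm]
    _ = (Magnet.AMonS S M ◁ ((j ▷ T) ≫ incT N Q T k)) ≫ actW N T := by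
        rw [MonoidalCategory.whiskerLeft_comp, Category.assoc]
    _ = (Magnet.AMonS S M ◁ (Magnet.AMonS.faceMap S hQ ▷ T)) ≫ actW N T := by rw [e]
    _ = actW Q T ≫ (Magnet.AMonS.faceMap S hQ ▷ T) := face_equivariant T hQ
    _ = actW Q T ≫ (j ▷ T) ≫ incT N Q T k := by rw [e]
    _ = (actW Q T ≫ (j ▷ T)) ≫ incT N Q T k := (Category.assoc _ _ _).symm

/-- homogeneous functions on `Zk k × T` -/
theorem homog [IsAffine T.left] (k : ℕ) (m : Magnet.AMonS S M ⊗ Wk N Q T k ⟶ Wk N Q T k)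
    (hm : m ≫ incT N Q T k = (Magnet.AMonS S M ◁ incT N Q T k) ≫ actW N T)
    (g : Multiplicative M) (y : Γ((Wk N Q T k).left, ⊤))
    (hy : pb m y = E M (Wk N Q T k) (MonoidAlgebra.single g y)) :
    ∃ cg : MonoidAlgebra Γ(T.left, ⊤) (Multiplicative ↥N),
      y = pb (incT N Q T k) (E ↥N T cg) ∧
      ∀ n' : Multiplicative ↥N, AddMonoidHom.toMultiplicative N.subtype n' ≠ g →
        cg.coeff n' = 0 := by
  haveI : IsAffine (W N T).left := AG22.isAffine_tensor_left ↥N T
  haveI : IsAffine (Wk N Q T k).left := isAffine_Wk N Q T k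
  haveI := isClosedImmersion_incT N Q T k
  obtain ⟨x, hx⟩ := (IsClosedImmersion.isAffine_surjective_of_isAffine (incT N Q T k).left).2 y
  obtain ⟨c, hc⟩ := (E_bijective (M := ↥N) T).2 x
  have hyc : y = pb (incT N Q T k) (E ↥N T c) := by
    rw [hc]; exact hx.symm
  obtain ⟨D, hD, hDk⟩ := actW_E N T c
  have h1 : pb m y = E M (Wk N Q T k)
      (MonoidAlgebra.mapRingHom (Multiplicative M) (pb (incT N Q T k)) D) := by
    rw [hyc, ← pb_comp_apply, hm, pb_comp_apply, hD, E_whiskerLeft]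
  rw [hy] at h1
  have h2 := (E_bijective (M := M) (Wk N Q T k)).1 h1
  have h3 := congrArg (fun z => z.coeff g) h2
  simp only [MonoidAlgebra.coeff_single, Finsupp.single_eq_same,
    MonoidAlgebra.coeff_mapRingHom] at h3
  obtain ⟨cg, hcg, hsupp⟩ := hDk g
  exact ⟨cg, by rw [h3, hcg], hsupp⟩

end Act

/-! ### lifting along surjective closed immersions -/
section Lift
variable {X U : Over S} (f : U ⟶ X) [Etale f.left]

theorem exists_lift {P' P : Over S} (i : P' ⟶ P) [IsClosedImmersion i.left] [Surjective i.left]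
    (a : P' ⟶ U) (b : P ⟶ X) (w : i ≫ b = a ≫ f) : ∃ l : P ⟶ U, i ≫ l = a ∧ l ≫ f = b := by
  have w' : i.left ≫ b.left = a.left ≫ f.left := congrArg (fun z => z.left) w
  obtain ⟨l₀, ⟨h1, h2⟩, -⟩ :=
    Groth.Agent.Helper16.NilLift.exists_unique_lift_nil f.left i.left a.left b.left w'
  have hw : l₀ ≫ U.hom = P.hom := by
    rw [← Over.w f, ← Category.assoc, h2, Over.w]
  exact ⟨Over.homMk l₀ hw, Over.OverMorphism.ext h1, Over.OverMorphism.ext h2⟩

theorem lift_unique {P' P : Over S} (i : P' ⟶ P) [Surjective i.left] (u v : P ⟶ U)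
    (h1 : i ≫ u = i ≫ v) (h2 : u ≫ f = v ≫ f) : u = v := by
  apply Over.OverMorphism.ext
  exact Groth.Agent.Helper16.NilLift.hom_ext_of_surjective i.left f.left u.left v.left
    (congrArg (fun z => z.left) h1) (congrArg (fun z => z.left) h2)

end Lift

theorem surjective_whiskerRight {X' Y' : Over S} (g : X' ⟶ Y') [Surjective g.left] (T : Over S) :
    Surjective (g ▷ T).left :=
  MorphismProperty.of_isPullback (P := @Surjective)
    ((AG9.isPullback_whiskerRight_fst g T).map (Over.forget S)) ‹_›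

theorem surjective_whiskerLeft (P : Over S) {X' Y' : Over S} (g : X' ⟶ Y')
    [Surjective g.left] : Surjective (P ◁ g).left :=
  MorphismProperty.of_isPullback (P := @Surjective)
    ((AG20.isPullback_snd_whiskerLeft P g).map (Over.forget S)) ‹_›

theorem isClosedImmersion_whiskerRight {X' Y' : Over S} (g : X' ⟶ Y')
    [IsClosedImmersion g.left] (T : Over S) : IsClosedImmersion (g ▷ T).left :=
  MorphismProperty.of_isPullback (P := @IsClosedImmersion)
    ((AG9.isPullback_whiskerRight_fst g T).map (Over.forget S)) ‹_›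

end Groth.Agent.Helper17.AG38
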