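import Mathlib
import Groth.Prelude.Def_GmPts
import Groth.Prelude.Def_Magnet4
import Groth.Agent.Lib.Helper17.AG38

/-!
# Extending equivariant lifts from the infinitesimal neighbourhoods of a face (helper17)

`exists_fg`: for `N` finitely generated, `T` affine, `U → S` affine and `f : U ⟶ X` étale equivariant,
an equivariant `φ : A(N) × T ⟶ X` and an equivariant `ψ : A(Q) × T ⟶ U` lifting its restriction to
the face `Q` give an equivariant `φ' : A(N) × T ⟶ U` restricting to `ψ`, such that `φ' ≫ f` and `φ`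
agree on all infinitesimal neighbourhoods of the face.
-/

set_option autoImplicit false
universe u
open CategoryTheory CategoryTheory.Limits MonoidalCategory CartesianMonoidalCategory MonObj
open AlgebraicGeometry Opposite

noncomputable section
namespace Groth.Agent.Helper17.AG39
open Groth.Agent.Helper17.AG14 Groth.Agent.Helper17.AG15 Groth.Agent.Helper17.AG24
open Groth.Agent.Helper17.AG36 Groth.Agent.Helper17.AG37 Groth.Agent.Helper17.AG38

variable {S : Scheme.{u}}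

/-- pullbacks of homogeneous functions along equivariant maps are homogeneous -/
theorem pb_homog {M : Type} [AddCommMonoid M] {P Qo : Over S}
    (aQ : Magnet.MonAct (Magnet.AMonS S M) Qo) (m : Magnet.AMonS S M ⊗ P ⟶ P) (lt : P ⟶ Qo)
    (hlt : m ≫ lt = (Magnet.AMonS S M ◁ lt) ≫ aQ.act) (g : Multiplicative M) (r : Γ(Qo.left, ⊤))
    (hr : pb aQ.act r = E M Qo (MonoidAlgebra.single g r)) :
    pb m (pb lt r) = E M P (MonoidAlgebra.single g (pb lt r)) := by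
  rw [← pb_comp_apply, hlt, pb_comp_apply, hr, E_whiskerLeft, MonoidAlgebra.mapRingHom_single]

variable {M : Type} [AddCommGroup M] {N Q : AddSubmonoid M}

/-! ### variants for the neighbourhoods of positive order -/

theorem inter_ker_succ (T : Over S) [IsAffine T.left] (hQ : Magnet.IsFace N Q) (hfg : N.FG)
    (x : Γ((W N T).left, ⊤)) (hx : ∀ k, pb (incT N Q T (k + 1)) x = 0) : x = 0 := by
  apply inter_ker N Q T hQ hfg x
  intro k
  obtain ⟨t, ht⟩ := exists_trans S N Q (Nat.le_add_right k 1 : k ≤ k + 1)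
  have e : (t ▷ T) ≫ incT N Q T (k + 1) = incT N Q T k := by rw [← comp_whiskerRight, ht]
  rw [← e, pb_comp_apply, hx k, map_zero]

theorem hom_ext_family_A_succ (T : Over S) [IsAffine T.left] (hQ : Magnet.IsFace N Q) (hfg : N.FG)
    {Y : Over S} [IsAffine Y.left] (u v : Magnet.AMonS S M ⊗ W N T ⟶ Y)
    (h : ∀ k, (Magnet.AMonS S M ◁ incT N Q T (k + 1)) ≫ u =
      (Magnet.AMonS S M ◁ incT N Q T (k + 1)) ≫ v) : u = v := by
  apply hom_ext_family_A N Q T hQ hfg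
  intro k
  obtain ⟨t, ht⟩ := exists_trans S N Q (Nat.le_add_right k 1 : k ≤ k + 1)
  have e : (t ▷ T) ≫ incT N Q T (k + 1) = incT N Q T k := by rw [← comp_whiskerRight, ht]
  rw [← e, MonoidalCategory.whiskerLeft_comp, Category.assoc, Category.assoc, h k]

theorem hom_ext_family_left (T : Over S) [IsAffine T.left] (hQ : Magnet.IsFace N Q) (hfg : N.FG)
    {Y : Scheme.{u}} [IsAffine Y] (u v : (W N T).left ⟶ Y)
    (h : ∀ k, (incT N Q T (k + 1)).left ≫ u = (incT N Q T (k + 1)).left ≫ v) : u = v := by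
  apply ext_of_isAffine
  apply CommRingCat.hom_ext
  ext r
  have h0 : u.appTop.hom r - v.appTop.hom r = 0 := by
    apply inter_ker_succ T hQ hfg
    intro k
    have h1 := congrArg (fun z => z.appTop.hom r) (h k)
    have h2 : pb (incT N Q T (k + 1)) (u.appTop.hom r) =
        pb (incT N Q T (k + 1)) (v.appTop.hom r) :=
      ((AG17.appTop_comp_apply _ u r).symm.trans h1).trans (AG17.appTop_comp_apply _ v r)
    rw [map_sub, h2, sub_self]
  exact sub_eq_zero.mp h0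

theorem affine_factor_family (T : Over S) [IsAffine T.left] (hQ : Magnet.IsFace N Q) (hfg : N.FG)
    {Y : Scheme.{u}} [IsAffine Y] (o : ∀ k, (Wk N Q T (k + 1)).left ⟶ Y)
    (hr : ∀ r : Γ(Y, ⊤), ∃ y : Γ((W N T).left, ⊤),
      ∀ k, pb (incT N Q T (k + 1)) y = (o k).appTop.hom r) :
    ∃ Φ : (W N T).left ⟶ Y, ∀ k, (incT N Q T (k + 1)).left ≫ Φ = o k := by
  choose y hy using hr
  have hinj : ∀ a b : Γ((W N T).left, ⊤),
      (∀ k, pb (incT N Q T (k + 1)) a = pb (incT N Q T (k + 1)) b) → a = b := by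
    intro a b hab
    have : a - b = 0 :=
      inter_ker_succ T hQ hfg _ (fun k => by rw [map_sub, hab k, sub_self])
    exact sub_eq_zero.mp this
  obtain ⟨ψ, hψ⟩ : ∃ ψ : Γ(Y, ⊤) →+* Γ((W N T).left, ⊤), ∀ r, ψ r = y r :=
    ⟨{ toFun := y
       map_one' := hinj _ _ (fun k => by rw [hy, map_one, map_one])
       map_mul' := fun r r' => hinj _ _ (fun k => by rw [hy, map_mul, map_mul, hy, hy])
       map_zero' := hinj _ _ (fun k => by rw [hy, map_zero, map_zero])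
       map_add' := fun r r' => hinj _ _ (fun k => by rw [hy, map_add, map_add, hy, hy]) },
      fun _ => rfl⟩
  obtain ⟨Φ, hΦ⟩ := exists_hom_of_ringHom (W N T).left Y (CommRingCat.ofHom ψ)
  refine ⟨Φ, fun k => ext_of_isAffine ?_⟩
  rw [Scheme.Hom.comp_appTop, hΦ]
  apply CommRingCat.hom_ext
  ext r
  show pb (incT N Q T (k + 1)) (ψ r) = (o k).appTop.hom r
  rw [hψ, hy]

/-! ### the lifts on the infinitesimal neighbourhoods -/

theorem exists_lk (T : Over S) (hQ : Magnet.IsFace N Q) {X U : Over S} (f : U ⟶ X) [Etale f.left]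
    (aX : Magnet.MonAct (Magnet.AMonS S M) X) (aU : Magnet.MonAct (Magnet.AMonS S M) U)
    (hf : aU.act ≫ f = (Magnet.AMonS S M ◁ f) ≫ aX.act)
    (φ : W N T ⟶ X) (hφ : actW N T ≫ φ = (Magnet.AMonS S M ◁ φ) ≫ aX.act)
    (ψ : W Q T ⟶ U) (hψ : actW Q T ≫ ψ = (Magnet.AMonS S M ◁ ψ) ≫ aU.act)
    (hc : (Magnet.AMonS.faceMap S hQ ▷ T) ≫ φ = ψ ≫ f) (k : ℕ)
    (j : Magnet.AMonS S ↥Q ⟶ Zk S N Q (k + 1))
    (hj : j ≫ embk S N Q (k + 1) = Magnet.AMonS.faceMap S hQ)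
    (m : Magnet.AMonS S M ⊗ Wk N Q T (k + 1) ⟶ Wk N Q T (k + 1))
    (hm : m ≫ incT N Q T (k + 1) = (Magnet.AMonS S M ◁ incT N Q T (k + 1)) ≫ actW N T) :
    ∃ l : Wk N Q T (k + 1) ⟶ U, (j ▷ T) ≫ l = ψ ∧ l ≫ f = incT N Q T (k + 1) ≫ φ ∧
      m ≫ l = (Magnet.AMonS S M ◁ l) ≫ aU.act := by
  haveI := isClosedImmersion_j S hQ k j hj
  haveI := surjective_j S hQ k j hj
  haveI : IsClosedImmersion (j ▷ T).left := isClosedImmersion_whiskerRight j T
  haveI : Surjective (j ▷ T).left := surjective_whiskerRight j T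
  have e : (j ▷ T) ≫ incT N Q T (k + 1) = Magnet.AMonS.faceMap S hQ ▷ T := by
    rw [← comp_whiskerRight, hj]
  obtain ⟨l, h1, h2⟩ := exists_lift f (j ▷ T) ψ (incT N Q T (k + 1) ≫ φ)
    (by rw [← Category.assoc, e, hc])
  refine ⟨l, h1, h2, ?_⟩
  haveI : Surjective (Magnet.AMonS S M ◁ (j ▷ T)).left :=
    surjective_whiskerLeft (Magnet.AMonS S M) (j ▷ T)
  apply lift_unique f (Magnet.AMonS S M ◁ (j ▷ T))
  · calc (Magnet.AMonS S M ◁ (j ▷ T)) ≫ m ≫ l
        = (actW Q T ≫ (j ▷ T)) ≫ l := by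
          rw [← Category.assoc, actk_j T hQ (k + 1) j hj m hm]
      _ = actW Q T ≫ ψ := by rw [Category.assoc, h1]
      _ = (Magnet.AMonS S M ◁ ψ) ≫ aU.act := hψ
      _ = (Magnet.AMonS S M ◁ ((j ▷ T) ≫ l)) ≫ aU.act := by rw [h1]
      _ = (Magnet.AMonS S M ◁ (j ▷ T)) ≫ (Magnet.AMonS S M ◁ l) ≫ aU.act := by
          rw [MonoidalCategory.whiskerLeft_comp, Category.assoc]
  · calc (m ≫ l) ≫ f = m ≫ incT N Q T (k + 1) ≫ φ := by rw [Category.assoc, h2]
      _ = (Magnet.AMonS S M ◁ incT N Q T (k + 1)) ≫ actW N T ≫ φ := by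
          rw [← Category.assoc, hm, Category.assoc]
      _ = (Magnet.AMonS S M ◁ incT N Q T (k + 1)) ≫ (Magnet.AMonS S M ◁ φ) ≫ aX.act := by
          rw [hφ]
      _ = (Magnet.AMonS S M ◁ (incT N Q T (k + 1) ≫ φ)) ≫ aX.act := by
          rw [MonoidalCategory.whiskerLeft_comp, Category.assoc]
      _ = (Magnet.AMonS S M ◁ (l ≫ f)) ≫ aX.act := by rw [h2]
      _ = (Magnet.AMonS S M ◁ l) ≫ (Magnet.AMonS S M ◁ f) ≫ aX.act := by
          rw [MonoidalCategory.whiskerLeft_comp, Category.assoc]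
      _ = (Magnet.AMonS S M ◁ l) ≫ aU.act ≫ f := by rw [hf]
      _ = ((Magnet.AMonS S M ◁ l) ≫ aU.act) ≫ f := (Category.assoc _ _ _).symm

/-- the action on `U × T` through `U` -/
abbrev aQo {U : Over S} (aU : Magnet.MonAct (Magnet.AMonS S M) U) (T : Over S) :
    Magnet.MonAct (Magnet.AMonS S M) (U ⊗ T) :=
  aU.prod (Magnet.MonAct.trivial (Magnet.AMonS S M) T)

theorem aQo_fst {U : Over S} (aU : Magnet.MonAct (Magnet.AMonS S M) U) (T : Over S) :
    (aQo aU T).act ≫ fst U T = (Magnet.AMonS S M ◁ fst U T) ≫ aU.act := by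
  apply Magnet.hom_ext_lift₂
  intro K g y
  obtain ⟨a, b, rfl⟩ : ∃ a b, y = lift a b :=
    ⟨y ≫ fst _ _, y ≫ snd _ _, (lift_comp_fst_snd y).symm⟩
  rw [← Category.assoc, Magnet.MonAct.lift_prod_act, lift_fst, lift_whiskerLeft_assoc, lift_fst]

theorem ltilde_equivariant (T : Over S) {U : Over S}
    (aU : Magnet.MonAct (Magnet.AMonS S M) U) (k : ℕ)
    (m : Magnet.AMonS S M ⊗ Wk N Q T k ⟶ Wk N Q T k)
    (hm : m ≫ incT N Q T k = (Magnet.AMonS S M ◁ incT N Q T k) ≫ actW N T)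
    (l : Wk N Q T k ⟶ U) (hl : m ≫ l = (Magnet.AMonS S M ◁ l) ≫ aU.act) :
    m ≫ lift l (snd (Zk S N Q k) T) =
      (Magnet.AMonS S M ◁ lift l (snd (Zk S N Q k) T)) ≫ (aQo aU T).act := by
  apply Magnet.hom_ext_lift₂
  intro K g y
  have hs := actk_snd N Q T k m hm
  calc lift g y ≫ m ≫ lift l (snd (Zk S N Q k) T)
      = lift (lift g y ≫ m ≫ l) (lift g y ≫ m ≫ snd (Zk S N Q k) T) := by
        rw [comp_lift, comp_lift]
    _ = lift (lift g (y ≫ l) ≫ aU.act) (y ≫ snd (Zk S N Q k) T) := by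
        rw [hl, hs, lift_whiskerLeft_assoc, lift_snd_assoc]
    _ = lift g (lift (y ≫ l) (y ≫ snd (Zk S N Q k) T)) ≫ (aQo aU T).act := by
        rw [Magnet.MonAct.lift_prod_act, Magnet.MonAct.lift_trivial_act]
    _ = lift g y ≫ (Magnet.AMonS S M ◁ lift l (snd (Zk S N Q k) T)) ≫ (aQo aU T).act := by
        rw [lift_whiskerLeft_assoc, comp_lift]

/-! ### extension of functions -/

theorem coeff_eq (T : Over S) [IsAffine T.left] (g : Multiplicative M) (k : ℕ)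
    (hg : Multiplicative.toAdd g ∉ AG35.Nk N Q k)
    (c c' : MonoidAlgebra Γ(T.left, ⊤) (Multiplicative ↥N))
    (hc : ∀ n' : Multiplicative ↥N, AddMonoidHom.toMultiplicative N.subtype n' ≠ g →
      c.coeff n' = 0)
    (hc' : ∀ n' : Multiplicative ↥N, AddMonoidHom.toMultiplicative N.subtype n' ≠ g →
      c'.coeff n' = 0)
    (h : pb (incT N Q T k) (E ↥N T c) = pb (incT N Q T k) (E ↥N T c')) : c = c' := by
  apply MonoidAlgebra.ext
  apply Finsupp.ext
  intro n'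
  by_cases hn : AddMonoidHom.toMultiplicative N.subtype n' = g
  · have hn' : n' ∉ NkM N Q k := by
      intro hmem
      apply hg
      rw [← hn]
      exact hmem
    have h0 : pb (incT N Q T k) (E ↥N T (c - c')) = 0 := by
      rw [map_sub, map_sub, h, sub_self]
    have h1 := kerE N Q T k (c - c') h0 n' hn'
    rw [MonoidAlgebra.coeff_sub, Finsupp.sub_apply] at h1
    exact sub_eq_zero.mp h1
  · rw [hc n' hn, hc' n' hn]

section Ext
variable (T : Over S) [IsAffine T.left] (hQ : Magnet.IsFace N Q) (hfg : N.FG)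
  {Qo : Over S} (aQ : Magnet.MonAct (Magnet.AMonS S M) Qo)
  (m : ∀ k, Magnet.AMonS S M ⊗ Wk N Q T (k + 1) ⟶ Wk N Q T (k + 1))
  (hm : ∀ k, m k ≫ incT N Q T (k + 1) = (Magnet.AMonS S M ◁ incT N Q T (k + 1)) ≫ actW N T)
  (lt : ∀ k, Wk N Q T (k + 1) ⟶ Qo)
  (hlt : ∀ k, m k ≫ lt k = (Magnet.AMonS S M ◁ lt k) ≫ aQ.act)
  (htr : ∀ (k k' : ℕ) (t : Zk S N Q (k + 1) ⟶ Zk S N Q (k' + 1)),
    t ≫ embk S N Q (k' + 1) = embk S N Q (k + 1) → (t ▷ T) ≫ lt k' = lt k)

include hQ hfg hm hlt htr in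
theorem ext_homog (g : Multiplicative M) (r : Γ(Qo.left, ⊤))
    (hr : pb aQ.act r = E M Qo (MonoidAlgebra.single g r)) :
    ∃ w : Γ((W N T).left, ⊤), ∀ k, pb (incT N Q T (k + 1)) w = pb (lt k) r := by
  have hc : ∀ k, ∃ cg : MonoidAlgebra Γ(T.left, ⊤) (Multiplicative ↥N),
      pb (lt k) r = pb (incT N Q T (k + 1)) (E ↥N T cg) ∧
      ∀ n' : Multiplicative ↥N, AddMonoidHom.toMultiplicative N.subtype n' ≠ g →
        cg.coeff n' = 0 :=
    fun k => homog T (k + 1) (m k) (hm k) g (pb (lt k) r)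
      (pb_homog aQ (m k) (lt k) (hlt k) g r hr)
  choose c hc1 hc2 using hc
  obtain ⟨k₀, hk₀⟩ := AG35.dickson hQ hfg (Multiplicative.toAdd g)
  have hcmp : ∀ k k', k₀ ≤ k → k ≤ k' → c k = c k' := by
    intro k k' h0 hkk'
    obtain ⟨t, ht⟩ := exists_trans S N Q (Nat.add_le_add_right hkk' 1 : k + 1 ≤ k' + 1)
    have e : (t ▷ T) ≫ incT N Q T (k' + 1) = incT N Q T (k + 1) := by
      rw [← comp_whiskerRight, ht]
    apply coeff_eq T g (k + 1)
      (fun hmem => hk₀ (AG35.Nk_anti (Nat.le_succ_of_le h0) hmem)) (c k) (c k') (hc2 k) (hc2 k')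
    rw [← hc1 k, ← e, pb_comp_apply, ← hc1 k', ← pb_comp_apply, htr k k' t ht]
  refine ⟨E ↥N T (c k₀), fun k => ?_⟩
  have hk' : c k₀ = c (max k k₀) := hcmp k₀ (max k k₀) le_rfl (le_max_right _ _)
  obtain ⟨t, ht⟩ := exists_trans S N Q
    (Nat.add_le_add_right (le_max_left k k₀) 1 : k + 1 ≤ max k k₀ + 1)
  have e : (t ▷ T) ≫ incT N Q T (max k k₀ + 1) = incT N Q T (k + 1) := by
    rw [← comp_whiskerRight, ht]
  rw [hk', ← e, pb_comp_apply, ← hc1 (max k k₀), ← pb_comp_apply, htr k (max k k₀) t ht]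

include hQ hfg hm hlt htr in
theorem ext_all [IsAffine Qo.left] (r : Γ(Qo.left, ⊤)) :
    ∃ w : Γ((W N T).left, ⊤), ∀ k, pb (incT N Q T (k + 1)) w = pb (lt k) r := by
  obtain ⟨c, hc, hcg⟩ := decomp aQ r
  have hw : ∀ g, ∃ w : Γ((W N T).left, ⊤),
      ∀ k, pb (incT N Q T (k + 1)) w = pb (lt k) (c.coeff g) :=
    fun g => ext_homog T hQ hfg aQ m hm lt hlt htr g (c.coeff g) (hcg g)
  choose w hw using hw
  refine ⟨∑ g ∈ c.coeff.support, w g, fun k => ?_⟩
  rw [hc]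
  unfold Finsupp.sum
  rw [map_sum, map_sum]
  exact Finset.sum_congr rfl (fun g _ => hw g k)

end Ext

/-! ### the main existence statement -/

theorem exists_fg (T : Over S) [IsAffine T.left] (hQ : Magnet.IsFace N Q) (hfg : N.FG)
    {X U : Over S} [IsAffineHom U.hom] (f : U ⟶ X) [Etale f.left]
    (aX : Magnet.MonAct (Magnet.AMonS S M) X) (aU : Magnet.MonAct (Magnet.AMonS S M) U)
    (hf : aU.act ≫ f = (Magnet.AMonS S M ◁ f) ≫ aX.act)
    (φ : W N T ⟶ X) (hφ : actW N T ≫ φ = (Magnet.AMonS S M ◁ φ) ≫ aX.act)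
    (ψ : W Q T ⟶ U) (hψ : actW Q T ≫ ψ = (Magnet.AMonS S M ◁ ψ) ≫ aU.act)
    (hc : (Magnet.AMonS.faceMap S hQ ▷ T) ≫ φ = ψ ≫ f) :
    ∃ φ' : W N T ⟶ U, actW N T ≫ φ' = (Magnet.AMonS S M ◁ φ') ≫ aU.act ∧
      (Magnet.AMonS.faceMap S hQ ▷ T) ≫ φ' = ψ ∧
      ∀ k, incT N Q T (k + 1) ≫ φ' ≫ f = incT N Q T (k + 1) ≫ φ := by
  have hj := fun k => exists_j S hQ k
  choose j hj using hj
  have hm := fun k => exists_actk N Q T (k + 1)
  choose m hm using hm
  have hl := fun k => exists_lk T hQ f aX aU hf φ hφ ψ hψ hc k (j k) (hj k) (m k) (hm k)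
  choose l hl1 hl2 hl3 using hl
  haveI : IsAffine (U ⊗ T).left := by
    show IsAffine (pullback U.hom T.hom)
    infer_instance
  have htr0 : ∀ (k k' : ℕ) (t : Zk S N Q (k + 1) ⟶ Zk S N Q (k' + 1)),
      t ≫ embk S N Q (k' + 1) = embk S N Q (k + 1) → (t ▷ T) ≫ l k' = l k := by
    intro k k' t ht
    haveI := surjective_j S hQ k (j k) (hj k)
    haveI : Surjective (j k ▷ T).left := surjective_whiskerRight (j k) T
    have hjt : j k ≫ t = j k' := by
      apply (cancel_mono (embk S N Q (k' + 1))).mp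
      rw [Category.assoc, ht, hj k, hj k']
    have e : (t ▷ T) ≫ incT N Q T (k' + 1) = incT N Q T (k + 1) := by
      rw [← comp_whiskerRight, ht]
    apply lift_unique f (j k ▷ T)
    · rw [← Category.assoc, ← comp_whiskerRight, hjt, hl1 k', hl1 k]
    · rw [Category.assoc, hl2 k', ← Category.assoc, e, hl2 k]
  obtain ⟨lt, hlt_def⟩ : ∃ lt : ∀ k, Wk N Q T (k + 1) ⟶ U ⊗ T,
      ∀ k, lt k = lift (l k) (snd (Zk S N Q (k + 1)) T) := ⟨_, fun _ => rfl⟩
  have hlt : ∀ k, m k ≫ lt k = (Magnet.AMonS S M ◁ lt k) ≫ (aQo aU T).act := by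
    intro k
    rw [hlt_def k]
    exact ltilde_equivariant T aU (k + 1) (m k) (hm k) (l k) (hl3 k)
  have htr : ∀ (k k' : ℕ) (t : Zk S N Q (k + 1) ⟶ Zk S N Q (k' + 1)),
      t ≫ embk S N Q (k' + 1) = embk S N Q (k + 1) → (t ▷ T) ≫ lt k' = lt k := by
    intro k k' t ht
    rw [hlt_def k', hlt_def k, comp_lift, htr0 k k' t ht, whiskerRight_snd]
  have hext : ∀ r : Γ((U ⊗ T).left, ⊤), ∃ w : Γ((W N T).left, ⊤),
      ∀ k, pb (incT N Q T (k + 1)) w = pb (lt k) r :=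
    fun r => ext_all T hQ hfg (aQo aU T) m hm lt hlt htr r
  obtain ⟨Φ₀, hΦ₀⟩ := affine_factor_family T hQ hfg (fun k => (lt k).left) hext
  have hsnd : Φ₀ ≫ (snd U T).left = (snd (Magnet.AMonS S ↥N) T).left := by
    apply hom_ext_family_left T hQ hfg
    intro k
    rw [← Category.assoc, hΦ₀ k, ← Over.comp_left, ← Over.comp_left, hlt_def k, lift_snd,
      whiskerRight_snd]
  have hw : Φ₀ ≫ (U ⊗ T).hom = (W N T).hom := by
    rw [← Over.w (snd U T), ← Category.assoc, hsnd, Over.w]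
  obtain ⟨Φ, hΦ⟩ : ∃ Φ : W N T ⟶ U ⊗ T, Φ.left = Φ₀ := ⟨Over.homMk Φ₀ hw, rfl⟩
  have hΦk : ∀ k, incT N Q T (k + 1) ≫ Φ = lt k := fun k =>
    Over.OverMorphism.ext (by rw [Over.comp_left, hΦ, hΦ₀ k])
  have hΦeq : actW N T ≫ Φ = (Magnet.AMonS S M ◁ Φ) ≫ (aQo aU T).act := by
    apply hom_ext_family_A_succ T hQ hfg
    intro k
    calc (Magnet.AMonS S M ◁ incT N Q T (k + 1)) ≫ actW N T ≫ Φ
        = (m k ≫ incT N Q T (k + 1)) ≫ Φ := by rw [hm k, Category.assoc]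
      _ = m k ≫ lt k := by rw [Category.assoc, hΦk k]
      _ = (Magnet.AMonS S M ◁ lt k) ≫ (aQo aU T).act := hlt k
      _ = (Magnet.AMonS S M ◁ (incT N Q T (k + 1) ≫ Φ)) ≫ (aQo aU T).act := by rw [hΦk k]
      _ = (Magnet.AMonS S M ◁ incT N Q T (k + 1)) ≫ (Magnet.AMonS S M ◁ Φ) ≫
            (aQo aU T).act := by
          rw [MonoidalCategory.whiskerLeft_comp, Category.assoc]
  refine ⟨Φ ≫ fst U T, ?_, ?_, fun k => ?_⟩
  · calc actW N T ≫ Φ ≫ fst U T
        = ((Magnet.AMonS S M ◁ Φ) ≫ (aQo aU T).act) ≫ fst U T := by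
          rw [← Category.assoc, hΦeq]
      _ = (Magnet.AMonS S M ◁ Φ) ≫ (Magnet.AMonS S M ◁ fst U T) ≫ aU.act := by
          rw [Category.assoc, aQo_fst]
      _ = (Magnet.AMonS S M ◁ (Φ ≫ fst U T)) ≫ aU.act := by
          rw [MonoidalCategory.whiskerLeft_comp, Category.assoc]
  · have e : (j 0 ▷ T) ≫ incT N Q T (0 + 1) = Magnet.AMonS.faceMap S hQ ▷ T := by
      rw [← comp_whiskerRight, hj 0]
    calc (Magnet.AMonS.faceMap S hQ ▷ T) ≫ Φ ≫ fst U T
        = (j 0 ▷ T) ≫ ((incT N Q T (0 + 1) ≫ Φ) ≫ fst U T) := by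
          rw [← e]
          simp only [Category.assoc]
      _ = (j 0 ▷ T) ≫ l 0 := by rw [hΦk 0, hlt_def 0, lift_fst]
      _ = ψ := hl1 0
  · calc incT N Q T (k + 1) ≫ (Φ ≫ fst U T) ≫ f
        = ((incT N Q T (k + 1) ≫ Φ) ≫ fst U T) ≫ f := by simp only [Category.assoc]
      _ = l k ≫ f := by rw [hΦk k, hlt_def k, lift_fst]
      _ = incT N Q T (k + 1) ≫ φ := hl2 k

end Groth.Agent.Helper17.AG39
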