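import Mathlib
import Groth.Prelude.Def_W4bk4git07Quot
import Groth.Prelude.Def_AlgGrp
import Groth.Agent.Lib.Helper17.AF3
import Groth.Agent.Lib.Helper17.AF6
import Groth.Agent.Lib.Helper17.AG2

/-!
# Locally isotrivial bundles are principal (helper17)
-/

set_option autoImplicit false
universe u
open CategoryTheory Limits MonoidalCategory CartesianMonoidalCategory MonObj GrpObj AlgebraicGeometry Opposite
open Groth.Agent.Helper17.AF3 Groth.Agent.Helper17.AF6 Groth.Agent.Helper17.AG2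

noncomputable section
namespace Groth.Agent.Helper17.AG4

section Restrict

/-- restricting a cartesian square to an open of the base -/
theorem restrict_isPullback {A B A' U' : Scheme.{u}} (f : A ⟶ B) (U : B.Opens) (p : A' ⟶ A)
    (q : A' ⟶ U') (j : U' ⟶ U) (hsq : IsPullback p q f (j ≫ U.ι)) :
    ∃ p' : A' ⟶ (f ⁻¹ᵁ U : A.Opens), p' ≫ (f ⁻¹ᵁ U).ι = p ∧ IsPullback p' q (f ∣_ U) j := by
  have hsub : Set.range p.base ⊆ Set.range (f ⁻¹ᵁ U).ι.base := by
    rintro _ ⟨a', rfl⟩
    have h0 : Set.range (f ⁻¹ᵁ U).ι.base = ((f ⁻¹ᵁ U : A.Opens) : Set A) :=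
      Scheme.Opens.range_ι _
    rw [h0]
    have h1 : f.base (p.base a') = U.ι.base (j.base (q.base a')) :=
      congrArg (fun m => m.base a') hsq.w
    show f.base (p.base a') ∈ U
    rw [h1]
    exact (j.base (q.base a')).2
  obtain ⟨p', hp'⟩ : ∃ p' : A' ⟶ (f ⁻¹ᵁ U : A.Opens), p' ≫ (f ⁻¹ᵁ U).ι = p :=
    ⟨IsOpenImmersion.lift (f ⁻¹ᵁ U).ι p hsub, IsOpenImmersion.lift_fac _ _ _⟩
  refine ⟨p', hp', ?_⟩
  have t : IsPullback (f ⁻¹ᵁ U).ι (f ∣_ U) f U.ι := (isPullback_morphismRestrict f U).flip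
  have s : IsPullback (p' ≫ (f ⁻¹ᵁ U).ι) q f (j ≫ U.ι) := by rw [hp']; exact hsq
  have pc : p' ≫ (f ∣_ U) = q ≫ j := by
    rw [← cancel_mono U.ι, Category.assoc, morphismRestrict_ι, ← Category.assoc, hp', hsq.w,
      Category.assoc]
  exact IsPullback.of_right s pc t

theorem descend_restrict (P : MorphismProperty Scheme.{u})
    [P.DescendsAlong (@Surjective ⊓ @Flat ⊓ @QuasiCompact)]
    {A B A' U' : Scheme.{u}} (f : A ⟶ B) (U : B.Opens) (p : A' ⟶ A) (q : A' ⟶ U') (j : U' ⟶ U)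
    (hsq : IsPullback p q f (j ≫ U.ι)) [Surjective j] [Flat j] [QuasiCompact j] (hq : P q) :
    P (f ∣_ U) := by
  obtain ⟨p', -, h⟩ := restrict_isPullback f U p q j hsq
  exact MorphismProperty.of_isPullback_of_descendsAlong
    (Q := @Surjective ⊓ @Flat ⊓ @QuasiCompact) h.flip ⟨⟨inferInstance, inferInstance⟩, inferInstance⟩ hq

end Restrict

section PsiBC
variable {S : Scheme.{u}} {G X Y : Over S} [GrpObj G]

/-- `PsiY` of a base change is the base change of `PsiY` -/
theorem isPullback_psiY_baseChange (a : AlgGrp.Action G X) (φ : X ⟶ Y)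
    (hinv : GIT.IsInvariant a φ)
    {X' Y' : Over S} (pr : X' ⟶ X) (φ' : X' ⟶ Y') (g : Y' ⟶ Y) (hpb : IsPullback pr φ' φ g)
    (a' : AlgGrp.Action G X') (heq : a'.act ≫ pr = (G ◁ pr) ≫ a.act)
    (hinv' : GIT.IsInvariant a' φ') :
    ∃ m : pullback φ'.left φ'.left ⟶ pullback φ.left φ.left,
      IsPullback (GIT.PsiY a' φ' hinv') (G ◁ pr).left m (GIT.PsiY a φ hinv) ∧
      IsPullback (pullback.snd φ'.left φ'.left ≫ φ'.left) m g.left
        (pullback.snd φ.left φ.left ≫ φ.left) := by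
  have H : IsPullback pr.left φ'.left φ.left g.left := hpb.map (Over.forget S)
  obtain ⟨m, hm⟩ : ∃ m : pullback φ'.left φ'.left ⟶ pullback φ.left φ.left,
      m = pullback.map φ'.left φ'.left φ.left φ.left pr.left pr.left g.left H.w.symm H.w.symm :=
    ⟨_, rfl⟩
  have hm1 : m ≫ pullback.fst φ.left φ.left = pullback.fst φ'.left φ'.left ≫ pr.left := by
    rw [hm]; exact pullback.lift_fst _ _ _
  have hm2 : m ≫ pullback.snd φ.left φ.left = pullback.snd φ'.left φ'.left ≫ pr.left := by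
    rw [hm]; exact pullback.lift_snd _ _ _
  have hb : IsPullback (pullback.snd φ'.left φ'.left) m pr.left
      (pullback.snd φ.left φ.left) := by
    have big : IsPullback (pullback.fst φ'.left φ'.left ≫ pr.left) (pullback.snd φ'.left φ'.left)
        φ.left (φ'.left ≫ g.left) := (IsPullback.of_hasPullback φ'.left φ'.left).paste_horiz H
    have s_b : IsPullback (pullback.snd φ'.left φ'.left) (m ≫ pullback.fst φ.left φ.left)
        (pr.left ≫ φ.left) φ.left := by
      rw [hm1, H.w]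
      exact big.flip
    exact IsPullback.of_bot s_b hm2.symm (IsPullback.of_hasPullback φ.left φ.left).flip
  have ha : IsPullback (G ◁ pr).left (snd G X').left (snd G X).left pr.left :=
    (isPullback_whiskerLeft_snd G pr).map (Over.forget S)
  have hY1 : GIT.PsiY a φ hinv ≫ pullback.fst φ.left φ.left = a.act.left := by
    unfold GIT.PsiY
    exact pullback.lift_fst _ _ _
  have hY2 : GIT.PsiY a φ hinv ≫ pullback.snd φ.left φ.left = (snd G X).left := by
    unfold GIT.PsiY
    exact pullback.lift_snd _ _ _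
  have hY1' : GIT.PsiY a' φ' hinv' ≫ pullback.fst φ'.left φ'.left = a'.act.left := by
    unfold GIT.PsiY
    exact pullback.lift_fst _ _ _
  have hY2' : GIT.PsiY a' φ' hinv' ≫ pullback.snd φ'.left φ'.left = (snd G X').left := by
    unfold GIT.PsiY
    exact pullback.lift_snd _ _ _
  have s_c : IsPullback (GIT.PsiY a' φ' hinv' ≫ pullback.snd φ'.left φ'.left) (G ◁ pr).left pr.left
      (GIT.PsiY a φ hinv ≫ pullback.snd φ.left φ.left) := by
    rw [hY2', hY2]
    exact ha.flip
  have p_c : GIT.PsiY a' φ' hinv' ≫ m = (G ◁ pr).left ≫ GIT.PsiY a φ hinv := by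
    apply pullback.hom_ext
    · rw [Category.assoc, hm1, ← Category.assoc, hY1', Category.assoc, hY1, ← Over.comp_left,
        ← Over.comp_left, heq]
    · rw [Category.assoc, hm2, ← Category.assoc, hY2', Category.assoc, hY2, ← Over.comp_left,
        ← Over.comp_left, whiskerLeft_snd]
  exact ⟨m, IsPullback.of_right s_c p_c hb, hb.paste_horiz H.flip⟩

end PsiBC

section Triv
variable {S : Scheme.{u}} {G : Over S} [GrpObj G]

/-- for the translation action on a trivial bundle `U × G`, `PsiY` is an isomorphism -/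
theorem isIso_psiY_triv {U : Over S} (a' : AlgGrp.Action G (U ⊗ G))
    (hform : a'.act = lift (snd G (U ⊗ G) ≫ fst U G) (fst G (U ⊗ G) * (snd G (U ⊗ G) ≫ snd U G)))
    (hinv' : GIT.IsInvariant a' (fst U G)) : IsIso (GIT.PsiY a' (fst U G) hinv') := by
  have hw2 : pullback.snd (fst U G).left (fst U G).left ≫ (U ⊗ G).hom =
      pullback.fst (fst U G).left (fst U G).left ≫ (U ⊗ G).hom := by
    rw [← Over.w (fst U G), ← Category.assoc, ← pullback.condition, Category.assoc]
  obtain ⟨e₁, he₁⟩ : ∃ e₁ : Over.mk (pullback.fst (fst U G).left (fst U G).left ≫ (U ⊗ G).hom) ⟶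
      U ⊗ G, e₁.left = pullback.fst (fst U G).left (fst U G).left := ⟨Over.homMk _ rfl, rfl⟩
  obtain ⟨e₂, he₂⟩ : ∃ e₂ : Over.mk (pullback.fst (fst U G).left (fst U G).left ≫ (U ⊗ G).hom) ⟶
      U ⊗ G, e₂.left = pullback.snd (fst U G).left (fst U G).left := ⟨Over.homMk _ hw2, rfl⟩
  have he12 : e₁ ≫ fst U G = e₂ ≫ fst U G := by
    apply Over.OverMorphism.ext
    rw [Over.comp_left, Over.comp_left, he₁, he₂]
    exact pullback.condition
  have hY1 : GIT.PsiY a' (fst U G) hinv' ≫ pullback.fst (fst U G).left (fst U G).left =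
      a'.act.left := by
    unfold GIT.PsiY
    exact pullback.lift_fst _ _ _
  have hY2 : GIT.PsiY a' (fst U G) hinv' ≫ pullback.snd (fst U G).left (fst U G).left =
      (snd G (U ⊗ G)).left := by
    unfold GIT.PsiY
    exact pullback.lift_snd _ _ _
  have hΨw : GIT.PsiY a' (fst U G) hinv' ≫
      pullback.fst (fst U G).left (fst U G).left ≫ (U ⊗ G).hom = (G ⊗ (U ⊗ G)).hom := by
    rw [← Category.assoc, hY1]
    exact Over.w a'.act
  obtain ⟨ΨO, hΨO⟩ : ∃ ΨO : G ⊗ (U ⊗ G) ⟶
      Over.mk (pullback.fst (fst U G).left (fst U G).left ≫ (U ⊗ G).hom),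
      ΨO.left = GIT.PsiY a' (fst U G) hinv' := ⟨Over.homMk _ hΨw, rfl⟩
  have hΨ1 : ΨO ≫ e₁ = a'.act := by
    apply Over.OverMorphism.ext
    rw [Over.comp_left, hΨO, he₁, hY1]
  have hΨ2 : ΨO ≫ e₂ = snd G (U ⊗ G) := by
    apply Over.OverMorphism.ext
    rw [Over.comp_left, hΨO, he₂, hY2]
  have hact_fst : a'.act ≫ fst U G = snd G (U ⊗ G) ≫ fst U G := by rw [hform, lift_fst]
  have hact_snd : a'.act ≫ snd U G = fst G (U ⊗ G) * (snd G (U ⊗ G) ≫ snd U G) := by
    rw [hform, lift_snd]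
  -- the inverse
  obtain ⟨iv, hiv⟩ : ∃ iv : Over.mk (pullback.fst (fst U G).left (fst U G).left ≫ (U ⊗ G).hom) ⟶
      G ⊗ (U ⊗ G), iv = lift ((e₁ ≫ snd U G) * (e₂ ≫ snd U G)⁻¹) e₂ := ⟨_, rfl⟩
  have hiv1 : iv ≫ fst G (U ⊗ G) = (e₁ ≫ snd U G) * (e₂ ≫ snd U G)⁻¹ := by rw [hiv, lift_fst]
  have hiv2 : iv ≫ snd G (U ⊗ G) = e₂ := by rw [hiv, lift_snd]
  have hA : iv ≫ a'.act = e₁ := by
    apply CartesianMonoidalCategory.hom_ext
    · rw [Category.assoc, hact_fst, ← Category.assoc, hiv2, he12]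
    · rw [Category.assoc, hact_snd, MonObj.comp_mul, hiv1, ← Category.assoc, hiv2,
        inv_mul_cancel_right]
  have hC : ΨO ≫ iv = 𝟙 _ := by
    rw [hiv, comp_lift, MonObj.comp_mul, GrpObj.comp_inv, ← Category.assoc, hΨ1, ← Category.assoc,
      hΨ2, hact_snd, mul_inv_cancel_right, lift_fst_snd]
  refine ⟨iv.left, ?_, ?_⟩
  · rw [← hΨO, ← Over.comp_left, hC]
    rfl
  · apply pullback.hom_ext
    · rw [Category.assoc, hY1, ← Over.comp_left, hA, he₁, Category.id_comp]
    · rw [Category.assoc, hY2, ← Over.comp_left, hiv2, he₂, Category.id_comp]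

end Triv


section Main
variable {S : Scheme.{u}} {G P X : Over S} [GrpObj G]

theorem whiskerLeft_eq_lift {A B : Over S} (f : A ⟶ B) :
    G ◁ f = lift (fst G A) (snd G A ≫ f) := by
  apply CartesianMonoidalCategory.hom_ext
  · rw [whiskerLeft_fst, lift_fst]
  · rw [whiskerLeft_snd, lift_snd]

theorem local_data [Smooth G.hom] (a : AlgGrp.Action G P) (π : P ⟶ X)
    (hinv : GIT.IsInvariant a π) (U : X.left.Opens) (UO : Over S) (gO : UO ⟶ X)
    (j : UO.left ⟶ (U : Scheme.{u})) (hj : gO.left = j ≫ U.ι)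
    [IsFinite j] [Etale j] [Surjective j] (s : UO ⟶ P)
    (hpb : IsPullback (fst UO G).left (lift (snd UO G) (fst UO G ≫ s) ≫ a.act).left
      gO.left π.left) :
    Smooth (π.left ∣_ U) ∧
      IsIso (GIT.PsiY a π hinv ∣_ ((pullback.snd π.left π.left ≫ π.left) ⁻¹ᵁ U)) := by
  haveI : Smooth j := inferInstance
  haveI : Flat j := inferInstance
  haveI : QuasiCompact j := inferInstance
  obtain ⟨θ, hθ⟩ : ∃ θ : UO ⊗ G ⟶ P, θ = lift (snd UO G) (fst UO G ≫ s) ≫ a.act := ⟨_, rfl⟩
  rw [← hθ] at hpb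
  have hpbO : IsPullback θ (fst UO G) π gO :=
    IsPullback.of_map_of_faithful (Over.forget S) hpb.flip
  have heq : (inducedAction a π hinv hpbO).act ≫ θ = (G ◁ θ) ≫ a.act :=
    inducedAct_pr a π hinv hpbO
  have hinv' : GIT.IsInvariant (inducedAction a π hinv hpbO) (fst UO G) :=
    inducedAct_phi a π hinv hpbO
  have hform : (inducedAction a π hinv hpbO).act =
      lift (snd G (UO ⊗ G) ≫ fst UO G) (fst G (UO ⊗ G) * (snd G (UO ⊗ G) ≫ snd UO G)) := by
    apply hpbO.hom_ext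
    · rw [heq, whiskerLeft_eq_lift, hθ, ← Category.assoc (snd G (UO ⊗ G)), comp_lift,
        ← Category.assoc (lift (snd G (UO ⊗ G) ≫ fst UO G) _), comp_lift, lift_snd,
        lift_fst_assoc, act_mul, Category.assoc]
    · have h1 : (inducedAction a π hinv hpbO).act ≫ fst UO G = snd G (UO ⊗ G) ≫ fst UO G :=
        hinv'
      rw [h1, lift_fst]
  constructor
  · -- smoothness
    have hsq' : IsPullback θ.left (fst UO G).left π.left (j ≫ U.ι) := by
      rw [← hj]; exact hpb.flip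
    have hsm : Smooth (fst UO G).left := by
      change Smooth (pullback.fst UO.hom G.hom)
      infer_instance
    exact descend_restrict @Smooth π.left U θ.left (fst UO G).left j hsq' hsm
  · obtain ⟨m, hΨsq, hmsq⟩ := isPullback_psiY_baseChange a π hinv θ (fst UO G) gO hpbO
      (inducedAction a π hinv hpbO) heq hinv'
    rw [hj] at hmsq
    obtain ⟨m', hm', hm'sq⟩ := restrict_isPullback (pullback.snd π.left π.left ≫ π.left) U m
      (pullback.snd (fst UO G).left (fst UO G).left ≫ (fst UO G).left) j hmsq.flip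
    haveI : Surjective m' := MorphismProperty.of_isPullback (P := @Surjective) hm'sq.flip ‹_›
    haveI : Flat m' := MorphismProperty.of_isPullback (P := @Flat) hm'sq.flip ‹_›
    haveI : QuasiCompact m' := MorphismProperty.of_isPullback (P := @QuasiCompact) hm'sq.flip ‹_›
    have hsq'' : IsPullback (G ◁ θ).left (GIT.PsiY (inducedAction a π hinv hpbO) (fst UO G) hinv')
        (GIT.PsiY a π hinv)
        (m' ≫ ((pullback.snd π.left π.left ≫ π.left) ⁻¹ᵁ U).ι) := by
      rw [hm']; exact hΨsq.flip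
    have hiso : MorphismProperty.isomorphisms Scheme
        (GIT.PsiY (inducedAction a π hinv hpbO) (fst UO G) hinv') :=
      isIso_psiY_triv (inducedAction a π hinv hpbO) hform hinv'
    exact descend_restrict (MorphismProperty.isomorphisms Scheme) (GIT.PsiY a π hinv)
      ((pullback.snd π.left π.left ≫ π.left) ⁻¹ᵁ U) (G ◁ θ).left
      (GIT.PsiY (inducedAction a π hinv hpbO) (fst UO G) hinv') m' hsq'' hiso

theorem main14877 (k : Type u) [Field k] [IsAlgClosed k] [CharZero k]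
    (G P X : Over (Spec (CommRingCat.of k))) [GrpObj G] [Smooth G.hom] [QuasiCompact G.hom]
    [LocallyOfFiniteType P.hom] [QuasiCompact P.hom] [IsSeparated P.hom] [IsReduced P.left]
    [LocallyOfFiniteType X.hom] [QuasiCompact X.hom] [IsSeparated X.hom] [IsReduced X.left]
    (a : AlgGrp.Action G P) (π : P ⟶ X) (hinv : GIT.IsInvariant a π)
    (hq : Function.Surjective π.left.base ∧ IsOpenMap π.left.base ∧
      Function.Surjective (GIT.PsiY a π hinv).base ∧
      ∀ U : X.left.Opens, Function.Injective (π.left.app U) ∧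
        Set.range (π.left.app U) = {f | GIT.IsInvSection a π U f})
    (hli : ∀ x : ↥X.left, ∃ (U : X.left.Opens) (_ : x ∈ U) (U' : Scheme.{u}) (φ : U' ⟶ ↑U)
      (_ : IsFinite φ) (_ : Etale φ) (_ : Surjective φ) (s : Over.mk (φ ≫ U.ι ≫ X.hom) ⟶ P),
      s.left ≫ π.left = φ ≫ U.ι ∧
      IsPullback (fst (Over.mk (φ ≫ U.ι ≫ X.hom)) G).left (lift (snd (Over.mk (φ ≫ U.ι ≫ X.hom)) G) (fst (Over.mk (φ ≫ U.ι ≫ X.hom)) G ≫ s) ≫ a.act).left
        (φ ≫ U.ι) π.left) :
    IsIso (GIT.PsiY a π hinv) ∧ Flat π.left := by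
  choose U hxU U' φ hfin het hsurj s hs hpb using hli
  have hloc : ∀ x, Smooth (π.left ∣_ U x) ∧
      IsIso (GIT.PsiY a π hinv ∣_ ((pullback.snd π.left π.left ≫ π.left) ⁻¹ᵁ U x)) := by
    intro x
    haveI := hfin x
    haveI := het x
    haveI := hsurj x
    exact local_data a π hinv (U x) (Over.mk (φ x ≫ (U x).ι ≫ X.hom))
      (Over.homMk (φ x ≫ (U x).ι) (by simp)) (φ x) rfl (s x) (hpb x)
  have hsup : ⨆ x, U x = ⊤ :=
    eq_top_iff.mpr fun x _ => TopologicalSpace.Opens.mem_iSup.mpr ⟨x, hxU x⟩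
  have hVsup : ⨆ x, ((pullback.snd π.left π.left ≫ π.left) ⁻¹ᵁ U x) = ⊤ :=
    eq_top_iff.mpr fun q _ => TopologicalSpace.Opens.mem_iSup.mpr
      ⟨(pullback.snd π.left π.left ≫ π.left).base q, hxU _⟩
  constructor
  · exact (IsZariskiLocalAtTarget.iff_of_iSup_eq_top
      (P := MorphismProperty.isomorphisms Scheme) _ hVsup).mpr (fun x => (hloc x).2)
  · haveI : Smooth π.left :=
      (IsZariskiLocalAtTarget.iff_of_iSup_eq_top (P := @Smooth) _ hsup).mpr (fun x => (hloc x).1)
    infer_instance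

end Main

end Groth.Agent.Helper17.AG4
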