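import Mathlib
import Groth.Prelude.Def_GmPts
import Groth.Prelude.Def_Magnet4
import Groth.Agent.Lib.Helper17.AG39
import Groth.Agent.Lib.Helper17.AF3

/-!
# Stable open neighbourhoods of a face (helper17)

`tf`: an open subset of `A(N) × T` which contains the face `A(Q) × T` and is stable under the
action of `D(M)` (in the sense `g • w ∈ Ω → w ∈ Ω`) is everything.
Also: `A(M)_S → S` is flat and (for `M` finitely generated) locally of finite presentation, hence
universally open.
-/

set_option autoImplicit false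
universe u
open CategoryTheory CategoryTheory.Limits MonoidalCategory CartesianMonoidalCategory MonObj
open AlgebraicGeometry Opposite

noncomputable section
namespace Groth.Agent.Helper17.AG40
open GmPts (baseZ toBaseZ)
open Groth.Agent.Helper17.AG14 Groth.Agent.Helper17.AG15 Groth.Agent.Helper17.AG24
open Groth.Agent.Helper17.AG36 Groth.Agent.Helper17.AG37 Groth.Agent.Helper17.AG38

/-- a morphism to an affine scheme which is injective on global functions is dominant -/
theorem exists_mem_of_injective {X Y : Scheme.{u}} [IsAffine Y] [CompactSpace X] (r : X ⟶ Y)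
    (hinj : Function.Injective r.appTop.hom) (Ω : Y.Opens) (z0 : Y) (hz0 : z0 ∈ Ω) :
    ∃ d : X, r d ∈ Ω := by
  obtain ⟨_, ⟨s, rfl⟩, hzs, hsΩ⟩ :=
    TopologicalSpace.Opens.isBasis_iff_nbhd.mp (isBasis_basicOpen Y) hz0
  by_contra hcon
  have h1 : r ⁻¹ᵁ Y.basicOpen s = ⊥ := by
    apply eq_bot_iff.mpr
    intro d hd
    exact (hcon ⟨d, hsΩ (show r d ∈ Y.basicOpen s from hd)⟩).elim
  rw [Scheme.preimage_basicOpen_top] at h1
  obtain ⟨n, hn⟩ := (Scheme.isNilpotent_iff_basicOpen_eq_bot _).mpr h1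
  have h2 : s ^ n = 0 := by
    apply hinj
    rw [map_pow, map_zero]
    exact hn
  have h3 : Y.basicOpen s = ⊥ := (Scheme.isNilpotent_iff_basicOpen_eq_bot s).mp ⟨n, h2⟩
  rw [h3] at hzs
  exact TopologicalSpace.Opens.mem_bot.mp hzs

variable {S : Scheme.{u}} {M : Type} [AddCommGroup M] {N Q : AddSubmonoid M}

theorem tf_point (T : Over S) (hQ : Magnet.IsFace N Q) (Ω : (W N T).left.Opens)
    (hface : ∀ z : (W Q T).left, (Magnet.AMonS.faceMap S hQ ▷ T).left z ∈ Ω)
    (hstab : ∀ d : (Magnet.AMonS S M ⊗ W N T).left, (actW N T).left d ∈ Ω →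
      (snd (Magnet.AMonS S M) (W N T)).left d ∈ Ω)
    (K : Over S) [IsAffine K.left] (hsub : ∀ a b : K.left, a = b) (yK : K ⟶ W N T)
    (pt : K.left) : yK.left pt ∈ Ω := by
  obtain ⟨p, hp⟩ : ∃ p : K ⟶ Magnet.AMonS S ↥N, p = yK ≫ fst _ _ := ⟨_, rfl⟩
  obtain ⟨t, ht⟩ : ∃ t : K ⟶ T, t = yK ≫ snd _ _ := ⟨_, rfl⟩
  have hy : yK = lift p t := by rw [hp, ht, lift_comp_fst_snd]
  obtain ⟨q, hq⟩ : ∃ q : Magnet.AMonS S ↥N ⊗ K ⟶ W N T,
      q = lift (fst (Magnet.AMonS S ↥N) K * (snd (Magnet.AMonS S ↥N) K ≫ p))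
        (snd (Magnet.AMonS S ↥N) K ≫ t) := ⟨_, rfl⟩
  have hq_pt : ∀ {L : Over S} (n : L ⟶ Magnet.AMonS S ↥N) (k : L ⟶ K),
      lift n k ≫ q = lift (n * (k ≫ p)) (k ≫ t) := by
    intro L n k
    rw [hq, comp_lift, MonObj.comp_mul, lift_fst, lift_snd_assoc, lift_snd_assoc]
  obtain ⟨pQ, hpQ⟩ : ∃ pQ : K ⟶ Magnet.AMonS S ↥Q,
      pQ = p ≫ Magnet.AMonS.map S (AddSubmonoid.inclusion hQ.le) := ⟨_, rfl⟩
  have hchar : ((1 : K ⟶ Magnet.AMonS S ↥Q) ≫ Magnet.AMonS.faceMap S hQ) * p =
      pQ ≫ Magnet.AMonS.faceMap S hQ := by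
    apply charOfPt_injective
    refine MonoidHom.ext fun n' => ?_
    obtain ⟨n, rfl⟩ : ∃ n : ↥N, Multiplicative.ofAdd n = n' := ⟨Multiplicative.toAdd n', rfl⟩
    rw [charOfPt_mul, MonoidHom.mul_apply]
    by_cases hn : (n : M) ∈ Q
    · rw [charOfPt_faceMap_of_mem hQ _ n hn, charOfPt_faceMap_of_mem hQ _ n hn, charOfPt_one,
        MonoidHom.one_apply, _root_.one_mul, hpQ, charOfPt_map_apply]
      rfl
    · rw [charOfPt_faceMap_of_not_mem hQ _ n hn, charOfPt_faceMap_of_not_mem hQ _ n hn,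
        zero_mul]
  obtain ⟨e0, he0⟩ : ∃ e0 : K ⟶ Magnet.AMonS S ↥N ⊗ K,
      e0 = lift ((1 : K ⟶ Magnet.AMonS S ↥Q) ≫ Magnet.AMonS.faceMap S hQ) (𝟙 K) := ⟨_, rfl⟩
  have hqe0 : e0 ≫ q = lift pQ t ≫ (Magnet.AMonS.faceMap S hQ ▷ T) := by
    rw [he0, hq_pt, Category.id_comp, Category.id_comp, hchar, lift_whiskerRight]
  have hz0 : q.left (e0.left pt) ∈ Ω := by
    have h1 : q.left (e0.left pt) =
        (Magnet.AMonS.faceMap S hQ ▷ T).left ((lift pQ t).left pt) := by
      have h2 := congrArg (fun w => w.left) hqe0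
      have h3 := congrArg (fun w : K.left ⟶ (W N T).left => w pt) h2
      exact ((Scheme.Hom.comp_apply _ _ _).symm.trans h3).trans (Scheme.Hom.comp_apply _ _ _)
    rw [h1]
    exact hface _
  haveI : IsAffine (Magnet.AMonS S ↥N ⊗ K).left := AG22.isAffine_tensor_left ↥N K
  haveI : IsAffine (Magnet.AMonS S M ⊗ K).left := AG22.isAffine_tensor_left M K
  obtain ⟨r, hr⟩ : ∃ r : Magnet.AMonS S M ⊗ K ⟶ Magnet.AMonS S ↥N ⊗ K,
      r = Magnet.AMonS.map S N.subtype ▷ K := ⟨_, rfl⟩
  have hinjN : Function.Injective (AddMonoidHom.toMultiplicative N.subtype) := by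
    intro a b h
    have h' : ((Multiplicative.toAdd a : ↥N) : M) = ((Multiplicative.toAdd b : ↥N) : M) := h
    exact Multiplicative.toAdd.injective (Subtype.ext h')
  have hrinj : Function.Injective r.left.appTop.hom := by
    rw [injective_iff_map_eq_zero]
    intro x hx
    obtain ⟨c, rfl⟩ := (E_bijective (M := ↥N) K).2 x
    have h1 : pb r (E ↥N K c) = 0 := hx
    rw [hr, E_map] at h1
    have h2 : MonoidAlgebra.mapDomain (AddMonoidHom.toMultiplicative N.subtype) c = 0 :=
      (E_bijective (M := M) K).1 (h1.trans (map_zero _).symm)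
    have h3 : c = 0 :=
      MonoidAlgebra.mapDomain_injective hinjN (h2.trans (MonoidAlgebra.mapDomain_zero _).symm)
    rw [h3, map_zero]
  obtain ⟨d, hd⟩ := exists_mem_of_injective r.left hrinj (q.left ⁻¹ᵁ Ω) (e0.left pt) hz0
  have hrq : r ≫ q = (Magnet.AMonS S M ◁ yK) ≫ actW N T := by
    apply Magnet.hom_ext_lift₂
    intro L g k
    rw [hr, lift_whiskerRight_assoc, hq_pt, lift_whiskerLeft_assoc, hy, comp_lift, actW_formula]
  have h5 : (actW N T).left ((Magnet.AMonS S M ◁ yK).left d) ∈ Ω := by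
    have h2 := congrArg (fun w => w.left) hrq
    have h3 := congrArg (fun w : (Magnet.AMonS S M ⊗ K).left ⟶ (W N T).left => w d) h2
    have h4 : (actW N T).left ((Magnet.AMonS S M ◁ yK).left d) = q.left (r.left d) :=
      ((Scheme.Hom.comp_apply _ _ _).symm.trans h3.symm).trans (Scheme.Hom.comp_apply _ _ _)
    rw [h4]
    exact hd
  have h6 := hstab _ h5
  have h7 : (snd (Magnet.AMonS S M) (W N T)).left ((Magnet.AMonS S M ◁ yK).left d) =
      yK.left ((snd (Magnet.AMonS S M) K).left d) := by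
    have h2 := congrArg (fun w => w.left) (whiskerLeft_snd (Magnet.AMonS S M) yK)
    have h3 := congrArg (fun w : (Magnet.AMonS S M ⊗ K).left ⟶ (W N T).left => w d) h2
    exact ((Scheme.Hom.comp_apply _ _ _).symm.trans h3).trans (Scheme.Hom.comp_apply _ _ _)
  rw [h7, hsub ((snd (Magnet.AMonS S M) K).left d) pt] at h6
  exact h6

/-- a stable open neighbourhood of the face is everything -/
theorem tf (T : Over S) (hQ : Magnet.IsFace N Q) (Ω : (W N T).left.Opens)
    (hface : ∀ z : (W Q T).left, (Magnet.AMonS.faceMap S hQ ▷ T).left z ∈ Ω)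
    (hstab : ∀ d : (Magnet.AMonS S M ⊗ W N T).left, (actW N T).left d ∈ Ω →
      (snd (Magnet.AMonS S M) (W N T)).left d ∈ Ω)
    (y : (W N T).left) : y ∈ Ω := by
  obtain ⟨ys, hys⟩ : ∃ ys : Spec ((W N T).left.residueField y) ⟶ (W N T).left,
      ys = (W N T).left.fromSpecResidueField y := ⟨_, rfl⟩
  haveI : IsAffine (Over.mk (ys ≫ (W N T).hom)).left := by
    show IsAffine (Spec ((W N T).left.residueField y))
    infer_instance
  have hsub : ∀ a b : (Over.mk (ys ≫ (W N T).hom)).left, a = b := by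
    intro a b
    exact Subsingleton.elim (α := PrimeSpectrum ((W N T).left.residueField y)) a b
  have h := tf_point T hQ Ω hface hstab (Over.mk (ys ≫ (W N T).hom)) hsub (Over.homMk ys rfl)
    (IsLocalRing.closedPoint ((W N T).left.residueField y))
  have h3 : ys (IsLocalRing.closedPoint ((W N T).left.residueField y)) = y := by
    rw [hys]
    exact Scheme.fromSpecResidueField_apply _ _
  rw [← h3]
  exact h

/-! ### `A(M)_S → S` is universally open -/

theorem flat_AMonS_hom (S : Scheme.{u}) (M : Type) [AddCommGroup M] :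
    Flat (Magnet.AMonS S M).hom := by
  haveI : Flat (Magnet.AMon (ULift.{u} ℤ) M).hom := by
    have h : (Magnet.AMon (ULift.{u} ℤ) M).hom = Spec.map (CommRingCat.ofHom
        (algebraMap (ULift.{u} ℤ) (MonoidAlgebra (ULift.{u} ℤ) (Multiplicative M)))) :=
      specULiftZIsTerminal.hom_ext _ _
    have hf : Flat (Spec.map (CommRingCat.ofHom
        (algebraMap (ULift.{u} ℤ) (MonoidAlgebra (ULift.{u} ℤ) (Multiplicative M))))) := by
      rw [Flat.SpecMap_iff, CommRingCat.hom_ofHom, RingHom.flat_algebraMap_iff]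
      infer_instance
    rw [h]
    exact hf
  change Flat (pullback.snd (Magnet.AMon (ULift.{u} ℤ) M).hom (toBaseZ S))
  infer_instance

theorem lfp_AMonS_hom (S : Scheme.{u}) (M : Type) [AddCommGroup M] [AddGroup.FG M] :
    LocallyOfFinitePresentation (Magnet.AMonS S M).hom := by
  haveI : IsNoetherianRing (ULift.{u} ℤ) :=
    isNoetherianRing_of_ringEquiv ℤ ULift.ringEquiv.symm
  haveI : LocallyOfFinitePresentation (Magnet.AMon (ULift.{u} ℤ) M).hom := by
    have h : (Magnet.AMon (ULift.{u} ℤ) M).hom = Spec.map (CommRingCat.ofHom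
        (algebraMap (ULift.{u} ℤ) (MonoidAlgebra (ULift.{u} ℤ) (Multiplicative M)))) :=
      specULiftZIsTerminal.hom_ext _ _
    have hf : LocallyOfFinitePresentation (Spec.map (CommRingCat.ofHom
        (algebraMap (ULift.{u} ℤ) (MonoidAlgebra (ULift.{u} ℤ) (Multiplicative M))))) := by
      rw [LocallyOfFinitePresentation.SpecMap_iff, CommRingCat.hom_ofHom,
        RingHom.finitePresentation_algebraMap]
      exact Algebra.FinitePresentation.of_finiteType.mp inferInstance
    rw [h]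
    exact hf
  change LocallyOfFinitePresentation (pullback.snd (Magnet.AMon (ULift.{u} ℤ) M).hom (toBaseZ S))
  infer_instance

theorem universallyOpen_AMonS_hom (S : Scheme.{u}) (M : Type) [AddCommGroup M] [AddGroup.FG M] :
    UniversallyOpen (Magnet.AMonS S M).hom := by
  haveI := flat_AMonS_hom S M
  haveI := lfp_AMonS_hom S M
  infer_instance

end Groth.Agent.Helper17.AG40
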