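import Mathlib
import Groth.Prelude.Def_GmPts
import Groth.Prelude.Def_Magnet4
import Groth.Agent.Lib.Helper17.AG19
import Groth.Agent.Lib.Helper17.AG40

/-!
# Equivariant maps out of `A(N) × T` are determined near the face (helper17)

* `eq_of_agree`: for `N` finitely generated and `T` affine, two equivariant maps `A(N) × T ⟶ X`
  which agree on all infinitesimal neighbourhoods of the face agree (no separatedness of `X`).
* `unique_lift`: two equivariant lifts to `U` (étale over `X`) of the same map which agree on the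
  face agree (any `N`, any `T`).
-/

set_option autoImplicit false
universe u
open CategoryTheory CategoryTheory.Limits MonoidalCategory CartesianMonoidalCategory MonObj
open AlgebraicGeometry Opposite

noncomputable section
namespace Groth.Agent.Helper17.AG41
open Groth.Agent.Helper17.AG14 Groth.Agent.Helper17.AG15 Groth.Agent.Helper17.AG24
open Groth.Agent.Helper17.AG36 Groth.Agent.Helper17.AG37 Groth.Agent.Helper17.AG38
open Groth.Agent.Helper17.AG40

theorem preimage_range_subset {Wl Xl Pl E : Scheme.{u}} (φ₁ φ₂ : Wl ⟶ Xl) (e : E ⟶ Wl)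
    (hcond : e ≫ φ₁ = e ≫ φ₂)
    (hun : ∀ {L : Scheme.{u}} (d : L ⟶ Wl), d ≫ φ₁ = d ≫ φ₂ → ∃ s : L ⟶ E, s ≫ e = d)
    (a b : Pl ⟶ Wl)
    (h : ∀ {L : Scheme.{u}} (d : L ⟶ Pl), d ≫ a ≫ φ₁ = d ≫ a ≫ φ₂ → d ≫ b ≫ φ₁ = d ≫ b ≫ φ₂) :
    a ⁻¹' Set.range e ⊆ b ⁻¹' Set.range e := by
  rw [← Scheme.Pullback.range_fst, ← Scheme.Pullback.range_fst]
  rintro _ ⟨z, rfl⟩
  have h1 : pullback.fst a e ≫ a ≫ φ₁ = pullback.fst a e ≫ a ≫ φ₂ := by
    rw [pullback.condition_assoc, pullback.condition_assoc, hcond]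
  obtain ⟨s, hs⟩ := hun (pullback.fst a e ≫ b)
    (by rw [Category.assoc, Category.assoc]; exact h _ h1)
  refine ⟨pullback.lift (pullback.fst a e) s hs.symm z, ?_⟩
  rw [← Scheme.Hom.comp_apply, pullback.lift_fst]

variable {S : Scheme.{u}} {M : Type} [AddCommGroup M] {N Q : AddSubmonoid M}

theorem stab {X : Over S} (aX : AlgGrp.Action (Red.DS S M) X) (T : Over S) (φ₁ φ₂ : W N T ⟶ X)
    (h₁ : actW N T ≫ φ₁ = (Magnet.AMonS S M ◁ φ₁) ≫ aX.act)
    (h₂ : actW N T ≫ φ₂ = (Magnet.AMonS S M ◁ φ₂) ≫ aX.act)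
    {L : Over S} (d : L ⟶ Magnet.AMonS S M ⊗ W N T) :
    d ≫ actW N T ≫ φ₁ = d ≫ actW N T ≫ φ₂ ↔
      d ≫ snd (Magnet.AMonS S M) (W N T) ≫ φ₁ = d ≫ snd (Magnet.AMonS S M) (W N T) ≫ φ₂ := by
  obtain ⟨g, w, rfl⟩ : ∃ g w, d = lift g w :=
    ⟨d ≫ fst _ _, d ≫ snd _ _, (lift_comp_fst_snd d).symm⟩
  rw [h₁, h₂, lift_whiskerLeft_assoc, lift_whiskerLeft_assoc, lift_snd_assoc, lift_snd_assoc]
  constructor
  · intro h
    exact AG19.cancel_act aX g _ _ h
  · intro h
    rw [h]

theorem stab_left {X : Over S} (aX : AlgGrp.Action (Red.DS S M) X) (T : Over S)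
    (φ₁ φ₂ : W N T ⟶ X)
    (h₁ : actW N T ≫ φ₁ = (Magnet.AMonS S M ◁ φ₁) ≫ aX.act)
    (h₂ : actW N T ≫ φ₂ = (Magnet.AMonS S M ◁ φ₂) ≫ aX.act)
    {L : Scheme.{u}} (d : L ⟶ (Magnet.AMonS S M ⊗ W N T).left) :
    d ≫ (actW N T).left ≫ φ₁.left = d ≫ (actW N T).left ≫ φ₂.left ↔
      d ≫ (snd (Magnet.AMonS S M) (W N T)).left ≫ φ₁.left =
        d ≫ (snd (Magnet.AMonS S M) (W N T)).left ≫ φ₂.left := by
  obtain ⟨dK, hdK⟩ : ∃ dK : Over.mk (d ≫ (Magnet.AMonS S M ⊗ W N T).hom) ⟶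
      Magnet.AMonS S M ⊗ W N T, dK = Over.homMk d rfl := ⟨_, rfl⟩
  have hdl : dK.left = d := by rw [hdK]; rfl
  have h := stab aX T φ₁ φ₂ h₁ h₂ dK
  constructor
  · intro h1
    have h2 : dK ≫ actW N T ≫ φ₁ = dK ≫ actW N T ≫ φ₂ := by
      apply Over.OverMorphism.ext
      simp only [Over.comp_left]
      rw [hdl]
      exact h1
    have h3 := congrArg (fun z => z.left) (h.mp h2)
    simp only [Over.comp_left] at h3
    rw [hdl] at h3
    exact h3
  · intro h1
    have h2 : dK ≫ snd (Magnet.AMonS S M) (W N T) ≫ φ₁ =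
        dK ≫ snd (Magnet.AMonS S M) (W N T) ≫ φ₂ := by
      apply Over.OverMorphism.ext
      simp only [Over.comp_left]
      rw [hdl]
      exact h1
    have h3 := congrArg (fun z => z.left) (h.mpr h2)
    simp only [Over.comp_left] at h3
    rw [hdl] at h3
    exact h3

theorem stable_range {X : Over S} (aX : AlgGrp.Action (Red.DS S M) X) (T : Over S)
    (φ₁ φ₂ : W N T ⟶ X)
    (h₁ : actW N T ≫ φ₁ = (Magnet.AMonS S M ◁ φ₁) ≫ aX.act)
    (h₂ : actW N T ≫ φ₂ = (Magnet.AMonS S M ◁ φ₂) ≫ aX.act)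
    {E : Scheme.{u}} (e : E ⟶ (W N T).left) (hcond : e ≫ φ₁.left = e ≫ φ₂.left)
    (hun : ∀ {L : Scheme.{u}} (d : L ⟶ (W N T).left), d ≫ φ₁.left = d ≫ φ₂.left →
      ∃ s : L ⟶ E, s ≫ e = d) :
    (actW N T).left ⁻¹' Set.range e =
      (snd (Magnet.AMonS S M) (W N T)).left ⁻¹' Set.range e := by
  apply Set.Subset.antisymm
  · exact preimage_range_subset φ₁.left φ₂.left e hcond hun _ _
      (fun d hd => (stab_left aX T φ₁ φ₂ h₁ h₂ d).mp hd)
  · exact preimage_range_subset φ₁.left φ₂.left e hcond hun _ _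
      (fun d hd => (stab_left aX T φ₁ φ₂ h₁ h₂ d).mpr hd)

/-- uniqueness of equivariant lifts along an étale map which agree on the face -/
theorem unique_lift (T : Over S) (hQ : Magnet.IsFace N Q) {X U : Over S} (f : U ⟶ X)
    [Etale f.left] (aU : AlgGrp.Action (Red.DS S M) U) (φ₁ φ₂ : W N T ⟶ U)
    (h₁ : actW N T ≫ φ₁ = (Magnet.AMonS S M ◁ φ₁) ≫ aU.act)
    (h₂ : actW N T ≫ φ₂ = (Magnet.AMonS S M ◁ φ₂) ≫ aU.act)
    (hface : (Magnet.AMonS.faceMap S hQ ▷ T) ≫ φ₁ = (Magnet.AMonS.faceMap S hQ ▷ T) ≫ φ₂)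
    (hf : φ₁ ≫ f = φ₂ ≫ f) : φ₁ = φ₂ := by
  have hfl : φ₁.left ≫ f.left = φ₂.left ≫ f.left := congrArg (fun z => z.left) hf
  haveI : IsOpenImmersion (pullback.diagonal f.left) := inferInstance
  obtain ⟨c, hc⟩ : ∃ c : (W N T).left ⟶ pullback f.left f.left,
      c = pullback.lift φ₁.left φ₂.left hfl := ⟨_, rfl⟩
  have hc1 : c ≫ pullback.fst f.left f.left = φ₁.left := by rw [hc, pullback.lift_fst]
  have hc2 : c ≫ pullback.snd f.left f.left = φ₂.left := by rw [hc, pullback.lift_snd]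
  obtain ⟨e, he⟩ : ∃ e : pullback c (pullback.diagonal f.left) ⟶ (W N T).left,
      e = pullback.fst c (pullback.diagonal f.left) := ⟨_, rfl⟩
  haveI : IsOpenImmersion e := by rw [he]; infer_instance
  have hcond : e ≫ φ₁.left = e ≫ φ₂.left := by
    rw [he, ← hc1, ← hc2, pullback.condition_assoc, pullback.condition_assoc,
      pullback.diagonal_fst, pullback.diagonal_snd]
  have hun : ∀ {L : Scheme.{u}} (d : L ⟶ (W N T).left), d ≫ φ₁.left = d ≫ φ₂.left →
      ∃ s : L ⟶ pullback c (pullback.diagonal f.left), s ≫ e = d := by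
    intro L d hd
    refine ⟨pullback.lift d (d ≫ φ₁.left) ?_, by rw [he, pullback.lift_fst]⟩
    apply pullback.hom_ext
    · rw [Category.assoc, hc1, Category.assoc, pullback.diagonal_fst, Category.comp_id]
    · rw [Category.assoc, hc2, Category.assoc, pullback.diagonal_snd, Category.comp_id, hd]
  have hZ := stable_range aU T φ₁ φ₂ h₁ h₂ e hcond hun
  have hall : ∀ y, y ∈ e.opensRange := by
    apply tf T hQ e.opensRange
    · intro z
      obtain ⟨s, hs⟩ := hun (Magnet.AMonS.faceMap S hQ ▷ T).left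
        (congrArg (fun w => w.left) hface)
      exact ⟨s z, by rw [← Scheme.Hom.comp_apply, hs]⟩
    · intro d hd
      have h1 : d ∈ (actW N T).left ⁻¹' Set.range e := hd
      rw [hZ] at h1
      exact h1
  haveI : IsIso e :=
    isIso_of_isOpenImmersion_of_opensRange_eq_top e (top_unique fun y _ => hall y)
  apply Over.OverMorphism.ext
  exact (cancel_epi e).mp hcond

/-- equivariant maps agreeing on all infinitesimal neighbourhoods of the face agree -/
theorem eq_of_agree [AddGroup.FG M] (T : Over S) [IsAffine T.left] (hQ : Magnet.IsFace N Q)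
    (hfg : N.FG) {X : Over S} (aX : AlgGrp.Action (Red.DS S M) X) (φ₁ φ₂ : W N T ⟶ X)
    (h₁ : actW N T ≫ φ₁ = (Magnet.AMonS S M ◁ φ₁) ≫ aX.act)
    (h₂ : actW N T ≫ φ₂ = (Magnet.AMonS S M ◁ φ₂) ≫ aX.act)
    (hagree : ∀ k, incT N Q T (k + 1) ≫ φ₁ = incT N Q T (k + 1) ≫ φ₂) : φ₁ = φ₂ := by
  haveI hWaff : IsAffine (W N T).left := AG22.isAffine_tensor_left ↥N T
  obtain ⟨e, he⟩ : ∃ e : equalizer φ₁.left φ₂.left ⟶ (W N T).left,
      e = equalizer.ι φ₁.left φ₂.left := ⟨_, rfl⟩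
  haveI : IsImmersion e := by rw [he]; infer_instance
  have hcond : e ≫ φ₁.left = e ≫ φ₂.left := by rw [he]; exact equalizer.condition _ _
  have hun : ∀ {L : Scheme.{u}} (d : L ⟶ (W N T).left), d ≫ φ₁.left = d ≫ φ₂.left →
      ∃ s : L ⟶ equalizer φ₁.left φ₂.left, s ≫ e = d := by
    intro L d hd
    exact ⟨equalizer.lift d hd, by rw [he]; exact equalizer.lift_ι _ _⟩
  have hlift : ∀ k, ∃ s : (Wk N Q T (k + 1)).left ⟶ equalizer φ₁.left φ₂.left,
      s ≫ e = (incT N Q T (k + 1)).left :=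
    fun k => hun _ (congrArg (fun z => z.left) (hagree k))
  haveI : UniversallyOpen (Red.DS S M).hom := universallyOpen_AMonS_hom S M
  have hact_open : IsOpenMap (actW N T).left := by
    haveI : UniversallyOpen (actW N T).left :=
      AF3.universallyOpen_act (Magnet.MonAct.toAction (G := Red.DS S M)
        ((Magnet.subAct S M N).prod (Magnet.MonAct.trivial (Magnet.AMonS S M) T)))
    exact (actW N T).left.isOpenMap
  have hpr_open : IsOpenMap (snd (Magnet.AMonS S M) (W N T)).left := by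
    haveI : UniversallyOpen (snd (Magnet.AMonS S M) (W N T)).left := by
      change UniversallyOpen (pullback.snd (Magnet.AMonS S M).hom (W N T).hom)
      infer_instance
    exact (snd (Magnet.AMonS S M) (W N T)).left.isOpenMap
  have hZ := stable_range aX T φ₁ φ₂ h₁ h₂ e hcond hun
  obtain ⟨Ω, hΩ⟩ : ∃ Ω : (W N T).left.Opens,
      (Ω : Set (W N T).left) = coborder (Set.range e) := ⟨e.coborderRange, rfl⟩
  have hmemΩ : ∀ y, y ∈ Ω ↔ y ∈ coborder (Set.range e) := fun y => by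
    rw [← hΩ]
    rfl
  have hall : ∀ y, y ∈ Ω := by
    apply tf T hQ Ω
    · intro z
      rw [hmemΩ]
      apply subset_coborder
      obtain ⟨j, hj⟩ := exists_j S hQ 0
      obtain ⟨s, hs⟩ := hlift 0
      have e1 : (Magnet.AMonS.faceMap S hQ ▷ T).left = (j ▷ T).left ≫ s ≫ e := by
        rw [hs, ← Over.comp_left, ← comp_whiskerRight, hj]
      refine ⟨s ((j ▷ T).left z), ?_⟩
      rw [e1, Scheme.Hom.comp_apply, Scheme.Hom.comp_apply]
    · intro d hd
      rw [hmemΩ] at hd ⊢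
      have h1 : d ∈ (actW N T).left ⁻¹' coborder (Set.range e) := hd
      rw [← coborder_preimage hact_open (actW N T).left.continuous, hZ,
        coborder_preimage hpr_open (snd (Magnet.AMonS S M) (W N T)).left.continuous] at h1
      exact h1
  have hclosed : IsClosed (Set.range e) := by
    apply coborder_eq_univ_iff.mp
    apply Set.eq_univ_of_forall
    intro y
    exact (hmemΩ y).mp (hall y)
  haveI : IsClosedImmersion e := IsClosedImmersion.of_isPreimmersion e hclosed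
  have hinj : Function.Injective e.appTop.hom := by
    rw [injective_iff_map_eq_zero]
    intro x hx
    apply AG39.inter_ker_succ T hQ hfg
    intro k
    obtain ⟨s, hs⟩ := hlift k
    have h1 : pb (incT N Q T (k + 1)) x = s.appTop.hom (e.appTop.hom x) := by
      have h2 := AG17.appTop_comp_apply s e x
      rw [hs] at h2
      exact h2
    rw [h1, hx, map_zero]
  haveI : IsIso e := IsClosedImmersion.isIso_of_injective_of_isAffine hinj
  apply Over.OverMorphism.ext
  exact (cancel_epi e).mp hcond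

end Groth.Agent.Helper17.AG41
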