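import Mathlib
import Groth.Prelude.Def_GmPts
import Groth.Prelude.Def_Magnet4
import Groth.Agent.Lib.Helper17.AG26
import Groth.Agent.Lib.Helper17.AG41

/-!
# The attractor of an étale equivariant morphism along a face (helper17)

`main18302`: for `f : U ⟶ X` étale equivariant with `U → S` affine, `Q` a face of `N`, and `N`
finitely generated or `X` separated and locally of finite presentation, the square
`U^N → X^N`, `U^N → U^Q`, `X^N → X^Q`, `U^Q → X^Q` is cartesian.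
-/

set_option autoImplicit false
universe u
open CategoryTheory CategoryTheory.Limits MonoidalCategory CartesianMonoidalCategory MonObj
open AlgebraicGeometry Opposite

noncomputable section
namespace Groth.Agent.Helper17.AG42
open Groth.Agent.Helper17.AG14 Groth.Agent.Helper17.AG15 Groth.Agent.Helper17.AG24
open Groth.Agent.Helper17.AG36 Groth.Agent.Helper17.AG37 Groth.Agent.Helper17.AG38

variable {S : Scheme.{u}} {M : Type} [AddCommGroup M] {N Q : AddSubmonoid M}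

/-! ### functoriality of equivariance -/

theorem restr_eqv {X : Over S} (a : Magnet.MonAct (Magnet.AMonS S M) X) {T T' : Over S}
    (t : T' ⟶ T) (φ₀ : W N T ⟶ X) (h : actW N T ≫ φ₀ = (Magnet.AMonS S M ◁ φ₀) ≫ a.act) :
    actW N T' ≫ (Magnet.AMonS S ↥N ◁ t) ≫ φ₀ =
      (Magnet.AMonS S M ◁ ((Magnet.AMonS S ↥N ◁ t) ≫ φ₀)) ≫ a.act :=
  ((Magnet.attr a N).map t.op ⟨φ₀, h⟩).2

theorem map_eqv {X : Over S} (a : Magnet.MonAct (Magnet.AMonS S M) X) {N' : AddSubmonoid M}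
    (hN' : N' ≤ N) (T : Over S) (φ₀ : W N' T ⟶ X)
    (h : actW N' T ≫ φ₀ = (Magnet.AMonS S M ◁ φ₀) ≫ a.act) :
    actW N T ≫ (Magnet.AMonS.map S (AddSubmonoid.inclusion hN') ▷ T) ≫ φ₀ =
      (Magnet.AMonS S M ◁ ((Magnet.AMonS.map S (AddSubmonoid.inclusion hN') ▷ T) ≫ φ₀)) ≫
        a.act :=
  ((Magnet.attrMap a hN').app (op T) ⟨φ₀, h⟩).2

/-! ### the finitely generated case over an affine base -/

theorem fg_affine [AddGroup.FG M] (T : Over S) [IsAffine T.left] (hQ : Magnet.IsFace N Q)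
    (hfg : N.FG) {X U : Over S} [IsAffineHom U.hom] (f : U ⟶ X) [Etale f.left]
    (aX : AlgGrp.Action (Red.DS S M) X) (aU : AlgGrp.Action (Red.DS S M) U)
    (hf : aU.act ≫ f = (Magnet.AMonS S M ◁ f) ≫ aX.act)
    (φ : W N T ⟶ X) (hφ : actW N T ≫ φ = (Magnet.AMonS S M ◁ φ) ≫ aX.act)
    (ψ : W Q T ⟶ U) (hψ : actW Q T ≫ ψ = (Magnet.AMonS S M ◁ ψ) ≫ aU.act)
    (hc : (Magnet.AMonS.faceMap S hQ ▷ T) ≫ φ = ψ ≫ f) :
    ∃ φ' : W N T ⟶ U, actW N T ≫ φ' = (Magnet.AMonS S M ◁ φ') ≫ aU.act ∧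
      (Magnet.AMonS.faceMap S hQ ▷ T) ≫ φ' = ψ ∧ φ' ≫ f = φ := by
  obtain ⟨φ', h1, h2, h3⟩ := AG39.exists_fg T hQ hfg f (Magnet.MonAct.ofAction aX)
    (Magnet.MonAct.ofAction aU) hf φ hφ ψ hψ hc
  have h1' : actW N T ≫ φ' = (Magnet.AMonS S M ◁ φ') ≫ aU.act := h1
  refine ⟨φ', h1', h2, ?_⟩
  have heq : actW N T ≫ φ' ≫ f = (Magnet.AMonS S M ◁ (φ' ≫ f)) ≫ aX.act := by
    calc actW N T ≫ φ' ≫ f = ((Magnet.AMonS S M ◁ φ') ≫ aU.act) ≫ f := by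
          rw [← Category.assoc, h1']
      _ = (Magnet.AMonS S M ◁ φ') ≫ aU.act ≫ f := Category.assoc _ _ _
      _ = (Magnet.AMonS S M ◁ φ') ≫ (Magnet.AMonS S M ◁ f) ≫ aX.act :=
          congrArg (fun z => (Magnet.AMonS S M ◁ φ') ≫ z) hf
      _ = (Magnet.AMonS S M ◁ (φ' ≫ f)) ≫ aX.act := by
          rw [MonoidalCategory.whiskerLeft_comp, Category.assoc]
  exact AG41.eq_of_agree T hQ hfg aX (φ' ≫ f) φ heq hφ h3

/-! ### reduction of the separated case to the finitely generated one -/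

/-- the finitely generated submonoids of `N` -/
def Ni (N : AddSubmonoid M) (s : ULift.{u} (Finset ↥N)) : AddSubmonoid M :=
  (AddSubmonoid.closure ((s.down : Finset ↥N) : Set ↥N)).map N.subtype

theorem Ni_le (s : ULift.{u} (Finset ↥N)) : Ni N s ≤ N := by
  rintro m ⟨n, -, rfl⟩
  exact n.2

theorem Ni_fg (s : ULift.{u} (Finset ↥N)) : (Ni N s).FG :=
  AddSubmonoid.FG.map ⟨s.down, rfl⟩ N.subtype

theorem Ni_mono : Monotone (Ni.{u} N) := fun _ _ h =>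
  AddSubmonoid.monotone_map (AddSubmonoid.closure_mono (Finset.coe_subset.mpr h))

theorem Ni_exhaust (m : M) (hm : m ∈ N) : ∃ s : ULift.{u} (Finset ↥N), m ∈ Ni N s :=
  ⟨⟨{⟨m, hm⟩}⟩, ⟨⟨m, hm⟩, AddSubmonoid.subset_closure (by simp), rfl⟩⟩

theorem isFace_inf (hQ : Magnet.IsFace N Q) {N' : AddSubmonoid M} (hN' : N' ≤ N) :
    Magnet.IsFace N' (Q ⊓ N') where
  le := inf_le_right
  mem_of_add_mem := fun x hx y hy hxy => by
    obtain ⟨hx', hy'⟩ := hQ.mem_of_add_mem x (hN' hx) y (hN' hy) hxy.1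
    exact ⟨⟨hx', hx⟩, ⟨hy', hy⟩⟩

theorem face_square (hQ : Magnet.IsFace N Q) {N' : AddSubmonoid M} (hN' : N' ≤ N)
    (hQ' : Magnet.IsFace N' (Q ⊓ N')) :
    Magnet.AMonS.faceMap S hQ ≫ Magnet.AMonS.map S (AddSubmonoid.inclusion hN') =
      Magnet.AMonS.map S (AddSubmonoid.inclusion (inf_le_left : Q ⊓ N' ≤ Q)) ≫
        Magnet.AMonS.faceMap S hQ' := by
  have key : ∀ {K : Over S} (t : K ⟶ Magnet.AMonS S ↥Q),
      (t ≫ Magnet.AMonS.faceMap S hQ) ≫ Magnet.AMonS.map S (AddSubmonoid.inclusion hN') =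
      (t ≫ Magnet.AMonS.map S (AddSubmonoid.inclusion (inf_le_left : Q ⊓ N' ≤ Q))) ≫
        Magnet.AMonS.faceMap S hQ' := by
    intro K t
    apply charOfPt_injective
    refine MonoidHom.ext fun n' => ?_
    obtain ⟨n, rfl⟩ : ∃ n : ↥N', Multiplicative.ofAdd n = n' := ⟨Multiplicative.toAdd n', rfl⟩
    rw [charOfPt_map_apply]
    by_cases hn : (n : M) ∈ Q
    · have hn' : (n : M) ∈ Q ⊓ N' := ⟨hn, n.2⟩
      rw [charOfPt_faceMap_of_mem hQ' _ n hn', charOfPt_map_apply,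
        charOfPt_faceMap_of_mem hQ t (AddSubmonoid.inclusion hN' n) hn]
      rfl
    · have hn' : (n : M) ∉ Q ⊓ N' := fun h => hn h.1
      rw [charOfPt_faceMap_of_not_mem hQ' _ n hn',
        charOfPt_faceMap_of_not_mem hQ t (AddSubmonoid.inclusion hN' n) hn]
  have h1 := key (𝟙 (Magnet.AMonS S ↥Q))
  rw [Category.id_comp, Category.id_comp] at h1
  exact h1

theorem sep_affine [AddGroup.FG M] (T : Over S) [IsAffine T.left] (hQ : Magnet.IsFace N Q)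
    {X U : Over S} [IsAffineHom U.hom] [IsSeparated X.hom] [LocallyOfFinitePresentation X.hom]
    (f : U ⟶ X) [Etale f.left]
    (aX : AlgGrp.Action (Red.DS S M) X) (aU : AlgGrp.Action (Red.DS S M) U)
    (hf : aU.act ≫ f = (Magnet.AMonS S M ◁ f) ≫ aX.act)
    (φ : W N T ⟶ X) (hφ : actW N T ≫ φ = (Magnet.AMonS S M ◁ φ) ≫ aX.act)
    (ψ : W Q T ⟶ U) (hψ : actW Q T ≫ ψ = (Magnet.AMonS S M ◁ ψ) ≫ aU.act)
    (hc : (Magnet.AMonS.faceMap S hQ ▷ T) ≫ φ = ψ ≫ f) :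
    ∃ φ' : W N T ⟶ U, actW N T ≫ φ' = (Magnet.AMonS S M ◁ φ') ≫ aU.act ∧
      (Magnet.AMonS.faceMap S hQ ▷ T) ≫ φ' = ψ ∧ φ' ≫ f = φ := by
  classical
  haveI : LocallyOfFinitePresentation U.hom := by
    rw [← Over.w f]
    infer_instance
  haveI : IsDirected (ULift.{u} (Finset ↥N)) (· ≤ ·) :=
    ⟨fun x y => ⟨⟨x.down ∪ y.down⟩, Finset.subset_union_left, Finset.subset_union_right⟩⟩
  haveI : Nonempty (ULift.{u} (Finset ↥N)) := ⟨⟨∅⟩⟩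
  obtain ⟨i₁, φ₁, hφ₁⟩ := AG22.core (Magnet.MonAct.ofAction aX) (Ni.{u} N) Ni_mono N Ni_le
    Ni_exhaust T ⟨φ, hφ⟩
  obtain ⟨i₂, ψ₂, hψ₂⟩ := AG22.core (Magnet.MonAct.ofAction aU) (fun s => Q ⊓ Ni.{u} N s)
    (fun _ _ h => inf_le_inf_left Q (Ni_mono h)) Q (fun _ => inf_le_left)
    (fun m hm => by
      obtain ⟨s, hs⟩ := Ni_exhaust m (hQ.le hm)
      exact ⟨s, hm, hs⟩) T ⟨ψ, hψ⟩
  have hφ₁' : (Magnet.AMonS.map S (AddSubmonoid.inclusion (Ni_le i₁)) ▷ T) ≫ φ₁.1 = φ := hφ₁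
  have hψ₂' : (Magnet.AMonS.map S
      (AddSubmonoid.inclusion (inf_le_left : Q ⊓ Ni N i₂ ≤ Q)) ▷ T) ≫ ψ₂.1 = ψ := hψ₂
  obtain ⟨i, h1i, h2i⟩ := directed_of (· ≤ ·) i₁ i₂
  have hQi : Magnet.IsFace (Ni N i) (Q ⊓ Ni N i) := isFace_inf hQ (Ni_le i)
  -- the data at level `i`
  obtain ⟨Φi, hΦi⟩ : ∃ Φi : W (Ni N i) T ⟶ X,
      Φi = (Magnet.AMonS.map S (AddSubmonoid.inclusion (Ni_mono h1i)) ▷ T) ≫ φ₁.1 := ⟨_, rfl⟩
  have hΦi_eqv : actW (Ni N i) T ≫ Φi = (Magnet.AMonS S M ◁ Φi) ≫ aX.act := by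
    rw [hΦi]
    exact map_eqv (Magnet.MonAct.ofAction aX) (Ni_mono h1i) T φ₁.1 φ₁.2
  have hΦi_φ : (Magnet.AMonS.map S (AddSubmonoid.inclusion (Ni_le i)) ▷ T) ≫ Φi = φ := by
    rw [hΦi, ← Category.assoc, ← comp_whiskerRight,
      AG22.map_inclusion_comp (Ni_mono h1i) (Ni_le i) (Ni_le i₁)]
    exact hφ₁'
  obtain ⟨Ψi, hΨi⟩ : ∃ Ψi : W (Q ⊓ Ni N i) T ⟶ U,
      Ψi = (Magnet.AMonS.map S (AddSubmonoid.inclusion
        (inf_le_inf_left Q (Ni_mono h2i) : Q ⊓ Ni N i₂ ≤ Q ⊓ Ni N i)) ▷ T) ≫ ψ₂.1 := ⟨_, rfl⟩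
  have hΨi_eqv : actW (Q ⊓ Ni N i) T ≫ Ψi = (Magnet.AMonS S M ◁ Ψi) ≫ aU.act := by
    rw [hΨi]
    exact map_eqv (Magnet.MonAct.ofAction aU) (inf_le_inf_left Q (Ni_mono h2i)) T ψ₂.1 ψ₂.2
  have hΨi_ψ : (Magnet.AMonS.map S
      (AddSubmonoid.inclusion (inf_le_left : Q ⊓ Ni N i ≤ Q)) ▷ T) ≫ Ψi = ψ := by
    rw [hΨi, ← Category.assoc, ← comp_whiskerRight,
      AG22.map_inclusion_comp (inf_le_inf_left Q (Ni_mono h2i)) inf_le_left inf_le_left]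
    exact hψ₂'
  have hsq := face_square (S := S) hQ (Ni_le i) hQi
  -- compatibility at level `i`
  have hci : (Magnet.AMonS.faceMap S hQi ▷ T) ≫ Φi = Ψi ≫ f := by
    apply AG9.ext_of_whiskerRight_map S (AddSubmonoid.inclusion (inf_le_left : Q ⊓ Ni N i ≤ Q))
      (AddSubmonoid.inclusion_injective _) T X
    calc (Magnet.AMonS.map S (AddSubmonoid.inclusion (inf_le_left : Q ⊓ Ni N i ≤ Q)) ▷ T) ≫
          (Magnet.AMonS.faceMap S hQi ▷ T) ≫ Φi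
        = ((Magnet.AMonS.map S (AddSubmonoid.inclusion (inf_le_left : Q ⊓ Ni N i ≤ Q)) ≫
            Magnet.AMonS.faceMap S hQi) ▷ T) ≫ Φi := by
          rw [comp_whiskerRight, Category.assoc]
      _ = ((Magnet.AMonS.faceMap S hQ ≫
            Magnet.AMonS.map S (AddSubmonoid.inclusion (Ni_le i))) ▷ T) ≫ Φi := by rw [hsq]
      _ = (Magnet.AMonS.faceMap S hQ ▷ T) ≫
            (Magnet.AMonS.map S (AddSubmonoid.inclusion (Ni_le i)) ▷ T) ≫ Φi := by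
          rw [comp_whiskerRight, Category.assoc]
      _ = ψ ≫ f := by rw [hΦi_φ, hc]
      _ = ((Magnet.AMonS.map S (AddSubmonoid.inclusion (inf_le_left : Q ⊓ Ni N i ≤ Q)) ▷ T) ≫
            Ψi) ≫ f := by rw [hΨi_ψ]
      _ = (Magnet.AMonS.map S (AddSubmonoid.inclusion (inf_le_left : Q ⊓ Ni N i ≤ Q)) ▷ T) ≫
            Ψi ≫ f := Category.assoc _ _ _
  obtain ⟨φ'i, e1, e2, e3⟩ := fg_affine T hQi (Ni_fg i) f aX aU hf Φi hΦi_eqv Ψi hΨi_eqv hci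
  refine ⟨(Magnet.AMonS.map S (AddSubmonoid.inclusion (Ni_le i)) ▷ T) ≫ φ'i,
    map_eqv (Magnet.MonAct.ofAction aU) (Ni_le i) T φ'i e1, ?_, ?_⟩
  · calc (Magnet.AMonS.faceMap S hQ ▷ T) ≫
          (Magnet.AMonS.map S (AddSubmonoid.inclusion (Ni_le i)) ▷ T) ≫ φ'i
        = ((Magnet.AMonS.faceMap S hQ ≫
            Magnet.AMonS.map S (AddSubmonoid.inclusion (Ni_le i))) ▷ T) ≫ φ'i := by
          rw [comp_whiskerRight, Category.assoc]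
      _ = ((Magnet.AMonS.map S (AddSubmonoid.inclusion (inf_le_left : Q ⊓ Ni N i ≤ Q)) ≫
            Magnet.AMonS.faceMap S hQi) ▷ T) ≫ φ'i := by rw [hsq]
      _ = (Magnet.AMonS.map S (AddSubmonoid.inclusion (inf_le_left : Q ⊓ Ni N i ≤ Q)) ▷ T) ≫
            (Magnet.AMonS.faceMap S hQi ▷ T) ≫ φ'i := by
          rw [comp_whiskerRight, Category.assoc]
      _ = ψ := by rw [e2, hΨi_ψ]
  · rw [Category.assoc, e3, hΦi_φ]

/-! ### gluing over an open cover of `T` -/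

theorem eqv_of_local {T : Over S} (𝒰 : Scheme.OpenCover.{u} T.left) {X : Over S}
    (a : Magnet.MonAct (Magnet.AMonS S M) X) (Φ : W N T ⟶ X)
    (h : ∀ i, actW N (AG26.Ti 𝒰 i) ≫ (Magnet.AMonS S ↥N ◁ AG26.inc 𝒰 i) ≫ Φ =
      (Magnet.AMonS S M ◁ ((Magnet.AMonS S ↥N ◁ AG26.inc 𝒰 i) ≫ Φ)) ≫ a.act) :
    actW N T ≫ Φ = (Magnet.AMonS S M ◁ Φ) ≫ a.act := by
  have key : (α_ (Magnet.AMonS S M) (Magnet.AMonS S ↥N) T).hom ≫ actW N T ≫ Φ =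
      (α_ (Magnet.AMonS S M) (Magnet.AMonS S ↥N) T).hom ≫ (Magnet.AMonS S M ◁ Φ) ≫ a.act := by
    apply AG26.glue_ext 𝒰
    intro i
    have nat : ((Magnet.AMonS S M ⊗ Magnet.AMonS S ↥N) ◁ AG26.inc 𝒰 i) ≫
        (α_ (Magnet.AMonS S M) (Magnet.AMonS S ↥N) T).hom =
        (α_ (Magnet.AMonS S M) (Magnet.AMonS S ↥N) (AG26.Ti 𝒰 i)).hom ≫
          (Magnet.AMonS S M ◁ (Magnet.AMonS S ↥N ◁ AG26.inc 𝒰 i)) := by
      rw [MonoidalCategory.tensor_whiskerLeft, Category.assoc, Category.assoc, Iso.inv_hom_id,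
        Category.comp_id]
    have hact : actW N (AG26.Ti 𝒰 i) ≫ (Magnet.AMonS S ↥N ◁ AG26.inc 𝒰 i) =
        (Magnet.AMonS S M ◁ (Magnet.AMonS S ↥N ◁ AG26.inc 𝒰 i)) ≫ actW N T :=
      Magnet.MonAct.prod_trivial_act_whiskerLeft (Magnet.subAct S M N) (AG26.inc 𝒰 i)
    calc ((Magnet.AMonS S M ⊗ Magnet.AMonS S ↥N) ◁ AG26.inc 𝒰 i) ≫
          (α_ (Magnet.AMonS S M) (Magnet.AMonS S ↥N) T).hom ≫ actW N T ≫ Φ
        = ((α_ (Magnet.AMonS S M) (Magnet.AMonS S ↥N) (AG26.Ti 𝒰 i)).hom ≫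
            (Magnet.AMonS S M ◁ (Magnet.AMonS S ↥N ◁ AG26.inc 𝒰 i))) ≫ actW N T ≫ Φ := by
          rw [← Category.assoc, nat]
      _ = (α_ (Magnet.AMonS S M) (Magnet.AMonS S ↥N) (AG26.Ti 𝒰 i)).hom ≫
            ((Magnet.AMonS S M ◁ (Magnet.AMonS S ↥N ◁ AG26.inc 𝒰 i)) ≫ actW N T) ≫ Φ := by
          simp only [Category.assoc]
      _ = (α_ (Magnet.AMonS S M) (Magnet.AMonS S ↥N) (AG26.Ti 𝒰 i)).hom ≫
            actW N (AG26.Ti 𝒰 i) ≫ (Magnet.AMonS S ↥N ◁ AG26.inc 𝒰 i) ≫ Φ := by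
          rw [← hact, Category.assoc]
      _ = (α_ (Magnet.AMonS S M) (Magnet.AMonS S ↥N) (AG26.Ti 𝒰 i)).hom ≫
            (Magnet.AMonS S M ◁ ((Magnet.AMonS S ↥N ◁ AG26.inc 𝒰 i) ≫ Φ)) ≫ a.act := by
          rw [h i]
      _ = ((α_ (Magnet.AMonS S M) (Magnet.AMonS S ↥N) (AG26.Ti 𝒰 i)).hom ≫
            (Magnet.AMonS S M ◁ (Magnet.AMonS S ↥N ◁ AG26.inc 𝒰 i))) ≫
              (Magnet.AMonS S M ◁ Φ) ≫ a.act := by
          rw [MonoidalCategory.whiskerLeft_comp]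
          simp only [Category.assoc]
      _ = ((Magnet.AMonS S M ⊗ Magnet.AMonS S ↥N) ◁ AG26.inc 𝒰 i) ≫
            (α_ (Magnet.AMonS S M) (Magnet.AMonS S ↥N) T).hom ≫
              (Magnet.AMonS S M ◁ Φ) ≫ a.act := by
          rw [← nat, Category.assoc]
  exact (cancel_epi (α_ (Magnet.AMonS S M) (Magnet.AMonS S ↥N) T).hom).mp key

theorem general_T (T : Over S) (hQ : Magnet.IsFace N Q) {X U : Over S} (f : U ⟶ X)
    [Etale f.left] (aX : AlgGrp.Action (Red.DS S M) X) (aU : AlgGrp.Action (Red.DS S M) U)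
    (haff : ∀ (T' : Over S) [IsAffine T'.left] (φ₀ : W N T' ⟶ X),
      actW N T' ≫ φ₀ = (Magnet.AMonS S M ◁ φ₀) ≫ aX.act → ∀ (ψ₀ : W Q T' ⟶ U),
      actW Q T' ≫ ψ₀ = (Magnet.AMonS S M ◁ ψ₀) ≫ aU.act →
      (Magnet.AMonS.faceMap S hQ ▷ T') ≫ φ₀ = ψ₀ ≫ f →
      ∃ φ' : W N T' ⟶ U, actW N T' ≫ φ' = (Magnet.AMonS S M ◁ φ') ≫ aU.act ∧
        (Magnet.AMonS.faceMap S hQ ▷ T') ≫ φ' = ψ₀ ∧ φ' ≫ f = φ₀)
    (φ : W N T ⟶ X) (hφ : actW N T ≫ φ = (Magnet.AMonS S M ◁ φ) ≫ aX.act)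
    (ψ : W Q T ⟶ U) (hψ : actW Q T ≫ ψ = (Magnet.AMonS S M ◁ ψ) ≫ aU.act)
    (hc : (Magnet.AMonS.faceMap S hQ ▷ T) ≫ φ = ψ ≫ f) :
    ∃ φ' : W N T ⟶ U, actW N T ≫ φ' = (Magnet.AMonS S M ◁ φ') ≫ aU.act ∧
      (Magnet.AMonS.faceMap S hQ ▷ T) ≫ φ' = ψ ∧ φ' ≫ f = φ := by
  obtain ⟨𝒰, h𝒰⟩ : ∃ 𝒰 : Scheme.OpenCover.{u} T.left, ∀ i, IsAffine (𝒰.X i) :=
    ⟨T.left.affineCover, fun i => inferInstance⟩
  haveI : ∀ i, IsAffine (AG26.Ti 𝒰 i).left := fun i => h𝒰 i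
  have hexch : ∀ {T₁ T₂ : Over S} (t : T₁ ⟶ T₂),
      (Magnet.AMonS.faceMap S hQ ▷ T₁) ≫ (Magnet.AMonS S ↥N ◁ t) =
        (Magnet.AMonS S ↥Q ◁ t) ≫ (Magnet.AMonS.faceMap S hQ ▷ T₂) :=
    fun t => (whisker_exchange (Magnet.AMonS.faceMap S hQ) t).symm
  have hloc : ∀ i, ∃ φ'i : W N (AG26.Ti 𝒰 i) ⟶ U,
      actW N (AG26.Ti 𝒰 i) ≫ φ'i = (Magnet.AMonS S M ◁ φ'i) ≫ aU.act ∧
      (Magnet.AMonS.faceMap S hQ ▷ AG26.Ti 𝒰 i) ≫ φ'i =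
        (Magnet.AMonS S ↥Q ◁ AG26.inc 𝒰 i) ≫ ψ ∧
      φ'i ≫ f = (Magnet.AMonS S ↥N ◁ AG26.inc 𝒰 i) ≫ φ := fun i =>
    haff (AG26.Ti 𝒰 i) ((Magnet.AMonS S ↥N ◁ AG26.inc 𝒰 i) ≫ φ)
      (restr_eqv (Magnet.MonAct.ofAction aX) (AG26.inc 𝒰 i) φ hφ)
      ((Magnet.AMonS S ↥Q ◁ AG26.inc 𝒰 i) ≫ ψ)
      (restr_eqv (Magnet.MonAct.ofAction aU) (AG26.inc 𝒰 i) ψ hψ)
      (by rw [← Category.assoc, hexch, Category.assoc, hc, Category.assoc])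
  choose φ'i h1 h2 h3 using hloc
  obtain ⟨Φ, hΦ⟩ := AG26.glue_exists 𝒰 φ'i (fun i j Wo mi mj hm => by
    have hp : mi ≫ fst (Magnet.AMonS S ↥N) (AG26.Ti 𝒰 i) =
        mj ≫ fst (Magnet.AMonS S ↥N) (AG26.Ti 𝒰 j) := by
      have h0 := congrArg (fun z => z ≫ fst (Magnet.AMonS S ↥N) T) hm
      simp only [Category.assoc, whiskerLeft_fst] at h0
      exact h0
    have ht : (mi ≫ snd (Magnet.AMonS S ↥N) (AG26.Ti 𝒰 i)) ≫ AG26.inc 𝒰 i =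
        (mj ≫ snd (Magnet.AMonS S ↥N) (AG26.Ti 𝒰 j)) ≫ AG26.inc 𝒰 j := by
      have h0 := congrArg (fun z => z ≫ snd (Magnet.AMonS S ↥N) T) hm
      simp only [Category.assoc, whiskerLeft_snd] at h0
      simpa only [Category.assoc] using h0
    obtain ⟨ti, hti⟩ : ∃ ti : Wo ⟶ AG26.Ti 𝒰 i,
        ti = mi ≫ snd (Magnet.AMonS S ↥N) (AG26.Ti 𝒰 i) := ⟨_, rfl⟩
    obtain ⟨tj, htj⟩ : ∃ tj : Wo ⟶ AG26.Ti 𝒰 j,
        tj = mj ≫ snd (Magnet.AMonS S ↥N) (AG26.Ti 𝒰 j) := ⟨_, rfl⟩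
    rw [← hti, ← htj] at ht
    have huv : (Magnet.AMonS S ↥N ◁ ti) ≫ φ'i i = (Magnet.AMonS S ↥N ◁ tj) ≫ φ'i j := by
      apply AG41.unique_lift Wo hQ f aU
      · exact restr_eqv (Magnet.MonAct.ofAction aU) ti (φ'i i) (h1 i)
      · exact restr_eqv (Magnet.MonAct.ofAction aU) tj (φ'i j) (h1 j)
      · calc (Magnet.AMonS.faceMap S hQ ▷ Wo) ≫ (Magnet.AMonS S ↥N ◁ ti) ≫ φ'i i
            = (Magnet.AMonS S ↥Q ◁ ti) ≫ (Magnet.AMonS.faceMap S hQ ▷ AG26.Ti 𝒰 i) ≫ φ'i i := by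
              rw [← Category.assoc, hexch, Category.assoc]
          _ = (Magnet.AMonS S ↥Q ◁ (ti ≫ AG26.inc 𝒰 i)) ≫ ψ := by
              rw [h2 i, MonoidalCategory.whiskerLeft_comp, Category.assoc]
          _ = (Magnet.AMonS S ↥Q ◁ (tj ≫ AG26.inc 𝒰 j)) ≫ ψ := by rw [ht]
          _ = (Magnet.AMonS S ↥Q ◁ tj) ≫ (Magnet.AMonS.faceMap S hQ ▷ AG26.Ti 𝒰 j) ≫ φ'i j := by
              rw [h2 j, MonoidalCategory.whiskerLeft_comp, Category.assoc]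
          _ = (Magnet.AMonS.faceMap S hQ ▷ Wo) ≫ (Magnet.AMonS S ↥N ◁ tj) ≫ φ'i j := by
              rw [← Category.assoc (Magnet.AMonS.faceMap S hQ ▷ Wo), hexch, Category.assoc]
      · calc ((Magnet.AMonS S ↥N ◁ ti) ≫ φ'i i) ≫ f
            = (Magnet.AMonS S ↥N ◁ (ti ≫ AG26.inc 𝒰 i)) ≫ φ := by
              rw [Category.assoc, h3 i, MonoidalCategory.whiskerLeft_comp, Category.assoc]
          _ = (Magnet.AMonS S ↥N ◁ (tj ≫ AG26.inc 𝒰 j)) ≫ φ := by rw [ht]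
          _ = ((Magnet.AMonS S ↥N ◁ tj) ≫ φ'i j) ≫ f := by
              rw [Category.assoc, h3 j, MonoidalCategory.whiskerLeft_comp, Category.assoc]
    have e1 : mi = lift (mi ≫ fst (Magnet.AMonS S ↥N) (AG26.Ti 𝒰 i)) (𝟙 Wo) ≫
        (Magnet.AMonS S ↥N ◁ ti) := by
      rw [lift_whiskerLeft, Category.id_comp, hti, lift_comp_fst_snd]
    have e2 : mj = lift (mi ≫ fst (Magnet.AMonS S ↥N) (AG26.Ti 𝒰 i)) (𝟙 Wo) ≫
        (Magnet.AMonS S ↥N ◁ tj) := by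
      rw [lift_whiskerLeft, Category.id_comp, htj, hp, lift_comp_fst_snd]
    calc mi ≫ φ'i i
        = (lift (mi ≫ fst (Magnet.AMonS S ↥N) (AG26.Ti 𝒰 i)) (𝟙 Wo) ≫
            (Magnet.AMonS S ↥N ◁ ti)) ≫ φ'i i := by rw [← e1]
      _ = lift (mi ≫ fst (Magnet.AMonS S ↥N) (AG26.Ti 𝒰 i)) (𝟙 Wo) ≫
            (Magnet.AMonS S ↥N ◁ ti) ≫ φ'i i := Category.assoc _ _ _
      _ = lift (mi ≫ fst (Magnet.AMonS S ↥N) (AG26.Ti 𝒰 i)) (𝟙 Wo) ≫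
            (Magnet.AMonS S ↥N ◁ tj) ≫ φ'i j := by rw [huv]
      _ = (lift (mi ≫ fst (Magnet.AMonS S ↥N) (AG26.Ti 𝒰 i)) (𝟙 Wo) ≫
            (Magnet.AMonS S ↥N ◁ tj)) ≫ φ'i j := (Category.assoc _ _ _).symm
      _ = mj ≫ φ'i j := by rw [← e2])
  refine ⟨Φ, ?_, ?_, ?_⟩
  · apply eqv_of_local 𝒰 (Magnet.MonAct.ofAction aU) Φ
    intro i
    rw [hΦ i]
    exact h1 i
  · apply AG26.glue_ext 𝒰
    intro i
    rw [← Category.assoc, ← hexch, Category.assoc, hΦ i, h2 i]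
  · apply AG26.glue_ext 𝒰
    intro i
    rw [← Category.assoc, hΦ i, h3 i]

/-! ### the main statement -/

theorem main18302 (S : Scheme.{u}) (M : Type) [AddCommGroup M]
    [AddGroup.FG M] (X U : Over S) (aX : AlgGrp.Action (Red.DS S M) X)
    (aU : AlgGrp.Action (Red.DS S M) U)
    [IsAffineHom U.hom] (f : U ⟶ X) [Etale f.left]
    (hf : Magnet.MonAct.IsEquivariant (Magnet.MonAct.ofAction aU) (Magnet.MonAct.ofAction aX) f)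
    (N Q : AddSubmonoid M) (hQ : Magnet.IsFace N Q)
    (h : N.FG ∨ (IsSeparated X.hom ∧ LocallyOfFinitePresentation X.hom)) :
    IsPullback (Magnet.MonAct.eqvHom.postcomp (Magnet.subAct S M N) f hf)
      (Magnet.attrFace (Magnet.MonAct.ofAction aU) hQ)
      (Magnet.attrFace (Magnet.MonAct.ofAction aX) hQ)
      (Magnet.MonAct.eqvHom.postcomp (Magnet.subAct S M Q) f hf) := by
  have hf' : aU.act ≫ f = (Magnet.AMonS S M ◁ f) ≫ aX.act := hf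
  have haff : ∀ (T' : Over S) [IsAffine T'.left] (φ₀ : W N T' ⟶ X),
      actW N T' ≫ φ₀ = (Magnet.AMonS S M ◁ φ₀) ≫ aX.act → ∀ (ψ₀ : W Q T' ⟶ U),
      actW Q T' ≫ ψ₀ = (Magnet.AMonS S M ◁ ψ₀) ≫ aU.act →
      (Magnet.AMonS.faceMap S hQ ▷ T') ≫ φ₀ = ψ₀ ≫ f →
      ∃ φ' : W N T' ⟶ U, actW N T' ≫ φ' = (Magnet.AMonS S M ◁ φ') ≫ aU.act ∧
        (Magnet.AMonS.faceMap S hQ ▷ T') ≫ φ' = ψ₀ ∧ φ' ≫ f = φ₀ := by
    intro T' _ φ₀ hφ₀ ψ₀ hψ₀ hc₀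
    rcases h with hfg | ⟨hsep, hlfp⟩
    · exact fg_affine T' hQ hfg f aX aU hf' φ₀ hφ₀ ψ₀ hψ₀ hc₀
    · haveI := hsep
      haveI := hlfp
      exact sep_affine T' hQ f aX aU hf' φ₀ hφ₀ ψ₀ hψ₀ hc₀
  apply IsPullback.of_forall_isPullback_app
  intro T
  obtain ⟨T⟩ := T
  rw [Types.isPullback_iff]
  refine ⟨?_, ?_, ?_⟩
  · refine ConcreteCategory.hom_ext _ _ (fun ψ => ?_)
    apply Subtype.ext
    show (Magnet.AMonS.faceMap S hQ ▷ T) ≫ ψ.1 ≫ f =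
      ((Magnet.AMonS.faceMap S hQ ▷ T) ≫ ψ.1) ≫ f
    rw [Category.assoc]
  · rintro ψ₁ ψ₂ ⟨h1, h2⟩
    apply Subtype.ext
    exact AG41.unique_lift T hQ f aU ψ₁.1 ψ₂.1 ψ₁.2 ψ₂.2 (congrArg Subtype.val h2)
      (congrArg Subtype.val h1)
  · intro φ z hφz
    obtain ⟨φ', e1, e2, e3⟩ := general_T T hQ f aX aU haff φ.1 φ.2 z.1 z.2
      (congrArg Subtype.val hφz)
    exact ⟨⟨φ', e1⟩, Subtype.ext e3, Subtype.ext e2⟩

end Groth.Agent.Helper17.AG42
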