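import Mathlib
import Groth.Prelude.Def_GmPts
import Groth.Prelude.Def_Magnet4
import Groth.Agent.Lib.Helper17.AG20
import Groth.Agent.Lib.Helper17.AG42

/-!
# Attractors of equivariant open immersions (helper17)

`factor_open`: an equivariant map `A(N) × T ⟶ Y` whose limit points (the image of the idempotent
of the face of units) lie in an equivariantly embedded open `X ⊆ Y` factors through `X`.
`main18235`: the map of representing schemes `X^N ⟶ Y^N` is an open immersion.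
-/

set_option autoImplicit false
universe u
open CategoryTheory CategoryTheory.Limits MonoidalCategory CartesianMonoidalCategory MonObj
open AlgebraicGeometry Opposite

noncomputable section
namespace Groth.Agent.Helper17.AG43
open Groth.Agent.Helper17.AG14 Groth.Agent.Helper17.AG15 Groth.Agent.Helper17.AG24
open Groth.Agent.Helper17.AG36 Groth.Agent.Helper17.AG37 Groth.Agent.Helper17.AG38

theorem range_of_isPullback {P X Y Z : Scheme.{u}} {p₁ : P ⟶ X} {p₂ : P ⟶ Y} {f : X ⟶ Z}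
    {g : Y ⟶ Z} (h : IsPullback p₁ p₂ f g) (y : Y) (hy : g y ∈ Set.range f) :
    y ∈ Set.range p₂ := by
  obtain ⟨x, hx⟩ := hy
  obtain ⟨z, -, hz2⟩ := Scheme.Pullback.exists_preimage_pullback (f := f) (g := g) x y hx
  refine ⟨h.isoPullback.inv z, ?_⟩
  rw [← Scheme.Hom.comp_apply, h.isoPullback_inv_snd]
  exact hz2

variable {S : Scheme.{u}}

section Range
variable {G X Y : Over S} [GrpObj G] (aX : AlgGrp.Action G X) (aY : AlgGrp.Action G Y)
  (f : X ⟶ Y) (hf : aX.act ≫ f = (G ◁ f) ≫ aY.act)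

include hf in
theorem range_stable_fwd (d' : (G ⊗ Y).left) (h : (snd G Y).left d' ∈ Set.range f.left) :
    aY.act.left d' ∈ Set.range f.left := by
  obtain ⟨x'', hx''⟩ := range_of_isPullback
    ((AG20.isPullback_snd_whiskerLeft G f).map (Over.forget S)) d' h
  have hx2 : (G ◁ f).left x'' = d' := hx''
  refine ⟨aX.act.left x'', ?_⟩
  have h2 := congrArg (fun w => w.left) hf
  have h3 := congrArg (fun w : (G ⊗ X).left ⟶ Y.left => w x'') h2
  have h4 : f.left (aX.act.left x'') = aY.act.left ((G ◁ f).left x'') :=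
    ((Scheme.Hom.comp_apply _ _ _).symm.trans h3).trans (Scheme.Hom.comp_apply _ _ _)
  rw [h4, hx2]

include hf in
theorem range_stable_bwd (d' : (G ⊗ Y).left) (h : aY.act.left d' ∈ Set.range f.left) :
    (snd G Y).left d' ∈ Set.range f.left := by
  obtain ⟨σ', hσ'⟩ : ∃ σ' : G ⊗ Y ⟶ G ⊗ Y, σ' = lift (fst G Y)⁻¹ aY.act := ⟨_, rfl⟩
  have h1 : σ' ≫ snd G Y = aY.act := by rw [hσ', lift_snd]
  have h2 : σ' ≫ aY.act = snd G Y := by
    rw [hσ']
    calc lift (fst G Y)⁻¹ aY.act ≫ aY.act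
        = lift (fst G Y)⁻¹ (lift (fst G Y) (snd G Y) ≫ aY.act) ≫ aY.act := by
          rw [lift_fst_snd, Category.id_comp]
      _ = lift ((fst G Y)⁻¹ * fst G Y) (snd G Y) ≫ aY.act := (AF3.act_mul aY _ _ _).symm
      _ = snd G Y := by rw [_root_.inv_mul_cancel, AF3.act_one]
  have h3 : (snd G Y).left (σ'.left d') ∈ Set.range f.left := by
    have e1 := congrArg (fun w => w.left) h1
    have e2 := congrArg (fun w : (G ⊗ Y).left ⟶ Y.left => w d') e1
    have e3 : (snd G Y).left (σ'.left d') = aY.act.left d' :=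
      (Scheme.Hom.comp_apply _ _ _).symm.trans e2
    rw [e3]
    exact h
  have h4 := range_stable_fwd aX aY f hf (σ'.left d') h3
  have e1 := congrArg (fun w => w.left) h2
  have e2 := congrArg (fun w : (G ⊗ Y).left ⟶ Y.left => w d') e1
  have e3 : aY.act.left (σ'.left d') = (snd G Y).left d' :=
    (Scheme.Hom.comp_apply _ _ _).symm.trans e2
  rw [← e3]
  exact h4

end Range

variable {M : Type} [AddCommGroup M] {N Q : AddSubmonoid M}

theorem face_mul (hQ : Magnet.IsFace N Q) {K : Over S} (p : K ⟶ Magnet.AMonS S ↥N) :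
    p * ((1 : K ⟶ Magnet.AMonS S ↥Q) ≫ Magnet.AMonS.faceMap S hQ) =
      (p ≫ Magnet.AMonS.map S (AddSubmonoid.inclusion hQ.le)) ≫ Magnet.AMonS.faceMap S hQ := by
  apply charOfPt_injective
  refine MonoidHom.ext fun n' => ?_
  obtain ⟨n, rfl⟩ : ∃ n : ↥N, Multiplicative.ofAdd n = n' := ⟨Multiplicative.toAdd n', rfl⟩
  rw [charOfPt_mul, MonoidHom.mul_apply]
  by_cases hn : (n : M) ∈ Q
  · rw [charOfPt_faceMap_of_mem hQ _ n hn, charOfPt_faceMap_of_mem hQ _ n hn, charOfPt_one,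
      MonoidHom.one_apply, _root_.mul_one, charOfPt_map_apply]
    rfl
  · rw [charOfPt_faceMap_of_not_mem hQ _ n hn, charOfPt_faceMap_of_not_mem hQ _ n hn,
      mul_zero]

/-- the section of `A(N) × T` through the idempotent of the face `Q` -/
abbrev eSec (hQ : Magnet.IsFace N Q) (T : Over S) : T ⟶ W N T :=
  lift ((1 : T ⟶ Magnet.AMonS S ↥Q) ≫ Magnet.AMonS.faceMap S hQ) (𝟙 T)

theorem eSec_natural (hQ : Magnet.IsFace N Q) {T T' : Over S} (t : T' ⟶ T) :
    t ≫ eSec hQ T = eSec hQ T' ≫ (Magnet.AMonS S ↥N ◁ t) := by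
  rw [comp_lift, lift_whiskerLeft, Category.comp_id, Category.id_comp, ← Category.assoc,
    MonObj.comp_one]

theorem whisker_eSec_act (hQ : Magnet.IsFace N Q) (T : Over S) :
    (Magnet.AMonS S M ◁ eSec hQ T) ≫ actW N T =
      (Magnet.AMonS.map S Q.subtype ▷ T) ≫ (Magnet.AMonS.faceMap S hQ ▷ T) := by
  apply Magnet.hom_ext_lift₂
  intro K g t
  have e1 : (g ≫ Magnet.AMonS.map S N.subtype) ≫
      Magnet.AMonS.map S (AddSubmonoid.inclusion hQ.le) = g ≫ Magnet.AMonS.map S Q.subtype := by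
    rw [Category.assoc, ← Magnet.AMonS.map_comp]
    rfl
  calc lift g t ≫ (Magnet.AMonS S M ◁ eSec hQ T) ≫ actW N T
      = lift g (lift ((1 : K ⟶ Magnet.AMonS S ↥Q) ≫ Magnet.AMonS.faceMap S hQ) t) ≫
          actW N T := by
        rw [lift_whiskerLeft_assoc, comp_lift, Category.comp_id, ← Category.assoc,
          MonObj.comp_one]
    _ = lift ((g ≫ Magnet.AMonS.map S N.subtype) *
          ((1 : K ⟶ Magnet.AMonS S ↥Q) ≫ Magnet.AMonS.faceMap S hQ)) t := actW_formula N T _ _ _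
    _ = lift ((g ≫ Magnet.AMonS.map S Q.subtype) ≫ Magnet.AMonS.faceMap S hQ) t := by
        rw [face_mul hQ, e1]
    _ = lift g t ≫ (Magnet.AMonS.map S Q.subtype ▷ T) ≫ (Magnet.AMonS.faceMap S hQ ▷ T) := by
        rw [lift_whiskerRight_assoc, lift_whiskerRight]

/-- an equivariant map whose limit points lie in an equivariant open factors through it -/
theorem factor_open (T : Over S) (hQ : Magnet.IsFace N Q)
    [Surjective (Magnet.AMonS.map S Q.subtype ▷ T).left]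
    {X Y : Over S} (aX : AlgGrp.Action (Red.DS S M) X) (aY : AlgGrp.Action (Red.DS S M) Y)
    (f : X ⟶ Y) [IsOpenImmersion f.left]
    (hf : aX.act ≫ f = (Magnet.AMonS S M ◁ f) ≫ aY.act)
    (φ : W N T ⟶ Y) (hφ : actW N T ≫ φ = (Magnet.AMonS S M ◁ φ) ≫ aY.act)
    (hpt : ∀ t : T.left, (eSec hQ T ≫ φ).left t ∈ Set.range f.left) :
    ∃ φ' : W N T ⟶ X, φ' ≫ f = φ ∧ actW N T ≫ φ' = (Magnet.AMonS S M ◁ φ') ≫ aX.act := by
  haveI hmono : Mono f := by
    haveI : Mono ((Over.forget S).map f) := by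
      show Mono f.left
      infer_instance
    exact (Over.forget S).mono_of_mono_map inferInstance
  obtain ⟨Ω, hΩ⟩ : ∃ Ω : (W N T).left.Opens, Ω = φ.left ⁻¹ᵁ f.left.opensRange := ⟨_, rfl⟩
  have hmem : ∀ w, w ∈ Ω ↔ φ.left w ∈ Set.range f.left := fun w => by
    rw [hΩ]
    rfl
  have e1 : ∀ d : (Magnet.AMonS S M ⊗ W N T).left, φ.left ((actW N T).left d) =
      aY.act.left ((Magnet.AMonS S M ◁ φ).left d) := by
    intro d
    have h2 := congrArg (fun w => w.left) hφ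
    have h3 := congrArg (fun w : (Magnet.AMonS S M ⊗ W N T).left ⟶ Y.left => w d) h2
    exact ((Scheme.Hom.comp_apply _ _ _).symm.trans h3).trans (Scheme.Hom.comp_apply _ _ _)
  have e2 : ∀ d : (Magnet.AMonS S M ⊗ W N T).left,
      φ.left ((snd (Magnet.AMonS S M) (W N T)).left d) =
        (snd (Magnet.AMonS S M) Y).left ((Magnet.AMonS S M ◁ φ).left d) := by
    intro d
    have h2 := congrArg (fun w => w.left) (whiskerLeft_snd (Magnet.AMonS S M) φ)
    have h3 := congrArg (fun w : (Magnet.AMonS S M ⊗ W N T).left ⟶ Y.left => w d) h2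
    exact ((Scheme.Hom.comp_apply _ _ _).symm.trans h3.symm).trans (Scheme.Hom.comp_apply _ _ _)
  have hstab : ∀ d : (Magnet.AMonS S M ⊗ W N T).left, (actW N T).left d ∈ Ω →
      (snd (Magnet.AMonS S M) (W N T)).left d ∈ Ω := by
    intro d hd
    rw [hmem] at hd ⊢
    rw [e2]
    rw [e1] at hd
    exact range_stable_bwd aX aY f hf _ hd
  have hstab' : ∀ d : (Magnet.AMonS S M ⊗ W N T).left,
      (snd (Magnet.AMonS S M) (W N T)).left d ∈ Ω → (actW N T).left d ∈ Ω := by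
    intro d hd
    rw [hmem] at hd ⊢
    rw [e1]
    rw [e2] at hd
    exact range_stable_fwd aX aY f hf _ hd
  have hface : ∀ z : (W Q T).left, (Magnet.AMonS.faceMap S hQ ▷ T).left z ∈ Ω := by
    intro z
    obtain ⟨z', hz'⟩ := (Magnet.AMonS.map S Q.subtype ▷ T).left.surjective z
    have h1 : (actW N T).left ((Magnet.AMonS S M ◁ eSec hQ T).left z') =
        (Magnet.AMonS.faceMap S hQ ▷ T).left z := by
      have h2 := congrArg (fun w => w.left) (whisker_eSec_act (S := S) hQ T)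
      have h3 := congrArg (fun w : (Magnet.AMonS S M ⊗ T).left ⟶ (W N T).left => w z') h2
      have h4 : (actW N T).left ((Magnet.AMonS S M ◁ eSec hQ T).left z') =
          (Magnet.AMonS.faceMap S hQ ▷ T).left ((Magnet.AMonS.map S Q.subtype ▷ T).left z') :=
        ((Scheme.Hom.comp_apply _ _ _).symm.trans h3).trans (Scheme.Hom.comp_apply _ _ _)
      rw [h4, hz']
    rw [← h1]
    apply hstab'
    have h5 : (snd (Magnet.AMonS S M) (W N T)).left ((Magnet.AMonS S M ◁ eSec hQ T).left z') =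
        (eSec hQ T).left ((snd (Magnet.AMonS S M) T).left z') := by
      have h2 := congrArg (fun w => w.left) (whiskerLeft_snd (Magnet.AMonS S M) (eSec hQ T))
      have h3 := congrArg (fun w : (Magnet.AMonS S M ⊗ T).left ⟶ (W N T).left => w z') h2
      exact ((Scheme.Hom.comp_apply _ _ _).symm.trans h3).trans (Scheme.Hom.comp_apply _ _ _)
    rw [h5, hmem]
    exact hpt _
  have hall := AG40.tf T hQ Ω hface hstab
  have hrange : Set.range φ.left ⊆ Set.range f.left := by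
    rintro _ ⟨w, rfl⟩
    exact (hmem w).mp (hall w)
  obtain ⟨φ₀, hφ₀⟩ : ∃ φ₀ : (W N T).left ⟶ X.left, φ₀ ≫ f.left = φ.left :=
    ⟨IsOpenImmersion.lift f.left φ.left hrange, IsOpenImmersion.lift_fac _ _ _⟩
  have hw : φ₀ ≫ X.hom = (W N T).hom := by
    rw [← Over.w f, ← Category.assoc, hφ₀, Over.w]
  obtain ⟨φ', hφ'⟩ : ∃ φ' : W N T ⟶ X, φ'.left = φ₀ := ⟨Over.homMk φ₀ hw, rfl⟩
  have hφ'f : φ' ≫ f = φ := by
    apply Over.OverMorphism.ext
    rw [Over.comp_left, hφ', hφ₀]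
  refine ⟨φ', hφ'f, ?_⟩
  apply (cancel_mono f).mp
  calc (actW N T ≫ φ') ≫ f = actW N T ≫ φ := by rw [Category.assoc, hφ'f]
    _ = (Magnet.AMonS S M ◁ φ) ≫ aY.act := hφ
    _ = (Magnet.AMonS S M ◁ φ') ≫ (Magnet.AMonS S M ◁ f) ≫ aY.act := by
        rw [← hφ'f, MonoidalCategory.whiskerLeft_comp, Category.assoc]
    _ = (Magnet.AMonS S M ◁ φ') ≫ aX.act ≫ f :=
        congrArg (fun z => (Magnet.AMonS S M ◁ φ') ≫ z) hf.symm
    _ = ((Magnet.AMonS S M ◁ φ') ≫ aX.act) ≫ f := (Category.assoc _ _ _).symm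

/-! ### the unit face -/

/-- the subgroup underlying the face of units -/
def unitSub (N : AddSubmonoid M) : AddSubgroup M :=
  { toAddSubmonoid := Magnet.unitFace N
    neg_mem' := by
      rintro x ⟨hxN, y, hyN, hxy⟩
      have h : -x = y := neg_eq_of_add_eq_zero_right hxy
      rw [h]
      exact ⟨hyN, x, hxN, by rw [add_comm]; exact hxy⟩ }

theorem surj_unit (N : AddSubmonoid M) (T : Over S) :
    Surjective (Magnet.AMonS.map S (Magnet.unitFace N).subtype ▷ T).left :=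
  (AG20.ffqc_map (Magnet.unitFace N).subtype Subtype.val_injective (unitSub N)
    (fun m => ⟨fun h => ⟨⟨m, h⟩, rfl⟩, by rintro ⟨n, rfl⟩; exact n.2⟩) T).2.1

theorem main18235 (S : Scheme.{u}) (M : Type) [AddCommGroup M]
    [AddGroup.FG M] (N : AddSubmonoid M) {X Y : Over S} [LocallyOfFinitePresentation X.hom]
    [LocallyOfFinitePresentation Y.hom] (aX : Magnet.MonAct (Magnet.AMonS S M) X)
    (aY : Magnet.MonAct (Magnet.AMonS S M) Y) (f : X ⟶ Y)
    (hf : Magnet.MonAct.IsEquivariant aX aY f)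
    [IsOpenImmersion f.left] {ZX ZY : Over S} (eX : (Magnet.attr aX N).RepresentableBy ZX)
    (eY : (Magnet.attr aY N).RepresentableBy ZY)
    (j : ZX ⟶ ZY) (hj : ∀ (T : Over S) (z : T ⟶ ZX),
      eY.homEquiv (z ≫ j) =
        (Magnet.MonAct.eqvHom.postcomp (Magnet.subAct S M N) f hf).app (op T) (eX.homEquiv z)) :
    IsOpenImmersion j.left := by
  have hQ := Magnet.isFace_unitFace N
  have hf' : aX.act ≫ f = (Magnet.AMonS S M ◁ f) ≫ aY.act := hf
  haveI hmono : Mono f := by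
    haveI : Mono ((Over.forget S).map f) := by
      show Mono f.left
      infer_instance
    exact (Over.forget S).mono_of_mono_map inferInstance
  obtain ⟨φY, hφY⟩ : ∃ φY : (Magnet.attr aY N).obj (op ZY), φY = eY.homEquiv (𝟙 ZY) := ⟨_, rfl⟩
  obtain ⟨φX, hφX⟩ : ∃ φX : (Magnet.attr aX N).obj (op ZX), φX = eX.homEquiv (𝟙 ZX) := ⟨_, rfl⟩
  have hY : ∀ {T : Over S} (z : T ⟶ ZY),
      (eY.homEquiv z).1 = (Magnet.AMonS S ↥N ◁ z) ≫ φY.1 := by
    intro T z
    have h1 := eY.homEquiv_comp z (𝟙 ZY)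
    rw [Category.comp_id] at h1
    rw [h1, hφY]
    rfl
  have hjφ : (Magnet.AMonS S ↥N ◁ j) ≫ φY.1 = φX.1 ≫ f := by
    have h1 := hj ZX (𝟙 ZX)
    rw [Category.id_comp] at h1
    have h2 := congrArg Subtype.val h1
    rw [hY j] at h2
    rw [hφX]
    exact h2
  obtain ⟨π, hπ⟩ : ∃ π : ZY ⟶ Y, π = eSec hQ ZY ≫ φY.1 := ⟨_, rfl⟩
  obtain ⟨V, hV⟩ : ∃ V : ZY.left.Opens, V = π.left ⁻¹ᵁ f.left.opensRange := ⟨_, rfl⟩
  have hmemV : ∀ y, y ∈ V ↔ π.left y ∈ Set.range f.left := fun y => by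
    rw [hV]
    rfl
  have hjπ : j ≫ π = (eSec hQ ZX ≫ φX.1) ≫ f := by
    rw [hπ, ← Category.assoc, eSec_natural hQ j, Category.assoc, hjφ, Category.assoc]
  have hjV : ∀ z₀ : ZX.left, j.left z₀ ∈ V := by
    intro z₀
    rw [hmemV]
    have h2 := congrArg (fun w => w.left) hjπ
    have h3 := congrArg (fun w : ZX.left ⟶ Y.left => w z₀) h2
    have h4 : π.left (j.left z₀) = f.left ((eSec hQ ZX ≫ φX.1).left z₀) :=
      ((Scheme.Hom.comp_apply _ _ _).symm.trans h3).trans (Scheme.Hom.comp_apply _ _ _)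
    rw [h4]
    exact ⟨_, rfl⟩
  obtain ⟨k, hk⟩ : ∃ k : ZX.left ⟶ V.toScheme, k ≫ V.ι = j.left :=
    ⟨IsOpenImmersion.lift V.ι j.left (by
      rw [Scheme.Opens.range_ι]
      rintro _ ⟨z₀, rfl⟩
      exact hjV z₀), IsOpenImmersion.lift_fac _ _ _⟩
  obtain ⟨ιV, hιV⟩ : ∃ ιV : Over.mk (V.ι ≫ ZY.hom) ⟶ ZY, ιV = Over.homMk V.ι rfl := ⟨_, rfl⟩
  have hιVl : ιV.left = V.ι := by rw [hιV]; rfl
  haveI := surj_unit (S := S) N (Over.mk (V.ι ≫ ZY.hom))
  obtain ⟨φ'V, hφ'V1, hφ'V2⟩ := factor_open (Over.mk (V.ι ≫ ZY.hom)) hQ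
    (Magnet.MonAct.toAction (G := Red.DS S M) aX) (Magnet.MonAct.toAction (G := Red.DS S M) aY)
    f hf' ((Magnet.AMonS S ↥N ◁ ιV) ≫ φY.1) (AG42.restr_eqv aY ιV φY.1 φY.2)
    (by
      intro t
      have e : eSec hQ (Over.mk (V.ι ≫ ZY.hom)) ≫ (Magnet.AMonS S ↥N ◁ ιV) ≫ φY.1 = ιV ≫ π := by
        rw [hπ, ← Category.assoc, ← eSec_natural hQ ιV, Category.assoc]
      rw [e]
      have h4 : (ιV ≫ π).left t = π.left (ιV.left t) := Scheme.Hom.comp_apply _ _ _
      rw [h4, ← hmemV, hιVl]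
      have h5 : V.ι t ∈ Set.range V.ι := Set.mem_range_self t
      rw [Scheme.Opens.range_ι] at h5
      exact h5)
  obtain ⟨m', hm'⟩ : ∃ m' : Over.mk (V.ι ≫ ZY.hom) ⟶ ZX,
      m' = eX.homEquiv.symm ⟨φ'V, hφ'V2⟩ := ⟨_, rfl⟩
  have hm'j : m' ≫ j = ιV := by
    apply eY.homEquiv.injective
    apply Subtype.ext
    rw [hj _ m', hY ιV, ← hφ'V1, hm', Equiv.apply_symm_apply]
    rfl
  haveI hjmono : Mono j := ⟨fun {T} z₁ z₂ h => by
    apply eX.homEquiv.injective
    apply Subtype.ext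
    have h1 := congrArg (fun z => (eY.homEquiv z).1) h
    simp only [hj] at h1
    exact (cancel_mono f).mp h1⟩
  haveI : Mono j.left := inferInstance
  have hmj : m'.left ≫ j.left = V.ι := by
    rw [← Over.comp_left, hm'j, hιVl]
  have hkm : k ≫ m'.left = 𝟙 _ :=
    (cancel_mono j.left).mp (by rw [Category.assoc, hmj, hk, Category.id_comp])
  have hmk : m'.left ≫ k = 𝟙 _ :=
    (cancel_mono V.ι).mp (by rw [Category.assoc, hk, hmj, Category.id_comp])
  haveI : IsIso k := ⟨⟨m'.left, hkm, hmk⟩⟩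
  rw [← hk]
  infer_instance

end Groth.Agent.Helper17.AG43
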