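import Mathlib
import Groth.Prelude.Def_GmPts
import Groth.Prelude.Def_Magnet4
import Groth.Prelude.Def_AlgSp
import Groth.Agent.Lib.Helper18.FppfDescHom
import Groth.Agent.Lib.Helper17.AG9
import Groth.Agent.Lib.Helper17.AG20
import Groth.Agent.Lib.Helper17.AG42
import Groth.Agent.Lib.Helper17.AG43

/-!
# Images of attractors along strongly FPR atlases (helper17)

`half`: for an étale surjective equivariant FPR atlas `g : U ⟶ X` (with `U` affine over `S`, `X` separated and
locally of finite presentation), an inclusion of images `im(U^N → U) ⊆ im(U^L → U)` (on all `T`-points) gives the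
inclusion `im(X^N → X) ⊆ im(X^L → X)`.  The proof lifts the limit point of a point of `X^N` étale locally to `U`,
uses `U^N = X^N ×_{X^Q} U^Q` (`AG42.main18302`) and the identification of `X^Q` with fixed points for the face of
units (`AG20`), and descends along the étale cover (`Helper18.FppfDescHom`).
-/

set_option autoImplicit false
universe u
open CategoryTheory CategoryTheory.Limits MonoidalCategory CartesianMonoidalCategory MonObj
open AlgebraicGeometry Opposite

noncomputable section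
namespace Groth.Agent.Helper17.AG44
open Groth.Agent.Helper18.FppfDescHom

variable {S : Scheme.{u}}

theorem secSieve_mem {T' T : Over S} (p : T' ⟶ T) [Flat p.left] [Surjective p.left]
    [LocallyOfFinitePresentation p.left] : secSieve p ∈ AlgSp.J S T := by
  apply secSieve_mem_of_loc
  refine ⟨Presieve.singleton p.left, Scheme.Hom.singleton_mem_fppfPrecoverage p.left, ?_⟩
  rintro S' f ⟨⟩
  exact ⟨𝟙 _, Category.id_comp _⟩

theorem secSieve_whiskerLeft {E B : Over S} (π : E ⟶ B) (h : secSieve π ∈ AlgSp.J S B)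
    (G : Over S) : secSieve (G ◁ π) ∈ AlgSp.J S (G ⊗ B) := by
  refine (AlgSp.J S).superset_covering ?_ ((AlgSp.J S).pullback_stable (snd G B) h)
  rintro V g ⟨s, hs⟩
  refine ⟨lift (g ≫ fst G B) s, ?_⟩
  rw [lift_whiskerLeft, hs]
  apply CartesianMonoidalCategory.hom_ext <;> simp

section Nat
variable {M : Type} [AddCommMonoid M] {X U : Over S}

theorem attrToX_nat (a : Magnet.MonAct (Magnet.AMonS S M) X) (N : AddSubmonoid M)
    {T₀ T₁ : Over S} (t : T₁ ⟶ T₀) (φ : (Magnet.attr a N).obj (op T₀)) :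
    (Magnet.attrToX a N).app (op T₁) ((Magnet.attr a N).map t.op φ) =
      t ≫ (Magnet.attrToX a N).app (op T₀) φ := by
  have := congrArg (fun k => (ConcreteCategory.hom k) φ) ((Magnet.attrToX a N).naturality t.op)
  exact this

theorem attrToX_postcomp (a : Magnet.MonAct (Magnet.AMonS S M) X)
    (aU : Magnet.MonAct (Magnet.AMonS S M) U) (g : U ⟶ X)
    (hg : Magnet.MonAct.IsEquivariant aU a g) (N : AddSubmonoid M) (T : Over S)
    (ψ : (Magnet.attr aU N).obj (op T)) :
    (Magnet.attrToX a N).app (op T)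
      ((Magnet.MonAct.eqvHom.postcomp (Magnet.subAct S M N) g hg).app (op T) ψ) =
      (Magnet.attrToX aU N).app (op T) ψ ≫ g := by
  rw [Magnet.MonAct.eqvHom.evalAt_app, Magnet.MonAct.eqvHom.evalAt_app,
    Magnet.MonAct.eqvHom.postcomp_app_coe, Category.assoc]

end Nat

theorem half' (S : Scheme.{u}) (M : Type) [AddCommGroup M]
    [AddGroup.FG M] {X : Over S} [IsSeparated X.hom] [LocallyOfFinitePresentation X.hom]
    (a : Magnet.MonAct (Magnet.AMonS S M) X) (U : Over S) [IsAffineHom U.hom]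
    (aU : Magnet.MonAct (Magnet.AMonS S M) U) (g : U ⟶ X)
    (hg : Magnet.MonAct.IsEquivariant aU a g)
    [Etale g.left] [Surjective g.left]
    (N L : AddSubmonoid M)
    (hgZ : Magnet.MonAct.IsEquivariant
      (aU.restrict (Magnet.AMonS.map S (QuotientAddGroup.mk' (AG43.unitSub N))))
      (a.restrict (Magnet.AMonS.map S (QuotientAddGroup.mk' (AG43.unitSub N)))) g)
    (hfpr : IsPullback (Magnet.MonAct.fixedPsh.map g hgZ)
      (Magnet.MonAct.fixedPshι
        (aU.restrict (Magnet.AMonS.map S (QuotientAddGroup.mk' (AG43.unitSub N)))))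
      (Magnet.MonAct.fixedPshι
        (a.restrict (Magnet.AMonS.map S (QuotientAddGroup.mk' (AG43.unitSub N)))))
      (yoneda.map g))
    (hU : ∀ T : Over S, Set.range (fun φ => (Magnet.attrToX aU N).app (op T) φ) ⊆
      Set.range (fun φ => (Magnet.attrToX aU L).app (op T) φ)) (T : Over S) :
    Set.range (fun φ => (Magnet.attrToX a N).app (op T) φ) ⊆
      Set.range (fun φ => (Magnet.attrToX a L).app (op T) φ) := by
  rintro x ⟨φ, rfl⟩
  have hQ := Magnet.isFace_unitFace N
  have h302 : IsPullback (Magnet.MonAct.eqvHom.postcomp (Magnet.subAct S M N) g hg)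
      (Magnet.attrFace aU hQ) (Magnet.attrFace a hQ)
      (Magnet.MonAct.eqvHom.postcomp (Magnet.subAct S M (Magnet.unitFace N)) g hg) :=
    AG42.main18302 S M X U (Magnet.MonAct.toAction (G := Red.DS S M) a)
      (Magnet.MonAct.toAction (G := Red.DS S M) aU) g hg N (Magnet.unitFace N) hQ
      (Or.inr ⟨inferInstance, inferInstance⟩)
  -- the limit point
  obtain ⟨χ, hχ⟩ : ∃ χ : (Magnet.attr a (Magnet.unitFace N)).obj (op T),
      χ = (Magnet.attrFace a hQ).app (op T) φ := ⟨_, rfl⟩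
  obtain ⟨x₀, hx₀⟩ : ∃ x₀ : T ⟶ X,
      x₀ = (Magnet.attrToX a (Magnet.unitFace N)).app (op T) χ := ⟨_, rfl⟩
  -- the étale cover
  obtain ⟨T', p, u₀, hpu, hsq⟩ : ∃ (T' : Over S) (p : T' ⟶ T) (u₀ : T' ⟶ U),
      p ≫ x₀ = u₀ ≫ g ∧ IsPullback p u₀ x₀ g :=
    ⟨pullback x₀ g, pullback.fst x₀ g, pullback.snd x₀ g, pullback.condition,
      IsPullback.of_hasPullback x₀ g⟩
  have hsqS := hsq.flip.map (Over.forget S)
  haveI : Etale p.left := MorphismProperty.of_isPullback (P := @Etale) hsqS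
    (show Etale g.left from inferInstance)
  haveI : Surjective p.left := MorphismProperty.of_isPullback (P := @Surjective) hsqS
    (show Surjective g.left from inferInstance)
  have hp : secSieve p ∈ AlgSp.J S T := secSieve_mem p
  -- restriction to the cover
  obtain ⟨φ', hφ'⟩ : ∃ φ' : (Magnet.attr a N).obj (op T'),
      φ' = (Magnet.attr a N).map p.op φ := ⟨_, rfl⟩
  obtain ⟨χ', hχ'⟩ : ∃ χ' : (Magnet.attr a (Magnet.unitFace N)).obj (op T'),
      χ' = (Magnet.attrFace a hQ).app (op T') φ' := ⟨_, rfl⟩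
  have hχ'2 : χ' = (Magnet.attr a (Magnet.unitFace N)).map p.op χ := by
    rw [hχ', hφ', hχ]
    exact NatTrans.naturality_apply (Magnet.attrFace a hQ) p.op φ
  have hx₁ : (Magnet.attrToX a (Magnet.unitFace N)).app (op T') χ' = u₀ ≫ g := by
    rw [hχ'2, attrToX_nat, ← hx₀, hpu]
  -- the limit point is fixed
  have hfixX : ∀ (T'' : Over S) (t : T'' ⟶ T') (κ : T'' ⟶ Magnet.AMonS S (M ⧸ AG43.unitSub N)),
      lift κ (t ≫ (Magnet.attrToX a (Magnet.unitFace N)).app (op T') χ') ≫
        (a.restrict (Magnet.AMonS.map S (QuotientAddGroup.mk' (AG43.unitSub N)))).act =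
      t ≫ (Magnet.attrToX a (Magnet.unitFace N)).app (op T') χ' :=
    fun T'' t κ => AG20.fixed_of_attr (AG43.unitSub N)
      (Magnet.MonAct.toAction (G := Red.DS S M) a) T' χ' T'' t κ
  rw [hx₁] at hfixX
  -- FPR: the lift is fixed
  have sq := hfpr.map ((evaluation (Over S)ᵒᵖ (Type u)).obj (op T'))
  obtain ⟨w, -, hw₂⟩ := Types.exists_of_isPullback sq
    (⟨u₀ ≫ g, hfixX⟩ : (Magnet.MonAct.fixedPsh
      (a.restrict (Magnet.AMonS.map S (QuotientAddGroup.mk' (AG43.unitSub N))))).obj (op T'))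
    (u₀ : (yoneda.obj U).obj (op T')) rfl
  have hw : w.1 = u₀ := hw₂
  have hfixU : ∀ (T'' : Over S) (t : T'' ⟶ T') (κ : T'' ⟶ Magnet.AMonS S (M ⧸ AG43.unitSub N)),
      lift κ (t ≫ u₀) ≫
        (aU.restrict (Magnet.AMonS.map S (QuotientAddGroup.mk' (AG43.unitSub N)))).act =
      t ≫ u₀ := by
    intro T'' t κ
    have h := w.2 T'' t κ
    rw [hw] at h
    exact h
  obtain ⟨ψQ, hψQ⟩ : ∃ ψQ : (Magnet.attr aU (Magnet.unitFace N)).obj (op T'),
      (Magnet.attrToX aU (Magnet.unitFace N)).app (op T') ψQ = u₀ :=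
    AG20.exists_attr_of_fixed (AG43.unitSub N)
      (Magnet.MonAct.toAction (G := Red.DS S M) aU) T' u₀ hfixU
  have hψQχ : (Magnet.attrFace a hQ).app (op T') φ' =
      (Magnet.MonAct.eqvHom.postcomp (Magnet.subAct S M (Magnet.unitFace N)) g hg).app
        (op T') ψQ := by
    rw [← hχ']
    apply AG9.attrToX_injective a (Magnet.unitFace N) T'
    rw [attrToX_postcomp, hψQ, hx₁]
  -- the lift of the attractor point
  have sq2 := h302.map ((evaluation (Over S)ᵒᵖ (Type u)).obj (op T'))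
  obtain ⟨φ'', hφ''₁, -⟩ := Types.exists_of_isPullback sq2 φ' ψQ hψQχ
  have hφ''2 : (Magnet.MonAct.eqvHom.postcomp (Magnet.subAct S M N) g hg).app (op T') φ'' = φ' :=
    hφ''₁
  obtain ⟨u, hu⟩ : ∃ u : T' ⟶ U, u = (Magnet.attrToX aU N).app (op T') φ'' := ⟨_, rfl⟩
  have hug : u ≫ g = p ≫ (Magnet.attrToX a N).app (op T) φ := by
    rw [hu, ← attrToX_postcomp a aU g hg N T' φ'', hφ''2, hφ', attrToX_nat]
  -- use the hypothesis on `U`
  obtain ⟨ψ', hψ'⟩ := hU T' ⟨φ'', hu.symm⟩
  have hψ'2 : (Magnet.attrToX aU L).app (op T') ψ' = u := hψ'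
  obtain ⟨ψ'', hψ''⟩ : ∃ ψ'' : (Magnet.attr a L).obj (op T'),
      ψ'' = (Magnet.MonAct.eqvHom.postcomp (Magnet.subAct S M L) g hg).app (op T') ψ' := ⟨_, rfl⟩
  have hψ''x : (Magnet.attrToX a L).app (op T') ψ'' =
      p ≫ (Magnet.attrToX a N).app (op T) φ := by
    rw [hψ'', attrToX_postcomp, hψ'2, hug]
  -- descent
  have hπ : secSieve (Magnet.AMonS S ↥L ◁ p) ∈ AlgSp.J S (Magnet.AMonS S ↥L ⊗ T) :=
    secSieve_whiskerLeft p hp _
  have hc : ∀ (V : Over S) (s s' : V ⟶ Magnet.AMonS S ↥L ⊗ T'),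
      s ≫ (Magnet.AMonS S ↥L ◁ p) = s' ≫ (Magnet.AMonS S ↥L ◁ p) → s ≫ ψ''.1 = s' ≫ ψ''.1 := by
    intro V s s' hss
    obtain ⟨b, t, rfl⟩ : ∃ b t, s = lift b t :=
      ⟨s ≫ fst _ _, s ≫ snd _ _, (lift_comp_fst_snd s).symm⟩
    obtain ⟨b', t', rfl⟩ : ∃ b t, s' = lift b t :=
      ⟨s' ≫ fst _ _, s' ≫ snd _ _, (lift_comp_fst_snd s').symm⟩
    rw [lift_whiskerLeft, lift_whiskerLeft] at hss
    have hb : b = b' := by
      have h1 := congrArg (fun w => w ≫ fst _ _) hss
      simpa only [lift_fst] using h1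
    have ht : t ≫ p = t' ≫ p := by
      have h1 := congrArg (fun w => w ≫ snd _ _) hss
      simpa only [lift_snd] using h1
    subst hb
    have heq : (Magnet.attr a L).map t.op ψ'' = (Magnet.attr a L).map t'.op ψ'' := by
      apply AG9.attrToX_injective a L V
      rw [attrToX_nat, attrToX_nat, hψ''x, ← Category.assoc, ht, Category.assoc]
    have h1 : (Magnet.AMonS S ↥L ◁ t) ≫ ψ''.1 = (Magnet.AMonS S ↥L ◁ t') ≫ ψ''.1 :=
      congrArg Subtype.val heq
    calc lift b t ≫ ψ''.1 = lift b (𝟙 V) ≫ (Magnet.AMonS S ↥L ◁ t) ≫ ψ''.1 := by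
          rw [lift_whiskerLeft_assoc, Category.id_comp]
      _ = lift b (𝟙 V) ≫ (Magnet.AMonS S ↥L ◁ t') ≫ ψ''.1 := by rw [h1]
      _ = lift b t' ≫ ψ''.1 := by rw [lift_whiskerLeft_assoc, Category.id_comp]
  obtain ⟨ψ, hψ⟩ := desc_of_secSieve (Magnet.AMonS S ↥L ◁ p) hπ ψ''.1 hc
  -- equivariance of the descended map
  have heqv : Magnet.MonAct.IsEquivariant ((Magnet.subAct S M L).prod
      (Magnet.MonAct.trivial (Magnet.AMonS S M) T)) a ψ := by
    unfold Magnet.MonAct.IsEquivariant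
    have hπ2 := secSieve_whiskerLeft (Magnet.AMonS S ↥L ◁ p) hπ (Magnet.AMonS S M)
    refine epi_of_secSieve _ hπ2 _ _ ?_
    have hψ''eq : ((Magnet.subAct S M L).prod
        (Magnet.MonAct.trivial (Magnet.AMonS S M) T')).act ≫ ψ''.1 =
        (Magnet.AMonS S M ◁ ψ''.1) ≫ a.act := ψ''.2
    rw [← Magnet.MonAct.prod_trivial_act_whiskerLeft_assoc, hψ, hψ''eq, ← hψ,
      MonoidalCategory.whiskerLeft_comp, Category.assoc]
  refine ⟨⟨ψ, heqv⟩, ?_⟩
  show (Magnet.attrToX a L).app (op T) ⟨ψ, heqv⟩ = (Magnet.attrToX a N).app (op T) φ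
  refine epi_of_secSieve p hp _ _ ?_
  rw [← hψ''x, ← attrToX_nat]
  congr 1
  exact Subtype.ext hψ

theorem half (S : Scheme.{u}) (M : Type) [AddCommGroup M]
    [AddGroup.FG M] {X : Over S} [IsSeparated X.hom] [LocallyOfFinitePresentation X.hom]
    (a : Magnet.MonAct (Magnet.AMonS S M) X) (U : Over S) [IsAffineHom U.hom]
    (aU : Magnet.MonAct (Magnet.AMonS S M) U) (g : U ⟶ X)
    (hg : Magnet.MonAct.IsEquivariant aU a g)
    [Etale g.left] [Surjective g.left]
    (hgZ : ∀ Z : AddSubgroup M, Magnet.MonAct.IsEquivariant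
      (aU.restrict (Magnet.AMonS.map S (QuotientAddGroup.mk' Z)))
      (a.restrict (Magnet.AMonS.map S (QuotientAddGroup.mk' Z))) g)
    (hfpr : ∀ Z : AddSubgroup M, IsPullback (Magnet.MonAct.fixedPsh.map g (hgZ Z))
      (Magnet.MonAct.fixedPshι (aU.restrict (Magnet.AMonS.map S (QuotientAddGroup.mk' Z))))
      (Magnet.MonAct.fixedPshι (a.restrict (Magnet.AMonS.map S (QuotientAddGroup.mk' Z))))
      (yoneda.map g))
    (N L : AddSubmonoid M)
    (hU : ∀ T : Over S, Set.range (fun φ => (Magnet.attrToX aU N).app (op T) φ) ⊆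
      Set.range (fun φ => (Magnet.attrToX aU L).app (op T) φ)) (T : Over S) :
    Set.range (fun φ => (Magnet.attrToX a N).app (op T) φ) ⊆
      Set.range (fun φ => (Magnet.attrToX a L).app (op T) φ) := by
  exact half' S M a U aU g hg N L (hgZ _) (hfpr _) hU T

theorem main19645 (S : Scheme.{u}) (M : Type) [AddCommGroup M]
    [AddGroup.FG M] {X : Over S} [IsSeparated X.hom] [LocallyOfFinitePresentation X.hom]
    (a : Magnet.MonAct (Magnet.AMonS S M) X) (U : Over S) [IsAffineHom U.hom]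
    (aU : Magnet.MonAct (Magnet.AMonS S M) U) (g : U ⟶ X)
    (hg : Magnet.MonAct.IsEquivariant aU a g)
    [Etale g.left] [Surjective g.left]
    (hgZ : ∀ Z : AddSubgroup M, Magnet.MonAct.IsEquivariant
      (aU.restrict (Magnet.AMonS.map S (QuotientAddGroup.mk' Z)))
      (a.restrict (Magnet.AMonS.map S (QuotientAddGroup.mk' Z))) g)
    (hfpr : ∀ Z : AddSubgroup M, IsPullback (Magnet.MonAct.fixedPsh.map g (hgZ Z))
      (Magnet.MonAct.fixedPshι (aU.restrict (Magnet.AMonS.map S (QuotientAddGroup.mk' Z))))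
      (Magnet.MonAct.fixedPshι (a.restrict (Magnet.AMonS.map S (QuotientAddGroup.mk' Z))))
      (yoneda.map g))
    (N L : AddSubmonoid M)
    (hU : ∀ T : Over S, Set.range (fun φ => (Magnet.attrToX aU N).app (op T) φ) =
      Set.range (fun φ => (Magnet.attrToX aU L).app (op T) φ)) (T : Over S) :
    Set.range (fun φ => (Magnet.attrToX a N).app (op T) φ) =
      Set.range (fun φ => (Magnet.attrToX a L).app (op T) φ) := by
  apply Set.Subset.antisymm
  · exact half S M a U aU g hg hgZ hfpr N L (fun T' => (hU T').le) T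
  · exact half S M a U aU g hg hgZ hfpr L N (fun T' => (hU T').ge) T

end Groth.Agent.Helper17.AG44
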