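import Mathlib
import Groth.Prelude.Def_GmPts
import Groth.Prelude.Def_Magnet4
import Groth.Agent.Lib.Helper17.AG9
import Groth.Agent.Lib.Helper17.AG20
import Groth.Agent.Lib.Helper17.AG24
import Groth.Agent.Lib.Helper17.AG25
import Groth.Agent.Lib.Helper17.AG26
import Groth.Agent.Lib.Helper17.AG33
import Groth.Agent.Lib.Helper17.AG44

/-!
# Finiteness of the set of pure magnets (helper17)

For `X → S` affine and locally of finite presentation with an action of `A(M)_S`, and an affine open `V` of `X`,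
the functions on `X ×_S V` are generated over those of `V` by finitely many elements; the (finitely many) degrees
`D_V` occurring in their pullbacks along the orbit map control the attractors: the condition "the orbit map of a
point of `V` extends to `A(N)`" only depends on `N ∩ D_V` (`key`).  For `S` quasi-compact finitely many `V`
suffice (`global`), and a pure magnet is generated by its intersection with the resulting finite set
(`main19647`).  `main19646` deduces the case of an `S`-affine strongly FPR atlas from `AG44.main19645`.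
-/

set_option autoImplicit false
universe u
open CategoryTheory CategoryTheory.Limits MonoidalCategory CartesianMonoidalCategory MonObj
open AlgebraicGeometry Opposite TopologicalSpace

noncomputable section
namespace Groth.Agent.Helper17.AG45
open Groth.Agent.Helper17.AG24 Groth.Agent.Helper17.AG25 Groth.Agent.Helper17.AG26
open Groth.Agent.Helper17.AG33

theorem closure_of_finiteType {A B : Type u} [CommRing A] [CommRing B] (f : A →+* B)
    (hf : f.FiniteType) : ∃ G : Finset B, Subring.closure (Set.range f ∪ ↑G) = ⊤ := by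
  letI := f.toAlgebra
  obtain ⟨G, hG⟩ := (show Algebra.FiniteType A B from hf).out
  refine ⟨G, ?_⟩
  have h := Algebra.adjoin_eq_ring_closure (R := A) (↑G : Set B)
  rw [hG, Algebra.top_toSubring] at h
  exact h.symm

variable {S : Scheme.{u}} {M : Type} [AddCommMonoid M] (N : AddSubmonoid M) {X : Over S}
  (a : Magnet.MonAct (Magnet.AMonS S M) X)

theorem extP_iff_range [IsAffineHom X.hom] (T : Over S) [IsAffine T.left] (x : T ⟶ X) :
    ExtP N a x ↔ ∀ r : Γ((X ⊗ T).left, ⊤),
      ∃ y, pb (Magnet.AMonS.map S N.subtype ▷ T) y = pb (orb a x) r := by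
  have bT := E_bijective (M := M) T
  have bN := E_bijective (M := ↥N) T
  constructor
  · rintro ⟨φ, hφ⟩ r
    have h1 : (Magnet.AMonS.map S N.subtype ▷ T) ≫ lift φ (snd (Magnet.AMonS S ↥N) T) =
        orb a x := by
      rw [comp_lift, hφ, whiskerRight_snd]
    exact ⟨pb (lift φ (snd (Magnet.AMonS S ↥N) T)) r, by rw [← pb_comp_apply, h1]⟩
  · intro hrange
    apply extP_of_coeff N a T x
    intro r c hc g hne
    by_contra hg
    apply hne
    obtain ⟨y, hy⟩ := hrange r
    obtain ⟨c₀, hc₀⟩ := bN.2 y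
    have h2 : E M T c = E M T (MonoidAlgebra.mapDomain
        (AddMonoidHom.toMultiplicative N.subtype) c₀) := by
      rw [hc, ← hy, ← hc₀, E_map]
    rw [bT.1 h2, MonoidAlgebra.coeff_mapDomain, Finsupp.mapDomain_of_notMem_range]
    rintro ⟨k, hk⟩
    exact hg ⟨k, hk⟩

theorem extP_mono {N' N : AddSubmonoid M} (h : N' ≤ N) {T : Over S} (x : T ⟶ X)
    (hx : ExtP N' a x) : ExtP N a x := by
  obtain ⟨φ, hφ⟩ := hx
  refine ⟨(Magnet.AMonS.map S (AddSubmonoid.inclusion h) ▷ T) ≫ φ, ?_⟩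
  rw [← Category.assoc, ← comp_whiskerRight, ← Magnet.AMonS.map_comp]
  exact hφ

theorem key [IsAffineHom X.hom] [LocallyOfFinitePresentation X.hom] (V : X.left.Opens)
    (hV : IsAffineOpen V) :
    ∃ D : Finset M, ∀ (N N' : AddSubmonoid M), (∀ m ∈ D, m ∈ N → m ∈ N') →
      ∀ (C : CommRingCat.{u}) (χ : Γ(X.left, V) ⟶ C),
        PXp N a (Spec.map χ ≫ hV.fromSpec) → PXp N' a (Spec.map χ ≫ hV.fromSpec) := by
  classical
  obtain ⟨x₀, hx₀⟩ : ∃ x₀ : Over.mk (hV.fromSpec ≫ X.hom) ⟶ X, x₀ = Over.homMk hV.fromSpec rfl :=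
    ⟨_, rfl⟩
  haveI hA0 : IsAffine (Over.mk (hV.fromSpec ≫ X.hom)).left :=
    inferInstanceAs (IsAffine (Spec Γ(X.left, V)))
  haveI hXT0 : IsAffine (X ⊗ Over.mk (hV.fromSpec ≫ X.hom)).left := by
    show IsAffine (pullback X.hom (Over.mk (hV.fromSpec ≫ X.hom)).hom)
    infer_instance
  have bT0 := E_bijective (M := M) (Over.mk (hV.fromSpec ≫ X.hom))
  -- finite generation
  haveI hlfp : LocallyOfFinitePresentation (snd X (Over.mk (hV.fromSpec ≫ X.hom))).left := by
    rw [Over.snd_left]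
    infer_instance
  have hft : (pb (snd X (Over.mk (hV.fromSpec ≫ X.hom)))).FiniteType :=
    RingHom.FiniteType.of_finitePresentation
      (Scheme.Hom.finitePresentation_appTop (snd X (Over.mk (hV.fromSpec ≫ X.hom))).left)
  obtain ⟨G₀, hG₀⟩ := closure_of_finiteType _ hft
  choose cf hcf using fun r : Γ((X ⊗ Over.mk (hV.fromSpec ≫ X.hom)).left, ⊤) =>
    bT0.2 (pb (orb a x₀) r)
  refine ⟨(G₀.biUnion fun r => (cf r).coeff.support).image Multiplicative.toAdd, ?_⟩
  intro N N' hNN' C χ hχ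
  obtain ⟨I, hI⟩ := local_ideal_attr N a V hV
  have hIχ : I ≤ RingHom.ker χ.hom := (hI C χ).mp hχ
  obtain ⟨q, hq⟩ : ∃ q : Γ(X.left, V) ⟶ CommRingCat.of (Γ(X.left, V) ⧸ I),
      q = CommRingCat.ofHom (Ideal.Quotient.mk I) := ⟨_, rfl⟩
  haveI hqcl : IsClosedImmersion (Spec.map q) := by
    rw [hq]
    infer_instance
  have hqker : I ≤ RingHom.ker q.hom := by
    intro a₀ ha₀
    rw [RingHom.mem_ker, hq]
    exact Ideal.Quotient.eq_zero_iff_mem.mpr ha₀
  obtain ⟨χb, hχeq⟩ : ∃ χb : CommRingCat.of (Γ(X.left, V) ⧸ I) ⟶ C, χ = q ≫ χb := by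
    refine ⟨CommRingCat.ofHom (Ideal.Quotient.lift I χ.hom
      (fun a₀ ha₀ => RingHom.mem_ker.mp (hIχ ha₀))), ?_⟩
    rw [hq]
    ext a₀
    simp
  suffices hz : PXp N' a (Spec.map q ≫ hV.fromSpec) by
    have := pxp_comp N' a (Spec.map χb) _ hz
    rw [← Category.assoc, ← Spec.map_comp, ← hχeq] at this
    exact this
  have hzN : PXp N a (Spec.map q ≫ hV.fromSpec) := (hI _ q).mpr hqker
  -- the test object
  obtain ⟨tt, htt, hxt⟩ : ∃ tt : Over.mk ((Spec.map q ≫ hV.fromSpec) ≫ X.hom) ⟶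
        Over.mk (hV.fromSpec ≫ X.hom),
      tt.left = Spec.map q ∧
      (Over.homMk (Spec.map q ≫ hV.fromSpec) rfl :
        Over.mk ((Spec.map q ≫ hV.fromSpec) ≫ X.hom) ⟶ X) = tt ≫ x₀ := by
    refine ⟨Over.homMk (Spec.map q) (Category.assoc _ _ _).symm, rfl, ?_⟩
    apply Over.OverMorphism.ext
    rw [hx₀]
    rfl
  haveI hTN : IsAffine (Over.mk ((Spec.map q ≫ hV.fromSpec) ≫ X.hom)).left :=
    inferInstanceAs (IsAffine (Spec (CommRingCat.of (Γ(X.left, V) ⧸ I))))
  have hzN' : ExtP N a (tt ≫ x₀) := by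
    rw [← hxt]
    exact hzN
  show ExtP N' a _
  rw [hxt, extP_iff_range]
  -- surjectivity of restriction
  have sq := (AG20.isPullback_snd_whiskerLeft X tt).map (Over.forget S)
  haveI hcl : IsClosedImmersion tt.left := by
    rw [htt]
    infer_instance
  haveI : IsClosedImmersion (X ◁ tt).left :=
    MorphismProperty.of_isPullback (P := @IsClosedImmersion) sq hcl
  have hsurj : ∀ r', ∃ r, pb (X ◁ tt) r = r' := fun r' =>
    (IsClosedImmersion.isAffine_surjective_of_isAffine (f := (X ◁ tt).left)).2 r'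
  -- the subring of good functions
  obtain ⟨𝔗, h𝔗⟩ : ∃ 𝔗 : Subring Γ((X ⊗ Over.mk (hV.fromSpec ≫ X.hom)).left, ⊤),
      ∀ r, r ∈ 𝔗 ↔ ∃ y, pb (Magnet.AMonS.map S N'.subtype ▷
        Over.mk ((Spec.map q ≫ hV.fromSpec) ≫ X.hom)) y =
          pb (orb a (tt ≫ x₀)) (pb (X ◁ tt) r) :=
    ⟨((pb (Magnet.AMonS.map S N'.subtype ▷
        Over.mk ((Spec.map q ≫ hV.fromSpec) ≫ X.hom))).range.comap
        (pb (orb a (tt ≫ x₀)))).comap (pb (X ◁ tt)), fun r => Iff.rfl⟩
  have htop : 𝔗 = ⊤ := by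
    apply top_unique
    rw [← hG₀]
    apply Subring.closure_le.mpr
    rintro r (⟨b, rfl⟩ | hr)
    · rw [SetLike.mem_coe, h𝔗]
      have e1 : pb (X ◁ tt) (pb (snd X (Over.mk (hV.fromSpec ≫ X.hom))) b) =
          pb (snd X (Over.mk ((Spec.map q ≫ hV.fromSpec) ≫ X.hom))) (pb tt b) := by
        rw [← pb_comp_apply, ← pb_comp_apply, whiskerLeft_snd]
      have e2 : pb (orb a (tt ≫ x₀))
          (pb (snd X (Over.mk ((Spec.map q ≫ hV.fromSpec) ≫ X.hom))) (pb tt b)) =
          pb (snd (Magnet.AMonS S M) (Over.mk ((Spec.map q ≫ hV.fromSpec) ≫ X.hom)))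
            (pb tt b) := by
        rw [← pb_comp_apply, lift_snd]
      have e3 : pb (Magnet.AMonS.map S N'.subtype ▷
            Over.mk ((Spec.map q ≫ hV.fromSpec) ≫ X.hom))
          (pb (snd (Magnet.AMonS S ↥N') (Over.mk ((Spec.map q ≫ hV.fromSpec) ≫ X.hom)))
            (pb tt b)) =
          pb (snd (Magnet.AMonS S M) (Over.mk ((Spec.map q ≫ hV.fromSpec) ≫ X.hom)))
            (pb tt b) := by
        rw [← pb_comp_apply, whiskerRight_snd]
      exact ⟨_, by rw [e3, e1, e2]⟩
    · rw [SetLike.mem_coe, h𝔗]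
      have hnat := coeff_natural a tt x₀ r (cf r) (hcf r)
      have hsupp : ∀ g, (MonoidAlgebra.mapRingHom (Multiplicative M) (pb tt) (cf r)).coeff g ≠ 0 →
          ∃ k : Multiplicative ↥N', AddMonoidHom.toMultiplicative N'.subtype k = g := by
        intro g hg
        have hgN : ∃ k : Multiplicative ↥N, AddMonoidHom.toMultiplicative N.subtype k = g := by
          by_contra hcon
          exact hg (coeff_of_extP N a _ (tt ≫ x₀) hzN' (pb (X ◁ tt) r) _ hnat g hcon)
        obtain ⟨k, hk⟩ := hgN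
        have hgsupp : (cf r).coeff g ≠ 0 := by
          intro h0
          apply hg
          rw [MonoidAlgebra.coeff_mapRingHom, h0, map_zero]
        have hD : Multiplicative.toAdd g ∈
            (G₀.biUnion fun r => (cf r).coeff.support).image Multiplicative.toAdd :=
          Finset.mem_image.mpr ⟨g, Finset.mem_biUnion.mpr
            ⟨r, Finset.mem_coe.mp hr, Finsupp.mem_support_iff.mpr hgsupp⟩, rfl⟩
        have hmN : Multiplicative.toAdd g ∈ N := by
          rw [← hk]
          exact (Multiplicative.toAdd k).2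
        have hmN' := hNN' _ hD hmN
        exact ⟨Multiplicative.ofAdd ⟨Multiplicative.toAdd g, hmN'⟩, rfl⟩
      obtain ⟨c₀, hc₀⟩ := alg_N (AddMonoidHom.toMultiplicative N'.subtype)
        (toMult_subtype_injective N') _ hsupp
      refine ⟨E ↥N' _ c₀, ?_⟩
      rw [E_map, hc₀, hnat]
  intro r'
  obtain ⟨r, rfl⟩ := hsurj r'
  exact (h𝔗 r).mp (htop ▸ Subring.mem_top r)

theorem global [IsAffineHom X.hom] [LocallyOfFinitePresentation X.hom] [CompactSpace S] :
    ∃ D : Set M, D.Finite ∧ ∀ (N N' : AddSubmonoid M), (∀ m ∈ D, m ∈ N → m ∈ N') →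
      ∀ {T : Scheme.{u}} (x : T ⟶ X.left), PXp N a x → PXp N' a x := by
  haveI : CompactSpace X.left := QuasiCompact.compactSpace_of_compactSpace X.hom
  obtain ⟨s, hsfin, hs⟩ :=
    (isCompact_iff_finite_and_eq_biUnion_affineOpens (U := (⊤ : X.left.Opens))).mp
      (by simpa using CompactSpace.isCompact_univ (X := X.left))
  choose Dv hDv using fun V : X.left.affineOpens => key a V.1 V.2
  refine ⟨⋃ V ∈ s, (↑(Dv V) : Set M), hsfin.biUnion (fun V _ => (Dv V).finite_toSet), ?_⟩
  intro N N' hNN' T x hx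
  have hloc : ∀ t : T, ∃ W : T.Opens, IsAffineOpen W ∧ t ∈ W ∧
      ∃ V ∈ s, W ≤ x ⁻¹ᵁ (V : X.left.Opens) := by
    intro t
    have h1 : x t ∈ (⊤ : X.left.Opens) := trivial
    rw [hs] at h1
    obtain ⟨V, h2⟩ := Opens.mem_iSup.mp h1
    obtain ⟨hVs, h3⟩ := Opens.mem_iSup.mp h2
    obtain ⟨W, hW, htW, hWV⟩ := Opens.isBasis_iff_nbhd.mp T.isBasis_affineOpens
      (show t ∈ x ⁻¹ᵁ (V : X.left.Opens) from h3)
    exact ⟨W, hW, htW, V, hVs, hWV⟩
  choose W hWaff htW V hVs hWV using hloc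
  have hcov : IsOpenCover W := eq_top_iff.mpr fun t _ => Opens.mem_iSup.mpr ⟨t, htW t⟩
  apply pxp_local N' a x (T.openCoverOfIsOpenCover W hcov)
  intro t
  show PXp N' a ((W t).ι ≫ x)
  obtain ⟨z, hz⟩ : ∃ z : Spec Γ(T, W t) ⟶ X.left, z = (hWaff t).fromSpec ≫ x := ⟨_, rfl⟩
  have hzr : Set.range z ⊆ Set.range (V t).2.fromSpec := by
    rw [(V t).2.range_fromSpec]
    rintro _ ⟨p, rfl⟩
    have h1 : (hWaff t).fromSpec p ∈ W t := by
      have h2 : (hWaff t).fromSpec p ∈ Set.range (hWaff t).fromSpec := Set.mem_range_self p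
      rw [(hWaff t).range_fromSpec] at h2
      exact h2
    have h3 : x ((hWaff t).fromSpec p) ∈ (V t : X.left.Opens) := hWV t h1
    rw [hz, Scheme.Hom.comp_apply]
    exact h3
  obtain ⟨χ, hχ⟩ : ∃ χ : Γ(X.left, (V t).1) ⟶ Γ(T, W t),
      Spec.map χ ≫ (V t).2.fromSpec = z :=
    ⟨Spec.preimage (IsOpenImmersion.lift (V t).2.fromSpec z hzr), by
      rw [Spec.map_preimage, IsOpenImmersion.lift_fac]⟩
  have h1 : PXp N a z := by
    rw [hz]
    exact pxp_comp N a _ x hx
  rw [← hχ] at h1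
  have h2 := hDv (V t) N N'
    (fun m hm hmN => hNN' m (Set.mem_biUnion (hVs t) (Finset.mem_coe.mpr hm)) hmN) _ χ h1
  rw [hχ, hz] at h2
  have h3 := pxp_comp N' a (hWaff t).isoSpec.hom _ h2
  have e : (hWaff t).isoSpec.hom ≫ (hWaff t).fromSpec ≫ x = (W t).ι ≫ x := by
    rw [← (hWaff t).isoSpec_inv_ι, Category.assoc, Iso.hom_inv_id_assoc]
  rw [e] at h3
  exact h3

theorem main19647 (S : Scheme.{u}) [CompactSpace S] (M : Type) [AddCommMonoid M]
    {X : Over S} [IsAffineHom X.hom] [LocallyOfFinitePresentation X.hom]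
    (a : Magnet.MonAct (Magnet.AMonS S M) X) :
    Set.Finite {N : AddSubmonoid M | ∀ L : AddSubmonoid M,
      (∀ T : Over S, Set.range (fun φ => (Magnet.attrToX a N).app (op T) φ) =
        Set.range (fun φ => (Magnet.attrToX a L).app (op T) φ)) → N ≤ L} := by
  obtain ⟨D, hDfin, hD⟩ := global a
  apply Set.Finite.subset
    ((hDfin.finite_subsets).image (fun D' : Set M => AddSubmonoid.closure D'))
  intro N hN
  have hle : AddSubmonoid.closure ((N : Set M) ∩ D) ≤ N :=
    AddSubmonoid.closure_le.mpr Set.inter_subset_left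
  have hNle : N ≤ AddSubmonoid.closure ((N : Set M) ∩ D) := by
    apply hN
    intro T
    apply Set.Subset.antisymm
    · rintro x ⟨φ, rfl⟩
      have h1 : ExtP N a ((Magnet.attrToX a N).app (op T) φ) := extP_of_attr N a φ
      have h2 := (extP_iff_pxp N a _).mp h1
      have h3 := hD N (AddSubmonoid.closure ((N : Set M) ∩ D))
        (fun m hmD hmN => AddSubmonoid.subset_closure ⟨hmN, hmD⟩) _ h2
      have h4 := (extP_iff_pxp _ a _).mpr h3
      obtain ⟨φ', hφ'⟩ := attr_of_extP _ a _ h4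
      exact ⟨φ', hφ'⟩
    · rintro x ⟨φ, rfl⟩
      have h1 := extP_of_attr _ a φ
      have h2 := extP_mono a hle _ h1
      obtain ⟨φ', hφ'⟩ := attr_of_extP N a _ h2
      exact ⟨φ', hφ'⟩
  exact ⟨(N : Set M) ∩ D, Set.inter_subset_right, le_antisymm hle hNle⟩

theorem main19646 (S : Scheme.{u}) [CompactSpace S] (M : Type)
    [AddCommGroup M] [AddGroup.FG M] {X : Over S} [IsSeparated X.hom]
    [LocallyOfFinitePresentation X.hom]
    (a : Magnet.MonAct (Magnet.AMonS S M) X) (U : Over S) [IsAffineHom U.hom]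
    (aU : Magnet.MonAct (Magnet.AMonS S M) U) (g : U ⟶ X)
    (hg : Magnet.MonAct.IsEquivariant aU a g)
    [Etale g.left] [Surjective g.left]
    (hgZ : ∀ Z : AddSubgroup M, Magnet.MonAct.IsEquivariant
      (aU.restrict (Magnet.AMonS.map S (QuotientAddGroup.mk' Z)))
      (a.restrict (Magnet.AMonS.map S (QuotientAddGroup.mk' Z))) g)
    (hfpr : ∀ Z : AddSubgroup M, IsPullback (Magnet.MonAct.fixedPsh.map g (hgZ Z))
      (Magnet.MonAct.fixedPshι (aU.restrict (Magnet.AMonS.map S (QuotientAddGroup.mk' Z))))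
      (Magnet.MonAct.fixedPshι (a.restrict (Magnet.AMonS.map S (QuotientAddGroup.mk' Z))))
      (yoneda.map g)) :
    Set.Finite {N : AddSubmonoid M | ∀ L : AddSubmonoid M,
      (∀ T : Over S, Set.range (fun φ => (Magnet.attrToX a N).app (op T) φ) =
        Set.range (fun φ => (Magnet.attrToX a L).app (op T) φ)) → N ≤ L} := by
  haveI : LocallyOfFinitePresentation U.hom := by
    rw [← Over.w g]
    infer_instance
  apply Set.Finite.subset (main19647 S M aU)
  intro N hN L hL
  apply hN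
  intro T
  exact AG44.main19645 S M a U aU g hg hgZ hfpr N L hL T

end Groth.Agent.Helper17.AG45
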