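import Mathlib
import Groth.Prelude.Def_GmPts
import Groth.Prelude.Def_Magnet4
import Groth.Agent.Lib.Helper17.AG9
import Groth.Agent.Lib.Helper17.AG33
import Groth.Agent.Lib.Helper17.AG43
import Groth.Agent.Lib.Helper17.AG44
import Groth.Agent.Lib.Helper17.AG45

/-!
# A finitely generated magnet with the same attractor (helper17)

For `X` separated and locally of finite presentation over a quasi-compact `S` with an `S`-affine `N*`-FPR atlas
`U → X`, there is a finitely generated `N_c ≤ N` with the same units and `X^{N_c} = X^N` (`main18237`): take the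
finite set of degrees of `AG45.global` for `U`, and transfer the equality of images from `U` to `X` by `AG44.half'`.
-/

set_option autoImplicit false
universe u
open CategoryTheory CategoryTheory.Limits MonoidalCategory CartesianMonoidalCategory MonObj
open AlgebraicGeometry Opposite

noncomputable section
namespace Groth.Agent.Helper17.AG46

variable {S : Scheme.{u}}

theorem attrToX_attrMap {M : Type} [AddCommMonoid M] {X : Over S}
    (a : Magnet.MonAct (Magnet.AMonS S M) X) {N' N : AddSubmonoid M} (h : N' ≤ N) (T : Over S)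
    (ψ : (Magnet.attr a N').obj (op T)) :
    (Magnet.attrToX a N).app (op T) ((Magnet.attrMap a h).app (op T) ψ) =
      (Magnet.attrToX a N').app (op T) ψ := by
  show lift (toUnit T ≫ η[Magnet.AMonS S ↥N]) (𝟙 T) ≫
      (Magnet.AMonS.map S (AddSubmonoid.inclusion h) ▷ T) ≫ ψ.1 =
    lift (toUnit T ≫ η[Magnet.AMonS S ↥N']) (𝟙 T) ≫ ψ.1
  rw [lift_whiskerRight_assoc, Category.assoc,
    IsMonHom.one_hom (Magnet.AMonS.map S (AddSubmonoid.inclusion h))]

variable {M : Type} [AddCommGroup M]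

theorem unitSub_eq (N : AddSubmonoid M) (Z : AddSubgroup M)
    (hZ : ∀ m : M, m ∈ Z ↔ (m ∈ N ∧ -m ∈ N)) : Z = AG43.unitSub N := by
  ext m
  rw [hZ]
  constructor
  · rintro ⟨h1, h2⟩
    show m ∈ Magnet.unitFace N
    exact ⟨h1, -m, h2, add_neg_cancel m⟩
  · intro hm
    have hm' : m ∈ Magnet.unitFace N := hm
    obtain ⟨h1, y, hy, hxy⟩ := hm'
    refine ⟨h1, ?_⟩
    have e : -m = y := neg_eq_of_add_eq_zero_right hxy
    rw [e]
    exact hy

theorem fg_subgroup [AddGroup.FG M] (Z : AddSubgroup M) : Z.toAddSubmonoid.FG := by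
  haveI : Module.Finite ℤ M := Module.Finite.iff_addGroup_fg.mpr inferInstance
  have h1 : (AddSubgroup.toIntSubmodule Z).FG := IsNoetherian.noetherian _
  rw [Submodule.fg_iff_addSubgroup_fg, AddSubgroup.toIntSubmodule_toAddSubgroup] at h1
  exact (AddSubgroup.fg_iff_addSubmonoid_fg Z).mp h1

theorem main18237 (S : Scheme.{u}) [CompactSpace S] (M : Type)
    [AddCommGroup M] [AddGroup.FG M] {X : Over S} [QuasiCompact X.hom] [IsSeparated X.hom]
    [LocallyOfFinitePresentation X.hom] (a : Magnet.MonAct (Magnet.AMonS S M) X)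
    (N : AddSubmonoid M)
    (Z : AddSubgroup M) (hZ : ∀ m : M, m ∈ Z ↔ (m ∈ N ∧ -m ∈ N)) (U : Over S) [IsAffineHom U.hom]
    (aU : Magnet.MonAct (Magnet.AMonS S M) U) (g : U ⟶ X)
    (hg : Magnet.MonAct.IsEquivariant aU a g)
    [Etale g.left] [Surjective g.left]
    (hgZ : Magnet.MonAct.IsEquivariant
      (aU.restrict (Magnet.AMonS.map S (QuotientAddGroup.mk' Z)))
      (a.restrict (Magnet.AMonS.map S (QuotientAddGroup.mk' Z))) g)
    (hfpr : IsPullback (Magnet.MonAct.fixedPsh.map g hgZ)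
      (Magnet.MonAct.fixedPshι (aU.restrict (Magnet.AMonS.map S (QuotientAddGroup.mk' Z))))
      (Magnet.MonAct.fixedPshι (a.restrict (Magnet.AMonS.map S (QuotientAddGroup.mk' Z))))
      (yoneda.map g)) :
    ∃ (Nc : AddSubmonoid M) (h : Nc ≤ N), Nc.FG ∧
      (∀ m : M, (m ∈ Nc ∧ -m ∈ Nc) ↔ (m ∈ N ∧ -m ∈ N)) ∧
      IsIso (Magnet.attrMap a h) := by
  have hZeq := unitSub_eq N Z hZ
  subst hZeq
  haveI : LocallyOfFinitePresentation U.hom := by
    rw [← Over.w g]
    infer_instance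
  obtain ⟨D, hDfin, hD⟩ := AG45.global aU
  have hZle : (AG43.unitSub N).toAddSubmonoid ≤ N := Magnet.unitFace_le N
  obtain ⟨Nc, hNc⟩ : ∃ Nc : AddSubmonoid M,
      Nc = AddSubmonoid.closure ((N : Set M) ∩ D) ⊔ (AG43.unitSub N).toAddSubmonoid := ⟨_, rfl⟩
  have hle : Nc ≤ N := by
    rw [hNc]
    exact sup_le (AddSubmonoid.closure_le.mpr Set.inter_subset_left) hZle
  have hfg : Nc.FG := by
    rw [hNc]
    exact AddSubmonoid.FG.sup
      ((AddSubmonoid.fg_iff _).mpr ⟨_, rfl, hDfin.subset Set.inter_subset_right⟩)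
      (fg_subgroup _)
  have hsub : (AG43.unitSub N).toAddSubmonoid ≤ Nc := by
    rw [hNc]
    exact le_sup_right
  have hunits : ∀ m : M, (m ∈ Nc ∧ -m ∈ Nc) ↔ (m ∈ N ∧ -m ∈ N) := by
    intro m
    constructor
    · rintro ⟨h1, h2⟩
      exact ⟨hle h1, hle h2⟩
    · intro h
      have hmZ : m ∈ AG43.unitSub N := (hZ m).mpr h
      have hmZ' : -m ∈ AG43.unitSub N := (AG43.unitSub N).neg_mem hmZ
      exact ⟨hsub hmZ, hsub hmZ'⟩
  refine ⟨Nc, hle, hfg, hunits, ?_⟩
  have hUr : ∀ T : Over S, Set.range (fun φ => (Magnet.attrToX aU N).app (op T) φ) ⊆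
      Set.range (fun φ => (Magnet.attrToX aU Nc).app (op T) φ) := by
    intro T
    rintro x ⟨φ, rfl⟩
    have h1 : AG33.ExtP N aU ((Magnet.attrToX aU N).app (op T) φ) := AG33.extP_of_attr N aU φ
    have h2 := (AG33.extP_iff_pxp N aU _).mp h1
    have h3 := hD N Nc (fun m hmD hmN => by
      rw [hNc]
      exact (le_sup_left : AddSubmonoid.closure ((N : Set M) ∩ D) ≤ _)
        (AddSubmonoid.subset_closure ⟨hmN, hmD⟩)) _ h2
    have h4 := (AG33.extP_iff_pxp _ aU _).mpr h3
    obtain ⟨φ', hφ'⟩ := AG33.attr_of_extP _ aU _ h4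
    exact ⟨φ', hφ'⟩
  have hXr : ∀ T : Over S, Set.range (fun φ => (Magnet.attrToX a N).app (op T) φ) ⊆
      Set.range (fun φ => (Magnet.attrToX a Nc).app (op T) φ) :=
    fun T => AG44.half' S M a U aU g hg N Nc hgZ hfpr hUr T
  haveI : ∀ T : (Over S)ᵒᵖ, IsIso ((Magnet.attrMap a hle).app T) := by
    intro T
    rw [isIso_iff_bijective]
    refine ⟨AG9.main18284 S M X a hle (unop T), ?_⟩
    intro φ
    obtain ⟨ψ, hψ⟩ := hXr (unop T) ⟨φ, rfl⟩
    refine ⟨ψ, ?_⟩
    apply AG9.attrToX_injective a N (unop T)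
    exact (attrToX_attrMap a hle (unop T) ψ).trans hψ
  exact NatIso.isIso_of_isIso_app _

end Groth.Agent.Helper17.AG46
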