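import Mathlib

/-!
# Detecting the image of a subspace after tensoring (helper17)

`AL`: over a field `k`, for a linear map `ι : B₀ → H` there is a family of functionals `lam j` on `H` such that for
every `k`-module `R` an element of `H ⊗ R` lies in the image of `B₀ ⊗ R` iff all its slices `(lam j ⊗ id)` vanish.
-/

set_option autoImplicit false
universe u
open TensorProduct

namespace Groth.Agent.Helper17.AG47

theorem AL {k : Type u} [Field k] {B₀ H : Type u} [AddCommGroup B₀] [Module k B₀]
    [AddCommGroup H] [Module k H] (ι : B₀ →ₗ[k] H) :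
    ∃ (J : Type u) (lam : J → (H →ₗ[k] k)),
      ∀ (R : Type u) [AddCommGroup R] [Module k R] (h : H ⊗[k] R),
        h ∈ LinearMap.range (ι.rTensor R) ↔
          ∀ j, TensorProduct.lid k R ((lam j).rTensor R h) = 0 := by
  classical
  obtain ⟨B', hc⟩ := Submodule.exists_isCompl (LinearMap.range ι)
  obtain ⟨ℬ, hℬ⟩ : ∃ ℬ : Module.Basis (Module.Basis.ofVectorSpaceIndex k B') k B',
      ℬ = Module.Basis.ofVectorSpace k B' := ⟨_, rfl⟩
  obtain ⟨pB', hpB'⟩ : ∃ p : H →ₗ[k] B', p = B'.projectionOnto (LinearMap.range ι) hc.symm :=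
    ⟨_, rfl⟩
  obtain ⟨pB, hpB⟩ : ∃ p : H →ₗ[k] LinearMap.range ι,
      p = (LinearMap.range ι).projectionOnto B' hc := ⟨_, rfl⟩
  have hpι : ∀ b, pB' (ι b) = 0 := by
    intro b
    rw [hpB']
    exact Submodule.projectionOnto_apply_of_mem_right hc.symm (LinearMap.mem_range_self ι b)
  have hsum : ∀ x : H, ((pB x : LinearMap.range ι) : H) + ((pB' x : B') : H) = x := by
    intro x
    rw [hpB, hpB']
    exact Submodule.projection_add_projection_eq_self hc x
  refine ⟨Module.Basis.ofVectorSpaceIndex k B', fun j => (ℬ.coord j) ∘ₗ pB', ?_⟩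
  intro R _ _ h
  constructor
  · rintro ⟨m, rfl⟩ j
    have h0 : ((ℬ.coord j) ∘ₗ pB') ∘ₗ ι = 0 := by
      ext b
      simp only [LinearMap.comp_apply, LinearMap.zero_apply, hpι, map_zero]
    rw [← LinearMap.comp_apply, ← LinearMap.rTensor_comp, h0, LinearMap.rTensor_zero,
      LinearMap.zero_apply, map_zero]
  · intro hj
    obtain ⟨g, hg⟩ := LinearMap.exists_rightInverse_of_surjective ι.rangeRestrict
      (LinearMap.range_rangeRestrict ι)
    have hgx : ∀ y : LinearMap.range ι, ι (g y) = (y : H) := by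
      intro y
      have h1 := congrArg (fun f => ((f y : LinearMap.range ι) : H)) hg
      exact h1
    have hdec : (LinearMap.id : H →ₗ[k] H) = ι ∘ₗ (g ∘ₗ pB) + B'.subtype ∘ₗ pB' := by
      ext x
      simp only [LinearMap.id_apply, LinearMap.add_apply, LinearMap.comp_apply,
        Submodule.subtype_apply, hgx]
      exact (hsum x).symm
    have hsecond : pB'.rTensor R h = 0 := by
      apply (TensorProduct.equivFinsuppOfBasisLeft ℬ).injective
      ext j
      rw [TensorProduct.equivFinsuppOfBasisLeft_apply, map_zero, Finsupp.zero_apply,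
        ← LinearMap.comp_apply, ← LinearMap.rTensor_comp]
      exact hj j
    have h1 : h = (LinearMap.id : H →ₗ[k] H).rTensor R h := by
      rw [LinearMap.rTensor_id]
      rfl
    have e1 : (ι ∘ₗ (g ∘ₗ pB)).rTensor R h = ι.rTensor R ((g ∘ₗ pB).rTensor R h) := by
      rw [LinearMap.rTensor_comp]
      rfl
    have e2 : (B'.subtype ∘ₗ pB').rTensor R h = B'.subtype.rTensor R (pB'.rTensor R h) := by
      rw [LinearMap.rTensor_comp]
      rfl
    rw [h1, hdec, LinearMap.rTensor_add, LinearMap.add_apply, e1, e2, hsecond, map_zero, add_zero]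
    exact ⟨_, rfl⟩

end Groth.Agent.Helper17.AG47
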