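import Mathlib
import Groth.Agent.Lib.Helper17.AG17
import Groth.Agent.Lib.Helper17.AG24

/-!
# Functions on products of affine schemes over a field (helper17)

For `Y, T` over `Spec k`: the `k`-algebra structure on global sections (`algΓ`, scoped), pullback of functions as an
algebra map (`pbAlg`), the canonical map `Eprod Y T : Γ(Y) ⊗[k] Γ(T) → Γ(Y × T)`, its naturality in both
variables and its bijectivity when `Y` and `T` are affine (`Eprod_bijective`, from Mathlib's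
`isIso_pushoutSection_of_isAffineOpen`).
-/

set_option autoImplicit false
universe u
open CategoryTheory CategoryTheory.Limits MonoidalCategory CartesianMonoidalCategory
open AlgebraicGeometry Opposite TensorProduct

noncomputable section
namespace Groth.Agent.Helper17.AG48
open Groth.Agent.Helper17.AG24

variable {k : Type u} [Field k]

/-- the structure ring map of a scheme over `Spec k` -/
def strMap (Y : Over (Spec (CommRingCat.of k))) : k →+* Γ(Y.left, ⊤) :=
  ((Scheme.ΓSpecIso (CommRingCat.of k)).inv ≫ Y.hom.appTop).hom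

/-- the `k`-algebra structure on global functions of a scheme over `Spec k` -/
scoped instance algΓ (Y : Over (Spec (CommRingCat.of k))) : Algebra k Γ(Y.left, ⊤) :=
  (strMap Y).toAlgebra

theorem algebraMap_def (Y : Over (Spec (CommRingCat.of k))) (c : k) :
    algebraMap k Γ(Y.left, ⊤) c =
      Y.hom.appTop ((Scheme.ΓSpecIso (CommRingCat.of k)).inv c) := rfl

theorem pb_algebraMap {Y Y' : Over (Spec (CommRingCat.of k))} (f : Y ⟶ Y') (c : k) :
    pb f (algebraMap k Γ(Y'.left, ⊤) c) = algebraMap k Γ(Y.left, ⊤) c := by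
  rw [algebraMap_def, algebraMap_def]
  have h := AG17.appTop_comp_apply f.left Y'.hom ((Scheme.ΓSpecIso (CommRingCat.of k)).inv c)
  rw [Over.w f] at h
  exact h.symm

/-- pullback of functions as a `k`-algebra map -/
def pbAlg {Y Y' : Over (Spec (CommRingCat.of k))} (f : Y ⟶ Y') :
    Γ(Y'.left, ⊤) →ₐ[k] Γ(Y.left, ⊤) :=
  { pb f with commutes' := pb_algebraMap f }

theorem pbAlg_apply {Y Y' : Over (Spec (CommRingCat.of k))} (f : Y ⟶ Y') (z : Γ(Y'.left, ⊤)) :
    pbAlg f z = pb f z := rfl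

/-- the canonical map `Γ(Y) ⊗ Γ(T) → Γ(Y × T)` -/
def Eprod (Y T : Over (Spec (CommRingCat.of k))) :
    Γ(Y.left, ⊤) ⊗[k] Γ(T.left, ⊤) →ₐ[k] Γ((Y ⊗ T).left, ⊤) :=
  Algebra.TensorProduct.productMap (pbAlg (fst Y T)) (pbAlg (snd Y T))

theorem Eprod_tmul (Y T : Over (Spec (CommRingCat.of k))) (h : Γ(Y.left, ⊤)) (r : Γ(T.left, ⊤)) :
    Eprod Y T (h ⊗ₜ[k] r) = pb (fst Y T) h * pb (snd Y T) r :=
  Algebra.TensorProduct.productMap_apply_tmul _ _ _ _

theorem Eprod_whiskerRight {Y Y' : Over (Spec (CommRingCat.of k))} (f : Y ⟶ Y')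
    (T : Over (Spec (CommRingCat.of k))) (z : Γ(Y'.left, ⊤) ⊗[k] Γ(T.left, ⊤)) :
    pb (f ▷ T) (Eprod Y' T z) =
      Eprod Y T (Algebra.TensorProduct.map (pbAlg f) (AlgHom.id k Γ(T.left, ⊤)) z) := by
  induction z using TensorProduct.induction_on with
  | zero => rw [map_zero, map_zero, map_zero, map_zero]
  | tmul h r =>
    have e1 : pb (f ▷ T) (pb (fst Y' T) h) = pb (fst Y T) (pb f h) := by
      rw [← pb_comp_apply, ← pb_comp_apply, whiskerRight_fst]
    have e2 : pb (f ▷ T) (pb (snd Y' T) r) = pb (snd Y T) r := by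
      rw [← pb_comp_apply, whiskerRight_snd]
    rw [Algebra.TensorProduct.map_tmul, Eprod_tmul, Eprod_tmul, map_mul, e1, e2]
    rfl
  | add x y hx hy => rw [map_add, map_add, map_add, map_add, hx, hy]

theorem Eprod_whiskerLeft (Y : Over (Spec (CommRingCat.of k)))
    {T T' : Over (Spec (CommRingCat.of k))} (t : T' ⟶ T) (z : Γ(Y.left, ⊤) ⊗[k] Γ(T.left, ⊤)) :
    pb (Y ◁ t) (Eprod Y T z) =
      Eprod Y T' (Algebra.TensorProduct.map (AlgHom.id k Γ(Y.left, ⊤)) (pbAlg t) z) := by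
  induction z using TensorProduct.induction_on with
  | zero => rw [map_zero, map_zero, map_zero, map_zero]
  | tmul h r =>
    have e1 : pb (Y ◁ t) (pb (fst Y T) h) = pb (fst Y T') h := by
      rw [← pb_comp_apply, whiskerLeft_fst]
    have e2 : pb (Y ◁ t) (pb (snd Y T) r) = pb (snd Y T') (pb t r) := by
      rw [← pb_comp_apply, ← pb_comp_apply, whiskerLeft_snd]
    rw [Algebra.TensorProduct.map_tmul, Eprod_tmul, Eprod_tmul, map_mul, e1, e2]
    rfl
  | add x y hx hy => rw [map_add, map_add, map_add, map_add, hx, hy]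

theorem appLE_top {X Y : Scheme.{u}} (f : X ⟶ Y) (e : (⊤ : X.Opens) ≤ f ⁻¹ᵁ ⊤) :
    f.appLE ⊤ ⊤ e = f.appTop :=
  (f.app_eq_appLE (U := ⊤)).symm

theorem Eprod_bijective (Y T : Over (Spec (CommRingCat.of k))) [IsAffine Y.left]
    [IsAffine T.left] : Function.Bijective (Eprod Y T) := by
  have H : IsPullback (fst Y T).left (snd Y T).left Y.hom T.hom := by
    rw [Over.fst_left, Over.snd_left]
    exact IsPullback.of_hasPullback _ _
  have hS : IsAffineOpen (⊤ : (Spec (CommRingCat.of k)).Opens) := isAffineOpen_top _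
  have hT : IsAffineOpen (⊤ : T.left.Opens) := isAffineOpen_top _
  have hY : IsAffineOpen (⊤ : Y.left.Opens) := isAffineOpen_top _
  have hUST : (⊤ : T.left.Opens) ≤ T.hom ⁻¹ᵁ ⊤ := le_of_eq rfl
  have hUSX : (⊤ : Y.left.Opens) ≤ Y.hom ⁻¹ᵁ ⊤ := le_of_eq rfl
  have hUY : (⊤ : (Y ⊗ T).left.Opens) = (fst Y T).left ⁻¹ᵁ ⊤ ⊓ (snd Y T).left ⁻¹ᵁ ⊤ := by
    simp
  have hiso := isIso_pushoutSection_of_isAffineOpen H hUST hUSX hUY hS hT hY
  have hpo := (isIso_pushoutSection_iff H hUST hUSX hUY).mp hiso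
  simp only [appLE_top] at hpo
  -- the inverse
  have w : Y.hom.appTop ≫ CommRingCat.ofHom
        (Algebra.TensorProduct.includeLeftRingHom :
          Γ(Y.left, ⊤) →+* Γ(Y.left, ⊤) ⊗[k] Γ(T.left, ⊤)) =
      T.hom.appTop ≫ CommRingCat.ofHom
        (Algebra.TensorProduct.includeRight :
          Γ(T.left, ⊤) →ₐ[k] Γ(Y.left, ⊤) ⊗[k] Γ(T.left, ⊤)).toRingHom := by
    apply CommRingCat.hom_ext
    ext c₀
    obtain ⟨c, rfl⟩ : ∃ c : k, (Scheme.ΓSpecIso (CommRingCat.of k)).inv c = c₀ :=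
      ⟨(Scheme.ΓSpecIso (CommRingCat.of k)).hom c₀, Iso.hom_inv_id_apply _ _⟩
    show (algebraMap k Γ(Y.left, ⊤) c) ⊗ₜ[k] (1 : Γ(T.left, ⊤)) =
      (1 : Γ(Y.left, ⊤)) ⊗ₜ[k] (algebraMap k Γ(T.left, ⊤) c)
    rw [Algebra.algebraMap_eq_smul_one, Algebra.algebraMap_eq_smul_one, TensorProduct.smul_tmul]
  obtain ⟨D, hD1, hD2⟩ : ∃ D : Γ((Y ⊗ T).left, ⊤) ⟶
        CommRingCat.of (Γ(Y.left, ⊤) ⊗[k] Γ(T.left, ⊤)),
      (fst Y T).left.appTop ≫ D = CommRingCat.ofHom
        (Algebra.TensorProduct.includeLeftRingHom :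
          Γ(Y.left, ⊤) →+* Γ(Y.left, ⊤) ⊗[k] Γ(T.left, ⊤)) ∧
      (snd Y T).left.appTop ≫ D = CommRingCat.ofHom
        (Algebra.TensorProduct.includeRight :
          Γ(T.left, ⊤) →ₐ[k] Γ(Y.left, ⊤) ⊗[k] Γ(T.left, ⊤)).toRingHom :=
    ⟨hpo.desc _ _ w, hpo.inl_desc _ _ _, hpo.inr_desc _ _ _⟩
  have hDl : ∀ h : Γ(Y.left, ⊤), D.hom (pb (fst Y T) h) = h ⊗ₜ[k] (1 : Γ(T.left, ⊤)) := by
    intro h
    exact congrArg (fun m => m.hom h) hD1
  have hDr : ∀ r : Γ(T.left, ⊤), D.hom (pb (snd Y T) r) = (1 : Γ(Y.left, ⊤)) ⊗ₜ[k] r := by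
    intro r
    exact congrArg (fun m => m.hom r) hD2
  have h1 : ∀ z, D.hom (Eprod Y T z) = z := by
    intro z
    induction z using TensorProduct.induction_on with
    | zero => rw [map_zero, map_zero]
    | tmul h r =>
      rw [Eprod_tmul, map_mul, hDl, hDr, Algebra.TensorProduct.tmul_mul_tmul, mul_one, one_mul]
    | add x y hx hy => rw [map_add, map_add, hx, hy]
  have h2 : ∀ p, Eprod Y T (D.hom p) = p := by
    have hid : D ≫ CommRingCat.ofHom (Eprod Y T).toRingHom = 𝟙 _ := by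
      apply hpo.hom_ext
      · rw [← Category.assoc, hD1, Category.comp_id]
        apply CommRingCat.hom_ext
        ext h
        show Eprod Y T (h ⊗ₜ[k] (1 : Γ(T.left, ⊤))) = pb (fst Y T) h
        rw [Eprod_tmul, map_one, mul_one]
      · rw [← Category.assoc, hD2, Category.comp_id]
        apply CommRingCat.hom_ext
        ext r
        show Eprod Y T ((1 : Γ(Y.left, ⊤)) ⊗ₜ[k] r) = pb (snd Y T) r
        rw [Eprod_tmul, map_one, one_mul]
    intro p
    exact congrArg (fun m => m.hom p) hid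
  exact ⟨fun z z' hz => by rw [← h1 z, hz, h1], fun p => ⟨D.hom p, h2 p⟩⟩

end Groth.Agent.Helper17.AG48
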