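import Mathlib
import Groth.Prelude.Def_Magnet2
import Groth.Agent.Lib.Helper17.AG9
import Groth.Agent.Lib.Helper17.AG15
import Groth.Agent.Lib.Helper17.AG20
import Groth.Agent.Lib.Helper17.AG22
import Groth.Agent.Lib.Helper17.AG24
import Groth.Agent.Lib.Helper17.AG26
import Groth.Agent.Lib.Helper17.AG32
import Groth.Agent.Lib.Helper17.AG47
import Groth.Agent.Lib.Helper17.AG48

/-!
# Equivariant maps from an affine monoid with dense unit group, affine case (helper17)

`k` a field, `i : G ⟶ M` a monoid morphism of affine monoid schemes over `k` which is scheme-theoretically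
dominant, `α` an action of `G` on an affine `X`.  `ExtP i α x`: the orbit map of the `T`-point `x` extends to
`M × T`.  The extension is unique and automatically equivariant; for affine `T` it exists iff the pullbacks of
functions along the orbit map lie in the image of `Γ(M × T) → Γ(G × T)`, which is detected by slices along
functionals vanishing on `Γ(M)` (`AG47.AL`, `AG48.Eprod`); hence the condition is represented by a closed
subscheme of `X` (`main18955`).
-/

set_option autoImplicit false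
universe u
open CategoryTheory CategoryTheory.Limits MonoidalCategory CartesianMonoidalCategory MonObj
open AlgebraicGeometry Opposite TensorProduct

noncomputable section
namespace Groth.Agent.Helper17.AG49
open Groth.Agent.Helper17.AG24 Groth.Agent.Helper17.AG26 Groth.Agent.Helper17.AG48

variable {k : Type u} [Field k]

theorem flat_hom (W : Over (Spec (CommRingCat.of k))) : Flat W.hom := by
  haveI : Subsingleton (Spec (CommRingCat.of k)) :=
    inferInstanceAs (Subsingleton (PrimeSpectrum k))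
  infer_instance

section Gen
variable {M G X : Over (Spec (CommRingCat.of k))} [MonObj M] [MonObj G] (i : G ⟶ M)
  (α : Magnet.MonAct G X)

/-- the orbit map of `x` extends to `M × T` -/
def ExtP {T : Over (Spec (CommRingCat.of k))} (x : T ⟶ X) : Prop :=
  ∃ φ : M ⊗ T ⟶ X, (i ▷ T) ≫ φ = (G ◁ x) ≫ α.act

theorem extP_comp {T T' : Over (Spec (CommRingCat.of k))} (t : T' ⟶ T) (x : T ⟶ X)
    (h : ExtP i α x) : ExtP i α (t ≫ x) := by
  obtain ⟨φ, hφ⟩ := h
  refine ⟨(M ◁ t) ≫ φ, ?_⟩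
  calc (i ▷ T') ≫ (M ◁ t) ≫ φ = ((i ▷ T') ≫ (M ◁ t)) ≫ φ := (Category.assoc _ _ _).symm
    _ = ((G ◁ t) ≫ (i ▷ T)) ≫ φ := by rw [whisker_exchange]
    _ = (G ◁ t) ≫ (i ▷ T) ≫ φ := Category.assoc _ _ _
    _ = (G ◁ t) ≫ (G ◁ x) ≫ α.act := by rw [hφ]
    _ = (G ◁ (t ≫ x)) ≫ α.act := by
        rw [MonoidalCategory.whiskerLeft_comp, Category.assoc]

/-- the orbit map over `T` -/
abbrev orb {T : Over (Spec (CommRingCat.of k))} (x : T ⟶ X) : G ⊗ T ⟶ X ⊗ T :=
  lift ((G ◁ x) ≫ α.act) (snd G T)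

theorem orbit_natural {T T' : Over (Spec (CommRingCat.of k))} (t : T' ⟶ T) (x : T ⟶ X) :
    orb α (t ≫ x) ≫ (X ◁ t) = (G ◁ t) ≫ orb α x := by
  apply CartesianMonoidalCategory.hom_ext
  · simp [MonoidalCategory.whiskerLeft_comp]
  · simp

variable [IsAffine M.left] [IsAffine G.left] [IsSchemeTheoreticallyDominant i.left]

theorem pb_injective (W : Over (Spec (CommRingCat.of k))) :
    Function.Injective (pb (i ▷ W)) := by
  have sq : IsPullback (fst G W).left (i ▷ W).left i.left (fst M W).left :=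
    (AG9.isPullback_whiskerRight_fst i W).map (Over.forget (Spec (CommRingCat.of k)))
  haveI : Flat (fst M W).left := by
    rw [Over.fst_left]
    haveI := flat_hom W
    infer_instance
  haveI hqc : QuasiCompact i.left := inferInstance
  haveI : IsSchemeTheoreticallyDominant (i ▷ W).left :=
    IsSchemeTheoreticallyDominant.of_isPullback sq
  haveI : QuasiCompact (i ▷ W).left :=
    MorphismProperty.of_isPullback (P := @QuasiCompact) sq hqc
  intro z z' h
  exact (i ▷ W).left.app_injective ⊤ h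

variable [IsAffine X.left]

theorem cancel (W : Over (Spec (CommRingCat.of k))) (u v : M ⊗ W ⟶ X)
    (h : (i ▷ W) ≫ u = (i ▷ W) ≫ v) : u = v := by
  apply Over.OverMorphism.ext
  apply affine_cancel (i ▷ W).left (pb_injective i W)
  exact congrArg (fun w => w.left) h

variable [IsMonHom i]

theorem eqv_of_ext {T : Over (Spec (CommRingCat.of k))} (x : T ⟶ X) (φ : M ⊗ T ⟶ X)
    (hφ : (i ▷ T) ≫ φ = (G ◁ x) ≫ α.act) :
    Magnet.MonAct.IsEquivariant
      (((Magnet.MonAct.regular M).restrict i).prod (Magnet.MonAct.trivial G T)) α φ := by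
  rw [Magnet.MonAct.mem_eqvHom_iff]
  intro W g b t
  have key := AG22.abstract_eqv_descend α (𝟙 G) i i inferInstance (Category.id_comp i)
    (fun u v h => cancel i (G ⊗ T) u v h) ((G ◁ x) ≫ α.act)
    (fun g p t => abstract_orbit_eqv α x g p t) φ hφ g b t
  rw [Magnet.MonAct.lift_restrict_act, Magnet.MonAct.lift_regular_act]
  exact key

omit [IsAffine M.left] [IsAffine G.left] [IsSchemeTheoreticallyDominant i.left]
  [IsAffine X.left] in
theorem orbit_of_eqv {T : Over (Spec (CommRingCat.of k))} (φ : M ⊗ T ⟶ X)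
    (hφ : Magnet.MonAct.IsEquivariant
      (((Magnet.MonAct.regular M).restrict i).prod (Magnet.MonAct.trivial G T)) α φ) :
    (i ▷ T) ≫ φ = (G ◁ (lift (toUnit T ≫ η[M]) (𝟙 T) ≫ φ)) ≫ α.act := by
  apply Magnet.hom_ext_lift₂
  intro W g t
  have h := (Magnet.MonAct.mem_eqvHom_iff φ).mp hφ W g (toUnit W ≫ η[M]) t
  rw [Magnet.MonAct.lift_restrict_act, Magnet.MonAct.lift_regular_act, ← Hom.one_def,
    _root_.mul_one] at h
  have e : lift (1 : W ⟶ M) t ≫ φ = t ≫ lift (toUnit T ≫ η[M]) (𝟙 T) ≫ φ := by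
    rw [← Category.assoc, comp_lift, Category.comp_id, ← Category.assoc, comp_toUnit,
      ← Hom.one_def]
  rw [lift_whiskerRight_assoc, lift_whiskerLeft_assoc, h, e]

theorem extP_local {T : Over (Spec (CommRingCat.of k))} (x : T ⟶ X)
    (𝒰 : Scheme.OpenCover.{u} T.left) (h : ∀ j, ExtP i α (inc 𝒰 j ≫ x)) : ExtP i α x := by
  choose φi hφi using h
  obtain ⟨Φ, hΦ⟩ := glue_exists 𝒰 φi (fun j j' W mi mj hm =>
    abstract_compat i α.act x (inc 𝒰 j) (inc 𝒰 j')
      (φi j) (φi j') (hφi j) (hφi j')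
      (fun u v h => cancel i W u v h) mi mj hm)
  refine ⟨Φ, ?_⟩
  apply glue_ext 𝒰
  intro j
  exact abstract_final i α.act x (inc 𝒰 j) (φi j) Φ (hφi j) (hΦ j)

theorem extP_iff_range (T : Over (Spec (CommRingCat.of k))) [IsAffine T.left] (x : T ⟶ X) :
    ExtP i α x ↔ ∀ r : Γ((X ⊗ T).left, ⊤), ∃ y, pb (i ▷ T) y = pb (orb α x) r := by
  constructor
  · rintro ⟨φ, hφ⟩ r
    have h1 : (i ▷ T) ≫ lift φ (snd M T) = orb α x := by
      rw [comp_lift, hφ, whiskerRight_snd]
    exact ⟨pb (lift φ (snd M T)) r, by rw [← pb_comp_apply, h1]⟩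
  · intro hrange
    haveI hXT : IsAffine (X ⊗ T).left := by
      show IsAffine (pullback X.hom T.hom)
      infer_instance
    obtain ⟨oo, hoo⟩ : ∃ oo : G ⊗ T ⟶ X ⊗ T, oo = orb α x := ⟨_, rfl⟩
    have hinj := pb_injective i T
    obtain ⟨φl, hφl⟩ := affine_factor (i ▷ T).left oo.left hinj
      (fun r => by
        obtain ⟨y, hy⟩ := hrange r
        exact ⟨y, by rw [hoo]; exact hy⟩)
    have e1 : oo ≫ snd X T = snd G T := by rw [hoo, lift_snd]
    have e2 : (i ▷ T) ≫ snd M T = snd G T := whiskerRight_snd _ _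
    have hsnd : φl ≫ (snd X T).left = (snd M T).left := by
      apply affine_cancel (i ▷ T).left hinj
      calc (i ▷ T).left ≫ φl ≫ (snd X T).left
          = ((i ▷ T).left ≫ φl) ≫ (snd X T).left := (Category.assoc _ _ _).symm
        _ = oo.left ≫ (snd X T).left := by rw [hφl]
        _ = (oo ≫ snd X T).left := rfl
        _ = (snd G T).left := by rw [e1]
        _ = ((i ▷ T) ≫ snd M T).left := by rw [e2]
        _ = (i ▷ T).left ≫ (snd M T).left := rfl
    have w : φl ≫ (X ⊗ T).hom = (M ⊗ T).hom := by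
      rw [← Over.w (snd X T), ← Category.assoc, hsnd, Over.w]
    have e3 : (i ▷ T) ≫ Over.homMk φl w = oo := by
      apply Over.OverMorphism.ext
      exact hφl
    refine ⟨Over.homMk φl w ≫ fst X T, ?_⟩
    rw [← Category.assoc, e3, hoo, lift_fst]


/-- the same condition for a morphism of plain schemes -/
def PXp {T : Scheme.{u}} (x : T ⟶ X.left) : Prop :=
  ExtP i α (Over.homMk x rfl : Over.mk (x ≫ X.hom) ⟶ X)

omit [IsAffine M.left] [IsAffine G.left] [IsSchemeTheoreticallyDominant i.left]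
  [IsAffine X.left] [IsMonHom i] in
theorem extP_iff_pxp {T : Over (Spec (CommRingCat.of k))} (x : T ⟶ X) :
    ExtP i α x ↔ PXp i α x.left := by
  let ε : Over.mk (x.left ≫ X.hom) ≅ T := Over.isoMk (Iso.refl _) (by
    rw [Iso.refl_hom, Category.id_comp]
    exact (Over.w x).symm)
  have e1 : (Over.homMk x.left rfl : Over.mk (x.left ≫ X.hom) ⟶ X) = ε.hom ≫ x := by
    apply Over.OverMorphism.ext
    simp [ε]
  constructor
  · intro h
    show ExtP i α _
    rw [e1]
    exact extP_comp i α _ _ h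
  · intro h
    have h' : ExtP i α (ε.hom ≫ x) := by
      rw [← e1]
      exact h
    have := extP_comp i α ε.inv _ h'
    rwa [Iso.inv_hom_id_assoc] at this

omit [IsAffine M.left] [IsAffine G.left] [IsSchemeTheoreticallyDominant i.left]
  [IsAffine X.left] [IsMonHom i] in
theorem pxp_comp {T' T : Scheme.{u}} (t : T' ⟶ T) (x : T ⟶ X.left) (h : PXp i α x) :
    PXp i α (t ≫ x) := by
  let t' : Over.mk ((t ≫ x) ≫ X.hom) ⟶ Over.mk (x ≫ X.hom) :=
    Over.homMk t (by simp)
  have e : (Over.homMk (t ≫ x) rfl : Over.mk ((t ≫ x) ≫ X.hom) ⟶ X) =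
      t' ≫ Over.homMk x rfl := by
    apply Over.OverMorphism.ext
    simp [t']
  show ExtP i α _
  rw [e]
  exact extP_comp i α t' _ h

theorem pxp_local {T : Scheme.{u}} (x : T ⟶ X.left)
    (𝒰 : Scheme.OpenCover.{u} T) (h : ∀ j, PXp i α (𝒰.f j ≫ x)) : PXp i α x := by
  show ExtP i α _
  apply extP_local i α (T := Over.mk (x ≫ X.hom)) _ 𝒰
  intro j
  exact (extP_iff_pxp i α _).mpr (h j)

/-! ### slices -/

theorem map_eq_rTensor {A B R : Type u} [CommRing A] [CommRing B] [CommRing R] [Algebra k A]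
    [Algebra k B] [Algebra k R] (f : A →ₐ[k] B) (m : A ⊗[k] R) :
    Algebra.TensorProduct.map f (AlgHom.id k R) m = f.toLinearMap.rTensor R m := by
  induction m using TensorProduct.induction_on with
  | zero => rw [map_zero, map_zero]
  | tmul a r => rfl
  | add x y hx hy => rw [map_add, map_add, hx, hy]

theorem slice_natural {H R R' : Type u} [CommRing H] [CommRing R] [CommRing R'] [Algebra k H]
    [Algebra k R] [Algebra k R'] (lam : H →ₗ[k] k) (χ : R →ₐ[k] R') (w : H ⊗[k] R) :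
    TensorProduct.lid k R' (lam.rTensor R' (Algebra.TensorProduct.map (AlgHom.id k H) χ w)) =
      χ (TensorProduct.lid k R (lam.rTensor R w)) := by
  induction w using TensorProduct.induction_on with
  | zero => simp only [map_zero]
  | tmul h r =>
    rw [Algebra.TensorProduct.map_tmul, LinearMap.rTensor_tmul, LinearMap.rTensor_tmul,
      TensorProduct.lid_tmul, TensorProduct.lid_tmul, map_smul]
    rfl
  | add x y hx hy => simp only [map_add, hx, hy]

theorem mem_range_iff (T : Over (Spec (CommRingCat.of k))) [IsAffine T.left]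
    (w : Γ(G.left, ⊤) ⊗[k] Γ(T.left, ⊤)) :
    (∃ y, pb (i ▷ T) y = Eprod G T w) ↔
      w ∈ LinearMap.range ((pbAlg i).toLinearMap.rTensor Γ(T.left, ⊤)) := by
  have bM := Eprod_bijective M T
  have bG := Eprod_bijective G T
  constructor
  · rintro ⟨y, hy⟩
    obtain ⟨m, rfl⟩ := bM.2 y
    rw [Eprod_whiskerRight, map_eq_rTensor] at hy
    exact ⟨m, bG.1 hy⟩
  · rintro ⟨m, rfl⟩
    exact ⟨Eprod M T m, by rw [Eprod_whiskerRight, map_eq_rTensor]⟩

omit [IsAffine M.left] [IsAffine G.left] [IsSchemeTheoreticallyDominant i.left]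
  [IsAffine X.left] [IsMonHom i] in
theorem coeff_natural {T T' : Over (Spec (CommRingCat.of k))} (t : T' ⟶ T) (x : T ⟶ X)
    (r : Γ((X ⊗ T).left, ⊤)) (w : Γ(G.left, ⊤) ⊗[k] Γ(T.left, ⊤))
    (hw : Eprod G T w = pb (orb α x) r) :
    Eprod G T' (Algebra.TensorProduct.map (AlgHom.id k Γ(G.left, ⊤)) (pbAlg t) w) =
      pb (orb α (t ≫ x)) (pb (X ◁ t) r) := by
  rw [← Eprod_whiskerLeft, hw, ← pb_comp_apply, ← pb_comp_apply, orbit_natural]

theorem slice_ideal (T₀ : Over (Spec (CommRingCat.of k))) [IsAffine T₀.left] (x₀ : T₀ ⟶ X) :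
    ∃ K : Ideal Γ(T₀.left, ⊤), ∀ (T' : Over (Spec (CommRingCat.of k))) [IsAffine T'.left]
      (tt : T' ⟶ T₀),
      (ExtP i α (tt ≫ x₀) → K ≤ RingHom.ker (pb tt)) ∧
      (IsClosedImmersion tt.left → K ≤ RingHom.ker (pb tt) → ExtP i α (tt ≫ x₀)) := by
  haveI hXT0 : IsAffine (X ⊗ T₀).left := by
    show IsAffine (pullback X.hom T₀.hom)
    infer_instance
  have bG0 := Eprod_bijective G T₀
  obtain ⟨J, lam, hlam⟩ := AG47.AL ((pbAlg i).toLinearMap)
  have hcrit : ∀ (T' : Over (Spec (CommRingCat.of k))) [IsAffine T'.left] (tt : T' ⟶ T₀)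
      (r : Γ((X ⊗ T₀).left, ⊤)) (w : Γ(G.left, ⊤) ⊗[k] Γ(T₀.left, ⊤)),
      Eprod G T₀ w = pb (orb α x₀) r →
      ((∃ y, pb (i ▷ T') y = pb (orb α (tt ≫ x₀)) (pb (X ◁ tt) r)) ↔
        ∀ j, pb tt (TensorProduct.lid k Γ(T₀.left, ⊤)
          ((lam j).rTensor Γ(T₀.left, ⊤) w)) = 0) := by
    intro T' _ tt r w hw
    rw [← coeff_natural α tt x₀ r w hw, mem_range_iff, hlam]
    constructor
    · intro h j
      have := h j
      rw [slice_natural] at this
      exact this
    · intro h j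
      rw [slice_natural]
      exact h j
  refine ⟨Ideal.span {b | ∃ (r : Γ((X ⊗ T₀).left, ⊤))
      (w : Γ(G.left, ⊤) ⊗[k] Γ(T₀.left, ⊤)) (j : J),
      Eprod G T₀ w = pb (orb α x₀) r ∧
        b = TensorProduct.lid k Γ(T₀.left, ⊤) ((lam j).rTensor Γ(T₀.left, ⊤) w)}, ?_⟩
  intro T' _ tt
  constructor
  · intro h'
    have hr := (extP_iff_range i α _ (tt ≫ x₀)).mp h'
    apply Ideal.span_le.mpr
    rintro b ⟨r, w, j, hw, rfl⟩
    rw [SetLike.mem_coe, RingHom.mem_ker]
    exact (hcrit T' tt r w hw).mp (hr _) j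
  · intro hcl hK
    rw [extP_iff_range]
    intro r'
    have sq := (AG20.isPullback_snd_whiskerLeft X tt).map
      (Over.forget (Spec (CommRingCat.of k)))
    haveI : IsClosedImmersion (X ◁ tt).left :=
      MorphismProperty.of_isPullback (P := @IsClosedImmersion) sq hcl
    obtain ⟨r, hr⟩ : ∃ r, pb (X ◁ tt) r = r' :=
      (IsClosedImmersion.isAffine_surjective_of_isAffine (f := (X ◁ tt).left)).2 r'
    obtain ⟨w, hw⟩ := bG0.2 (pb (orb α x₀) r)
    rw [← hr]
    apply (hcrit T' tt r w hw).mpr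
    intro j
    exact RingHom.mem_ker.mp (hK (Ideal.subset_span ⟨r, w, j, hw, rfl⟩))

theorem local_ideal (V : X.left.Opens) (hV : IsAffineOpen V) :
    ∃ I : Ideal Γ(X.left, V), ∀ (C : CommRingCat.{u}) (χ : Γ(X.left, V) ⟶ C),
      PXp i α (Spec.map χ ≫ hV.fromSpec) ↔ I ≤ RingHom.ker χ.hom := by
  obtain ⟨x₀, hx₀⟩ : ∃ x₀ : Over.mk (hV.fromSpec ≫ X.hom) ⟶ X, x₀ = Over.homMk hV.fromSpec rfl :=
    ⟨_, rfl⟩
  haveI hA0 : IsAffine (Over.mk (hV.fromSpec ≫ X.hom)).left :=
    inferInstanceAs (IsAffine (Spec Γ(X.left, V)))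
  obtain ⟨K, hK⟩ := slice_ideal i α (Over.mk (hV.fromSpec ≫ X.hom)) x₀
  refine ⟨Ideal.comap (Scheme.ΓSpecIso Γ(X.left, V)).inv.hom K, fun C χ => ?_⟩
  have hsplit : ∀ (C : CommRingCat.{u}) (χ : Γ(X.left, V) ⟶ C),
      ∃ tt : Over.mk ((Spec.map χ ≫ hV.fromSpec) ≫ X.hom) ⟶ Over.mk (hV.fromSpec ≫ X.hom),
        tt.left = Spec.map χ ∧
        (Over.homMk (Spec.map χ ≫ hV.fromSpec) rfl :
          Over.mk ((Spec.map χ ≫ hV.fromSpec) ≫ X.hom) ⟶ X) = tt ≫ x₀ := by
    intro C χ
    refine ⟨Over.homMk (Spec.map χ) (Category.assoc _ _ _).symm, rfl, ?_⟩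
    apply Over.OverMorphism.ext
    rw [hx₀]
    rfl
  constructor
  · intro h a₀ ha₀
    obtain ⟨tt, htt, hxt⟩ := hsplit C χ
    haveI : IsAffine (Over.mk ((Spec.map χ ≫ hV.fromSpec) ≫ X.hom)).left :=
      inferInstanceAs (IsAffine (Spec C))
    have h' : ExtP i α (tt ≫ x₀) := by
      rw [← hxt]
      exact h
    have hKt := (hK _ tt).1 h'
    have h1 : pb tt ((Scheme.ΓSpecIso Γ(X.left, V)).inv a₀) = 0 := hKt ha₀
    have h2 : (Spec.map χ).appTop ((Scheme.ΓSpecIso Γ(X.left, V)).inv a₀) =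
        (Scheme.ΓSpecIso C).inv (χ a₀) := AG15.specMap_appTop_inv χ a₀
    have h3 : (Scheme.ΓSpecIso C).inv (χ a₀) = 0 := by
      rw [← h2, ← htt]
      exact h1
    rw [RingHom.mem_ker]
    apply (ConcreteCategory.bijective_of_isIso (Scheme.ΓSpecIso C).inv).1
    rw [map_zero]
    exact h3
  · intro h
    obtain ⟨I, hI⟩ : ∃ I : Ideal Γ(X.left, V),
        I = Ideal.comap (Scheme.ΓSpecIso Γ(X.left, V)).inv.hom K := ⟨_, rfl⟩
    rw [← hI] at h
    let χb : CommRingCat.of (Γ(X.left, V) ⧸ I) ⟶ C :=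
      CommRingCat.ofHom (Ideal.Quotient.lift I χ.hom (fun a₀ ha₀ => RingHom.mem_ker.mp (h ha₀)))
    have hχ : χ = CommRingCat.ofHom (Ideal.Quotient.mk I) ≫ χb := by
      ext a₀
      simp [χb]
    suffices hz : PXp i α (Spec.map (CommRingCat.ofHom (Ideal.Quotient.mk I)) ≫ hV.fromSpec) by
      have := pxp_comp i α (Spec.map χb) _ hz
      rw [← Category.assoc, ← Spec.map_comp, ← hχ] at this
      exact this
    obtain ⟨tt, htt, hxt⟩ := hsplit _ (CommRingCat.ofHom (Ideal.Quotient.mk I))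
    haveI : IsAffine (Over.mk ((Spec.map (CommRingCat.ofHom (Ideal.Quotient.mk I)) ≫
        hV.fromSpec) ≫ X.hom)).left :=
      inferInstanceAs (IsAffine (Spec (CommRingCat.of (Γ(X.left, V) ⧸ I))))
    show ExtP i α _
    rw [hxt]
    haveI hcl : IsClosedImmersion tt.left := by
      rw [htt]
      infer_instance
    apply (hK _ tt).2 hcl
    intro b hb
    rw [RingHom.mem_ker]
    obtain ⟨a₀, ha₀⟩ : ∃ a₀ : Γ(X.left, V), (Scheme.ΓSpecIso Γ(X.left, V)).inv a₀ = b :=
      ⟨(Scheme.ΓSpecIso Γ(X.left, V)).hom b, Iso.hom_inv_id_apply _ _⟩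
    have ha₀I : a₀ ∈ I := by
      rw [hI, Ideal.mem_comap]
      show (Scheme.ΓSpecIso Γ(X.left, V)).inv a₀ ∈ K
      rw [ha₀]
      exact hb
    have h6 : (Spec.map (CommRingCat.ofHom (Ideal.Quotient.mk I))).appTop
        ((Scheme.ΓSpecIso Γ(X.left, V)).inv a₀) =
        (Scheme.ΓSpecIso (CommRingCat.of (Γ(X.left, V) ⧸ I))).inv
          ((CommRingCat.ofHom (Ideal.Quotient.mk I)) a₀) :=
      AG15.specMap_appTop_inv (CommRingCat.ofHom (Ideal.Quotient.mk I)) a₀
    have h7 : (CommRingCat.ofHom (Ideal.Quotient.mk I)) a₀ = 0 :=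
      Ideal.Quotient.eq_zero_iff_mem.mpr ha₀I
    rw [← ha₀]
    show tt.left.appTop ((Scheme.ΓSpecIso Γ(X.left, V)).inv a₀) = 0
    rw [htt, h6, h7, map_zero]

end Gen

theorem main18955 (k : Type u) [Field k]
    (M G X : Over (Spec (CommRingCat.of k))) [MonObj M] [GrpObj G] [IsAffine M.left] [IsAffine G.left]
    [IsAffine X.left] (i : G ⟶ M) [IsMonHom i] [IsOpenImmersion i.left]
    [IsSchemeTheoreticallyDominant i.left] (a : AlgGrp.Action G X) :
    ∃ (Z : Over (Spec (CommRingCat.of k))) (j : Z ⟶ X)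
      (e : (Magnet.MonAct.eqvHom ((Magnet.MonAct.regular M).restrict i)
        (Magnet.MonAct.ofAction a)).RepresentableBy Z),
      IsClosedImmersion j.left ∧
      ∀ (T : Over (Spec (CommRingCat.of k))) (z : T ⟶ Z),
        (Magnet.MonAct.eqvHom.evalAt ((Magnet.MonAct.regular M).restrict i)
          (Magnet.MonAct.ofAction a) η[M]).app
          (op T) (e.homEquiv z) = z ≫ j := by
  obtain ⟨α, hα⟩ : ∃ α : Magnet.MonAct G X, α = Magnet.MonAct.ofAction a := ⟨_, rfl⟩
  rw [← hα]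
  obtain ⟨W, j, hj, hWj⟩ := AG32.of_local_ideal (X := X.left) (fun {T} x => PXp i α x)
    (fun t x h => pxp_comp i α t x h) (fun x 𝒰 h => pxp_local i α x 𝒰 h)
    (fun V => local_ideal i α V.1 V.2)
  let ĵ : Over.mk (j ≫ X.hom) ⟶ X := Over.homMk j rfl
  haveI : Mono ĵ := by
    haveI : Mono ((Over.forget (Spec (CommRingCat.of k))).map ĵ) := by
      show Mono j
      infer_instance
    exact (Over.forget (Spec (CommRingCat.of k))).mono_of_mono_map inferInstance
  have hrep : ∀ (T₀ : Over (Spec (CommRingCat.of k))) (x : T₀ ⟶ X),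
      ExtP i α x ↔ ∃ w : T₀ ⟶ Over.mk (j ≫ X.hom), w ≫ ĵ = x := by
    intro T₀ x
    rw [extP_iff_pxp, hWj]
    constructor
    · rintro ⟨w, hw⟩
      refine ⟨Over.homMk w (by
        show w ≫ j ≫ X.hom = T₀.hom
        rw [← Category.assoc, hw, Over.w]), ?_⟩
      apply Over.OverMorphism.ext
      exact hw
    · rintro ⟨w, hw⟩
      refine ⟨w.left, ?_⟩
      have := congrArg (fun k => k.left) hw
      exact this
  have hattr : ∀ (T₀ : Over (Spec (CommRingCat.of k))) (x : T₀ ⟶ X), ExtP i α x ↔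
      ∃ φ : (Magnet.MonAct.eqvHom ((Magnet.MonAct.regular M).restrict i) α).obj (op T₀),
        (Magnet.MonAct.eqvHom.evalAt ((Magnet.MonAct.regular M).restrict i) α η[M]).app
          (op T₀) φ = x := by
    intro T₀ x
    constructor
    · rintro ⟨φ, hφ⟩
      exact ⟨⟨φ, eqv_of_ext i α x φ hφ⟩, AG26.abstract_eval α i x φ hφ⟩
    · rintro ⟨φ, rfl⟩
      exact ⟨φ.1, orbit_of_eqv i α φ.1 φ.2⟩
  have hinj : ∀ (T₀ : Over (Spec (CommRingCat.of k))),
      Function.Injective
        ((Magnet.MonAct.eqvHom.evalAt ((Magnet.MonAct.regular M).restrict i) α η[M]).app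
          (op T₀)) := by
    intro T₀ φ ψ h
    apply Subtype.ext
    apply cancel i T₀
    have h' : lift (toUnit T₀ ≫ η[M]) (𝟙 T₀) ≫ φ.1 = lift (toUnit T₀ ≫ η[M]) (𝟙 T₀) ≫ ψ.1 := h
    rw [orbit_of_eqv i α φ.1 φ.2, orbit_of_eqv i α ψ.1 ψ.2, h']
  choose toF toF_spec using (fun (T₀ : Over (Spec (CommRingCat.of k)))
      (w : T₀ ⟶ Over.mk (j ≫ X.hom)) =>
    (hattr T₀ (w ≫ ĵ)).mp ((hrep T₀ (w ≫ ĵ)).mpr ⟨w, rfl⟩))
  choose inv inv_spec using (fun (T₀ : Over (Spec (CommRingCat.of k)))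
      (φ : (Magnet.MonAct.eqvHom ((Magnet.MonAct.regular M).restrict i) α).obj (op T₀)) =>
    (hrep T₀ ((Magnet.MonAct.eqvHom.evalAt ((Magnet.MonAct.regular M).restrict i) α η[M]).app
      (op T₀) φ)).mp
      ((hattr T₀ ((Magnet.MonAct.eqvHom.evalAt ((Magnet.MonAct.regular M).restrict i) α
        η[M]).app (op T₀) φ)).mpr ⟨φ, rfl⟩))
  have hnat : ∀ (T₀ T₁ : Over (Spec (CommRingCat.of k))) (g : T₁ ⟶ T₀)
      (φ : (Magnet.MonAct.eqvHom ((Magnet.MonAct.regular M).restrict i) α).obj (op T₀)),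
      (Magnet.MonAct.eqvHom.evalAt ((Magnet.MonAct.regular M).restrict i) α η[M]).app (op T₁)
        ((Magnet.MonAct.eqvHom ((Magnet.MonAct.regular M).restrict i) α).map g.op φ) =
        g ≫ (Magnet.MonAct.eqvHom.evalAt ((Magnet.MonAct.regular M).restrict i) α η[M]).app
          (op T₀) φ := by
    intro T₀ T₁ g φ
    have := congrArg (fun k => (ConcreteCategory.hom k) φ)
      ((Magnet.MonAct.eqvHom.evalAt ((Magnet.MonAct.regular M).restrict i) α η[M]).naturality g.op)
    exact this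
  let e : (Magnet.MonAct.eqvHom ((Magnet.MonAct.regular M).restrict i) α).RepresentableBy
      (Over.mk (j ≫ X.hom)) :=
    { homEquiv := fun {T₀} =>
        { toFun := toF T₀
          invFun := inv T₀
          left_inv := fun w => by
            apply (cancel_mono ĵ).mp
            exact (inv_spec T₀ (toF T₀ w)).trans (toF_spec T₀ w)
          right_inv := fun φ => by
            apply hinj T₀
            exact (toF_spec T₀ (inv T₀ φ)).trans (inv_spec T₀ φ) }
      homEquiv_comp := fun {T₁ T₀} g w => by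
        apply hinj T₁
        show (Magnet.MonAct.eqvHom.evalAt ((Magnet.MonAct.regular M).restrict i) α η[M]).app
            (op T₁) (toF T₁ (g ≫ w)) =
          (Magnet.MonAct.eqvHom.evalAt ((Magnet.MonAct.regular M).restrict i) α η[M]).app (op T₁)
            ((Magnet.MonAct.eqvHom ((Magnet.MonAct.regular M).restrict i) α).map g.op (toF T₀ w))
        rw [hnat, toF_spec, toF_spec, Category.assoc] }
  exact ⟨Over.mk (j ≫ X.hom), ĵ, e, hj, fun T z => toF_spec T z⟩

end Groth.Agent.Helper17.AG49
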