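import Mathlib
import Groth.Prelude.Def_W4bk4git07Quot
import Groth.Prelude.Def_AlgGrp
import Groth.Agent.Lib.Helper17.AF6
import Groth.Agent.Lib.Helper17.AG2
import Groth.Agent.Lib.Helper17.AG4

/-!
# Equivariant maps of principal bundles are cartesian; associated bundles (helper17)
-/

set_option autoImplicit false
universe u
open CategoryTheory Limits MonoidalCategory CartesianMonoidalCategory MonObj GrpObj AlgebraicGeometry Opposite
open Groth.Agent.Helper17.AF6 Groth.Agent.Helper17.AG2 Groth.Agent.Helper17.AG4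

noncomputable section
namespace Groth.Agent.Helper17.AG5

section Cart
variable {C : Type*} [Category C] [CartesianMonoidalCategory C]

/-- `G × (X × Y) = (G × X) ×_G (G × Y)` -/
theorem isPullback_whiskerLeft_fst_snd (G X Y : C) :
    IsPullback (G ◁ fst X Y) (G ◁ snd X Y) (fst G X) (fst G Y) := by
  have w : (G ◁ fst X Y) ≫ fst G X = (G ◁ snd X Y) ≫ fst G Y := by simp
  refine IsPullback.mk ⟨w⟩ ⟨PullbackCone.IsLimit.mk w
    (fun s => lift (s.fst ≫ fst G X) (lift (s.fst ≫ snd G X) (s.snd ≫ snd G Y))) ?_ ?_ ?_⟩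
  · intro s
    apply CartesianMonoidalCategory.hom_ext
    · simp
    · simp
  · intro s
    apply CartesianMonoidalCategory.hom_ext
    · simp [s.condition]
    · simp
  · intro s m h1 h2
    apply CartesianMonoidalCategory.hom_ext
    · simp [← h1]
    · apply CartesianMonoidalCategory.hom_ext
      · simp [← h1]
      · simp [← h2]

end Cart

section KL
variable {S : Scheme.{u}} {H : Over S} [GrpObj H]

/-- an equivariant morphism of principal bundles over the same base (source fpqc over the base)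
is an isomorphism -/
theorem isIso_of_equivariant {P₁ P' Q : Over S} (b₁ : AlgGrp.Action H P₁)
    (b' : AlgGrp.Action H P') (q₁ : P₁ ⟶ Q) (q' : P' ⟶ Q)
    (h₁ : GIT.IsInvariant b₁ q₁) (h' : GIT.IsInvariant b' q')
    (i₁ : IsIso (GIT.PsiY b₁ q₁ h₁)) (i' : IsIso (GIT.PsiY b' q' h'))
    (hs : Surjective q₁.left) (hf : Flat q₁.left) (hc : QuasiCompact q₁.left)
    (z : P₁ ⟶ P') (hz : b₁.act ≫ z = (H ◁ z) ≫ b'.act) (hzq : z ≫ q' = q₁) :
    IsIso z.left := by
  have hzq' : z.left ≫ q'.left = q₁.left := by rw [← Over.comp_left, hzq]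
  obtain ⟨θ, hθ1, hθ2⟩ : ∃ θ : pullback q₁.left q₁.left ⟶ pullback q'.left q₁.left,
      θ ≫ pullback.fst q'.left q₁.left = pullback.fst q₁.left q₁.left ≫ z.left ∧
      θ ≫ pullback.snd q'.left q₁.left = pullback.snd q₁.left q₁.left :=
    ⟨pullback.lift (pullback.fst q₁.left q₁.left ≫ z.left) (pullback.snd q₁.left q₁.left)
      (by rw [Category.assoc, hzq', pullback.condition]),
      pullback.lift_fst _ _ _, pullback.lift_snd _ _ _⟩
  obtain ⟨κ, hκ1, hκ2⟩ : ∃ κ : pullback q'.left q₁.left ⟶ pullback q'.left q'.left,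
      κ ≫ pullback.fst q'.left q'.left = pullback.fst q'.left q₁.left ∧
      κ ≫ pullback.snd q'.left q'.left = pullback.snd q'.left q₁.left ≫ z.left :=
    ⟨pullback.lift (pullback.fst q'.left q₁.left) (pullback.snd q'.left q₁.left ≫ z.left)
      (by rw [Category.assoc, hzq', pullback.condition]),
      pullback.lift_fst _ _ _, pullback.lift_snd _ _ _⟩
  have sq1 : IsPullback θ (pullback.fst q₁.left q₁.left) (pullback.fst q'.left q₁.left)
      z.left := by
    have s : IsPullback (θ ≫ pullback.snd q'.left q₁.left) (pullback.fst q₁.left q₁.left)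
        q₁.left (z.left ≫ q'.left) := by
      rw [hθ2, hzq']
      exact (IsPullback.of_hasPullback q₁.left q₁.left).flip
    exact IsPullback.of_right s hθ1 (IsPullback.of_hasPullback q'.left q₁.left).flip
  have sq2 : IsPullback (pullback.snd q'.left q₁.left) κ z.left
      (pullback.snd q'.left q'.left) := by
    have s : IsPullback (pullback.snd q'.left q₁.left) (κ ≫ pullback.fst q'.left q'.left)
        (z.left ≫ q'.left) q'.left := by
      rw [hκ1, hzq']
      exact (IsPullback.of_hasPullback q'.left q₁.left).flip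
    exact IsPullback.of_bot s hκ2.symm (IsPullback.of_hasPullback q'.left q'.left).flip
  have hY1 : GIT.PsiY b₁ q₁ h₁ ≫ pullback.fst q₁.left q₁.left = b₁.act.left := by
    unfold GIT.PsiY
    exact pullback.lift_fst _ _ _
  have hY2 : GIT.PsiY b₁ q₁ h₁ ≫ pullback.snd q₁.left q₁.left = (snd H P₁).left := by
    unfold GIT.PsiY
    exact pullback.lift_snd _ _ _
  have hY1' : GIT.PsiY b' q' h' ≫ pullback.fst q'.left q'.left = b'.act.left := by
    unfold GIT.PsiY
    exact pullback.lift_fst _ _ _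
  have hY2' : GIT.PsiY b' q' h' ≫ pullback.snd q'.left q'.left = (snd H P').left := by
    unfold GIT.PsiY
    exact pullback.lift_snd _ _ _
  have ha : IsPullback (H ◁ z).left (snd H P₁).left (snd H P').left z.left :=
    (isPullback_whiskerLeft_snd H z).map (Over.forget S)
  have sq3 : IsPullback (GIT.PsiY b₁ q₁ h₁ ≫ θ) (H ◁ z).left κ (GIT.PsiY b' q' h') := by
    have s : IsPullback ((GIT.PsiY b₁ q₁ h₁ ≫ θ) ≫ pullback.snd q'.left q₁.left) (H ◁ z).left
        z.left (GIT.PsiY b' q' h' ≫ pullback.snd q'.left q'.left) := by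
      rw [Category.assoc, hθ2, hY2, hY2']
      exact ha.flip
    have p : (GIT.PsiY b₁ q₁ h₁ ≫ θ) ≫ κ = (H ◁ z).left ≫ GIT.PsiY b' q' h' := by
      apply pullback.hom_ext
      · simp only [Category.assoc]
        rw [hκ1, hθ1, reassoc_of% hY1, hY1', ← Over.comp_left, ← Over.comp_left, hz]
      · simp only [Category.assoc]
        rw [hκ2, reassoc_of% hθ2, reassoc_of% hY2, hY2', ← Over.comp_left, ← Over.comp_left,
          whiskerLeft_snd]
    exact IsPullback.of_right s p sq2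
  haveI hτ : IsIso (GIT.PsiY b₁ q₁ h₁ ≫ θ) := sq3.isIso_fst_of_isIso i'
  haveI := i₁
  have hθiso : IsIso θ := IsIso.of_isIso_comp_left (GIT.PsiY b₁ q₁ h₁) θ
  have hcov : (@Surjective ⊓ @Flat ⊓ @QuasiCompact : MorphismProperty Scheme.{u})
      (pullback.fst q'.left q₁.left) :=
    ⟨⟨MorphismProperty.pullback_fst (P := @Surjective) _ _ hs,
      MorphismProperty.pullback_fst (P := @Flat) _ _ hf⟩,
      MorphismProperty.pullback_fst (P := @QuasiCompact) _ _ hc⟩
  have hfin : MorphismProperty.isomorphisms Scheme.{u} z.left :=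
    MorphismProperty.of_isPullback_of_descendsAlong (P := MorphismProperty.isomorphisms Scheme.{u})
      (Q := @Surjective ⊓ @Flat ⊓ @QuasiCompact) sq1 hcov hθiso
  exact hfin

/-- **Key lemma**: an equivariant morphism of principal bundles lying over a morphism of the
bases is cartesian. -/
theorem isPullback_of_equivariant {P₁ P₂ Q₁ Q₂ : Over S} (b₁ : AlgGrp.Action H P₁)
    (b₂ : AlgGrp.Action H P₂) (q₁ : P₁ ⟶ Q₁) (q₂ : P₂ ⟶ Q₂)
    (h₁ : GIT.IsInvariant b₁ q₁) (h₂ : GIT.IsInvariant b₂ q₂)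
    (i₁ : IsIso (GIT.PsiY b₁ q₁ h₁)) (i₂ : IsIso (GIT.PsiY b₂ q₂ h₂))
    (hs : Surjective q₁.left) (hf : Flat q₁.left) (hc : QuasiCompact q₁.left)
    (z : P₁ ⟶ P₂) (hz : b₁.act ≫ z = (H ◁ z) ≫ b₂.act) (m : Q₁ ⟶ Q₂) (hm : q₁ ≫ m = z ≫ q₂) :
    IsPullback z q₁ q₂ m := by
  have hpb : IsPullback (pullback.fst q₂ m) (pullback.snd q₂ m) q₂ m :=
    IsPullback.of_hasPullback q₂ m
  obtain ⟨b', hb'⟩ : ∃ b' : AlgGrp.Action H (pullback q₂ m),
      b' = inducedAction b₂ q₂ h₂ hpb := ⟨_, rfl⟩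
  have heq : b'.act ≫ pullback.fst q₂ m = (H ◁ pullback.fst q₂ m) ≫ b₂.act := by
    rw [hb', inducedAction_act]
    exact inducedAct_pr b₂ q₂ h₂ hpb
  have h' : GIT.IsInvariant b' (pullback.snd q₂ m) := by
    show b'.act ≫ _ = _
    rw [hb', inducedAction_act]
    exact inducedAct_phi b₂ q₂ h₂ hpb
  obtain ⟨m', hm'1, -⟩ := isPullback_psiY_baseChange b₂ q₂ h₂ (pullback.fst q₂ m)
    (pullback.snd q₂ m) m hpb b' heq h'
  have i' : IsIso (GIT.PsiY b' (pullback.snd q₂ m) h') := hm'1.isIso_fst_of_isIso i₂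
  obtain ⟨z', hz'1, hz'2⟩ : ∃ z' : P₁ ⟶ pullback q₂ m,
      z' ≫ pullback.fst q₂ m = z ∧ z' ≫ pullback.snd q₂ m = q₁ :=
    ⟨pullback.lift z q₁ hm.symm, pullback.lift_fst _ _ _, pullback.lift_snd _ _ _⟩
  have hz' : b₁.act ≫ z' = (H ◁ z') ≫ b'.act := by
    apply pullback.hom_ext
    · rw [Category.assoc, hz'1, Category.assoc, heq, ← MonoidalCategory.whiskerLeft_comp_assoc,
        hz'1, hz]
    · have e : b'.act ≫ pullback.snd q₂ m = snd H _ ≫ pullback.snd q₂ m := h'
      have e1 : b₁.act ≫ q₁ = snd H P₁ ≫ q₁ := h₁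
      rw [Category.assoc, hz'2, Category.assoc, e, whiskerLeft_snd_assoc, hz'2, e1]
  have hiso : IsIso z'.left :=
    isIso_of_equivariant b₁ b' q₁ (pullback.snd q₂ m) h₁ h' i₁ i' hs hf hc z' hz' hz'2
  haveI : IsIso ((Over.forget S).map z') := hiso
  haveI : IsIso z' := isIso_of_reflects_iso z' (Over.forget S)
  exact IsPullback.of_iso_pullback ⟨hm.symm⟩ (asIso z') hz'1 hz'2

theorem quasiCompact_left_of {A Bq : Over S} (q : A ⟶ Bq) [QuasiCompact A.hom]
    [QuasiSeparated Bq.hom] : QuasiCompact q.left := by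
  haveI : QuasiCompact (q.left ≫ Bq.hom) := by
    rw [Over.w]
    infer_instance
  exact QuasiCompact.of_comp q.left Bq.hom

variable {G : Over S} [GrpObj G]

/-- the projection `G × Z → G` is equivariant for the twisted action on `G × Z` -/
theorem fst_equivariant (j : H ⟶ G) (r : AlgGrp.Action H G)
    (hr : ∀ (T : Over S) (h : T ⟶ H) (g : T ⟶ G), lift h g ≫ r.act = g * (h ≫ j)⁻¹)
    {Z : Over S} (b : AlgGrp.Action H (G ⊗ Z))
    (hb : ∀ (T : Over S) (h : T ⟶ H) (g : T ⟶ G) (x : T ⟶ Z),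
      lift h (lift g x) ≫ b.act ≫ fst G Z = g * (h ≫ j)⁻¹) :
    b.act ≫ fst G Z = (H ◁ fst G Z) ≫ r.act := by
  have h0 := hb _ (fst H (G ⊗ Z)) (snd H (G ⊗ Z) ≫ fst G Z) (snd H (G ⊗ Z) ≫ snd G Z)
  rw [lift_comp_fst_snd, lift_fst_snd, Category.id_comp] at h0
  rw [h0, whiskerLeft_eq_lift, hr]

end KL

section Mains

theorem main14883 (k : Type u) [Field k] [IsAlgClosed k] [CharZero k]
    (G H : Over (Spec (CommRingCat.of k))) [GrpObj G] [Smooth G.hom] [QuasiCompact G.hom]
    [GrpObj H] (j : H ⟶ G) [IsMonHom j] [IsClosedImmersion j.left] [Smooth H.hom]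
    (B : Over (Spec (CommRingCat.of k))) [LocallyOfFiniteType B.hom] [QuasiCompact B.hom] [IsSeparated B.hom] [IsReduced B.left]
    (r : AlgGrp.Action H G) (hr : ∀ (T : Over (Spec (CommRingCat.of k))) (h : T ⟶ H) (g : T ⟶ G),
      lift h g ≫ r.act = g * (h ≫ j)⁻¹)
    (π : G ⟶ B) (hπinv : GIT.IsInvariant r π)
    (hπ : (Function.Surjective π.left.base ∧ IsOpenMap π.left.base ∧
      Function.Surjective (GIT.PsiY r π hπinv).base ∧
      (∀ U : B.left.Opens, Function.Injective (π.left.app U) ∧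
        Set.range (π.left.app U) = {f | GIT.IsInvSection r π U f}) ∧
      IsIso (GIT.PsiY r π hπinv) ∧ Flat π.left))
    (X : Over (Spec (CommRingCat.of k))) [IsProper X.hom] [IsReduced X.left]
    (hF : ∀ F : Finset ↥X.left, ∃ U : X.left.Opens, IsAffineOpen U ∧ (↑F : Set ↥X.left) ⊆ (U : Set ↥X.left))
    (aX : AlgGrp.Action H X) (b : AlgGrp.Action H (G ⊗ X))
    (hb : ∀ (T : Over (Spec (CommRingCat.of k))) (h : T ⟶ H) (g : T ⟶ G) (x : T ⟶ X),
      lift h (lift g x) ≫ b.act = lift (g * (h ≫ j)⁻¹) (lift h x ≫ aX.act))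
    (QX : Over (Spec (CommRingCat.of k))) [LocallyOfFiniteType QX.hom] [QuasiCompact QX.hom] [IsSeparated QX.hom] [IsReduced QX.left] (qX : G ⊗ X ⟶ QX) (hqinv : GIT.IsInvariant b qX)
    (hq : (Function.Surjective qX.left.base ∧ IsOpenMap qX.left.base ∧
      Function.Surjective (GIT.PsiY b qX hqinv).base ∧
      (∀ U : QX.left.Opens, Function.Injective (qX.left.app U) ∧
        Set.range (qX.left.app U) = {f | GIT.IsInvSection b qX U f}) ∧
      IsIso (GIT.PsiY b qX hqinv) ∧ Flat qX.left))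
    (pX : QX ⟶ B) (hp : qX ≫ pX = fst G X ≫ π) :
    IsProper pX.left := by
  obtain ⟨hπs, -, -, -, hπiso, hπfl⟩ := hπ
  obtain ⟨hqs, -, -, -, hqiso, hqfl⟩ := hq
  have hz : b.act ≫ fst G X = (H ◁ fst G X) ≫ r.act := by
    refine fst_equivariant j r hr b ?_
    intro T h g x
    rw [← Category.assoc, hb, lift_fst]
  haveI hqcGX : QuasiCompact (G ⊗ X).hom := by
    rw [Over.tensorObj_hom]
    infer_instance
  have hqXqc : QuasiCompact qX.left := quasiCompact_left_of qX
  have hπqc : QuasiCompact π.left := quasiCompact_left_of π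
  have hsq : IsPullback (fst G X) qX π pX :=
    isPullback_of_equivariant b r qX π hqinv hπinv hqiso hπiso ⟨hqs⟩ hqfl hqXqc (fst G X) hz pX hp
  have hsq' : IsPullback (fst G X).left qX.left π.left pX.left := hsq.map (Over.forget _)
  have huc : UniversallyClosed pX.left := by
    have h1 : UniversallyClosed (fst G X).left := by
      rw [Over.fst_left]
      infer_instance
    exact MorphismProperty.of_isPullback_of_descendsAlong (P := @UniversallyClosed)
      (Q := @Surjective ⊓ @Flat ⊓ @QuasiCompact) hsq' ⟨⟨⟨hπs⟩, hπfl⟩, hπqc⟩ h1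
  haveI : IsSeparated (pX.left ≫ B.hom) := by
    rw [Over.w]
    infer_instance
  haveI : LocallyOfFiniteType (pX.left ≫ B.hom) := by
    rw [Over.w]
    infer_instance
  haveI : IsSeparated pX.left := IsSeparated.of_comp pX.left B.hom
  haveI : LocallyOfFiniteType pX.left := locallyOfFiniteType_of_comp pX.left B.hom
  exact (isProper_iff pX.left).mpr ⟨inferInstance, huc, inferInstance⟩

theorem main14884 (k : Type u) [Field k] [IsAlgClosed k] [CharZero k]
    (G H : Over (Spec (CommRingCat.of k))) [GrpObj G] [Smooth G.hom] [QuasiCompact G.hom]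
    [GrpObj H] (j : H ⟶ G) [IsMonHom j] [IsClosedImmersion j.left] [Smooth H.hom]
    (B : Over (Spec (CommRingCat.of k))) [LocallyOfFiniteType B.hom] [QuasiCompact B.hom] [IsSeparated B.hom] [IsReduced B.left]
    (r : AlgGrp.Action H G) (hr : ∀ (T : Over (Spec (CommRingCat.of k))) (h : T ⟶ H) (g : T ⟶ G),
      lift h g ≫ r.act = g * (h ≫ j)⁻¹)
    (π : G ⟶ B) (hπinv : GIT.IsInvariant r π)
    (hπ : (Function.Surjective π.left.base ∧ IsOpenMap π.left.base ∧
      Function.Surjective (GIT.PsiY r π hπinv).base ∧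
      (∀ U : B.left.Opens, Function.Injective (π.left.app U) ∧
        Set.range (π.left.app U) = {f | GIT.IsInvSection r π U f}) ∧
      IsIso (GIT.PsiY r π hπinv) ∧ Flat π.left))
    (X Y : Over (Spec (CommRingCat.of k))) [LocallyOfFiniteType X.hom] [QuasiCompact X.hom] [IsSeparated X.hom] [IsReduced X.left] [LocallyOfFiniteType Y.hom] [QuasiCompact Y.hom] [IsSeparated Y.hom] [IsReduced Y.left]
    (hFX : ∀ F : Finset ↥X.left, ∃ U : X.left.Opens, IsAffineOpen U ∧ (↑F : Set ↥X.left) ⊆ (U : Set ↥X.left))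
    (hFY : ∀ F : Finset ↥Y.left, ∃ U : Y.left.Opens, IsAffineOpen U ∧ (↑F : Set ↥Y.left) ⊆ (U : Set ↥Y.left))
    (aX : AlgGrp.Action H X) (aY : AlgGrp.Action H Y) (i : X ⟶ Y) [IsOpenImmersion i.left]
    (hi : aX.act ≫ i = (H ◁ i) ≫ aY.act)
    (b : AlgGrp.Action H (G ⊗ X))
    (hb : ∀ (T : Over (Spec (CommRingCat.of k))) (h : T ⟶ H) (g : T ⟶ G) (x : T ⟶ X),
      lift h (lift g x) ≫ b.act = lift (g * (h ≫ j)⁻¹) (lift h x ≫ aX.act))
    (c : AlgGrp.Action H (G ⊗ Y))
    (hc : ∀ (T : Over (Spec (CommRingCat.of k))) (h : T ⟶ H) (g : T ⟶ G) (x : T ⟶ Y),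
      lift h (lift g x) ≫ c.act = lift (g * (h ≫ j)⁻¹) (lift h x ≫ aY.act))
    (QX QY : Over (Spec (CommRingCat.of k))) [LocallyOfFiniteType QX.hom] [QuasiCompact QX.hom] [IsSeparated QX.hom] [IsReduced QX.left] [LocallyOfFiniteType QY.hom] [QuasiCompact QY.hom] [IsSeparated QY.hom] [IsReduced QY.left]
    (qX : G ⊗ X ⟶ QX) (hqXinv : GIT.IsInvariant b qX) (hqX : (Function.Surjective qX.left.base ∧ IsOpenMap qX.left.base ∧
      Function.Surjective (GIT.PsiY b qX hqXinv).base ∧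
      (∀ U : QX.left.Opens, Function.Injective (qX.left.app U) ∧
        Set.range (qX.left.app U) = {f | GIT.IsInvSection b qX U f}) ∧
      IsIso (GIT.PsiY b qX hqXinv) ∧ Flat qX.left))
    (qY : G ⊗ Y ⟶ QY) (hqYinv : GIT.IsInvariant c qY) (hqY : (Function.Surjective qY.left.base ∧ IsOpenMap qY.left.base ∧
      Function.Surjective (GIT.PsiY c qY hqYinv).base ∧
      (∀ U : QY.left.Opens, Function.Injective (qY.left.app U) ∧
        Set.range (qY.left.app U) = {f | GIT.IsInvSection c qY U f}) ∧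
      IsIso (GIT.PsiY c qY hqYinv) ∧ Flat qY.left))
    (pX : QX ⟶ B) (hpX : qX ≫ pX = fst G X ≫ π) (pY : QY ⟶ B) (hpY : qY ≫ pY = fst G Y ≫ π)
    (m : QX ⟶ QY) (hm : qX ≫ m = (G ◁ i) ≫ qY) (hmp : m ≫ pY = pX) :
    IsOpenImmersion m.left := by
  obtain ⟨hXs, -, -, -, hXiso, hXfl⟩ := hqX
  obtain ⟨hYs, -, -, -, hYiso, hYfl⟩ := hqY
  have hbact : b.act = lift ((snd H (G ⊗ X) ≫ fst G X) * (fst H (G ⊗ X) ≫ j)⁻¹)
      (lift (fst H (G ⊗ X)) (snd H (G ⊗ X) ≫ snd G X) ≫ aX.act) := by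
    have h0 := hb _ (fst H (G ⊗ X)) (snd H (G ⊗ X) ≫ fst G X) (snd H (G ⊗ X) ≫ snd G X)
    rw [lift_comp_fst_snd, lift_fst_snd, Category.id_comp] at h0
    exact h0
  have hz : b.act ≫ (G ◁ i) = (H ◁ (G ◁ i)) ≫ c.act := by
    have e : H ◁ (G ◁ i) = lift (fst H (G ⊗ X))
        (lift (snd H (G ⊗ X) ≫ fst G X) ((snd H (G ⊗ X) ≫ snd G X) ≫ i)) := by
      apply CartesianMonoidalCategory.hom_ext
      · rw [whiskerLeft_fst, lift_fst]
      · rw [whiskerLeft_snd, lift_snd]
        apply CartesianMonoidalCategory.hom_ext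
        · rw [Category.assoc, whiskerLeft_fst, lift_fst]
        · rw [Category.assoc, whiskerLeft_snd, lift_snd, Category.assoc]
    rw [e, hc, hbact, lift_whiskerLeft]
    congr 1
    rw [Category.assoc, hi, lift_whiskerLeft_assoc]
  haveI : QuasiCompact (G ⊗ X).hom := by
    rw [Over.tensorObj_hom]
    infer_instance
  haveI : QuasiCompact (G ⊗ Y).hom := by
    rw [Over.tensorObj_hom]
    infer_instance
  have hXqc : QuasiCompact qX.left := quasiCompact_left_of qX
  have hYqc : QuasiCompact qY.left := quasiCompact_left_of qY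
  have hsq : IsPullback (G ◁ i) qX qY m :=
    isPullback_of_equivariant b c qX qY hqXinv hqYinv hXiso hYiso ⟨hXs⟩ hXfl hXqc (G ◁ i) hz m hm
  have hsq' : IsPullback (G ◁ i).left qX.left qY.left m.left := hsq.map (Over.forget _)
  have h1 : IsOpenImmersion (G ◁ i).left := by
    have hw : IsPullback (G ◁ i).left (snd G X).left (snd G Y).left i.left :=
      (isPullback_whiskerLeft_snd G i).map (Over.forget _)
    exact MorphismProperty.of_isPullback (P := @IsOpenImmersion) hw.flip inferInstance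
  exact MorphismProperty.of_isPullback_of_descendsAlong (P := @IsOpenImmersion)
    (Q := @Surjective ⊓ @Flat ⊓ @QuasiCompact) hsq' ⟨⟨⟨hYs⟩, hYfl⟩, hYqc⟩ h1

theorem main14886 (k : Type u) [Field k] [IsAlgClosed k] [CharZero k]
    (G H : Over (Spec (CommRingCat.of k))) [GrpObj G] [Smooth G.hom] [QuasiCompact G.hom]
    [ConnectedSpace ↥G.left] [GrpObj H] (j : H ⟶ G) [IsMonHom j] [IsClosedImmersion j.left] [Smooth H.hom]
    (B : Over (Spec (CommRingCat.of k))) [LocallyOfFiniteType B.hom] [QuasiCompact B.hom] [IsSeparated B.hom] [IsReduced B.left]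
    (r : AlgGrp.Action H G) (hr : ∀ (T : Over (Spec (CommRingCat.of k))) (h : T ⟶ H) (g : T ⟶ G),
      lift h g ≫ r.act = g * (h ≫ j)⁻¹)
    (π : G ⟶ B) (hπinv : GIT.IsInvariant r π)
    (hπ : (Function.Surjective π.left.base ∧ IsOpenMap π.left.base ∧
      Function.Surjective (GIT.PsiY r π hπinv).base ∧
      (∀ U : B.left.Opens, Function.Injective (π.left.app U) ∧
        Set.range (π.left.app U) = {f | GIT.IsInvSection r π U f}) ∧
      IsIso (GIT.PsiY r π hπinv) ∧ Flat π.left))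
    (X Y : Over (Spec (CommRingCat.of k))) [LocallyOfFiniteType X.hom] [QuasiCompact X.hom] [IsSeparated X.hom] [IsReduced X.left] [LocallyOfFiniteType Y.hom] [QuasiCompact Y.hom] [IsSeparated Y.hom] [IsReduced Y.left]
    (hFX : ∀ F : Finset ↥X.left, ∃ U : X.left.Opens, IsAffineOpen U ∧ (↑F : Set ↥X.left) ⊆ (U : Set ↥X.left))
    (hFY : ∀ F : Finset ↥Y.left, ∃ U : Y.left.Opens, IsAffineOpen U ∧ (↑F : Set ↥Y.left) ⊆ (U : Set ↥Y.left))
    (aX : AlgGrp.Action H X) (aY : AlgGrp.Action H Y)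
    (b : AlgGrp.Action H (G ⊗ X))
    (hb : ∀ (T : Over (Spec (CommRingCat.of k))) (h : T ⟶ H) (g : T ⟶ G) (x : T ⟶ X),
      lift h (lift g x) ≫ b.act = lift (g * (h ≫ j)⁻¹) (lift h x ≫ aX.act))
    (c : AlgGrp.Action H (G ⊗ Y))
    (hc : ∀ (T : Over (Spec (CommRingCat.of k))) (h : T ⟶ H) (g : T ⟶ G) (x : T ⟶ Y),
      lift h (lift g x) ≫ c.act = lift (g * (h ≫ j)⁻¹) (lift h x ≫ aY.act))
    (d : AlgGrp.Action H (G ⊗ (X ⊗ Y)))
    (hd : ∀ (T : Over (Spec (CommRingCat.of k))) (h : T ⟶ H) (g : T ⟶ G) (x : T ⟶ X) (y : T ⟶ Y),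
      lift h (lift g (lift x y)) ≫ d.act = lift (g * (h ≫ j)⁻¹) (lift (lift h x ≫ aX.act) (lift h y ≫ aY.act)))
    (QX QY QXY : Over (Spec (CommRingCat.of k))) [LocallyOfFiniteType QX.hom] [QuasiCompact QX.hom] [IsSeparated QX.hom] [IsReduced QX.left] [LocallyOfFiniteType QY.hom] [QuasiCompact QY.hom] [IsSeparated QY.hom] [IsReduced QY.left] [LocallyOfFiniteType QXY.hom] [QuasiCompact QXY.hom] [IsSeparated QXY.hom] [IsReduced QXY.left]
    (qX : G ⊗ X ⟶ QX) (hqXinv : GIT.IsInvariant b qX) (hqX : (Function.Surjective qX.left.base ∧ IsOpenMap qX.left.base ∧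
      Function.Surjective (GIT.PsiY b qX hqXinv).base ∧
      (∀ U : QX.left.Opens, Function.Injective (qX.left.app U) ∧
        Set.range (qX.left.app U) = {f | GIT.IsInvSection b qX U f}) ∧
      IsIso (GIT.PsiY b qX hqXinv) ∧ Flat qX.left))
    (qY : G ⊗ Y ⟶ QY) (hqYinv : GIT.IsInvariant c qY) (hqY : (Function.Surjective qY.left.base ∧ IsOpenMap qY.left.base ∧
      Function.Surjective (GIT.PsiY c qY hqYinv).base ∧
      (∀ U : QY.left.Opens, Function.Injective (qY.left.app U) ∧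
        Set.range (qY.left.app U) = {f | GIT.IsInvSection c qY U f}) ∧
      IsIso (GIT.PsiY c qY hqYinv) ∧ Flat qY.left))
    (qXY : G ⊗ (X ⊗ Y) ⟶ QXY) (hqXYinv : GIT.IsInvariant d qXY) (hqXY : (Function.Surjective qXY.left.base ∧ IsOpenMap qXY.left.base ∧
      Function.Surjective (GIT.PsiY d qXY hqXYinv).base ∧
      (∀ U : QXY.left.Opens, Function.Injective (qXY.left.app U) ∧
        Set.range (qXY.left.app U) = {f | GIT.IsInvSection d qXY U f}) ∧
      IsIso (GIT.PsiY d qXY hqXYinv) ∧ Flat qXY.left))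
    (pX : QX ⟶ B) (hpX : qX ≫ pX = fst G X ≫ π) (pY : QY ⟶ B) (hpY : qY ≫ pY = fst G Y ≫ π)
    (pXY : QXY ⟶ B) (hpXY : qXY ≫ pXY = fst G (X ⊗ Y) ≫ π)
    (fX : QXY ⟶ QX) (hfX : qXY ≫ fX = (G ◁ fst X Y) ≫ qX) (hfXp : fX ≫ pX = pXY)
    (fY : QXY ⟶ QY) (hfY : qXY ≫ fY = (G ◁ snd X Y) ≫ qY) (hfYp : fY ≫ pY = pXY) :
    IsPullback fX.left fY.left pX.left pY.left := by
  obtain ⟨hπs, -, -, -, hπiso, hπfl⟩ := hπ
  obtain ⟨hXs, -, -, -, hXiso, hXfl⟩ := hqX
  obtain ⟨hYs, -, -, -, hYiso, hYfl⟩ := hqY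
  obtain ⟨hZs, -, -, -, hZiso, hZfl⟩ := hqXY
  have hzX : b.act ≫ fst G X = (H ◁ fst G X) ≫ r.act := by
    refine fst_equivariant j r hr b ?_
    intro T h g x
    rw [← Category.assoc, hb, lift_fst]
  have hzY : c.act ≫ fst G Y = (H ◁ fst G Y) ≫ r.act := by
    refine fst_equivariant j r hr c ?_
    intro T h g x
    rw [← Category.assoc, hc, lift_fst]
  have hzZ : d.act ≫ fst G (X ⊗ Y) = (H ◁ fst G (X ⊗ Y)) ≫ r.act := by
    refine fst_equivariant j r hr d ?_
    intro T h g x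
    have h0 := hd T h g (x ≫ fst X Y) (x ≫ snd X Y)
    rw [lift_comp_fst_snd] at h0
    rw [← Category.assoc, h0, lift_fst]
  haveI : QuasiCompact (G ⊗ X).hom := by
    rw [Over.tensorObj_hom]
    infer_instance
  haveI : QuasiCompact (G ⊗ Y).hom := by
    rw [Over.tensorObj_hom]
    infer_instance
  haveI : QuasiCompact (X ⊗ Y).hom := by
    rw [Over.tensorObj_hom]
    infer_instance
  haveI : QuasiCompact (G ⊗ (X ⊗ Y)).hom := by
    rw [Over.tensorObj_hom]
    infer_instance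
  have hXqc : QuasiCompact qX.left := quasiCompact_left_of qX
  have hYqc : QuasiCompact qY.left := quasiCompact_left_of qY
  have hZqc : QuasiCompact qXY.left := quasiCompact_left_of qXY
  have hπqc : QuasiCompact π.left := quasiCompact_left_of π
  have sqX : IsPullback (fst G X).left qX.left π.left pX.left :=
    (isPullback_of_equivariant b r qX π hqXinv hπinv hXiso hπiso ⟨hXs⟩ hXfl hXqc (fst G X) hzX
      pX hpX).map (Over.forget _)
  have sqY : IsPullback (fst G Y).left qY.left π.left pY.left :=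
    (isPullback_of_equivariant c r qY π hqYinv hπinv hYiso hπiso ⟨hYs⟩ hYfl hYqc (fst G Y) hzY
      pY hpY).map (Over.forget _)
  have sqZ : IsPullback (fst G (X ⊗ Y)).left qXY.left π.left pXY.left :=
    (isPullback_of_equivariant d r qXY π hqXYinv hπinv hZiso hπiso ⟨hZs⟩ hZfl hZqc
      (fst G (X ⊗ Y)) hzZ pXY hpXY).map (Over.forget _)
  have F1 : IsPullback (G ◁ fst X Y).left (G ◁ snd X Y).left (fst G X).left (fst G Y).left :=
    (isPullback_whiskerLeft_fst_snd G X Y).map (Over.forget _)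
  -- left-level equations
  have hfXl : qXY.left ≫ fX.left = (G ◁ fst X Y).left ≫ qX.left := by
    rw [← Over.comp_left, ← Over.comp_left, hfX]
  have hfYl : qXY.left ≫ fY.left = (G ◁ snd X Y).left ≫ qY.left := by
    rw [← Over.comp_left, ← Over.comp_left, hfY]
  have hfXpl : fX.left ≫ pX.left = pXY.left := by
    rw [← Over.comp_left, hfXp]
  have hfYpl : fY.left ≫ pY.left = pXY.left := by
    rw [← Over.comp_left, hfYp]
  have hpXl : qX.left ≫ pX.left = (fst G X).left ≫ π.left := by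
    rw [← Over.comp_left, ← Over.comp_left, hpX]
  have hwfst : (G ◁ fst X Y).left ≫ (fst G X).left = (fst G (X ⊗ Y)).left := by
    rw [← Over.comp_left, whiskerLeft_fst]
  have w : fX.left ≫ pX.left = fY.left ≫ pY.left := by rw [hfXpl, hfYpl]
  obtain ⟨t, ht1, ht2⟩ : ∃ t : QXY.left ⟶ pullback pX.left pY.left,
      t ≫ pullback.fst pX.left pY.left = fX.left ∧ t ≫ pullback.snd pX.left pY.left = fY.left :=
    ⟨pullback.lift fX.left fY.left w, pullback.lift_fst _ _ _, pullback.lift_snd _ _ _⟩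
  have big1 : IsPullback ((G ◁ snd X Y).left ≫ qY.left) (G ◁ fst X Y).left pY.left
      ((fst G X).left ≫ π.left) := F1.flip.paste_horiz sqY.flip
  have sqS : IsPullback (qXY.left ≫ t) (G ◁ fst X Y).left (pullback.fst pX.left pY.left)
      qX.left := by
    have s' : IsPullback ((qXY.left ≫ t) ≫ pullback.snd pX.left pY.left) (G ◁ fst X Y).left
        pY.left (qX.left ≫ pX.left) := by
      rw [Category.assoc, ht2, hfYl, hpXl]
      exact big1
    have p : (qXY.left ≫ t) ≫ pullback.fst pX.left pY.left = (G ◁ fst X Y).left ≫ qX.left := by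
      rw [Category.assoc, ht1, hfXl]
    exact IsPullback.of_right s' p (IsPullback.of_hasPullback pX.left pY.left).flip
  have E : IsPullback ((G ◁ fst X Y).left ≫ (fst G X).left) (qXY.left ≫ t) π.left
      (pullback.fst pX.left pY.left ≫ pX.left) := sqS.flip.paste_horiz sqX
  have sqT : IsPullback (𝟙 (G ⊗ (X ⊗ Y)).left) qXY.left (qXY.left ≫ t) t := by
    have s'' : IsPullback (𝟙 (G ⊗ (X ⊗ Y)).left ≫ ((G ◁ fst X Y).left ≫ (fst G X).left)) qXY.left
        π.left (t ≫ (pullback.fst pX.left pY.left ≫ pX.left)) := by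
      rw [Category.id_comp, hwfst, reassoc_of% ht1, hfXpl]
      exact sqZ
    exact IsPullback.of_right s'' (Category.id_comp _) E
  have hcov : (@Surjective ⊓ @Flat ⊓ @QuasiCompact : MorphismProperty Scheme.{u})
      (qXY.left ≫ t) :=
    ⟨⟨MorphismProperty.of_isPullback (P := @Surjective) E ⟨hπs⟩,
      MorphismProperty.of_isPullback (P := @Flat) E hπfl⟩,
      MorphismProperty.of_isPullback (P := @QuasiCompact) E hπqc⟩
  have hiso : MorphismProperty.isomorphisms Scheme.{u} t :=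
    MorphismProperty.of_isPullback_of_descendsAlong (P := MorphismProperty.isomorphisms Scheme.{u})
      (Q := @Surjective ⊓ @Flat ⊓ @QuasiCompact) sqT hcov
      (inferInstance : IsIso (𝟙 (G ⊗ (X ⊗ Y)).left))
  haveI : IsIso t := hiso
  exact IsPullback.of_iso_pullback ⟨w⟩ (asIso t) ht1 ht2

end Mains

end Groth.Agent.Helper17.AG5
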