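import Mathlib
import Groth.Prelude.Def_Magnet4

/-!
# Gordan's alternative for finitely generated abelian groups; faces are exposed (helper17)

`gordan`: for finitely many elements `p i` of a finitely generated abelian group either some integral functional is
positive on all of them or they satisfy a non-trivial relation with natural coefficients.
`exists_exposing`: a face `F` of a finitely generated submonoid `N` of a finitely generated abelian group is cut out by
an integral functional which is non-negative on `N`.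
-/

set_option autoImplicit false

namespace Groth.Agent.Helper17.AG50

theorem exists_functional_pos {M : Type} [AddCommGroup M] [AddGroup.FG M] (q : M)
    (hq : ∀ k : ℕ, 0 < k → k • q ≠ 0) : ∃ ℓ : M →+ ℤ, 0 < ℓ q := by
  haveI : Module.Finite ℤ M := Module.Finite.iff_addGroup_fg.mpr inferInstance
  haveI : Module.Free ℤ (M ⧸ Submodule.torsion ℤ M) := Module.free_of_finite_type_torsion_free'
  have hne : (Submodule.Quotient.mk q : M ⧸ Submodule.torsion ℤ M) ≠ 0 := by
    intro h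
    rw [Submodule.Quotient.mk_eq_zero, Submodule.mem_torsion_iff] at h
    obtain ⟨a, ha⟩ := h
    have ha' : (a : ℤ) • q = 0 := ha
    have ha0 : (a : ℤ) ≠ 0 := nonZeroDivisors.coe_ne_zero a
    apply hq (a : ℤ).natAbs (Int.natAbs_pos.mpr ha0)
    have h1 : (((a : ℤ).natAbs : ℕ) : ℤ) • q = 0 := by
      rcases Int.natAbs_eq (a : ℤ) with h | h
      · rw [← h]; exact ha'
      · have h2 : (((a : ℤ).natAbs : ℕ) : ℤ) = -(a : ℤ) := by omega
        rw [h2, neg_smul, ha', neg_zero]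
    rwa [natCast_zsmul] at h1
  obtain ⟨f, hf⟩ := Module.Projective.exists_dual_ne_zero ℤ hne
  obtain ⟨ℓ₀, hℓ₀⟩ : ∃ ℓ₀ : M →+ ℤ, ∀ x, ℓ₀ x = f (Submodule.Quotient.mk x) :=
    ⟨(f.comp (Submodule.mkQ _)).toAddMonoidHom, fun x => rfl⟩
  have h0 : ℓ₀ q ≠ 0 := by rw [hℓ₀]; exact hf
  rcases lt_or_gt_of_ne h0 with h | h
  · refine ⟨-ℓ₀, ?_⟩
    show 0 < -(ℓ₀ q)
    omega
  · exact ⟨ℓ₀, h⟩

theorem gordan {κ : Type} [DecidableEq κ] (s : Finset κ) :
    ∀ (M : Type) [AddCommGroup M] [AddGroup.FG M] (p : κ → M),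
      (∃ ℓ : M →+ ℤ, ∀ i ∈ s, 0 < ℓ (p i)) ∨
      (∃ a : κ → ℕ, (∃ i ∈ s, a i ≠ 0) ∧ ∑ i ∈ s, a i • p i = 0) := by
  induction s using Finset.induction_on with
  | empty =>
    intro M _ _ p
    exact Or.inl ⟨0, fun i hi => absurd hi (Finset.notMem_empty i)⟩
  | insert j s hj ih =>
    intro M _ _ p
    by_cases hq : ∃ k : ℕ, 0 < k ∧ k • p j = 0
    · obtain ⟨k, hk, hkq⟩ := hq
      right
      refine ⟨fun i => if i = j then k else 0,
        ⟨j, Finset.mem_insert_self j s, by dsimp only; rw [if_pos rfl]; omega⟩, ?_⟩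
      rw [Finset.sum_insert hj]
      dsimp only
      rw [if_pos rfl, hkq, zero_add]
      apply Finset.sum_eq_zero
      intro i hi
      have hij : i ≠ j := fun h => hj (h ▸ hi)
      rw [if_neg hij, zero_smul]
    · have hq' : ∀ k : ℕ, 0 < k → k • p j ≠ 0 := fun k hk h => hq ⟨k, hk, h⟩
      obtain ⟨Z, hZ⟩ : ∃ Z : AddSubgroup M, Z = AddSubgroup.zmultiples (p j) := ⟨_, rfl⟩
      rcases ih (M ⧸ Z) (fun i => (QuotientAddGroup.mk (p i) : M ⧸ Z)) with
        ⟨ℓ', hℓ'⟩ | ⟨a', ⟨i₀, hi₀, hai₀⟩, hsum'⟩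
      · -- a functional on the quotient: perturb it
        obtain ⟨ℓ₁, hℓ₁⟩ := exists_functional_pos (p j) hq'
        obtain ⟨ℓ₀, hℓ₀⟩ : ∃ ℓ₀ : M →+ ℤ, ∀ x, ℓ₀ x = ℓ' (QuotientAddGroup.mk x) :=
          ⟨ℓ'.comp (QuotientAddGroup.mk' Z), fun x => rfl⟩
        have h0j : ℓ₀ (p j) = 0 := by
          rw [hℓ₀, (QuotientAddGroup.eq_zero_iff (p j)).mpr
            (hZ ▸ AddSubgroup.mem_zmultiples (p j)), map_zero]
        obtain ⟨B, hB⟩ : ∃ B : ℕ, B = ∑ i ∈ s, (ℓ₁ (p i)).natAbs := ⟨_, rfl⟩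
        left
        refine ⟨(AddMonoidHom.mulLeft ((B : ℤ) + 1)).comp ℓ₀ + ℓ₁, ?_⟩
        intro i hi
        show 0 < ((B : ℤ) + 1) * ℓ₀ (p i) + ℓ₁ (p i)
        rcases Finset.mem_insert.mp hi with rfl | his
        · rw [h0j, mul_zero, zero_add]; exact hℓ₁
        · have h1 : 1 ≤ ℓ₀ (p i) := by rw [hℓ₀]; exact hℓ' i his
          have h2 : (ℓ₁ (p i)).natAbs ≤ B := by
            rw [hB]
            exact Finset.single_le_sum (f := fun i => (ℓ₁ (p i)).natAbs)
              (fun _ _ => Nat.zero_le _) his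
          have h3 : -(B : ℤ) ≤ ℓ₁ (p i) := by omega
          nlinarith
      · -- a relation in the quotient
        have e : (QuotientAddGroup.mk' Z) (∑ i ∈ s, a' i • p i) =
            ∑ i ∈ s, a' i • (QuotientAddGroup.mk (p i) : M ⧸ Z) := by
          rw [map_sum]
          apply Finset.sum_congr rfl
          intro i _
          rw [map_nsmul]; rfl
        have hmem : ∑ i ∈ s, a' i • p i ∈ Z :=
          (QuotientAddGroup.eq_zero_iff _).mp (e.trans hsum')
        rw [hZ] at hmem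
        obtain ⟨c, hc⟩ := AddSubgroup.mem_zmultiples_iff.mp hmem
        have hi₀j : i₀ ≠ j := fun h => hj (h ▸ hi₀)
        by_cases hc0 : c ≤ 0
        · right
          refine ⟨fun i => if i = j then (-c).toNat else a' i,
            ⟨i₀, Finset.mem_insert_of_mem hi₀, by dsimp only; rw [if_neg hi₀j]; exact hai₀⟩, ?_⟩
          rw [Finset.sum_insert hj]
          dsimp only
          rw [if_pos rfl]
          have e1 : ∑ i ∈ s, (if i = j then (-c).toNat else a' i) • p i = ∑ i ∈ s, a' i • p i := by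
            apply Finset.sum_congr rfl
            intro i hi
            have hij : i ≠ j := fun h => hj (h ▸ hi)
            rw [if_neg hij]
          rw [e1, ← hc, ← natCast_zsmul, Int.toNat_of_nonneg (by omega), neg_smul, neg_add_cancel]
        · have hcpos : 0 < c := by omega
          rcases ih M p with ⟨ℓ, hℓ⟩ | ⟨a, ⟨i₁, hi₁, hai₁⟩, hsum⟩
          · left
            refine ⟨ℓ, fun i hi => ?_⟩
            rcases Finset.mem_insert.mp hi with rfl | his
            · have h1 : c * ℓ (p i) = ∑ i' ∈ s, (a' i' : ℤ) * ℓ (p i') := by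
                have := congrArg ℓ hc
                rw [map_zsmul, map_sum, smul_eq_mul] at this
                rw [this]
                apply Finset.sum_congr rfl
                intro i' _
                rw [map_nsmul, nsmul_eq_mul]
              have h2 : 0 < ∑ i' ∈ s, (a' i' : ℤ) * ℓ (p i') := by
                apply Finset.sum_pos'
                · intro i' hi'
                  exact mul_nonneg (Int.natCast_nonneg _) (hℓ i' hi').le
                · exact ⟨i₀, hi₀, mul_pos (by omega) (hℓ i₀ hi₀)⟩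
              rw [← h1] at h2
              by_contra hneg
              have : ℓ (p i) ≤ 0 := by omega
              nlinarith
            · exact hℓ i his
          · right
            have hi₁j : i₁ ≠ j := fun h => hj (h ▸ hi₁)
            refine ⟨fun i => if i = j then 0 else a i,
              ⟨i₁, Finset.mem_insert_of_mem hi₁, by dsimp only; rw [if_neg hi₁j]; exact hai₁⟩, ?_⟩
            rw [Finset.sum_insert hj]
            dsimp only
            rw [if_pos rfl, zero_smul, zero_add]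
            rw [← hsum]
            apply Finset.sum_congr rfl
            intro i hi
            have hij : i ≠ j := fun h => hj (h ▸ hi)
            rw [if_neg hij]

theorem exists_exposing {M : Type} [AddCommGroup M] [AddGroup.FG M] {N F : AddSubmonoid M}
    (hN : N.FG) (hF : Magnet.IsFace N F) :
    ∃ ℓ : M →+ ℤ, (∀ n ∈ N, 0 ≤ ℓ n) ∧ (∀ n ∈ N, ℓ n = 0 ↔ n ∈ F) := by
  classical
  obtain ⟨G, hG⟩ := hN
  obtain ⟨Fg, hFg_def⟩ : ∃ Fg : AddSubgroup M, ∀ x, x ∈ Fg ↔ ∃ f ∈ F, ∃ f' ∈ F, x + f' = f :=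
    ⟨{ carrier := {x | ∃ f ∈ F, ∃ f' ∈ F, x + f' = f}
       zero_mem' := ⟨0, F.zero_mem, 0, F.zero_mem, add_zero 0⟩
       add_mem' := by
         rintro x y ⟨f, hf, f', hf', h⟩ ⟨g, hg, g', hg', h'⟩
         exact ⟨f + g, F.add_mem hf hg, f' + g', F.add_mem hf' hg', by
           rw [add_add_add_comm, h, h']⟩
       neg_mem' := by
         rintro x ⟨f, hf, f', hf', h⟩
         exact ⟨f', hf', f, hf, by rw [← h]; abel⟩ }, fun x => Iff.rfl⟩
  have hFg : ∀ n ∈ N, n ∈ Fg → n ∈ F := by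
    intro n hn hnF
    obtain ⟨f, hf, f', hf', h⟩ := (hFg_def n).mp hnF
    exact (hF.mem_of_add_mem n hn f' (hF.le hf') (h ▸ hf)).1
  have hFFg : ∀ f ∈ F, f ∈ Fg := fun f hf =>
    (hFg_def f).mpr ⟨f, hf, 0, F.zero_mem, add_zero f⟩
  obtain ⟨s, hs⟩ : ∃ s : Finset M, s = G.filter (fun g => g ∉ F) := ⟨_, rfl⟩
  have hGN : ∀ g ∈ G, g ∈ N := fun g hg => hG ▸ AddSubmonoid.subset_closure hg
  have hmem_s : ∀ g, g ∈ s ↔ g ∈ G ∧ g ∉ F := fun g => by rw [hs, Finset.mem_filter]
  have hsN : ∀ g ∈ s, g ∈ N := fun g hg => hGN g ((hmem_s g).mp hg).1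
  have hsF : ∀ g ∈ s, g ∉ F := fun g hg => ((hmem_s g).mp hg).2
  rcases gordan s (M ⧸ Fg) (fun g => (QuotientAddGroup.mk g : M ⧸ Fg)) with
    ⟨ℓ', hℓ'⟩ | ⟨a, ⟨i, his, hai⟩, hsum⟩
  · obtain ⟨ℓ, hℓ⟩ : ∃ ℓ : M →+ ℤ, ∀ x, ℓ x = ℓ' (QuotientAddGroup.mk x) :=
      ⟨ℓ'.comp (QuotientAddGroup.mk' Fg), fun x => rfl⟩
    have hℓF : ∀ f ∈ Fg, ℓ f = 0 := by
      intro f hf
      rw [hℓ, (QuotientAddGroup.eq_zero_iff f).mpr hf, map_zero]
    have key : ∀ n ∈ N, 0 ≤ ℓ n ∧ (ℓ n = 0 → n ∈ F) := by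
      intro n hn
      have hn' : n ∈ AddSubmonoid.closure (G : Set M) := by rw [hG]; exact hn
      refine AddSubmonoid.closure_induction
        (motive := fun x _ => 0 ≤ ℓ x ∧ (ℓ x = 0 → x ∈ F)) ?_ ?_ ?_ hn'
      · intro g hg
        by_cases hgF : g ∈ F
        · rw [hℓF g (hFFg g hgF)]; exact ⟨le_rfl, fun _ => hgF⟩
        · have hpos : 0 < ℓ g := by
            rw [hℓ]
            exact hℓ' g ((hmem_s g).mpr ⟨hg, hgF⟩)
          exact ⟨hpos.le, fun h => absurd h hpos.ne'⟩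
      · rw [map_zero]; exact ⟨le_rfl, fun _ => F.zero_mem⟩
      · intro x y _ _ ihx ihy
        rw [map_add]
        refine ⟨add_nonneg ihx.1 ihy.1, fun h => ?_⟩
        have hx0 : ℓ x = 0 := by linarith [ihx.1, ihy.1]
        have hy0 : ℓ y = 0 := by linarith [ihx.1, ihy.1]
        exact F.add_mem (ihx.2 hx0) (ihy.2 hy0)
    exact ⟨ℓ, fun n hn => (key n hn).1,
      fun n hn => ⟨(key n hn).2, fun h => hℓF n (hFFg n h)⟩⟩
  · exfalso
    have e : (QuotientAddGroup.mk' Fg) (∑ g ∈ s, a g • g) =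
        ∑ g ∈ s, a g • (QuotientAddGroup.mk g : M ⧸ Fg) := by
      rw [map_sum]
      apply Finset.sum_congr rfl
      intro g _
      rw [map_nsmul]; rfl
    have hmem : ∑ g ∈ s, a g • g ∈ Fg := (QuotientAddGroup.eq_zero_iff _).mp (e.trans hsum)
    have hsumN : ∑ g ∈ s, a g • g ∈ N :=
      N.sum_mem (fun g hg => N.nsmul_mem (hsN g hg) _)
    have hsumF := hFg _ hsumN hmem
    rw [← Finset.add_sum_erase s _ his] at hsumF
    have h1 : a i • i ∈ N := N.nsmul_mem (hsN i his) _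
    have h2 : ∑ g ∈ s.erase i, a g • g ∈ N :=
      N.sum_mem (fun g hg => N.nsmul_mem (hsN g (Finset.mem_of_mem_erase hg)) _)
    have h3 : a i • i ∈ F := (hF.mem_of_add_mem _ h1 _ h2 hsumF).1
    obtain ⟨k, hk⟩ := Nat.exists_eq_succ_of_ne_zero hai
    rw [hk, succ_nsmul] at h3
    exact hsF i his (hF.mem_of_add_mem _ (N.nsmul_mem (hsN i his) k) _ (hsN i his) h3).2

end Groth.Agent.Helper17.AG50
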