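import Mathlib
import Groth.Prelude.Def_Magnet4
import Groth.Agent.Lib.Helper17.AG14
import Groth.Agent.Lib.Helper17.AG15
import Groth.Agent.Lib.Helper17.AG24
import Groth.Agent.Lib.Helper17.AG36
import Groth.Agent.Lib.Helper17.AG50

/-!
# The attractor retracts onto the attractor of a face (helper17)

For a face `F` of a magnet `N` cut out by a grading `e : N →+ ℕ` (`e n = 0 ↔ n ∈ F`) the monoid morphism
`𝔸¹ → A(N)`, `c ↦ c ^ e`, gives `scale e c : A(N) × T ⟶ A(N) × T` and the homotopy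
`delta e a T x c = scale e c ≫ x` on the attractor `X^N`; `delta_zero`, `delta_one`, `delta_map`, `delta_natural`,
`delta_face`.  With `AG50.exists_exposing` this gives `main18244`.
-/

set_option autoImplicit false
universe u
open CategoryTheory CategoryTheory.Limits MonoidalCategory CartesianMonoidalCategory MonObj
open AlgebraicGeometry Opposite

noncomputable section
namespace Groth.Agent.Helper17.AG51
open Groth.Agent.Helper17.AG14 Groth.Agent.Helper17.AG15 Groth.Agent.Helper17.AG24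
  Groth.Agent.Helper17.AG36

variable {M : Type} [AddCommGroup M] {S : Scheme.{u}} {N F : AddSubmonoid M}
  (hF : Magnet.IsFace N F) (e : ↥N →+ ℕ)

/-- the character `n ↦ c ^ e n` -/
def charC {T : Over S} (c : Γ(T.left, ⊤)) : Multiplicative ↥N →* Γ(T.left, ⊤) :=
  (powersHom Γ(T.left, ⊤) c).comp (AddMonoidHom.toMultiplicative e)

theorem charC_apply {T : Over S} (c : Γ(T.left, ⊤)) (n : ↥N) :
    charC e c (Multiplicative.ofAdd n) = c ^ e n := rfl

/-- the point `c ^ e` of `A(N)_S` -/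
def χpt {T : Over S} (c : Γ(T.left, ⊤)) : T ⟶ Magnet.AMonS S ↥N := ptOfChar (charC e c)

theorem char_χpt {T : Over S} (c : Γ(T.left, ⊤)) (n : ↥N) :
    charOfPt (χpt e c) (Multiplicative.ofAdd n) = c ^ e n := by
  rw [χpt, charOfPt_ptOfChar]
  rfl

theorem χpt_comp {T T' : Over S} (t : T' ⟶ T) (c : Γ(T.left, ⊤)) :
    t ≫ χpt e c = χpt e (t.left.appTop c) := by
  apply charOfPt_injective
  refine MonoidHom.ext fun g => ?_
  obtain ⟨n, rfl⟩ : ∃ n : ↥N, Multiplicative.ofAdd n = g := ⟨g.toAdd, rfl⟩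
  rw [charOfPt_comp_apply, char_χpt, char_χpt, map_pow]
  rfl

theorem χpt_one {T : Over S} : χpt e (1 : Γ(T.left, ⊤)) = (1 : T ⟶ Magnet.AMonS S ↥N) := by
  apply charOfPt_injective
  refine MonoidHom.ext fun g => ?_
  obtain ⟨n, rfl⟩ : ∃ n : ↥N, Multiplicative.ofAdd n = g := ⟨g.toAdd, rfl⟩
  rw [char_χpt, one_pow, charOfPt_one]
  rfl

/-- scaling by `c ^ e` -/
def scale {T : Over S} (c : Γ(T.left, ⊤)) :
    Magnet.AMonS S ↥N ⊗ T ⟶ Magnet.AMonS S ↥N ⊗ T :=
  lift (fst (Magnet.AMonS S ↥N) T * (snd (Magnet.AMonS S ↥N) T ≫ χpt e c))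
    (snd (Magnet.AMonS S ↥N) T)

theorem scale_fst {T : Over S} (c : Γ(T.left, ⊤)) :
    scale e c ≫ fst (Magnet.AMonS S ↥N) T =
      fst (Magnet.AMonS S ↥N) T * (snd (Magnet.AMonS S ↥N) T ≫ χpt e c) := lift_fst _ _

theorem scale_snd {T : Over S} (c : Γ(T.left, ⊤)) :
    scale e c ≫ snd (Magnet.AMonS S ↥N) T = snd (Magnet.AMonS S ↥N) T := lift_snd _ _

theorem lift_scale {W T : Over S} (p : W ⟶ Magnet.AMonS S ↥N) (t : W ⟶ T) (c : Γ(T.left, ⊤)) :
    lift p t ≫ scale e c = lift (p * (t ≫ χpt e c)) t := by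
  apply CartesianMonoidalCategory.hom_ext
  · rw [Category.assoc, scale_fst, MonObj.comp_mul, lift_fst, lift_snd_assoc, lift_fst]
  · rw [Category.assoc, scale_snd, lift_snd, lift_snd]

theorem scale_eqv {X : Over S} (a : Magnet.MonAct (Magnet.AMonS S M) X) {T : Over S}
    (c : Γ(T.left, ⊤)) (φ : Magnet.AMonS S ↥N ⊗ T ⟶ X)
    (hφ : Magnet.MonAct.IsEquivariant
      ((Magnet.subAct S M N).prod (Magnet.MonAct.trivial (Magnet.AMonS S M) T)) a φ) :
    Magnet.MonAct.IsEquivariant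
      ((Magnet.subAct S M N).prod (Magnet.MonAct.trivial (Magnet.AMonS S M) T)) a
      (scale e c ≫ φ) := by
  rw [Magnet.MonAct.mem_eqvHom_iff] at hφ ⊢
  intro W g b t
  have e1 : lift (lift g b ≫ (Magnet.subAct S M N).act) t ≫ scale e c ≫ φ =
      lift ((lift g b ≫ (Magnet.subAct S M N).act) * (t ≫ χpt e c)) t ≫ φ := by
    rw [← Category.assoc, lift_scale]
  have e2 : lift b t ≫ scale e c ≫ φ = lift (b * (t ≫ χpt e c)) t ≫ φ := by
    rw [← Category.assoc, lift_scale]
  have e3 : (lift g b ≫ (Magnet.subAct S M N).act) * (t ≫ χpt e c) =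
      lift g (b * (t ≫ χpt e c)) ≫ (Magnet.subAct S M N).act := by
    unfold Magnet.subAct
    rw [Magnet.MonAct.lift_restrict_act, Magnet.MonAct.lift_regular_act,
      Magnet.MonAct.lift_restrict_act, Magnet.MonAct.lift_regular_act, _root_.mul_assoc]
  rw [e1, e2, ← hφ W g (b * (t ≫ χpt e c)) t, e3]

theorem scale_natural {T T' : Over S} (t : T' ⟶ T) (c : Γ(T.left, ⊤)) :
    scale e (t.left.appTop c) ≫ (Magnet.AMonS S ↥N ◁ t) =
      (Magnet.AMonS S ↥N ◁ t) ≫ scale e c := by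
  apply CartesianMonoidalCategory.hom_ext
  · have h1 : (scale e (t.left.appTop c) ≫ (Magnet.AMonS S ↥N ◁ t)) ≫ fst _ _ =
        fst _ _ * (snd _ _ ≫ χpt e (t.left.appTop c)) := by
      rw [Category.assoc, whiskerLeft_fst]
      exact scale_fst e _
    have h2 : ((Magnet.AMonS S ↥N ◁ t) ≫ scale e c) ≫ fst _ _ =
        fst _ _ * (snd _ _ ≫ χpt e (t.left.appTop c)) := by
      rw [Category.assoc, scale_fst, MonObj.comp_mul, whiskerLeft_fst, whiskerLeft_snd_assoc,
        χpt_comp]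
    rw [h1, h2]
  · rw [Category.assoc, whiskerLeft_snd, ← Category.assoc, scale_snd, Category.assoc, scale_snd,
      whiskerLeft_snd]

theorem scale_one {T : Over S} : scale e (1 : Γ(T.left, ⊤)) = 𝟙 (Magnet.AMonS S ↥N ⊗ T) := by
  unfold scale
  rw [χpt_one, MonObj.comp_one, _root_.mul_one, lift_fst_snd]

include hF in
theorem χpt_map (he : ∀ n : ↥N, e n = 0 ↔ (n : M) ∈ F) {T : Over S} (c : Γ(T.left, ⊤)) :
    χpt e c ≫ Magnet.AMonS.map S (AddSubmonoid.inclusion hF.le) =
      (1 : T ⟶ Magnet.AMonS S ↥F) := by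
  apply charOfPt_injective
  refine MonoidHom.ext fun g => ?_
  obtain ⟨f, rfl⟩ : ∃ f : ↥F, Multiplicative.ofAdd f = g := ⟨g.toAdd, rfl⟩
  rw [charOfPt_map_apply, char_χpt, charOfPt_one]
  have h0 : e (AddSubmonoid.inclusion hF.le f) = 0 := (he _).mpr f.2
  rw [h0, pow_zero]
  rfl

include hF in
theorem scale_map (he : ∀ n : ↥N, e n = 0 ↔ (n : M) ∈ F) {T : Over S} (c : Γ(T.left, ⊤)) :
    scale e c ≫ (Magnet.AMonS.map S (AddSubmonoid.inclusion hF.le) ▷ T) =
      Magnet.AMonS.map S (AddSubmonoid.inclusion hF.le) ▷ T := by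
  apply CartesianMonoidalCategory.hom_ext
  · rw [Category.assoc, whiskerRight_fst, ← Category.assoc, scale_fst, MonObj.mul_comp,
      Category.assoc, χpt_map hF e he, MonObj.comp_one, _root_.mul_one]
  · rw [Category.assoc, whiskerRight_snd, scale_snd]

theorem scale_zero (he : ∀ n : ↥N, e n = 0 ↔ (n : M) ∈ F) {T : Over S} :
    scale e (0 : Γ(T.left, ⊤)) =
      (Magnet.AMonS.map S (AddSubmonoid.inclusion hF.le) ≫ Magnet.AMonS.faceMap S hF) ▷ T := by
  apply CartesianMonoidalCategory.hom_ext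
  · rw [whiskerRight_fst, scale_fst]
    apply charOfPt_injective
    refine MonoidHom.ext fun g => ?_
    obtain ⟨n, rfl⟩ : ∃ n : ↥N, Multiplicative.ofAdd n = g := ⟨g.toAdd, rfl⟩
    have hA : charOfPt (snd (Magnet.AMonS S ↥N) T ≫ χpt e (0 : Γ(T.left, ⊤)))
        (Multiplicative.ofAdd n) = pb (snd (Magnet.AMonS S ↥N) T) ((0 : Γ(T.left, ⊤)) ^ e n) := by
      rw [charOfPt_comp_apply, char_χpt]
    rw [charOfPt_mul_apply, hA]
    by_cases hn : (n : M) ∈ F
    · have h0 : e n = 0 := (he n).mpr hn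
      rw [h0, pow_zero, map_one, _root_.mul_one, ← Category.assoc,
        charOfPt_faceMap_of_mem hF _ n hn, charOfPt_map_apply]
      rfl
    · have h0 : e n ≠ 0 := fun h => hn ((he n).mp h)
      rw [zero_pow h0, map_zero, mul_zero, ← Category.assoc,
        charOfPt_faceMap_of_not_mem hF _ n hn]
  · rw [whiskerRight_snd, scale_snd]

theorem face_scale (he : ∀ n : ↥N, e n = 0 ↔ (n : M) ∈ F) {T : Over S} (c : Γ(T.left, ⊤)) :
    (Magnet.AMonS.faceMap S hF ▷ T) ≫ scale e c = Magnet.AMonS.faceMap S hF ▷ T := by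
  apply CartesianMonoidalCategory.hom_ext
  · rw [Category.assoc, scale_fst, MonObj.comp_mul, whiskerRight_fst, whiskerRight_snd_assoc]
    apply charOfPt_injective
    refine MonoidHom.ext fun g => ?_
    obtain ⟨n, rfl⟩ : ∃ n : ↥N, Multiplicative.ofAdd n = g := ⟨g.toAdd, rfl⟩
    have hA : charOfPt (snd (Magnet.AMonS S ↥F) T ≫ χpt e c) (Multiplicative.ofAdd n) =
        pb (snd (Magnet.AMonS S ↥F) T) (c ^ e n) := by
      rw [charOfPt_comp_apply, char_χpt]
    rw [charOfPt_mul_apply, hA]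
    by_cases hn : (n : M) ∈ F
    · have h0 : e n = 0 := (he n).mpr hn
      rw [h0, pow_zero, map_one, _root_.mul_one]
    · rw [charOfPt_faceMap_of_not_mem hF _ n hn, zero_mul]
  · rw [Category.assoc, scale_snd]

section Delta
variable {X : Over S} (a : Magnet.MonAct (Magnet.AMonS S M) X)

/-- the homotopy on the attractor -/
def delta (T : Over S) (x : (Magnet.attr a N).obj (op T)) (c : Γ(T.left, ⊤)) :
    (Magnet.attr a N).obj (op T) :=
  ⟨scale e c ≫ x.1, scale_eqv e a c x.1 x.2⟩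

theorem delta_coe (T : Over S) (x : (Magnet.attr a N).obj (op T)) (c : Γ(T.left, ⊤)) :
    (delta e a T x c).1 = scale e c ≫ x.1 := rfl

theorem delta_natural {T T' : Over S} (t : T' ⟶ T) (x : (Magnet.attr a N).obj (op T))
    (c : Γ(T.left, ⊤)) :
    delta e a T' ((Magnet.attr a N).map t.op x) (t.left.appTop c) =
      (Magnet.attr a N).map t.op (delta e a T x c) := by
  apply Subtype.ext
  show scale e (t.left.appTop c) ≫ (Magnet.AMonS S ↥N ◁ t) ≫ x.1 =
    (Magnet.AMonS S ↥N ◁ t) ≫ scale e c ≫ x.1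
  rw [← Category.assoc, scale_natural, Category.assoc]

theorem delta_one (T : Over S) (x : (Magnet.attr a N).obj (op T)) : delta e a T x 1 = x := by
  apply Subtype.ext
  show scale e 1 ≫ x.1 = x.1
  rw [scale_one, Category.id_comp]

theorem delta_zero (he : ∀ n : ↥N, e n = 0 ↔ (n : M) ∈ F) (T : Over S)
    (x : (Magnet.attr a N).obj (op T)) :
    delta e a T x 0 =
      (Magnet.attrMap a hF.le).app (op T) ((Magnet.attrFace a hF).app (op T) x) := by
  apply Subtype.ext
  show scale e 0 ≫ x.1 = (Magnet.AMonS.map S (AddSubmonoid.inclusion hF.le) ▷ T) ≫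
    (Magnet.AMonS.faceMap S hF ▷ T) ≫ x.1
  rw [scale_zero hF e he, comp_whiskerRight, Category.assoc]

theorem delta_map (he : ∀ n : ↥N, e n = 0 ↔ (n : M) ∈ F) (T : Over S)
    (y : (Magnet.attr a F).obj (op T)) (c : Γ(T.left, ⊤)) :
    delta e a T ((Magnet.attrMap a hF.le).app (op T) y) c =
      (Magnet.attrMap a hF.le).app (op T) y := by
  apply Subtype.ext
  show scale e c ≫ (Magnet.AMonS.map S (AddSubmonoid.inclusion hF.le) ▷ T) ≫ y.1 =
    (Magnet.AMonS.map S (AddSubmonoid.inclusion hF.le) ▷ T) ≫ y.1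
  rw [← Category.assoc, scale_map hF e he]

theorem delta_face (he : ∀ n : ↥N, e n = 0 ↔ (n : M) ∈ F) (T : Over S)
    (x : (Magnet.attr a N).obj (op T)) (c : Γ(T.left, ⊤)) :
    (Magnet.attrFace a hF).app (op T) (delta e a T x c) = (Magnet.attrFace a hF).app (op T) x := by
  apply Subtype.ext
  show (Magnet.AMonS.faceMap S hF ▷ T) ≫ scale e c ≫ x.1 = (Magnet.AMonS.faceMap S hF ▷ T) ≫ x.1
  rw [← Category.assoc, face_scale hF e he]

end Delta

include hF in
/-- a grading of a finitely generated magnet with a given face as its degree-zero part -/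
theorem exists_grading [AddGroup.FG M] (hN : N.FG) :
    ∃ e : ↥N →+ ℕ, ∀ n : ↥N, e n = 0 ↔ (n : M) ∈ F := by
  obtain ⟨ℓ, hℓ0, hℓF⟩ := AG50.exists_exposing hN hF
  refine ⟨{ toFun := fun n => (ℓ (n : M)).toNat
            map_zero' := by
              show (ℓ ((0 : ↥N) : M)).toNat = 0
              rw [AddSubmonoid.coe_zero, map_zero]
              rfl
            map_add' := fun x y => by
              show (ℓ ((x + y : ↥N) : M)).toNat = (ℓ (x : M)).toNat + (ℓ (y : M)).toNat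
              rw [AddSubmonoid.coe_add, map_add, Int.toNat_add (hℓ0 x x.2) (hℓ0 y y.2)] }, ?_⟩
  intro n
  rw [← hℓF n n.2]
  show (ℓ (n : M)).toNat = 0 ↔ ℓ (n : M) = 0
  have := hℓ0 n n.2
  omega

theorem main18244 (S : Scheme.{u}) (M : Type) [AddCommGroup M] [AddGroup.FG M]
    {X : Over S} [LocallyOfFinitePresentation X.hom] (a : Magnet.MonAct (Magnet.AMonS S M) X)
    {N F : AddSubmonoid M} (hN : N.FG) (hF : Magnet.IsFace N F) :
    ∃ δ : ∀ T : Over S, (Magnet.attr a N).obj (op T) → Γ(T.left, ⊤) → (Magnet.attr a N).obj (op T),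
      (∀ (T T' : Over S) (t : T' ⟶ T) (x : (Magnet.attr a N).obj (op T)) (c : Γ(T.left, ⊤)),
          δ T' ((Magnet.attr a N).map t.op x) (t.left.appTop c) = (Magnet.attr a N).map t.op (δ T x c)) ∧
      (∀ (T : Over S) (x : (Magnet.attr a N).obj (op T)),
          δ T x 0 = (Magnet.attrMap a hF.le).app (op T) ((Magnet.attrFace a hF).app (op T) x)) ∧
      (∀ (T : Over S) (x : (Magnet.attr a N).obj (op T)), δ T x 1 = x) ∧
      (∀ (T : Over S) (y : (Magnet.attr a F).obj (op T)) (c : Γ(T.left, ⊤)),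
          δ T ((Magnet.attrMap a hF.le).app (op T) y) c = (Magnet.attrMap a hF.le).app (op T) y) := by
  obtain ⟨e, he⟩ := exists_grading hF hN
  exact ⟨delta e a, fun T T' t x c => delta_natural e a t x c,
    fun T x => delta_zero hF e a he T x, fun T x => delta_one e a T x,
    fun T y c => delta_map hF e a he T y c⟩

end Groth.Agent.Helper17.AG51
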