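import Mathlib
import Groth.Prelude.Def_Magnet4
import Groth.Agent.Lib.Helper17.AG15
import Groth.Agent.Lib.Helper17.AG51

/-!
# The face projection of attractors has connected fibres (helper17)

With the homotopy `AG51.delta` on a representable attractor `X^N` (represented by `ZN`) and the face projection
`j : ZN ⟶ Z0` onto the representing object of `X^F`: the section `sec`, the paths `path z c`, and for every
field-valued point `w` of `ZN` an affine line `exists_path` joining `w` to `sec (j w)` inside the fibre of `j`.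
Consequences: the fibres of `j` over field-valued points are connected and `j` is bijective on connected components
(`main18242`).
-/

set_option autoImplicit false
universe u
open CategoryTheory CategoryTheory.Limits MonoidalCategory CartesianMonoidalCategory MonObj
open AlgebraicGeometry Opposite

noncomputable section
namespace Groth.Agent.Helper17.AG52
open Groth.Agent.Helper17.AG51

/-! ### topology -/

theorem bijective_connectedComponentsMap {A B : Type*} [TopologicalSpace A] [TopologicalSpace B]
    {f : A → B} (hf : Continuous f) {s : B → A} (hs : Continuous s) (hfs : ∀ b, f (s b) = b)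
    (hpath : ∀ y : A, ∃ C : Set A, _root_.IsPreconnected C ∧ y ∈ C ∧ s (f y) ∈ C) :
    Function.Bijective hf.connectedComponentsMap := by
  have hrel : ∀ y : A, ((s (f y) : A) : ConnectedComponents A) = (y : ConnectedComponents A) := by
    intro y
    obtain ⟨C, hC, hy, hsy⟩ := hpath y
    rw [ConnectedComponents.coe_eq_coe']
    exact hC.subset_connectedComponent hy hsy
  constructor
  · intro x y h
    obtain ⟨x, rfl⟩ := ConnectedComponents.surjective_coe x
    obtain ⟨y, rfl⟩ := ConnectedComponents.surjective_coe y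
    have h' : ((f x : B) : ConnectedComponents B) = ((f y : B) : ConnectedComponents B) := h
    rw [← hrel x, ← hrel y]
    exact congrArg hs.connectedComponentsMap h'
  · apply Continuous.connectedComponentsMap_surjective
    intro b
    exact ⟨s b, hfs b⟩

theorem connectedSpace_of_paths {A : Type*} [TopologicalSpace A] (b : A)
    (hpath : ∀ y : A, ∃ C : Set A, _root_.IsPreconnected C ∧ y ∈ C ∧ b ∈ C) : ConnectedSpace A :=
  { isPreconnected_univ := isPreconnected_of_forall b fun y _ => by
      obtain ⟨C, hC, hy, hb⟩ := hpath y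
      exact ⟨C, Set.subset_univ _, hb, hy, hC⟩
    toNonempty := ⟨b⟩ }

/-! ### the section and the paths -/
section Rep
variable {M : Type} [AddCommGroup M] {S : Scheme.{u}} {N F : AddSubmonoid M}
  (hF : Magnet.IsFace N F) (e : ↥N →+ ℕ) (he : ∀ n : ↥N, e n = 0 ↔ (n : M) ∈ F)
  {X : Over S} (a : Magnet.MonAct (Magnet.AMonS S M) X)
  {ZN Z0 : Over S} (eN : (Magnet.attr a N).RepresentableBy ZN)
  (e0 : (Magnet.attr a F).RepresentableBy Z0) (j : ZN ⟶ Z0)
  (hj : ∀ (T : Over S) (z : T ⟶ ZN),
    e0.homEquiv (z ≫ j) = (Magnet.attrFace a hF).app (op T) (eN.homEquiv z))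

theorem attrFace_attrMap (T : Over S) (y : (Magnet.attr a F).obj (op T)) :
    (Magnet.attrFace a hF).app (op T) ((Magnet.attrMap a hF.le).app (op T) y) = y := by
  apply Subtype.ext
  show (Magnet.AMonS.faceMap S hF ▷ T) ≫
    (Magnet.AMonS.map S (AddSubmonoid.inclusion hF.le) ▷ T) ≫ y.1 = y.1
  rw [← comp_whiskerRight_assoc, Magnet.AMonS.faceMap_comp_map, id_whiskerRight, Category.id_comp]

theorem attrMap_nat {T T' : Over S} (f : T' ⟶ T) (y : (Magnet.attr a F).obj (op T)) :
    (Magnet.attrMap a hF.le).app (op T') ((Magnet.attr a F).map f.op y) =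
      (Magnet.attr a N).map f.op ((Magnet.attrMap a hF.le).app (op T) y) := by
  apply Subtype.ext
  show (Magnet.AMonS.map S (AddSubmonoid.inclusion hF.le) ▷ T') ≫
      (Magnet.AMonS S ↥F ◁ f) ≫ y.1 =
    (Magnet.AMonS S ↥N ◁ f) ≫ (Magnet.AMonS.map S (AddSubmonoid.inclusion hF.le) ▷ T) ≫ y.1
  rw [← Category.assoc, ← whisker_exchange, Category.assoc]

/-- the section of the face projection -/
def sec : Z0 ⟶ ZN :=
  eN.homEquiv.symm ((Magnet.attrMap a hF.le).app (op Z0) (e0.homEquiv (𝟙 Z0)))

include hj in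
theorem sec_j : sec hF a eN e0 ≫ j = 𝟙 Z0 := by
  apply e0.homEquiv.injective
  rw [hj, sec, Equiv.apply_symm_apply, attrFace_attrMap]

/-- the path from `z ≫ j ≫ sec` to `z` -/
def path {T : Over S} (z : T ⟶ ZN) (c : Γ(T.left, ⊤)) : T ⟶ ZN :=
  eN.homEquiv.symm (delta e a T (eN.homEquiv z) c)

theorem path_one {T : Over S} (z : T ⟶ ZN) : path e a eN z 1 = z := by
  rw [path, delta_one, Equiv.symm_apply_apply]

include he hj in
theorem path_zero {T : Over S} (z : T ⟶ ZN) :
    path e a eN z 0 = z ≫ j ≫ sec hF a eN e0 := by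
  apply eN.homEquiv.injective
  rw [path, Equiv.apply_symm_apply, delta_zero hF e a he, ← hj, ← Category.assoc,
    eN.homEquiv_comp, sec, Equiv.apply_symm_apply, ← attrMap_nat hF, ← e0.homEquiv_comp,
    Category.comp_id]

include he hj in
theorem path_j {T : Over S} (z : T ⟶ ZN) (c : Γ(T.left, ⊤)) :
    path e a eN z c ≫ j = z ≫ j := by
  apply e0.homEquiv.injective
  rw [hj, hj, path, Equiv.apply_symm_apply, delta_face hF e a he]

theorem path_nat {T T' : Over S} (t : T' ⟶ T) (z : T ⟶ ZN) (c : Γ(T.left, ⊤)) :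
    t ≫ path e a eN z c = path e a eN (t ≫ z) (t.left.appTop c) := by
  apply eN.homEquiv.injective
  rw [eN.homEquiv_comp, path, path, Equiv.apply_symm_apply, Equiv.apply_symm_apply,
    eN.homEquiv_comp, delta_natural]

/-! ### the affine line over a field-valued point -/

/-- the projection of the affine line -/
abbrev qS (κ : Type u) [Field κ] :
    Spec (CommRingCat.of (Polynomial κ)) ⟶ Spec (CommRingCat.of κ) :=
  Spec.map (CommRingCat.ofHom (Polynomial.C : κ →+* Polynomial κ))

/-- the rational points of the affine line -/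
abbrev sS (κ : Type u) [Field κ] (r : κ) :
    Spec (CommRingCat.of κ) ⟶ Spec (CommRingCat.of (Polynomial κ)) :=
  Spec.map (CommRingCat.ofHom (Polynomial.evalRingHom r))

theorem sS_qS (κ : Type u) [Field κ] (r : κ) : sS κ r ≫ qS κ = 𝟙 _ := by
  rw [← Spec.map_comp, ← Spec.map_id]
  congr 1
  ext x
  simp

section Line
variable (κ : Type u) [Field κ] (w : Spec (CommRingCat.of κ) ⟶ ZN.left)

/-- the point, over `S` -/
abbrev T0 : Over S := Over.mk (w ≫ ZN.hom)

abbrev z0 : T0 κ w ⟶ ZN := Over.homMk w rfl

/-- the line, over `S` -/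
abbrev TA : Over S := Over.mk (qS κ ≫ w ≫ ZN.hom)

abbrev qO : TA κ w ⟶ T0 κ w := Over.homMk (qS κ) rfl

abbrev sO (r : κ) : T0 κ w ⟶ TA κ w :=
  Over.homMk (sS κ r) (by
    show sS κ r ≫ qS κ ≫ w ≫ ZN.hom = w ≫ ZN.hom
    rw [← Category.assoc, sS_qS, Category.id_comp])

theorem sO_qO (r : κ) : sO κ w r ≫ qO κ w = 𝟙 _ := by
  apply Over.OverMorphism.ext
  exact sS_qS κ r

/-- the coordinate -/
def coord : Γ((TA κ w).left, ⊤) :=
  (Scheme.ΓSpecIso (CommRingCat.of (Polynomial κ))).inv Polynomial.X

theorem sO_coord (r : κ) :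
    (sO κ w r).left.appTop (coord κ w) = (Scheme.ΓSpecIso (CommRingCat.of κ)).inv r := by
  have h := AG15.specMap_appTop_inv (CommRingCat.ofHom (Polynomial.evalRingHom r))
    (Polynomial.X : Polynomial κ)
  have h2 : (CommRingCat.ofHom (Polynomial.evalRingHom r)) (Polynomial.X : Polynomial κ) = r :=
    Polynomial.eval_X
  rw [h2] at h
  exact h

include he hj in
theorem exists_path :
    ∃ P : Spec (CommRingCat.of (Polynomial κ)) ⟶ ZN.left,
      sS κ 1 ≫ P = w ∧ sS κ 0 ≫ P = w ≫ j.left ≫ (sec hF a eN e0).left ∧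
        P ≫ j.left = qS κ ≫ w ≫ j.left := by
  refine ⟨(path e a eN (qO κ w ≫ z0 κ w) (coord κ w)).left, ?_, ?_, ?_⟩
  · have h := path_nat e a eN (sO κ w 1) (qO κ w ≫ z0 κ w) (coord κ w)
    rw [← Category.assoc, sO_qO, Category.id_comp, sO_coord, map_one, path_one] at h
    exact congrArg (fun k => k.left) h
  · have h := path_nat e a eN (sO κ w 0) (qO κ w ≫ z0 κ w) (coord κ w)
    rw [← Category.assoc (sO κ w 0), sO_qO, Category.id_comp, sO_coord, map_zero,
      path_zero hF e he a eN e0 j hj] at h
    exact congrArg (fun k => k.left) h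
  · have h := path_j hF e he a eN e0 j hj (qO κ w ≫ z0 κ w) (coord κ w)
    have h' := congrArg (fun k => k.left) h
    exact h'.trans (Category.assoc _ _ _)

end Line

/-! ### consequences -/

include he hj in
theorem exists_connected (y : ZN.left) :
    ∃ C : Set ZN.left, _root_.IsPreconnected C ∧ y ∈ C ∧
      (sec hF a eN e0).left (j.left y) ∈ C := by
  obtain ⟨P, h1, h0, -⟩ := exists_path hF e he a eN e0 j hj (ZN.left.residueField y)
    (ZN.left.fromSpecResidueField y)
  obtain ⟨pt⟩ : Nonempty (Spec (CommRingCat.of (ZN.left.residueField y))) :=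
    inferInstanceAs (Nonempty (PrimeSpectrum (ZN.left.residueField y)))
  refine ⟨Set.range P, isPreconnected_range P.continuous, ⟨sS _ 1 pt, ?_⟩, ⟨sS _ 0 pt, ?_⟩⟩
  · rw [← Scheme.Hom.comp_apply, h1]
    exact Scheme.fromSpecResidueField_apply y pt
  · rw [← Scheme.Hom.comp_apply, h0, Scheme.Hom.comp_apply, Scheme.Hom.comp_apply]
    congr 2
    exact Scheme.fromSpecResidueField_apply y pt

include he hj in
theorem pi0_bijective :
    Function.Bijective (Continuous.connectedComponentsMap (Scheme.Hom.continuous j.left)) := by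
  apply bijective_connectedComponentsMap (Scheme.Hom.continuous j.left)
    (Scheme.Hom.continuous (sec hF a eN e0).left)
  · intro b
    rw [← Scheme.Hom.comp_apply, ← Over.comp_left, sec_j hF a eN e0 j hj]
    rfl
  · exact exists_connected hF e he a eN e0 j hj

include he hj in
theorem fibre_connected (K : Type u) [Field K] (k : Spec (CommRingCat.of K) ⟶ Z0.left) :
    ConnectedSpace ↥(Limits.pullback j.left k) := by
  have hsj : (sec hF a eN e0).left ≫ j.left = 𝟙 Z0.left := by
    rw [← Over.comp_left, sec_j hF a eN e0 j hj]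
    rfl
  obtain ⟨y₀, hy₀⟩ : ∃ y₀ : Spec (CommRingCat.of K) ⟶ Limits.pullback j.left k,
      y₀ ≫ pullback.fst j.left k = k ≫ (sec hF a eN e0).left ∧ y₀ ≫ pullback.snd j.left k = 𝟙 _ :=
    ⟨pullback.lift (k ≫ (sec hF a eN e0).left) (𝟙 _) (by
      rw [Category.assoc, hsj, Category.comp_id, Category.id_comp]),
      pullback.lift_fst _ _ _, pullback.lift_snd _ _ _⟩
  obtain ⟨ptK⟩ : Nonempty (Spec (CommRingCat.of K)) :=
    inferInstanceAs (Nonempty (PrimeSpectrum K))
  haveI : Subsingleton (Spec (CommRingCat.of K)) :=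
    inferInstanceAs (Subsingleton (PrimeSpectrum K))
  apply connectedSpace_of_paths (y₀ ptK)
  intro y
  obtain ⟨wY, hwY⟩ : ∃ wY : Spec (CommRingCat.of ((Limits.pullback j.left k).residueField y)) ⟶
      Limits.pullback j.left k, wY = (Limits.pullback j.left k).fromSpecResidueField y := ⟨_, rfl⟩
  obtain ⟨P, h1, h0, hPj⟩ := exists_path hF e he a eN e0 j hj
    ((Limits.pullback j.left k).residueField y) (wY ≫ pullback.fst j.left k)
  obtain ⟨pt⟩ : Nonempty (Spec (CommRingCat.of ((Limits.pullback j.left k).residueField y))) :=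
    inferInstanceAs (Nonempty (PrimeSpectrum ((Limits.pullback j.left k).residueField y)))
  obtain ⟨PY, hPY1, hPY2⟩ : ∃ PY : Spec (CommRingCat.of
      (Polynomial ((Limits.pullback j.left k).residueField y))) ⟶ Limits.pullback j.left k,
      PY ≫ pullback.fst j.left k = P ∧
        PY ≫ pullback.snd j.left k = qS _ ≫ wY ≫ pullback.snd j.left k :=
    ⟨pullback.lift P (qS _ ≫ wY ≫ pullback.snd j.left k) (by
      rw [hPj, Category.assoc, Category.assoc, Category.assoc, pullback.condition]),
      pullback.lift_fst _ _ _, pullback.lift_snd _ _ _⟩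
  have e1 : sS _ 1 ≫ PY = wY := by
    apply pullback.hom_ext
    · rw [Category.assoc, hPY1, h1]
    · rw [Category.assoc, hPY2, ← Category.assoc, sS_qS, Category.id_comp]
  have e0' : sS _ 0 ≫ PY = (wY ≫ pullback.snd j.left k) ≫ y₀ := by
    apply pullback.hom_ext
    · rw [Category.assoc, hPY1, h0, Category.assoc, Category.assoc, hy₀.1, Category.assoc,
        ← Category.assoc (pullback.fst j.left k), pullback.condition, Category.assoc]
    · rw [Category.assoc, hPY2, ← Category.assoc, sS_qS, Category.id_comp, Category.assoc,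
        Category.assoc, hy₀.2, Category.comp_id]
  refine ⟨Set.range PY, isPreconnected_range PY.continuous, ⟨sS _ 1 pt, ?_⟩, ⟨sS _ 0 pt, ?_⟩⟩
  · rw [← Scheme.Hom.comp_apply, e1, hwY]
    exact Scheme.fromSpecResidueField_apply y pt
  · rw [← Scheme.Hom.comp_apply, e0', Scheme.Hom.comp_apply]
    congr 1
    exact Subsingleton.elim _ _

end Rep

theorem main18242 (S : Scheme.{u}) (M : Type) [AddCommGroup M]
    [AddGroup.FG M] (N : AddSubmonoid M) (hN : N.FG)
    {X : Over S} (a : Magnet.MonAct (Magnet.AMonS S M) X)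
    {ZN Z0 : Over S} (eN : (Magnet.attr a N).RepresentableBy ZN)
    (e0 : (Magnet.attr a (Magnet.unitFace N)).RepresentableBy Z0) (j : ZN ⟶ Z0)
    (hj : ∀ (T : Over S) (z : T ⟶ ZN), e0.homEquiv (z ≫ j) =
      (Magnet.attrFace a (Magnet.isFace_unitFace N)).app (op T) (eN.homEquiv z)) :
    (∀ (K : Type u) [Field K] (k : Spec (CommRingCat.of K) ⟶ Z0.left),
        ConnectedSpace ↥(Limits.pullback j.left k)) ∧
      Function.Bijective (Continuous.connectedComponentsMap (Scheme.Hom.continuous j.left)) := by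
  obtain ⟨e, he⟩ := exists_grading (Magnet.isFace_unitFace N) hN
  exact ⟨fun K _ k => fibre_connected (Magnet.isFace_unitFace N) e he a eN e0 j hj K k,
    pi0_bijective (Magnet.isFace_unitFace N) e he a eN e0 j hj⟩

end Groth.Agent.Helper17.AG52
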