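import Mathlib
import Groth.Prelude.Def_Magnet2
import Groth.Agent.Lib.Helper17.AG20
import Groth.Agent.Lib.Helper17.AG43

/-!
# Equivariant maps from a monoid with zero and stable opens (helper17)

`M` a monoid over `S` with a zero `o`, `i : G ⟶ M` a monoid morphism from a group, `α` an action of `G` on `X`.
For an equivariant `φ : M × T ⟶ X` the point `evO φ = φ(o, ·)` is fixed; for a `G`-stable open `U ⊆ X` with the
induced action `αU` on `XU`, an equivariant `φ` factors through `U` as soon as `evO φ` does, provided `G`-stable opens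
of `M × T` containing the zero section are everything for `T` the spectrum of a field (`all_mem_of_zero`,
`exists_factor_eqv`).
-/

set_option autoImplicit false
universe u
open CategoryTheory CategoryTheory.Limits MonoidalCategory CartesianMonoidalCategory MonObj
open AlgebraicGeometry Opposite

noncomputable section
namespace Groth.Agent.Helper17.AG53

variable {S : Scheme.{u}}

theorem left_comp_apply {A B C : Over S} (f : A ⟶ B) (g : B ⟶ C) (p : A.left) :
    (f ≫ g).left p = g.left (f.left p) := Scheme.Hom.comp_apply _ _ _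

theorem left_apply_congr {A B : Over S} {f g : A ⟶ B} (h : f = g) (p : A.left) :
    f.left p = g.left p := by rw [h]

variable {M G X : Over S} [MonObj M] [GrpObj G] (i : G ⟶ M) [IsMonHom i]
  (o : 𝟙_ (Over S) ⟶ M) (α : Magnet.MonAct G X)

/-- equivariance of a map `M × T ⟶ X` -/
abbrev Eqv {X : Over S} (α : Magnet.MonAct G X) (T : Over S) (φ : M ⊗ T ⟶ X) : Prop :=
  Magnet.MonAct.IsEquivariant
    (((Magnet.MonAct.regular M).restrict i).prod (Magnet.MonAct.trivial G T)) α φ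

/-- evaluation at the zero -/
def evO {X : Over S} {T : Over S} (φ : M ⊗ T ⟶ X) : T ⟶ X := lift (toUnit T ≫ o) (𝟙 T) ≫ φ

/-- evaluation at the unit -/
def evI {X : Over S} {T : Over S} (φ : M ⊗ T ⟶ X) : T ⟶ X := lift (toUnit T ≫ η[M]) (𝟙 T) ≫ φ

theorem evO_eq {X : Over S} {T T' : Over S} (t : T' ⟶ T) (φ : M ⊗ T ⟶ X) :
    t ≫ evO o φ = lift (toUnit T' ≫ o) t ≫ φ := by
  rw [evO, ← Category.assoc, comp_lift, Category.comp_id, ← Category.assoc, comp_toUnit]

theorem evO_comp {X : Over S} {T T' : Over S} (t : T' ⟶ T) (φ : M ⊗ T ⟶ X) :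
    evO o ((M ◁ t) ≫ φ) = t ≫ evO o φ := by
  rw [evO_eq, evO, lift_whiskerLeft_assoc, Category.id_comp]

theorem evI_comp {X : Over S} {T T' : Over S} (t : T' ⟶ T) (φ : M ⊗ T ⟶ X) :
    evI ((M ◁ t) ≫ φ) = t ≫ evI φ := by
  rw [evI, evI, lift_whiskerLeft_assoc, Category.id_comp, ← Category.assoc, comp_lift,
    Category.comp_id, ← Category.assoc, comp_toUnit]

theorem evO_post {X Y : Over S} {T : Over S} (φ : M ⊗ T ⟶ X) (f : X ⟶ Y) :
    evO o (φ ≫ f) = evO o φ ≫ f := by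
  rw [evO, evO, Category.assoc]

theorem evI_post {X Y : Over S} {T : Over S} (φ : M ⊗ T ⟶ X) (f : X ⟶ Y) :
    evI (φ ≫ f) = evI φ ≫ f := by
  rw [evI, evI, Category.assoc]

theorem eqv_comp {T T' : Over S} (t : T' ⟶ T) (φ : M ⊗ T ⟶ X) (hφ : Eqv i α T φ) :
    Eqv i α T' ((M ◁ t) ≫ φ) :=
  ((Magnet.MonAct.eqvHom ((Magnet.MonAct.regular M).restrict i) α).map t.op ⟨φ, hφ⟩).2

theorem eqv_iff {X : Over S} (α : Magnet.MonAct G X) {T : Over S} (φ : M ⊗ T ⟶ X) :
    Eqv i α T φ ↔ ∀ (W : Over S) (g : W ⟶ G) (b : W ⟶ M) (t : W ⟶ T),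
      lift ((g ≫ i) * b) t ≫ φ = lift g (lift b t ≫ φ) ≫ α.act := by
  refine (Magnet.MonAct.mem_eqvHom_iff φ).trans ?_
  constructor
  · intro h W g b t
    have := h W g b t
    rwa [Magnet.MonAct.lift_restrict_act, Magnet.MonAct.lift_regular_act] at this
  · intro h W g b t
    rw [Magnet.MonAct.lift_restrict_act, Magnet.MonAct.lift_regular_act]
    exact h W g b t

theorem evO_fixed
    (ho : ∀ (T : Over S) (m : T ⟶ M), m * (toUnit T ≫ o) = toUnit T ≫ o ∧
      (toUnit T ≫ o) * m = toUnit T ≫ o)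
    {T : Over S} (φ : M ⊗ T ⟶ X) (hφ : Eqv i α T φ)
    (T' : Over S) (t : T' ⟶ T) (g : T' ⟶ G) :
    lift g (t ≫ evO o φ) ≫ α.act = t ≫ evO o φ := by
  rw [evO_eq, ← (eqv_iff i α φ).mp hφ T' g (toUnit T' ≫ o) t, (ho T' (g ≫ i)).1]

/-! ### a stable open -/
section Open
variable (U : X.left.Opens)

/-- the open, over `S` -/
abbrev XU : Over S := Over.mk (U.ι ≫ X.hom)

/-- its inclusion -/
abbrev ιU : XU U ⟶ X := Over.homMk U.ι rfl

instance mono_ιU : Mono (ιU U) := by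
  haveI : Mono ((Over.forget S).map (ιU U)) := by
    show Mono U.ι
    infer_instance
  exact (Over.forget S).mono_of_mono_map inferInstance

theorem ιU_mem {Y : Over S} (f' : Y ⟶ XU U) (y : Y.left) : (f' ≫ ιU U).left y ∈ U := by
  rw [left_comp_apply]
  have h : (ιU U).left (f'.left y) ∈ Set.range U.ι := ⟨f'.left y, rfl⟩
  rw [Scheme.Opens.range_ι] at h
  exact h

theorem exists_factorU {Y : Over S} (f : Y ⟶ X) (hf : ∀ y : Y.left, f.left y ∈ U) :
    ∃ f' : Y ⟶ XU U, f' ≫ ιU U = f := by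
  obtain ⟨k, hk⟩ : ∃ k : Y.left ⟶ U.toScheme, k ≫ U.ι = f.left :=
    ⟨IsOpenImmersion.lift U.ι f.left (by
      rw [Scheme.Opens.range_ι]
      rintro _ ⟨y, rfl⟩
      exact hf y), IsOpenImmersion.lift_fac _ _ _⟩
  refine ⟨Over.homMk k (by
    show k ≫ U.ι ≫ X.hom = Y.hom
    rw [← Category.assoc, hk, Over.w]), ?_⟩
  apply Over.OverMorphism.ext
  exact hk

variable (hU : (snd G X).left ⁻¹ᵁ U ≤ α.act.left ⁻¹ᵁ U)

include hU in
theorem act_mem {Y : Over S} (g : Y ⟶ G) (x : Y ⟶ X) (y : Y.left) (hx : x.left y ∈ U) :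
    (lift g x ≫ α.act).left y ∈ U := by
  rw [left_comp_apply]
  apply hU
  show (snd G X).left ((lift g x).left y) ∈ U
  rw [← left_comp_apply, lift_snd]
  exact hx

include hU in
theorem exists_actU : ∃ actU : G ⊗ XU U ⟶ XU U, actU ≫ ιU U = (G ◁ ιU U) ≫ α.act := by
  apply exists_factorU
  intro p
  have e : G ◁ ιU U = lift (fst G (XU U)) (snd G (XU U) ≫ ιU U) := by
    apply CartesianMonoidalCategory.hom_ext
    · rw [whiskerLeft_fst, lift_fst]
    · rw [whiskerLeft_snd, lift_snd]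
  rw [e]
  exact act_mem α U hU _ _ p (ιU_mem U _ p)

/-- the induced action on a stable open -/
def αU : Magnet.MonAct G (XU U) :=
  Magnet.MonAct.mk' (exists_actU α U hU).choose
    (fun T x => by
      apply (cancel_mono (ιU U)).mp
      rw [Category.assoc, (exists_actU α U hU).choose_spec, lift_whiskerLeft_assoc,
        α.lift_one_act])
    (fun T g h x => by
      apply (cancel_mono (ιU U)).mp
      rw [Category.assoc, (exists_actU α U hU).choose_spec, lift_whiskerLeft_assoc,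
        α.lift_mul_act, Category.assoc, (exists_actU α U hU).choose_spec,
        lift_whiskerLeft_assoc, Category.assoc, (exists_actU α U hU).choose_spec,
        lift_whiskerLeft_assoc])

theorem αU_act : (αU α U hU).act ≫ ιU U = (G ◁ ιU U) ≫ α.act :=
  (exists_actU α U hU).choose_spec

theorem eqv_ιU : Magnet.MonAct.IsEquivariant (αU α U hU) α (ιU U) := αU_act α U hU

theorem eqv_post {T : Over S} (ψ : M ⊗ T ⟶ XU U) (hψ : Eqv i (αU α U hU) T ψ) :
    Eqv i α T (ψ ≫ ιU U) :=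
  hψ.comp (eqv_ιU α U hU)

theorem eqv_of_post {T : Over S} (ψ : M ⊗ T ⟶ XU U) (hψ : Eqv i α T (ψ ≫ ιU U)) :
    Eqv i (αU α U hU) T ψ := by
  rw [eqv_iff] at hψ ⊢
  intro W g b t
  apply (cancel_mono (ιU U)).mp
  rw [Category.assoc, Category.assoc, αU_act, lift_whiskerLeft_assoc, Category.assoc]
  exact hψ W g b t

include hU in
theorem preimage_stable {T : Over S} (φ : M ⊗ T ⟶ X) (hφ : Eqv i α T φ) :
    (snd G (M ⊗ T)).left ⁻¹ᵁ (φ.left ⁻¹ᵁ U) ≤
      ((((Magnet.MonAct.regular M).restrict i).prod (Magnet.MonAct.trivial G T)).act).left ⁻¹ᵁ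
        (φ.left ⁻¹ᵁ U) := by
  intro p hp
  have hp' : φ.left ((snd G (M ⊗ T)).left p) ∈ U := hp
  show φ.left (((((Magnet.MonAct.regular M).restrict i).prod
    (Magnet.MonAct.trivial G T)).act).left p) ∈ U
  rw [← left_comp_apply]
  have e : (((Magnet.MonAct.regular M).restrict i).prod (Magnet.MonAct.trivial G T)).act ≫ φ =
      lift (fst G (M ⊗ T)) (snd G (M ⊗ T) ≫ φ) ≫ α.act := by
    have h1 : (((Magnet.MonAct.regular M).restrict i).prod (Magnet.MonAct.trivial G T)).act ≫ φ =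
        (G ◁ φ) ≫ α.act := hφ
    have h2 : G ◁ φ = lift (fst G (M ⊗ T)) (snd G (M ⊗ T) ≫ φ) := by
      apply CartesianMonoidalCategory.hom_ext
      · rw [whiskerLeft_fst, lift_fst]
      · rw [whiskerLeft_snd, lift_snd]
    rw [h1, h2]
  rw [e]
  apply act_mem α U hU
  rw [left_comp_apply]
  exact hp'

include hU in
theorem all_mem_of_zero
    (hM : ∀ (T : Over S) (K : Type u) [Field K] (_ : T.left ≅ Spec (CommRingCat.of K))
      (W : (M ⊗ T).left.Opens),
      (snd G (M ⊗ T)).left ⁻¹ᵁ W ≤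
          ((((Magnet.MonAct.regular M).restrict i).prod (Magnet.MonAct.trivial G T)).act).left ⁻¹ᵁ W →
      (lift (toUnit T ≫ o) (𝟙 T)).left ⁻¹ᵁ W = ⊤ → W = ⊤)
    {T : Over S} (φ : M ⊗ T ⟶ X) (hφ : Eqv i α T φ)
    (h0 : ∀ p : T.left, (evO o φ).left p ∈ U) (q : (M ⊗ T).left) : φ.left q ∈ U := by
  obtain ⟨τ, hτ⟩ : ∃ τ : T.left, τ = (snd M T).left q := ⟨_, rfl⟩
  obtain ⟨s, hs⟩ : ∃ s : Over.mk (T.left.fromSpecResidueField τ ≫ T.hom) ⟶ T,
      s = Over.homMk (T.left.fromSpecResidueField τ) rfl := ⟨_, rfl⟩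
  have hsl : s.left = T.left.fromSpecResidueField τ := by rw [hs]; rfl
  have hW := hM (Over.mk (T.left.fromSpecResidueField τ ≫ T.hom)) (T.left.residueField τ)
    (Iso.refl _) (((M ◁ s) ≫ φ).left ⁻¹ᵁ U)
    (preimage_stable i α U hU _ (eqv_comp i α s φ hφ))
    (by
      rw [eq_top_iff]
      intro p _
      show ((M ◁ s) ≫ φ).left ((lift (toUnit _ ≫ o) (𝟙 _)).left p) ∈ U
      rw [← left_comp_apply]
      have e : lift (toUnit _ ≫ o) (𝟙 _) ≫ (M ◁ s) ≫ φ = s ≫ evO o φ := by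
        rw [← evO_comp]
        rfl
      rw [e, left_comp_apply]
      exact h0 _)
  obtain ⟨pt⟩ : Nonempty (Spec (CommRingCat.of (T.left.residueField τ))) :=
    inferInstanceAs (Nonempty (PrimeSpectrum (T.left.residueField τ)))
  have hq : (snd M T).left q ∈ Set.range s.left := by
    rw [hsl, ← hτ]
    exact ⟨pt, Scheme.fromSpecResidueField_apply τ pt⟩
  obtain ⟨q', hq'⟩ := AG43.range_of_isPullback
    ((AG20.isPullback_snd_whiskerLeft M s).map (Over.forget S)) q hq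
  have hq'' : (M ◁ s).left q' = q := hq'
  have hmem : q' ∈ ((M ◁ s) ≫ φ).left ⁻¹ᵁ U := by
    rw [hW]
    trivial
  have hmem' : ((M ◁ s) ≫ φ).left q' ∈ U := hmem
  rw [left_comp_apply, hq''] at hmem'
  exact hmem'

include hU in
theorem exists_factor_eqv
    (hM : ∀ (T : Over S) (K : Type u) [Field K] (_ : T.left ≅ Spec (CommRingCat.of K))
      (W : (M ⊗ T).left.Opens),
      (snd G (M ⊗ T)).left ⁻¹ᵁ W ≤
          ((((Magnet.MonAct.regular M).restrict i).prod (Magnet.MonAct.trivial G T)).act).left ⁻¹ᵁ W →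
      (lift (toUnit T ≫ o) (𝟙 T)).left ⁻¹ᵁ W = ⊤ → W = ⊤)
    {T : Over S} (φ : M ⊗ T ⟶ X) (hφ : Eqv i α T φ)
    (h0 : ∀ p : T.left, (evO o φ).left p ∈ U) :
    ∃ ψ : M ⊗ T ⟶ XU U, ψ ≫ ιU U = φ ∧ Eqv i (αU α U hU) T ψ := by
  obtain ⟨ψ, hψ⟩ := exists_factorU U φ (all_mem_of_zero i o α U hU hM φ hφ h0)
  exact ⟨ψ, hψ, eqv_of_post i α U hU ψ (by rw [hψ]; exact hφ)⟩

end Open

end Groth.Agent.Helper17.AG53
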