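import Mathlib
import Groth.Prelude.Def_Magnet2
import Groth.Agent.Lib.Helper17.AG26
import Groth.Agent.Lib.Helper17.AG49
import Groth.Agent.Lib.Helper17.AG53

/-!
# Equivariant maps from a Kempf-type monoid: uniqueness and gluing (helper17)

`k` a field, `M` an affine monoid over `k` with a zero `o`, `i : G ⟶ M` a dominant monoid morphism from an affine group,
`α` an action of `G` on a `k`-scheme `X` whose `G`-stable affine opens cover the fixed points.  An equivariant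
`φ : M × T ⟶ X` is determined by its values at the unit and at the zero (`eq_of_ev`), and the pairs of points of `X`
arising in this way form a Zariski-local condition (`Pt`, `pt_comp`, `pt_local`).
-/

set_option autoImplicit false
universe u
open CategoryTheory CategoryTheory.Limits MonoidalCategory CartesianMonoidalCategory MonObj
open AlgebraicGeometry Opposite TopologicalSpace

noncomputable section
namespace Groth.Agent.Helper17.AG54
open Groth.Agent.Helper17.AG26 Groth.Agent.Helper17.AG53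

variable {k : Type u} [Field k]
variable {M G X : Over (Spec (CommRingCat.of k))} [MonObj M] [GrpObj G] [IsAffine M.left]
  [IsAffine G.left] (i : G ⟶ M) [IsMonHom i] [IsSchemeTheoreticallyDominant i.left]
  (o : 𝟙_ (Over (Spec (CommRingCat.of k))) ⟶ M) (α : Magnet.MonAct G X)

/-- uniqueness for an affine target -/
theorem eq_of_evI {Y : Over (Spec (CommRingCat.of k))} [IsAffine Y.left] (β : Magnet.MonAct G Y)
    {T : Over (Spec (CommRingCat.of k))} (ψ ψ' : M ⊗ T ⟶ Y) (hψ : Eqv i β T ψ)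
    (hψ' : Eqv i β T ψ') (h : evI ψ = evI ψ') : ψ = ψ' := by
  apply AG49.cancel i T
  rw [AG49.orbit_of_eqv i β ψ hψ, AG49.orbit_of_eqv i β ψ' hψ']
  have h' : lift (toUnit T ≫ η[M]) (𝟙 T) ≫ ψ = lift (toUnit T ≫ η[M]) (𝟙 T) ≫ ψ' := h
  rw [h']

/-- `o` is a zero of `M` -/
abbrev IsZ : Prop :=
  ∀ (T : Over (Spec (CommRingCat.of k))) (m : T ⟶ M),
    m * (toUnit T ≫ o) = toUnit T ≫ o ∧ (toUnit T ≫ o) * m = toUnit T ≫ o

/-- stable opens containing the zero section are everything, over fields -/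
abbrev HM : Prop :=
  ∀ (T : Over (Spec (CommRingCat.of k))) (K : Type u) [Field K]
    (_ : T.left ≅ Spec (CommRingCat.of K)) (W : (M ⊗ T).left.Opens),
    (snd G (M ⊗ T)).left ⁻¹ᵁ W ≤
        ((((Magnet.MonAct.regular M).restrict i).prod (Magnet.MonAct.trivial G T)).act).left ⁻¹ᵁ W →
    (lift (toUnit T ≫ o) (𝟙 T)).left ⁻¹ᵁ W = ⊤ → W = ⊤

/-- the stable affine opens cover the fixed points -/
abbrev HCov : Prop :=
  ∀ (T : Over (Spec (CommRingCat.of k))) (x : (Magnet.MonAct.fixedPsh α).obj (op T)),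
    ⨆ (U : X.left.Opens) (_ : IsAffineOpen U ∧ (snd G X).left ⁻¹ᵁ U ≤ α.act.left ⁻¹ᵁ U),
      x.1.left ⁻¹ᵁ U = ⊤

/-- the stable affine opens -/
abbrev Idx : Type u :=
  {U : X.left.Opens // IsAffineOpen U ∧ (snd G X).left ⁻¹ᵁ U ≤ α.act.left ⁻¹ᵁ U}

theorem exists_idx (ho : IsZ o) (hcov : HCov α) {T : Over (Spec (CommRingCat.of k))}
    (φ : M ⊗ T ⟶ X) (hφ : Eqv i α T φ) (p : T.left) :
    ∃ U : Idx α, (evO o φ).left p ∈ U.1 := by
  have h := hcov T ⟨evO o φ, evO_fixed i o α ho φ hφ⟩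
  have hp : p ∈ (⊤ : T.left.Opens) := trivial
  rw [← h, Opens.mem_iSup] at hp
  obtain ⟨U, hp⟩ := hp
  rw [Opens.mem_iSup] at hp
  obtain ⟨hU, hp⟩ := hp
  exact ⟨⟨U, hU⟩, hp⟩

/-- the open cover of `T` by the preimages of the stable affine opens under `φ(o, ·)` -/
def cov (ho : IsZ o) (hcov : HCov α) {T : Over (Spec (CommRingCat.of k))}
    (φ : M ⊗ T ⟶ X) (hφ : Eqv i α T φ) : Scheme.OpenCover.{u} T.left :=
  T.left.openCoverOfIsOpenCover (fun U : Idx α => (evO o φ).left ⁻¹ᵁ U.1) (by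
    show ⨆ U : Idx α, (evO o φ).left ⁻¹ᵁ U.1 = ⊤
    rw [eq_top_iff]
    intro p _
    rw [Opens.mem_iSup]
    exact exists_idx i o α ho hcov φ hφ p)

theorem cov_mem (ho : IsZ o) (hcov : HCov α) {T : Over (Spec (CommRingCat.of k))}
    (φ : M ⊗ T ⟶ X) (hφ : Eqv i α T φ) (U : Idx α)
    (p : (Ti (cov i o α ho hcov φ hφ) U).left) :
    (inc (cov i o α ho hcov φ hφ) U ≫ evO o φ).left p ∈ U.1 := by
  rw [left_comp_apply]
  have h : ((evO o φ).left ⁻¹ᵁ U.1).ι p ∈ Set.range ((evO o φ).left ⁻¹ᵁ U.1).ι := ⟨p, rfl⟩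
  rw [Scheme.Opens.range_ι] at h
  exact h

/-- an equivariant map is determined by its values at the unit and at the zero -/
theorem eq_of_ev (ho : IsZ o) (hM : HM i o) (hcov : HCov α)
    {T : Over (Spec (CommRingCat.of k))} (φ φ' : M ⊗ T ⟶ X) (hφ : Eqv i α T φ)
    (hφ' : Eqv i α T φ') (h1 : evI φ = evI φ') (h0 : evO o φ = evO o φ') : φ = φ' := by
  apply glue_ext (cov i o α ho hcov φ hφ)
  intro U
  obtain ⟨ψ, hψ1, hψ2⟩ := exists_factor_eqv i o α U.1 U.2.2 hM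
    ((M ◁ inc (cov i o α ho hcov φ hφ) U) ≫ φ) (eqv_comp i α _ φ hφ) (fun p => by
      rw [evO_comp]
      exact cov_mem i o α ho hcov φ hφ U p)
  obtain ⟨ψ', hψ'1, hψ'2⟩ := exists_factor_eqv i o α U.1 U.2.2 hM
    ((M ◁ inc (cov i o α ho hcov φ hφ) U) ≫ φ') (eqv_comp i α _ φ' hφ') (fun p => by
      rw [evO_comp, ← h0]
      exact cov_mem i o α ho hcov φ hφ U p)
  haveI : IsAffine (XU U.1).left := U.2.1
  have e : ψ = ψ' := by
    apply eq_of_evI i (αU α U.1 U.2.2) ψ ψ' hψ2 hψ'2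
    apply (cancel_mono (ιU U.1)).mp
    rw [← evI_post, ← evI_post, hψ1, hψ'1, evI_comp, evI_comp, h1]
  rw [← hψ1, ← hψ'1, e]

/-- the pair `(x, x₀)` of `T`-points of `X` consists of the values at the unit and the zero of an equivariant map -/
def Pt (T : Over (Spec (CommRingCat.of k))) (x x₀ : T ⟶ X) : Prop :=
  ∃ φ : M ⊗ T ⟶ X, Eqv i α T φ ∧ evI φ = x ∧ evO o φ = x₀

theorem pt_comp {T T' : Over (Spec (CommRingCat.of k))} (t : T' ⟶ T) (x x₀ : T ⟶ X)
    (h : Pt i o α T x x₀) : Pt i o α T' (t ≫ x) (t ≫ x₀) := by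
  obtain ⟨φ, hφ, h1, h0⟩ := h
  exact ⟨(M ◁ t) ≫ φ, eqv_comp i α t φ hφ, by rw [evI_comp, h1], by rw [evO_comp, h0]⟩

theorem pt_local (ho : IsZ o) (hM : HM i o) (hcov : HCov α)
    {T : Over (Spec (CommRingCat.of k))} (x x₀ : T ⟶ X)
    (𝒱 : Scheme.OpenCover.{u} T.left)
    (h : ∀ j, Pt i o α (Ti 𝒱 j) (inc 𝒱 j ≫ x) (inc 𝒱 j ≫ x₀)) : Pt i o α T x x₀ := by
  choose φj hφj h1j h0j using h
  obtain ⟨Φ, hΦ⟩ := glue_exists 𝒱 φj (fun j j' W mi mj hm => by
    obtain ⟨b, hb⟩ : ∃ b : W ⟶ M, b = mi ≫ fst M (Ti 𝒱 j) := ⟨_, rfl⟩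
    have hb' : b = mj ≫ fst M (Ti 𝒱 j') := by
      have := congrArg (fun w => w ≫ fst M T) hm
      simp only [Category.assoc, whiskerLeft_fst] at this
      rw [hb]
      exact this
    obtain ⟨ti, hti⟩ : ∃ ti : W ⟶ Ti 𝒱 j, ti = mi ≫ snd M (Ti 𝒱 j) := ⟨_, rfl⟩
    obtain ⟨tj, htj⟩ : ∃ tj : W ⟶ Ti 𝒱 j', tj = mj ≫ snd M (Ti 𝒱 j') := ⟨_, rfl⟩
    have ht : ti ≫ inc 𝒱 j = tj ≫ inc 𝒱 j' := by
      have := congrArg (fun w => w ≫ snd M T) hm
      simp only [Category.assoc, whiskerLeft_snd] at this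
      rw [hti, htj, Category.assoc, Category.assoc]
      exact this
    have emi : mi = lift b (𝟙 W) ≫ (M ◁ ti) := by
      rw [lift_whiskerLeft, Category.id_comp, hb, hti]
      apply CartesianMonoidalCategory.hom_ext
      · rw [lift_fst]
      · rw [lift_snd]
    have emj : mj = lift b (𝟙 W) ≫ (M ◁ tj) := by
      rw [lift_whiskerLeft, Category.id_comp, hb', htj]
      apply CartesianMonoidalCategory.hom_ext
      · rw [lift_fst]
      · rw [lift_snd]
    have key : (M ◁ ti) ≫ φj j = (M ◁ tj) ≫ φj j' := by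
      apply eq_of_ev i o α ho hM hcov _ _ (eqv_comp i α ti _ (hφj j))
        (eqv_comp i α tj _ (hφj j'))
      · rw [evI_comp, evI_comp, h1j, h1j, ← Category.assoc, ← Category.assoc, ht]
      · rw [evO_comp, evO_comp, h0j, h0j, ← Category.assoc, ← Category.assoc, ht]
    rw [emi, emj, Category.assoc, Category.assoc, key])
  refine ⟨Φ, ?_, ?_, ?_⟩
  · -- equivariance
    show (((Magnet.MonAct.regular M).restrict i).prod (Magnet.MonAct.trivial G T)).act ≫ Φ =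
      (G ◁ Φ) ≫ α.act
    apply (cancel_epi (α_ G M T).hom).mp
    apply glue_ext 𝒱
    intro j
    have hj : (((Magnet.MonAct.regular M).restrict i).prod
        (Magnet.MonAct.trivial G (Ti 𝒱 j))).act ≫ φj j = (G ◁ φj j) ≫ α.act := hφj j
    calc ((G ⊗ M) ◁ inc 𝒱 j) ≫ (α_ G M T).hom ≫
          (((Magnet.MonAct.regular M).restrict i).prod (Magnet.MonAct.trivial G T)).act ≫ Φ
        = (α_ G M (Ti 𝒱 j)).hom ≫ (G ◁ (M ◁ inc 𝒱 j)) ≫
          (((Magnet.MonAct.regular M).restrict i).prod (Magnet.MonAct.trivial G T)).act ≫ Φ := by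
          rw [← Category.assoc, associator_naturality_right, Category.assoc]
      _ = (α_ G M (Ti 𝒱 j)).hom ≫ (((Magnet.MonAct.regular M).restrict i).prod
            (Magnet.MonAct.trivial G (Ti 𝒱 j))).act ≫ (M ◁ inc 𝒱 j) ≫ Φ := by
          rw [Magnet.MonAct.prod_trivial_act_whiskerLeft_assoc]
      _ = (α_ G M (Ti 𝒱 j)).hom ≫ (G ◁ φj j) ≫ α.act := by rw [hΦ, hj]
      _ = (α_ G M (Ti 𝒱 j)).hom ≫ (G ◁ (M ◁ inc 𝒱 j)) ≫ (G ◁ Φ) ≫ α.act := by
          rw [← hΦ j, MonoidalCategory.whiskerLeft_comp, Category.assoc]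
      _ = ((G ⊗ M) ◁ inc 𝒱 j) ≫ (α_ G M T).hom ≫ (G ◁ Φ) ≫ α.act := by
          rw [← Category.assoc ((G ⊗ M) ◁ inc 𝒱 j), associator_naturality_right, Category.assoc]
  · apply Over.OverMorphism.ext
    apply 𝒱.hom_ext
    intro j
    have e : inc 𝒱 j ≫ evI Φ = inc 𝒱 j ≫ x := by rw [← evI_comp, hΦ, h1j]
    exact congrArg (fun w => w.left) e
  · apply Over.OverMorphism.ext
    apply 𝒱.hom_ext
    intro j
    have e : inc 𝒱 j ≫ evO o Φ = inc 𝒱 j ≫ x₀ := by rw [← evO_comp, hΦ, h0j]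
    exact congrArg (fun w => w.left) e

end Groth.Agent.Helper17.AG54
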