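import Mathlib
import Groth.Prelude.Def_Magnet2
import Groth.Agent.Lib.Helper17.AG26
import Groth.Agent.Lib.Helper17.AG49
import Groth.Agent.Lib.Helper17.AG53
import Groth.Agent.Lib.Helper17.AG54

/-!
# Equivariant maps from a Kempf-type monoid: the functor of pairs and its local charts (helper17)

The pairs `(φ(1,·), φ(o,·))` of an equivariant `φ : M × T ⟶ X` form a subfunctor `PXX` of the functor of points of
`X × X` which is Zariski-local (`pxx_comp`, `pxx_local`).  For a `G`-stable affine open `U` the equivariant maps into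
`U` are represented by some `ZU` (by the affine case), and `wU : ZU ⟶ X × X` classifies the pairs whose second
component lies in `U` (`exists_classify`, `wU_mono`).
-/

set_option autoImplicit false
universe u
open CategoryTheory CategoryTheory.Limits MonoidalCategory CartesianMonoidalCategory MonObj
open AlgebraicGeometry Opposite TopologicalSpace

noncomputable section
namespace Groth.Agent.Helper17.AG55
open Groth.Agent.Helper17.AG26 Groth.Agent.Helper17.AG53 Groth.Agent.Helper17.AG54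

variable {k : Type u} [Field k]
variable {M G X : Over (Spec (CommRingCat.of k))} [MonObj M] [GrpObj G] [IsAffine M.left]
  [IsAffine G.left] (i : G ⟶ M) [IsMonHom i] [IsSchemeTheoreticallyDominant i.left]
  (o : 𝟙_ (Over (Spec (CommRingCat.of k))) ⟶ M) (α : Magnet.MonAct G X)

/-- the object over `k` of a point of `X × X` -/
abbrev To {T : Scheme.{u}} (w : T ⟶ (X ⊗ X).left) : Over (Spec (CommRingCat.of k)) :=
  Over.mk (w ≫ (X ⊗ X).hom)

/-- the point, over `k` -/
abbrev wo {T : Scheme.{u}} (w : T ⟶ (X ⊗ X).left) : To w ⟶ X ⊗ X := Over.homMk w rfl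

/-- the point `w` of `X × X` is the pair of values at the unit and at the zero of an equivariant map -/
def PXX {T : Scheme.{u}} (w : T ⟶ (X ⊗ X).left) : Prop :=
  Pt i o α (To w) (wo w ≫ fst X X) (wo w ≫ snd X X)

theorem pt_of_iso {T T' : Over (Spec (CommRingCat.of k))} (ε : T' ≅ T) (x x₀ : T ⟶ X) :
    Pt i o α T' (ε.hom ≫ x) (ε.hom ≫ x₀) ↔ Pt i o α T x x₀ := by
  constructor
  · intro h
    have := pt_comp i o α ε.inv _ _ h
    rwa [Iso.inv_hom_id_assoc, Iso.inv_hom_id_assoc] at this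
  · exact pt_comp i o α ε.hom x x₀

theorem pxx_iff {T : Over (Spec (CommRingCat.of k))} (w' : T ⟶ X ⊗ X) :
    PXX i o α w'.left ↔ Pt i o α T (w' ≫ fst X X) (w' ≫ snd X X) := by
  let ε : To w'.left ≅ T := Over.isoMk (Iso.refl _) (by
    rw [Iso.refl_hom, Category.id_comp]
    exact (Over.w w').symm)
  have e : wo w'.left = ε.hom ≫ w' := by
    apply Over.OverMorphism.ext
    simp [ε]
  unfold PXX
  rw [e, Category.assoc, Category.assoc]
  exact pt_of_iso i o α ε _ _

theorem pxx_comp {T T' : Scheme.{u}} (t : T' ⟶ T) (w : T ⟶ (X ⊗ X).left) (h : PXX i o α w) :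
    PXX i o α (t ≫ w) := by
  let t₂ : Over.mk (t ≫ (To w).hom) ⟶ To w := Over.homMk t rfl
  have h2 := pt_comp i o α t₂ _ _ h
  rw [← Category.assoc, ← Category.assoc] at h2
  exact (pxx_iff i o α (t₂ ≫ wo w)).mpr h2

theorem pxx_local (ho : IsZ o) (hM : HM i o) (hcov : HCov α) {T : Scheme.{u}}
    (w : T ⟶ (X ⊗ X).left) (𝒱 : Scheme.OpenCover.{u} T)
    (h : ∀ j, PXX i o α (𝒱.f j ≫ w)) : PXX i o α w := by
  apply pt_local i o α ho hM hcov (T := To w) _ _ 𝒱
  intro j
  have h2 := (pxx_iff i o α (inc (T := To w) 𝒱 j ≫ wo w)).mp (h j)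
  rw [Category.assoc, Category.assoc] at h2
  exact h2

/-! ### the chart of a stable affine open -/
section Classify
variable (hM : HM i o) (U : Idx α) {ZU : Over (Spec (CommRingCat.of k))}
  (eU : (Magnet.MonAct.eqvHom ((Magnet.MonAct.regular M).restrict i)
    (αU α U.1 U.2.2)).RepresentableBy ZU)

/-- the universal equivariant map into the stable open -/
def ξU : M ⊗ ZU ⟶ XU U.1 := (eU.homEquiv (𝟙 ZU)).1

theorem ξU_eqv : Eqv i (αU α U.1 U.2.2) ZU (ξU i α U eU) := (eU.homEquiv (𝟙 ZU)).2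

theorem homEquiv_coe {T : Over (Spec (CommRingCat.of k))} (z : T ⟶ ZU) :
    (eU.homEquiv z).1 = (M ◁ z) ≫ ξU i α U eU := by
  have h := eU.homEquiv_comp z (𝟙 ZU)
  rw [Category.comp_id] at h
  rw [h]
  rfl

/-- the universal equivariant map, into `X` -/
def φU : M ⊗ ZU ⟶ X := ξU i α U eU ≫ ιU U.1

theorem φU_eqv : Eqv i α ZU (φU i α U eU) := eqv_post i α U.1 U.2.2 _ (ξU_eqv i α U eU)

/-- the chart -/
def wU : ZU ⟶ X ⊗ X := lift (evI (φU i α U eU)) (evO o (φU i α U eU))

theorem comp_wU {T : Over (Spec (CommRingCat.of k))} (z : T ⟶ ZU) :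
    z ≫ wU i o α U eU =
      lift (evI ((M ◁ z) ≫ φU i α U eU)) (evO o ((M ◁ z) ≫ φU i α U eU)) := by
  rw [wU, comp_lift, evI_comp, evO_comp]

theorem wU_mono {T : Over (Spec (CommRingCat.of k))} (z z' : T ⟶ ZU)
    (h : z ≫ wU i o α U eU = z' ≫ wU i o α U eU) : z = z' := by
  apply eU.homEquiv.injective
  apply Subtype.ext
  rw [homEquiv_coe, homEquiv_coe]
  haveI : IsAffine (XU U.1).left := U.2.1
  apply eq_of_evI i (αU α U.1 U.2.2) _ _ (eqv_comp i _ z _ (ξU_eqv i α U eU))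
    (eqv_comp i _ z' _ (ξU_eqv i α U eU))
  apply (cancel_mono (ιU U.1)).mp
  rw [← evI_post, ← evI_post, Category.assoc, Category.assoc]
  have h2 := congrArg (fun w => w ≫ fst X X) h
  simp only [comp_wU, lift_fst] at h2
  exact h2

theorem wU_snd_mem (q : ZU.left) : (wU i o α U eU ≫ snd X X).left q ∈ U.1 := by
  have e : wU i o α U eU ≫ snd X X = evO o (ξU i α U eU) ≫ ιU U.1 := by
    rw [wU, lift_snd, φU, evO_post]
  rw [e]
  exact ιU_mem U.1 _ q

theorem pt_wU : Pt i o α ZU (wU i o α U eU ≫ fst X X) (wU i o α U eU ≫ snd X X) :=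
  ⟨φU i α U eU, φU_eqv i α U eU, by rw [wU, lift_fst], by rw [wU, lift_snd]⟩

include hM in
theorem exists_classify {T : Over (Spec (CommRingCat.of k))} (w' : T ⟶ X ⊗ X)
    (h : ∀ p : T.left, (w' ≫ snd X X).left p ∈ U.1)
    (hp : Pt i o α T (w' ≫ fst X X) (w' ≫ snd X X)) :
    ∃ z : T ⟶ ZU, z ≫ wU i o α U eU = w' := by
  obtain ⟨φ, hφ, h1, h0⟩ := hp
  obtain ⟨ψ, hψ1, hψ2⟩ := exists_factor_eqv i o α U.1 U.2.2 hM φ hφ (fun p => by
    rw [h0]
    exact h p)
  refine ⟨eU.homEquiv.symm ⟨ψ, hψ2⟩, ?_⟩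
  have e : (M ◁ eU.homEquiv.symm ⟨ψ, hψ2⟩) ≫ ξU i α U eU = ψ := by
    rw [← homEquiv_coe, Equiv.apply_symm_apply]
  rw [comp_wU, φU, ← Category.assoc, e, hψ1, h1, h0, ← comp_lift, lift_fst_snd, Category.comp_id]

end Classify

end Groth.Agent.Helper17.AG55
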