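import Mathlib
import Groth.Prelude.Def_Magnet2
import Groth.Agent.Lib.Helper17.AG26
import Groth.Agent.Lib.Helper17.AG49
import Groth.Agent.Lib.Helper17.AG53
import Groth.Agent.Lib.Helper17.AG54
import Groth.Agent.Lib.Helper17.AG55

/-!
# Representability of equivariant maps from a Kempf-type monoid (helper17)

The subfunctor `sub` of the functor of points of `X × X` cut out by `AG55.PXX` is a Zariski sheaf, the charts
`fU : ZU ⟶ sub` of the stable affine opens are relatively representable open immersions which cover it, hence `sub`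
is representable (Mathlib's `Scheme.LocalRepresentability`); the representing scheme, over `k` through the first
projection, represents the functor of equivariant maps (`main18964`).
-/

set_option autoImplicit false
universe u
open CategoryTheory CategoryTheory.Limits MonoidalCategory CartesianMonoidalCategory MonObj
open AlgebraicGeometry Opposite TopologicalSpace

noncomputable section
namespace Groth.Agent.Helper17.AG56
open Groth.Agent.Helper17.AG26 Groth.Agent.Helper17.AG53 Groth.Agent.Helper17.AG54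
  Groth.Agent.Helper17.AG55

variable {k : Type u} [Field k]
variable {M G X : Over (Spec (CommRingCat.of k))} [MonObj M] [GrpObj G] [IsAffine M.left]
  [IsAffine G.left] (i : G ⟶ M) [IsMonHom i] [IsSchemeTheoreticallyDominant i.left]
  (o : 𝟙_ (Over (Spec (CommRingCat.of k))) ⟶ M) (α : Magnet.MonAct G X)

/-- the subfunctor of pairs `(φ(1,·), φ(o,·))` -/
def sub : Subfunctor (yoneda.obj (X ⊗ X).left) where
  obj _ := {w | PXX i o α w}
  map t := fun w hw => pxx_comp i o α t.unop w hw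

theorem sub_isSheaf (ho : IsZ o) (hM : HM i o) (hcov : HCov α) :
    Presieve.IsSheaf Scheme.zariskiTopology (sub i o α).toFunctor := by
  rw [Subfunctor.isSheaf_iff _
    (GrothendieckTopology.Subcanonical.isSheaf_of_isRepresentable (yoneda.obj (X ⊗ X).left))]
  intro T w hw
  obtain ⟨𝒱, h𝒱⟩ := Scheme.mem_grothendieckTopology_iff.mp hw
  exact pxx_local i o α ho hM hcov w 𝒱 (fun j => h𝒱 _ _ (Presieve.ofArrows.mk j))

section Chart
variable (hM : HM i o) (U : Idx α) {ZU : Over (Spec (CommRingCat.of k))}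
  (eU : (Magnet.MonAct.eqvHom ((Magnet.MonAct.regular M).restrict i)
    (αU α U.1 U.2.2)).RepresentableBy ZU)

/-- the chart as a map of presheaves -/
def fU : yoneda.obj ZU.left ⟶ (sub i o α).toFunctor :=
  yonedaEquiv.symm ⟨(wU i o α U eU).left,
    (pxx_iff i o α (wU i o α U eU)).mpr (pt_wU i o α U eU)⟩

include hM in
theorem fU_openImm : IsOpenImmersion.presheaf (fU i o α U eU) := by
  apply MorphismProperty.relative.of_exists
  intro T g
  obtain ⟨s, rfl⟩ := yonedaEquiv.symm.surjective g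
  obtain ⟨w, hw⟩ := s
  have hw' : PXX i o α w := hw
  let V : T.Opens := (w ≫ (snd X X).left) ⁻¹ᵁ U.1
  let incV : Over.mk (V.ι ≫ (To w).hom) ⟶ To w := Over.homMk V.ι rfl
  have hVmem : ∀ p : (Over.mk (V.ι ≫ (To w).hom)).left,
      ((incV ≫ wo w) ≫ snd X X).left p ∈ U.1 := by
    intro p
    have h1 : V.ι p ∈ V := by
      have h : V.ι p ∈ Set.range V.ι := ⟨p, rfl⟩
      rw [Scheme.Opens.range_ι] at h
      exact h
    have h2 : (w ≫ (snd X X).left) (V.ι p) ∈ U.1 := h1
    rw [← Scheme.Hom.comp_apply] at h2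
    show ((V.ι ≫ w) ≫ (snd X X).left) p ∈ U.1
    rw [Category.assoc]
    exact h2
  obtain ⟨z₁, hz₁⟩ := exists_classify i o α hM U eU (incV ≫ wo w) hVmem (by
    have := pt_comp i o α incV _ _ hw'
    rwa [← Category.assoc, ← Category.assoc] at this)
  have hz₁l : z₁.left ≫ (wU i o α U eU).left = V.ι ≫ w :=
    congrArg (fun q => q.left) hz₁
  refine ⟨V.toScheme, yoneda.map z₁.left, V.ι, ?_, inferInstance⟩
  apply IsPullback.of_forall_isPullback_app
  intro W
  rw [Types.isPullback_iff]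
  refine ⟨?_, ?_, ?_⟩
  · apply ConcreteCategory.hom_ext
    intro (v : unop W ⟶ V.toScheme)
    apply Subtype.ext
    show (v ≫ z₁.left) ≫ (wU i o α U eU).left = (v ≫ V.ι) ≫ w
    rw [Category.assoc, Category.assoc, hz₁l]
  · intro (v : unop W ⟶ V.toScheme) (v' : unop W ⟶ V.toScheme) h
    have h2 : v ≫ V.ι = v' ≫ V.ι := h.2
    exact (cancel_mono V.ι).mp h2
  · intro (a : unop W ⟶ ZU.left) (b : unop W ⟶ T) hab
    have heq : a ≫ (wU i o α U eU).left = b ≫ w := congrArg Subtype.val hab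
    have hbV : ∀ p : (unop W : Scheme.{u}), b p ∈ V := by
      intro p
      show (w ≫ (snd X X).left) (b p) ∈ U.1
      rw [← Scheme.Hom.comp_apply, ← Category.assoc, ← heq, Category.assoc,
        Scheme.Hom.comp_apply]
      exact wU_snd_mem i o α U eU (a p)
    obtain ⟨v, hv⟩ : ∃ v : (unop W : Scheme.{u}) ⟶ V.toScheme, v ≫ V.ι = b :=
      ⟨IsOpenImmersion.lift V.ι b (by
        rw [Scheme.Opens.range_ι]
        rintro _ ⟨p, rfl⟩
        exact hbV p), IsOpenImmersion.lift_fac _ _ _⟩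
    refine ⟨v, ?_, hv⟩
    show v ≫ z₁.left = a
    let v₁ : Over.mk (v ≫ (Over.mk (V.ι ≫ (To w).hom)).hom) ⟶
        Over.mk (V.ι ≫ (To w).hom) := Over.homMk v rfl
    have ha : a ≫ ZU.hom = (Over.mk (v ≫ (Over.mk (V.ι ≫ (To w).hom)).hom)).hom := by
      show a ≫ ZU.hom = v ≫ V.ι ≫ w ≫ (X ⊗ X).hom
      rw [← Over.w (wU i o α U eU), ← Category.assoc, heq, ← hv, Category.assoc, Category.assoc]
    have key : v₁ ≫ z₁ = Over.homMk a ha := by
      apply wU_mono i o α U eU
      rw [Category.assoc, hz₁]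
      apply Over.OverMorphism.ext
      show v ≫ V.ι ≫ w = a ≫ (wU i o α U eU).left
      rw [heq, ← hv, Category.assoc]
    exact congrArg (fun q => q.left) key

end Chart

theorem locSurj (ho : IsZ o) (hM : HM i o) (hcov : HCov α)
    (ZU : Idx α → Over (Spec (CommRingCat.of k)))
    (eU : ∀ U : Idx α, (Magnet.MonAct.eqvHom ((Magnet.MonAct.regular M).restrict i)
      (αU α U.1 U.2.2)).RepresentableBy (ZU U)) :
    Presheaf.IsLocallySurjective Scheme.zariskiTopology
      (Sigma.desc (fun U : Idx α => fU i o α U (eU U))) := by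
  constructor
  intro T s
  obtain ⟨w, hw⟩ := s
  have hw' : PXX i o α w := hw
  obtain ⟨φ, hφ, h1, h0⟩ := hw'
  rw [Scheme.mem_grothendieckTopology_iff]
  refine ⟨cov i o α ho hcov φ hφ, ?_⟩
  rintro Y g ⟨U⟩
  have hmem : ∀ p : (Ti (cov i o α ho hcov φ hφ) U).left,
      ((inc (cov i o α ho hcov φ hφ) U ≫ wo w) ≫ snd X X).left p ∈ U.1 := by
    intro p
    rw [Category.assoc, ← h0]
    exact cov_mem i o α ho hcov φ hφ U p
  obtain ⟨z₁, hz₁⟩ := exists_classify i o α hM U (eU U)
    (inc (cov i o α ho hcov φ hφ) U ≫ wo w) hmem (by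
      have := pt_comp i o α (inc (cov i o α ho hcov φ hφ) U) _ _
        (show Pt i o α (To w) (wo w ≫ fst X X) (wo w ≫ snd X X) from ⟨φ, hφ, h1, h0⟩)
      rwa [← Category.assoc, ← Category.assoc] at this)
  have hz₁l : z₁.left ≫ (wU i o α U (eU U)).left = (cov i o α ho hcov φ hφ).f U ≫ w :=
    congrArg (fun q => q.left) hz₁
  refine ⟨(Sigma.ι (fun U : Idx α => yoneda.obj (ZU U).left) U).app _ z₁.left, ?_⟩
  have e1 : (Sigma.desc (fun U : Idx α => fU i o α U (eU U))).app _
      ((Sigma.ι (fun U : Idx α => yoneda.obj (ZU U).left) U).app _ z₁.left) =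
      (fU i o α U (eU U)).app _ z₁.left := by
    have := congrArg (fun σ => σ.app (op ((cov i o α ho hcov φ hφ).X U)) z₁.left)
      (Sigma.ι_desc (fun U : Idx α => fU i o α U (eU U)) U)
    exact this
  rw [e1]
  apply Subtype.ext
  exact hz₁l

theorem sub_representable (ho : IsZ o) (hM : HM i o) (hcov : HCov α)
    (ZU : Idx α → Over (Spec (CommRingCat.of k)))
    (eU : ∀ U : Idx α, (Magnet.MonAct.eqvHom ((Magnet.MonAct.regular M).restrict i)
      (αU α U.1 U.2.2)).RepresentableBy (ZU U)) :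
    (sub i o α).toFunctor.IsRepresentable := by
  haveI := locSurj i o α ho hM hcov ZU eU
  exact Scheme.LocalRepresentability.isRepresentable
    (F := ⟨(sub i o α).toFunctor,
      (isSheaf_iff_isSheaf_of_type _ _).mpr (sub_isSheaf i o α ho hM hcov)⟩)
    (f := fun U : Idx α => fU i o α U (eU U))
    (fun U => fU_openImm i o α hM U (eU U))

theorem representable_of_sub (ho : IsZ o) (hM : HM i o) (hcov : HCov α)
    (h : (sub i o α).toFunctor.IsRepresentable) :
    ∃ Z : Over (Spec (CommRingCat.of k)),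
      Nonempty ((Magnet.MonAct.eqvHom ((Magnet.MonAct.regular M).restrict i) α).RepresentableBy Z) := by
  obtain ⟨Z, ⟨e'⟩⟩ := h
  obtain ⟨wu, hwu, hnat⟩ : ∃ wu : Z ⟶ (X ⊗ X).left, PXX i o α wu ∧
      ∀ (T : Scheme.{u}) (g₀ : T ⟶ Z), (e'.homEquiv g₀).1 = g₀ ≫ wu := by
    refine ⟨(e'.homEquiv (𝟙 Z)).1, (e'.homEquiv (𝟙 Z)).2, fun T g₀ => ?_⟩
    have h := e'.homEquiv_comp g₀ (𝟙 Z)
    rw [Category.comp_id] at h
    rw [h]
    rfl
  obtain ⟨φu, hφu, h1u, h0u⟩ := hwu
  have hpair : ∀ (T : Over (Spec (CommRingCat.of k))) (g : T ⟶ To wu),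
      g ≫ wo wu = lift (evI ((M ◁ g) ≫ φu)) (evO o ((M ◁ g) ≫ φu)) := by
    intro T g
    rw [evI_comp, evO_comp, h1u, h0u, ← Category.assoc, ← Category.assoc, ← comp_lift,
      lift_fst_snd, Category.comp_id]
  have huniq : ∀ (T : Over (Spec (CommRingCat.of k))) (g g' : T ⟶ To wu),
      (M ◁ g) ≫ φu = (M ◁ g') ≫ φu → g = g' := by
    intro T g g' hgg
    apply Over.OverMorphism.ext
    apply e'.homEquiv.injective
    apply Subtype.ext
    rw [hnat, hnat]
    have h2 : g ≫ wo wu = g' ≫ wo wu := by rw [hpair, hpair, hgg]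
    exact congrArg (fun q => q.left) h2
  have hex : ∀ (T : Over (Spec (CommRingCat.of k))) (φ : M ⊗ T ⟶ X), Eqv i α T φ →
      ∃ g : T ⟶ To wu, (M ◁ g) ≫ φu = φ := by
    intro T φ hφ
    have hs : PXX i o α (lift (evI φ) (evO o φ)).left :=
      (pxx_iff i o α _).mpr ⟨φ, hφ, by rw [lift_fst], by rw [lift_snd]⟩
    obtain ⟨g₀, hg₀⟩ : ∃ g₀ : T.left ⟶ Z, g₀ ≫ wu = (lift (evI φ) (evO o φ)).left := by
      refine ⟨e'.homEquiv.symm ⟨(lift (evI φ) (evO o φ)).left, hs⟩, ?_⟩
      rw [← hnat, Equiv.apply_symm_apply]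
    have hgw : g₀ ≫ (To wu).hom = T.hom := by
      show g₀ ≫ wu ≫ (X ⊗ X).hom = T.hom
      rw [← Category.assoc, hg₀, Over.w]
    refine ⟨Over.homMk g₀ hgw, ?_⟩
    have hgwo : Over.homMk g₀ hgw ≫ wo wu = lift (evI φ) (evO o φ) := by
      apply Over.OverMorphism.ext
      exact hg₀
    apply eq_of_ev i o α ho hM hcov _ _ (eqv_comp i α _ φu hφu) hφ
    · have := congrArg (fun q => q ≫ fst X X) ((hpair T (Over.homMk g₀ hgw)).symm.trans hgwo)
      simp only [lift_fst] at this
      exact this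
    · have := congrArg (fun q => q ≫ snd X X) ((hpair T (Over.homMk g₀ hgw)).symm.trans hgwo)
      simp only [lift_snd] at this
      exact this
  refine ⟨To wu, ⟨{
    homEquiv := fun {T} => Equiv.ofBijective
      (fun g => (⟨(M ◁ g) ≫ φu, eqv_comp i α g φu hφu⟩ :
        (Magnet.MonAct.eqvHom ((Magnet.MonAct.regular M).restrict i) α).obj (op T)))
      ⟨fun g g' hgg => huniq T g g' (congrArg Subtype.val hgg),
        fun φ => by
          obtain ⟨g, hg⟩ := hex T φ.1 φ.2
          exact ⟨g, Subtype.ext hg⟩⟩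
    homEquiv_comp := fun {T T'} f g => by
      apply Subtype.ext
      show (M ◁ (f ≫ g)) ≫ φu = (M ◁ f) ≫ (M ◁ g) ≫ φu
      rw [MonoidalCategory.whiskerLeft_comp, Category.assoc] }⟩⟩

theorem main18964 (k : Type u) [Field k]
    (M G X : Over (Spec (CommRingCat.of k))) [MonObj M] [GrpObj G] [IsAffine M.left]
    [IsAffine G.left]
    (i : G ⟶ M) [IsMonHom i] [IsOpenImmersion i.left] [IsSchemeTheoreticallyDominant i.left]
    (o : 𝟙_ (Over (Spec (CommRingCat.of k))) ⟶ M)
    (ho : ∀ (T : Over (Spec (CommRingCat.of k))) (m : T ⟶ M),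
      m * (toUnit T ≫ o) = toUnit T ≫ o ∧ (toUnit T ≫ o) * m = toUnit T ≫ o)
    (hM : ∀ (T : Over (Spec (CommRingCat.of k))) (K : Type u) [Field K]
      (_ : T.left ≅ Spec (CommRingCat.of K)) (W : (M ⊗ T).left.Opens),
      (CartesianMonoidalCategory.snd G (M ⊗ T)).left ⁻¹ᵁ W ≤
          ((((Magnet.MonAct.regular M).restrict i).prod (Magnet.MonAct.trivial G T)).act).left ⁻¹ᵁ W →
      (CartesianMonoidalCategory.lift (toUnit T ≫ o) (𝟙 T)).left ⁻¹ᵁ W = ⊤ → W = ⊤)
    (aX : AlgGrp.Action G X)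
    (hcov : ∀ (T : Over (Spec (CommRingCat.of k)))
      (x : (Magnet.MonAct.fixedPsh (Magnet.MonAct.ofAction aX)).obj (op T)),
      ⨆ (U : X.left.Opens) (_ : IsAffineOpen U ∧
        (CartesianMonoidalCategory.snd G X).left ⁻¹ᵁ U ≤ aX.act.left ⁻¹ᵁ U),
        x.1.left ⁻¹ᵁ U = ⊤) :
    ∃ Z : Over (Spec (CommRingCat.of k)),
      Nonempty ((Magnet.MonAct.eqvHom ((Magnet.MonAct.regular M).restrict i)
        (Magnet.MonAct.ofAction aX)).RepresentableBy Z) := by
  have hex : ∀ U : Idx (Magnet.MonAct.ofAction aX), ∃ ZU : Over (Spec (CommRingCat.of k)),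
      Nonempty ((Magnet.MonAct.eqvHom ((Magnet.MonAct.regular M).restrict i)
        (αU (Magnet.MonAct.ofAction aX) U.1 U.2.2)).RepresentableBy ZU) := by
    intro U
    haveI : IsAffine (XU U.1).left := U.2.1
    obtain ⟨Z, j, e, -, -⟩ := AG49.main18955 k M G (XU U.1) i
      (Magnet.MonAct.toAction (αU (Magnet.MonAct.ofAction aX) U.1 U.2.2))
    exact ⟨Z, ⟨e⟩⟩
  choose ZU eU using hex
  exact representable_of_sub i o _ ho hM hcov
    (sub_representable i o _ ho hM hcov ZU (fun U => (eU U).some))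

end Groth.Agent.Helper17.AG56
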