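import Mathlib

/-!
# Pullback squares of commutative rings along a surjection (helper17)

`RPB π₁ π₂ φ ψ`: the square `C' → B'`, `C' → C`, `B' → B`, `C → B` is a pullback square of rings with
`φ : B' → B` surjective (the affine model of a Ferrand push-out).  Primes of `C'` come from `B'` or
`C` (`exists_prime₁`, `exists_prime₂`), the square localizes (`away`), ring maps lift (`lift`), and
the topological push-out property in the form used for gluing (`exists_basic₁`, `exists_basic₂`).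
-/

set_option autoImplicit false
universe u

namespace Groth.Agent.Helper17.AG57

section Away

variable {R P : Type u} [CommRing R] [CommRing P]

/-- the `n`-th power as an element of the submonoid of powers -/
abbrev pw (r : R) (n : ℕ) : Submonoid.powers r := ⟨r ^ n, n, rfl⟩

theorem powers_le (f : R →+* P) (r : R) (s : P) (hs : f r = s) :
    Submonoid.powers r ≤ (Submonoid.powers s).comap f := by
  rintro _ ⟨n, rfl⟩
  show f (r ^ n) ∈ Submonoid.powers s
  exact (Submonoid.mem_powers_iff _ _).mpr ⟨n, by rw [map_pow, hs]⟩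

/-- the induced map between localizations away from an element and its image -/
noncomputable def awayHom (f : R →+* P) (r : R) (s : P) (hs : f r = s) :
    Localization.Away r →+* Localization.Away s :=
  IsLocalization.map (Localization.Away s) f (powers_le f r s hs)

theorem awayHom_mk' (f : R →+* P) (r : R) (s : P) (hs : f r = s) (x : R) (n : ℕ) :
    awayHom f r s hs (IsLocalization.mk' (Localization.Away r) x (pw r n)) =
      IsLocalization.mk' (Localization.Away s) (f x) (pw s n) := by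
  unfold awayHom
  rw [IsLocalization.map_mk']
  congr 1
  apply Subtype.ext
  show f (r ^ n) = s ^ n
  rw [map_pow, hs]

theorem awayHom_algebraMap (f : R →+* P) (r : R) (s : P) (hs : f r = s) (x : R) :
    awayHom f r s hs (algebraMap R (Localization.Away r) x) =
      algebraMap P (Localization.Away s) (f x) := by
  unfold awayHom
  exact IsLocalization.map_eq _ x

theorem exists_mk' (r : R) (z : Localization.Away r) :
    ∃ (x : R) (n : ℕ), z = IsLocalization.mk' (Localization.Away r) x (pw r n) := by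
  obtain ⟨x, ⟨_, n, rfl⟩, rfl⟩ := IsLocalization.exists_mk'_eq (Submonoid.powers r) z
  exact ⟨x, n, rfl⟩

theorem not_mem_of_away (r : R) (s : PrimeSpectrum (Localization.Away r)) :
    r ∉ (PrimeSpectrum.comap (algebraMap R (Localization.Away r)) s).asIdeal := by
  intro hr
  have hu : IsUnit (algebraMap R (Localization.Away r) r) :=
    IsLocalization.Away.algebraMap_isUnit r
  exact s.isPrime.ne_top (Ideal.eq_top_of_isUnit_mem _ hr hu)

end Away

variable {C' B' B C : Type u} [CommRing C'] [CommRing B'] [CommRing B] [CommRing C]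

/-- a pullback square of commutative rings with `φ` surjective -/
structure RPB (π₁ : C' →+* B') (π₂ : C' →+* C) (φ : B' →+* B) (ψ : C →+* B) : Prop where
  comm : ∀ x, φ (π₁ x) = ψ (π₂ x)
  surj : Function.Surjective φ
  inj : ∀ x, π₁ x = 0 → π₂ x = 0 → x = 0
  ex : ∀ b c, φ b = ψ c → ∃ x, π₁ x = b ∧ π₂ x = c

namespace RPB

variable {π₁ : C' →+* B'} {π₂ : C' →+* C} {φ : B' →+* B} {ψ : C →+* B}

theorem ext' (h : RPB π₁ π₂ φ ψ) {x y : C'} (h1 : π₁ x = π₁ y) (h2 : π₂ x = π₂ y) : x = y := by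
  have := h.inj (x - y) (by rw [map_sub, h1, sub_self]) (by rw [map_sub, h2, sub_self])
  exact sub_eq_zero.mp this

theorem surj₂ (h : RPB π₁ π₂ φ ψ) : Function.Surjective π₂ := by
  intro c
  obtain ⟨b, hb⟩ := h.surj (ψ c)
  obtain ⟨x, -, hx⟩ := h.ex b c hb
  exact ⟨x, hx⟩

theorem lift (h : RPB π₁ π₂ φ ψ) {R : Type*} [CommRing R] (f₁ : R →+* B') (f₂ : R →+* C)
    (hf : ∀ r, φ (f₁ r) = ψ (f₂ r)) :
    ∃ f : R →+* C', (∀ r, π₁ (f r) = f₁ r) ∧ ∀ r, π₂ (f r) = f₂ r := by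
  choose g hg1 hg2 using fun r => h.ex (f₁ r) (f₂ r) (hf r)
  refine ⟨{ toFun := g, map_one' := ?_, map_mul' := ?_, map_zero' := ?_, map_add' := ?_ },
    hg1, hg2⟩
  · exact h.ext' (by rw [hg1, map_one, map_one]) (by rw [hg2, map_one, map_one])
  · intro x y
    exact h.ext' (by rw [hg1, map_mul, map_mul, hg1, hg1])
      (by rw [hg2, map_mul, map_mul, hg2, hg2])
  · exact h.ext' (by rw [hg1, map_zero, map_zero]) (by rw [hg2, map_zero, map_zero])
  · intro x y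
    exact h.ext' (by rw [hg1, map_add, map_add, hg1, hg1])
      (by rw [hg2, map_add, map_add, hg2, hg2])

theorem exists_prime₂ (h : RPB π₁ π₂ φ ψ) (p : PrimeSpectrum C')
    (hk : RingHom.ker π₂ ≤ p.asIdeal) :
    ∃ y : PrimeSpectrum C, PrimeSpectrum.comap π₂ y = p := by
  haveI := p.isPrime
  have hp : (p.asIdeal.map π₂).IsPrime := Ideal.map_isPrime_of_surjective h.surj₂ hk
  refine ⟨⟨p.asIdeal.map π₂, hp⟩, PrimeSpectrum.ext ?_⟩
  show (p.asIdeal.map π₂).comap π₂ = p.asIdeal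
  rw [Ideal.comap_map_of_surjective π₂ h.surj₂]
  exact sup_eq_left.mpr (by rw [← RingHom.ker_eq_comap_bot]; exact hk)

theorem exists_prime₁ (h : RPB π₁ π₂ φ ψ) (p : PrimeSpectrum C')
    (hk : ¬ RingHom.ker π₂ ≤ p.asIdeal) :
    ∃ q : PrimeSpectrum B', PrimeSpectrum.comap π₁ q = p := by
  obtain ⟨e, he, hep⟩ := SetLike.not_le_iff_exists.mp hk
  have he2 : π₂ e = 0 := he
  have key : ∀ z ∈ Ideal.span (π₁ '' (p.asIdeal : Set C')), ∀ b : B',
      ∃ w ∈ p.asIdeal, π₁ w = b * z * π₁ e ∧ π₂ w = 0 := by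
    intro z hz
    refine Submodule.span_induction
      (p := fun z _ => ∀ b : B', ∃ w ∈ p.asIdeal, π₁ w = b * z * π₁ e ∧ π₂ w = 0) ?_ ?_ ?_ ?_ hz
    · rintro _ ⟨x, hx, rfl⟩ b
      obtain ⟨ε, hε1, hε2⟩ := h.ex (b * π₁ e) 0 (by
        rw [map_mul, h.comm, he2, map_zero, mul_zero])
      refine ⟨ε * x, Ideal.mul_mem_left _ _ hx, ?_, ?_⟩
      · rw [map_mul, hε1]; ring
      · rw [map_mul, hε2, zero_mul]
    · intro b
      exact ⟨0, Ideal.zero_mem _, by simp, by simp⟩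
    · intro z₁ z₂ _ _ h₁ h₂ b
      obtain ⟨w₁, hw₁, e₁, f₁⟩ := h₁ b
      obtain ⟨w₂, hw₂, e₂, f₂⟩ := h₂ b
      exact ⟨w₁ + w₂, Ideal.add_mem _ hw₁ hw₂, by rw [map_add, e₁, e₂]; ring,
        by rw [map_add, f₁, f₂, add_zero]⟩
    · intro a z _ hz b
      obtain ⟨w, hw, e₁, f₁⟩ := hz (b * a)
      exact ⟨w, hw, by rw [e₁, smul_eq_mul]; ring, f₁⟩
  have hmem : p ∈ Set.range (PrimeSpectrum.comap π₁) := by
    rw [PrimeSpectrum.mem_range_comap_iff]
    apply le_antisymm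
    · intro x hx
      have hx' : π₁ x ∈ Ideal.span (π₁ '' (p.asIdeal : Set C')) := hx
      obtain ⟨w, hw, e₁, f₁⟩ := key _ hx' 1
      have hwx : w = x * e :=
        h.ext' (by rw [e₁, map_mul, one_mul]) (by rw [f₁, map_mul, he2, mul_zero])
      rw [hwx] at hw
      exact (p.isPrime.mem_or_mem hw).resolve_right hep
    · exact Ideal.le_comap_map
  obtain ⟨q, hq⟩ := hmem
  exact ⟨q, hq⟩

theorem away (h : RPB π₁ π₂ φ ψ) (c' : C') :
    RPB (awayHom π₁ c' (π₁ c') rfl) (awayHom π₂ c' (π₂ c') rfl)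
      (awayHom φ (π₁ c') (φ (π₁ c')) rfl) (awayHom ψ (π₂ c') (φ (π₁ c')) (h.comm c').symm) := by
  refine ⟨?_, ?_, ?_, ?_⟩
  · intro z
    obtain ⟨x, n, rfl⟩ := exists_mk' c' z
    rw [awayHom_mk', awayHom_mk', awayHom_mk', awayHom_mk', h.comm x]
  · intro z
    obtain ⟨b, n, rfl⟩ := exists_mk' (φ (π₁ c')) z
    obtain ⟨b₀, rfl⟩ := h.surj b
    exact ⟨IsLocalization.mk' _ b₀ (pw (π₁ c') n), awayHom_mk' _ _ _ _ _ _⟩
  · intro z h1 h2
    obtain ⟨x, n, rfl⟩ := exists_mk' c' z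
    rw [awayHom_mk', IsLocalization.mk'_eq_zero_iff] at h1 h2
    obtain ⟨⟨_, a, rfl⟩, ha⟩ := h1
    obtain ⟨⟨_, b, rfl⟩, hb⟩ := h2
    have ha' : π₁ c' ^ a * π₁ x = 0 := ha
    have hb' : π₂ c' ^ b * π₂ x = 0 := hb
    rw [IsLocalization.mk'_eq_zero_iff]
    refine ⟨pw c' (a + b), ?_⟩
    apply h.inj
    · show π₁ (c' ^ (a + b) * x) = 0
      rw [map_mul, map_pow, pow_add, mul_comm (π₁ c' ^ a) (π₁ c' ^ b), mul_assoc, ha', mul_zero]
    · show π₂ (c' ^ (a + b) * x) = 0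
      rw [map_mul, map_pow, pow_add, mul_assoc, hb', mul_zero]
  · intro x y hxy
    obtain ⟨b, n, rfl⟩ := exists_mk' (π₁ c') x
    obtain ⟨c₁, m, rfl⟩ := exists_mk' (π₂ c') y
    rw [awayHom_mk', awayHom_mk', IsLocalization.eq] at hxy
    obtain ⟨⟨_, l, rfl⟩, hl⟩ := hxy
    have hl' : φ (π₁ c') ^ l * (φ (π₁ c') ^ m * φ b) =
        φ (π₁ c') ^ l * (φ (π₁ c') ^ n * ψ c₁) := hl
    obtain ⟨w, hw1, hw2⟩ := h.ex (π₁ c' ^ l * (π₁ c' ^ m * b)) (π₂ c' ^ l * (π₂ c' ^ n * c₁)) (by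
      simp only [map_mul, map_pow]
      rw [← h.comm c']
      exact hl')
    refine ⟨IsLocalization.mk' _ w (pw c' (l + m + n)), ?_, ?_⟩
    · rw [awayHom_mk', hw1]
      apply IsLocalization.mk'_eq_of_eq
      show π₁ c' ^ (l + m + n) * b = π₁ c' ^ n * (π₁ c' ^ l * (π₁ c' ^ m * b))
      ring
    · rw [awayHom_mk', hw2]
      apply IsLocalization.mk'_eq_of_eq
      show π₂ c' ^ (l + m + n) * c₁ = π₂ c' ^ m * (π₂ c' ^ l * (π₂ c' ^ n * c₁))
      ring

open PrimeSpectrum in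
theorem exists_basic₂ (h : RPB π₁ π₂ φ ψ) (A : Set (PrimeSpectrum B')) (hA : IsOpen A)
    (Bo : Set (PrimeSpectrum C)) (hBo : IsOpen Bo)
    (hAB : ∀ z : PrimeSpectrum B, comap φ z ∈ A ↔ comap ψ z ∈ Bo)
    (y : PrimeSpectrum C) (hy : y ∈ Bo) :
    ∃ c' : C', c' ∉ (comap π₂ y).asIdeal ∧ (∀ q : PrimeSpectrum B', π₁ c' ∉ q.asIdeal → q ∈ A) ∧
      (∀ y' : PrimeSpectrum C, π₂ c' ∉ y'.asIdeal → y' ∈ Bo) := by
  obtain ⟨_, ⟨c₀, rfl⟩, hy0, hsub⟩ :=
    isTopologicalBasis_basic_opens.exists_subset_of_mem_open hy hBo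
  have hy0' : c₀ ∉ y.asIdeal := hy0
  have hzl : zeroLocus ((vanishingIdeal Aᶜ : Ideal B') : Set B') = Aᶜ := by
    rw [zeroLocus_vanishingIdeal_eq_closure, hA.isClosed_compl.closure_eq]
  have hrad : ψ c₀ ∈ ((vanishingIdeal Aᶜ : Ideal B').map φ).radical := by
    rw [Ideal.radical_eq_sInf, Ideal.mem_sInf]
    rintro Pz ⟨hle, hPz⟩
    by_contra hnot
    let z : PrimeSpectrum B := ⟨Pz, hPz⟩
    have h1 : comap ψ z ∈ Bo := hsub (show c₀ ∉ (comap ψ z).asIdeal from hnot)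
    have h2 : comap φ z ∈ A := (hAB z).mpr h1
    have h3 : comap φ z ∈ zeroLocus ((vanishingIdeal Aᶜ : Ideal B') : Set B') := by
      rw [mem_zeroLocus]
      exact Ideal.map_le_iff_le_comap.mp hle
    rw [hzl] at h3
    exact h3 h2
  obtain ⟨n, hn⟩ := Ideal.mem_radical_iff.mp hrad
  have hn' : ψ c₀ ^ (n + 1) ∈ (vanishingIdeal Aᶜ : Ideal B').map φ := by
    rw [pow_succ]
    exact Ideal.mul_mem_right _ _ hn
  obtain ⟨j', hj', hj'eq⟩ := (Ideal.mem_map_iff_of_surjective φ h.surj).mp hn'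
  obtain ⟨c', hc1, hc2⟩ := h.ex j' (c₀ ^ (n + 1)) (by rw [hj'eq, map_pow])
  refine ⟨c', ?_, ?_, ?_⟩
  · show π₂ c' ∉ y.asIdeal
    rw [hc2]
    intro hmem
    exact hy0' (y.isPrime.mem_of_pow_mem _ hmem)
  · intro q hq
    rw [hc1] at hq
    by_contra hqA
    have hqz : q ∈ zeroLocus ((vanishingIdeal Aᶜ : Ideal B') : Set B') := by
      rw [hzl]; exact hqA
    rw [mem_zeroLocus] at hqz
    exact hq (hqz hj')
  · intro y' hy'
    rw [hc2] at hy'
    apply hsub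
    show c₀ ∉ y'.asIdeal
    intro hc
    exact hy' (Ideal.pow_mem_of_mem _ hc _ (Nat.succ_pos n))

open PrimeSpectrum in
theorem exists_basic₁ (h : RPB π₁ π₂ φ ψ) (A : Set (PrimeSpectrum B')) (hA : IsOpen A)
    (q : PrimeSpectrum B') (hq : q ∈ A) (hk : ¬ RingHom.ker π₂ ≤ (comap π₁ q).asIdeal) :
    ∃ c' : C', c' ∉ (comap π₁ q).asIdeal ∧ (∀ q' : PrimeSpectrum B', π₁ c' ∉ q'.asIdeal → q' ∈ A) ∧
      π₂ c' = 0 := by
  obtain ⟨e, he, hep⟩ := SetLike.not_le_iff_exists.mp hk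
  have he2 : π₂ e = 0 := he
  have hep' : π₁ e ∉ q.asIdeal := hep
  obtain ⟨_, ⟨j₀, rfl⟩, hq0, hsub⟩ :=
    isTopologicalBasis_basic_opens.exists_subset_of_mem_open hq hA
  have hq0' : j₀ ∉ q.asIdeal := hq0
  obtain ⟨c', hc1, hc2⟩ := h.ex (j₀ * π₁ e) 0 (by
    rw [map_mul, h.comm, he2, map_zero, mul_zero])
  refine ⟨c', ?_, ?_, hc2⟩
  · show π₁ c' ∉ q.asIdeal
    rw [hc1]
    intro hmem
    rcases q.isPrime.mem_or_mem hmem with h1 | h1
    · exact hq0' h1
    · exact hep' h1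
  · intro q' hq'
    rw [hc1] at hq'
    apply hsub
    show j₀ ∉ q'.asIdeal
    intro hj
    exact hq' (Ideal.mul_mem_right _ _ hj)

end RPB

end Groth.Agent.Helper17.AG57
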