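import Mathlib
import Groth.Agent.Lib.Helper17.AG57

/-!
# Affine Ferrand push-outs: maps out of `Spec` of a ring pullback (helper17)

For a pullback square of rings `RPB π₁ π₂ φ ψ`: maps from `Spec C'` to an affine scheme are glued
from maps out of `Spec B'` and `Spec C` (`desc_affine`, `hom_ext_affine`), every point comes from
`Spec B'` or `Spec C` (`exists_point`), and maps to an arbitrary scheme extend locally on
`Spec C'` (`local_desc`).
-/

set_option autoImplicit false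
universe u
open CategoryTheory CategoryTheory.Limits AlgebraicGeometry Opposite

noncomputable section
namespace Groth.Agent.Helper17.AG58
open Groth.Agent.Helper17.AG57

/-- `Spec` of a ring homomorphism between types -/
abbrev Sp {R P : Type u} [CommRing R] [CommRing P] (f : R →+* P) :
    Spec (CommRingCat.of P) ⟶ Spec (CommRingCat.of R) := Spec.map (CommRingCat.ofHom f)

theorem Sp_comp {R P Q : Type u} [CommRing R] [CommRing P] [CommRing Q] (f : R →+* P)
    (g : P →+* Q) : Sp (g.comp f) = Sp g ≫ Sp f := by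
  rw [Sp, CommRingCat.ofHom_comp, Spec.map_comp]

theorem mem_range_Sp_away {R : Type u} [CommRing R] (r : R) (x : Spec (CommRingCat.of R)) :
    x ∈ Set.range (Sp (algebraMap R (Localization.Away r))) ↔
      r ∉ (x : PrimeSpectrum R).asIdeal := by
  have h := PrimeSpectrum.localization_away_comap_range (Localization.Away r) r
  constructor
  · rintro ⟨s, rfl⟩
    exact not_mem_of_away r s
  · intro hx
    have hx' : (x : PrimeSpectrum R) ∈ (PrimeSpectrum.basicOpen r : Set (PrimeSpectrum R)) := hx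
    rw [← h] at hx'
    obtain ⟨s, hs⟩ := hx'
    exact ⟨s, hs⟩

variable {C' B' B C : Type u} [CommRing C'] [CommRing B'] [CommRing B] [CommRing C]
variable {π₁ : C' →+* B'} {π₂ : C' →+* C} {φ : B' →+* B} {ψ : C →+* B}

theorem desc_affine (h : RPB π₁ π₂ φ ψ) {R : CommRingCat.{u}}
    (a : Spec (CommRingCat.of B') ⟶ Spec R) (b : Spec (CommRingCat.of C) ⟶ Spec R)
    (hab : Sp φ ≫ a = Sp ψ ≫ b) :
    ∃ t : Spec (CommRingCat.of C') ⟶ Spec R, Sp π₁ ≫ t = a ∧ Sp π₂ ≫ t = b := by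
  have ha : Spec.map (Spec.preimage a) = a := Spec.map_preimage a
  have hb : Spec.map (Spec.preimage b) = b := Spec.map_preimage b
  have e : Spec.preimage a ≫ CommRingCat.ofHom φ = Spec.preimage b ≫ CommRingCat.ofHom ψ := by
    apply Spec.map_injective
    rw [Spec.map_comp, Spec.map_comp, ha, hb]
    exact hab
  obtain ⟨f, hf1, hf2⟩ := h.lift (Spec.preimage a).hom (Spec.preimage b).hom (by
    intro r
    exact congrArg (fun g => g.hom r) e)
  refine ⟨Spec.map (CommRingCat.ofHom f), ?_, ?_⟩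
  · calc Sp π₁ ≫ Spec.map (CommRingCat.ofHom f)
        = Spec.map (CommRingCat.ofHom f ≫ CommRingCat.ofHom π₁) := (Spec.map_comp _ _).symm
      _ = Spec.map (Spec.preimage a) := congrArg Spec.map (by ext r; exact hf1 r)
      _ = a := ha
  · calc Sp π₂ ≫ Spec.map (CommRingCat.ofHom f)
        = Spec.map (CommRingCat.ofHom f ≫ CommRingCat.ofHom π₂) := (Spec.map_comp _ _).symm
      _ = Spec.map (Spec.preimage b) := congrArg Spec.map (by ext r; exact hf2 r)
      _ = b := hb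

theorem hom_ext_affine (h : RPB π₁ π₂ φ ψ) {R : CommRingCat.{u}}
    (t₁ t₂ : Spec (CommRingCat.of C') ⟶ Spec R)
    (h1 : Sp π₁ ≫ t₁ = Sp π₁ ≫ t₂) (h2 : Sp π₂ ≫ t₁ = Sp π₂ ≫ t₂) : t₁ = t₂ := by
  have e1 : Spec.preimage t₁ ≫ CommRingCat.ofHom π₁ = Spec.preimage t₂ ≫ CommRingCat.ofHom π₁ := by
    apply Spec.map_injective
    rw [Spec.map_comp, Spec.map_comp, Spec.map_preimage, Spec.map_preimage]
    exact h1
  have e2 : Spec.preimage t₁ ≫ CommRingCat.ofHom π₂ = Spec.preimage t₂ ≫ CommRingCat.ofHom π₂ := by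
    apply Spec.map_injective
    rw [Spec.map_comp, Spec.map_comp, Spec.map_preimage, Spec.map_preimage]
    exact h2
  have e : Spec.preimage t₁ = Spec.preimage t₂ := by
    ext r
    exact h.ext' (congrArg (fun g => g.hom r) e1) (congrArg (fun g => g.hom r) e2)
  calc t₁ = Spec.map (Spec.preimage t₁) := (Spec.map_preimage _).symm
    _ = Spec.map (Spec.preimage t₂) := by rw [e]
    _ = t₂ := Spec.map_preimage _

theorem exists_point (h : RPB π₁ π₂ φ ψ) (p : Spec (CommRingCat.of C')) :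
    (∃ q : Spec (CommRingCat.of B'), Sp π₁ q = p) ∨ (∃ y : Spec (CommRingCat.of C), Sp π₂ y = p) := by
  by_cases hk : RingHom.ker π₂ ≤ (p : PrimeSpectrum C').asIdeal
  · obtain ⟨y, hy⟩ := h.exists_prime₂ p hk
    exact Or.inr ⟨y, hy⟩
  · obtain ⟨q, hq⟩ := h.exists_prime₁ p hk
    exact Or.inl ⟨q, hq⟩

theorem local_desc_aux (h : RPB π₁ π₂ φ ψ) {W : Scheme.{u}} (a : Spec (CommRingCat.of B') ⟶ W)
    (b : Spec (CommRingCat.of C) ⟶ W) (hab : Sp φ ≫ a = Sp ψ ≫ b) (c' : C')
    (i₀ : W.affineOpenCover.I₀)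
    (hA : ∀ q : Spec (CommRingCat.of B'), π₁ c' ∉ (q : PrimeSpectrum B').asIdeal →
      a q ∈ Set.range (W.affineOpenCover.f i₀))
    (hB : ∀ y : Spec (CommRingCat.of C), π₂ c' ∉ (y : PrimeSpectrum C).asIdeal →
      b y ∈ Set.range (W.affineOpenCover.f i₀)) :
    ∃ t : Spec (CommRingCat.of (Localization.Away c')) ⟶ W,
      Sp (awayHom π₁ c' (π₁ c') rfl) ≫ t = Sp (algebraMap B' (Localization.Away (π₁ c'))) ≫ a ∧
      Sp (awayHom π₂ c' (π₂ c') rfl) ≫ t = Sp (algebraMap C (Localization.Away (π₂ c'))) ≫ b := by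
  have hu₁ : Set.range (Sp (algebraMap B' (Localization.Away (π₁ c'))) ≫ a) ⊆
      Set.range (W.affineOpenCover.f i₀) := by
    rintro _ ⟨s, rfl⟩
    rw [Scheme.Hom.comp_apply]
    exact hA _ (not_mem_of_away (π₁ c') s)
  have hu₂ : Set.range (Sp (algebraMap C (Localization.Away (π₂ c'))) ≫ b) ⊆
      Set.range (W.affineOpenCover.f i₀) := by
    rintro _ ⟨s, rfl⟩
    rw [Scheme.Hom.comp_apply]
    exact hB _ (not_mem_of_away (π₂ c') s)
  have e₁ := IsOpenImmersion.lift_fac (W.affineOpenCover.f i₀) _ hu₁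
  have e₂ := IsOpenImmersion.lift_fac (W.affineOpenCover.f i₀) _ hu₂
  have r1 : Sp (awayHom φ (π₁ c') (φ (π₁ c')) rfl) ≫ Sp (algebraMap B' (Localization.Away (π₁ c'))) =
      Sp (algebraMap B (Localization.Away (φ (π₁ c')))) ≫ Sp φ := by
    rw [← Sp_comp, ← Sp_comp]
    exact congrArg Sp (RingHom.ext fun x => awayHom_algebraMap φ (π₁ c') _ rfl x)
  have r2 : Sp (awayHom ψ (π₂ c') (φ (π₁ c')) (h.comm c').symm) ≫
      Sp (algebraMap C (Localization.Away (π₂ c'))) =
      Sp (algebraMap B (Localization.Away (φ (π₁ c')))) ≫ Sp ψ := by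
    rw [← Sp_comp, ← Sp_comp]
    exact congrArg Sp (RingHom.ext fun x => awayHom_algebraMap ψ (π₂ c') _ (h.comm c').symm x)
  have compat : Sp (awayHom φ (π₁ c') (φ (π₁ c')) rfl) ≫
      IsOpenImmersion.lift (W.affineOpenCover.f i₀) _ hu₁ =
      Sp (awayHom ψ (π₂ c') (φ (π₁ c')) (h.comm c').symm) ≫
      IsOpenImmersion.lift (W.affineOpenCover.f i₀) _ hu₂ := by
    rw [← cancel_mono (W.affineOpenCover.f i₀), Category.assoc, Category.assoc, e₁, e₂,
      reassoc_of% r1, reassoc_of% r2, hab]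
  obtain ⟨t₀, ht1, ht2⟩ := desc_affine (h.away c') _ _ compat
  refine ⟨t₀ ≫ W.affineOpenCover.f i₀, ?_, ?_⟩
  · rw [← Category.assoc, ht1, e₁]
  · rw [← Category.assoc, ht2, e₂]

theorem local_desc (h : RPB π₁ π₂ φ ψ) {W : Scheme.{u}} (a : Spec (CommRingCat.of B') ⟶ W)
    (b : Spec (CommRingCat.of C) ⟶ W) (hab : Sp φ ≫ a = Sp ψ ≫ b)
    (p : Spec (CommRingCat.of C')) :
    ∃ c' : C', c' ∉ (p : PrimeSpectrum C').asIdeal ∧
      ∃ t : Spec (CommRingCat.of (Localization.Away c')) ⟶ W,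
      Sp (awayHom π₁ c' (π₁ c') rfl) ≫ t = Sp (algebraMap B' (Localization.Away (π₁ c'))) ≫ a ∧
      Sp (awayHom π₂ c' (π₂ c') rfl) ≫ t = Sp (algebraMap C (Localization.Away (π₂ c'))) ≫ b := by
  have hopen : ∀ i₀ : W.affineOpenCover.I₀, IsOpen (Set.range (W.affineOpenCover.f i₀)) :=
    fun i₀ => (W.affineOpenCover.f i₀).isOpenEmbedding.isOpen_range
  by_cases hk : RingHom.ker π₂ ≤ (p : PrimeSpectrum C').asIdeal
  · obtain ⟨y, hy⟩ := h.exists_prime₂ p hk
    let y' : Spec (CommRingCat.of C) := y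
    let i₀ := W.affineOpenCover.idx (b y')
    have hcov : b y' ∈ Set.range (W.affineOpenCover.f i₀) := W.affineOpenCover.covers (b y')
    have hAB : ∀ z : PrimeSpectrum B,
        PrimeSpectrum.comap φ z ∈ (a ⁻¹' Set.range (W.affineOpenCover.f i₀)) ↔
        PrimeSpectrum.comap ψ z ∈ (b ⁻¹' Set.range (W.affineOpenCover.f i₀)) := by
      intro z
      let z' : Spec (CommRingCat.of B) := z
      have e : a (Sp φ z') = b (Sp ψ z') := by
        rw [← Scheme.Hom.comp_apply, ← Scheme.Hom.comp_apply, hab]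
      show a (Sp φ z') ∈ Set.range (W.affineOpenCover.f i₀) ↔
        b (Sp ψ z') ∈ Set.range (W.affineOpenCover.f i₀)
      rw [e]
    obtain ⟨c', hc, hcA, hcB⟩ := h.exists_basic₂ (a ⁻¹' Set.range (W.affineOpenCover.f i₀))
      ((hopen i₀).preimage a.continuous) (b ⁻¹' Set.range (W.affineOpenCover.f i₀))
      ((hopen i₀).preimage b.continuous) hAB y hcov
    rw [hy] at hc
    obtain ⟨t, ht⟩ := local_desc_aux h a b hab c' i₀ (fun q hq => hcA q hq)
      (fun y'' hy'' => hcB y'' hy'')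
    exact ⟨c', hc, t, ht⟩
  · obtain ⟨q, hq⟩ := h.exists_prime₁ p hk
    let q' : Spec (CommRingCat.of B') := q
    let i₀ := W.affineOpenCover.idx (a q')
    have hcov : a q' ∈ Set.range (W.affineOpenCover.f i₀) := W.affineOpenCover.covers (a q')
    have hk' : ¬ RingHom.ker π₂ ≤ (PrimeSpectrum.comap π₁ q).asIdeal := by
      rw [hq]; exact hk
    obtain ⟨c', hc, hcA, hc0⟩ := h.exists_basic₁ (a ⁻¹' Set.range (W.affineOpenCover.f i₀))
      ((hopen i₀).preimage a.continuous) q hcov hk'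
    rw [hq] at hc
    obtain ⟨t, ht⟩ := local_desc_aux h a b hab c' i₀ (fun q₁ hq₁ => hcA q₁ hq₁)
      (fun y'' hy'' => absurd (by rw [hc0]; exact Ideal.zero_mem _) hy'')
    exact ⟨c', hc, t, ht⟩

end Groth.Agent.Helper17.AG58
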