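import Mathlib
import Groth.Agent.Lib.Helper17.AG58

/-!
# Ferrand push-outs of schemes from affine charts (helper17)

A commutative square of schemes `i : Z ⟶ X`, `g : Z ⟶ Y`, `α : X ⟶ P`, `β : Y ⟶ P` which, locally on
`P`, is `Spec` of a pullback square of rings `C' = B' ×_B C` with `B' → B` surjective (a `Chart`
around every point of `P`) is a push-out square in the category of schemes
(`isPushout_of_charts`).
-/

set_option autoImplicit false
universe u
open CategoryTheory CategoryTheory.Limits AlgebraicGeometry Opposite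

noncomputable section
namespace Groth.Agent.Helper17.AG59
open Groth.Agent.Helper17.AG57 Groth.Agent.Helper17.AG58

variable {Z X Y P : Scheme.{u}}

/-- an affine chart of a Ferrand square -/
structure Chart (i : Z ⟶ X) (g : Z ⟶ Y) (α : X ⟶ P) (β : Y ⟶ P) where
  C' : Type u
  B' : Type u
  B : Type u
  C : Type u
  [iC' : CommRing C']
  [iB' : CommRing B']
  [iB : CommRing B]
  [iC : CommRing C]
  π₁ : C' →+* B'
  π₂ : C' →+* C
  φ : B' →+* B
  ψ : C →+* B
  rpb : RPB π₁ π₂ φ ψ
  k : Spec (CommRingCat.of C') ⟶ P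
  kX : Spec (CommRingCat.of B') ⟶ X
  kY : Spec (CommRingCat.of C) ⟶ Y
  kZ : Spec (CommRingCat.of B) ⟶ Z
  hk : IsOpenImmersion k
  hkX : IsOpenImmersion kX
  hkY : IsOpenImmersion kY
  wX : kX ≫ α = Sp π₁ ≫ k
  wY : kY ≫ β = Sp π₂ ≫ k
  wZX : kZ ≫ i = Sp φ ≫ kX
  wZY : kZ ≫ g = Sp ψ ≫ kY
  preX : ∀ x : X, α x ∈ Set.range k → x ∈ Set.range kX
  preY : ∀ y : Y, β y ∈ Set.range k → y ∈ Set.range kY

attribute [instance] Chart.iC' Chart.iB' Chart.iB Chart.iC Chart.hk Chart.hkX Chart.hkY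

variable {i : Z ⟶ X} {g : Z ⟶ Y} {α : X ⟶ P} {β : Y ⟶ P}

theorem jointly_epi (H : ∀ p : P, ∃ ch : Chart i g α β, p ∈ Set.range ch.k)
    {Q W : Scheme.{u}} (j : Q ⟶ P) [IsOpenImmersion j] (h₁ h₂ : Q ⟶ W)
    (hX : ∀ (V : Scheme.{u}) (x : V ⟶ X) (v : V ⟶ Q), x ≫ α = v ≫ j → v ≫ h₁ = v ≫ h₂)
    (hY : ∀ (V : Scheme.{u}) (y : V ⟶ Y) (v : V ⟶ Q), y ≫ β = v ≫ j → v ≫ h₁ = v ≫ h₂) :
    h₁ = h₂ := by
  have hpt : ∀ q : Q, h₁ q = h₂ q := by
    intro q
    obtain ⟨ch, p', hp'⟩ := H (j q)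
    rcases exists_point ch.rpb p' with ⟨q', hq'⟩ | ⟨y', hy'⟩
    · have e : α (ch.kX q') = j q := by
        rw [← Scheme.Hom.comp_apply, ch.wX, Scheme.Hom.comp_apply, hq', hp']
      obtain ⟨z, hz1, hz2⟩ := Scheme.Pullback.exists_preimage_pullback (ch.kX q') q e
      have := hX _ (pullback.fst α j) (pullback.snd α j) pullback.condition
      rw [← hz2, ← Scheme.Hom.comp_apply, ← Scheme.Hom.comp_apply, this]
    · have e : β (ch.kY y') = j q := by
        rw [← Scheme.Hom.comp_apply, ch.wY, Scheme.Hom.comp_apply, hy', hp']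
      obtain ⟨z, hz1, hz2⟩ := Scheme.Pullback.exists_preimage_pullback (ch.kY y') q e
      have := hY _ (pullback.fst β j) (pullback.snd β j) pullback.condition
      rw [← hz2, ← Scheme.Hom.comp_apply, ← Scheme.Hom.comp_apply, this]
  have hloc : ∀ q : Q, ∃ (R : CommRingCat.{u}) (m : Spec R ⟶ Q), IsOpenImmersion m ∧
      q ∈ Set.range m ∧ m ≫ h₁ = m ≫ h₂ := by
    intro q
    obtain ⟨ch, p', hp'⟩ := H (j q)
    let i₀ := W.affineOpenCover.idx (h₁ q)
    have hcov : h₁ q ∈ Set.range (W.affineOpenCover.f i₀) := W.affineOpenCover.covers (h₁ q)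
    have hΩ : IsOpen (ch.k ⁻¹' (j '' (h₁ ⁻¹' Set.range (W.affineOpenCover.f i₀)))) :=
      (j.isOpenEmbedding.isOpenMap _
        ((W.affineOpenCover.f i₀).isOpenEmbedding.isOpen_range.preimage h₁.continuous)).preimage
        ch.k.continuous
    have hp'Ω : (p' : PrimeSpectrum ch.C') ∈
        (ch.k ⁻¹' (j '' (h₁ ⁻¹' Set.range (W.affineOpenCover.f i₀)))) :=
      ⟨q, hcov, hp'.symm⟩
    obtain ⟨_, ⟨c', rfl⟩, hp'c, hsub⟩ :=
      PrimeSpectrum.isTopologicalBasis_basic_opens.exists_subset_of_mem_open hp'Ω hΩ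
    have hp'c' : c' ∉ (p' : PrimeSpectrum ch.C').asIdeal := hp'c
    have hrange : Set.range (Sp (algebraMap ch.C' (Localization.Away c')) ≫ ch.k) ⊆ Set.range j := by
      rintro _ ⟨s, rfl⟩
      rw [Scheme.Hom.comp_apply]
      obtain ⟨q₁, -, hq₁⟩ := hsub (show _ ∈ (PrimeSpectrum.basicOpen c' : Set (PrimeSpectrum ch.C'))
        from not_mem_of_away c' s)
      exact ⟨q₁, hq₁⟩
    have hm := IsOpenImmersion.lift_fac j _ hrange
    haveI : IsOpenImmersion (IsOpenImmersion.lift j _ hrange ≫ j) := by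
      rw [hm]; infer_instance
    haveI : IsOpenImmersion (IsOpenImmersion.lift j _ hrange) := IsOpenImmersion.of_comp _ j
    have hland : ∀ s, h₁ (IsOpenImmersion.lift j _ hrange s) ∈
        Set.range (W.affineOpenCover.f i₀) := by
      intro s
      obtain ⟨q₁, hq₁a, hq₁⟩ := hsub (show _ ∈ (PrimeSpectrum.basicOpen c' : Set (PrimeSpectrum ch.C'))
        from not_mem_of_away c' s)
      have e : j (IsOpenImmersion.lift j _ hrange s) = j q₁ := by
        rw [← Scheme.Hom.comp_apply, hm, Scheme.Hom.comp_apply]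
        exact hq₁.symm
      rw [j.isOpenEmbedding.injective e]
      exact hq₁a
    have hr₁ : Set.range (IsOpenImmersion.lift j _ hrange ≫ h₁) ⊆
        Set.range (W.affineOpenCover.f i₀) := by
      rintro _ ⟨s, rfl⟩
      rw [Scheme.Hom.comp_apply]
      exact hland s
    have hr₂ : Set.range (IsOpenImmersion.lift j _ hrange ≫ h₂) ⊆
        Set.range (W.affineOpenCover.f i₀) := by
      rintro _ ⟨s, rfl⟩
      rw [Scheme.Hom.comp_apply, ← hpt]
      exact hland s
    have f₁ := IsOpenImmersion.lift_fac (W.affineOpenCover.f i₀) _ hr₁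
    have f₂ := IsOpenImmersion.lift_fac (W.affineOpenCover.f i₀) _ hr₂
    have rX : Sp (algebraMap ch.B' (Localization.Away (ch.π₁ c'))) ≫ Sp ch.π₁ =
        Sp (awayHom ch.π₁ c' (ch.π₁ c') rfl) ≫ Sp (algebraMap ch.C' (Localization.Away c')) := by
      rw [← Sp_comp, ← Sp_comp]
      exact congrArg Sp (RingHom.ext fun x => (awayHom_algebraMap ch.π₁ c' _ rfl x).symm)
    have rY : Sp (algebraMap ch.C (Localization.Away (ch.π₂ c'))) ≫ Sp ch.π₂ =
        Sp (awayHom ch.π₂ c' (ch.π₂ c') rfl) ≫ Sp (algebraMap ch.C' (Localization.Away c')) := by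
      rw [← Sp_comp, ← Sp_comp]
      exact congrArg Sp (RingHom.ext fun x => (awayHom_algebraMap ch.π₂ c' _ rfl x).symm)
    have key : IsOpenImmersion.lift (W.affineOpenCover.f i₀) _ hr₁ =
        IsOpenImmersion.lift (W.affineOpenCover.f i₀) _ hr₂ := by
      apply hom_ext_affine (ch.rpb.away c')
      · rw [← cancel_mono (W.affineOpenCover.f i₀), Category.assoc, Category.assoc, f₁, f₂]
        have := hX _ (Sp (algebraMap ch.B' (Localization.Away (ch.π₁ c'))) ≫ ch.kX)
          (Sp (awayHom ch.π₁ c' (ch.π₁ c') rfl) ≫ IsOpenImmersion.lift j _ hrange) (by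
            rw [Category.assoc, ch.wX, Category.assoc, hm, reassoc_of% rX])
        simpa only [Category.assoc] using this
      · rw [← cancel_mono (W.affineOpenCover.f i₀), Category.assoc, Category.assoc, f₁, f₂]
        have := hY _ (Sp (algebraMap ch.C (Localization.Away (ch.π₂ c'))) ≫ ch.kY)
          (Sp (awayHom ch.π₂ c' (ch.π₂ c') rfl) ≫ IsOpenImmersion.lift j _ hrange) (by
            rw [Category.assoc, ch.wY, Category.assoc, hm, reassoc_of% rY])
        simpa only [Category.assoc] using this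
    refine ⟨CommRingCat.of (Localization.Away c'), IsOpenImmersion.lift j _ hrange, inferInstance,
      ?_, ?_⟩
    · obtain ⟨s, hs⟩ := (mem_range_Sp_away c' p').mpr hp'c'
      refine ⟨s, j.isOpenEmbedding.injective ?_⟩
      rw [← Scheme.Hom.comp_apply, hm, Scheme.Hom.comp_apply, hs, hp']
    · rw [← f₁, ← f₂, key]
  choose R m hm1 hm2 hm3 using hloc
  let 𝒰 : Q.AffineOpenCover :=
    { I₀ := Q, X := R, f := m, idx := fun q => q, covers := hm2, map_prop := hm1 }
  exact 𝒰.openCover.hom_ext _ _ hm3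

theorem local_ext (H : ∀ p : P, ∃ ch : Chart i g α β, p ∈ Set.range ch.k) {W : Scheme.{u}}
    (a : X ⟶ W) (b : Y ⟶ W) (hab : i ≫ a = g ≫ b) (p : P) :
    ∃ (R : CommRingCat.{u}) (m : Spec R ⟶ P), IsOpenImmersion m ∧ p ∈ Set.range m ∧
      ∃ hm : Spec R ⟶ W,
        (∀ (V : Scheme.{u}) (x : V ⟶ X) (v : V ⟶ Spec R), x ≫ α = v ≫ m → v ≫ hm = x ≫ a) ∧
        (∀ (V : Scheme.{u}) (y : V ⟶ Y) (v : V ⟶ Spec R), y ≫ β = v ≫ m → v ≫ hm = y ≫ b) := by
  obtain ⟨ch, p', hp'⟩ := H p
  have hab' : Sp ch.φ ≫ (ch.kX ≫ a) = Sp ch.ψ ≫ (ch.kY ≫ b) := by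
    rw [← Category.assoc, ← ch.wZX, ← Category.assoc, ← ch.wZY, Category.assoc, Category.assoc, hab]
  obtain ⟨c', hc', t, ht1, ht2⟩ := local_desc ch.rpb (ch.kX ≫ a) (ch.kY ≫ b) hab' p'
  have rX : Sp (awayHom ch.π₁ c' (ch.π₁ c') rfl) ≫ Sp (algebraMap ch.C' (Localization.Away c')) =
      Sp (algebraMap ch.B' (Localization.Away (ch.π₁ c'))) ≫ Sp ch.π₁ := by
    rw [← Sp_comp, ← Sp_comp]
    exact congrArg Sp (RingHom.ext fun x => awayHom_algebraMap ch.π₁ c' _ rfl x)
  have rY : Sp (awayHom ch.π₂ c' (ch.π₂ c') rfl) ≫ Sp (algebraMap ch.C' (Localization.Away c')) =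
      Sp (algebraMap ch.C (Localization.Away (ch.π₂ c'))) ≫ Sp ch.π₂ := by
    rw [← Sp_comp, ← Sp_comp]
    exact congrArg Sp (RingHom.ext fun x => awayHom_algebraMap ch.π₂ c' _ rfl x)
  refine ⟨CommRingCat.of (Localization.Away c'),
    Sp (algebraMap ch.C' (Localization.Away c')) ≫ ch.k, inferInstance, ?_, t, ?_, ?_⟩
  · obtain ⟨s, hs⟩ := (mem_range_Sp_away c' p').mpr hc'
    exact ⟨s, by rw [Scheme.Hom.comp_apply, hs, hp']⟩
  · intro V x v hxv
    have hx1 : Set.range x ⊆ Set.range ch.kX := by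
      rintro _ ⟨s, rfl⟩
      apply ch.preX
      rw [← Scheme.Hom.comp_apply, hxv, Scheme.Hom.comp_apply, Scheme.Hom.comp_apply]
      exact ⟨_, rfl⟩
    have hx' := IsOpenImmersion.lift_fac ch.kX x hx1
    have hx'π : IsOpenImmersion.lift ch.kX x hx1 ≫ Sp ch.π₁ =
        v ≫ Sp (algebraMap ch.C' (Localization.Away c')) := by
      rw [← cancel_mono ch.k, Category.assoc, ← ch.wX, ← Category.assoc, hx', hxv, Category.assoc]
    have hx2 : Set.range (IsOpenImmersion.lift ch.kX x hx1) ⊆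
        Set.range (Sp (algebraMap ch.B' (Localization.Away (ch.π₁ c')))) := by
      rintro _ ⟨s, rfl⟩
      rw [mem_range_Sp_away]
      have e : Sp ch.π₁ (IsOpenImmersion.lift ch.kX x hx1 s) =
          Sp (algebraMap ch.C' (Localization.Away c')) (v s) := by
        rw [← Scheme.Hom.comp_apply, hx'π, Scheme.Hom.comp_apply]
      have hn : c' ∉ ((Sp ch.π₁ (IsOpenImmersion.lift ch.kX x hx1 s) :
          Spec (CommRingCat.of ch.C')) : PrimeSpectrum ch.C').asIdeal := by
        rw [e]; exact not_mem_of_away c' (v s)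
      exact hn
    have hx'' := IsOpenImmersion.lift_fac (Sp (algebraMap ch.B' (Localization.Away (ch.π₁ c'))))
      _ hx2
    have hv : IsOpenImmersion.lift (Sp (algebraMap ch.B' (Localization.Away (ch.π₁ c')))) _ hx2 ≫
        Sp (awayHom ch.π₁ c' (ch.π₁ c') rfl) = v := by
      rw [← cancel_mono (Sp (algebraMap ch.C' (Localization.Away c'))), Category.assoc, rX,
        ← Category.assoc, hx'', hx'π]
    calc v ≫ t = IsOpenImmersion.lift (Sp (algebraMap ch.B' (Localization.Away (ch.π₁ c')))) _ hx2 ≫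
          Sp (awayHom ch.π₁ c' (ch.π₁ c') rfl) ≫ t := by rw [← Category.assoc, hv]
      _ = x ≫ a := by rw [ht1, ← Category.assoc, hx'', ← Category.assoc, hx']
  · intro V y v hyv
    have hy1 : Set.range y ⊆ Set.range ch.kY := by
      rintro _ ⟨s, rfl⟩
      apply ch.preY
      rw [← Scheme.Hom.comp_apply, hyv, Scheme.Hom.comp_apply, Scheme.Hom.comp_apply]
      exact ⟨_, rfl⟩
    have hy' := IsOpenImmersion.lift_fac ch.kY y hy1
    have hy'π : IsOpenImmersion.lift ch.kY y hy1 ≫ Sp ch.π₂ =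
        v ≫ Sp (algebraMap ch.C' (Localization.Away c')) := by
      rw [← cancel_mono ch.k, Category.assoc, ← ch.wY, ← Category.assoc, hy', hyv, Category.assoc]
    have hy2 : Set.range (IsOpenImmersion.lift ch.kY y hy1) ⊆
        Set.range (Sp (algebraMap ch.C (Localization.Away (ch.π₂ c')))) := by
      rintro _ ⟨s, rfl⟩
      rw [mem_range_Sp_away]
      have e : Sp ch.π₂ (IsOpenImmersion.lift ch.kY y hy1 s) =
          Sp (algebraMap ch.C' (Localization.Away c')) (v s) := by
        rw [← Scheme.Hom.comp_apply, hy'π, Scheme.Hom.comp_apply]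
      have hn : c' ∉ ((Sp ch.π₂ (IsOpenImmersion.lift ch.kY y hy1 s) :
          Spec (CommRingCat.of ch.C')) : PrimeSpectrum ch.C').asIdeal := by
        rw [e]; exact not_mem_of_away c' (v s)
      exact hn
    have hy'' := IsOpenImmersion.lift_fac (Sp (algebraMap ch.C (Localization.Away (ch.π₂ c'))))
      _ hy2
    have hv : IsOpenImmersion.lift (Sp (algebraMap ch.C (Localization.Away (ch.π₂ c')))) _ hy2 ≫
        Sp (awayHom ch.π₂ c' (ch.π₂ c') rfl) = v := by
      rw [← cancel_mono (Sp (algebraMap ch.C' (Localization.Away c'))), Category.assoc, rY,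
        ← Category.assoc, hy'', hy'π]
    calc v ≫ t = IsOpenImmersion.lift (Sp (algebraMap ch.C (Localization.Away (ch.π₂ c')))) _ hy2 ≫
          Sp (awayHom ch.π₂ c' (ch.π₂ c') rfl) ≫ t := by rw [← Category.assoc, hv]
      _ = y ≫ b := by rw [ht2, ← Category.assoc, hy'', ← Category.assoc, hy']

theorem exists_desc (H : ∀ p : P, ∃ ch : Chart i g α β, p ∈ Set.range ch.k) {W : Scheme.{u}}
    (a : X ⟶ W) (b : Y ⟶ W) (hab : i ≫ a = g ≫ b) : ∃ h : P ⟶ W, α ≫ h = a ∧ β ≫ h = b := by
  choose R m hm1 hm2 hm hmX hmY using fun p => local_ext H a b hab p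
  let 𝒰a : P.AffineOpenCover :=
    { I₀ := P, X := R, f := m, idx := fun p => p, covers := hm2, map_prop := hm1 }
  have compat : ∀ p p' : P, pullback.fst (m p) (m p') ≫ hm p =
      pullback.snd (m p) (m p') ≫ hm p' := by
    intro p p'
    haveI := hm1 p
    haveI := hm1 p'
    refine jointly_epi H (pullback.fst (m p) (m p') ≫ m p) _ _ ?_ ?_
    · intro V x v hxv
      rw [← Category.assoc, ← Category.assoc,
        hmX p V x (v ≫ pullback.fst _ _) (by rw [hxv, Category.assoc]),
        hmX p' V x (v ≫ pullback.snd _ _) (by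
          rw [hxv, Category.assoc, pullback.condition])]
    · intro V y v hyv
      rw [← Category.assoc, ← Category.assoc,
        hmY p V y (v ≫ pullback.fst _ _) (by rw [hyv, Category.assoc]),
        hmY p' V y (v ≫ pullback.snd _ _) (by
          rw [hyv, Category.assoc, pullback.condition])]
  have hh : ∀ p, m p ≫ 𝒰a.openCover.glueMorphisms hm compat = hm p :=
    fun p => 𝒰a.openCover.ι_glueMorphisms hm compat p
  refine ⟨𝒰a.openCover.glueMorphisms hm compat, ?_, ?_⟩
  · apply (𝒰a.openCover.pullback₁ α).hom_ext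
    intro p
    show pullback.fst α (m p) ≫ α ≫ _ = pullback.fst α (m p) ≫ a
    rw [← Category.assoc, pullback.condition, Category.assoc, hh p]
    exact hmX p _ (pullback.fst _ _) (pullback.snd _ _) pullback.condition
  · apply (𝒰a.openCover.pullback₁ β).hom_ext
    intro p
    show pullback.fst β (m p) ≫ β ≫ _ = pullback.fst β (m p) ≫ b
    rw [← Category.assoc, pullback.condition, Category.assoc, hh p]
    exact hmY p _ (pullback.fst _ _) (pullback.snd _ _) pullback.condition

/-- a square with affine Ferrand charts around every point of `P` is a push-out of schemes -/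
theorem isPushout_of_charts (w : i ≫ α = g ≫ β)
    (H : ∀ p : P, ∃ ch : Chart i g α β, p ∈ Set.range ch.k) : IsPushout i g α β := by
  refine ⟨⟨w⟩, ⟨PushoutCocone.IsColimit.mk w
    (fun s => (exists_desc H s.inl s.inr s.condition).choose)
    (fun s => (exists_desc H s.inl s.inr s.condition).choose_spec.1)
    (fun s => (exists_desc H s.inl s.inr s.condition).choose_spec.2) ?_⟩⟩
  intro s t ht1 ht2
  refine jointly_epi H (𝟙 P) _ _ ?_ ?_
  · intro V x v hxv
    rw [Category.comp_id] at hxv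
    rw [← hxv, Category.assoc, Category.assoc, ht1,
      (exists_desc H s.inl s.inr s.condition).choose_spec.1]
  · intro V y v hyv
    rw [Category.comp_id] at hyv
    rw [← hyv, Category.assoc, Category.assoc, ht2,
      (exists_desc H s.inl s.inr s.condition).choose_spec.2]

end Groth.Agent.Helper17.AG59
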