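import Mathlib
import Groth.Prelude.Def_W4bk4git07Quot
import Groth.Prelude.Def_ChGrp
import Groth.Prelude.Def_AlgGrp
import Groth.Agent.Lib.Helper17.AG5
import Groth.Agent.Lib.Helper15.AlgSpDescent

/-!
# Mixed spaces: properties of `f` pass to `f_G` (helper17)
-/

set_option autoImplicit false
universe u
open CategoryTheory Limits MonoidalCategory CartesianMonoidalCategory MonObj GrpObj AlgebraicGeometry Opposite
open Groth.Agent.Helper17.AG2 Groth.Agent.Helper17.AG5

noncomputable section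
namespace Groth.Agent.Helper17.AG6

section Mixed
variable {S : Scheme.{u}} {G : Over S} [GrpObj G]

/-- `f × id_U` is equivariant for the diagonal actions -/
theorem whiskerRight_equivariant {X Y U : Over S} (a : AlgGrp.Action G X) (aY : AlgGrp.Action G Y)
    (b : AlgGrp.Action G U) (f : X ⟶ Y) (hf : AlgGrp.Action.IsEquivariant a aY f) :
    (a.prod b).act ≫ (f ▷ U) = (G ◁ (f ▷ U)) ≫ (aY.prod b).act := by
  have hf' : a.act ≫ f = (G ◁ f) ≫ aY.act := hf
  rw [AlgGrp.Action.prod_act, AlgGrp.Action.prod_act, lift_whiskerRight, comp_lift, Category.assoc,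
    hf', ← MonoidalCategory.whiskerLeft_comp_assoc, ← MonoidalCategory.whiskerLeft_comp_assoc,
    ← MonoidalCategory.whiskerLeft_comp_assoc, whiskerRight_fst, whiskerRight_snd]

/-- the mixed-space square is cartesian -/
theorem isPullback_mixed {X Y U XG YG : Over S} [QuasiCompact X.hom] [QuasiCompact U.hom]
    [QuasiSeparated XG.hom]
    (a : AlgGrp.Action G X) (aY : AlgGrp.Action G Y) (b : AlgGrp.Action G U)
    (f : X ⟶ Y) (hf : AlgGrp.Action.IsEquivariant a aY f)
    (qX : X ⊗ U ⟶ XG) (hqX : GIT.IsInvariant (a.prod b) qX) [Flat qX.left] [Surjective qX.left]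
    (hcX : IsIso (GIT.PsiY (a.prod b) qX hqX))
    (qY : Y ⊗ U ⟶ YG) (hqY : GIT.IsInvariant (aY.prod b) qY)
    (hcY : IsIso (GIT.PsiY (aY.prod b) qY hqY))
    (fG : XG ⟶ YG) (hfG : qX ≫ fG = (f ▷ U) ≫ qY) :
    IsPullback (f ▷ U).left qX.left qY.left fG.left := by
  haveI : QuasiCompact (X ⊗ U).hom := by
    rw [Over.tensorObj_hom]
    infer_instance
  have hqc : QuasiCompact qX.left := quasiCompact_left_of qX
  exact (isPullback_of_equivariant (a.prod b) (aY.prod b) qX qY hqX hqY hcX hcY inferInstance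
    inferInstance hqc (f ▷ U) (whiskerRight_equivariant a aY b f hf) fG hfG).map (Over.forget S)

/-- descent of a property from `f` to `f_G` -/
theorem mixed_descent (P : MorphismProperty Scheme.{u}) [P.IsStableUnderBaseChange]
    [P.DescendsAlong (@Surjective ⊓ @Flat ⊓ @QuasiCompact)]
    {X Y U XG YG : Over S} [QuasiCompact X.hom] [QuasiCompact Y.hom] [QuasiCompact U.hom]
    [QuasiSeparated XG.hom] [QuasiSeparated YG.hom]
    (a : AlgGrp.Action G X) (aY : AlgGrp.Action G Y) (b : AlgGrp.Action G U)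
    (f : X ⟶ Y) (hf : AlgGrp.Action.IsEquivariant a aY f)
    (qX : X ⊗ U ⟶ XG) (hqX : GIT.IsInvariant (a.prod b) qX) [Flat qX.left] [Surjective qX.left]
    (hcX : IsIso (GIT.PsiY (a.prod b) qX hqX))
    (qY : Y ⊗ U ⟶ YG) (hqY : GIT.IsInvariant (aY.prod b) qY) [Flat qY.left] [Surjective qY.left]
    (hcY : IsIso (GIT.PsiY (aY.prod b) qY hqY))
    (fG : XG ⟶ YG) (hfG : qX ≫ fG = (f ▷ U) ≫ qY) (h : P f.left) : P fG.left := by
  have hsq := isPullback_mixed a aY b f hf qX hqX hcX qY hqY hcY fG hfG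
  haveI : QuasiCompact (Y ⊗ U).hom := by
    rw [Over.tensorObj_hom]
    infer_instance
  have hqc : QuasiCompact qY.left := quasiCompact_left_of qY
  have hw : IsPullback (f ▷ U).left (fst X U).left (fst Y U).left f.left :=
    (isPullback_whiskerRight_fst f U).map (Over.forget S)
  have h1 : P (f ▷ U).left := MorphismProperty.of_isPullback hw.flip h
  exact MorphismProperty.of_isPullback_of_descendsAlong
    (Q := @Surjective ⊓ @Flat ⊓ @QuasiCompact) hsq ⟨⟨inferInstance, inferInstance⟩, hqc⟩ h1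

end Mixed

theorem main18510 (k : Type u) [Field k]
    (G X Y U XG YG : Over (Spec (CommRingCat.of k))) [GrpObj G] [IsAffine G.left] [LocallyOfFiniteType G.hom]
    [LocallyOfFiniteType X.hom] [QuasiCompact X.hom] [QuasiSeparated X.hom]
    [LocallyOfFiniteType Y.hom] [QuasiCompact Y.hom] [QuasiSeparated Y.hom]
    [LocallyOfFiniteType U.hom] [QuasiCompact U.hom] [QuasiSeparated U.hom]
    [LocallyOfFiniteType XG.hom] [QuasiCompact XG.hom] [QuasiSeparated XG.hom]
    [LocallyOfFiniteType YG.hom] [QuasiCompact YG.hom] [QuasiSeparated YG.hom]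
    (a : AlgGrp.Action G X) (aY : AlgGrp.Action G Y) (b : AlgGrp.Action G U)
    (f : X ⟶ Y) (hf : AlgGrp.Action.IsEquivariant a aY f)
    (qX : X ⊗ U ⟶ XG) (hqX : GIT.IsInvariant (a.prod b) qX) [Flat qX.left] [Surjective qX.left]
    (hcX : IsIso (GIT.PsiY (a.prod b) qX hqX))
    (qY : Y ⊗ U ⟶ YG) (hqY : GIT.IsInvariant (aY.prod b) qY) [Flat qY.left] [Surjective qY.left]
    (hcY : IsIso (GIT.PsiY (aY.prod b) qY hqY))
    (fG : XG ⟶ YG) (hfG : qX ≫ fG = (f ▷ U) ≫ qY) :
    (IsProper f.left → IsProper fG.left) ∧ (Flat f.left → Flat fG.left) ∧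
      (Smooth f.left → Smooth fG.left) := by
  refine ⟨fun h => ?_, fun h => ?_, fun h => ?_⟩
  · exact mixed_descent (@IsProper) a aY b f hf qX hqX hcX qY hqY hcY fG hfG h
  · exact mixed_descent (@Flat) a aY b f hf qX hqX hcX qY hqY hcY fG hfG h
  · exact mixed_descent (@Smooth) a aY b f hf qX hqX hcX qY hqY hcY fG hfG h

end Groth.Agent.Helper17.AG6
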