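import Mathlib
import Groth.Prelude.Def_Magnet4
import Groth.Agent.Lib.Helper17.AG57

/-!
# The pullback square of monoid algebras `R[N'] = R[L'] ×_{R[L]} R[N]` (helper17)

For submonoids `N ≤ L`, `N' ≤ L'` of `M` with `L` a face of `L'`, `N` a face of `N'` and
`N' = L' \ (L \ N)`: the square of monoid algebras formed by the two inclusions and the two face
projections is a pullback square of rings with `R[L'] → R[L]` surjective (`rpb`).
-/

set_option autoImplicit false
universe u

namespace Groth.Agent.Helper17.AG60
open Groth.Agent.Helper17.AG57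

variable (R : Type u) [CommRing R] {M : Type} [AddCommMonoid M]

theorem inc_injective {N L : AddSubmonoid M} (h : N ≤ L) :
    Function.Injective (AddMonoidHom.toMultiplicative (AddSubmonoid.inclusion h) :
      Multiplicative N → Multiplicative L) := by
  intro a b hab
  have e : AddSubmonoid.inclusion h (Multiplicative.toAdd a) =
      AddSubmonoid.inclusion h (Multiplicative.toAdd b) := congrArg Multiplicative.toAdd hab
  exact Multiplicative.toAdd.injective (AddSubmonoid.inclusion_injective h e)

/-- the inclusion `R[N] → R[L]` for `N ≤ L` -/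
noncomputable def incHom {N L : AddSubmonoid M} (h : N ≤ L) :
    MonoidAlgebra R (Multiplicative N) →+* MonoidAlgebra R (Multiplicative L) :=
  MonoidAlgebra.mapDomainRingHom R (AddMonoidHom.toMultiplicative (AddSubmonoid.inclusion h))

theorem incHom_apply {N L : AddSubmonoid M} (h : N ≤ L) (x : MonoidAlgebra R (Multiplicative N)) :
    incHom R h x =
      MonoidAlgebra.mapDomain (AddMonoidHom.toMultiplicative (AddSubmonoid.inclusion h)) x := rfl

theorem incHom_single {N L : AddSubmonoid M} (h : N ≤ L) (n : N) (r : R) :
    incHom R h (MonoidAlgebra.single (Multiplicative.ofAdd n) r) =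
      MonoidAlgebra.single (Multiplicative.ofAdd (AddSubmonoid.inclusion h n)) r := by
  rw [incHom_apply, MonoidAlgebra.mapDomain_single]
  rfl

theorem incHom_injective {N L : AddSubmonoid M} (h : N ≤ L) : Function.Injective (incHom R h) :=
  MonoidAlgebra.mapDomain_injective (inc_injective h)

theorem incHom_coeff_inc {N L : AddSubmonoid M} (h : N ≤ L)
    (x : MonoidAlgebra R (Multiplicative N)) (n : N) :
    (incHom R h x).coeff (Multiplicative.ofAdd (AddSubmonoid.inclusion h n)) =
      x.coeff (Multiplicative.ofAdd n) := by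
  rw [incHom_apply, MonoidAlgebra.coeff_mapDomain]
  exact Finsupp.mapDomain_apply (inc_injective h) x.coeff (Multiplicative.ofAdd n)

theorem incHom_coeff_of_not_mem {N L : AddSubmonoid M} (h : N ≤ L)
    (x : MonoidAlgebra R (Multiplicative N)) (l : L) (hl : (l : M) ∉ N) :
    (incHom R h x).coeff (Multiplicative.ofAdd l) = 0 := by
  rw [incHom_apply, MonoidAlgebra.coeff_mapDomain]
  apply Finsupp.mapDomain_of_notMem_range
  rintro ⟨a, ha⟩
  apply hl
  have e : (AddSubmonoid.inclusion h (Multiplicative.toAdd a) : L) = l :=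
    congrArg Multiplicative.toAdd ha
  rw [← e]
  exact (Multiplicative.toAdd a).2

theorem face_coeff {N F : AddSubmonoid M} (hF : Magnet.IsFace N F)
    (x : MonoidAlgebra R (Multiplicative N)) (f : F) :
    (Magnet.faceAlgHom R hF x).coeff (Multiplicative.ofAdd f) =
      x.coeff (Multiplicative.ofAdd (AddSubmonoid.inclusion hF.le f)) := by
  classical
  induction x using MonoidAlgebra.induction_linear with
  | zero => rw [map_zero]; rfl
  | add x y hx hy =>
    rw [map_add, MonoidAlgebra.coeff_add, MonoidAlgebra.coeff_add, Finsupp.add_apply,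
      Finsupp.add_apply, hx, hy]
  | single m r =>
    obtain ⟨n, hn⟩ : ∃ n : N, Multiplicative.ofAdd n = m := ⟨Multiplicative.toAdd m, rfl⟩
    subst hn
    by_cases h : (n : M) ∈ F
    · rw [Magnet.faceAlgHom_single_of_mem R hF n h r, MonoidAlgebra.coeff_single,
        MonoidAlgebra.coeff_single, Finsupp.single_apply, Finsupp.single_apply]
      by_cases e : n = AddSubmonoid.inclusion hF.le f
      · have e2 : (⟨(n : M), h⟩ : F) = f :=
          Subtype.ext (congrArg (fun z : N => (z : M)) e)
        rw [if_pos (congrArg Multiplicative.ofAdd e2), if_pos (congrArg Multiplicative.ofAdd e)]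
      · have e2 : ¬ (⟨(n : M), h⟩ : F) = f := fun e2 => e (by rw [← e2]; rfl)
        rw [if_neg (fun q => e2 (Multiplicative.ofAdd.injective q)),
          if_neg (fun q => e (Multiplicative.ofAdd.injective q))]
    · rw [Magnet.faceAlgHom_single_of_not_mem R hF n h r, MonoidAlgebra.coeff_single,
        Finsupp.single_apply, if_neg]
      · rfl
      · intro q
        apply h
        have e : n = AddSubmonoid.inclusion hF.le f := Multiplicative.ofAdd.injective q
        rw [e]
        exact f.2

theorem face_inc {L' L : AddSubmonoid M} (hL : Magnet.IsFace L' L)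
    (y : MonoidAlgebra R (Multiplicative L)) :
    Magnet.faceAlgHom R hL (incHom R hL.le y) = y := by
  induction y using MonoidAlgebra.induction_linear with
  | zero => rw [map_zero, map_zero]
  | add x y hx hy => rw [map_add, map_add, hx, hy]
  | single m r =>
    obtain ⟨l, hl⟩ : ∃ l : L, Multiplicative.ofAdd l = m := ⟨Multiplicative.toAdd m, rfl⟩
    subst hl
    rw [incHom_single, Magnet.faceAlgHom_single_of_mem R hL (AddSubmonoid.inclusion hL.le l) l.2 r]
    rfl

theorem rpb (N N' L L' : AddSubmonoid M) (hNL : N ≤ L) (hN'L' : N' ≤ L')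
    (hL : Magnet.IsFace L' L) (hN : Magnet.IsFace N' N)
    (hdiff : (N' : Set M) = (L' : Set M) \ ((L : Set M) \ (N : Set M))) :
    RPB (incHom R hN'L') (Magnet.faceAlgHom R hN).toRingHom (Magnet.faceAlgHom R hL).toRingHom
      (incHom R hNL) := by
  have hmem : ∀ n' : N', (n' : M) ∈ L → (n' : M) ∈ N := by
    intro n' hl
    have h1 : (n' : M) ∈ (N' : Set M) := n'.2
    rw [hdiff] at h1
    by_contra hn
    exact h1.2 ⟨hl, hn⟩
  refine ⟨?_, ?_, ?_, ?_⟩
  · intro x
    show Magnet.faceAlgHom R hL (incHom R hN'L' x) = incHom R hNL (Magnet.faceAlgHom R hN x)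
    induction x using MonoidAlgebra.induction_linear with
    | zero => simp only [map_zero]
    | add x y hx hy => simp only [map_add, hx, hy]
    | single m r =>
      obtain ⟨n', hn'⟩ : ∃ n' : N', Multiplicative.ofAdd n' = m :=
        ⟨Multiplicative.toAdd m, rfl⟩
      subst hn'
      by_cases h : (n' : M) ∈ N
      · rw [incHom_single,
          Magnet.faceAlgHom_single_of_mem R hL (AddSubmonoid.inclusion hN'L' n') (hNL h) r,
          Magnet.faceAlgHom_single_of_mem R hN n' h r, incHom_single]
        rfl
      · have hl : (n' : M) ∉ L := fun hl => h (hmem n' hl)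
        rw [incHom_single,
          Magnet.faceAlgHom_single_of_not_mem R hL (AddSubmonoid.inclusion hN'L' n') hl r,
          Magnet.faceAlgHom_single_of_not_mem R hN n' h r, map_zero]
  · intro y
    exact ⟨incHom R hL.le y, face_inc R hL y⟩
  · intro x h1 _
    exact incHom_injective R hN'L' (by rw [h1, map_zero])
  · intro b c hbc
    have hbc' : Magnet.faceAlgHom R hL b = incHom R hNL c := hbc
    have hsupp : ∀ l' : L', b.coeff (Multiplicative.ofAdd l') ≠ 0 → (l' : M) ∈ N' := by
      intro l' hne
      have h1 : (l' : M) ∈ (N' : Set M) := by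
        rw [hdiff]
        refine ⟨l'.2, ?_⟩
        rintro ⟨hlL, hlN⟩
        have e1 := face_coeff R hL b ⟨(l' : M), hlL⟩
        rw [hbc', incHom_coeff_of_not_mem R hNL c ⟨(l' : M), hlL⟩ hlN] at e1
        have e0 : AddSubmonoid.inclusion hL.le ⟨(l' : M), hlL⟩ = l' := Subtype.ext rfl
        rw [e0] at e1
        exact hne e1.symm
      exact h1
    refine ⟨MonoidAlgebra.comapDomain _ (inc_injective hN'L') b, ?_, ?_⟩
    · rw [incHom_apply]
      apply MonoidAlgebra.mapDomain_comapDomain
      intro g hg
      have hg' : b.coeff g ≠ 0 := Finsupp.mem_support_iff.mp hg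
      have hmemN' : ((Multiplicative.toAdd g : L') : M) ∈ N' := hsupp (Multiplicative.toAdd g) hg'
      exact ⟨Multiplicative.ofAdd (⟨((Multiplicative.toAdd g : L') : M), hmemN'⟩ : N'), rfl⟩
    · show Magnet.faceAlgHom R hN (MonoidAlgebra.comapDomain _ (inc_injective hN'L') b) = c
      apply MonoidAlgebra.coeff_injective
      apply Finsupp.ext
      intro g
      obtain ⟨n, hn⟩ : ∃ n : N, Multiplicative.ofAdd n = g := ⟨Multiplicative.toAdd g, rfl⟩
      subst hn
      rw [face_coeff R hN, MonoidAlgebra.coeff_comapDomain, Finsupp.comapDomain_apply,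
        ← incHom_coeff_inc R hNL c n, ← hbc', face_coeff R hL]
      rfl

end Groth.Agent.Helper17.AG60
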