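import Mathlib
import Groth.Prelude.Def_Magnet4
import Groth.Prelude.Def_GmPts
import Groth.Agent.Lib.Helper17.AG59
import Groth.Agent.Lib.Helper17.AG60

/-!
# Ferrand push-outs of diagonalizable monoid schemes (helper17)

Affine charts `Spec R[N] ⟶ A(N)_S ×_S T` of the base change of the diagonalizable monoid scheme, their
naturality in `N` (for monoid maps and face projections), and the push-out square
`A(N')_S ×_S T = A(L')_S ×_S T ⊔_{A(L)_S ×_S T} A(N)_S ×_S T` for `N' = L' \ (L \ N)`.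
-/

set_option autoImplicit false
universe u
open CategoryTheory CategoryTheory.Limits MonoidalCategory CartesianMonoidalCategory MonObj
open AlgebraicGeometry Opposite TopologicalSpace

noncomputable section
namespace Groth.Agent.Helper17.AG61
open Groth.Agent.Helper17.AG57 Groth.Agent.Helper17.AG58 Groth.Agent.Helper17.AG59
  Groth.Agent.Helper17.AG60
open Magnet GmPts

/-! ### Monoid algebras as base change from `ℤ` -/

/-- the unique ring map `ULift ℤ → R` -/
def zHom (R : Type u) [CommRing R] : ULift.{u} ℤ →+* R :=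
  (Int.castRingHom R).comp (ULift.ringEquiv : ULift.{u} ℤ ≃+* ℤ).toRingHom

section Desc
variable (R : Type u) [CommRing R] (G : Type) [CommMonoid G] {P : Type u} [CommRing P]
  (a : MonoidAlgebra (ULift.{u} ℤ) G →+* P) (b : R →+* P)

/-- the map out of `R[G]` induced by maps out of `ℤ[G]` and `R` -/
def descHom : MonoidAlgebra R G →+* P :=
  MonoidAlgebra.liftNCRingHom b
    ((a : MonoidAlgebra (ULift.{u} ℤ) G →* P).comp (MonoidAlgebra.of (ULift.{u} ℤ) G))
    (fun _ _ => Commute.all _ _)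

theorem descHom_single (g : G) (r : R) :
    descHom R G a b (MonoidAlgebra.single g r) = b r * a (MonoidAlgebra.single g 1) := by
  rw [descHom, MonoidAlgebra.liftNCRingHom_single]
  rfl

theorem descHom_comp_map
    (hab : a.comp MonoidAlgebra.singleOneRingHom = b.comp (zHom R)) :
    (descHom R G a b).comp (MonoidAlgebra.mapRingHom G (zHom R)) = a := by
  apply MonoidAlgebra.ringHom_ext
  · intro z
    rw [RingHom.comp_apply, MonoidAlgebra.mapRingHom_single, descHom_single]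
    have h1 : a (MonoidAlgebra.single 1 1) = 1 := by
      rw [← MonoidAlgebra.one_def, map_one]
    have h2 : b (zHom R z) = a (MonoidAlgebra.single 1 z) := (RingHom.congr_fun hab z).symm
    rw [h1, _root_.mul_one, h2]
  · intro g
    rw [RingHom.comp_apply, MonoidAlgebra.mapRingHom_single, descHom_single, map_one, map_one,
      _root_.one_mul]

theorem descHom_comp_single :
    (descHom R G a b).comp MonoidAlgebra.singleOneRingHom = b := by
  apply RingHom.ext
  intro r
  show descHom R G a b (MonoidAlgebra.single 1 r) = b r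
  rw [descHom_single, ← MonoidAlgebra.one_def, map_one, _root_.mul_one]

theorem descHom_unique (m : MonoidAlgebra R G →+* P)
    (h1 : m.comp (MonoidAlgebra.mapRingHom G (zHom R)) = a)
    (h2 : m.comp MonoidAlgebra.singleOneRingHom = b) : m = descHom R G a b := by
  apply MonoidAlgebra.ringHom_ext
  · intro r
    rw [descHom_single, ← MonoidAlgebra.one_def, map_one, _root_.mul_one, ← h2]
    rfl
  · intro g
    rw [descHom_single, map_one, _root_.one_mul, ← h1, RingHom.comp_apply,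
      MonoidAlgebra.mapRingHom_single, map_one]

end Desc

theorem isPushout_monoidAlgebra (R : Type u) [CommRing R] (G : Type) [CommMonoid G] :
    IsPushout
      (CommRingCat.ofHom (MonoidAlgebra.singleOneRingHom :
        ULift.{u} ℤ →+* MonoidAlgebra (ULift.{u} ℤ) G))
      (CommRingCat.ofHom (zHom R))
      (CommRingCat.ofHom (MonoidAlgebra.mapRingHom G (zHom R)))
      (CommRingCat.ofHom (MonoidAlgebra.singleOneRingHom : R →+* MonoidAlgebra R G)) := by
  have hw : CommRingCat.ofHom (MonoidAlgebra.singleOneRingHom :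
        ULift.{u} ℤ →+* MonoidAlgebra (ULift.{u} ℤ) G) ≫
      CommRingCat.ofHom (MonoidAlgebra.mapRingHom G (zHom R)) =
      CommRingCat.ofHom (zHom R) ≫
        CommRingCat.ofHom (MonoidAlgebra.singleOneRingHom : R →+* MonoidAlgebra R G) := by
    apply CommRingCat.hom_ext
    apply RingHom.ext
    intro z
    show MonoidAlgebra.mapRingHom G (zHom R) (MonoidAlgebra.single 1 z) =
      MonoidAlgebra.single 1 (zHom R z)
    exact MonoidAlgebra.mapRingHom_single _ _ _
  refine IsPushout.mk ⟨hw⟩ ⟨PushoutCocone.IsColimit.mk hw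
    (fun s => CommRingCat.ofHom (descHom R G s.inl.hom s.inr.hom)) ?_ ?_ ?_⟩
  · intro s
    apply CommRingCat.hom_ext
    exact descHom_comp_map R G s.inl.hom s.inr.hom (congrArg CommRingCat.Hom.hom s.condition)
  · intro s
    apply CommRingCat.hom_ext
    exact descHom_comp_single R G s.inl.hom s.inr.hom
  · intro s m h1 h2
    apply CommRingCat.hom_ext
    exact descHom_unique R G s.inl.hom s.inr.hom m.hom (congrArg CommRingCat.Hom.hom h1)
      (congrArg CommRingCat.Hom.hom h2)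

/-! ### The model chart -/

section Model
variable (R : Type u) [CommRing R] (N : Type) [AddCommMonoid N]

/-- `Spec R[N] ⟶ Spec ℤ[N]` -/
def d₁ : Spec (CommRingCat.of (MonoidAlgebra R (Multiplicative N))) ⟶
    (AMon (ULift.{u} ℤ) N).left :=
  Spec.map (CommRingCat.ofHom (MonoidAlgebra.mapRingHom (Multiplicative N) (zHom R)))

/-- `Spec R[N] ⟶ Spec R` -/
def d₂ : Spec (CommRingCat.of (MonoidAlgebra R (Multiplicative N))) ⟶
    Spec (CommRingCat.of R) :=
  Spec.map (CommRingCat.ofHom MonoidAlgebra.singleOneRingHom)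

theorem model_isPullback :
    IsPullback (d₁ R N) (d₂ R N) (AMon (ULift.{u} ℤ) N).hom
      (toBaseZ (Spec (CommRingCat.of R))) := by
  have h := isPullback_SpecMap_of_isPushout _ _ _ _
    (isPushout_monoidAlgebra R (Multiplicative N))
  have e1 : Spec.map (CommRingCat.ofHom (MonoidAlgebra.singleOneRingHom :
      ULift.{u} ℤ →+* MonoidAlgebra (ULift.{u} ℤ) (Multiplicative N))) =
      (AMon (ULift.{u} ℤ) N).hom := specULiftZIsTerminal.hom_ext _ _
  have e2 : Spec.map (CommRingCat.ofHom (zHom R)) = toBaseZ (Spec (CommRingCat.of R)) :=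
    specULiftZIsTerminal.hom_ext _ _
  rw [e1, e2] at h
  exact h

end Model

/-! ### Generic charts of `𝔸_S ×_S T` -/

theorem range_fst_of_isPullback {P X Y Z : Scheme.{u}} {p₁ : P ⟶ X} {p₂ : P ⟶ Y} {f : X ⟶ Z}
    {g : Y ⟶ Z} (h : IsPullback p₁ p₂ f g) (x : X) (hx : f x ∈ Set.range g) :
    x ∈ Set.range p₁ := by
  obtain ⟨y, hy⟩ := hx
  obtain ⟨z, hz1, -⟩ := Scheme.Pullback.exists_preimage_pullback (f := f) (g := g) x y hy.symm
  refine ⟨h.isoPullback.inv z, ?_⟩
  rw [← Scheme.Hom.comp_apply, h.isoPullback_inv_fst]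
  exact hz1

section Generic
variable {S : Scheme.{u}}

/-- the base change of `𝔸` to `S` -/
abbrev bcA (S : Scheme.{u}) (𝔸 : Over baseZ.{u}) : Over S := (Over.pullback (toBaseZ S)).obj 𝔸

variable (𝔸 : Over baseZ.{u}) (T : Over S) {D U : Scheme.{u}} (d₁ : D ⟶ 𝔸.left) (d₂ : D ⟶ U)
  (j : U ⟶ T.left)

/-- first component of the chart -/
def chartFst : D ⟶ (bcA S 𝔸).left :=
  pullback.lift (f := 𝔸.hom) (g := toBaseZ S) d₁ (d₂ ≫ j ≫ T.hom)
    (specULiftZIsTerminal.hom_ext _ _)

theorem chartFst_fst : chartFst 𝔸 T d₁ d₂ j ≫ pullback.fst 𝔸.hom (toBaseZ S) = d₁ :=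
  pullback.lift_fst _ _ _

theorem chartFst_snd :
    chartFst 𝔸 T d₁ d₂ j ≫ pullback.snd 𝔸.hom (toBaseZ S) = d₂ ≫ j ≫ T.hom :=
  pullback.lift_snd _ _ _

theorem chartFst_hom : chartFst 𝔸 T d₁ d₂ j ≫ (bcA S 𝔸).hom = d₂ ≫ j ≫ T.hom :=
  pullback.lift_snd _ _ _

/-- the chart `D ⟶ 𝔸_S ×_S T` -/
def chart : D ⟶ (bcA S 𝔸 ⊗ T).left :=
  pullback.lift (f := (bcA S 𝔸).hom) (g := T.hom) (chartFst 𝔸 T d₁ d₂ j) (d₂ ≫ j)
    (by rw [chartFst_hom, Category.assoc])

theorem chart_fst :
    chart 𝔸 T d₁ d₂ j ≫ pullback.fst (bcA S 𝔸).hom T.hom = chartFst 𝔸 T d₁ d₂ j :=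
  pullback.lift_fst _ _ _

theorem chart_snd : chart 𝔸 T d₁ d₂ j ≫ pullback.snd (bcA S 𝔸).hom T.hom = d₂ ≫ j :=
  pullback.lift_snd _ _ _

theorem chart_snd' : chart 𝔸 T d₁ d₂ j ≫ (snd (bcA S 𝔸) T).left = d₂ ≫ j :=
  pullback.lift_snd _ _ _

theorem chart_isPullback (hpb : IsPullback d₁ d₂ 𝔸.hom (toBaseZ U)) :
    IsPullback (chart 𝔸 T d₁ d₂ j) d₂ (snd (bcA S 𝔸) T).left j := by
  have H1 : IsPullback (pullback.fst (bcA S 𝔸).hom T.hom) (pullback.snd (bcA S 𝔸).hom T.hom)
      (bcA S 𝔸).hom T.hom := IsPullback.of_hasPullback _ _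
  have H2 : IsPullback (pullback.fst 𝔸.hom (toBaseZ S)) (bcA S 𝔸).hom 𝔸.hom (toBaseZ S) :=
    IsPullback.of_hasPullback _ _
  have s := H1.flip.paste_vert H2.flip
  -- s : IsPullback snd (fst ≫ fst') (T.hom ≫ toBaseZ S) 𝔸.hom
  have s' := s.flip
  have e1 : chart 𝔸 T d₁ d₂ j ≫
      (pullback.fst (bcA S 𝔸).hom T.hom ≫ pullback.fst 𝔸.hom (toBaseZ S)) = d₁ := by
    rw [← Category.assoc, chart_fst, chartFst_fst]
  have e2 : j ≫ (T.hom ≫ toBaseZ S) = toBaseZ U := specULiftZIsTerminal.hom_ext _ _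
  have outer : IsPullback (chart 𝔸 T d₁ d₂ j ≫
      (pullback.fst (bcA S 𝔸).hom T.hom ≫ pullback.fst 𝔸.hom (toBaseZ S))) d₂ 𝔸.hom
      (j ≫ (T.hom ≫ toBaseZ S)) := by
    rw [e1, e2]
    exact hpb
  exact IsPullback.of_right outer (chart_snd 𝔸 T d₁ d₂ j) s'

theorem chart_isOpenImmersion (hpb : IsPullback d₁ d₂ 𝔸.hom (toBaseZ U)) [IsOpenImmersion j] :
    IsOpenImmersion (chart 𝔸 T d₁ d₂ j) :=
  MorphismProperty.of_isPullback (P := @IsOpenImmersion) (chart_isPullback 𝔸 T d₁ d₂ j hpb).flip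
    inferInstance

theorem mem_range_chart (hpb : IsPullback d₁ d₂ 𝔸.hom (toBaseZ U)) (x : (bcA S 𝔸 ⊗ T).left)
    (hx : (snd (bcA S 𝔸) T).left x ∈ Set.range j) : x ∈ Set.range (chart 𝔸 T d₁ d₂ j) :=
  range_fst_of_isPullback (chart_isPullback 𝔸 T d₁ d₂ j hpb) x hx

end Generic

theorem chart_natural {S : Scheme.{u}} {𝔸 𝔸' : Over baseZ.{u}} (gA : 𝔸 ⟶ 𝔸') (T : Over S)
    {D D' U : Scheme.{u}} (d₁ : D ⟶ 𝔸.left) (d₂ : D ⟶ U) (d₁' : D' ⟶ 𝔸'.left) (d₂' : D' ⟶ U)
    (j : U ⟶ T.left) (c : D ⟶ D') (h1 : c ≫ d₁' = d₁ ≫ gA.left) (h2 : c ≫ d₂' = d₂) :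
    chart 𝔸 T d₁ d₂ j ≫ (((Over.pullback (toBaseZ S)).map gA) ▷ T).left =
      c ≫ chart 𝔸' T d₁' d₂' j := by
  refine Over.tensorObj_ext _ _ ?_ ?_
  · rw [Category.assoc, Over.whiskerRight_left_fst, ← Category.assoc, chart_fst, Category.assoc,
      chart_fst]
    refine pullback.hom_ext ?_ ?_
    · rw [Category.assoc, GmPts.pullback_map_left_fst, ← Category.assoc, chartFst_fst,
        Category.assoc, chartFst_fst, h1]
    · have hw : ((Over.pullback (toBaseZ S)).map gA).left ≫ pullback.snd 𝔸'.hom (toBaseZ S) =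
          pullback.snd 𝔸.hom (toBaseZ S) := Over.w ((Over.pullback (toBaseZ S)).map gA)
      rw [Category.assoc, hw, chartFst_snd, Category.assoc, chartFst_snd, ← h2]
      simp only [Category.assoc]
  · rw [Category.assoc, Over.whiskerRight_left_snd, chart_snd, Category.assoc, chart_snd,
      ← Category.assoc, h2]

end Groth.Agent.Helper17.AG61
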