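import Mathlib
import Groth.Prelude.Def_Magnet4
import Groth.Prelude.Def_GmPts
import Groth.Agent.Lib.Helper17.AG61

/-!
# The push-out square of diagonalizable monoid schemes `A(N') = A(L') ⊔_{A(L)} A(N)` (helper17)

Charts `Spec Rc[N] ⟶ A(N)_S ×_S T` over an affine open `Spec Rc` of `T`, their compatibility with the
maps induced by monoid maps and face projections, and the resulting Ferrand push-out squares
(`po_left`, `po`, `main18305`).
-/

set_option autoImplicit false
universe u
open CategoryTheory CategoryTheory.Limits MonoidalCategory CartesianMonoidalCategory MonObj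
open AlgebraicGeometry Opposite TopologicalSpace

noncomputable section
namespace Groth.Agent.Helper17.AG62
open Groth.Agent.Helper17.AG57 Groth.Agent.Helper17.AG58 Groth.Agent.Helper17.AG59
  Groth.Agent.Helper17.AG60 Groth.Agent.Helper17.AG61
open Magnet GmPts

/-! ### Ring identities -/

section RingId
variable (R : Type u) [CommRing R] {M : Type} [AddCommMonoid M] {N F : AddSubmonoid M}

theorem face_ring_h1 (hF : IsFace N F) :
    (faceAlgHom R hF).toRingHom.comp (MonoidAlgebra.mapRingHom (Multiplicative N) (zHom R)) =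
      (MonoidAlgebra.mapRingHom (Multiplicative F) (zHom R)).comp
        (faceAlgHom (ULift.{u} ℤ) hF).toRingHom := by
  have key : ∀ (n : N) (z : ULift.{u} ℤ),
      faceAlgHom R hF (MonoidAlgebra.mapRingHom (Multiplicative N) (zHom R)
        (MonoidAlgebra.single (Multiplicative.ofAdd n) z)) =
      MonoidAlgebra.mapRingHom (Multiplicative F) (zHom R)
        (faceAlgHom (ULift.{u} ℤ) hF (MonoidAlgebra.single (Multiplicative.ofAdd n) z)) := by
    intro n z
    rw [MonoidAlgebra.mapRingHom_single]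
    by_cases h : (n : M) ∈ F
    · rw [faceAlgHom_single_of_mem R hF n h, faceAlgHom_single_of_mem _ hF n h,
        MonoidAlgebra.mapRingHom_single]
    · rw [faceAlgHom_single_of_not_mem R hF n h, faceAlgHom_single_of_not_mem _ hF n h, map_zero]
  apply MonoidAlgebra.ringHom_ext
  · intro r
    exact key 0 r
  · intro m
    exact key (Multiplicative.toAdd m) 1

theorem face_ring_h2 (hF : IsFace N F) :
    (faceAlgHom R hF).toRingHom.comp
      (MonoidAlgebra.singleOneRingHom : R →+* MonoidAlgebra R (Multiplicative N)) =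
      (MonoidAlgebra.singleOneRingHom : R →+* MonoidAlgebra R (Multiplicative F)) := by
  apply RingHom.ext
  intro r
  have h0 : ((0 : N) : M) ∈ F := F.zero_mem
  exact faceAlgHom_single_of_mem R hF 0 h0 r

theorem map_left' {N₁ N₂ : Type} [AddCommMonoid N₁] [AddCommMonoid N₂] (f : N₁ →+ N₂) :
    (AMon.map R f).left =
      Sp (MonoidAlgebra.mapDomainRingHom R (AddMonoidHom.toMultiplicative f)) := rfl

end RingId

/-! ### Monoid charts -/

section MChart
variable {S : Scheme.{u}} (T : Over S) {Rc : Type u} [CommRing Rc]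
  (j : Spec (CommRingCat.of Rc) ⟶ T.left)

/-- the chart `Spec Rc[N] ⟶ A(N)_S ×_S T` -/
def mchart (N : Type) [AddCommMonoid N] :
    Spec (CommRingCat.of (MonoidAlgebra Rc (Multiplicative N))) ⟶ (AMonS S N ⊗ T).left :=
  chart (AMon (ULift.{u} ℤ) N) T (d₁ Rc N) (d₂ Rc N) j

theorem mchart_snd (N : Type) [AddCommMonoid N] :
    mchart T j N ≫ (snd (AMonS S N) T).left = d₂ Rc N ≫ j :=
  chart_snd' _ _ _ _ _

theorem mchart_isOpenImmersion (N : Type) [AddCommMonoid N] [IsOpenImmersion j] :
    IsOpenImmersion (mchart T j N) :=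
  chart_isOpenImmersion _ _ _ _ _ (model_isPullback Rc N)

theorem mem_range_mchart (N : Type) [AddCommMonoid N] (x : (AMonS S N ⊗ T).left)
    (hx : (snd (AMonS S N) T).left x ∈ Set.range j) : x ∈ Set.range (mchart T j N) :=
  mem_range_chart _ _ _ _ _ (model_isPullback Rc N) x hx

theorem mchart_map {N₁ N₂ : Type} [AddCommMonoid N₁] [AddCommMonoid N₂] (f : N₁ →+ N₂) :
    mchart T j N₂ ≫ (AMonS.map S f ▷ T).left =
      Sp (MonoidAlgebra.mapDomainRingHom Rc (AddMonoidHom.toMultiplicative f)) ≫
        mchart T j N₁ := by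
  refine chart_natural (AMon.map (ULift.{u} ℤ) f) T (d₁ Rc N₂) (d₂ Rc N₂) (d₁ Rc N₁) (d₂ Rc N₁)
    j _ ?_ ?_
  · rw [map_left']
    show Spec.map (CommRingCat.ofHom _) ≫ Spec.map (CommRingCat.ofHom _) =
      Spec.map (CommRingCat.ofHom _) ≫ Spec.map (CommRingCat.ofHom _)
    rw [← Spec.map_comp, ← Spec.map_comp, ← CommRingCat.ofHom_comp, ← CommRingCat.ofHom_comp]
    congr 2
    exact (MonoidAlgebra.mapRingHom_comp_mapDomainRingHom (zHom Rc)
      (AddMonoidHom.toMultiplicative f)).symm
  · show Spec.map (CommRingCat.ofHom _) ≫ Spec.map (CommRingCat.ofHom _) =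
      Spec.map (CommRingCat.ofHom _)
    rw [← Spec.map_comp, ← CommRingCat.ofHom_comp]
    congr 2
    apply RingHom.ext
    intro r
    show MonoidAlgebra.mapDomain _ (MonoidAlgebra.single 1 r) = MonoidAlgebra.single 1 r
    rw [MonoidAlgebra.mapDomain_single, map_one]

theorem mchart_face {M : Type} [AddCommMonoid M] {N F : AddSubmonoid M} (hF : IsFace N F) :
    mchart T j F ≫ (AMonS.faceMap S hF ▷ T).left =
      Sp (faceAlgHom Rc hF).toRingHom ≫ mchart T j N := by
  refine chart_natural (AMon.faceMap (ULift.{u} ℤ) hF) T (d₁ Rc F) (d₂ Rc F) (d₁ Rc N) (d₂ Rc N)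
    j _ ?_ ?_
  · rw [AMon.faceMap_left]
    show Spec.map (CommRingCat.ofHom _) ≫ Spec.map (CommRingCat.ofHom _) =
      Spec.map (CommRingCat.ofHom _) ≫ Spec.map (CommRingCat.ofHom _)
    rw [← Spec.map_comp, ← Spec.map_comp, ← CommRingCat.ofHom_comp, ← CommRingCat.ofHom_comp]
    congr 2
    exact face_ring_h1 Rc hF
  · show Spec.map (CommRingCat.ofHom _) ≫ Spec.map (CommRingCat.ofHom _) =
      Spec.map (CommRingCat.ofHom _)
    rw [← Spec.map_comp, ← CommRingCat.ofHom_comp]
    congr 2
    exact face_ring_h2 Rc hF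

end MChart

theorem snd_whisker_apply {S : Scheme.{u}} {A B : Over S} (f : A ⟶ B) (T : Over S)
    (x : (A ⊗ T).left) : (snd B T).left ((f ▷ T).left x) = (snd A T).left x := by
  have h : (f ▷ T).left ≫ (snd B T).left = (snd A T).left := Over.whiskerRight_left_snd f
  rw [← Scheme.Hom.comp_apply, h]

theorem isPushout_over {S : Scheme.{u}} {Z X Y P : Over S} {i : Z ⟶ X} {g : Z ⟶ Y} {α : X ⟶ P}
    {β : Y ⟶ P} (h : IsPushout i.left g.left α.left β.left) : IsPushout i g α β :=
  IsPushout.of_map_of_faithful (Over.forget S) h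

/-! ### The push-out squares -/

section PO
variable (S : Scheme.{u}) {M : Type} [AddCommMonoid M] (N N' L L' : AddSubmonoid M)
  (hNL : N ≤ L) (hN'L' : N' ≤ L') (hL : IsFace L' L) (hN : IsFace N' N)
  (hdiff : (N' : Set M) = (L' : Set M) \ ((L : Set M) \ (N : Set M)))

include hdiff in
theorem face_map_comm :
    AMonS.faceMap S hL ≫ AMonS.map S (AddSubmonoid.inclusion hN'L') =
      AMonS.map S (AddSubmonoid.inclusion hNL) ≫ AMonS.faceMap S hN := by
  rw [AMonS.faceMap, AMonS.map, AMonS.map, AMonS.faceMap, ← Functor.map_comp, ← Functor.map_comp]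
  congr 1
  ext : 1
  rw [Over.comp_left, Over.comp_left, AMon.faceMap_left, map_left', map_left', AMon.faceMap_left]
  show Spec.map (CommRingCat.ofHom _) ≫ Spec.map (CommRingCat.ofHom _) =
    Spec.map (CommRingCat.ofHom _) ≫ Spec.map (CommRingCat.ofHom _)
  rw [← Spec.map_comp, ← Spec.map_comp, ← CommRingCat.ofHom_comp, ← CommRingCat.ofHom_comp]
  congr 2
  apply RingHom.ext
  intro x
  exact (rpb (ULift.{u} ℤ) N N' L L' hNL hN'L' hL hN hdiff).comm x

include hdiff in
theorem po_left (T : Over S) :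
    IsPushout (AMonS.faceMap S hL ▷ T).left (AMonS.map S (AddSubmonoid.inclusion hNL) ▷ T).left
      (AMonS.map S (AddSubmonoid.inclusion hN'L') ▷ T).left (AMonS.faceMap S hN ▷ T).left := by
  apply isPushout_of_charts
  · rw [← Over.comp_left, ← Over.comp_left, ← comp_whiskerRight, ← comp_whiskerRight,
      face_map_comm S N N' L L' hNL hN'L' hL hN hdiff]
  · intro p
    let t := (snd (AMonS S N') T).left p
    let 𝒯 := T.left.affineOpenCover
    let i₀ := 𝒯.idx t
    let Rc : Type u := ↑(𝒯.X i₀)
    let j : Spec (CommRingCat.of Rc) ⟶ T.left := 𝒯.f i₀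
    haveI : IsOpenImmersion j := 𝒯.map_prop i₀
    have ht : t ∈ Set.range j := 𝒯.covers t
    refine ⟨{
      C' := MonoidAlgebra Rc (Multiplicative N')
      B' := MonoidAlgebra Rc (Multiplicative L')
      B := MonoidAlgebra Rc (Multiplicative L)
      C := MonoidAlgebra Rc (Multiplicative N)
      π₁ := incHom Rc hN'L'
      π₂ := (faceAlgHom Rc hN).toRingHom
      φ := (faceAlgHom Rc hL).toRingHom
      ψ := incHom Rc hNL
      rpb := rpb Rc N N' L L' hNL hN'L' hL hN hdiff
      k := mchart T j N'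
      kX := mchart T j L'
      kY := mchart T j N
      kZ := mchart T j L
      hk := mchart_isOpenImmersion T j N'
      hkX := mchart_isOpenImmersion T j L'
      hkY := mchart_isOpenImmersion T j N
      wX := mchart_map T j (AddSubmonoid.inclusion hN'L')
      wY := mchart_face T j hN
      wZX := mchart_face T j hL
      wZY := mchart_map T j (AddSubmonoid.inclusion hNL)
      preX := ?_
      preY := ?_ }, ?_⟩
    · intro x hx
      apply mem_range_mchart T j L'
      obtain ⟨y, hy⟩ := hx
      have e : (snd (AMonS S L') T).left x = (snd (AMonS S N') T).left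
          ((AMonS.map S (AddSubmonoid.inclusion hN'L') ▷ T).left x) :=
        (snd_whisker_apply _ T x).symm
      rw [e, ← hy, ← Scheme.Hom.comp_apply, mchart_snd, Scheme.Hom.comp_apply]
      exact ⟨_, rfl⟩
    · intro x hx
      apply mem_range_mchart T j N
      obtain ⟨y, hy⟩ := hx
      have e : (snd (AMonS S N) T).left x = (snd (AMonS S N') T).left
          ((AMonS.faceMap S hN ▷ T).left x) :=
        (snd_whisker_apply _ T x).symm
      rw [e, ← hy, ← Scheme.Hom.comp_apply, mchart_snd, Scheme.Hom.comp_apply]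
      exact ⟨_, rfl⟩
    · exact mem_range_mchart T j N' p ht

include hdiff in
theorem po (T : Over S) :
    IsPushout (AMonS.faceMap S hL ▷ T) (AMonS.map S (AddSubmonoid.inclusion hNL) ▷ T)
      (AMonS.map S (AddSubmonoid.inclusion hN'L') ▷ T) (AMonS.faceMap S hN ▷ T) :=
  isPushout_over (po_left S N N' L L' hNL hN'L' hL hN hdiff T)

end PO

theorem main18305 (S : Scheme.{u}) (M : Type) [AddCommMonoid M]
    (N N' L L' : AddSubmonoid M) (hNL : N ≤ L) (hN'L' : N' ≤ L') (hL : Magnet.IsFace L' L)
    (hN : Magnet.IsFace N' N) (hdiff : (N' : Set M) = (L' : Set M) \ ((L : Set M) \ (N : Set M))) :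
    IsPushout (Magnet.AMonS.faceMap S hL) (Magnet.AMonS.map S (AddSubmonoid.inclusion hNL))
      (Magnet.AMonS.map S (AddSubmonoid.inclusion hN'L')) (Magnet.AMonS.faceMap S hN) := by
  have h := po S N N' L L' hNL hN'L' hL hN hdiff (𝟙_ (Over S))
  exact h.of_iso (ρ_ _) (ρ_ _) (ρ_ _) (ρ_ _) (rightUnitor_naturality _)
    (rightUnitor_naturality _) (rightUnitor_naturality _) (rightUnitor_naturality _)

end Groth.Agent.Helper17.AG62
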