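import Mathlib
import Groth.Prelude.Def_Magnet4
import Groth.Agent.Lib.Helper17.AG62

/-!
# The cartesian square of attractors `X^{N'} = X^{L'} ×_{X^L} X^N` (helper17)

Equivariance of a map out of `B ⊗ T` can be tested after a jointly epimorphic pair of equivariant maps
`B₁ ⟶ B`, `B₂ ⟶ B` (`isEquivariant_of_jointly_epi`); with the push-out squares of `AG62` this gives the
cartesian square of attractors for `N' = L' \ (L \ N)` (`isPullback_attr`, `main18303`).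
-/

set_option autoImplicit false
universe u
open CategoryTheory CategoryTheory.Limits MonoidalCategory CartesianMonoidalCategory MonObj
open AlgebraicGeometry Opposite

noncomputable section
namespace Groth.Agent.Helper17.AG63
open Groth.Agent.Helper17.AG62
open Magnet

section Abstract
universe v₁ u₁
variable {C : Type u₁} [Category.{v₁} C] [CartesianMonoidalCategory C] {A B B₁ B₂ X : C} [MonObj A]

/-- `(b, g, t) ↦ θ (g • b, t)` -/
def uMap (ρ : MonAct A B) (T : C) (θ : B ⊗ T ⟶ X) : B ⊗ (A ⊗ T) ⟶ X :=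
  lift (lift (snd B (A ⊗ T) ≫ fst A T) (fst B (A ⊗ T)) ≫ ρ.act) (snd B (A ⊗ T) ≫ snd A T) ≫ θ

/-- `(b, g, t) ↦ g • θ (b, t)` -/
def vMap (a : MonAct A X) (T : C) (θ : B ⊗ T ⟶ X) : B ⊗ (A ⊗ T) ⟶ X :=
  lift (snd B (A ⊗ T) ≫ fst A T) (lift (fst B (A ⊗ T)) (snd B (A ⊗ T) ≫ snd A T) ≫ θ) ≫ a.act

theorem lift_uMap (ρ : MonAct A B) (T : C) (θ : B ⊗ T ⟶ X) {T' : C} (b : T' ⟶ B) (g : T' ⟶ A)
    (t : T' ⟶ T) : lift b (lift g t) ≫ uMap ρ T θ = lift (lift g b ≫ ρ.act) t ≫ θ := by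
  simp only [uMap, comp_lift_assoc, lift_fst, lift_snd, lift_fst_assoc, lift_snd_assoc]

theorem lift_vMap (a : MonAct A X) (T : C) (θ : B ⊗ T ⟶ X) {T' : C} (b : T' ⟶ B) (g : T' ⟶ A)
    (t : T' ⟶ T) : lift b (lift g t) ≫ vMap a T θ = lift g (lift b t ≫ θ) ≫ a.act := by
  simp only [vMap, comp_lift_assoc, lift_fst, lift_snd, lift_fst_assoc, lift_snd_assoc]

theorem hom_ext_lift₂₁ {P Q R Z : C} {f g : P ⊗ (Q ⊗ R) ⟶ Z}
    (h : ∀ (T' : C) (p : T' ⟶ P) (q : T' ⟶ Q) (r : T' ⟶ R),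
      lift p (lift q r) ≫ f = lift p (lift q r) ≫ g) : f = g := by
  apply hom_ext_lift₂
  intro T' p z
  have := h T' p (z ≫ fst Q R) (z ≫ snd Q R)
  rwa [lift_comp_fst_snd] at this

theorem whisker_uMap {ρ : MonAct A B} {ρ₁ : MonAct A B₁} {ψ : B₁ ⟶ B}
    (hψ : MonAct.IsEquivariant ρ₁ ρ ψ) (T : C) (θ : B ⊗ T ⟶ X) :
    (ψ ▷ (A ⊗ T)) ≫ uMap ρ T θ = uMap ρ₁ T ((ψ ▷ T) ≫ θ) := by
  apply hom_ext_lift₂₁
  intro T' b g t
  rw [lift_whiskerRight_assoc, lift_uMap, lift_uMap, lift_whiskerRight_assoc]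
  rw [MonAct.isEquivariant_iff] at hψ
  rw [Category.assoc, hψ]

theorem whisker_vMap (a : MonAct A X) (ψ : B₁ ⟶ B) (T : C) (θ : B ⊗ T ⟶ X) :
    (ψ ▷ (A ⊗ T)) ≫ vMap a T θ = vMap a T ((ψ ▷ T) ≫ θ) := by
  apply hom_ext_lift₂₁
  intro T' b g t
  rw [lift_whiskerRight_assoc, lift_vMap, lift_vMap, lift_whiskerRight_assoc]

theorem isEquivariant_iff_uMap_eq_vMap (ρ : MonAct A B) (a : MonAct A X) (T : C)
    (θ : B ⊗ T ⟶ X) :
    MonAct.IsEquivariant (ρ.prod (MonAct.trivial A T)) a θ ↔ uMap ρ T θ = vMap a T θ := by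
  rw [MonAct.mem_eqvHom_iff]
  constructor
  · intro h
    apply hom_ext_lift₂₁
    intro T' b g t
    rw [lift_uMap, lift_vMap, h]
  · intro h T' g b t
    rw [← lift_uMap, h, lift_vMap]

theorem isEquivariant_of_jointly_epi (ρ : MonAct A B) (ρ₁ : MonAct A B₁) (ρ₂ : MonAct A B₂)
    (a : MonAct A X) (ψ₁ : B₁ ⟶ B) (ψ₂ : B₂ ⟶ B) (h₁ : MonAct.IsEquivariant ρ₁ ρ ψ₁)
    (h₂ : MonAct.IsEquivariant ρ₂ ρ ψ₂) (T : C) (θ : B ⊗ T ⟶ X)
    (hepi : ∀ (k l : B ⊗ (A ⊗ T) ⟶ X), (ψ₁ ▷ (A ⊗ T)) ≫ k = (ψ₁ ▷ (A ⊗ T)) ≫ l →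
      (ψ₂ ▷ (A ⊗ T)) ≫ k = (ψ₂ ▷ (A ⊗ T)) ≫ l → k = l)
    (e₁ : MonAct.IsEquivariant (ρ₁.prod (MonAct.trivial A T)) a ((ψ₁ ▷ T) ≫ θ))
    (e₂ : MonAct.IsEquivariant (ρ₂.prod (MonAct.trivial A T)) a ((ψ₂ ▷ T) ≫ θ)) :
    MonAct.IsEquivariant (ρ.prod (MonAct.trivial A T)) a θ := by
  rw [isEquivariant_iff_uMap_eq_vMap] at e₁ e₂ ⊢
  apply hepi
  · rw [whisker_uMap h₁, whisker_vMap, e₁]
  · rw [whisker_uMap h₂, whisker_vMap, e₂]

end Abstract

theorem isPullback_attr {S : Scheme.{u}} {M : Type} [AddCommMonoid M] {X : Over S}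
    (a : MonAct (AMonS S M) X) (N N' L L' : AddSubmonoid M) (hNL : N ≤ L) (hN'L' : N' ≤ L')
    (hL : IsFace L' L) (hN : IsFace N' N)
    (hdiff : (N' : Set M) = (L' : Set M) \ ((L : Set M) \ (N : Set M))) :
    IsPullback (attrMap a hN'L') (attrFace a hN) (attrFace a hL) (attrMap a hNL) := by
  have hq : MonAct.IsEquivariant (subAct S M L') (subAct S M N')
      (AMonS.map S (AddSubmonoid.inclusion hN'L')) :=
    MonAct.isEquivariant_restrict_regular _ _ _ (by rw [← AMonS.map_comp]; rfl)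
  apply IsPullback.of_forall_isPullback_app
  intro T
  obtain ⟨T⟩ := T
  rw [Types.isPullback_iff]
  refine ⟨?_, ?_, ?_⟩
  · refine ConcreteCategory.hom_ext _ _ (fun θ => ?_)
    apply Subtype.ext
    show (AMonS.faceMap S hL ▷ T) ≫ (AMonS.map S (AddSubmonoid.inclusion hN'L') ▷ T) ≫ θ.1 =
      (AMonS.map S (AddSubmonoid.inclusion hNL) ▷ T) ≫ (AMonS.faceMap S hN ▷ T) ≫ θ.1
    rw [← Category.assoc, ← comp_whiskerRight, face_map_comm S N N' L L' hNL hN'L' hL hN hdiff,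
      comp_whiskerRight, Category.assoc]
  · rintro θ₁ θ₂ ⟨h1, h2⟩
    apply Subtype.ext
    exact (po S N N' L L' hNL hN'L' hL hN hdiff T).hom_ext (congrArg Subtype.val h1)
      (congrArg Subtype.val h2)
  · intro φ ψ hφψ
    have w : (AMonS.faceMap S hL ▷ T) ≫ φ.1 =
        (AMonS.map S (AddSubmonoid.inclusion hNL) ▷ T) ≫ ψ.1 := congrArg Subtype.val hφψ
    have P := po S N N' L L' hNL hN'L' hL hN hdiff T
    have e1 : (AMonS.map S (AddSubmonoid.inclusion hN'L') ▷ T) ≫ P.desc φ.1 ψ.1 w = φ.1 :=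
      P.inl_desc _ _ _
    have e2 : (AMonS.faceMap S hN ▷ T) ≫ P.desc φ.1 ψ.1 w = ψ.1 := P.inr_desc _ _ _
    have hθ : MonAct.IsEquivariant ((subAct S M N').prod (MonAct.trivial _ T)) a
        (P.desc φ.1 ψ.1 w) := by
      refine isEquivariant_of_jointly_epi (subAct S M N') (subAct S M L') (subAct S M N) a
        (AMonS.map S (AddSubmonoid.inclusion hN'L')) (AMonS.faceMap S hN) hq
        (isEquivariant_faceMapS S hN) T _ ?_ ?_ ?_
      · intro k l hk hl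
        exact (po S N N' L L' hNL hN'L' hL hN hdiff (AMonS S M ⊗ T)).hom_ext hk hl
      · rw [e1]; exact φ.2
      · rw [e2]; exact ψ.2
    exact ⟨⟨P.desc φ.1 ψ.1 w, hθ⟩, Subtype.ext e1, Subtype.ext e2⟩

theorem main18303 (S : Scheme.{u}) (M : Type) [AddCommGroup M] (X : Over S)
    (a : AlgGrp.Action (Red.DS S M) X) (N N' L L' : AddSubmonoid M) (hNL : N ≤ L) (hN'L' : N' ≤ L')
    (hL : Magnet.IsFace L' L) (hN : Magnet.IsFace N' N) (hmeet : N = L ⊓ N') (hjoin : L' = L ⊔ N')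
    (hdiff : (N' : Set M) = (L' : Set M) \ ((L : Set M) \ (N : Set M))) :
    IsPullback (Magnet.attrMap (Magnet.MonAct.ofAction a) hN'L') (Magnet.attrFace (Magnet.MonAct.ofAction a) hN)
      (Magnet.attrFace (Magnet.MonAct.ofAction a) hL) (Magnet.attrMap (Magnet.MonAct.ofAction a) hNL) :=
  isPullback_attr (Magnet.MonAct.ofAction a) N N' L L' hNL hN'L' hL hN hdiff

end Groth.Agent.Helper17.AG63
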