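import Mathlib
import Groth.Agent.Lib.Helper17.AG61

/-!
# Ring pullback squares: monoid algebras and fibre products (helper17)

`RPB` is stable under passing to monoid algebras (`rpb_monoidAlgebra`), the fibre product ring
`FP φ ψ = B' ×_B C` with its projections is an `RPB` square when `φ` is surjective (`rpb_fp`), and some
identities between maps of monoid algebras.
-/

set_option autoImplicit false
universe u

noncomputable section
namespace Groth.Agent.Helper17.AG64
open Groth.Agent.Helper17.AG57 Groth.Agent.Helper17.AG61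

theorem mapRingHom_surjective {A₁ A₂ : Type u} [CommRing A₁] [CommRing A₂] (f : A₁ →+* A₂)
    (hf : Function.Surjective f) (G : Type) [CommMonoid G] :
    Function.Surjective (MonoidAlgebra.mapRingHom G f) := by
  intro y
  induction y using MonoidAlgebra.induction_linear with
  | zero => exact ⟨0, map_zero _⟩
  | add x y hx hy =>
    obtain ⟨x', hx'⟩ := hx
    obtain ⟨y', hy'⟩ := hy
    exact ⟨x' + y', by rw [map_add, hx', hy']⟩
  | single m b =>
    obtain ⟨b', hb'⟩ := hf b
    exact ⟨MonoidAlgebra.single m b', by rw [MonoidAlgebra.mapRingHom_single, hb']⟩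

section MA
variable {C' B' B C : Type u} [CommRing C'] [CommRing B'] [CommRing B] [CommRing C]
  {π₁ : C' →+* B'} {π₂ : C' →+* C} {φ : B' →+* B} {ψ : C →+* B}

theorem rpb_monoidAlgebra (h : RPB π₁ π₂ φ ψ) (G : Type) [CommMonoid G] :
    RPB (MonoidAlgebra.mapRingHom G π₁) (MonoidAlgebra.mapRingHom G π₂)
      (MonoidAlgebra.mapRingHom G φ) (MonoidAlgebra.mapRingHom G ψ) := by
  classical
  refine ⟨?_, mapRingHom_surjective φ h.surj G, ?_, ?_⟩
  · intro x
    apply MonoidAlgebra.coeff_injective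
    ext m
    rw [MonoidAlgebra.coeff_mapRingHom, MonoidAlgebra.coeff_mapRingHom,
      MonoidAlgebra.coeff_mapRingHom, MonoidAlgebra.coeff_mapRingHom, h.comm]
  · intro x h1 h2
    apply MonoidAlgebra.coeff_injective
    ext m
    have e1 : π₁ (x.coeff m) = 0 := by
      rw [← MonoidAlgebra.coeff_mapRingHom, h1]; rfl
    have e2 : π₂ (x.coeff m) = 0 := by
      rw [← MonoidAlgebra.coeff_mapRingHom, h2]; rfl
    rw [h.inj _ e1 e2]; rfl
  · intro b c hbc
    have hm : ∀ m, φ (b.coeff m) = ψ (c.coeff m) := by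
      intro m
      rw [← MonoidAlgebra.coeff_mapRingHom, ← MonoidAlgebra.coeff_mapRingHom, hbc]
    choose xf hxf1 hxf2 using fun m => h.ex (b.coeff m) (c.coeff m) (hm m)
    have hsupp : ∀ m, xf m ≠ 0 → m ∈ b.coeff.support ∪ c.coeff.support := by
      intro m hne
      by_contra hnot
      rw [Finset.mem_union, not_or, Finsupp.notMem_support_iff, Finsupp.notMem_support_iff]
        at hnot
      apply hne
      apply h.inj
      · rw [hxf1, hnot.1]
      · rw [hxf2, hnot.2]
    refine ⟨MonoidAlgebra.ofCoeff (Finsupp.onFinset _ xf hsupp), ?_, ?_⟩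
    · apply MonoidAlgebra.coeff_injective
      ext m
      rw [MonoidAlgebra.coeff_mapRingHom]
      exact hxf1 m
    · apply MonoidAlgebra.coeff_injective
      ext m
      rw [MonoidAlgebra.coeff_mapRingHom]
      exact hxf2 m

end MA

section FibreProduct
variable {B' B C : Type u} [CommRing B'] [CommRing B] [CommRing C] (φ : B' →+* B) (ψ : C →+* B)

/-- the fibre product ring `B' ×_B C` -/
abbrev FP : Subring (B' × C) :=
  RingHom.eqLocus (φ.comp (RingHom.fst B' C)) (ψ.comp (RingHom.snd B' C))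

/-- first projection -/
def fp₁ : FP φ ψ →+* B' := (RingHom.fst B' C).comp (FP φ ψ).subtype

/-- second projection -/
def fp₂ : FP φ ψ →+* C := (RingHom.snd B' C).comp (FP φ ψ).subtype

theorem rpb_fp (hφ : Function.Surjective φ) : RPB (fp₁ φ ψ) (fp₂ φ ψ) φ ψ := by
  refine ⟨?_, hφ, ?_, ?_⟩
  · intro x
    exact x.2
  · intro x h1 h2
    apply Subtype.ext
    exact Prod.ext h1 h2
  · intro b c hbc
    exact ⟨⟨(b, c), hbc⟩, rfl, rfl⟩

variable {φ ψ} in
/-- the map into the fibre product -/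
def fpLift {A : Type u} [CommRing A] (f₁ : A →+* B') (f₂ : A →+* C)
    (h : φ.comp f₁ = ψ.comp f₂) : A →+* FP φ ψ :=
  (f₁.prod f₂).codRestrict (FP φ ψ) (fun a => RingHom.congr_fun h a)

theorem fp₁_comp_fpLift {A : Type u} [CommRing A] (f₁ : A →+* B') (f₂ : A →+* C)
    (h : φ.comp f₁ = ψ.comp f₂) : (fp₁ φ ψ).comp (fpLift f₁ f₂ h) = f₁ :=
  RingHom.ext fun _ => rfl

theorem fp₂_comp_fpLift {A : Type u} [CommRing A] (f₁ : A →+* B') (f₂ : A →+* C)
    (h : φ.comp f₁ = ψ.comp f₂) : (fp₂ φ ψ).comp (fpLift f₁ f₂ h) = f₂ :=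
  RingHom.ext fun _ => rfl

end FibreProduct

section Identities

theorem zHom_unique {R : Type u} [CommRing R] (f : ULift.{u} ℤ →+* R) : f = zHom R := by
  have h : f.comp (ULift.ringEquiv.symm : ℤ ≃+* ULift.{u} ℤ).toRingHom =
      (zHom R).comp (ULift.ringEquiv.symm : ℤ ≃+* ULift.{u} ℤ).toRingHom :=
    RingHom.ext_int _ _
  apply RingHom.ext
  intro z
  have h2 : f ((ULift.ringEquiv.symm : ℤ ≃+* ULift.{u} ℤ) (ULift.ringEquiv z)) =
      zHom R ((ULift.ringEquiv.symm : ℤ ≃+* ULift.{u} ℤ) (ULift.ringEquiv z)) :=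
    RingHom.congr_fun h (ULift.ringEquiv z)
  rwa [RingEquiv.symm_apply_apply] at h2

theorem mapRingHom_comp_zHom {R₁ R₂ : Type u} [CommRing R₁] [CommRing R₂] (r : R₂ →+* R₁)
    (G : Type) [CommMonoid G] :
    (MonoidAlgebra.mapRingHom G r).comp (MonoidAlgebra.mapRingHom G (zHom R₂)) =
      MonoidAlgebra.mapRingHom G (zHom R₁) := by
  rw [← MonoidAlgebra.mapRingHom_comp, zHom_unique (r.comp (zHom R₂))]

theorem mapRingHom_comp_single {R₁ R₂ : Type u} [CommRing R₁] [CommRing R₂] (r : R₂ →+* R₁)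
    (G : Type) [CommMonoid G] :
    (MonoidAlgebra.mapRingHom G r).comp
        (MonoidAlgebra.singleOneRingHom : R₂ →+* MonoidAlgebra R₂ G) =
      (MonoidAlgebra.singleOneRingHom : R₁ →+* MonoidAlgebra R₁ G).comp r := by
  apply RingHom.ext
  intro x
  show MonoidAlgebra.mapRingHom G r (MonoidAlgebra.single 1 x) = MonoidAlgebra.single 1 (r x)
  exact MonoidAlgebra.mapRingHom_single _ _ _

end Identities

end Groth.Agent.Helper17.AG64
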