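import Mathlib
import Groth.Prelude.Def_Magnet4
import Groth.Prelude.Def_GmPts
import Groth.Agent.Lib.Helper17.AG62
import Groth.Agent.Lib.Helper17.AG64

/-!
# Global Ferrand charts and their base change to `A(M)_T ×_T -` (helper17)

Naturality of the charts `Spec R[N] ⟶ A(N)_S ×_S W` in `W` (`mchart_natural_W`), global Ferrand charts
of a square in `Over T` (`GChart`), the push-out they give (`GChart.isPushout`) and the induced global
chart of the square multiplied by `A(M)_T` (`GChart.whisker`).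
-/

set_option autoImplicit false
universe u
open CategoryTheory CategoryTheory.Limits MonoidalCategory CartesianMonoidalCategory MonObj
open AlgebraicGeometry Opposite TopologicalSpace

noncomputable section
namespace Groth.Agent.Helper17.AG65
open Groth.Agent.Helper17.AG57 Groth.Agent.Helper17.AG58 Groth.Agent.Helper17.AG59
  Groth.Agent.Helper17.AG60 Groth.Agent.Helper17.AG61 Groth.Agent.Helper17.AG62
  Groth.Agent.Helper17.AG64
open Magnet GmPts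

section GenericW
variable {S : Scheme.{u}} (𝔸 : Over baseZ.{u})

theorem chartFst_eq {W₁ W₂ : Over S} {D₁ D₂ U₁ U₂ : Scheme.{u}} (d₁ : D₁ ⟶ 𝔸.left)
    (d₂ : D₁ ⟶ U₁) (j₁ : U₁ ⟶ W₁.left) (d₁' : D₂ ⟶ 𝔸.left) (d₂' : D₂ ⟶ U₂) (j₂ : U₂ ⟶ W₂.left)
    (c : D₁ ⟶ D₂) (h1 : c ≫ d₁' = d₁) (h2 : c ≫ d₂' ≫ j₂ ≫ W₂.hom = d₂ ≫ j₁ ≫ W₁.hom) :
    chartFst 𝔸 W₁ d₁ d₂ j₁ = c ≫ chartFst 𝔸 W₂ d₁' d₂' j₂ := by
  refine pullback.hom_ext ?_ ?_
  · rw [chartFst_fst, Category.assoc, chartFst_fst, h1]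
  · rw [chartFst_snd, Category.assoc, chartFst_snd, h2]

theorem chart_natural_W {W₁ W₂ : Over S} (h : W₁ ⟶ W₂) {D₁ D₂ U₁ U₂ : Scheme.{u}}
    (d₁ : D₁ ⟶ 𝔸.left) (d₂ : D₁ ⟶ U₁) (j₁ : U₁ ⟶ W₁.left) (d₁' : D₂ ⟶ 𝔸.left) (d₂' : D₂ ⟶ U₂)
    (j₂ : U₂ ⟶ W₂.left) (c : D₁ ⟶ D₂) (v : U₁ ⟶ U₂) (hj : j₁ ≫ h.left = v ≫ j₂)
    (h1 : c ≫ d₁' = d₁) (h2 : c ≫ d₂' = d₂ ≫ v) :
    chart 𝔸 W₁ d₁ d₂ j₁ ≫ (bcA S 𝔸 ◁ h).left = c ≫ chart 𝔸 W₂ d₁' d₂' j₂ := by
  refine Over.tensorObj_ext _ _ ?_ ?_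
  · rw [Category.assoc, Over.whiskerLeft_left_fst, chart_fst, Category.assoc, chart_fst]
    apply chartFst_eq
    · exact h1
    · have e : v ≫ j₂ ≫ W₂.hom = j₁ ≫ W₁.hom := by
        rw [← Category.assoc, ← hj, Category.assoc, Over.w h]
      rw [← Category.assoc, h2, Category.assoc, e]
  · have e1 : (chart 𝔸 W₁ d₁ d₂ j₁ ≫ (bcA S 𝔸 ◁ h).left) ≫ pullback.snd (bcA S 𝔸).hom W₂.hom =
        d₂ ≫ j₁ ≫ h.left := by
      rw [Category.assoc, Over.whiskerLeft_left_snd, ← Category.assoc, chart_snd, Category.assoc]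
    have e2 : (c ≫ chart 𝔸 W₂ d₁' d₂' j₂) ≫ pullback.snd (bcA S 𝔸).hom W₂.hom = d₂ ≫ v ≫ j₂ := by
      rw [Category.assoc, chart_snd, ← Category.assoc, h2, Category.assoc]
    rw [e1, e2, hj]

theorem chartFst_isPullback {W : Over S} {D U : Scheme.{u}} (d₁ : D ⟶ 𝔸.left) (d₂ : D ⟶ U)
    (j : U ⟶ W.left) (hpb : IsPullback d₁ d₂ 𝔸.hom (toBaseZ U)) :
    IsPullback (chartFst 𝔸 W d₁ d₂ j) d₂ (bcA S 𝔸).hom (j ≫ W.hom) := by
  have H2 : IsPullback (pullback.fst 𝔸.hom (toBaseZ S)) (bcA S 𝔸).hom 𝔸.hom (toBaseZ S) :=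
    IsPullback.of_hasPullback _ _
  have e2 : (j ≫ W.hom) ≫ toBaseZ S = toBaseZ U := specULiftZIsTerminal.hom_ext _ _
  have outer : IsPullback (chartFst 𝔸 W d₁ d₂ j ≫ pullback.fst 𝔸.hom (toBaseZ S)) d₂ 𝔸.hom
      ((j ≫ W.hom) ≫ toBaseZ S) := by
    rw [chartFst_fst, e2]
    exact hpb
  exact IsPullback.of_right outer (by rw [chartFst_hom]) H2

theorem isIso_of_isPullback_of_isIso {P X Y Z : Scheme.{u}} {p₁ : P ⟶ X} {p₂ : P ⟶ Y}
    {f : X ⟶ Z} {g : Y ⟶ Z} (h : IsPullback p₁ p₂ f g) [IsIso g] : IsIso p₁ := by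
  rw [← h.isoPullback_hom_fst]
  infer_instance

end GenericW

section MonoidW
variable {S : Scheme.{u}}

theorem mchart_natural_W {W₁ W₂ : Over S} (h : W₁ ⟶ W₂) {R₁ R₂ : Type u} [CommRing R₁]
    [CommRing R₂] (j₁ : Spec (CommRingCat.of R₁) ⟶ W₁.left) (j₂ : Spec (CommRingCat.of R₂) ⟶ W₂.left)
    (r : R₂ →+* R₁) (hj : j₁ ≫ h.left = Sp r ≫ j₂) (N : Type) [AddCommMonoid N] :
    mchart W₁ j₁ N ≫ (AMonS S N ◁ h).left =
      Sp (MonoidAlgebra.mapRingHom (Multiplicative N) r) ≫ mchart W₂ j₂ N := by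
  refine chart_natural_W (AMon (ULift.{u} ℤ) N) h (d₁ R₁ N) (d₂ R₁ N) j₁ (d₁ R₂ N) (d₂ R₂ N) j₂ _
    (Sp r) hj ?_ ?_
  · show Spec.map (CommRingCat.ofHom _) ≫ Spec.map (CommRingCat.ofHom _) =
      Spec.map (CommRingCat.ofHom _)
    rw [← Spec.map_comp, ← CommRingCat.ofHom_comp, mapRingHom_comp_zHom]
  · show Spec.map (CommRingCat.ofHom _) ≫ Spec.map (CommRingCat.ofHom _) =
      Spec.map (CommRingCat.ofHom _) ≫ Spec.map (CommRingCat.ofHom _)
    rw [← Spec.map_comp, ← Spec.map_comp, ← CommRingCat.ofHom_comp, ← CommRingCat.ofHom_comp,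
      mapRingHom_comp_single]

end MonoidW

/-! ### Global charts -/

variable {T : Scheme.{u}}

/-- a global affine Ferrand chart of a square in `Over T` -/
structure GChart {Z X Y P : Over T} (i : Z ⟶ X) (g : Z ⟶ Y) (α : X ⟶ P) (β : Y ⟶ P) where
  C' : Type u
  B' : Type u
  B : Type u
  C : Type u
  [iC' : CommRing C']
  [iB' : CommRing B']
  [iB : CommRing B]
  [iC : CommRing C]
  π₁ : C' →+* B'
  π₂ : C' →+* C
  φ : B' →+* B
  ψ : C →+* B
  rpb : RPB π₁ π₂ φ ψ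
  k : Spec (CommRingCat.of C') ⟶ P.left
  kX : Spec (CommRingCat.of B') ⟶ X.left
  kY : Spec (CommRingCat.of C) ⟶ Y.left
  kZ : Spec (CommRingCat.of B) ⟶ Z.left
  hk : IsOpenImmersion k
  hkX : IsOpenImmersion kX
  hkY : IsOpenImmersion kY
  sk : ∀ p : P.left, p ∈ Set.range k
  skX : ∀ p : X.left, p ∈ Set.range kX
  skY : ∀ p : Y.left, p ∈ Set.range kY
  wX : kX ≫ α.left = Sp π₁ ≫ k
  wY : kY ≫ β.left = Sp π₂ ≫ k
  wZX : kZ ≫ i.left = Sp φ ≫ kX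
  wZY : kZ ≫ g.left = Sp ψ ≫ kY

attribute [instance] GChart.iC' GChart.iB' GChart.iB GChart.iC GChart.hk GChart.hkX GChart.hkY

namespace GChart
variable {Z X Y P : Over T} {i : Z ⟶ X} {g : Z ⟶ Y} {α : X ⟶ P} {β : Y ⟶ P}

theorem isPushout (ch : GChart i g α β) (w : i ≫ α = g ≫ β) : IsPushout i g α β := by
  apply isPushout_over
  apply isPushout_of_charts
  · rw [← Over.comp_left, ← Over.comp_left, w]
  · intro p
    exact ⟨{
      C' := ch.C'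
      B' := ch.B'
      B := ch.B
      C := ch.C
      π₁ := ch.π₁
      π₂ := ch.π₂
      φ := ch.φ
      ψ := ch.ψ
      rpb := ch.rpb
      k := ch.k
      kX := ch.kX
      kY := ch.kY
      kZ := ch.kZ
      hk := ch.hk
      hkX := ch.hkX
      hkY := ch.hkY
      wX := ch.wX
      wY := ch.wY
      wZX := ch.wZX
      wZY := ch.wZY
      preX := fun x _ => ch.skX x
      preY := fun y _ => ch.skY y }, ch.sk p⟩

/-- the global chart of the square multiplied by `A(M)_T` -/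
def whisker (ch : GChart i g α β) (M : Type) [AddCommMonoid M] :
    GChart (AMonS T M ◁ i) (AMonS T M ◁ g) (AMonS T M ◁ α) (AMonS T M ◁ β) where
  C' := MonoidAlgebra ch.C' (Multiplicative M)
  B' := MonoidAlgebra ch.B' (Multiplicative M)
  B := MonoidAlgebra ch.B (Multiplicative M)
  C := MonoidAlgebra ch.C (Multiplicative M)
  π₁ := MonoidAlgebra.mapRingHom (Multiplicative M) ch.π₁
  π₂ := MonoidAlgebra.mapRingHom (Multiplicative M) ch.π₂
  φ := MonoidAlgebra.mapRingHom (Multiplicative M) ch.φ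
  ψ := MonoidAlgebra.mapRingHom (Multiplicative M) ch.ψ
  rpb := rpb_monoidAlgebra ch.rpb (Multiplicative M)
  k := mchart P ch.k M
  kX := mchart X ch.kX M
  kY := mchart Y ch.kY M
  kZ := mchart Z ch.kZ M
  hk := mchart_isOpenImmersion P ch.k M
  hkX := mchart_isOpenImmersion X ch.kX M
  hkY := mchart_isOpenImmersion Y ch.kY M
  sk := fun p => mem_range_mchart P ch.k M p (ch.sk _)
  skX := fun p => mem_range_mchart X ch.kX M p (ch.skX _)
  skY := fun p => mem_range_mchart Y ch.kY M p (ch.skY _)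
  wX := mchart_natural_W α ch.kX ch.k ch.π₁ ch.wX M
  wY := mchart_natural_W β ch.kY ch.k ch.π₂ ch.wY M
  wZX := mchart_natural_W i ch.kZ ch.kX ch.φ ch.wZX M
  wZY := mchart_natural_W g ch.kZ ch.kY ch.ψ ch.wZY M

end GChart

end Groth.Agent.Helper17.AG65
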