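import Mathlib
import Groth.Prelude.Def_Magnet4

/-!
# Monoid actions on push-outs (helper17)

In a cartesian monoidal category, if a push-out square of objects with `A`-action and equivariant legs
stays a push-out after multiplying with `A`, and its cocone legs stay jointly epimorphic after multiplying
with `A ⊗ A`, then the push-out carries a unique action making the cocone legs equivariant, and the
morphisms induced by equivariant morphisms are equivariant (`exists_action`).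
-/

set_option autoImplicit false
open CategoryTheory CategoryTheory.Limits MonoidalCategory CartesianMonoidalCategory MonObj

noncomputable section
namespace Groth.Agent.Helper17.AG66
open Magnet

universe v₁ u₁
variable {C : Type u₁} [Category.{v₁} C] [CartesianMonoidalCategory C] {A Z Y₁ Y₂ P : C} [MonObj A]
  {f₁ : Z ⟶ Y₁} {f₂ : Z ⟶ Y₂} {ν₁ : Y₁ ⟶ P} {ν₂ : Y₂ ⟶ P}

theorem exists_action (hP : IsPushout f₁ f₂ ν₁ ν₂)
    (hAP : IsPushout (A ◁ f₁) (A ◁ f₂) (A ◁ ν₁) (A ◁ ν₂))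
    (hAAP : ∀ (k l : (A ⊗ A) ⊗ P ⟶ P), ((A ⊗ A) ◁ ν₁) ≫ k = ((A ⊗ A) ◁ ν₁) ≫ l →
      ((A ⊗ A) ◁ ν₂) ≫ k = ((A ⊗ A) ◁ ν₂) ≫ l → k = l)
    (aZ : MonAct A Z) (a₁ : MonAct A Y₁) (a₂ : MonAct A Y₂)
    (e₁ : MonAct.IsEquivariant aZ a₁ f₁) (e₂ : MonAct.IsEquivariant aZ a₂ f₂) :
    ∃ aP : MonAct A P, MonAct.IsEquivariant a₁ aP ν₁ ∧ MonAct.IsEquivariant a₂ aP ν₂ ∧
      ∀ (X : C) (aX : MonAct A X) (g₁ : Y₁ ⟶ X) (g₂ : Y₂ ⟶ X) (w : f₁ ≫ g₁ = f₂ ≫ g₂),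
        MonAct.IsEquivariant a₁ aX g₁ → MonAct.IsEquivariant a₂ aX g₂ →
        MonAct.IsEquivariant aP aX (hP.desc g₁ g₂ w) := by
  have wact : (A ◁ f₁) ≫ a₁.act ≫ ν₁ = (A ◁ f₂) ≫ a₂.act ≫ ν₂ := by
    unfold MonAct.IsEquivariant at e₁ e₂
    rw [← Category.assoc, ← e₁, ← Category.assoc (A ◁ f₂), ← e₂, Category.assoc, Category.assoc,
      hP.w]
  obtain ⟨act, hact⟩ : ∃ act : A ⊗ P ⟶ P, act = hAP.desc (a₁.act ≫ ν₁) (a₂.act ≫ ν₂) wact :=
    ⟨_, rfl⟩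
  have h1 : (A ◁ ν₁) ≫ act = a₁.act ≫ ν₁ := by rw [hact]; exact hAP.inl_desc _ _ _
  have h2 : (A ◁ ν₂) ≫ act = a₂.act ≫ ν₂ := by rw [hact]; exact hAP.inr_desc _ _ _
  have one_act : (η[A] ▷ P) ≫ act = (λ_ P).hom := by
    have key : (λ_ P).inv ≫ (η[A] ▷ P) ≫ act = 𝟙 P := by
      apply hP.hom_ext
      · rw [leftUnitor_inv_naturality_assoc, whisker_exchange_assoc, h1,
          reassoc_of% a₁.one_act, Iso.inv_hom_id_assoc, Category.comp_id]
      · rw [leftUnitor_inv_naturality_assoc, whisker_exchange_assoc, h2,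
          reassoc_of% a₂.one_act, Iso.inv_hom_id_assoc, Category.comp_id]
    rw [← cancel_epi (λ_ P).inv, key, Iso.inv_hom_id]
  have mul_act : (μ[A] ▷ P) ≫ act = (α_ A A P).hom ≫ (A ◁ act) ≫ act := by
    apply hAAP
    · rw [whisker_exchange_assoc, h1, reassoc_of% a₁.mul_act,
        associator_naturality_right_assoc, ← whiskerLeft_comp_assoc, h1,
        whiskerLeft_comp_assoc, h1]
    · rw [whisker_exchange_assoc, h2, reassoc_of% a₂.mul_act,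
        associator_naturality_right_assoc, ← whiskerLeft_comp_assoc, h2,
        whiskerLeft_comp_assoc, h2]
  refine ⟨⟨act, one_act, mul_act⟩, h1.symm, h2.symm, ?_⟩
  intro X aX g₁ g₂ w hg₁ hg₂
  unfold MonAct.IsEquivariant at hg₁ hg₂ ⊢
  show act ≫ hP.desc g₁ g₂ w = (A ◁ hP.desc g₁ g₂ w) ≫ aX.act
  apply hAP.hom_ext
  · rw [reassoc_of% h1, hP.inl_desc, ← whiskerLeft_comp_assoc, hP.inl_desc, hg₁]
  · rw [reassoc_of% h2, hP.inr_desc, ← whiskerLeft_comp_assoc, hP.inr_desc, hg₂]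

theorem isEquivariant_whiskerRight {B₁ B : C} {ρ₁ : MonAct A B₁} {ρ : MonAct A B} {ψ : B₁ ⟶ B}
    (hψ : MonAct.IsEquivariant ρ₁ ρ ψ) (T : C) :
    MonAct.IsEquivariant (ρ₁.prod (MonAct.trivial A T)) (ρ.prod (MonAct.trivial A T)) (ψ ▷ T) := by
  rw [MonAct.isEquivariant_iff] at hψ ⊢
  intro T' g x
  rw [← lift_comp_fst_snd x, MonAct.lift_prod_act_assoc, lift_whiskerRight, lift_whiskerRight,
    MonAct.lift_prod_act, Category.assoc, hψ]

/-- joint epimorphy transported along the associator -/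
theorem jointly_epi_assoc {W : C}
    (h : ∀ (k l : A ⊗ (A ⊗ P) ⟶ W), (A ◁ (A ◁ ν₁)) ≫ k = (A ◁ (A ◁ ν₁)) ≫ l →
      (A ◁ (A ◁ ν₂)) ≫ k = (A ◁ (A ◁ ν₂)) ≫ l → k = l)
    (k l : (A ⊗ A) ⊗ P ⟶ W) (hk₁ : ((A ⊗ A) ◁ ν₁) ≫ k = ((A ⊗ A) ◁ ν₁) ≫ l)
    (hk₂ : ((A ⊗ A) ◁ ν₂) ≫ k = ((A ⊗ A) ◁ ν₂) ≫ l) : k = l := by
  have key : (α_ A A P).inv ≫ k = (α_ A A P).inv ≫ l := by
    apply h
    · rw [associator_inv_naturality_right_assoc, associator_inv_naturality_right_assoc, hk₁]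
    · rw [associator_inv_naturality_right_assoc, associator_inv_naturality_right_assoc, hk₂]
  exact (cancel_epi (α_ A A P).inv).mp key

end Groth.Agent.Helper17.AG66
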