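import Mathlib
import Groth.Prelude.Def_Magnet4
import Groth.Prelude.Def_GmPts
import Groth.Prelude.Def_MoreMor
import Groth.Agent.Lib.Helper17.AG65
import Groth.Agent.Lib.Helper17.AG66

/-!
# The equivariant push-out `A(F)_T ⊔_{A(F)_T̄} A(N)_T̄` (helper17)

For `T` affine, `T̄ → T` a closed immersion and `F` a face of `N`: the push-out of
`A(F)_T ← A(F)_T ×_T T̄ → A(N)_T ×_T T̄` is `Spec` of the fibre product ring `R[F] ×_{R̄[F]} R̄[N]`; it
carries an action of `A(M)_T` and is a push-out for equivariant morphisms (`main18243`).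
-/

set_option autoImplicit false
universe u
open CategoryTheory CategoryTheory.Limits MonoidalCategory CartesianMonoidalCategory MonObj
open AlgebraicGeometry Opposite TopologicalSpace

noncomputable section
namespace Groth.Agent.Helper17.AG67
open Groth.Agent.Helper17.AG57 Groth.Agent.Helper17.AG58 Groth.Agent.Helper17.AG59
  Groth.Agent.Helper17.AG60 Groth.Agent.Helper17.AG61 Groth.Agent.Helper17.AG62
  Groth.Agent.Helper17.AG64 Groth.Agent.Helper17.AG65 Groth.Agent.Helper17.AG66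
open Magnet GmPts

theorem GChart.comm {T : Scheme.{u}} {Z X Y P : Over T} {i : Z ⟶ X} {g : Z ⟶ Y} {α : X ⟶ P}
    {β : Y ⟶ P} (ch : GChart i g α β) [Epi ch.kZ] : i ≫ α = g ≫ β := by
  ext : 1
  rw [Over.comp_left, Over.comp_left, ← cancel_epi ch.kZ, reassoc_of% ch.wZX, ch.wX,
    reassoc_of% ch.wZY, ch.wY, ← Category.assoc, ← Category.assoc, ← Sp_comp, ← Sp_comp]
  congr 2
  apply RingHom.ext
  intro x
  exact ch.rpb.comm x

section Base
variable (T : Scheme.{u}) {M : Type} [AddCommMonoid M] {N F : AddSubmonoid M} (hF : IsFace N F)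
  (Tb : Over T) {R Rb : Type u} [CommRing R] [CommRing Rb]
  (jT : Spec (CommRingCat.of R) ⟶ T) [IsIso jT]
  (jb : Spec (CommRingCat.of Rb) ⟶ Tb.left) [IsIso jb]
  (r : R →+* Rb) (hr : Function.Surjective r) (hj : jb ≫ Tb.hom = Sp r ≫ jT)

/-- `R[F] → R̄[F]` -/
abbrev phi : MonoidAlgebra R (Multiplicative F) →+* MonoidAlgebra Rb (Multiplicative F) :=
  MonoidAlgebra.mapRingHom (Multiplicative F) r

/-- `R̄[N] → R̄[F]` -/
abbrev psi : MonoidAlgebra Rb (Multiplicative N) →+* MonoidAlgebra Rb (Multiplicative F) :=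
  (faceAlgHom Rb hF).toRingHom

theorem sC_aux :
    (phi (F := F) r).comp (MonoidAlgebra.singleOneRingHom : R →+* MonoidAlgebra R (Multiplicative F)) =
      (psi hF).comp ((MonoidAlgebra.singleOneRingHom :
        Rb →+* MonoidAlgebra Rb (Multiplicative N)).comp r) := by
  rw [mapRingHom_comp_single, ← RingHom.comp_assoc, face_ring_h2]

/-- the structure map `R → R[F] ×_{R̄[F]} R̄[N]` -/
def sC : R →+* FP (phi (F := F) r) (psi hF) :=
  fpLift MonoidAlgebra.singleOneRingHom (MonoidAlgebra.singleOneRingHom.comp r) (sC_aux hF r)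

/-- the push-out -/
def Pobj : Over T := Over.mk (Sp (sC hF r) ≫ jT)

/-- chart of `A(F)_T` -/
def kX₀ : Spec (CommRingCat.of (MonoidAlgebra R (Multiplicative F))) ⟶ (AMonS T F).left :=
  chartFst (AMon (ULift.{u} ℤ) F) (𝟙_ (Over T)) (d₁ R F) (d₂ R F) jT

instance : IsIso (kX₀ (F := F) T jT) := by
  haveI : IsIso (jT ≫ (𝟙_ (Over T)).hom) := by
    show IsIso (jT ≫ 𝟙 T)
    infer_instance
  exact isIso_of_isPullback_of_isIso
    (chartFst_isPullback (AMon (ULift.{u} ℤ) F) (W := 𝟙_ (Over T)) (d₁ R F) (d₂ R F) jT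
      (model_isPullback R F))

theorem kX₀_hom : kX₀ (F := F) T jT ≫ (AMonS T F).hom = d₂ R F ≫ jT := by
  have h := chartFst_hom (AMon (ULift.{u} ℤ) F) (𝟙_ (Over T)) (d₁ R F) (d₂ R F) jT
  have e : jT ≫ (𝟙_ (Over T)).hom = jT := Category.comp_id jT
  rw [e] at h
  exact h

/-- chart of `A(N)_T ×_T T̄` -/
abbrev kY₀ : Spec (CommRingCat.of (MonoidAlgebra Rb (Multiplicative N))) ⟶
    (AMonS T N ⊗ Tb).left := mchart Tb jb N

instance kY₀_isIso (N : AddSubmonoid M) : IsIso (mchart Tb jb N) :=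
  isIso_of_isPullback_of_isIso (chart_isPullback (AMon (ULift.{u} ℤ) N) Tb (d₁ Rb N) (d₂ Rb N) jb
    (model_isPullback Rb N))

include hj in
theorem kY₀_hom : mchart Tb jb N ≫ (AMonS T N ⊗ Tb).hom = d₂ Rb N ≫ Sp r ≫ jT := by
  have e : (AMonS T N ⊗ Tb).hom = (snd (AMonS T N) Tb).left ≫ Tb.hom :=
    (Over.w (snd (AMonS T N) Tb)).symm
  rw [e, ← Category.assoc, mchart_snd, Category.assoc, hj]

/-- `A(F)_T ⟶ P` -/
def nu1 : AMonS T F ⟶ Pobj T hF jT r :=
  Over.homMk (inv (kX₀ (F := F) T jT) ≫ Sp (fp₁ (phi (F := F) r) (psi hF))) (by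
    show (inv (kX₀ (F := F) T jT) ≫ Sp (fp₁ (phi (F := F) r) (psi hF))) ≫ (Sp (sC hF r) ≫ jT) =
      (AMonS T F).hom
    rw [Category.assoc, IsIso.inv_comp_eq, kX₀_hom, ← Category.assoc, ← Sp_comp, sC,
      fp₁_comp_fpLift]
    rfl)

include hj in
theorem nu2_w : (inv (mchart Tb jb N) ≫ Sp (fp₂ (phi (F := F) r) (psi hF))) ≫
    (Sp (sC hF r) ≫ jT) = (AMonS T N ⊗ Tb).hom := by
  rw [Category.assoc, IsIso.inv_comp_eq, kY₀_hom T Tb jT jb r hj, ← Category.assoc, ← Sp_comp, sC,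
    fp₂_comp_fpLift, Sp_comp, Category.assoc]
  rfl

/-- `A(N)_T ×_T T̄ ⟶ P` -/
def nu2 : AMonS T N ⊗ Tb ⟶ Pobj T hF jT r :=
  Over.homMk (inv (mchart Tb jb N) ≫ Sp (fp₂ (phi (F := F) r) (psi hF))) (nu2_w T hF Tb jT jb r hj)

include hr hj in
/-- the global chart of the square -/
def baseChart : GChart (fst (AMonS T F) Tb) (AMonS.faceMap T hF ▷ Tb) (nu1 T hF jT r)
    (nu2 T hF Tb jT jb r hj) where
  C' := FP (phi (F := F) r) (psi hF)
  B' := MonoidAlgebra R (Multiplicative F)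
  B := MonoidAlgebra Rb (Multiplicative F)
  C := MonoidAlgebra Rb (Multiplicative N)
  π₁ := fp₁ (phi (F := F) r) (psi hF)
  π₂ := fp₂ (phi (F := F) r) (psi hF)
  φ := phi (F := F) r
  ψ := psi hF
  rpb := rpb_fp _ _ (mapRingHom_surjective r hr _)
  k := 𝟙 _
  kX := kX₀ (F := F) T jT
  kY := mchart Tb jb N
  kZ := mchart Tb jb F
  hk := by
    show IsOpenImmersion (𝟙 (Spec (CommRingCat.of (FP (phi (F := F) r) (psi hF)))))
    infer_instance
  hkX := inferInstance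
  hkY := inferInstance
  sk := fun p => ⟨p, rfl⟩
  skX := fun p => ⟨(inv (kX₀ (F := F) T jT)) p, by
    rw [← Scheme.Hom.comp_apply, IsIso.inv_hom_id]; rfl⟩
  skY := fun p => ⟨(inv (mchart Tb jb N)) p, by
    rw [← Scheme.Hom.comp_apply, IsIso.inv_hom_id]; rfl⟩
  wX := by
    show kX₀ (F := F) T jT ≫ (inv (kX₀ (F := F) T jT) ≫ Sp _) = Sp _ ≫ 𝟙 _
    rw [IsIso.hom_inv_id_assoc, Category.comp_id]
  wY := by
    show mchart Tb jb N ≫ (inv (mchart Tb jb N) ≫ Sp _) = Sp _ ≫ 𝟙 _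
    rw [IsIso.hom_inv_id_assoc, Category.comp_id]
  wZX := by
    show mchart Tb jb F ≫ pullback.fst (AMonS T F).hom Tb.hom = _
    have h1 := chart_fst (AMon (ULift.{u} ℤ) F) Tb (d₁ Rb F) (d₂ Rb F) jb
    refine h1.trans ?_
    apply chartFst_eq
    · show Spec.map (CommRingCat.ofHom _) ≫ Spec.map (CommRingCat.ofHom _) =
        Spec.map (CommRingCat.ofHom _)
      rw [← Spec.map_comp, ← CommRingCat.ofHom_comp, mapRingHom_comp_zHom]
    · have e : jT ≫ (𝟙_ (Over T)).hom = jT := Category.comp_id jT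
      have e2 : Sp (phi (F := F) r) ≫ d₂ R F = d₂ Rb F ≫ Sp r := by
        show Spec.map (CommRingCat.ofHom _) ≫ Spec.map (CommRingCat.ofHom _) =
          Spec.map (CommRingCat.ofHom _) ≫ Spec.map (CommRingCat.ofHom _)
        rw [← Spec.map_comp, ← Spec.map_comp, ← CommRingCat.ofHom_comp, ← CommRingCat.ofHom_comp,
          mapRingHom_comp_single]
      rw [e, reassoc_of% e2, hj]
  wZY := mchart_face Tb jb hF

end Base

theorem core (T : Scheme.{u}) (M : Type) [AddCommMonoid M] {N F : AddSubmonoid M}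
    (hF : IsFace N F) (Tb : Over T) {R Rb : Type u} [CommRing R] [CommRing Rb]
    (jT : Spec (CommRingCat.of R) ⟶ T) [IsIso jT]
    (jb : Spec (CommRingCat.of Rb) ⟶ Tb.left) [IsIso jb]
    (r : R →+* Rb) (hr : Function.Surjective r) (hj : jb ≫ Tb.hom = Sp r ≫ jT) :
    ∃ (P : Over T) (ν₁ : AMonS T F ⟶ P) (ν₂ : AMonS T N ⊗ Tb ⟶ P)
      (hP : IsPushout (fst (AMonS T F) Tb) (AMonS.faceMap T hF ▷ Tb) ν₁ ν₂)
      (aP : MonAct (AMonS T M) P),
      IsAffine P.left ∧ MonAct.IsEquivariant (subAct T M F) aP ν₁ ∧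
      MonAct.IsEquivariant ((subAct T M N).prod (MonAct.trivial (AMonS T M) Tb)) aP ν₂ ∧
      ∀ (X : Over T) (aX : MonAct (AMonS T M) X) (f₁ : AMonS T F ⟶ X)
        (f₂ : AMonS T N ⊗ Tb ⟶ X)
        (w : fst (AMonS T F) Tb ≫ f₁ = (AMonS.faceMap T hF ▷ Tb) ≫ f₂),
        MonAct.IsEquivariant (subAct T M F) aX f₁ →
        MonAct.IsEquivariant ((subAct T M N).prod (MonAct.trivial (AMonS T M) Tb)) aX f₂ →
        MonAct.IsEquivariant aP aX (hP.desc f₁ f₂ w) := by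
  let ch₀ := baseChart T hF Tb jT jb r hr hj
  haveI : Epi ch₀.kZ := by
    show Epi (mchart Tb jb F)
    infer_instance
  have w₀ := GChart.comm ch₀
  have hP := ch₀.isPushout w₀
  let ch₁ := ch₀.whisker M
  have w₁ : (AMonS T M ◁ fst (AMonS T F) Tb) ≫ (AMonS T M ◁ nu1 T hF jT r) =
      (AMonS T M ◁ (AMonS.faceMap T hF ▷ Tb)) ≫ (AMonS T M ◁ nu2 T hF Tb jT jb r hj) := by
    rw [← MonoidalCategory.whiskerLeft_comp, w₀, MonoidalCategory.whiskerLeft_comp]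
  have hAP := ch₁.isPushout w₁
  let ch₂ := ch₁.whisker M
  have w₂ : (AMonS T M ◁ (AMonS T M ◁ fst (AMonS T F) Tb)) ≫
      (AMonS T M ◁ (AMonS T M ◁ nu1 T hF jT r)) =
      (AMonS T M ◁ (AMonS T M ◁ (AMonS.faceMap T hF ▷ Tb))) ≫
        (AMonS T M ◁ (AMonS T M ◁ nu2 T hF Tb jT jb r hj)) := by
    rw [← MonoidalCategory.whiskerLeft_comp, w₁, MonoidalCategory.whiskerLeft_comp]
  have hAAP' := ch₂.isPushout w₂
  have hAAP : ∀ (k l : (AMonS T M ⊗ AMonS T M) ⊗ Pobj T hF jT r ⟶ Pobj T hF jT r),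
      ((AMonS T M ⊗ AMonS T M) ◁ nu1 T hF jT r) ≫ k =
        ((AMonS T M ⊗ AMonS T M) ◁ nu1 T hF jT r) ≫ l →
      ((AMonS T M ⊗ AMonS T M) ◁ nu2 T hF Tb jT jb r hj) ≫ k =
        ((AMonS T M ⊗ AMonS T M) ◁ nu2 T hF Tb jT jb r hj) ≫ l → k = l :=
    fun k l h1 h2 => jointly_epi_assoc (fun k' l' h1' h2' => hAAP'.hom_ext h1' h2') k l h1 h2
  obtain ⟨aP, e1, e2, e3⟩ := exists_action hP hAP hAAP
    ((subAct T M F).prod (MonAct.trivial (AMonS T M) Tb)) (subAct T M F)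
    ((subAct T M N).prod (MonAct.trivial (AMonS T M) Tb))
    (MonAct.isEquivariant_prod_fst _ _)
    (isEquivariant_whiskerRight (isEquivariant_faceMapS T hF) Tb)
  refine ⟨Pobj T hF jT r, nu1 T hF jT r, nu2 T hF Tb jT jb r hj, hP, aP, ?_, e1, e2, e3⟩
  show IsAffine (Spec _)
  infer_instance

theorem main18243 (T : Scheme.{u}) [IsAffine T] (M : Type) [AddCommGroup M]
    [AddGroup.FG M] {N F : AddSubmonoid M} (hF : Magnet.IsFace N F) (Tb : Over T)
    (hTb : MoreMor.IsFirstOrderThickening Tb.hom) :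
    ∃ (P : Over T) (ν₁ : Magnet.AMonS T F ⟶ P) (ν₂ : Magnet.AMonS T N ⊗ Tb ⟶ P)
      (hP : IsPushout (CartesianMonoidalCategory.fst (Magnet.AMonS T F) Tb) (Magnet.AMonS.faceMap T hF ▷ Tb) ν₁ ν₂)
      (aP : Magnet.MonAct (Magnet.AMonS T M) P),
      IsAffine P.left ∧ Magnet.MonAct.IsEquivariant (Magnet.subAct T M F) aP ν₁ ∧
      Magnet.MonAct.IsEquivariant ((Magnet.subAct T M N).prod (Magnet.MonAct.trivial (Magnet.AMonS T M) Tb)) aP ν₂ ∧
      ∀ (X : Over T) (aX : Magnet.MonAct (Magnet.AMonS T M) X) (f₁ : Magnet.AMonS T F ⟶ X)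
        (f₂ : Magnet.AMonS T N ⊗ Tb ⟶ X)
        (w : CartesianMonoidalCategory.fst (Magnet.AMonS T F) Tb ≫ f₁ = (Magnet.AMonS.faceMap T hF ▷ Tb) ≫ f₂),
        Magnet.MonAct.IsEquivariant (Magnet.subAct T M F) aX f₁ →
        Magnet.MonAct.IsEquivariant ((Magnet.subAct T M N).prod (Magnet.MonAct.trivial (Magnet.AMonS T M) Tb)) aX f₂ →
        Magnet.MonAct.IsEquivariant aP aX (hP.desc f₁ f₂ w) := by
  haveI : IsClosedImmersion Tb.hom := hTb.1.1
  obtain ⟨haff, hsurj⟩ := IsClosedImmersion.isAffine_surjective_of_isAffine Tb.hom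
  haveI := haff
  exact core T M hF Tb (R := ↑Γ(T, ⊤)) (Rb := ↑Γ(Tb.left, ⊤)) T.isoSpec.inv Tb.left.isoSpec.inv
    Tb.hom.appTop.hom hsurj (Scheme.isoSpec_inv_naturality Tb.hom).symm

end Groth.Agent.Helper17.AG67
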