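import Mathlib
import Groth.Agent.Lib.Helper17.AG58
import Groth.Agent.Lib.Helper19.FibProd.Ring

/-!
# Fibre products of rings: functoriality, localisation, push-out property (helper17)

`FP p q = B ×_A A'` (helper19).  We show that it is an `RPB` square when `p` is surjective, that
it is functorial (`FPmap`), that `FPmap` is a localisation away from `s` when the three component
maps are localisations away from the images of `s` (`isLocalization_FPmap`), and that the square is
a push-out square of commutative rings when `p` is surjective (`isPushout_FP`).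
-/

set_option autoImplicit false
universe u
open CategoryTheory CategoryTheory.Limits AlgebraicGeometry Opposite

noncomputable section
namespace Groth.Agent.Helper17.AG68
open Groth.Agent.Helper17.AG57 Groth.Agent.Helper17.AG58 Groth.Agent.Helper19.FibProd

variable {A A' B : Type u} [CommRing A] [CommRing A'] [CommRing B] (p : A' →+* A) (q : B →+* A)

theorem rpb_FP (hp : Function.Surjective p) : RPB (sndP p q) (fstP p q) p q where
  comm x := (Groth.Agent.Helper19.FibProd.comm p q x).symm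
  surj := hp
  inj x h1 h2 := ext (by rw [h2, map_zero]) (by rw [h1, map_zero])
  ex b c h := ⟨mkP p q c b h.symm, rfl, rfl⟩

theorem sndP_surjective (hq : Function.Surjective q) : Function.Surjective (sndP p q) := by
  intro a'
  obtain ⟨b, hb⟩ := hq (p a')
  exact ⟨mkP p q b a' hb, rfl⟩

variable {A₁ A'₁ B₁ : Type u} [CommRing A₁] [CommRing A'₁] [CommRing B₁]
  (p₁ : A'₁ →+* A₁) (q₁ : B₁ →+* A₁)
  (rA' : A' →+* A'₁) (rB : B →+* B₁) (rA : A →+* A₁)
  (hp : ∀ a, p₁ (rA' a) = rA (p a)) (hq : ∀ b, q₁ (rB b) = rA (q b))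

/-- functoriality of the fibre product ring -/
def FPmap : FP p q →+* FP p₁ q₁ where
  toFun x := mkP p₁ q₁ (rB (fstP p q x)) (rA' (sndP p q x)) (by rw [hq, hp, Groth.Agent.Helper19.FibProd.comm])
  map_one' := ext (by simp only [fstP_mkP, map_one]) (by simp only [sndP_mkP, map_one])
  map_mul' x y := ext (by simp only [fstP_mkP, map_mul]) (by simp only [sndP_mkP, map_mul])
  map_zero' := ext (by simp only [fstP_mkP, map_zero]) (by simp only [sndP_mkP, map_zero])
  map_add' x y := ext (by simp only [fstP_mkP, map_add]) (by simp only [sndP_mkP, map_add])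

@[simp] theorem fstP_FPmap (x : FP p q) :
    fstP p₁ q₁ (FPmap p q p₁ q₁ rA' rB rA hp hq x) = rB (fstP p q x) := rfl

@[simp] theorem sndP_FPmap (x : FP p q) :
    sndP p₁ q₁ (FPmap p q p₁ q₁ rA' rB rA hp hq x) = rA' (sndP p q x) := rfl

/-- the fibre product of localisations is the localisation of the fibre product -/
theorem isLocalization_FPmap (s : FP p q)
    (hA' : @IsLocalization.Away _ _ (sndP p q s) A'₁ _ rA'.toAlgebra)
    (hB : @IsLocalization.Away _ _ (fstP p q s) B₁ _ rB.toAlgebra)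
    (hA : @IsLocalization.Away _ _ (p (sndP p q s)) A₁ _ rA.toAlgebra) :
    @IsLocalization.Away _ _ s (FP p₁ q₁) _ (FPmap p q p₁ q₁ rA' rB rA hp hq).toAlgebra := by
  letI iA' : Algebra A' A'₁ := rA'.toAlgebra
  letI iB : Algebra B B₁ := rB.toAlgebra
  letI iA : Algebra A A₁ := rA.toAlgebra
  letI iF : Algebra (FP p q) (FP p₁ q₁) := (FPmap p q p₁ q₁ rA' rB rA hp hq).toAlgebra
  haveI := hA'
  haveI := hB
  haveI := hA
  set t := fstP p q s with ht
  set s' := sndP p q s with hs'
  have hts : q t = p s' := Groth.Agent.Helper19.FibProd.comm p q s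
  have amF : ∀ x, algebraMap (FP p q) (FP p₁ q₁) x = FPmap p q p₁ q₁ rA' rB rA hp hq x :=
    fun _ => rfl
  have amA' : ∀ x, algebraMap A' A'₁ x = rA' x := fun _ => rfl
  have amB : ∀ x, algebraMap B B₁ x = rB x := fun _ => rfl
  have amA : ∀ x, algebraMap A A₁ x = rA x := fun _ => rfl
  have uB : IsUnit (rB t) := IsLocalization.Away.algebraMap_isUnit (S := B₁) t
  have uA' : IsUnit (rA' s') := IsLocalization.Away.algebraMap_isUnit (S := A'₁) s'
  refine IsLocalization.Away.mk s ?_ ?_ ?_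
  · obtain ⟨vB, hvB⟩ := uB
    obtain ⟨vA', hvA'⟩ := uA'
    have e : q₁ (vB : B₁) = p₁ (vA' : A'₁) := by rw [hvB, hvA', hq, hp, hts]
    have h1 : q₁ (↑vB⁻¹ : B₁) * q₁ (vB : B₁) = 1 := by
      rw [← map_mul, Units.inv_mul, map_one]
    have h2 : p₁ (vA' : A'₁) * p₁ (↑vA'⁻¹ : A'₁) = 1 := by
      rw [← map_mul, Units.mul_inv, map_one]
    have hinv : q₁ (↑vB⁻¹ : B₁) = p₁ (↑vA'⁻¹ : A'₁) := by
      calc q₁ (↑vB⁻¹ : B₁) = q₁ (↑vB⁻¹ : B₁) * (p₁ (vA' : A'₁) * p₁ (↑vA'⁻¹ : A'₁)) := by
            rw [h2, mul_one]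
        _ = (q₁ (↑vB⁻¹ : B₁) * q₁ (vB : B₁)) * p₁ (↑vA'⁻¹ : A'₁) := by rw [← e]; ring
        _ = p₁ (↑vA'⁻¹ : A'₁) := by rw [h1, one_mul]
    refine IsUnit.of_mul_eq_one (mkP p₁ q₁ (↑vB⁻¹ : B₁) (↑vA'⁻¹ : A'₁) hinv) ?_
    rw [amF]
    apply ext
    · rw [map_mul, fstP_FPmap, fstP_mkP, map_one, ← ht, ← hvB, Units.mul_inv]
    · rw [map_mul, sndP_FPmap, sndP_mkP, map_one, ← hs', ← hvA', Units.mul_inv]
  · intro z
    set β := fstP p₁ q₁ z with hβ
    set α := sndP p₁ q₁ z with hα
    have hβα : q₁ β = p₁ α := Groth.Agent.Helper19.FibProd.comm p₁ q₁ z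
    obtain ⟨n, β₀, hβ₀⟩ := IsLocalization.Away.surj (S := B₁) t β
    obtain ⟨m, α₀, hα₀⟩ := IsLocalization.Away.surj (S := A'₁) s' α
    rw [amB, amB] at hβ₀
    rw [amA', amA'] at hα₀
    have hβ₁ : β * rB t ^ (n + m) = rB (β₀ * t ^ m) := by
      rw [pow_add, ← mul_assoc, hβ₀, map_mul, map_pow]
    have hα₁ : α * rA' s' ^ (n + m) = rA' (α₀ * s' ^ n) := by
      rw [pow_add, mul_comm (rA' s' ^ n), ← mul_assoc, hα₀, map_mul, map_pow]
    have e1 : algebraMap A A₁ (q (β₀ * t ^ m)) = algebraMap A A₁ (p (α₀ * s' ^ n)) := by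
      rw [amA, amA, ← hq, ← hp, ← hβ₁, ← hα₁, map_mul, map_mul, map_pow, map_pow, hq, hp, hβα,
        hts]
    obtain ⟨k, hk⟩ := IsLocalization.Away.exists_of_eq (S := A₁) (p s') e1
    have hcomp : q (t ^ k * (β₀ * t ^ m)) = p (s' ^ k * (α₀ * s' ^ n)) := by
      rw [map_mul, map_mul p, map_pow, map_pow p, hts, hk]
    refine ⟨n + m + k, mkP p q _ _ hcomp, ?_⟩
    rw [amF, amF]
    apply ext
    · rw [map_mul, map_pow, fstP_FPmap, fstP_FPmap, fstP_mkP, ← ht, ← hβ, pow_add, ← mul_assoc,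
        hβ₁]
      simp only [map_mul, map_pow]
      ring
    · rw [map_mul, map_pow, sndP_FPmap, sndP_FPmap, sndP_mkP, ← hs', ← hα, pow_add, ← mul_assoc,
        hα₁]
      simp only [map_mul, map_pow]
      ring
  · intro a b hab
    rw [amF, amF] at hab
    have e1 : algebraMap B B₁ (fstP p q a) = algebraMap B B₁ (fstP p q b) := by
      rw [amB, amB, ← fstP_FPmap p q p₁ q₁ rA' rB rA hp hq, hab, fstP_FPmap]
    have e2 : algebraMap A' A'₁ (sndP p q a) = algebraMap A' A'₁ (sndP p q b) := by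
      rw [amA', amA', ← sndP_FPmap p q p₁ q₁ rA' rB rA hp hq, hab, sndP_FPmap]
    obtain ⟨k₁, hk₁⟩ := IsLocalization.Away.exists_of_eq (S := B₁) t e1
    obtain ⟨k₂, hk₂⟩ := IsLocalization.Away.exists_of_eq (S := A'₁) s' e2
    refine ⟨k₁ + k₂, ?_⟩
    apply ext
    · rw [map_mul, map_mul, map_pow, ← ht, pow_add, mul_comm (t ^ k₁), mul_assoc, mul_assoc, hk₁]
    · rw [map_mul, map_mul, map_pow, ← hs', pow_add, mul_assoc, mul_assoc, hk₂]

/-- `Spec` of `FPmap` is an open immersion with range `D(s)` in the localisation situation -/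
theorem FPmap_openImmersion (s : FP p q)
    (hA' : @IsLocalization.Away _ _ (sndP p q s) A'₁ _ rA'.toAlgebra)
    (hB : @IsLocalization.Away _ _ (fstP p q s) B₁ _ rB.toAlgebra)
    (hA : @IsLocalization.Away _ _ (p (sndP p q s)) A₁ _ rA.toAlgebra) :
    IsOpenImmersion (Sp (FPmap p q p₁ q₁ rA' rB rA hp hq)) ∧
    ∀ x : Spec (CommRingCat.of (FP p q)),
      x ∈ Set.range (Sp (FPmap p q p₁ q₁ rA' rB rA hp hq)) ↔
        s ∉ (x : PrimeSpectrum (FP p q)).asIdeal := by
  have hloc := isLocalization_FPmap p q p₁ q₁ rA' rB rA hp hq s hA' hB hA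
  letI iF : Algebra (FP p q) (FP p₁ q₁) := (FPmap p q p₁ q₁ rA' rB rA hp hq).toAlgebra
  haveI := hloc
  refine ⟨IsOpenImmersion.of_isLocalization (R := FP p q) (S := FP p₁ q₁) s, fun x => ?_⟩
  have h := PrimeSpectrum.localization_away_comap_range (FP p₁ q₁) s
  constructor
  · rintro ⟨y, rfl⟩
    have : PrimeSpectrum.comap (algebraMap (FP p q) (FP p₁ q₁)) y ∈
        (PrimeSpectrum.basicOpen s : Set (PrimeSpectrum (FP p q))) := by
      rw [← h]; exact ⟨y, rfl⟩
    exact this
  · intro hx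
    have hx' : (x : PrimeSpectrum (FP p q)) ∈
        (PrimeSpectrum.basicOpen s : Set (PrimeSpectrum (FP p q))) := hx
    rw [← h] at hx'
    obtain ⟨y, hy⟩ := hx'
    exact ⟨y, hy⟩

/-- the fibre product square is a push-out square of commutative rings when `p` is surjective -/
theorem isPushout_FP (hp' : Function.Surjective p) :
    IsPushout (CommRingCat.ofHom (sndP p q)) (CommRingCat.ofHom (fstP p q))
      (CommRingCat.ofHom p) (CommRingCat.ofHom q) := by
  have w : CommRingCat.ofHom (sndP p q) ≫ CommRingCat.ofHom p =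
      CommRingCat.ofHom (fstP p q) ≫ CommRingCat.ofHom q := by
    ext x
    exact (Groth.Agent.Helper19.FibProd.comm p q x).symm
  have key : ∀ (s : PushoutCocone (CommRingCat.ofHom (sndP p q)) (CommRingCat.ofHom (fstP p q))),
      ∃ h : A →+* s.pt, (∀ a, h (p a) = s.inl.hom a) ∧ ∀ b, h (q b) = s.inr.hom b := by
    intro s
    have hc : ∀ x : FP p q, s.inl.hom (sndP p q x) = s.inr.hom (fstP p q x) := fun x =>
      congrArg (fun g => g.hom x) s.condition
    have hker : RingHom.ker p ≤ RingHom.ker s.inl.hom := by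
      intro e he
      have he' : p e = 0 := he
      have h0 := hc (mkP p q 0 e (by rw [map_zero, he']))
      rw [fstP_mkP, sndP_mkP, map_zero] at h0
      exact h0
    have hl : ∀ a, RingHom.liftOfSurjective p hp' ⟨s.inl.hom, hker⟩ (p a) = s.inl.hom a :=
      fun a => RingHom.liftOfRightInverse_comp_apply p _ _ ⟨s.inl.hom, hker⟩ a
    refine ⟨RingHom.liftOfSurjective p hp' ⟨s.inl.hom, hker⟩, hl, fun b => ?_⟩
    obtain ⟨e, he⟩ := hp' (q b)
    rw [← he, hl]
    have h0 := hc (mkP p q b e he.symm)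
    rw [fstP_mkP, sndP_mkP] at h0
    exact h0
  choose h h1 h2 using key
  refine ⟨⟨w⟩, ⟨PushoutCocone.IsColimit.mk w (fun s => CommRingCat.ofHom (h s))
    (fun s => ?_) (fun s => ?_) ?_⟩⟩
  · ext a
    exact h1 s a
  · ext b
    exact h2 s b
  · intro s m hm1 hm2
    ext a
    obtain ⟨e, rfl⟩ := hp' a
    have : m.hom (p e) = s.inl.hom e := congrArg (fun g => g.hom e) hm1
    rw [this]
    exact (h1 s e).symm

/-- `Spec` of the fibre product square is a pullback square of schemes -/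
theorem isPullback_Sp_FP (hp' : Function.Surjective p) :
    IsPullback (Sp p) (Sp q) (Sp (sndP p q)) (Sp (fstP p q)) :=
  isPullback_SpecMap_of_isPushout _ _ _ _ (isPushout_FP p q hp')

end Groth.Agent.Helper17.AG68
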