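import Mathlib
import Groth.Agent.Lib.Helper17.AG68

/-!
# Ferrand push-outs of schemes: the index category of affine charts (helper17)

For `i : Z ⟶ X` (a closed immersion) and `j : Z ⟶ Y` we consider pairs `(U, V)` of affine opens of
`X` and `Y` with `i⁻¹ U = j⁻¹ V` (`Idx i j`), the fibre product ring `R α = Γ(Y,V) ×_{Γ(Z,W)} Γ(X,U)`,
the restriction maps between them, and the preorder "`Spec R α → Spec R β` is an open immersion,
compatible with preimages".  Basic opens `D(s)`, `s ∈ R γ`, give smaller charts (`basic`), and any two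
charts have common refinements around points (`exists_refine_Y`, `exists_refine_X`).
-/

set_option autoImplicit false
universe u
open CategoryTheory CategoryTheory.Limits AlgebraicGeometry Opposite TopologicalSpace

noncomputable section
namespace Groth.Agent.Helper17.AG69
open Groth.Agent.Helper17.AG57 Groth.Agent.Helper17.AG58 Groth.Agent.Helper17.AG68
open Groth.Agent.Helper19.FibProd

variable {X Y Z : Scheme.{u}}

theorem res_res (T : Scheme.{u}) {U₁ U₂ U₃ : T.Opens} (h12 : U₁ ≤ U₂) (h23 : U₂ ≤ U₃)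
    (a : Γ(T, U₃)) :
    (T.presheaf.map (homOfLE h12).op).hom ((T.presheaf.map (homOfLE h23).op).hom a) =
      (T.presheaf.map (homOfLE (h12.trans h23)).op).hom a := by
  have : (homOfLE h23).op ≫ (homOfLE h12).op = (homOfLE (h12.trans h23)).op := rfl
  rw [← this, T.presheaf.map_comp]
  rfl

theorem res_self (T : Scheme.{u}) {U : T.Opens} (h : U ≤ U) (a : Γ(T, U)) :
    (T.presheaf.map (homOfLE h).op).hom a = a := by
  have : (homOfLE h).op = 𝟙 (op U) := rfl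
  rw [this, T.presheaf.map_id]
  rfl

theorem mem_basicOpen_fromSpec {T : Scheme.{u}} {U : T.Opens} (hU : IsAffineOpen U)
    (f : Γ(T, U)) (x : Spec Γ(T, U)) :
    hU.fromSpec x ∈ T.basicOpen f ↔ f ∉ (x : PrimeSpectrum Γ(T, U)).asIdeal := by
  have h := congrArg (fun O : (Spec Γ(T, U)).Opens => x ∈ O) (hU.fromSpec_preimage_basicOpen f)
  exact Iff.of_eq h

theorem exists_fromSpec_eq {T : Scheme.{u}} {U : T.Opens} (hU : IsAffineOpen U) (x : T)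
    (hx : x ∈ U) : ∃ x' : Spec Γ(T, U), hU.fromSpec x' = x := by
  have : x ∈ Set.range hU.fromSpec := by
    rw [hU.range_fromSpec]
    exact hx
  exact this

theorem fromSpec_mem {T : Scheme.{u}} {U : T.Opens} (hU : IsAffineOpen U) (x' : Spec Γ(T, U)) :
    hU.fromSpec x' ∈ U := by
  have : hU.fromSpec x' ∈ Set.range hU.fromSpec := ⟨x', rfl⟩
  rw [hU.range_fromSpec] at this
  exact this

/-- a pair of affine opens of `X` and `Y` with the same preimage in `Z` -/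
structure Idx (i : Z ⟶ X) (j : Z ⟶ Y) where
  U : X.Opens
  V : Y.Opens
  hU : IsAffineOpen U
  hV : IsAffineOpen V
  h : i ⁻¹ᵁ U = j ⁻¹ᵁ V

variable {i : Z ⟶ X} {j : Z ⟶ Y}

theorem Idx.ext' {α β : Idx i j} (hU : α.U = β.U) (hV : α.V = β.V) : α = β := by
  obtain ⟨U, V, _, _, _⟩ := α
  obtain ⟨U', V', _, _, _⟩ := β
  dsimp only at hU hV
  subst hU hV
  rfl

namespace Idx

/-- `Γ(X,U) → Γ(Z,W)` -/
def pp (α : Idx i j) : Γ(X, α.U) →+* Γ(Z, i ⁻¹ᵁ α.U) := (i.app α.U).hom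

/-- `Γ(Y,V) → Γ(Z,W)` -/
def qq (α : Idx i j) : Γ(Y, α.V) →+* Γ(Z, i ⁻¹ᵁ α.U) :=
  (j.appLE α.V (i ⁻¹ᵁ α.U) (le_of_eq α.h)).hom

/-- the ring of the chart -/
abbrev R (α : Idx i j) : Type u := FP α.pp α.qq

theorem hW [IsAffineHom i] (α : Idx i j) : IsAffineOpen (i ⁻¹ᵁ α.U) := α.hU.preimage i

theorem pp_surjective [IsClosedImmersion i] (α : Idx i j) : Function.Surjective α.pp :=
  i.app_surjective α.U α.hU

/-- restriction on `X` -/
def rX (α β : Idx i j) (hU : α.U ≤ β.U) : Γ(X, β.U) →+* Γ(X, α.U) :=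
  (X.presheaf.map (homOfLE hU).op).hom

/-- restriction on `Y` -/
def rY (α β : Idx i j) (hV : α.V ≤ β.V) : Γ(Y, β.V) →+* Γ(Y, α.V) :=
  (Y.presheaf.map (homOfLE hV).op).hom

/-- restriction on `Z` -/
def rZ (α β : Idx i j) (hU : α.U ≤ β.U) : Γ(Z, i ⁻¹ᵁ β.U) →+* Γ(Z, i ⁻¹ᵁ α.U) :=
  (Z.presheaf.map (homOfLE (i.preimage_mono hU)).op).hom

theorem hp_res (α β : Idx i j) (hU : α.U ≤ β.U) (a : Γ(X, β.U)) :
    α.pp (rX α β hU a) = rZ α β hU (β.pp a) := by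
  have e := i.naturality (homOfLE hU).op
  exact congrArg (fun g => g.hom a) e

theorem hq_res (α β : Idx i j) (hU : α.U ≤ β.U) (hV : α.V ≤ β.V) (b : Γ(Y, β.V)) :
    α.qq (rY α β hV b) = rZ α β hU (β.qq b) := by
  have e1 := j.map_appLE (le_of_eq α.h) (homOfLE hV).op
  have e2 := j.appLE_map (le_of_eq β.h) (homOfLE (i.preimage_mono hU)).op
  exact congrArg (fun g => g.hom b) (e1.trans e2.symm)

/-- restriction of chart rings -/
def res (α β : Idx i j) (hU : α.U ≤ β.U) (hV : α.V ≤ β.V) : β.R →+* α.R :=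
  FPmap β.pp β.qq α.pp α.qq (rX α β hU) (rY α β hV) (rZ α β hU) (hp_res α β hU)
    (hq_res α β hU hV)

/-- the transition map between charts -/
def Fm (α β : Idx i j) (hU : α.U ≤ β.U) (hV : α.V ≤ β.V) :
    Spec (CommRingCat.of α.R) ⟶ Spec (CommRingCat.of β.R) := Sp (res α β hU hV)

theorem res_id (α : Idx i j) (hU : α.U ≤ α.U) (hV : α.V ≤ α.V) :
    res α α hU hV = RingHom.id _ := by
  refine RingHom.ext fun x => Groth.Agent.Helper19.FibProd.ext ?_ ?_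
  · exact res_self Y hV _
  · exact res_self X hU _

theorem Fm_id (α : Idx i j) (hU : α.U ≤ α.U) (hV : α.V ≤ α.V) : Fm α α hU hV = 𝟙 _ := by
  rw [Fm, res_id, Sp, CommRingCat.ofHom_id]
  exact Spec.map_id _

theorem res_comp (α β γ : Idx i j) (hU₁ : α.U ≤ β.U) (hV₁ : α.V ≤ β.V) (hU₂ : β.U ≤ γ.U)
    (hV₂ : β.V ≤ γ.V) :
    res α γ (hU₁.trans hU₂) (hV₁.trans hV₂) = (res α β hU₁ hV₁).comp (res β γ hU₂ hV₂) := by
  refine RingHom.ext fun x => Groth.Agent.Helper19.FibProd.ext ?_ ?_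
  · exact (res_res Y hV₁ hV₂ _).symm
  · exact (res_res X hU₁ hU₂ _).symm

theorem Fm_comp (α β γ : Idx i j) (hU₁ : α.U ≤ β.U) (hV₁ : α.V ≤ β.V) (hU₂ : β.U ≤ γ.U)
    (hV₂ : β.V ≤ γ.V) :
    Fm α γ (hU₁.trans hU₂) (hV₁.trans hV₂) = Fm α β hU₁ hV₁ ≫ Fm β γ hU₂ hV₂ := by
  rw [Fm, res_comp α β γ hU₁ hV₁ hU₂ hV₂, Sp_comp]
  rfl

theorem sq_X (α β : Idx i j) (hU : α.U ≤ β.U) (hV : α.V ≤ β.V) :
    Sp (sndP α.pp α.qq) ≫ Fm α β hU hV = Sp (rX α β hU) ≫ Sp (sndP β.pp β.qq) := by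
  rw [Fm, ← Sp_comp, ← Sp_comp]
  exact congrArg Sp (RingHom.ext fun x => rfl)

theorem sq_Y (α β : Idx i j) (hU : α.U ≤ β.U) (hV : α.V ≤ β.V) :
    Sp (fstP α.pp α.qq) ≫ Fm α β hU hV = Sp (rY α β hV) ≫ Sp (fstP β.pp β.qq) := by
  rw [Fm, ← Sp_comp, ← Sp_comp]
  exact congrArg Sp (RingHom.ext fun x => rfl)

theorem fromSpec_rX (α β : Idx i j) (hU : α.U ≤ β.U) :
    Sp (rX α β hU) ≫ β.hU.fromSpec = α.hU.fromSpec :=
  β.hU.map_fromSpec α.hU (homOfLE hU).op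

theorem fromSpec_rY (α β : Idx i j) (hV : α.V ≤ β.V) :
    Sp (rY α β hV) ≫ β.hV.fromSpec = α.hV.fromSpec :=
  β.hV.map_fromSpec α.hV (homOfLE hV).op

theorem wZX [IsAffineHom i] (α : Idx i j) : Sp α.pp ≫ α.hU.fromSpec = α.hW.fromSpec ≫ i := by
  have h := IsAffineOpen.SpecMap_appLE_fromSpec i α.hU α.hW le_rfl
  rw [← Scheme.Hom.app_eq_appLE] at h
  exact h

theorem wZY [IsAffineHom i] (α : Idx i j) : Sp α.qq ≫ α.hV.fromSpec = α.hW.fromSpec ≫ j :=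
  IsAffineOpen.SpecMap_appLE_fromSpec j α.hV α.hW (le_of_eq α.h)

theorem exists_Sp_rX (α β : Idx i j) (hU : α.U ≤ β.U) (x : Spec Γ(X, β.U))
    (hx : β.hU.fromSpec x ∈ α.U) :
    ∃ x' : Spec Γ(X, α.U), Sp (rX α β hU) x' = x ∧ α.hU.fromSpec x' = β.hU.fromSpec x := by
  obtain ⟨x', hx'⟩ := exists_fromSpec_eq α.hU _ hx
  refine ⟨x', ?_, hx'⟩
  apply β.hU.fromSpec.isOpenEmbedding.injective
  rw [← Scheme.Hom.comp_apply, fromSpec_rX, hx']

theorem exists_Sp_rY (α β : Idx i j) (hV : α.V ≤ β.V) (y : Spec Γ(Y, β.V))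
    (hy : β.hV.fromSpec y ∈ α.V) :
    ∃ y' : Spec Γ(Y, α.V), Sp (rY α β hV) y' = y ∧ α.hV.fromSpec y' = β.hV.fromSpec y := by
  obtain ⟨y', hy'⟩ := exists_fromSpec_eq α.hV _ hy
  refine ⟨y', ?_, hy'⟩
  apply β.hV.fromSpec.isOpenEmbedding.injective
  rw [← Scheme.Hom.comp_apply, fromSpec_rY, hy']

/-- the order relation on charts -/
def le (α β : Idx i j) : Prop :=
  ∃ (hU : α.U ≤ β.U) (hV : α.V ≤ β.V), IsOpenImmersion (Fm α β hU hV) ∧
    (∀ x : Spec Γ(X, β.U), Sp (sndP β.pp β.qq) x ∈ Set.range (Fm α β hU hV) →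
      β.hU.fromSpec x ∈ α.U) ∧
    (∀ y : Spec Γ(Y, β.V), Sp (fstP β.pp β.qq) y ∈ Set.range (Fm α β hU hV) →
      β.hV.fromSpec y ∈ α.V)

theorem le.hU {α β : Idx i j} (h : le α β) : α.U ≤ β.U := by
  obtain ⟨hU, _⟩ := h
  exact hU

theorem le.hV {α β : Idx i j} (h : le α β) : α.V ≤ β.V := by
  obtain ⟨_, hV, _⟩ := h
  exact hV

theorem le.isOpenImmersion {α β : Idx i j} (h : le α β) :
    IsOpenImmersion (Fm α β h.hU h.hV) := by
  obtain ⟨_, _, ho, _⟩ := h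
  exact ho

theorem le.preX {α β : Idx i j} (h : le α β) (x : Spec Γ(X, β.U))
    (hx : Sp (sndP β.pp β.qq) x ∈ Set.range (Fm α β h.hU h.hV)) : β.hU.fromSpec x ∈ α.U := by
  obtain ⟨_, _, _, hX, _⟩ := h
  exact hX x hx

theorem le.preY {α β : Idx i j} (h : le α β) (y : Spec Γ(Y, β.V))
    (hy : Sp (fstP β.pp β.qq) y ∈ Set.range (Fm α β h.hU h.hV)) : β.hV.fromSpec y ∈ α.V := by
  obtain ⟨_, _, _, _, hY⟩ := h
  exact hY y hy

theorem le_refl' (α : Idx i j) : le α α := by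
  refine ⟨le_rfl, le_rfl, ?_, fun x _ => fromSpec_mem α.hU x, fun y _ => fromSpec_mem α.hV y⟩
  rw [Fm_id]
  infer_instance

theorem le_trans' {α β γ : Idx i j} (h₁ : le α β) (h₂ : le β γ) : le α γ := by
  haveI := h₁.isOpenImmersion
  haveI := h₂.isOpenImmersion
  have hc := Fm_comp α β γ h₁.hU h₁.hV h₂.hU h₂.hV
  refine ⟨h₁.hU.trans h₂.hU, h₁.hV.trans h₂.hV, ?_, ?_, ?_⟩
  · rw [hc]
    infer_instance
  · intro x hx
    rw [hc] at hx
    obtain ⟨w, hw⟩ := hx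
    rw [Scheme.Hom.comp_apply] at hw
    have hxβ : γ.hU.fromSpec x ∈ β.U := h₂.preX x ⟨_, hw⟩
    obtain ⟨x', hx'1, hx'2⟩ := exists_Sp_rX β γ h₂.hU x hxβ
    have e : Fm β γ h₂.hU h₂.hV (Sp (sndP β.pp β.qq) x') = Fm β γ h₂.hU h₂.hV (Fm α β h₁.hU h₁.hV w) := by
      rw [hw, ← hx'1, ← Scheme.Hom.comp_apply, ← Scheme.Hom.comp_apply, sq_X]
    have e' := (Fm β γ h₂.hU h₂.hV).isOpenEmbedding.injective e
    rw [← hx'2]
    exact h₁.preX x' ⟨w, e'.symm⟩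
  · intro y hy
    rw [hc] at hy
    obtain ⟨w, hw⟩ := hy
    rw [Scheme.Hom.comp_apply] at hw
    have hyβ : γ.hV.fromSpec y ∈ β.V := h₂.preY y ⟨_, hw⟩
    obtain ⟨y', hy'1, hy'2⟩ := exists_Sp_rY β γ h₂.hV y hyβ
    have e : Fm β γ h₂.hU h₂.hV (Sp (fstP β.pp β.qq) y') = Fm β γ h₂.hU h₂.hV (Fm α β h₁.hU h₁.hV w) := by
      rw [hw, ← hy'1, ← Scheme.Hom.comp_apply, ← Scheme.Hom.comp_apply, sq_Y]
    have e' := (Fm β γ h₂.hU h₂.hV).isOpenEmbedding.injective e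
    rw [← hy'2]
    exact h₁.preY y' ⟨w, e'.symm⟩

instance : Preorder (Idx i j) where
  le := le
  le_refl := le_refl'
  le_trans _ _ _ := le_trans'

theorem le_def {α β : Idx i j} : α ≤ β ↔ le α β := Iff.rfl

/-- a chart contained (via ranges) in another one, inside a common chart, is smaller -/
theorem le_of_range_subset {δ α γ : Idx i j} (h₁ : le δ γ) (h₂ : le α γ)
    (hr : Set.range (Fm δ γ h₁.hU h₁.hV) ⊆ Set.range (Fm α γ h₂.hU h₂.hV)) : le δ α := by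
  haveI := h₁.isOpenImmersion
  haveI := h₂.isOpenImmersion
  have hU : δ.U ≤ α.U := by
    intro x₀ hx₀
    obtain ⟨x, hx⟩ := exists_fromSpec_eq γ.hU x₀ (h₁.hU hx₀)
    obtain ⟨x', hx'1, hx'2⟩ := exists_Sp_rX δ γ h₁.hU x (by rw [hx]; exact hx₀)
    have hmem : Sp (sndP γ.pp γ.qq) x ∈ Set.range (Fm δ γ h₁.hU h₁.hV) := by
      refine ⟨Sp (sndP δ.pp δ.qq) x', ?_⟩
      rw [← hx'1, ← Scheme.Hom.comp_apply, ← Scheme.Hom.comp_apply, sq_X]
    have := h₂.preX x (hr hmem)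
    rw [hx] at this
    exact this
  have hV : δ.V ≤ α.V := by
    intro y₀ hy₀
    obtain ⟨y, hy⟩ := exists_fromSpec_eq γ.hV y₀ (h₁.hV hy₀)
    obtain ⟨y', hy'1, hy'2⟩ := exists_Sp_rY δ γ h₁.hV y (by rw [hy]; exact hy₀)
    have hmem : Sp (fstP γ.pp γ.qq) y ∈ Set.range (Fm δ γ h₁.hU h₁.hV) := by
      refine ⟨Sp (fstP δ.pp δ.qq) y', ?_⟩
      rw [← hy'1, ← Scheme.Hom.comp_apply, ← Scheme.Hom.comp_apply, sq_Y]
    have := h₂.preY y (hr hmem)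
    rw [hy] at this
    exact this
  have hc : Fm δ γ h₁.hU h₁.hV = Fm δ α hU hV ≫ Fm α γ h₂.hU h₂.hV :=
    Fm_comp δ α γ hU hV h₂.hU h₂.hV
  have ho : IsOpenImmersion (Fm δ α hU hV) := by
    haveI : IsOpenImmersion (Fm δ α hU hV ≫ Fm α γ h₂.hU h₂.hV) := by
      rw [← hc]
      infer_instance
    exact IsOpenImmersion.of_comp (Fm δ α hU hV) (Fm α γ h₂.hU h₂.hV)
  refine ⟨hU, hV, ho, ?_, ?_⟩
  · intro x hx
    obtain ⟨w, hw⟩ := hx
    have hmem : Sp (sndP γ.pp γ.qq) (Sp (rX α γ h₂.hU) x) ∈ Set.range (Fm δ γ h₁.hU h₁.hV) := by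
      refine ⟨w, ?_⟩
      rw [hc, Scheme.Hom.comp_apply, hw, ← Scheme.Hom.comp_apply, ← Scheme.Hom.comp_apply, sq_X]
    have := h₁.preX _ hmem
    rw [← Scheme.Hom.comp_apply, fromSpec_rX] at this
    exact this
  · intro y hy
    obtain ⟨w, hw⟩ := hy
    have hmem : Sp (fstP γ.pp γ.qq) (Sp (rY α γ h₂.hV) y) ∈ Set.range (Fm δ γ h₁.hU h₁.hV) := by
      refine ⟨w, ?_⟩
      rw [hc, Scheme.Hom.comp_apply, hw, ← Scheme.Hom.comp_apply, ← Scheme.Hom.comp_apply, sq_Y]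
    have := h₁.preY _ hmem
    rw [← Scheme.Hom.comp_apply, fromSpec_rY] at this
    exact this

theorem basic_h (γ : Idx i j) (s : γ.R) :
    i ⁻¹ᵁ X.basicOpen (sndP γ.pp γ.qq s) = j ⁻¹ᵁ Y.basicOpen (fstP γ.pp γ.qq s) := by
  rw [Scheme.preimage_basicOpen, Scheme.preimage_basicOpen]
  have hc : γ.pp (sndP γ.pp γ.qq s) = γ.qq (fstP γ.pp γ.qq s) :=
    (Groth.Agent.Helper19.FibProd.comm _ _ s).symm
  have h1 : Z.basicOpen (γ.qq (fstP γ.pp γ.qq s)) =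
      i ⁻¹ᵁ γ.U ⊓ Z.basicOpen ((j.app γ.V).hom (fstP γ.pp γ.qq s)) :=
    Scheme.basicOpen_res Z ((j.app γ.V).hom (fstP γ.pp γ.qq s)) (homOfLE (le_of_eq γ.h)).op
  have h2 : Z.basicOpen ((i.app γ.U).hom (sndP γ.pp γ.qq s)) =
      Z.basicOpen (γ.qq (fstP γ.pp γ.qq s)) := congrArg (fun t => Z.basicOpen t) hc
  have h3 : i ⁻¹ᵁ γ.U ⊓ Z.basicOpen ((j.app γ.V).hom (fstP γ.pp γ.qq s)) =
      Z.basicOpen ((j.app γ.V).hom (fstP γ.pp γ.qq s)) :=
    inf_eq_right.mpr ((Z.basicOpen_le _).trans (le_of_eq γ.h.symm))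
  exact (h2.trans h1).trans h3

/-- the chart `D(s)` of a chart -/
def basic (γ : Idx i j) (s : γ.R) : Idx i j where
  U := X.basicOpen (sndP γ.pp γ.qq s)
  V := Y.basicOpen (fstP γ.pp γ.qq s)
  hU := γ.hU.basicOpen _
  hV := γ.hV.basicOpen _
  h := basic_h γ s

theorem basic_hU (γ : Idx i j) (s : γ.R) : (basic γ s).U ≤ γ.U := X.basicOpen_le _
theorem basic_hV (γ : Idx i j) (s : γ.R) : (basic γ s).V ≤ γ.V := Y.basicOpen_le _

theorem basic_open [IsAffineHom i] (γ : Idx i j) (s : γ.R) :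
    IsOpenImmersion (Fm (basic γ s) γ (basic_hU γ s) (basic_hV γ s)) ∧
    ∀ x : Spec (CommRingCat.of γ.R),
      x ∈ Set.range (Fm (basic γ s) γ (basic_hU γ s) (basic_hV γ s)) ↔
        s ∉ (x : PrimeSpectrum γ.R).asIdeal := by
  have hA' := γ.hU.isLocalization_of_eq_basicOpen (sndP γ.pp γ.qq s)
    (homOfLE (basic_hU γ s)) rfl
  have hB := γ.hV.isLocalization_of_eq_basicOpen (fstP γ.pp γ.qq s)
    (homOfLE (basic_hV γ s)) rfl
  have hA := γ.hW.isLocalization_of_eq_basicOpen (γ.pp (sndP γ.pp γ.qq s))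
    (homOfLE (i.preimage_mono (basic_hU γ s))) (Scheme.preimage_basicOpen i _)
  exact FPmap_openImmersion γ.pp γ.qq (basic γ s).pp (basic γ s).qq _ _ _ _ _ s hA' hB hA

theorem basic_le [IsAffineHom i] (γ : Idx i j) (s : γ.R) : le (basic γ s) γ := by
  obtain ⟨ho, hr⟩ := basic_open γ s
  refine ⟨basic_hU γ s, basic_hV γ s, ho, ?_, ?_⟩
  · intro x hx
    rw [hr] at hx
    exact (mem_basicOpen_fromSpec γ.hU _ x).mpr hx
  · intro y hy
    rw [hr] at hy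
    exact (mem_basicOpen_fromSpec γ.hV _ y).mpr hy

theorem range_basic [IsAffineHom i] (γ : Idx i j) (s : γ.R) (x : Spec (CommRingCat.of γ.R)) :
    x ∈ Set.range (Fm (basic γ s) γ (basic_le γ s).hU (basic_le γ s).hV) ↔
      s ∉ (x : PrimeSpectrum γ.R).asIdeal :=
  (basic_open γ s).2 x

end Idx

end Groth.Agent.Helper17.AG69
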