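import Mathlib
import Groth.Agent.Lib.Helper17.AG69

/-!
# Ferrand push-outs of schemes: common refinements of charts (helper17)
-/

set_option autoImplicit false
universe u
open CategoryTheory CategoryTheory.Limits AlgebraicGeometry Opposite TopologicalSpace

noncomputable section
namespace Groth.Agent.Helper17.AG70
open Groth.Agent.Helper17.AG57 Groth.Agent.Helper17.AG58 Groth.Agent.Helper17.AG68
open Groth.Agent.Helper17.AG69 Groth.Agent.Helper17.AG69.Idx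
open Groth.Agent.Helper19.FibProd

variable {X Y Z : Scheme.{u}} {i : Z ⟶ X} {j : Z ⟶ Y} [IsClosedImmersion i]

theorem exists_refine_Y (α : Idx i j) (OX : X.Opens) (OY : Y.Opens)
    (hO : ∀ z : Z, z ∈ i ⁻¹ᵁ α.U → (i z ∈ OX ↔ j z ∈ OY)) (y : Y) (hyV : y ∈ α.V)
    (hyO : y ∈ OY) :
    ∃ s : α.R, y ∈ Y.basicOpen (fstP α.pp α.qq s) ∧ X.basicOpen (sndP α.pp α.qq s) ≤ OX ∧
      Y.basicOpen (fstP α.pp α.qq s) ≤ OY := by
  have hrpb := rpb_FP α.pp α.qq α.pp_surjective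
  obtain ⟨y', hy'⟩ := exists_fromSpec_eq α.hV y hyV
  let A : Set (PrimeSpectrum Γ(X, α.U)) := α.hU.fromSpec ⁻¹' (OX : Set X)
  let Bo : Set (PrimeSpectrum Γ(Y, α.V)) := α.hV.fromSpec ⁻¹' (OY : Set Y)
  have hA : IsOpen A := OX.isOpen.preimage α.hU.fromSpec.continuous
  have hBo : IsOpen Bo := OY.isOpen.preimage α.hV.fromSpec.continuous
  have hAB : ∀ z : PrimeSpectrum Γ(Z, i ⁻¹ᵁ α.U),
      PrimeSpectrum.comap α.pp z ∈ A ↔ PrimeSpectrum.comap α.qq z ∈ Bo := by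
    intro z
    let z' : Spec Γ(Z, i ⁻¹ᵁ α.U) := z
    have e1 : α.hU.fromSpec (Sp α.pp z') = i (α.hW.fromSpec z') := by
      rw [← Scheme.Hom.comp_apply, ← Scheme.Hom.comp_apply, α.wZX]
    have e2 : α.hV.fromSpec (Sp α.qq z') = j (α.hW.fromSpec z') := by
      rw [← Scheme.Hom.comp_apply, ← Scheme.Hom.comp_apply, α.wZY]
    show α.hU.fromSpec (Sp α.pp z') ∈ OX ↔ α.hV.fromSpec (Sp α.qq z') ∈ OY
    rw [e1, e2]
    exact hO _ (fromSpec_mem α.hW z')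
  have hy'Bo : (y' : PrimeSpectrum Γ(Y, α.V)) ∈ Bo := by
    show α.hV.fromSpec y' ∈ OY
    rw [hy']
    exact hyO
  obtain ⟨s, hs1, hs2, hs3⟩ := hrpb.exists_basic₂ A hA Bo hBo hAB y' hy'Bo
  refine ⟨s, ?_, ?_, ?_⟩
  · rw [← hy']
    exact (mem_basicOpen_fromSpec α.hV _ y').mpr hs1
  · intro x₀ hx₀
    obtain ⟨x, hx⟩ := exists_fromSpec_eq α.hU x₀ (X.basicOpen_le _ hx₀)
    rw [← hx] at hx₀ ⊢
    exact hs2 x ((mem_basicOpen_fromSpec α.hU _ x).mp hx₀)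
  · intro y₀ hy₀
    obtain ⟨y₁, hy₁⟩ := exists_fromSpec_eq α.hV y₀ (Y.basicOpen_le _ hy₀)
    rw [← hy₁] at hy₀ ⊢
    exact hs3 y₁ ((mem_basicOpen_fromSpec α.hV _ y₁).mp hy₀)

theorem exists_refine_X (α : Idx i j) (OX : X.Opens) (x : X) (hxU : x ∈ α.U) (hxO : x ∈ OX)
    (hxi : x ∉ Set.range i) :
    ∃ s : α.R, x ∈ X.basicOpen (sndP α.pp α.qq s) ∧ X.basicOpen (sndP α.pp α.qq s) ≤ OX ∧
      fstP α.pp α.qq s = 0 := by
  obtain ⟨x', hx'⟩ := exists_fromSpec_eq α.hU x hxU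
  have hnr : (x' : PrimeSpectrum Γ(X, α.U)) ∉ Set.range (PrimeSpectrum.comap α.pp) := by
    rintro ⟨z, hz⟩
    apply hxi
    let z' : Spec Γ(Z, i ⁻¹ᵁ α.U) := z
    refine ⟨α.hW.fromSpec z', ?_⟩
    have e1 : α.hU.fromSpec (Sp α.pp z') = i (α.hW.fromSpec z') := by
      rw [← Scheme.Hom.comp_apply, ← Scheme.Hom.comp_apply, α.wZX]
    rw [← e1, ← hx']
    exact congrArg α.hU.fromSpec hz
  have hnr2 : ∃ e, e ∈ RingHom.ker α.pp ∧ e ∉ (x' : PrimeSpectrum Γ(X, α.U)).asIdeal := by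
    by_contra hcon
    push_neg at hcon
    apply hnr
    rw [_root_.range_comap_of_surjective _ _ α.pp_surjective]
    exact (PrimeSpectrum.mem_zeroLocus (x' : PrimeSpectrum Γ(X, α.U)) _).mpr
      (fun e he => hcon e he)
  obtain ⟨e, he, hex⟩ := hnr2
  obtain ⟨f, hfO, hxf⟩ := α.hU.exists_basicOpen_le (V := OX) ⟨x, hxO⟩ hxU
  have he0 : α.pp e = 0 := he
  refine ⟨mkP α.pp α.qq 0 (e * f) (by rw [map_zero, map_mul, he0, zero_mul]), ?_, ?_, rfl⟩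
  · show x ∈ X.basicOpen (e * f)
    rw [Scheme.basicOpen_mul]
    refine ⟨?_, hxf⟩
    rw [← hx']
    exact (mem_basicOpen_fromSpec α.hU e x').mpr hex
  · show X.basicOpen (e * f) ≤ OX
    rw [Scheme.basicOpen_mul]
    exact inf_le_right.trans hfO

theorem basic_eq_basic_res (α₁ β : Idx i j) (hU : α₁.U ≤ β.U) (hV : α₁.V ≤ β.V) (s₂ : β.R)
    (h22 : X.basicOpen (sndP β.pp β.qq s₂) ≤ α₁.U) (h23 : Y.basicOpen (fstP β.pp β.qq s₂) ≤ α₁.V) :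
    basic β s₂ = basic α₁ (res α₁ β hU hV s₂) := by
  apply Idx.ext'
  · show X.basicOpen (sndP β.pp β.qq s₂) =
      X.basicOpen (sndP α₁.pp α₁.qq (res α₁ β hU hV s₂))
    have h : X.basicOpen (sndP α₁.pp α₁.qq (res α₁ β hU hV s₂)) =
        α₁.U ⊓ X.basicOpen (sndP β.pp β.qq s₂) :=
      Scheme.basicOpen_res X (sndP β.pp β.qq s₂) (homOfLE hU).op
    rw [h]
    exact (inf_eq_right.mpr h22).symm
  · show Y.basicOpen (fstP β.pp β.qq s₂) =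
      Y.basicOpen (fstP α₁.pp α₁.qq (res α₁ β hU hV s₂))
    have h : Y.basicOpen (fstP α₁.pp α₁.qq (res α₁ β hU hV s₂)) =
        α₁.V ⊓ Y.basicOpen (fstP β.pp β.qq s₂) :=
      Scheme.basicOpen_res Y (fstP β.pp β.qq s₂) (homOfLE hV).op
    rw [h]
    exact (inf_eq_right.mpr h23).symm

theorem exists_common_Y (α β : Idx i j) (y : Y) (hα : y ∈ α.V) (hβ : y ∈ β.V) :
    ∃ δ : Idx i j, δ ≤ α ∧ δ ≤ β ∧ y ∈ δ.V := by
  have hO1 : ∀ z : Z, z ∈ i ⁻¹ᵁ α.U → (i z ∈ β.U ↔ j z ∈ β.V) := by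
    intro z _
    have : z ∈ i ⁻¹ᵁ β.U ↔ z ∈ j ⁻¹ᵁ β.V := by rw [β.h]
    exact this
  obtain ⟨s₁, h11, h12, h13⟩ := exists_refine_Y α β.U β.V hO1 y hα hβ
  have hα₁le : basic α s₁ ≤ α := basic_le α s₁
  have hO2 : ∀ z : Z, z ∈ i ⁻¹ᵁ β.U → (i z ∈ (basic α s₁).U ↔ j z ∈ (basic α s₁).V) := by
    intro z _
    have : z ∈ i ⁻¹ᵁ (basic α s₁).U ↔ z ∈ j ⁻¹ᵁ (basic α s₁).V := by rw [(basic α s₁).h]
    exact this
  obtain ⟨s₂, h21, h22, h23⟩ := exists_refine_Y β (basic α s₁).U (basic α s₁).V hO2 y hβ h11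
  have hδβ : basic β s₂ ≤ β := basic_le β s₂
  have hδeq := basic_eq_basic_res (basic α s₁) β h12 h13 s₂ h22 h23
  have hδα₁ : basic β s₂ ≤ basic α s₁ := by
    rw [hδeq]
    exact basic_le (basic α s₁) _
  exact ⟨basic β s₂, le_trans hδα₁ hα₁le, hδβ, h21⟩

theorem exists_common_X (α β : Idx i j) (x : X) (hα : x ∈ α.U) (hβ : x ∈ β.U) :
    ∃ δ : Idx i j, δ ≤ α ∧ δ ≤ β ∧ x ∈ δ.U := by
  by_cases hx : x ∈ Set.range i
  · obtain ⟨z, rfl⟩ := hx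
    have hzα : z ∈ j ⁻¹ᵁ α.V := by
      rw [← α.h]
      exact hα
    have hzβ : z ∈ j ⁻¹ᵁ β.V := by
      rw [← β.h]
      exact hβ
    obtain ⟨δ, h1, h2, h3⟩ := exists_common_Y α β (j z) hzα hzβ
    refine ⟨δ, h1, h2, ?_⟩
    have : z ∈ i ⁻¹ᵁ δ.U := by
      rw [δ.h]
      exact h3
    exact this
  · obtain ⟨s₁, h11, h12, h13⟩ := exists_refine_X α β.U x hα hβ hx
    have hα₁le : basic α s₁ ≤ α := basic_le α s₁
    have hV1 : (basic α s₁).V ≤ β.V := by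
      show Y.basicOpen (fstP α.pp α.qq s₁) ≤ β.V
      rw [h13, Scheme.basicOpen_zero]
      exact bot_le
    obtain ⟨s₂, h21, h22, h23⟩ := exists_refine_X β (basic α s₁).U x hβ h11 hx
    have hV2 : Y.basicOpen (fstP β.pp β.qq s₂) ≤ (basic α s₁).V := by
      rw [h23, Scheme.basicOpen_zero]
      exact bot_le
    have hδβ : basic β s₂ ≤ β := basic_le β s₂
    have hδeq := basic_eq_basic_res (basic α s₁) β h12 hV1 s₂ h22 hV2
    have hδα₁ : basic β s₂ ≤ basic α s₁ := by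
      rw [hδeq]
      exact basic_le (basic α s₁) _
    exact ⟨basic β s₂, le_trans hδα₁ hα₁le, hδβ, h21⟩

end Groth.Agent.Helper17.AG70
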