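import Mathlib
import Groth.Agent.Lib.Helper17.AG70
import Groth.Agent.Lib.Helper17.AG59

/-!
# Ferrand push-outs of schemes: gluing the affine charts (helper17)

Given a closed immersion `i : Z ⟶ X` and `j : Z ⟶ Y` such that `X` and `Y` are covered by the
charts `Idx i j`, we glue the schemes `Spec (R α)` along the (locally directed) preorder of charts
to a scheme `P i j`, construct `a : X ⟶ P`, `b : Y ⟶ P` and show that the square is a push-out
(`isPushout`), with a `Chart` around every point.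
-/

set_option autoImplicit false
universe u
open CategoryTheory CategoryTheory.Limits AlgebraicGeometry Opposite TopologicalSpace

noncomputable section
namespace Groth.Agent.Helper17.AG71
open Groth.Agent.Helper17.AG57 Groth.Agent.Helper17.AG58 Groth.Agent.Helper17.AG68
open Groth.Agent.Helper17.AG69 Groth.Agent.Helper17.AG69.Idx Groth.Agent.Helper17.AG70
open Groth.Agent.Helper19.FibProd

variable {X Y Z : Scheme.{u}} (i : Z ⟶ X) (j : Z ⟶ Y)

/-- the diagram of affine charts -/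
def F : Idx i j ⥤ Scheme.{u} where
  obj α := Spec (CommRingCat.of α.R)
  map {α β} f := Fm α β (Idx.le.hU (leOfHom f)) (Idx.le.hV (leOfHom f))
  map_id α := Fm_id α _ _
  map_comp {α β γ} _ _ := Fm_comp α β γ _ _ _ _

instance {α β : Idx i j} (f : α ⟶ β) : IsOpenImmersion ((F i j).map f) :=
  Idx.le.isOpenImmersion (leOfHom f)

variable [IsClosedImmersion i]

instance : ((F i j) ⋙ Scheme.forget).IsLocallyDirected where
  cond := by
    intro α β γ fi fj xi xj hx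
    have hα : Idx.le α γ := leOfHom fi
    have hβ : Idx.le β γ := leOfHom fj
    have hx' : Fm α γ hα.hU hα.hV xi = Fm β γ hβ.hU hβ.hV xj := hx
    haveI := hα.isOpenImmersion
    haveI := hβ.isOpenImmersion
    have hO : IsOpen (Set.range (Fm α γ hα.hU hα.hV) ∩ Set.range (Fm β γ hβ.hU hβ.hV)) :=
      (Fm α γ hα.hU hα.hV).isOpenEmbedding.isOpen_range.inter
        (Fm β γ hβ.hU hβ.hV).isOpenEmbedding.isOpen_range
    have hp : Fm α γ hα.hU hα.hV xi ∈
        Set.range (Fm α γ hα.hU hα.hV) ∩ Set.range (Fm β γ hβ.hU hβ.hV) :=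
      ⟨⟨xi, rfl⟩, ⟨xj, hx'.symm⟩⟩
    obtain ⟨_, ⟨s, rfl⟩, hps, hsub⟩ :=
      PrimeSpectrum.isTopologicalBasis_basic_opens.exists_subset_of_mem_open hp hO
    have hδγ : Idx.le (basic γ s) γ := basic_le γ s
    have hrδ := range_basic γ s
    have hδα : Idx.le (basic γ s) α :=
      le_of_range_subset hδγ hα (fun x hx => (hsub ((hrδ x).mp hx)).1)
    have hδβ : Idx.le (basic γ s) β :=
      le_of_range_subset hδγ hβ (fun x hx => (hsub ((hrδ x).mp hx)).2)
    obtain ⟨w, hw⟩ := (hrδ _).mpr hps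
    refine ⟨basic γ s, homOfLE hδα, homOfLE hδβ, w, ?_, ?_⟩
    · apply (Fm α γ hα.hU hα.hV).isOpenEmbedding.injective
      show Fm α γ hα.hU hα.hV (Fm (basic γ s) α hδα.hU hδα.hV w) = Fm α γ hα.hU hα.hV xi
      rw [← Scheme.Hom.comp_apply, ← Fm_comp]
      exact hw
    · apply (Fm β γ hβ.hU hβ.hV).isOpenEmbedding.injective
      show Fm β γ hβ.hU hβ.hV (Fm (basic γ s) β hδβ.hU hδβ.hV w) = Fm β γ hβ.hU hβ.hV xj
      rw [← Scheme.Hom.comp_apply, ← Fm_comp, ← hx']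
      exact hw

/-- the glued scheme -/
def P : Scheme.{u} := colimit (F i j)

/-- the chart maps -/
def k (α : Idx i j) : Spec (CommRingCat.of α.R) ⟶ P i j := colimit.ι (F i j) α

instance (α : Idx i j) : IsOpenImmersion (k i j α) :=
  inferInstanceAs (IsOpenImmersion (colimit.ι (F i j) α))

theorem k_w {α β : Idx i j} (h : Idx.le α β) : Fm α β h.hU h.hV ≫ k i j β = k i j α :=
  colimit.w (F i j) (homOfLE h)

theorem k_jointly_surjective (p : P i j) : ∃ (α : Idx i j) (x : Spec (CommRingCat.of α.R)),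
    k i j α x = p :=
  Scheme.IsLocallyDirected.ι_jointly_surjective (F i j) p

theorem k_eq {α β : Idx i j} (xα : Spec (CommRingCat.of α.R)) (xβ : Spec (CommRingCat.of β.R))
    (h : k i j α xα = k i j β xβ) :
    ∃ (δ : Idx i j) (h1 : Idx.le δ α) (h2 : Idx.le δ β) (w : Spec (CommRingCat.of δ.R)),
      Fm δ α h1.hU h1.hV w = xα ∧ Fm δ β h2.hU h2.hV w = xβ := by
  obtain ⟨δ, fi, fj, w, h1, h2⟩ := (Scheme.IsLocallyDirected.ι_eq_ι_iff (F i j)).mp h
  exact ⟨δ, leOfHom fi, leOfHom fj, w, h1, h2⟩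

section Covers

variable (HX : ∀ x : X, ∃ α : Idx i j, x ∈ α.U) (HY : ∀ y : Y, ∃ α : Idx i j, y ∈ α.V)

/-- the cover of `X` by the `U α` -/
def covX : X.OpenCover where
  I₀ := Idx i j
  X α := Spec Γ(X, α.U)
  f α := α.hU.fromSpec
  mem₀ := by
    rw [Scheme.presieve₀_mem_precoverage_iff]
    refine ⟨fun x => ?_, fun α => inferInstance⟩
    obtain ⟨α, hα⟩ := HX x
    exact ⟨α, exists_fromSpec_eq α.hU x hα⟩

/-- the cover of `Y` by the `V α` -/
def covY : Y.OpenCover where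
  I₀ := Idx i j
  X α := Spec Γ(Y, α.V)
  f α := α.hV.fromSpec
  mem₀ := by
    rw [Scheme.presieve₀_mem_precoverage_iff]
    refine ⟨fun y => ?_, fun α => inferInstance⟩
    obtain ⟨α, hα⟩ := HY y
    exact ⟨α, exists_fromSpec_eq α.hV y hα⟩

instance : Preorder (covX i j HX).I₀ := inferInstanceAs (Preorder (Idx i j))
instance : Preorder (covY i j HY).I₀ := inferInstanceAs (Preorder (Idx i j))

theorem isOpenImmersion_rX (α β : Idx i j) (hU : α.U ≤ β.U) : IsOpenImmersion (Sp (rX α β hU)) := by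
  haveI : IsOpenImmersion (Sp (rX α β hU) ≫ β.hU.fromSpec) := by
    rw [fromSpec_rX]
    infer_instance
  exact IsOpenImmersion.of_comp (Sp (rX α β hU)) β.hU.fromSpec

theorem isOpenImmersion_rY (α β : Idx i j) (hV : α.V ≤ β.V) : IsOpenImmersion (Sp (rY α β hV)) := by
  haveI : IsOpenImmersion (Sp (rY α β hV) ≫ β.hV.fromSpec) := by
    rw [fromSpec_rY]
    infer_instance
  exact IsOpenImmersion.of_comp (Sp (rY α β hV)) β.hV.fromSpec

theorem Sp_rX_id (α : Idx i j) (hU : α.U ≤ α.U) : Sp (rX α α hU) = 𝟙 _ := by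
  have : rX α α hU = RingHom.id _ := RingHom.ext fun a => res_self X hU a
  rw [this, Sp, CommRingCat.ofHom_id]
  exact Spec.map_id _

theorem Sp_rY_id (α : Idx i j) (hV : α.V ≤ α.V) : Sp (rY α α hV) = 𝟙 _ := by
  have : rY α α hV = RingHom.id _ := RingHom.ext fun a => res_self Y hV a
  rw [this, Sp, CommRingCat.ofHom_id]
  exact Spec.map_id _

theorem Sp_rX_comp (α β γ : Idx i j) (h₁ : α.U ≤ β.U) (h₂ : β.U ≤ γ.U) :
    Sp (rX α γ (h₁.trans h₂)) = Sp (rX α β h₁) ≫ Sp (rX β γ h₂) := by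
  have : rX α γ (h₁.trans h₂) = (rX α β h₁).comp (rX β γ h₂) :=
    RingHom.ext fun a => (res_res X h₁ h₂ a).symm
  rw [this, Sp_comp]

theorem Sp_rY_comp (α β γ : Idx i j) (h₁ : α.V ≤ β.V) (h₂ : β.V ≤ γ.V) :
    Sp (rY α γ (h₁.trans h₂)) = Sp (rY α β h₁) ≫ Sp (rY β γ h₂) := by
  have : rY α γ (h₁.trans h₂) = (rY α β h₁).comp (rY β γ h₂) :=
    RingHom.ext fun a => (res_res Y h₁ h₂ a).symm
  rw [this, Sp_comp]

theorem directed_X (α β : Idx i j) (x : ↥(pullback α.hU.fromSpec β.hU.fromSpec)) :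
    ∃ (δ : Idx i j) (h1 : Idx.le δ α) (h2 : Idx.le δ β) (y : Spec Γ(X, δ.U)),
      pullback.lift (Sp (rX δ α h1.hU)) (Sp (rX δ β h2.hU))
        (by rw [fromSpec_rX, fromSpec_rX]) y = x := by
  have h1 : (pullback.fst α.hU.fromSpec β.hU.fromSpec ≫ α.hU.fromSpec) x ∈ α.U := by
    rw [Scheme.Hom.comp_apply]
    exact fromSpec_mem α.hU _
  have h2 : (pullback.fst α.hU.fromSpec β.hU.fromSpec ≫ α.hU.fromSpec) x ∈ β.U := by
    rw [pullback.condition, Scheme.Hom.comp_apply]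
    exact fromSpec_mem β.hU _
  obtain ⟨δ, hδα, hδβ, hδ⟩ := exists_common_X α β _ h1 h2
  obtain ⟨y, hy⟩ := exists_fromSpec_eq δ.hU _ hδ
  refine ⟨δ, hδα, hδβ, y, ?_⟩
  apply (pullback.fst α.hU.fromSpec β.hU.fromSpec ≫ α.hU.fromSpec).isOpenEmbedding.injective
  rw [← Scheme.Hom.comp_apply, pullback.lift_fst_assoc, fromSpec_rX]
  exact hy

theorem directed_Y (α β : Idx i j) (x : ↥(pullback α.hV.fromSpec β.hV.fromSpec)) :
    ∃ (δ : Idx i j) (h1 : Idx.le δ α) (h2 : Idx.le δ β) (y : Spec Γ(Y, δ.V)),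
      pullback.lift (Sp (rY δ α h1.hV)) (Sp (rY δ β h2.hV))
        (by rw [fromSpec_rY, fromSpec_rY]) y = x := by
  have h1 : (pullback.fst α.hV.fromSpec β.hV.fromSpec ≫ α.hV.fromSpec) x ∈ α.V := by
    rw [Scheme.Hom.comp_apply]
    exact fromSpec_mem α.hV _
  have h2 : (pullback.fst α.hV.fromSpec β.hV.fromSpec ≫ α.hV.fromSpec) x ∈ β.V := by
    rw [pullback.condition, Scheme.Hom.comp_apply]
    exact fromSpec_mem β.hV _
  obtain ⟨δ, hδα, hδβ, hδ⟩ := exists_common_Y α β _ h1 h2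
  obtain ⟨y, hy⟩ := exists_fromSpec_eq δ.hV _ hδ
  refine ⟨δ, hδα, hδβ, y, ?_⟩
  apply (pullback.fst α.hV.fromSpec β.hV.fromSpec ≫ α.hV.fromSpec).isOpenEmbedding.injective
  rw [← Scheme.Hom.comp_apply, pullback.lift_fst_assoc, fromSpec_rY]
  exact hy

instance : (covX i j HX).LocallyDirected where
  trans {α β} hαβ := Sp (rX α β (Idx.le.hU (leOfHom hαβ)))
  trans_id α := Sp_rX_id i j α _
  trans_comp {α β γ} _ _ := Sp_rX_comp i j α β γ _ _
  w {α β} hαβ := fromSpec_rX α β _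
  directed {α β} x := by
    obtain ⟨δ, h1, h2, y, hy⟩ := directed_X i j α β x
    exact ⟨δ, homOfLE h1, homOfLE h2, y, hy⟩
  property_trans {α β} hαβ := isOpenImmersion_rX i j α β _

instance : (covY i j HY).LocallyDirected where
  trans {α β} hαβ := Sp (rY α β (Idx.le.hV (leOfHom hαβ)))
  trans_id α := Sp_rY_id i j α _
  trans_comp {α β γ} _ _ := Sp_rY_comp i j α β γ _ _
  w {α β} hαβ := fromSpec_rY α β _
  directed {α β} x := by
    obtain ⟨δ, h1, h2, y, hy⟩ := directed_Y i j α β x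
    exact ⟨δ, homOfLE h1, homOfLE h2, y, hy⟩
  property_trans {α β} hαβ := isOpenImmersion_rY i j α β _

theorem a_compat {α β : (covX i j HX).I₀} (hαβ : α ⟶ β) :
    (covX i j HX).trans hαβ ≫ (Sp (sndP (Idx.pp β) (Idx.qq β)) ≫ k i j β) =
      Sp (sndP (Idx.pp α) (Idx.qq α)) ≫ k i j α := by
  have h : Idx.le α β := leOfHom hαβ
  show Sp (rX α β h.hU) ≫ Sp (sndP (Idx.pp β) (Idx.qq β)) ≫ k i j β =
    Sp (sndP (Idx.pp α) (Idx.qq α)) ≫ k i j α
  rw [← Category.assoc, ← sq_X α β h.hU h.hV, Category.assoc, k_w i j h]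

theorem b_compat {α β : (covY i j HY).I₀} (hαβ : α ⟶ β) :
    (covY i j HY).trans hαβ ≫ (Sp (fstP (Idx.pp β) (Idx.qq β)) ≫ k i j β) =
      Sp (fstP (Idx.pp α) (Idx.qq α)) ≫ k i j α := by
  have h : Idx.le α β := leOfHom hαβ
  show Sp (rY α β h.hV) ≫ Sp (fstP (Idx.pp β) (Idx.qq β)) ≫ k i j β =
    Sp (fstP (Idx.pp α) (Idx.qq α)) ≫ k i j α
  rw [← Category.assoc, ← sq_Y α β h.hU h.hV, Category.assoc, k_w i j h]

/-- `X ⟶ P` -/
def a : X ⟶ P i j :=
  (covX i j HX).glueMorphismsOfLocallyDirected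
    (fun α => Sp (sndP (Idx.pp α) (Idx.qq α)) ≫ k i j α) (fun hαβ => a_compat i j HX hαβ)

/-- `Y ⟶ P` -/
def b : Y ⟶ P i j :=
  (covY i j HY).glueMorphismsOfLocallyDirected
    (fun α => Sp (fstP (Idx.pp α) (Idx.qq α)) ≫ k i j α) (fun hαβ => b_compat i j HY hαβ)

theorem a_w (α : Idx i j) : α.hU.fromSpec ≫ a i j HX = Sp (sndP α.pp α.qq) ≫ k i j α :=
  (covX i j HX).map_glueMorphismsOfLocallyDirected
    (fun α => Sp (sndP (Idx.pp α) (Idx.qq α)) ≫ k i j α) (fun hαβ => a_compat i j HX hαβ) α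

theorem b_w (α : Idx i j) : α.hV.fromSpec ≫ b i j HY = Sp (fstP α.pp α.qq) ≫ k i j α :=
  (covY i j HY).map_glueMorphismsOfLocallyDirected
    (fun α => Sp (fstP (Idx.pp α) (Idx.qq α)) ≫ k i j α) (fun hαβ => b_compat i j HY hαβ) α

theorem sq : i ≫ a i j HX = j ≫ b i j HY := by
  apply Scheme.hom_ext_of_forall
  intro z
  obtain ⟨α, hα⟩ := HX (i z)
  refine ⟨i ⁻¹ᵁ α.U, hα, ?_⟩
  have e : (i ⁻¹ᵁ α.U).ι = α.hW.isoSpec.hom ≫ α.hW.fromSpec := α.hW.isoSpec_hom_fromSpec.symm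
  have key : α.hW.fromSpec ≫ i ≫ a i j HX = α.hW.fromSpec ≫ j ≫ b i j HY := by
    rw [← Category.assoc, ← α.wZX, Category.assoc, a_w, ← Category.assoc α.hW.fromSpec, ← α.wZY,
      Category.assoc, b_w, ← Category.assoc, ← Category.assoc, ← Sp_comp, ← Sp_comp]
    congr 2
    exact RingHom.ext fun x => (Groth.Agent.Helper19.FibProd.comm _ _ x).symm
  rw [e, Category.assoc, Category.assoc, key]

theorem preX (α : Idx i j) (x : X) (hx : a i j HX x ∈ Set.range (k i j α)) :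
    x ∈ Set.range α.hU.fromSpec := by
  obtain ⟨β, hβ⟩ := HX x
  obtain ⟨x', hx'⟩ := exists_fromSpec_eq β.hU x hβ
  obtain ⟨p', hp'⟩ := hx
  have e : k i j α p' = k i j β (Sp (sndP β.pp β.qq) x') := by
    rw [hp', ← hx', ← Scheme.Hom.comp_apply, ← Scheme.Hom.comp_apply, a_w]
  obtain ⟨δ, h1, h2, w, hw1, hw2⟩ := k_eq i j _ _ e
  have hmem : β.hU.fromSpec x' ∈ δ.U := h2.preX x' ⟨w, hw2⟩
  rw [α.hU.range_fromSpec, ← hx']
  exact h1.hU hmem

theorem preY (α : Idx i j) (y : Y) (hy : b i j HY y ∈ Set.range (k i j α)) :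
    y ∈ Set.range α.hV.fromSpec := by
  obtain ⟨β, hβ⟩ := HY y
  obtain ⟨y', hy'⟩ := exists_fromSpec_eq β.hV y hβ
  obtain ⟨p', hp'⟩ := hy
  have e : k i j α p' = k i j β (Sp (fstP β.pp β.qq) y') := by
    rw [hp', ← hy', ← Scheme.Hom.comp_apply, ← Scheme.Hom.comp_apply, b_w]
  obtain ⟨δ, h1, h2, w, hw1, hw2⟩ := k_eq i j _ _ e
  have hmem : β.hV.fromSpec y' ∈ δ.V := h2.preY y' ⟨w, hw2⟩
  rw [α.hV.range_fromSpec, ← hy']
  exact h1.hV hmem

/-- the Ferrand chart attached to a pair of affine opens -/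
def chart (α : Idx i j) : AG59.Chart i j (a i j HX) (b i j HY) where
  C' := α.R
  B' := Γ(X, α.U)
  B := Γ(Z, i ⁻¹ᵁ α.U)
  C := Γ(Y, α.V)
  π₁ := sndP α.pp α.qq
  π₂ := fstP α.pp α.qq
  φ := α.pp
  ψ := α.qq
  rpb := rpb_FP α.pp α.qq α.pp_surjective
  k := k i j α
  kX := α.hU.fromSpec
  kY := α.hV.fromSpec
  kZ := α.hW.fromSpec
  hk := inferInstance
  hkX := inferInstance
  hkY := inferInstance
  wX := a_w i j HX α
  wY := b_w i j HY α
  wZX := α.wZX.symm
  wZY := α.wZY.symm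
  preX := preX i j HX α
  preY := preY i j HY α

theorem isPushout : IsPushout i j (a i j HX) (b i j HY) := by
  refine AG59.isPushout_of_charts (sq i j HX HY) ?_
  intro p
  obtain ⟨α, x, hx⟩ := k_jointly_surjective i j p
  exact ⟨chart i j HX HY α, x, hx⟩

end Covers

end Groth.Agent.Helper17.AG71
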