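import Mathlib
import Groth.Agent.Lib.Helper17.AG71

/-!
# Ferrand push-outs of schemes: properties of the glued push-out (helper17)

The push-out square constructed in `AG71` is cartesian, `Y ⟶ P` is a closed immersion, `X ⟶ P` is
affine (integral / a closed immersion when `j` is), and every point of `P` comes from `X` or `Y`.
Main statement: `exists_pushout`.
-/

set_option autoImplicit false
universe u
open CategoryTheory CategoryTheory.Limits AlgebraicGeometry Opposite TopologicalSpace

noncomputable section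
namespace Groth.Agent.Helper17.AG72
open Groth.Agent.Helper17.AG57 Groth.Agent.Helper17.AG58 Groth.Agent.Helper17.AG68
open Groth.Agent.Helper17.AG69 Groth.Agent.Helper17.AG69.Idx Groth.Agent.Helper17.AG70
open Groth.Agent.Helper17.AG71
open Groth.Agent.Helper19.FibProd

/-- a commutative square of open immersions over `f` with the preimage property is cartesian -/
theorem isPullback_of_pre {X P U Q : Scheme.{u}} (f : X ⟶ P) (k : Q ⟶ P) [IsOpenImmersion k]
    (kX : U ⟶ X) [IsOpenImmersion kX] (g : U ⟶ Q) (w : kX ≫ f = g ≫ k)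
    (pre : ∀ x : X, f x ∈ Set.range k → x ∈ Set.range kX) : IsPullback kX g f k := by
  have hr : ∀ s : PullbackCone f k, Set.range s.fst ⊆ Set.range kX := by
    intro s
    rintro _ ⟨t, rfl⟩
    apply pre
    refine ⟨s.snd t, ?_⟩
    rw [← Scheme.Hom.comp_apply, ← Scheme.Hom.comp_apply, s.condition]
  refine ⟨⟨w⟩, ⟨PullbackCone.IsLimit.mk w (fun s => IsOpenImmersion.lift kX s.fst (hr s))
    (fun s => IsOpenImmersion.lift_fac _ _ _) (fun s => ?_) (fun s m h1 _ => ?_)⟩⟩
  · rw [← cancel_mono k, Category.assoc, ← w, ← Category.assoc, IsOpenImmersion.lift_fac,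
      s.condition]
  · rw [← cancel_mono kX, h1, IsOpenImmersion.lift_fac]

theorem snd_eq_of_isPullback {A B C D : Scheme.{u}} {fst : A ⟶ B} {snd : A ⟶ C} {f : B ⟶ D}
    {g : C ⟶ D} (h : IsPullback fst snd f g) : pullback.snd f g = h.isoPullback.inv ≫ snd := by
  rw [Iso.eq_inv_comp, h.isoPullback_hom_snd]

theorem appLE_isIntegral {Z Y : Scheme.{u}} (j : Z ⟶ Y) [IsIntegralHom j] (V : Y.Opens)
    (hV : IsAffineOpen V) (W : Z.Opens) (e : W = j ⁻¹ᵁ V) :
    (j.appLE V W (le_of_eq e)).hom.IsIntegral := by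
  subst e
  rw [← Scheme.Hom.app_eq_appLE]
  exact IsIntegralHom.isIntegral_app j V hV

theorem appLE_surjective {Z Y : Scheme.{u}} (j : Z ⟶ Y) [IsClosedImmersion j] (V : Y.Opens)
    (hV : IsAffineOpen V) (W : Z.Opens) (e : W = j ⁻¹ᵁ V) :
    Function.Surjective (j.appLE V W (le_of_eq e)).hom := by
  subst e
  rw [← Scheme.Hom.app_eq_appLE]
  exact j.app_surjective V hV

/-- integrality of the projection of a fibre product ring -/
theorem sndP_isIntegral {A A' B : Type u} [CommRing A] [CommRing A'] [CommRing B] (p : A' →+* A)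
    (q : B →+* A) (hp : Function.Surjective p) (hq : q.IsIntegral) : (sndP p q).IsIntegral := by
  rcases subsingleton_or_nontrivial A with hA | hA
  · apply RingHom.isIntegral_of_surjective
    intro a'
    exact ⟨mkP p q 0 a' (Subsingleton.elim _ _), rfl⟩
  · haveI : Nontrivial B := q.domain_nontrivial
    intro x'
    obtain ⟨F₀, hF₀, hF₀x⟩ := hq (p x')
    have hFm : (F₀ * Polynomial.X).Monic := hF₀.mul Polynomial.monic_X
    have hFx : Polynomial.eval₂ q (p x') (F₀ * Polynomial.X) = 0 := by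
      rw [Polynomial.eval₂_mul, hF₀x, zero_mul]
    have hdeg : 0 < (F₀ * Polynomial.X).degree := by
      rw [← Polynomial.natDegree_pos_iff_degree_pos, Polynomial.natDegree_mul_X hF₀.ne_zero]
      exact Nat.succ_pos _
    have hlift : (F₀ * Polynomial.X) ∈ Polynomial.lifts (fstP p q) := by
      rw [Polynomial.mem_lifts]
      exact Polynomial.map_surjective _ (fstP_surjective p q hp) _
    obtain ⟨G₀, hG₀map, hG₀deg, hG₀m⟩ := Polynomial.lifts_and_degree_eq_and_monic hlift hFm
    set e := Polynomial.eval₂ (sndP p q) x' G₀ with he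
    have hpe : p e = 0 := by
      rw [he, Polynomial.hom_eval₂]
      have hc : p.comp (sndP p q) = q.comp (fstP p q) :=
        RingHom.ext fun x => (Groth.Agent.Helper19.FibProd.comm p q x).symm
      rw [hc, ← Polynomial.eval₂_map, hG₀map]
      exact hFx
    let ε : FP p q := mkP p q 0 e (by rw [map_zero, hpe])
    refine ⟨G₀ - Polynomial.C ε, ?_, ?_⟩
    · apply hG₀m.sub_of_left
      rw [hG₀deg]
      exact lt_of_le_of_lt Polynomial.degree_C_le hdeg
    · rw [Polynomial.eval₂_sub, Polynomial.eval₂_C]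
      show e - e = 0
      exact sub_self e

variable {X Y Z : Scheme.{u}} (i : Z ⟶ X) (j : Z ⟶ Y) [IsClosedImmersion i]
  (HX : ∀ x : X, ∃ α : Idx i j, x ∈ α.U) (HY : ∀ y : Y, ∃ α : Idx i j, y ∈ α.V)

theorem sqX (α : Idx i j) :
    IsPullback α.hU.fromSpec (Sp (sndP α.pp α.qq)) (a i j HX) (k i j α) :=
  isPullback_of_pre _ _ _ _ (a_w i j HX α) (preX i j HX α)

theorem sqY (α : Idx i j) :
    IsPullback α.hV.fromSpec (Sp (fstP α.pp α.qq)) (b i j HY) (k i j α) :=
  isPullback_of_pre _ _ _ _ (b_w i j HY α) (preY i j HY α)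

theorem isClosedImmersion_b : IsClosedImmersion (b i j HY) := by
  refine IsZariskiLocalAtTarget.of_openCover (P := @IsClosedImmersion)
    (Scheme.IsLocallyDirected.openCover (F i j)) ?_
  intro α
  show IsClosedImmersion (pullback.snd (b i j HY) (k i j α))
  rw [snd_eq_of_isPullback (sqY i j HY α)]
  haveI : IsClosedImmersion (Sp (fstP (Idx.pp α) (Idx.qq α))) :=
    IsClosedImmersion.spec_of_surjective _ (fstP_surjective _ _ (Idx.pp_surjective α))
  infer_instance

theorem isAffineHom_a : IsAffineHom (a i j HX) := by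
  refine IsZariskiLocalAtTarget.of_openCover (P := @IsAffineHom)
    (Scheme.IsLocallyDirected.openCover (F i j)) ?_
  intro α
  show IsAffineHom (pullback.snd (a i j HX) (k i j α))
  rw [snd_eq_of_isPullback (sqX i j HX α)]
  infer_instance

theorem isIntegralHom_a [IsIntegralHom j] : IsIntegralHom (a i j HX) := by
  refine IsZariskiLocalAtTarget.of_openCover (P := @IsIntegralHom)
    (Scheme.IsLocallyDirected.openCover (F i j)) ?_
  intro α
  show IsIntegralHom (pullback.snd (a i j HX) (k i j α))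
  rw [snd_eq_of_isPullback (sqX i j HX α)]
  haveI : IsIntegralHom (Sp (sndP (Idx.pp α) (Idx.qq α))) := by
    rw [Sp, IsIntegralHom.SpecMap_iff]
    exact sndP_isIntegral _ _ (Idx.pp_surjective α)
      (appLE_isIntegral j (Idx.V α) (Idx.hV α) _ (Idx.h α))
  infer_instance

theorem isClosedImmersion_a [IsClosedImmersion j] : IsClosedImmersion (a i j HX) := by
  refine IsZariskiLocalAtTarget.of_openCover (P := @IsClosedImmersion)
    (Scheme.IsLocallyDirected.openCover (F i j)) ?_
  intro α
  show IsClosedImmersion (pullback.snd (a i j HX) (k i j α))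
  rw [snd_eq_of_isPullback (sqX i j HX α)]
  haveI : IsClosedImmersion (Sp (sndP (Idx.pp α) (Idx.qq α))) :=
    IsClosedImmersion.spec_of_surjective _ (sndP_surjective _ _
      (appLE_surjective j (Idx.V α) (Idx.hV α) _ (Idx.h α)))
  infer_instance

theorem mem_range (p : P i j) : p ∈ Set.range (a i j HX) ∪ Set.range (b i j HY) := by
  obtain ⟨α, x, rfl⟩ := k_jointly_surjective i j p
  rcases AG58.exists_point (rpb_FP α.pp α.qq α.pp_surjective) x with ⟨q, hq⟩ | ⟨y, hy⟩
  · left
    refine ⟨α.hU.fromSpec q, ?_⟩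
    rw [← hq, ← Scheme.Hom.comp_apply, ← Scheme.Hom.comp_apply, a_w]
  · right
    refine ⟨α.hV.fromSpec y, ?_⟩
    rw [← hy, ← Scheme.Hom.comp_apply, ← Scheme.Hom.comp_apply, b_w]

theorem isPullback : IsPullback i j (a i j HX) (b i j HY) := by
  have w := sq i j HX HY
  have key : ∀ s : PullbackCone (a i j HX) (b i j HY),
      ∃ l : s.pt ⟶ Z, l ≫ i = s.fst ∧ l ≫ j = s.snd := by
    intro s
    have hloc : ∀ α : Idx i j, ∃ l : pullback (s.fst ≫ a i j HX) (k i j α) ⟶ Z,
        l ≫ i = pullback.fst (s.fst ≫ a i j HX) (k i j α) ≫ s.fst ∧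
        l ≫ j = pullback.fst (s.fst ≫ a i j HX) (k i j α) ≫ s.snd := by
      intro α
      have hc : pullback.fst (s.fst ≫ a i j HX) (k i j α) ≫ s.fst ≫ a i j HX =
          pullback.snd (s.fst ≫ a i j HX) (k i j α) ≫ k i j α := pullback.condition
      have hc1 : (pullback.fst (s.fst ≫ a i j HX) (k i j α) ≫ s.fst) ≫ a i j HX =
          pullback.snd (s.fst ≫ a i j HX) (k i j α) ≫ k i j α := by
        rw [Category.assoc]; exact hc
      have hc2 : (pullback.fst (s.fst ≫ a i j HX) (k i j α) ≫ s.snd) ≫ b i j HY =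
          pullback.snd (s.fst ≫ a i j HX) (k i j α) ≫ k i j α := by
        rw [Category.assoc, ← s.condition]; exact hc
      let u := (sqX i j HX α).lift _ _ hc1
      let v := (sqY i j HY α).lift _ _ hc2
      have hu1 : u ≫ α.hU.fromSpec = pullback.fst (s.fst ≫ a i j HX) (k i j α) ≫ s.fst :=
        (sqX i j HX α).lift_fst _ _ hc1
      have hu2 : u ≫ Sp (sndP α.pp α.qq) = pullback.snd (s.fst ≫ a i j HX) (k i j α) :=
        (sqX i j HX α).lift_snd _ _ hc1
      have hv1 : v ≫ α.hV.fromSpec = pullback.fst (s.fst ≫ a i j HX) (k i j α) ≫ s.snd :=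
        (sqY i j HY α).lift_fst _ _ hc2
      have hv2 : v ≫ Sp (fstP α.pp α.qq) = pullback.snd (s.fst ≫ a i j HX) (k i j α) :=
        (sqY i j HY α).lift_snd _ _ hc2
      have hpb := isPullback_Sp_FP α.pp α.qq α.pp_surjective
      let t := hpb.lift u v (hu2.trans hv2.symm)
      have ht1 : t ≫ Sp α.pp = u := hpb.lift_fst _ _ _
      have ht2 : t ≫ Sp α.qq = v := hpb.lift_snd _ _ _
      refine ⟨t ≫ α.hW.fromSpec, ?_, ?_⟩
      · rw [Category.assoc, ← α.wZX, ← Category.assoc, ht1, hu1]
      · rw [Category.assoc, ← α.wZY, ← Category.assoc, ht2, hv1]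
    choose l hl1 hl2 using hloc
    let 𝒱 : s.pt.OpenCover :=
      { I₀ := Idx i j
        X := fun α => pullback (s.fst ≫ a i j HX) (k i j α)
        f := fun α => pullback.fst (s.fst ≫ a i j HX) (k i j α)
        mem₀ := by
          rw [Scheme.presieve₀_mem_precoverage_iff]
          refine ⟨fun t => ?_, fun α => inferInstance⟩
          obtain ⟨α, x, hx⟩ := k_jointly_surjective i j ((s.fst ≫ a i j HX) t)
          obtain ⟨z, hz1, -⟩ := Scheme.Pullback.exists_preimage_pullback t x hx.symm
          exact ⟨α, z, hz1⟩ }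
    have compat : ∀ x y : 𝒱.I₀, pullback.fst (𝒱.f x) (𝒱.f y) ≫ l x = pullback.snd _ _ ≫ l y := by
      intro x y
      rw [← cancel_mono i, Category.assoc, Category.assoc, hl1, hl1]
      exact pullback.condition_assoc _
    refine ⟨𝒱.glueMorphisms l compat, ?_, ?_⟩
    · apply 𝒱.hom_ext
      intro α
      rw [← Category.assoc, 𝒱.ι_glueMorphisms, hl1]
    · apply 𝒱.hom_ext
      intro α
      rw [← Category.assoc, 𝒱.ι_glueMorphisms, hl2]
  choose l hl1 hl2 using key
  refine ⟨⟨w⟩, ⟨PullbackCone.IsLimit.mk w l hl1 hl2 (fun s m h1 _ => ?_)⟩⟩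
  rw [← cancel_mono i, h1, hl1]

/-- **Existence of Ferrand push-outs from affine charts.** -/
theorem exists_pushout (HX : ∀ x : X, ∃ α : Idx i j, x ∈ α.U)
    (HY : ∀ y : Y, ∃ α : Idx i j, y ∈ α.V) :
    ∃ (Q : Scheme.{u}) (a' : X ⟶ Q) (b' : Y ⟶ Q), IsPushout i j a' b' ∧ IsPullback i j a' b' ∧
      IsClosedImmersion b' ∧ IsAffineHom a' ∧ (IsIntegralHom j → IsIntegralHom a') ∧
      (IsClosedImmersion j → IsClosedImmersion a') ∧
      (∀ p : Q, p ∈ Set.range a' ∪ Set.range b') :=
  ⟨P i j, a i j HX, b i j HY, AG71.isPushout i j HX HY, isPullback i j HX HY,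
    isClosedImmersion_b i j HY, isAffineHom_a i j HX, fun _ => isIntegralHom_a i j HX,
    fun _ => isClosedImmersion_a i j HX, mem_range i j HX HY⟩

end Groth.Agent.Helper17.AG72
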