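import Mathlib
import Groth.Agent.Lib.Helper17.AG72
import Groth.Agent.Lib.Helper6.ThickAffC

/-!
# Ferrand push-outs of schemes: first applications (helper17)

* `main0432`: push-out of two closed immersions;
* `main0431`: push-out of a thickening along an affine morphism;
* `main15943`: push-out along a closed immersion over a base with standard affine charts.
-/

set_option autoImplicit false
universe u
open CategoryTheory CategoryTheory.Limits AlgebraicGeometry Opposite TopologicalSpace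

noncomputable section
namespace Groth.Agent.Helper17.AG73
open Groth.Agent.Helper17.AG69 Groth.Agent.Helper17.AG72

variable {X Y Z : Scheme.{u}} (i : Z ⟶ X) (j : Z ⟶ Y)

/-- chart around a point of `X` outside `i(Z)` -/
theorem exists_idx_of_not_mem_range [IsClosedImmersion i] (x : X) (hx : x ∉ Set.range i) :
    ∃ α : Idx i j, x ∈ α.U := by
  have hcl : IsClosed (Set.range i) := i.isClosedEmbedding.isClosed_range
  let O : X.Opens := ⟨(Set.range i)ᶜ, hcl.isOpen_compl⟩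
  have hxO : x ∈ O := hx
  obtain ⟨U, hU, hxU, hUO⟩ := exists_isAffineOpen_mem_and_subset hxO
  refine ⟨⟨U, ⊥, hU, isAffineOpen_bot Y, ?_⟩, hxU⟩
  ext z
  constructor
  · intro hz
    have h1 : i z ∈ (O : Set X) := hUO hz
    exact absurd ⟨z, rfl⟩ h1
  · intro hz
    exact (show j z ∈ (⊥ : Y.Opens) from hz).elim

/-- chart around a point of `Y` outside `j(Z)` when `j` is a closed immersion -/
theorem exists_idx_of_not_mem_range' [IsClosedImmersion j] (y : Y) (hy : y ∉ Set.range j) :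
    ∃ α : Idx i j, y ∈ α.V := by
  have hcl : IsClosed (Set.range j) := j.isClosedEmbedding.isClosed_range
  let O : Y.Opens := ⟨(Set.range j)ᶜ, hcl.isOpen_compl⟩
  have hyO : y ∈ O := hy
  obtain ⟨V, hV, hyV, hVO⟩ := exists_isAffineOpen_mem_and_subset hyO
  refine ⟨⟨⊥, V, isAffineOpen_bot X, hV, ?_⟩, hyV⟩
  ext z
  constructor
  · intro hz
    exact (show i z ∈ (⊥ : X.Opens) from hz).elim
  · intro hz
    have h1 : j z ∈ (O : Set Y) := hVO hz
    exact absurd ⟨z, rfl⟩ h1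

theorem exists_idx_closed [IsClosedImmersion i] [IsClosedImmersion j] (z : Z) :
    ∃ α : Idx i j, i z ∈ α.U ∧ j z ∈ α.V := by
  obtain ⟨U₀, hU₀, hxU₀, -⟩ := exists_isAffineOpen_mem_and_subset
    (x := i z) (U := ⊤) trivial
  obtain ⟨V₀, hV₀, hyV₀, -⟩ := exists_isAffineOpen_mem_and_subset
    (x := j z) (U := ⊤) trivial
  have hW₁ : IsAffineOpen (i ⁻¹ᵁ U₀) := hU₀.preimage i
  have hW₂ : IsAffineOpen (j ⁻¹ᵁ V₀) := hV₀.preimage j
  obtain ⟨f₁, f₂, hf, hz⟩ := exists_basicOpen_le_affine_inter hW₁ hW₂ z ⟨hxU₀, hyV₀⟩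
  obtain ⟨g₁, hg₁⟩ := i.app_surjective U₀ hU₀ f₁
  obtain ⟨g₂, hg₂⟩ := j.app_surjective V₀ hV₀ f₂
  have e1 : i ⁻¹ᵁ X.basicOpen g₁ = Z.basicOpen f₁ := by
    rw [Scheme.preimage_basicOpen, hg₁]
  have e2 : j ⁻¹ᵁ Y.basicOpen g₂ = Z.basicOpen f₂ := by
    rw [Scheme.preimage_basicOpen, hg₂]
  refine ⟨⟨X.basicOpen g₁, Y.basicOpen g₂, hU₀.basicOpen g₁, hV₀.basicOpen g₂,
    by rw [e1, e2, hf]⟩, ?_, ?_⟩
  · show z ∈ i ⁻¹ᵁ X.basicOpen g₁
    rw [e1]
    exact hz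
  · show z ∈ j ⁻¹ᵁ Y.basicOpen g₂
    rw [e2, ← hf]
    exact hz

/-- push-out of two closed immersions -/
theorem main0432 {X Y Z : Scheme.{u}} (i : Z ⟶ X) (j : Z ⟶ Y) [IsClosedImmersion i]
    [IsClosedImmersion j] :
    ∃ (P : Scheme.{u}) (a : X ⟶ P) (b : Y ⟶ P), IsPushout i j a b ∧ IsPullback i j a b ∧
      IsClosedImmersion a ∧ IsClosedImmersion b := by
  have HX : ∀ x : X, ∃ α : Idx i j, x ∈ α.U := by
    intro x
    by_cases hx : x ∈ Set.range i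
    · obtain ⟨z, rfl⟩ := hx
      obtain ⟨α, h1, -⟩ := exists_idx_closed i j z
      exact ⟨α, h1⟩
    · exact exists_idx_of_not_mem_range i j x hx
  have HY : ∀ y : Y, ∃ α : Idx i j, y ∈ α.V := by
    intro y
    by_cases hy : y ∈ Set.range j
    · obtain ⟨z, rfl⟩ := hy
      obtain ⟨α, -, h2⟩ := exists_idx_closed i j z
      exact ⟨α, h2⟩
    · exact exists_idx_of_not_mem_range' i j y hy
  obtain ⟨P, a, b, h1, h2, h3, -, -, h6, -⟩ := exists_pushout i j HX HY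
  exact ⟨P, a, b, h1, h2, h6 inferInstance, h3⟩

/-- push-out of a thickening along an affine morphism -/
theorem main0431 {X X' Y : Scheme.{u}} (t : X ⟶ X') [IsClosedImmersion t]
    (ht : Function.Surjective t) (f : X ⟶ Y) [IsAffineHom f] :
    ∃ (Y' : Scheme.{u}) (f' : X' ⟶ Y') (b : Y ⟶ Y'), IsPushout t f f' b ∧ IsPullback t f f' b ∧
      IsClosedImmersion b ∧ Function.Surjective b := by
  have hch : ∀ y : Y, ∃ α : Idx t f, y ∈ α.V := by
    intro y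
    obtain ⟨V, hV, hyV, -⟩ := exists_isAffineOpen_mem_and_subset (x := y) (U := ⊤) trivial
    obtain ⟨U', hU', e⟩ := Groth.Agent.Helper6.ThickAff.exists_isAffineOpen_preimage_eq t ht
      (f ⁻¹ᵁ V) (hV.preimage f)
    exact ⟨⟨U', V, hU', hV, e⟩, hyV⟩
  have HX : ∀ x' : X', ∃ α : Idx t f, x' ∈ α.U := by
    intro x'
    obtain ⟨x, rfl⟩ := ht x'
    obtain ⟨α, hα⟩ := hch (f x)
    refine ⟨α, ?_⟩
    have : x ∈ t ⁻¹ᵁ α.U := by
      rw [α.h]
      exact hα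
    exact this
  obtain ⟨P, a, b, h1, h2, h3, -, -, -, h7⟩ := exists_pushout t f HX hch
  refine ⟨P, a, b, h1, h2, h3, ?_⟩
  intro p
  rcases h7 p with ⟨x', rfl⟩ | hb
  · obtain ⟨x, rfl⟩ := ht x'
    refine ⟨f x, ?_⟩
    rw [← Scheme.Hom.comp_apply, ← Scheme.Hom.comp_apply, h1.w]
  · exact hb

/-- push-out along a closed immersion over a base with standard affine charts -/
theorem main15943 {X Y T Z : Scheme.{u}} (f : X ⟶ Y) (t : T ⟶ Y) (ξ : Z ⟶ T) (ι : Z ⟶ X)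
    [IsAffineHom t] [IsAffineHom (ξ ≫ t)] [IsClosedImmersion ι] (hsq : ι ≫ f = ξ ≫ t)
    (hstd : ∀ y : Y, ∃ U : Y.Opens, IsAffineOpen U ∧ y ∈ U ∧ ∃ V : X.Opens, IsAffineOpen V ∧
      V ≤ f ⁻¹ᵁ U ∧ ∀ z : Z, (ξ ≫ t).base z ∈ U → ι.base z ∈ V) :
    ∃ (P : Scheme.{u}) (a : X ⟶ P) (b : T ⟶ P), IsPushout ι ξ a b := by
  have hch : ∀ τ : T, ∃ α : Idx ι ξ, τ ∈ α.V := by
    intro τ
    obtain ⟨U, hU, hyU, V, hV, hVU, hz⟩ := hstd (t τ)
    have e : ι ⁻¹ᵁ V = ξ ⁻¹ᵁ (t ⁻¹ᵁ U) := by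
      ext z
      constructor
      · intro hzV
        have h1 : ι z ∈ f ⁻¹ᵁ U := hVU hzV
        have h2 : (ι ≫ f) z ∈ U := h1
        rw [hsq] at h2
        exact h2
      · intro hzU
        exact hz z hzU
    exact ⟨⟨V, t ⁻¹ᵁ U, hV, hU.preimage t, e⟩, hyU⟩
  have HX : ∀ x : X, ∃ α : Idx ι ξ, x ∈ α.U := by
    intro x
    by_cases hx : x ∈ Set.range ι
    · obtain ⟨z, rfl⟩ := hx
      obtain ⟨α, hα⟩ := hch (ξ z)
      refine ⟨α, ?_⟩
      have : z ∈ ι ⁻¹ᵁ α.U := by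
        rw [α.h]
        exact hα
      exact this
    · exact exists_idx_of_not_mem_range ι ξ x hx
  obtain ⟨P, a, b, h1, -⟩ := exists_pushout ι ξ HX hch
  exact ⟨P, a, b, h1⟩

end Groth.Agent.Helper17.AG73
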