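import Mathlib
import Groth.Agent.Lib.Helper17.AG73

/-!
# Ferrand push-outs of schemes: the integral case (helper17)

`main0430`: push-out of a closed immersion `Z ⟶ X` and an integral morphism `Z ⟶ Y` such that
every fibre of `Z ⟶ Y` lies in the preimage of an affine open of `X`.
The key algebraic input is `exists_avoid` (prime avoidance over the fibre of an integral map).
-/

set_option autoImplicit false
universe u
open CategoryTheory CategoryTheory.Limits AlgebraicGeometry Opposite TopologicalSpace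

noncomputable section
namespace Groth.Agent.Helper17.AG74
open Groth.Agent.Helper17.AG69 Groth.Agent.Helper17.AG72 Groth.Agent.Helper17.AG73

/-- prime avoidance over a fibre of an integral ring map -/
theorem exists_avoid {C B A : Type u} [CommRing C] [CommRing B] [CommRing A] (jV : C →+* B)
    (hjV : jV.IsIntegral) (ρ : A →+* B) (𝔮 : PrimeSpectrum C) (S : Finset A)
    (hS : ∀ 𝔭 : PrimeSpectrum B, PrimeSpectrum.comap jV 𝔭 = 𝔮 → ∃ s ∈ S, ρ s ∉ 𝔭.asIdeal) :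
    ∃ h ∈ Ideal.span (S : Set A),
      ∀ 𝔭 : PrimeSpectrum B, PrimeSpectrum.comap jV 𝔭 = 𝔮 → ρ h ∉ 𝔭.asIdeal := by
  classical
  letI : Algebra C B := jV.toAlgebra
  have hint : ∀ b : B, IsIntegral C b := fun b => hjV b
  let D' : Subalgebra C B := Algebra.adjoin C (ρ '' (S : Set A))
  haveI hfin : Module.Finite C D' :=
    Algebra.finite_adjoin_of_finite_of_isIntegral (S.finite_toSet.image ρ) (fun x _ => hint x)
  let E : Subring A := Subring.closure (S : Set A)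
  have hρE : ∀ e : E, ρ (e : A) ∈ D' := by
    intro e
    refine Subring.closure_induction (p := fun a _ => ρ a ∈ D') ?_ ?_ ?_ ?_ ?_ ?_ e.2
    · intro a ha
      exact Algebra.subset_adjoin ⟨a, ha, rfl⟩
    · rw [map_zero]
      exact zero_mem _
    · rw [map_one]
      exact one_mem _
    · intro a b _ _ ha hb
      rw [map_add]
      exact add_mem ha hb
    · intro a _ ha
      rw [map_neg]
      exact neg_mem ha
    · intro a b _ _ ha hb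
      rw [map_mul]
      exact mul_mem ha hb
  let ρE : E →+* D' := (ρ.comp E.subtype).codRestrict D' (fun e => hρE e)
  let T : Set (PrimeSpectrum B) := {𝔭 | PrimeSpectrum.comap jV 𝔭 = 𝔮}
  let σ : PrimeSpectrum B → Ideal E := fun 𝔭 => Ideal.comap (ρ.comp E.subtype) 𝔭.asIdeal
  have hQ' : (PrimeSpectrum.comap (algebraMap C D') ⁻¹' {𝔮}).Finite :=
    Algebra.QuasiFinite.finite_comap_preimage_singleton 𝔮
  have hfinσ : (σ '' T).Finite := by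
    refine (hQ'.image (fun 𝔮' : PrimeSpectrum D' => Ideal.comap ρE 𝔮'.asIdeal)).subset ?_
    rintro _ ⟨𝔭, h𝔭, rfl⟩
    refine ⟨PrimeSpectrum.comap (algebraMap D' B) 𝔭, ?_, ?_⟩
    · show PrimeSpectrum.comap (algebraMap C D') (PrimeSpectrum.comap (algebraMap D' B) 𝔭) = 𝔮
      have h𝔭' : PrimeSpectrum.comap jV 𝔭 = 𝔮 := h𝔭
      rw [← h𝔭']
      apply PrimeSpectrum.ext
      ext c
      rfl
    · ext e
      rfl
  let I_E : Ideal E := Ideal.comap E.subtype (Ideal.span (S : Set A))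
  by_contra hcon
  push_neg at hcon
  have hsub : (I_E : Set E) ⊆
      ⋃ σ' ∈ (↑hfinσ.toFinset : Set (Ideal E)), ((id σ' : Ideal E) : Set E) := by
    intro e he
    obtain ⟨𝔭, h𝔭, hmem⟩ := hcon (e : A) he
    refine Set.mem_biUnion (x := σ 𝔭) ?_ ?_
    · exact Finset.mem_coe.mpr ((Set.Finite.mem_toFinset hfinσ).mpr ⟨𝔭, h𝔭, rfl⟩)
    · exact hmem
  have hp : ∀ σ' ∈ hfinσ.toFinset, σ' ≠ (⊥ : Ideal E) → σ' ≠ (⊥ : Ideal E) →
      (id σ' : Ideal E).IsPrime := by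
    intro σ' hσ' _ _
    obtain ⟨𝔭, -, rfl⟩ := (Set.Finite.mem_toFinset hfinσ).mp hσ'
    exact Ideal.IsPrime.comap _
  obtain ⟨σ', hσ', hle⟩ := (Ideal.subset_union_prime (f := id) ⊥ ⊥ hp).mp hsub
  obtain ⟨𝔭, h𝔭, rfl⟩ := (Set.Finite.mem_toFinset hfinσ).mp hσ'
  obtain ⟨s, hsS, hs⟩ := hS 𝔭 h𝔭
  have hsE : (⟨s, Subring.subset_closure hsS⟩ : E) ∈ I_E := Ideal.subset_span hsS
  exact hs (hle hsE)

variable {X Y Z : Scheme.{u}} (i : Z ⟶ X) (j : Z ⟶ Y)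

theorem exists_idx_integral [IsClosedImmersion i] [IsIntegralHom j]
    (y : Y) (U₀ : X.Opens) (hU₀ : IsAffineOpen U₀) (hfib : j ⁻¹' {y} ⊆ i ⁻¹' (U₀ : Set X)) :
    ∃ α : Idx i j, y ∈ α.V := by
  have hZ₀ : IsAffineOpen (i ⁻¹ᵁ U₀) := hU₀.preimage i
  -- (a) an affine open `V₁ ∋ y` with `j⁻¹ V₁ ⊆ Z₀`
  have hC₁ : IsClosed (j '' ((i ⁻¹ᵁ U₀ : Z.Opens) : Set Z)ᶜ) :=
    j.isClosedMap _ (i ⁻¹ᵁ U₀).isOpen.isClosed_compl
  have hyC₁ : y ∉ j '' ((i ⁻¹ᵁ U₀ : Z.Opens) : Set Z)ᶜ := by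
    rintro ⟨z, hz, rfl⟩
    exact hz (hfib rfl)
  let O₁ : Y.Opens := ⟨(j '' ((i ⁻¹ᵁ U₀ : Z.Opens) : Set Z)ᶜ)ᶜ, hC₁.isOpen_compl⟩
  have hyO₁ : y ∈ O₁ := hyC₁
  obtain ⟨V₁, hV₁, hyV₁, hV₁O⟩ := exists_isAffineOpen_mem_and_subset hyO₁
  have hW_le : j ⁻¹ᵁ V₁ ≤ i ⁻¹ᵁ U₀ := by
    intro z hz
    by_contra hn
    exact hV₁O hz ⟨z, hn, rfl⟩
  have hW : IsAffineOpen (j ⁻¹ᵁ V₁) := hV₁.preimage j
  -- (b) a finite cover of `W` by basic opens of `Z₀`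
  have hex : ∀ w : (j ⁻¹ᵁ V₁ : Z.Opens), ∃ s : Γ(Z, i ⁻¹ᵁ U₀),
      Z.basicOpen s ≤ j ⁻¹ᵁ V₁ ∧ (w : Z) ∈ Z.basicOpen s :=
    fun w => hZ₀.exists_basicOpen_le w (hW_le w.2)
  choose s hs1 hs2 using hex
  obtain ⟨t, ht⟩ := hW.isCompact.elim_finite_subcover
    (fun w : (j ⁻¹ᵁ V₁ : Z.Opens) => ((Z.basicOpen (s w) : Z.Opens) : Set Z))
    (fun w => (Z.basicOpen (s w)).isOpen)
    (fun z hz => Set.mem_iUnion.mpr ⟨⟨z, hz⟩, hs2 ⟨z, hz⟩⟩)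
  classical
  let S : Finset Γ(Z, i ⁻¹ᵁ U₀) := t.image s
  let ρ : Γ(Z, i ⁻¹ᵁ U₀) →+* Γ(Z, j ⁻¹ᵁ V₁) := (Z.presheaf.map (homOfLE hW_le).op).hom
  let jV : Γ(Y, V₁) →+* Γ(Z, j ⁻¹ᵁ V₁) := (j.app V₁).hom
  have hjV : jV.IsIntegral := IsIntegralHom.isIntegral_app j V₁ hV₁
  have hρbasic : ∀ a : Γ(Z, i ⁻¹ᵁ U₀), Z.basicOpen (ρ a) = j ⁻¹ᵁ V₁ ⊓ Z.basicOpen a :=
    fun a => Scheme.basicOpen_res Z a (homOfLE hW_le).op
  obtain ⟨y', hy'⟩ := exists_fromSpec_eq hV₁ y hyV₁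
  have hS : ∀ 𝔭 : PrimeSpectrum Γ(Z, j ⁻¹ᵁ V₁), PrimeSpectrum.comap jV 𝔭 = y' →
      ∃ a ∈ S, ρ a ∉ 𝔭.asIdeal := by
    intro 𝔭 _
    let 𝔭' : Spec Γ(Z, j ⁻¹ᵁ V₁) := 𝔭
    have hw : hW.fromSpec 𝔭' ∈ (j ⁻¹ᵁ V₁ : Z.Opens) := fromSpec_mem hW 𝔭'
    obtain ⟨w', hw't, hw'⟩ := Set.mem_iUnion₂.mp (ht hw)
    refine ⟨s w', Finset.mem_image_of_mem s hw't, ?_⟩
    have : hW.fromSpec 𝔭' ∈ Z.basicOpen (ρ (s w')) := by
      rw [hρbasic]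
      exact ⟨hw, hw'⟩
    exact (mem_basicOpen_fromSpec hW _ 𝔭').mp this
  obtain ⟨h, hhS, hh⟩ := exists_avoid jV hjV ρ y' S hS
  -- (d) `D(h) ⊆ W`
  have hDW : Z.basicOpen h ≤ j ⁻¹ᵁ V₁ := by
    intro z hz
    obtain ⟨𝔭₀, h𝔭₀⟩ := exists_fromSpec_eq hZ₀ z (Z.basicOpen_le _ hz)
    rw [← h𝔭₀] at hz
    have hn : h ∉ (𝔭₀ : PrimeSpectrum Γ(Z, i ⁻¹ᵁ U₀)).asIdeal :=
      (mem_basicOpen_fromSpec hZ₀ h 𝔭₀).mp hz
    have hnot : ¬ ((S : Set Γ(Z, i ⁻¹ᵁ U₀)) ⊆ (𝔭₀ : PrimeSpectrum Γ(Z, i ⁻¹ᵁ U₀)).asIdeal) := by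
      intro hsub
      exact hn (Ideal.span_le.mpr hsub hhS)
    obtain ⟨a, haS, ha⟩ := Set.not_subset.mp hnot
    obtain ⟨w', -, rfl⟩ := Finset.mem_image.mp (Finset.mem_coe.mp haS)
    rw [← h𝔭₀]
    exact hs1 w' ((mem_basicOpen_fromSpec hZ₀ _ 𝔭₀).mpr ha)
  -- (e) the fibre lies in `D(h)`
  have hfibh : ∀ z : Z, j z = y → z ∈ Z.basicOpen h := by
    intro z hz
    have hzW : z ∈ (j ⁻¹ᵁ V₁ : Z.Opens) := by
      show j z ∈ V₁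
      rw [hz]
      exact hyV₁
    obtain ⟨𝔭, h𝔭⟩ := exists_fromSpec_eq hW z hzW
    have e1 : hV₁.fromSpec (AG58.Sp jV 𝔭) = j (hW.fromSpec 𝔭) := by
      have := IsAffineOpen.SpecMap_appLE_fromSpec j hV₁ hW le_rfl
      rw [← Scheme.Hom.app_eq_appLE] at this
      rw [← Scheme.Hom.comp_apply, ← Scheme.Hom.comp_apply]
      exact congrArg (fun g => g 𝔭) this
    have e2 : AG58.Sp jV 𝔭 = y' := by
      apply hV₁.fromSpec.isOpenEmbedding.injective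
      rw [e1, h𝔭, hz, hy']
    have h3 : ρ h ∉ (𝔭 : PrimeSpectrum Γ(Z, j ⁻¹ᵁ V₁)).asIdeal := hh 𝔭 e2
    have h4 : hW.fromSpec 𝔭 ∈ Z.basicOpen (ρ h) := (mem_basicOpen_fromSpec hW _ 𝔭).mpr h3
    rw [hρbasic, h𝔭] at h4
    exact h4.2
  -- (f) a basic open `D(c) ∋ y` of `V₁` with `j⁻¹ D(c) ⊆ D(h)`
  have hC₂ : IsClosed (j '' ((Z.basicOpen h : Z.Opens) : Set Z)ᶜ) :=
    j.isClosedMap _ (Z.basicOpen h).isOpen.isClosed_compl
  have hyC₂ : y ∉ j '' ((Z.basicOpen h : Z.Opens) : Set Z)ᶜ := by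
    rintro ⟨z, hz, hzy⟩
    exact hz (hfibh z hzy)
  let O₂ : Y.Opens := ⟨(j '' ((Z.basicOpen h : Z.Opens) : Set Z)ᶜ)ᶜ, hC₂.isOpen_compl⟩
  have hyO₂ : y ∈ O₂ := hyC₂
  obtain ⟨c, hcO, hyc⟩ := hV₁.exists_basicOpen_le (V := O₂) ⟨y, hyO₂⟩ hyV₁
  have hpre : j ⁻¹ᵁ Y.basicOpen c ≤ Z.basicOpen h := by
    intro z hz
    by_contra hn
    exact hcO hz ⟨z, hn, rfl⟩
  have hpre_eq : j ⁻¹ᵁ Y.basicOpen c = Z.basicOpen (jV c) := Scheme.preimage_basicOpen j c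
  -- (g) `j⁻¹ D(c)` is a basic open of `Z₀`
  obtain ⟨g, hg⟩ := hZ₀.basicOpen_basicOpen_is_basicOpen h
    ((Z.presheaf.map (homOfLE hDW).op).hom (jV c))
  have hg' : Z.basicOpen g = Z.basicOpen (jV c) := by
    rw [hg]
    have : Z.basicOpen ((Z.presheaf.map (homOfLE hDW).op).hom (jV c)) =
        Z.basicOpen h ⊓ Z.basicOpen (jV c) := Scheme.basicOpen_res Z (jV c) (homOfLE hDW).op
    rw [this]
    exact inf_eq_right.mpr (by rw [← hpre_eq]; exact hpre)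
  -- (h) lift to `X`
  obtain ⟨g', hg''⟩ := i.app_surjective U₀ hU₀ g
  have e : i ⁻¹ᵁ X.basicOpen g' = j ⁻¹ᵁ Y.basicOpen c := by
    rw [Scheme.preimage_basicOpen, hg'', hg', hpre_eq]
  exact ⟨⟨X.basicOpen g', Y.basicOpen c, hU₀.basicOpen g', hV₁.basicOpen c, e⟩, hyc⟩

/-- push-out of a closed immersion and an integral morphism with affine-local fibres -/
theorem main0430 {X Y Z : Scheme.{u}} (i : Z ⟶ X) (j : Z ⟶ Y) [IsClosedImmersion i]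
    [IsIntegralHom j]
    (haff : ∀ y : ↑Y, ∃ U : X.Opens, IsAffineOpen U ∧ j ⁻¹' {y} ⊆ i ⁻¹' (U : Set ↑X)) :
    ∃ (P : Scheme.{u}) (a : X ⟶ P) (b : Y ⟶ P), IsPushout i j a b ∧ IsPullback i j a b ∧
      IsIntegralHom a ∧ IsClosedImmersion b := by
  have HY : ∀ y : Y, ∃ α : Idx i j, y ∈ α.V := by
    intro y
    obtain ⟨U₀, hU₀, hfib⟩ := haff y
    exact exists_idx_integral i j y U₀ hU₀ hfib
  have HX : ∀ x : X, ∃ α : Idx i j, x ∈ α.U := by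
    intro x
    by_cases hx : x ∈ Set.range i
    · obtain ⟨z, rfl⟩ := hx
      obtain ⟨α, hα⟩ := HY (j z)
      refine ⟨α, ?_⟩
      have : z ∈ i ⁻¹ᵁ α.U := by
        rw [α.h]
        exact hα
      exact this
    · exact exists_idx_of_not_mem_range i j x hx
  obtain ⟨P, a, b, h1, h2, h3, -, h5, -, -⟩ := exists_pushout i j HX HY
  exact ⟨P, a, b, h1, h2, h5 inferInstance, h3⟩

end Groth.Agent.Helper17.AG74
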