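import Mathlib
import Groth.Agent.Lib.Helper17.AG74

/-!
# Ferrand push-outs of schemes: properties of an arbitrary push-out (helper17)

Any push-out of `i` and `j` is isomorphic to the glued model of `AG71`, so it inherits its
properties (`props_of_isPushout`).  Also: finiteness of `X ⟶ P` when `j` is finite, and `main15945`.
-/

set_option autoImplicit false
universe u
open CategoryTheory CategoryTheory.Limits AlgebraicGeometry Opposite TopologicalSpace

noncomputable section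
namespace Groth.Agent.Helper17.AG75
open Groth.Agent.Helper17.AG57 Groth.Agent.Helper17.AG58 Groth.Agent.Helper17.AG68
open Groth.Agent.Helper17.AG69 Groth.Agent.Helper17.AG69.Idx Groth.Agent.Helper17.AG70
open Groth.Agent.Helper17.AG71 Groth.Agent.Helper17.AG72 Groth.Agent.Helper17.AG73
open Groth.Agent.Helper19.FibProd

/-- finiteness of the projection of a fibre product ring -/
theorem sndP_finite {A A' B : Type u} [CommRing A] [CommRing A'] [CommRing B] (p : A' →+* A)
    (q : B →+* A) (hp : Function.Surjective p) (hq : q.Finite) : (sndP p q).Finite := by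
  classical
  letI iBA : Algebra B A := q.toAlgebra
  letI iRA' : Algebra (FP p q) A' := (sndP p q).toAlgebra
  have hfin : Module.Finite B A := hq
  obtain ⟨G, hG⟩ := Module.finite_def.mp hfin
  choose lift hlift using hp
  let G' : Finset A' := insert 1 (G.image lift)
  have hsm : ∀ (r : FP p q) (x : A'), r • x = sndP p q r * x := fun r x => rfl
  have hsmB : ∀ (b : B) (x : A), b • x = q b * x := fun b x => rfl
  have h1 : (1 : A') ∈ Submodule.span (FP p q) (G' : Set A') :=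
    Submodule.subset_span (Finset.mem_coe.mpr (Finset.mem_insert_self _ _))
  have hker : ∀ e : A', p e = 0 → e ∈ Submodule.span (FP p q) (G' : Set A') := by
    intro e he
    have : e = (mkP p q 0 e (by rw [map_zero, he])) • (1 : A') := by
      rw [hsm, sndP_mkP, mul_one]
    rw [this]
    exact Submodule.smul_mem _ _ h1
  have hsame : ∀ x' x'' : A', p x' = p x'' → x'' ∈ Submodule.span (FP p q) (G' : Set A') →
      x' ∈ Submodule.span (FP p q) (G' : Set A') := by
    intro x' x'' hpx hx''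
    have : x' = x'' + (x' - x'') := by ring
    rw [this]
    exact Submodule.add_mem _ hx'' (hker _ (by rw [map_sub, hpx, sub_self]))
  have key : ∀ a ∈ Submodule.span B (G : Set A), ∀ x' : A', p x' = a →
      x' ∈ Submodule.span (FP p q) (G' : Set A') := by
    intro a ha
    refine Submodule.span_induction
      (p := fun a _ => ∀ x' : A', p x' = a → x' ∈ Submodule.span (FP p q) (G' : Set A'))
      ?_ ?_ ?_ ?_ ha
    · intro a₀ ha₀ x' hx'
      refine hsame x' (lift a₀) (by rw [hx', hlift]) (Submodule.subset_span ?_)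
      exact Finset.mem_coe.mpr (Finset.mem_insert_of_mem (Finset.mem_image_of_mem lift ha₀))
    · intro x' hx'
      exact hker x' hx'
    · intro a₁ a₂ _ _ h₁ h₂ x' hx'
      refine hsame x' (lift a₁ + lift a₂) (by rw [hx', map_add, hlift, hlift]) ?_
      exact Submodule.add_mem _ (h₁ _ (hlift a₁)) (h₂ _ (hlift a₂))
    · intro b a₀ _ h₀ x' hx'
      have hr : q b = p (lift (q b)) := (hlift (q b)).symm
      refine hsame x' ((mkP p q b (lift (q b)) hr) • lift a₀) ?_ ?_
      · rw [hx', hsmB, hsm, sndP_mkP, map_mul, hlift, hlift]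
      · exact Submodule.smul_mem _ _ (h₀ _ (hlift a₀))
  show Module.Finite (FP p q) A'
  refine ⟨⟨G', ?_⟩⟩
  rw [eq_top_iff]
  rintro x' -
  exact key (p x') (by rw [hG]; trivial) x' rfl

theorem appLE_finite {Z Y : Scheme.{u}} (j : Z ⟶ Y) [IsFinite j] (V : Y.Opens)
    (hV : IsAffineOpen V) (W : Z.Opens) (e : W = j ⁻¹ᵁ V) :
    (j.appLE V W (le_of_eq e)).hom.Finite := by
  subst e
  rw [← Scheme.Hom.app_eq_appLE]
  exact IsFinite.finite_app j V hV

variable {X Y Z : Scheme.{u}} (i : Z ⟶ X) (j : Z ⟶ Y) [IsClosedImmersion i]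
  (HX : ∀ x : X, ∃ α : Idx i j, x ∈ α.U) (HY : ∀ y : Y, ∃ α : Idx i j, y ∈ α.V)

theorem isFinite_a [IsFinite j] : IsFinite (AG71.a i j HX) := by
  refine IsZariskiLocalAtTarget.of_openCover (P := @IsFinite)
    (Scheme.IsLocallyDirected.openCover (F i j)) ?_
  intro α
  show IsFinite (pullback.snd (AG71.a i j HX) (k i j α))
  rw [snd_eq_of_isPullback (sqX i j HX α)]
  haveI : IsFinite (Sp (sndP (Idx.pp α) (Idx.qq α))) := by
    rw [Sp, IsFinite.SpecMap_iff]
    exact sndP_finite _ _ (Idx.pp_surjective α)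
      (appLE_finite j (Idx.V α) (Idx.hV α) _ (Idx.h α))
  infer_instance

/-- every push-out of `i` and `j` is the glued model -/
theorem exists_iso_model {P : Scheme.{u}} (a : X ⟶ P) (b : Y ⟶ P) (hP : IsPushout i j a b) :
    ∃ e : AG71.P i j ≅ P, AG71.a i j HX ≫ e.hom = a ∧ AG71.b i j HY ≫ e.hom = b :=
  ⟨(AG71.isPushout i j HX HY).isoIsPushout _ _ hP,
    IsPushout.inl_isoIsPushout_hom _ _ _ _, IsPushout.inr_isoIsPushout_hom _ _ _ _⟩

include HX HY in
/-- properties of an arbitrary push-out square with affine Ferrand charts -/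
theorem props_of_isPushout {P : Scheme.{u}} (a : X ⟶ P) (b : Y ⟶ P) (hP : IsPushout i j a b) :
    IsPullback i j a b ∧ IsClosedImmersion b ∧ IsAffineHom a ∧
      (IsIntegralHom j → IsIntegralHom a) ∧ (IsClosedImmersion j → IsClosedImmersion a) ∧
      (IsFinite j → IsFinite a) ∧ (∀ p : P, p ∈ Set.range a ∪ Set.range b) := by
  obtain ⟨e, ha, hb⟩ := exists_iso_model i j HX HY a b hP
  subst ha hb
  haveI := isClosedImmersion_b i j HY
  haveI := isAffineHom_a i j HX
  refine ⟨?_, inferInstance, inferInstance, ?_, ?_, ?_, ?_⟩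
  · exact IsPullback.of_iso (AG72.isPullback i j HX HY) (Iso.refl _) (Iso.refl _) (Iso.refl _) e
      (by simp) (by simp) (by simp) (by simp)
  · intro _
    haveI := isIntegralHom_a i j HX
    infer_instance
  · intro _
    haveI := isClosedImmersion_a i j HX
    infer_instance
  · intro _
    haveI := isFinite_a i j HX
    infer_instance
  · intro p
    rcases mem_range i j HX HY (e.inv p) with ⟨x, hx⟩ | ⟨y, hy⟩
    · left
      refine ⟨x, ?_⟩
      rw [Scheme.Hom.comp_apply, hx, ← Scheme.Hom.comp_apply, e.inv_hom_id]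
      rfl
    · right
      refine ⟨y, ?_⟩
      rw [Scheme.Hom.comp_apply, hy, ← Scheme.Hom.comp_apply, e.inv_hom_id]
      rfl

/-- the charts of the situation of `S15943` -/
theorem charts15943 {X Y T Z : Scheme.{u}} (f : X ⟶ Y) (t : T ⟶ Y) (ξ : Z ⟶ T) (ι : Z ⟶ X)
    [IsAffineHom t] [IsClosedImmersion ι] (hsq : ι ≫ f = ξ ≫ t)
    (hstd : ∀ y : Y, ∃ U : Y.Opens, IsAffineOpen U ∧ y ∈ U ∧ ∃ V : X.Opens, IsAffineOpen V ∧
      V ≤ f ⁻¹ᵁ U ∧ ∀ z : Z, (ξ ≫ t).base z ∈ U → ι.base z ∈ V) :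
    (∀ x : X, ∃ α : Idx ι ξ, x ∈ α.U) ∧ (∀ τ : T, ∃ α : Idx ι ξ, τ ∈ α.V) := by
  have hch : ∀ τ : T, ∃ α : Idx ι ξ, τ ∈ α.V := by
    intro τ
    obtain ⟨U, hU, hyU, V, hV, hVU, hz⟩ := hstd (t τ)
    have e : ι ⁻¹ᵁ V = ξ ⁻¹ᵁ (t ⁻¹ᵁ U) := by
      ext z
      constructor
      · intro hzV
        have h1 : ι z ∈ f ⁻¹ᵁ U := hVU hzV
        have h2 : (ι ≫ f) z ∈ U := h1
        rw [hsq] at h2
        exact h2
      · intro hzU
        exact hz z hzU
    exact ⟨⟨V, t ⁻¹ᵁ U, hV, hU.preimage t, e⟩, hyU⟩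
  refine ⟨?_, hch⟩
  intro x
  by_cases hx : x ∈ Set.range ι
  · obtain ⟨z, rfl⟩ := hx
    obtain ⟨α, hα⟩ := hch (ξ z)
    refine ⟨α, ?_⟩
    have : z ∈ ι ⁻¹ᵁ α.U := by
      rw [α.h]
      exact hα
    exact this
  · exact exists_idx_of_not_mem_range ι ξ x hx

theorem main15945 {X Y T Z : Scheme.{u}} (f : X ⟶ Y) (t : T ⟶ Y) (ξ : Z ⟶ T) (ι : Z ⟶ X)
    [IsAffineHom t] [IsClosedImmersion ι] (hsq : ι ≫ f = ξ ≫ t)
    (hstd : ∀ y : Y, ∃ U : Y.Opens, IsAffineOpen U ∧ y ∈ U ∧ ∃ V : X.Opens, IsAffineOpen V ∧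
      V ≤ f ⁻¹ᵁ U ∧ ∀ z : Z, (ξ ≫ t).base z ∈ U → ι.base z ∈ V)
    [IsFinite ξ] {P : Scheme.{u}} (a : X ⟶ P) (b : T ⟶ P) (hP : IsPushout ι ξ a b) :
    IsFinite a ∧ IsPullback ι ξ a b ∧ IsClosedImmersion b := by
  obtain ⟨HX, HY⟩ := charts15943 f t ξ ι hsq hstd
  obtain ⟨h1, h2, -, -, -, h6, -⟩ := props_of_isPushout ι ξ HX HY a b hP
  exact ⟨h6 inferInstance, h1, h2⟩

end Groth.Agent.Helper17.AG75
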