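import Mathlib
import Groth.Agent.Lib.Helper17.AG75

/-!
# Ferrand push-outs of schemes: finite type over a locally Noetherian base (helper17)

Artin–Tate for the fibre product ring `B ×_A A'`, and the resulting statement that a push-out
of a closed immersion and a finite morphism is locally of finite type over a locally Noetherian
base as soon as the two pieces are.
-/

set_option autoImplicit false
universe u
open CategoryTheory CategoryTheory.Limits AlgebraicGeometry Opposite TopologicalSpace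

noncomputable section
namespace Groth.Agent.Helper17.AG76
open Groth.Agent.Helper17.AG57 Groth.Agent.Helper17.AG58 Groth.Agent.Helper17.AG68
open Groth.Agent.Helper17.AG69 Groth.Agent.Helper17.AG69.Idx Groth.Agent.Helper17.AG70
open Groth.Agent.Helper17.AG71 Groth.Agent.Helper17.AG72 Groth.Agent.Helper17.AG73
open Groth.Agent.Helper17.AG75
open Groth.Agent.Helper19.FibProd

/-- Artin–Tate for a fibre product ring -/
theorem finiteType_FP {O A A' B : Type u} [CommRing O] [CommRing A] [CommRing A'] [CommRing B]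
    [IsNoetherianRing O] (p : A' →+* A) (q : B →+* A) (hp : Function.Surjective p)
    (hq : q.Finite) (φ : O →+* FP p q) (h1 : ((fstP p q).comp φ).FiniteType)
    (h2 : ((sndP p q).comp φ).FiniteType) : φ.FiniteType := by
  classical
  letI iOR : Algebra O (FP p q) := φ.toAlgebra
  letI iRB : Algebra (FP p q) B := (fstP p q).toAlgebra
  letI iRA' : Algebra (FP p q) A' := (sndP p q).toAlgebra
  letI iOB : Algebra O B := ((fstP p q).comp φ).toAlgebra
  letI iOA' : Algebra O A' := ((sndP p q).comp φ).toAlgebra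
  haveI : IsScalarTower O (FP p q) (B × A') := IsScalarTower.of_algebraMap_eq (fun x => rfl)
  haveI hftB : Algebra.FiniteType O B := h1
  haveI hftA' : Algebra.FiniteType O A' := h2
  have hAC : (⊤ : Subalgebra O (B × A')).FG :=
    (inferInstance : Algebra.FiniteType O (B × A')).out
  haveI hfinB : Module.Finite (FP p q) B :=
    Module.Finite.of_surjective (Algebra.linearMap (FP p q) B)
      (Groth.Agent.Helper19.FibProd.fstP_surjective p q hp)
  haveI hfinA' : Module.Finite (FP p q) A' := sndP_finite p q hp hq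
  have hBC : (⊤ : Submodule (FP p q) (B × A')).FG :=
    (inferInstance : Module.Finite (FP p q) (B × A')).fg_top
  have hinj : Function.Injective (algebraMap (FP p q) (B × A')) := by
    intro x y hxy
    apply Groth.Agent.Helper19.FibProd.ext
    · exact congrArg Prod.fst hxy
    · exact congrArg Prod.snd hxy
  exact ⟨fg_of_fg_of_fg O (FP p q) (B × A') hAC hBC hinj⟩

/-- a morphism from an affine scheme landing in an affine open factors through `Spec` -/
theorem exists_factor {S : Scheme.{u}} {R : CommRingCat.{u}} (f : Spec R ⟶ S) (O : S.Opens)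
    (hO : IsAffineOpen O) (h : Set.range f ⊆ (O : Set S)) :
    ∃ φ : Γ(S, O) ⟶ R, Spec.map φ ≫ hO.fromSpec = f := by
  have h' : Set.range f ⊆ Set.range hO.fromSpec := by
    rw [hO.range_fromSpec]
    exact h
  refine ⟨Spec.preimage (IsOpenImmersion.lift hO.fromSpec f h'), ?_⟩
  rw [Spec.map_preimage, IsOpenImmersion.lift_fac]

variable {X Y Z : Scheme.{u}} (i : Z ⟶ X) (j : Z ⟶ Y) [IsClosedImmersion i]

/-- small charts landing in a given open of the base -/
theorem exists_small_chart {S : Scheme.{u}} (r₀ : AG71.P i j ⟶ S) (x : AG71.P i j)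
    (O : S.Opens) (hxO : r₀ x ∈ O) :
    ∃ β : Idx i j, x ∈ Set.range (k i j β) ∧ Set.range (k i j β ≫ r₀) ⊆ (O : Set S) := by
  obtain ⟨α, z, hz⟩ := k_jointly_surjective i j x
  let W : (Spec (CommRingCat.of α.R)).Opens := (k i j α ≫ r₀) ⁻¹ᵁ O
  have hzW : z ∈ W := by
    show (k i j α ≫ r₀) z ∈ O
    rw [Scheme.Hom.comp_apply, hz]
    exact hxO
  obtain ⟨v, ⟨σ, rfl⟩, hzσ, hσW⟩ :=
    (PrimeSpectrum.isTopologicalBasis_basic_opens (R := α.R)).exists_subset_of_mem_open
      (a := (z : PrimeSpectrum α.R)) (u := (W : Set (Spec (CommRingCat.of α.R)))) hzW W.isOpen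
  have hle := basic_le α σ
  have hkw : Fm (basic α σ) α hle.hU hle.hV ≫ k i j α = k i j (basic α σ) := k_w i j hle
  refine ⟨basic α σ, ?_, ?_⟩
  · have hzr : z ∈ Set.range (Fm (basic α σ) α hle.hU hle.hV) := (range_basic α σ z).mpr hzσ
    obtain ⟨z', hz'⟩ := hzr
    refine ⟨z', ?_⟩
    rw [← hkw, Scheme.Hom.comp_apply, hz', hz]
  · rintro _ ⟨w, rfl⟩
    have hw : Fm (basic α σ) α hle.hU hle.hV w ∈ Set.range (Fm (basic α σ) α hle.hU hle.hV) :=
      ⟨w, rfl⟩
    have hw' : σ ∉ ((Fm (basic α σ) α hle.hU hle.hV w : Spec (CommRingCat.of α.R)) :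
        PrimeSpectrum α.R).asIdeal := (range_basic α σ _).mp hw
    have hwW : Fm (basic α σ) α hle.hU hle.hV w ∈ W := hσW hw'
    have : (k i j α ≫ r₀) (Fm (basic α σ) α hle.hU hle.hV w) ∈ O := hwW
    rw [← hkw]
    exact this

variable (HX : ∀ x : X, ∃ α : Idx i j, x ∈ α.U) (HY : ∀ y : Y, ∃ α : Idx i j, y ∈ α.V)

/-- a chart landing in an affine open of a locally Noetherian base is of finite type -/
theorem locallyOfFiniteType_chart [IsFinite j] {S : Scheme.{u}} [IsLocallyNoetherian S]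
    (p : X ⟶ S) (q : Y ⟶ S) (r₀ : AG71.P i j ⟶ S) (hp : AG71.a i j HX ≫ r₀ = p)
    (hq : AG71.b i j HY ≫ r₀ = q) [LocallyOfFiniteType p] [LocallyOfFiniteType q]
    (β : Idx i j) (O : S.Opens) (hO : IsAffineOpen O)
    (h : Set.range (k i j β ≫ r₀) ⊆ (O : Set S)) : LocallyOfFiniteType (k i j β ≫ r₀) := by
  obtain ⟨φ, hφ⟩ := exists_factor (k i j β ≫ r₀) O hO h
  haveI : IsNoetherianRing Γ(S, O) := IsLocallyNoetherian.component_noetherian ⟨O, hO⟩
  have hY : (Sp (fstP β.pp β.qq) ≫ Spec.map φ) ≫ hO.fromSpec = β.hV.fromSpec ≫ q := by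
    rw [Category.assoc, hφ, ← Category.assoc, ← b_w i j HY, Category.assoc, hq]
  have hX : (Sp (sndP β.pp β.qq) ≫ Spec.map φ) ≫ hO.fromSpec = β.hU.fromSpec ≫ p := by
    rw [Category.assoc, hφ, ← Category.assoc, ← a_w i j HX, Category.assoc, hp]
  have h1 : ((fstP β.pp β.qq).comp φ.hom).FiniteType := by
    have e : Spec.map (CommRingCat.ofHom ((fstP β.pp β.qq).comp φ.hom)) =
        Sp (fstP β.pp β.qq) ≫ Spec.map φ := by
      rw [CommRingCat.ofHom_comp, Spec.map_comp]
      rfl
    haveI : LocallyOfFiniteType ((Sp (fstP β.pp β.qq) ≫ Spec.map φ) ≫ hO.fromSpec) := by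
      rw [hY]
      infer_instance
    have h3 : LocallyOfFiniteType (Sp (fstP β.pp β.qq) ≫ Spec.map φ) :=
      locallyOfFiniteType_of_comp _ hO.fromSpec
    rw [← e] at h3
    exact (HasRingHomProperty.Spec_iff (P := @LocallyOfFiniteType)).mp h3
  have h2 : ((sndP β.pp β.qq).comp φ.hom).FiniteType := by
    have e : Spec.map (CommRingCat.ofHom ((sndP β.pp β.qq).comp φ.hom)) =
        Sp (sndP β.pp β.qq) ≫ Spec.map φ := by
      rw [CommRingCat.ofHom_comp, Spec.map_comp]
      rfl
    haveI : LocallyOfFiniteType ((Sp (sndP β.pp β.qq) ≫ Spec.map φ) ≫ hO.fromSpec) := by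
      rw [hX]
      infer_instance
    have h3 : LocallyOfFiniteType (Sp (sndP β.pp β.qq) ≫ Spec.map φ) :=
      locallyOfFiniteType_of_comp _ hO.fromSpec
    rw [← e] at h3
    exact (HasRingHomProperty.Spec_iff (P := @LocallyOfFiniteType)).mp h3
  have hφft : φ.hom.FiniteType :=
    finiteType_FP β.pp β.qq β.pp_surjective (appLE_finite j β.V β.hV _ β.h) φ.hom h1 h2
  haveI : LocallyOfFiniteType (Spec.map φ) :=
    (HasRingHomProperty.Spec_iff (P := @LocallyOfFiniteType)).mpr hφft
  rw [← hφ]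
  infer_instance

/-- the glued model is locally of finite type over a locally Noetherian base -/
theorem locallyOfFiniteType_model [IsFinite j] {S : Scheme.{u}} [IsLocallyNoetherian S]
    (p : X ⟶ S) (q : Y ⟶ S) (r₀ : AG71.P i j ⟶ S) (hp : AG71.a i j HX ≫ r₀ = p)
    (hq : AG71.b i j HY ≫ r₀ = q) [LocallyOfFiniteType p] [LocallyOfFiniteType q] :
    LocallyOfFiniteType r₀ := by
  have H : ∀ x : AG71.P i j, ∃ β : Idx i j, x ∈ Set.range (k i j β) ∧
      ∃ O : S.Opens, IsAffineOpen O ∧ Set.range (k i j β ≫ r₀) ⊆ (O : Set S) := by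
    intro x
    obtain ⟨O, hO, hxO, -⟩ :=
      exists_isAffineOpen_mem_and_subset (x := r₀ x) (U := ⊤) trivial
    obtain ⟨β, h1, h2⟩ := exists_small_chart i j r₀ x O hxO
    exact ⟨β, h1, O, hO, h2⟩
  choose β hβ O hO hβO using H
  let 𝒰 : (AG71.P i j).OpenCover :=
    { I₀ := AG71.P i j
      X := fun x => Spec (CommRingCat.of (β x).R)
      f := fun x => k i j (β x)
      mem₀ := by
        rw [Scheme.presieve₀_mem_precoverage_iff]
        exact ⟨fun x => ⟨x, hβ x⟩, fun x => inferInstance⟩ }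
  refine IsZariskiLocalAtSource.of_openCover (P := @LocallyOfFiniteType) 𝒰 (fun x => ?_)
  show LocallyOfFiniteType (k i j (β x) ≫ r₀)
  exact locallyOfFiniteType_chart i j HX HY p q r₀ hp hq (β x) (O x) (hO x) (hβO x)

include HX HY in
/-- any push-out is locally of finite type over a locally Noetherian base -/
theorem locallyOfFiniteType_of_isPushout [IsFinite j] {P S : Scheme.{u}} [IsLocallyNoetherian S]
    (a : X ⟶ P) (b : Y ⟶ P) (hP : IsPushout i j a b) (p : X ⟶ S) (q : Y ⟶ S) (r : P ⟶ S)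
    (hp : a ≫ r = p) (hq : b ≫ r = q) [LocallyOfFiniteType p] [LocallyOfFiniteType q] :
    LocallyOfFiniteType r := by
  obtain ⟨e, ha, hb⟩ := exists_iso_model i j HX HY a b hP
  haveI := locallyOfFiniteType_model i j HX HY p q (e.hom ≫ r)
    (by rw [← Category.assoc, ha, hp]) (by rw [← Category.assoc, hb, hq])
  have hr : r = e.inv ≫ (e.hom ≫ r) := by simp
  rw [hr]
  infer_instance

/-- `S7182` -/
theorem main7182 {X Y Z P S : Scheme.{u}} (i : Z ⟶ X) (j : Z ⟶ Y) [IsClosedImmersion i]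
    [IsIntegralHom j]
    (haff : ∀ y : Y, ∃ U : X.Opens, IsAffineOpen U ∧ j ⁻¹' {y} ⊆ (i ⁻¹ᵁ U : Set ↑Z))
    (a : X ⟶ P) (b : Y ⟶ P) (hP : IsPushout i j a b) (p : X ⟶ S) (q : Y ⟶ S) (r : P ⟶ S)
    (hp : a ≫ r = p) (hq : b ≫ r = q) [IsLocallyNoetherian S]
    [LocallyOfFiniteType p] [LocallyOfFiniteType q] [LocallyOfFiniteType (j ≫ q)] :
    LocallyOfFiniteType r := by
  have HY : ∀ y : Y, ∃ α : Idx i j, y ∈ α.V := by
    intro y
    obtain ⟨U₀, hU₀, hfib⟩ := haff y
    exact AG74.exists_idx_integral i j y U₀ hU₀ hfib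
  have HX : ∀ x : X, ∃ α : Idx i j, x ∈ α.U := by
    intro x
    by_cases hx : x ∈ Set.range i
    · obtain ⟨z, rfl⟩ := hx
      obtain ⟨α, hα⟩ := HY (j z)
      refine ⟨α, ?_⟩
      have : z ∈ i ⁻¹ᵁ α.U := by
        rw [α.h]
        exact hα
      exact this
    · exact exists_idx_of_not_mem_range i j x hx
  haveI : LocallyOfFiniteType j := locallyOfFiniteType_of_comp j q
  haveI : IsFinite j := (IsFinite.iff_isIntegralHom_and_locallyOfFiniteType j).mpr ⟨‹_›, ‹_›⟩
  exact locallyOfFiniteType_of_isPushout i j HX HY a b hP p q r hp hq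

end Groth.Agent.Helper17.AG76
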