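import Mathlib
import Groth.Agent.Lib.Helper17.AG76

/-!
# Ferrand push-outs of schemes: separatedness, quasi-compactness, properness (helper17)

Topological-type properties of a morphism `r : P ⟶ S` checked on a jointly surjective pair
`a : X ⟶ P`, `b : Y ⟶ P` of universally closed morphisms; applications to push-outs.
-/

set_option autoImplicit false
universe u
open CategoryTheory CategoryTheory.Limits AlgebraicGeometry Opposite TopologicalSpace

noncomputable section
namespace Groth.Agent.Helper17.AG77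
open Groth.Agent.Helper17.AG57 Groth.Agent.Helper17.AG58 Groth.Agent.Helper17.AG68
open Groth.Agent.Helper17.AG69 Groth.Agent.Helper17.AG69.Idx Groth.Agent.Helper17.AG70
open Groth.Agent.Helper17.AG71 Groth.Agent.Helper17.AG72 Groth.Agent.Helper17.AG73
open Groth.Agent.Helper17.AG75 Groth.Agent.Helper17.AG76
open Groth.Agent.Helper19.FibProd

section cover

variable {X Y P S : Scheme.{u}} (a : X ⟶ P) (b : Y ⟶ P) (r : P ⟶ S)
  (hsurj : ∀ x : P, x ∈ Set.range a ∪ Set.range b)

include hsurj in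
theorem quasiCompact_of_cover [QuasiCompact (a ≫ r)] [QuasiCompact (b ≫ r)] :
    QuasiCompact r := by
  constructor
  intro U hU hUc
  have e : r ⁻¹' U = a '' ((a ≫ r) ⁻¹' U) ∪ b '' ((b ≫ r) ⁻¹' U) := by
    ext x
    constructor
    · intro hx
      rcases hsurj x with ⟨x', rfl⟩ | ⟨y', rfl⟩
      · exact Or.inl ⟨x', hx, rfl⟩
      · exact Or.inr ⟨y', hx, rfl⟩
    · rintro (⟨x', hx', rfl⟩ | ⟨y', hy', rfl⟩)
      · exact hx'
      · exact hy'
  rw [e]
  exact ((QuasiCompact.isCompact_preimage (f := a ≫ r) U hU hUc).image a.continuous).union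
    ((QuasiCompact.isCompact_preimage (f := b ≫ r) U hU hUc).image b.continuous)

include hsurj in
theorem universallyClosed_of_cover [UniversallyClosed (a ≫ r)] [UniversallyClosed (b ≫ r)] :
    UniversallyClosed r := by
  rw [universallyClosed_eq]
  intro P' S' i₁ i₂ f' hpb
  show IsClosedMap f'
  have hA : IsPullback (pullback.snd a i₁ ≫ f') (pullback.fst a i₁) i₂ (a ≫ r) :=
    (IsPullback.of_hasPullback a i₁).flip.paste_horiz hpb
  have hB : IsPullback (pullback.snd b i₁ ≫ f') (pullback.fst b i₁) i₂ (b ≫ r) :=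
    (IsPullback.of_hasPullback b i₁).flip.paste_horiz hpb
  haveI : UniversallyClosed (pullback.snd a i₁ ≫ f') :=
    MorphismProperty.of_isPullback (P := @UniversallyClosed) hA.flip inferInstance
  haveI : UniversallyClosed (pullback.snd b i₁ ≫ f') :=
    MorphismProperty.of_isPullback (P := @UniversallyClosed) hB.flip inferInstance
  intro C hC
  have e : f' '' C = (pullback.snd a i₁ ≫ f') '' ((pullback.snd a i₁) ⁻¹' C) ∪
      (pullback.snd b i₁ ≫ f') '' ((pullback.snd b i₁) ⁻¹' C) := by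
    ext s
    constructor
    · rintro ⟨c, hc, rfl⟩
      rcases hsurj (i₁ c) with ⟨x, hx⟩ | ⟨y, hy⟩
      · obtain ⟨z, -, hz2⟩ := Scheme.Pullback.exists_preimage_pullback (f := a) (g := i₁) x c hx
        left
        refine ⟨z, ?_, ?_⟩
        · show pullback.snd a i₁ z ∈ C
          rw [hz2]
          exact hc
        · rw [Scheme.Hom.comp_apply, hz2]
      · obtain ⟨z, -, hz2⟩ := Scheme.Pullback.exists_preimage_pullback (f := b) (g := i₁) y c hy
        right
        refine ⟨z, ?_, ?_⟩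
        · show pullback.snd b i₁ z ∈ C
          rw [hz2]
          exact hc
        · rw [Scheme.Hom.comp_apply, hz2]
    · rintro (⟨z, hz, rfl⟩ | ⟨z, hz, rfl⟩)
      · exact ⟨pullback.snd a i₁ z, hz, (Scheme.Hom.comp_apply _ _ _).symm⟩
      · exact ⟨pullback.snd b i₁ z, hz, (Scheme.Hom.comp_apply _ _ _).symm⟩
  rw [e]
  exact ((pullback.snd a i₁ ≫ f').isClosedMap _ (hC.preimage (pullback.snd a i₁).continuous)).union
    ((pullback.snd b i₁ ≫ f').isClosedMap _ (hC.preimage (pullback.snd b i₁).continuous))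

/-- the square map on self fibre products -/
abbrev sqMap : pullback (a ≫ r) (a ≫ r) ⟶ pullback r r :=
  pullback.map (a ≫ r) (a ≫ r) r r a a (𝟙 S) (by simp) (by simp)

theorem diag_comp : a ≫ pullback.diagonal r = pullback.diagonal (a ≫ r) ≫ sqMap a r := by
  apply pullback.hom_ext
  · rw [Category.assoc, Category.assoc, pullback.diagonal_fst, Category.comp_id]
    show a = pullback.diagonal (a ≫ r) ≫ pullback.lift _ _ _ ≫ pullback.fst r r
    rw [pullback.lift_fst, ← Category.assoc, pullback.diagonal_fst, Category.id_comp]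
  · rw [Category.assoc, Category.assoc, pullback.diagonal_snd, Category.comp_id]
    show a = pullback.diagonal (a ≫ r) ≫ pullback.lift _ _ _ ≫ pullback.snd r r
    rw [pullback.lift_snd, ← Category.assoc, pullback.diagonal_snd, Category.id_comp]

instance universallyClosed_sqMap [UniversallyClosed a] : UniversallyClosed (sqMap a r) :=
  MorphismProperty.pullbackMap (P := @UniversallyClosed) (inferInstance : UniversallyClosed a)
    (inferInstance : UniversallyClosed a) rfl rfl

include hsurj in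
theorem isSeparated_of_cover [UniversallyClosed a] [UniversallyClosed b] [IsSeparated (a ≫ r)]
    [IsSeparated (b ≫ r)] : IsSeparated r := by
  have hrange : Set.range (pullback.diagonal r) =
      sqMap a r '' Set.range (pullback.diagonal (a ≫ r)) ∪
        sqMap b r '' Set.range (pullback.diagonal (b ≫ r)) := by
    ext w
    constructor
    · rintro ⟨x, rfl⟩
      rcases hsurj x with ⟨x', rfl⟩ | ⟨y', rfl⟩
      · left
        refine ⟨pullback.diagonal (a ≫ r) x', ⟨x', rfl⟩, ?_⟩
        rw [← Scheme.Hom.comp_apply, ← diag_comp, Scheme.Hom.comp_apply]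
      · right
        refine ⟨pullback.diagonal (b ≫ r) y', ⟨y', rfl⟩, ?_⟩
        rw [← Scheme.Hom.comp_apply, ← diag_comp, Scheme.Hom.comp_apply]
    · rintro (⟨_, ⟨x', rfl⟩, rfl⟩ | ⟨_, ⟨y', rfl⟩, rfl⟩)
      · refine ⟨a x', ?_⟩
        rw [← Scheme.Hom.comp_apply, diag_comp, Scheme.Hom.comp_apply]
      · refine ⟨b y', ?_⟩
        rw [← Scheme.Hom.comp_apply, diag_comp, Scheme.Hom.comp_apply]
  refine ⟨IsClosedImmersion.of_isPreimmersion _ ?_⟩
  rw [hrange]
  exact ((sqMap a r).isClosedMap _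
      (pullback.diagonal (a ≫ r)).isClosedEmbedding.isClosed_range).union
    ((sqMap b r).isClosedMap _ (pullback.diagonal (b ≫ r)).isClosedEmbedding.isClosed_range)

include hsurj in
theorem quasiSeparated_of_cover [UniversallyClosed a] [UniversallyClosed b]
    [QuasiSeparated (a ≫ r)] [QuasiSeparated (b ≫ r)] : QuasiSeparated r := by
  haveI : QuasiCompact (a ≫ pullback.diagonal r) := by
    rw [diag_comp]
    infer_instance
  haveI : QuasiCompact (b ≫ pullback.diagonal r) := by
    rw [diag_comp]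
    infer_instance
  exact ⟨quasiCompact_of_cover a b (pullback.diagonal r) hsurj⟩

end cover

/-- the charts of the situation of `S0430` -/
theorem charts0430 {X Y Z : Scheme.{u}} (i : Z ⟶ X) (j : Z ⟶ Y) [IsClosedImmersion i]
    [IsIntegralHom j]
    (haff : ∀ y : Y, ∃ U : X.Opens, IsAffineOpen U ∧ j ⁻¹' {y} ⊆ (i ⁻¹ᵁ U : Set ↑Z)) :
    (∀ x : X, ∃ α : Idx i j, x ∈ α.U) ∧ (∀ y : Y, ∃ α : Idx i j, y ∈ α.V) := by
  have HY : ∀ y : Y, ∃ α : Idx i j, y ∈ α.V := by
    intro y
    obtain ⟨U₀, hU₀, hfib⟩ := haff y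
    exact AG74.exists_idx_integral i j y U₀ hU₀ hfib
  refine ⟨?_, HY⟩
  intro x
  by_cases hx : x ∈ Set.range i
  · obtain ⟨z, rfl⟩ := hx
    obtain ⟨α, hα⟩ := HY (j z)
    refine ⟨α, ?_⟩
    have : z ∈ i ⁻¹ᵁ α.U := by
      rw [α.h]
      exact hα
    exact this
  · exact exists_idx_of_not_mem_range i j x hx

/-- `S7181` -/
theorem main7181 {X Y Z P S : Scheme.{u}} (i : Z ⟶ X) (j : Z ⟶ Y) [IsClosedImmersion i]
    [IsIntegralHom j]
    (haff : ∀ y : Y, ∃ U : X.Opens, IsAffineOpen U ∧ j ⁻¹' {y} ⊆ (i ⁻¹ᵁ U : Set ↑Z))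
    (a : X ⟶ P) (b : Y ⟶ P) (hP : IsPushout i j a b) (p : X ⟶ S) (q : Y ⟶ S) (r : P ⟶ S)
    (hp : a ≫ r = p) (hq : b ≫ r = q) :
    ((IsSeparated p ∧ IsSeparated q) → IsSeparated r) ∧
      ((QuasiSeparated p ∧ QuasiSeparated q) → QuasiSeparated r) := by
  obtain ⟨HX, HY⟩ := charts0430 i j haff
  obtain ⟨-, hb, -, hai, -, -, hsurj⟩ := props_of_isPushout i j HX HY a b hP
  haveI : IsIntegralHom a := hai inferInstance
  haveI := hb
  subst hp hq
  refine ⟨fun ⟨h1, h2⟩ => ?_, fun ⟨h1, h2⟩ => ?_⟩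
  · haveI := h1
    haveI := h2
    exact isSeparated_of_cover a b r hsurj
  · haveI := h1
    haveI := h2
    exact quasiSeparated_of_cover a b r hsurj

/-- `S15944` -/
theorem main15944 {X Y T Z : Scheme.{u}} (f : X ⟶ Y) (t : T ⟶ Y) (ξ : Z ⟶ T) (ι : Z ⟶ X)
    [IsAffineHom t] [IsAffineHom (ξ ≫ t)] [IsClosedImmersion ι] (hsq : ι ≫ f = ξ ≫ t)
    (hstd : ∀ y : Y, ∃ U : Y.Opens, IsAffineOpen U ∧ y ∈ U ∧ ∃ V : X.Opens, IsAffineOpen V ∧
      V ≤ f ⁻¹ᵁ U ∧ ∀ z : Z, (ξ ≫ t).base z ∈ U → ι.base z ∈ V)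
    [IsLocallyNoetherian Y] [LocallyOfFiniteType f] [QuasiCompact f] [LocallyOfFiniteType t]
    [QuasiCompact t]
    [IsFinite ξ] {P : Scheme.{u}} (a : X ⟶ P) (b : T ⟶ P) (hP : IsPushout ι ξ a b)
    (p : P ⟶ Y) (hap : a ≫ p = f) (hbp : b ≫ p = t) :
    (LocallyOfFiniteType p ∧ QuasiCompact p) ∧ (IsProper f → IsProper t → IsProper p) := by
  obtain ⟨HX, HY⟩ := charts15943 f t ξ ι hsq hstd
  obtain ⟨-, hb, -, -, -, haf, hsurj⟩ := props_of_isPushout ι ξ HX HY a b hP
  haveI : IsFinite a := haf inferInstance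
  haveI := hb
  have hft : LocallyOfFiniteType p :=
    locallyOfFiniteType_of_isPushout ι ξ HX HY a b hP f t p hap hbp
  subst hap hbp
  refine ⟨⟨hft, quasiCompact_of_cover a b p hsurj⟩, fun hf ht => ?_⟩
  haveI := hf
  haveI := ht
  haveI : IsSeparated p := isSeparated_of_cover a b p hsurj
  haveI : UniversallyClosed p := universallyClosed_of_cover a b p hsurj
  exact (isProper_iff p).mpr ⟨inferInstance, inferInstance, hft⟩

end Groth.Agent.Helper17.AG77
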