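import Mathlib
import Groth.Agent.Lib.Helper17.AG77

/-!
# Ferrand push-outs of schemes: finite sets of points in affine opens (helper17)

Davis' coset version of prime avoidance, basic opens through finitely many points, and the
statement that a finite subset of a push-out of two closed immersions whose traces lie in affine
opens lies in an affine open.
-/

set_option autoImplicit false
universe u
open CategoryTheory CategoryTheory.Limits AlgebraicGeometry Opposite TopologicalSpace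

noncomputable section
namespace Groth.Agent.Helper17.AG78
open Groth.Agent.Helper17.AG57 Groth.Agent.Helper17.AG58 Groth.Agent.Helper17.AG68
open Groth.Agent.Helper17.AG69 Groth.Agent.Helper17.AG69.Idx Groth.Agent.Helper17.AG70
open Groth.Agent.Helper17.AG71 Groth.Agent.Helper17.AG72 Groth.Agent.Helper17.AG73
open Groth.Agent.Helper17.AG75 Groth.Agent.Helper17.AG76 Groth.Agent.Helper17.AG77
open Groth.Agent.Helper19.FibProd

/-- Davis' lemma: coset version of prime avoidance -/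
theorem davis {R : Type u} [CommRing R] (I : Ideal R) (T : Finset (Ideal R))
    (hT : ∀ 𝔮 ∈ T, 𝔮.IsPrime ∧ ¬ I ≤ 𝔮) (x : R) : ∃ y ∈ I, ∀ 𝔮 ∈ T, x + y ∉ 𝔮 := by
  classical
  induction T using Finset.strongInduction with
  | H T ih =>
  by_cases hne : T.Nonempty
  · obtain ⟨𝔮₀, h𝔮₀, hmin⟩ := T.exists_minimal hne
    have hsub : T.erase 𝔮₀ ⊂ T := Finset.erase_ssubset h𝔮₀
    obtain ⟨y, hyI, hy⟩ := ih (T.erase 𝔮₀) hsub
      (fun 𝔮 h𝔮 => hT 𝔮 (Finset.mem_of_mem_erase h𝔮))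
    by_cases hxy : x + y ∈ 𝔮₀
    · have hprime : 𝔮₀.IsPrime := (hT 𝔮₀ h𝔮₀).1
      have hnot : ¬ (I * (T.erase 𝔮₀).prod id ≤ 𝔮₀) := by
        rw [Ideal.IsPrime.mul_le hprime, Ideal.IsPrime.prod_le hprime]
        rintro (h | ⟨𝔮, h𝔮, hle⟩)
        · exact (hT 𝔮₀ h𝔮₀).2 h
        · have h2 : 𝔮₀ ≤ 𝔮 := hmin (Finset.mem_of_mem_erase h𝔮) hle
          exact (Finset.ne_of_mem_erase h𝔮) (le_antisymm hle h2)
      obtain ⟨w, hw, hw0⟩ := SetLike.not_le_iff_exists.mp hnot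
      refine ⟨y + w, I.add_mem hyI (Ideal.mul_le_left hw), ?_⟩
      intro 𝔮 h𝔮 hmem
      by_cases h𝔮0 : 𝔮 = 𝔮₀
      · rw [h𝔮0] at hmem
        apply hw0
        have e : w = (x + (y + w)) - (x + y) := by ring
        rw [e]
        exact 𝔮₀.sub_mem hmem hxy
      · have h𝔮' : 𝔮 ∈ T.erase 𝔮₀ := Finset.mem_erase.mpr ⟨h𝔮0, h𝔮⟩
        have hw𝔮 : w ∈ 𝔮 := by
          have h1 : (T.erase 𝔮₀).prod id ≤ 𝔮 := Ideal.prod_le_inf.trans (Finset.inf_le h𝔮')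
          exact h1 (Ideal.mul_le_right hw)
        apply hy 𝔮 h𝔮'
        have e : x + y = (x + (y + w)) - w := by ring
        rw [e]
        exact 𝔮.sub_mem hmem hw𝔮
    · refine ⟨y, hyI, ?_⟩
      intro 𝔮 h𝔮
      by_cases h𝔮0 : 𝔮 = 𝔮₀
      · rw [h𝔮0]
        exact hxy
      · exact hy 𝔮 (Finset.mem_erase.mpr ⟨h𝔮0, h𝔮⟩)
  · rw [Finset.not_nonempty_iff_eq_empty] at hne
    subst hne
    exact ⟨0, I.zero_mem, fun 𝔮 h𝔮 => absurd h𝔮 (Finset.notMem_empty _)⟩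

/-- a basic open of an affine open through finitely many points, inside a given open -/
theorem exists_basicOpen_finite {X : Scheme.{u}} {U : X.Opens} (hU : IsAffineOpen U)
    (W : X.Opens) (F : Set X) (hF : F.Finite) (hFU : F ⊆ (U : Set X)) (hFW : F ⊆ (W : Set X)) :
    ∃ f : Γ(X, U), F ⊆ (X.basicOpen f : Set X) ∧ X.basicOpen f ≤ W := by
  classical
  let Wc : Set (Spec Γ(X, U)) :=
    ((hU.fromSpec ⁻¹ᵁ W : (Spec Γ(X, U)).Opens) : Set (Spec Γ(X, U)))ᶜ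
  have hWc : IsClosed Wc := (hU.fromSpec ⁻¹ᵁ W).isOpen.isClosed_compl
  let C : Set (PrimeSpectrum Γ(X, U)) := Wc
  have hC : IsClosed C := hWc
  let I : Ideal Γ(X, U) := PrimeSpectrum.vanishingIdeal C
  let F' : Set (Spec Γ(X, U)) := hU.fromSpec ⁻¹' F
  have hF' : F'.Finite := hF.preimage hU.fromSpec.isOpenEmbedding.injective.injOn
  let asI : Spec Γ(X, U) → Ideal Γ(X, U) := fun x' => (x' : PrimeSpectrum Γ(X, U)).asIdeal
  let T : Finset (Ideal Γ(X, U)) := hF'.toFinset.image asI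
  have hT : ∀ 𝔮 ∈ T, 𝔮.IsPrime ∧ ¬ I ≤ 𝔮 := by
    intro 𝔮 h𝔮
    obtain ⟨x', hx', rfl⟩ := Finset.mem_image.mp h𝔮
    have hx'F : hU.fromSpec x' ∈ F := hF'.mem_toFinset.mp hx'
    refine ⟨(x' : PrimeSpectrum Γ(X, U)).isPrime, fun hle => ?_⟩
    have hz : (x' : PrimeSpectrum Γ(X, U)) ∈ PrimeSpectrum.zeroLocus (I : Set Γ(X, U)) :=
      (PrimeSpectrum.mem_zeroLocus _ _).mpr (fun a ha => hle ha)
    rw [PrimeSpectrum.zeroLocus_vanishingIdeal_eq_closure, hC.closure_eq] at hz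
    exact hz (hFW hx'F)
  obtain ⟨f, hfI, hf⟩ := davis I T hT 0
  refine ⟨f, ?_, ?_⟩
  · intro x hx
    obtain ⟨x', hx'⟩ := exists_fromSpec_eq hU x (hFU hx)
    have hx'F : x' ∈ F' := by
      show hU.fromSpec x' ∈ F
      rw [hx']
      exact hx
    have h1 : asI x' ∈ T := Finset.mem_image_of_mem asI (hF'.mem_toFinset.mpr hx'F)
    have h2 := hf _ h1
    rw [zero_add] at h2
    rw [← hx']
    exact (mem_basicOpen_fromSpec hU f x').mpr h2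
  · intro pt hpt
    have hptU : pt ∈ U := X.basicOpen_le f hpt
    obtain ⟨z, rfl⟩ := exists_fromSpec_eq hU pt hptU
    by_contra hnW
    have hzC : (z : PrimeSpectrum Γ(X, U)) ∈ C := hnW
    have h3 : f ∈ (z : PrimeSpectrum Γ(X, U)).asIdeal :=
      (PrimeSpectrum.mem_vanishingIdeal _ _).mp hfI z hzC
    exact ((mem_basicOpen_fromSpec hU f z).mp hpt) h3

/-- a common basic open of two affine opens through finitely many points -/
theorem exists_basicOpen_common_finite {Y : Scheme.{u}} {W₁ W₂ : Y.Opens} (h₁ : IsAffineOpen W₁)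
    (h₂ : IsAffineOpen W₂) (F : Set Y) (hF : F.Finite) (hF₁ : F ⊆ (W₁ : Set Y))
    (hF₂ : F ⊆ (W₂ : Set Y)) :
    ∃ (u₁ : Γ(Y, W₁)) (u₂ : Γ(Y, W₂)), Y.basicOpen u₁ = Y.basicOpen u₂ ∧
      F ⊆ (Y.basicOpen u₁ : Set Y) := by
  obtain ⟨h, hFh, hhW⟩ := exists_basicOpen_finite h₁ (W₁ ⊓ W₂) F hF hF₁
    (fun x hx => ⟨hF₁ hx, hF₂ hx⟩)
  have hle2 : Y.basicOpen h ≤ W₂ := hhW.trans inf_le_right
  obtain ⟨h', hFh', hh'⟩ := exists_basicOpen_finite h₂ (Y.basicOpen h) F hF hF₂ hFh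
  have hg : Y.basicOpen ((Y.presheaf.map (homOfLE hle2).op).hom h') = Y.basicOpen h' := by
    have e : Y.basicOpen ((Y.presheaf.map (homOfLE hle2).op).hom h') =
        Y.basicOpen h ⊓ Y.basicOpen h' := Scheme.basicOpen_res Y h' (homOfLE hle2).op
    rw [e]
    exact inf_eq_right.mpr hh'
  obtain ⟨u₁, hu₁⟩ :=
    h₁.basicOpen_basicOpen_is_basicOpen h ((Y.presheaf.map (homOfLE hle2).op).hom h')
  refine ⟨u₁, h', hu₁.trans hg, ?_⟩
  rw [hu₁, hg]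
  exact hFh'

/-- lifting a section along a closed immersion while staying a unit at finitely many points -/
theorem exists_lift_avoid {Z X : Scheme.{u}} (i : Z ⟶ X) [IsClosedImmersion i] {U : X.Opens}
    (hU : IsAffineOpen U) (u : Γ(Z, i ⁻¹ᵁ U)) (F : Set X) (hF : F.Finite)
    (hFU : F ⊆ (U : Set X)) (hFu : ∀ z : Z, i z ∈ F → z ∈ Z.basicOpen u) :
    ∃ g : Γ(X, U), i.app U g = u ∧ F ⊆ (X.basicOpen g : Set X) := by
  classical
  obtain ⟨g₀, hg₀⟩ := i.app_surjective U hU u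
  let pp : Γ(X, U) →+* Γ(Z, i ⁻¹ᵁ U) := (i.app U).hom
  have hpps : Function.Surjective pp := i.app_surjective U hU
  let I : Ideal Γ(X, U) := RingHom.ker pp
  have hW : IsAffineOpen (i ⁻¹ᵁ U) := hU.preimage i
  have hsq : Spec.map (i.app U) ≫ hU.fromSpec = hW.fromSpec ≫ i := by
    have h := IsAffineOpen.SpecMap_appLE_fromSpec i hU hW le_rfl
    rw [← Scheme.Hom.app_eq_appLE] at h
    exact h
  let F' : Set (Spec Γ(X, U)) := {x' | hU.fromSpec x' ∈ F ∧ hU.fromSpec x' ∉ Set.range i}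
  have hF' : F'.Finite :=
    (hF.preimage hU.fromSpec.isOpenEmbedding.injective.injOn).subset (fun x' hx' => hx'.1)
  let asI : Spec Γ(X, U) → Ideal Γ(X, U) := fun x' => (x' : PrimeSpectrum Γ(X, U)).asIdeal
  let T : Finset (Ideal Γ(X, U)) := hF'.toFinset.image asI
  have hT : ∀ 𝔮 ∈ T, 𝔮.IsPrime ∧ ¬ I ≤ 𝔮 := by
    intro 𝔮 h𝔮
    obtain ⟨x', hx', rfl⟩ := Finset.mem_image.mp h𝔮
    obtain ⟨-, hxr⟩ := hF'.mem_toFinset.mp hx'
    refine ⟨(x' : PrimeSpectrum Γ(X, U)).isPrime, fun hle => hxr ?_⟩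
    have hmem : (x' : PrimeSpectrum Γ(X, U)) ∈ Set.range (PrimeSpectrum.comap pp) := by
      rw [_root_.range_comap_of_surjective _ _ hpps]
      exact (PrimeSpectrum.mem_zeroLocus _ _).mpr (fun a ha => hle ha)
    obtain ⟨w, hw⟩ := hmem
    let w' : Spec Γ(Z, i ⁻¹ᵁ U) := w
    refine ⟨hW.fromSpec w', ?_⟩
    have e1 : hU.fromSpec (Spec.map (i.app U) w') = i (hW.fromSpec w') := by
      rw [← Scheme.Hom.comp_apply, ← Scheme.Hom.comp_apply, hsq]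
    rw [← e1]
    exact congrArg hU.fromSpec hw
  obtain ⟨e, heI, he⟩ := davis I T hT g₀
  have hpe : pp e = 0 := heI
  have hval : i.app U (g₀ + e) = u := by
    show pp (g₀ + e) = u
    rw [map_add, hpe, add_zero]
    exact hg₀
  refine ⟨g₀ + e, hval, ?_⟩
  intro x hx
  by_cases hxr : x ∈ Set.range i
  · obtain ⟨z, rfl⟩ := hxr
    have hz : z ∈ Z.basicOpen u := hFu z hx
    have e1 : i ⁻¹ᵁ X.basicOpen (g₀ + e) = Z.basicOpen u := by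
      rw [Scheme.preimage_basicOpen, hval]
    have : z ∈ i ⁻¹ᵁ X.basicOpen (g₀ + e) := by
      rw [e1]
      exact hz
    exact this
  · obtain ⟨x', hx'⟩ := exists_fromSpec_eq hU x (hFU hx)
    have hx'F : x' ∈ F' := ⟨by rw [hx']; exact hx, by rw [hx']; exact hxr⟩
    have h1 : asI x' ∈ T := Finset.mem_image_of_mem asI (hF'.mem_toFinset.mpr hx'F)
    have h2 := he _ h1
    rw [← hx']
    exact (mem_basicOpen_fromSpec hU _ x').mpr h2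

/-- the charts for two closed immersions -/
theorem charts_closed {X Y Z : Scheme.{u}} (i : Z ⟶ X) (j : Z ⟶ Y) [IsClosedImmersion i]
    [IsClosedImmersion j] :
    (∀ x : X, ∃ α : Idx i j, x ∈ α.U) ∧ (∀ y : Y, ∃ α : Idx i j, y ∈ α.V) := by
  constructor
  · intro x
    by_cases hx : x ∈ Set.range i
    · obtain ⟨z, rfl⟩ := hx
      obtain ⟨α, h1, -⟩ := exists_idx_closed i j z
      exact ⟨α, h1⟩
    · exact exists_idx_of_not_mem_range i j x hx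
  · intro y
    by_cases hy : y ∈ Set.range j
    · obtain ⟨z, rfl⟩ := hy
      obtain ⟨α, -, h2⟩ := exists_idx_closed i j z
      exact ⟨α, h2⟩
    · exact exists_idx_of_not_mem_range' i j y hy

/-- `S16031` -/
theorem main16031 {Y X₁ X₂ X : Scheme.{u}} (θ₁ : Y ⟶ X₁) (θ₂ : Y ⟶ X₂) [IsClosedImmersion θ₁]
    [IsClosedImmersion θ₂] (φ₁ : X₁ ⟶ X) (φ₂ : X₂ ⟶ X) (hX : IsPushout θ₁ θ₂ φ₁ φ₂)
    (E : Set ↥X) (hE : E.Finite)
    (h₁ : ∃ U₁ : X₁.Opens, IsAffineOpen U₁ ∧ φ₁ ⁻¹' E ⊆ (U₁ : Set ↥X₁))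
    (h₂ : ∃ U₂ : X₂.Opens, IsAffineOpen U₂ ∧ φ₂ ⁻¹' E ⊆ (U₂ : Set ↥X₂)) :
    ∃ U : X.Opens, IsAffineOpen U ∧ E ⊆ (U : Set ↥X) := by
  obtain ⟨U₁, hU₁, hEU₁⟩ := h₁
  obtain ⟨U₂, hU₂, hEU₂⟩ := h₂
  obtain ⟨HX, HY⟩ := charts_closed θ₁ θ₂
  obtain ⟨-, hb, -, -, hac, -, -⟩ := props_of_isPushout θ₁ θ₂ HX HY φ₁ φ₂ hX
  haveI : IsClosedImmersion φ₁ := hac inferInstance
  haveI := hb
  obtain ⟨e, hea, heb⟩ := exists_iso_model θ₁ θ₂ HX HY φ₁ φ₂ hX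
  have hF₁ : (φ₁ ⁻¹' E).Finite := hE.preimage φ₁.isClosedEmbedding.injective.injOn
  have hF₂ : (φ₂ ⁻¹' E).Finite := hE.preimage φ₂.isClosedEmbedding.injective.injOn
  have hcomm : θ₁ ≫ φ₁ = θ₂ ≫ φ₂ := hX.w
  let FY : Set Y := (θ₁ ≫ φ₁) ⁻¹' E
  have hFY : FY.Finite := hE.preimage (θ₁ ≫ φ₁).isClosedEmbedding.injective.injOn
  have hFY₁ : FY ⊆ ((θ₁ ⁻¹ᵁ U₁ : Y.Opens) : Set Y) := fun y hy => hEU₁ hy
  have hFY₂ : FY ⊆ ((θ₂ ⁻¹ᵁ U₂ : Y.Opens) : Set Y) := by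
    intro y hy
    have h2 : (θ₂ ≫ φ₂) y ∈ E := by
      rw [← hcomm]
      exact hy
    exact hEU₂ h2
  obtain ⟨u₁, u₂, hu, hFYu⟩ := exists_basicOpen_common_finite (hU₁.preimage θ₁)
    (hU₂.preimage θ₂) FY hFY hFY₁ hFY₂
  obtain ⟨g₁, hg₁, hFg₁⟩ := exists_lift_avoid θ₁ hU₁ u₁ (φ₁ ⁻¹' E) hF₁ hEU₁
    (fun z hz => hFYu hz)
  obtain ⟨g₂, hg₂, hFg₂⟩ := exists_lift_avoid θ₂ hU₂ u₂ (φ₂ ⁻¹' E) hF₂ hEU₂ (by
    intro z hz
    rw [← hu]
    apply hFYu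
    show (θ₁ ≫ φ₁) z ∈ E
    rw [hcomm]
    exact hz)
  have e1 : θ₁ ⁻¹ᵁ X₁.basicOpen g₁ = Y.basicOpen u₁ := by
    rw [Scheme.preimage_basicOpen, hg₁]
  have e2 : θ₂ ⁻¹ᵁ X₂.basicOpen g₂ = Y.basicOpen u₂ := by
    rw [Scheme.preimage_basicOpen, hg₂]
  let α : Idx θ₁ θ₂ :=
    ⟨X₁.basicOpen g₁, X₂.basicOpen g₂, hU₁.basicOpen g₁, hU₂.basicOpen g₂, by rw [e1, e2, hu]⟩
  refine ⟨(k θ₁ θ₂ α ≫ e.hom).opensRange, isAffineOpen_opensRange _, ?_⟩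
  intro x hx
  rcases mem_range θ₁ θ₂ HX HY (e.inv x) with ⟨x₁, hx₁⟩ | ⟨x₂, hx₂⟩
  · have hφ : φ₁ x₁ = x := by
      rw [← hea, Scheme.Hom.comp_apply, hx₁, ← Scheme.Hom.comp_apply, e.inv_hom_id]
      rfl
    have hx₁F : x₁ ∈ φ₁ ⁻¹' E := by
      show φ₁ x₁ ∈ E
      rw [hφ]
      exact hx
    have hx₁U : x₁ ∈ α.U := hFg₁ hx₁F
    obtain ⟨x₁', hx₁'⟩ := exists_fromSpec_eq α.hU x₁ hx₁U
    refine ⟨Sp (sndP α.pp α.qq) x₁', ?_⟩
    rw [← hφ, ← hx₁', ← hea, ← Scheme.Hom.comp_apply, ← Scheme.Hom.comp_apply,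
      ← Category.assoc, ← Category.assoc, a_w]
  · have hφ : φ₂ x₂ = x := by
      rw [← heb, Scheme.Hom.comp_apply, hx₂, ← Scheme.Hom.comp_apply, e.inv_hom_id]
      rfl
    have hx₂F : x₂ ∈ φ₂ ⁻¹' E := by
      show φ₂ x₂ ∈ E
      rw [hφ]
      exact hx
    have hx₂V : x₂ ∈ α.V := hFg₂ hx₂F
    obtain ⟨x₂', hx₂'⟩ := exists_fromSpec_eq α.hV x₂ hx₂V
    refine ⟨Sp (fstP α.pp α.qq) x₂', ?_⟩
    rw [← hφ, ← hx₂', ← heb, ← Scheme.Hom.comp_apply, ← Scheme.Hom.comp_apply,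
      ← Category.assoc, ← Category.assoc, b_w]

end Groth.Agent.Helper17.AG78
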