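import Mathlib
import Groth.Agent.Lib.Helper17.AG78

/-!
# Ferrand push-outs of schemes: base change (helper17)

Let `P` be a push-out of a closed immersion `i : Z ⟶ X` and `j : Z ⟶ Y` with affine Ferrand charts,
and `q : F ⟶ P` a morphism.  If, locally on `F`, tensoring the defining sequence
`0 → R → B × A' → A → 0` of the chart rings with the ring of `F` stays left exact (`TorInj`), then
`F` is the push-out of `F ×_P X` and `F ×_P Y` along `F ×_P Z` (`isPushout_baseChange`).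
This holds in particular when `q` is flat (`hloc_of_flat`).
-/

set_option autoImplicit false
universe u
open CategoryTheory CategoryTheory.Limits AlgebraicGeometry Opposite TopologicalSpace

noncomputable section
namespace Groth.Agent.Helper17.AG79
open Groth.Agent.Helper17.AG57 Groth.Agent.Helper17.AG58 Groth.Agent.Helper17.AG68
open Groth.Agent.Helper17.AG69 Groth.Agent.Helper17.AG69.Idx Groth.Agent.Helper17.AG70
open Groth.Agent.Helper17.AG71 Groth.Agent.Helper17.AG72 Groth.Agent.Helper17.AG73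
open Groth.Agent.Helper17.AG75 Groth.Agent.Helper17.AG76 Groth.Agent.Helper17.AG77
open Groth.Agent.Helper19.FibProd

section ring
open TensorProduct

variable {R R₁ R₂ R₀ D : Type u} [CommRing R] [CommRing R₁] [CommRing R₂] [CommRing R₀]
  [CommRing D] [Algebra R R₁] [Algebra R R₂] [Algebra R R₀] [Algebra R D]

/-- `D → D ⊗ R₁` -/
abbrev inclL (R R₁ D : Type u) [CommRing R] [CommRing R₁] [CommRing D] [Algebra R R₁]
    [Algebra R D] : D →+* D ⊗[R] R₁ := Algebra.TensorProduct.includeLeftRingHom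

/-- `R₁ → D ⊗ R₁` -/
abbrev inclR (R R₁ D : Type u) [CommRing R] [CommRing R₁] [CommRing D] [Algebra R R₁]
    [Algebra R D] : R₁ →+* D ⊗[R] R₁ :=
  (Algebra.TensorProduct.includeRight : R₁ →ₐ[R] D ⊗[R] R₁).toRingHom

/-- `D ⊗ R₁ → D ⊗ R₀` -/
abbrev tmap (D : Type u) [CommRing D] [Algebra R D] (φ : R₁ →ₐ[R] R₀) :
    D ⊗[R] R₁ →+* D ⊗[R] R₀ :=
  (Algebra.TensorProduct.map (AlgHom.id R D) φ).toRingHom

theorem tmap_tmul (φ : R₁ →ₐ[R] R₀) (d : D) (x : R₁) :
    tmap D φ (d ⊗ₜ[R] x) = d ⊗ₜ[R] φ x := by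
  show (Algebra.TensorProduct.map (AlgHom.id R D) φ) (d ⊗ₜ[R] x) = d ⊗ₜ[R] φ x
  rw [Algebra.TensorProduct.map_tmul]
  rfl

theorem tmap_eq_lTensor (φ : R₁ →ₐ[R] R₀) (y : D ⊗[R] R₁) :
    tmap D φ y = LinearMap.lTensor D φ.toLinearMap y := by
  induction y using TensorProduct.induction_on with
  | zero => rw [map_zero, map_zero]
  | tmul d x => rw [tmap_tmul, LinearMap.lTensor_tmul]; rfl
  | add x y hx hy => rw [map_add, map_add, hx, hy]

theorem inclL_surjective (hsurj₂ : Function.Surjective (algebraMap R R₂)) :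
    Function.Surjective (inclL R R₂ D) := by
  intro y
  induction y using TensorProduct.induction_on with
  | zero => exact ⟨0, map_zero _⟩
  | tmul d x =>
    obtain ⟨r, rfl⟩ := hsurj₂ x
    refine ⟨r • d, ?_⟩
    show (r • d) ⊗ₜ[R] (1 : R₂) = d ⊗ₜ[R] (algebraMap R R₂ r)
    rw [TensorProduct.smul_tmul, Algebra.algebraMap_eq_smul_one]
  | add x y hx hy =>
    obtain ⟨dx, rfl⟩ := hx
    obtain ⟨dy, rfl⟩ := hy
    exact ⟨dx + dy, map_add _ _ _⟩

/-- the tensored square of rings is again a pullback square, if the tensored sequence stays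
left exact -/
theorem rpb_tensor (φ : R₁ →ₐ[R] R₀) (ψ : R₂ →ₐ[R] R₀) (hsurj : Function.Surjective φ)
    (hsurj₂ : Function.Surjective (algebraMap R R₂))
    (hex : ∀ κ : R₁, φ κ = 0 → ∃ r : R, algebraMap R R₁ r = κ ∧ algebraMap R R₂ r = 0)
    (hinj : ∀ d : D, d ⊗ₜ[R] (1 : R₁) = 0 → d ⊗ₜ[R] (1 : R₂) = 0 → d = 0) :
    RPB (inclL R R₁ D) (inclL R R₂ D) (tmap D φ) (tmap D ψ) := by
  have hcomm : ∀ d : D, tmap D φ (inclL R R₁ D d) = tmap D ψ (inclL R R₂ D d) := by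
    intro d
    show tmap D φ (d ⊗ₜ[R] (1 : R₁)) = tmap D ψ (d ⊗ₜ[R] (1 : R₂))
    rw [tmap_tmul, tmap_tmul, map_one, map_one]
  refine ⟨hcomm, ?_, ?_, ?_⟩
  · intro z
    induction z using TensorProduct.induction_on with
    | zero => exact ⟨0, map_zero _⟩
    | tmul d x =>
      obtain ⟨x', rfl⟩ := hsurj x
      exact ⟨d ⊗ₜ[R] x', tmap_tmul φ d x'⟩
    | add x y hx hy =>
      obtain ⟨x', rfl⟩ := hx
      obtain ⟨y', rfl⟩ := hy
      exact ⟨x' + y', map_add _ _ _⟩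
  · intro d h1 h2
    exact hinj d h1 h2
  · intro y₁ y₂ hy
    obtain ⟨d₀, hd₀⟩ := inclL_surjective (D := D) hsurj₂ y₂
    have h0 : LinearMap.lTensor D φ.toLinearMap (y₁ - inclL R R₁ D d₀) = 0 := by
      rw [← tmap_eq_lTensor, map_sub, hy, ← hd₀, hcomm, sub_self]
    have hexact : Function.Exact
        (LinearMap.lTensor D (LinearMap.ker φ.toLinearMap).subtype)
        (LinearMap.lTensor D φ.toLinearMap) :=
      lTensor_exact D (LinearMap.exact_subtype_ker_map φ.toLinearMap) hsurj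
    obtain ⟨v, hv⟩ := (hexact _).mp h0
    have key : ∀ v : D ⊗[R] (LinearMap.ker φ.toLinearMap), ∃ d : D,
        inclL R R₁ D d = LinearMap.lTensor D (LinearMap.ker φ.toLinearMap).subtype v ∧
          inclL R R₂ D d = 0 := by
      intro v
      induction v using TensorProduct.induction_on with
      | zero => exact ⟨0, by rw [map_zero, map_zero], map_zero _⟩
      | tmul d κ =>
        have hκ : φ (κ : R₁) = 0 := κ.2
        obtain ⟨r, hr1, hr2⟩ := hex (κ : R₁) hκ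
        refine ⟨r • d, ?_, ?_⟩
        · rw [LinearMap.lTensor_tmul]
          show (r • d) ⊗ₜ[R] (1 : R₁) = d ⊗ₜ[R] (κ : R₁)
          rw [TensorProduct.smul_tmul, ← hr1, Algebra.algebraMap_eq_smul_one]
        · show (r • d) ⊗ₜ[R] (1 : R₂) = 0
          rw [TensorProduct.smul_tmul, ← Algebra.algebraMap_eq_smul_one, hr2,
            TensorProduct.tmul_zero]
      | add x y hx hy =>
        obtain ⟨dx, hdx1, hdx2⟩ := hx
        obtain ⟨dy, hdy1, hdy2⟩ := hy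
        exact ⟨dx + dy, by rw [map_add, map_add, hdx1, hdy1],
          by rw [map_add, hdx2, hdy2, add_zero]⟩
    obtain ⟨d', hd'1, hd'2⟩ := key v
    refine ⟨d' + d₀, ?_, ?_⟩
    · rw [map_add, hd'1, hv, sub_add_cancel]
    · rw [map_add, hd'2, zero_add, hd₀]

/-- flatness gives the left exactness -/
theorem torInj_of_flat [Module.Flat R D]
    (hinj : ∀ r : R, algebraMap R R₁ r = 0 → algebraMap R R₂ r = 0 → r = 0) :
    ∀ d : D, d ⊗ₜ[R] (1 : R₁) = 0 → d ⊗ₜ[R] (1 : R₂) = 0 → d = 0 := by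
  intro d h1 h2
  let f : R →ₗ[R] (R₁ × R₂) := (Algebra.linearMap R R₁).prod (Algebra.linearMap R R₂)
  have hf : Function.Injective f := by
    rw [injective_iff_map_eq_zero]
    intro r hr
    have h := Prod.ext_iff.mp hr
    exact hinj r h.1 h.2
  have hfl : Function.Injective (LinearMap.lTensor D f) :=
    Module.Flat.lTensor_preserves_injective_linearMap f hf
  have e : LinearMap.lTensor D f (d ⊗ₜ[R] (1 : R)) = 0 := by
    rw [LinearMap.lTensor_tmul]
    have h11 : f 1 = LinearMap.inl R R₁ R₂ 1 + LinearMap.inr R R₁ R₂ 1 := by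
      ext <;> simp [f]
    rw [h11, TensorProduct.tmul_add]
    have e1 : d ⊗ₜ[R] (LinearMap.inl R R₁ R₂ 1) =
        LinearMap.lTensor D (LinearMap.inl R R₁ R₂) (d ⊗ₜ[R] (1 : R₁)) :=
      (LinearMap.lTensor_tmul _ _ _ _).symm
    have e2 : d ⊗ₜ[R] (LinearMap.inr R R₁ R₂ 1) =
        LinearMap.lTensor D (LinearMap.inr R R₁ R₂) (d ⊗ₜ[R] (1 : R₂)) :=
      (LinearMap.lTensor_tmul _ _ _ _).symm
    rw [e1, e2, h1, h2, map_zero, map_zero, add_zero]
  have h0 : d ⊗ₜ[R] (1 : R) = 0 := hfl (by rw [e, map_zero])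
  have h3 := congrArg (TensorProduct.rid R D) h0
  rw [TensorProduct.rid_tmul, one_smul, map_zero] at h3
  exact h3

end ring


theorem exists_preimage_of_isPullback {A B C E : Scheme.{u}} {fst : A ⟶ B} {snd : A ⟶ C}
    {f : B ⟶ E} {g : C ⟶ E} (h : IsPullback fst snd f g) (x : B) (y : C) (hxy : f x = g y) :
    ∃ z : A, fst z = x ∧ snd z = y := by
  obtain ⟨z, hz1, hz2⟩ := Scheme.Pullback.exists_preimage_pullback (f := f) (g := g) x y hxy
  refine ⟨h.isoPullback.inv z, ?_, ?_⟩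
  · rw [← Scheme.Hom.comp_apply, h.isoPullback_inv_fst, hz1]
  · rw [← Scheme.Hom.comp_apply, h.isoPullback_inv_snd, hz2]

section geom
open TensorProduct

variable {X Y Z : Scheme.{u}} (i : Z ⟶ X) (j : Z ⟶ Y) [IsClosedImmersion i]
  (HX : ∀ x : X, ∃ α : Idx i j, x ∈ α.U) (HY : ∀ y : Y, ∃ α : Idx i j, y ∈ α.V)
  {P : Scheme.{u}} (a : X ⟶ P) (b : Y ⟶ P) (hP : IsPushout i j a b)

/-- the comparison of the glued model with a given push-out -/
def isoM : AG71.P i j ≅ P := (exists_iso_model i j HX HY a b hP).choose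

theorem isoM_a : AG71.a i j HX ≫ (isoM i j HX HY a b hP).hom = a :=
  (exists_iso_model i j HX HY a b hP).choose_spec.1

theorem isoM_b : AG71.b i j HY ≫ (isoM i j HX HY a b hP).hom = b :=
  (exists_iso_model i j HX HY a b hP).choose_spec.2

/-- the affine charts of a push-out -/
def kk (α : Idx i j) : Spec (CommRingCat.of α.R) ⟶ P := k i j α ≫ (isoM i j HX HY a b hP).hom

instance (α : Idx i j) : IsOpenImmersion (kk i j HX HY a b hP α) := by
  unfold kk
  infer_instance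

theorem kk_a (α : Idx i j) :
    α.hU.fromSpec ≫ a = Sp (sndP α.pp α.qq) ≫ kk i j HX HY a b hP α := by
  rw [kk, ← Category.assoc, ← a_w i j HX α, Category.assoc, isoM_a]

theorem kk_b (α : Idx i j) :
    α.hV.fromSpec ≫ b = Sp (fstP α.pp α.qq) ≫ kk i j HX HY a b hP α := by
  rw [kk, ← Category.assoc, ← b_w i j HY α, Category.assoc, isoM_b]

theorem kk_sqX (α : Idx i j) :
    IsPullback α.hU.fromSpec (Sp (sndP α.pp α.qq)) a (kk i j HX HY a b hP α) :=
  IsPullback.of_iso (sqX i j HX α) (Iso.refl _) (Iso.refl _) (Iso.refl _)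
    (isoM i j HX HY a b hP) (by simp) (by simp)
    (by rw [Iso.refl_hom, Category.id_comp]; exact isoM_a i j HX HY a b hP)
    (by rw [Iso.refl_hom, Category.id_comp]; rfl)

theorem kk_sqY (α : Idx i j) :
    IsPullback α.hV.fromSpec (Sp (fstP α.pp α.qq)) b (kk i j HX HY a b hP α) :=
  IsPullback.of_iso (sqY i j HY α) (Iso.refl _) (Iso.refl _) (Iso.refl _)
    (isoM i j HX HY a b hP) (by simp) (by simp)
    (by rw [Iso.refl_hom, Category.id_comp]; exact isoM_b i j HX HY a b hP)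
    (by rw [Iso.refl_hom, Category.id_comp]; rfl)

theorem kk_small (p : P) (O : P.Opens) (hp : p ∈ O) :
    ∃ β : Idx i j, p ∈ Set.range (kk i j HX HY a b hP β) ∧
      Set.range (kk i j HX HY a b hP β) ⊆ (O : Set P) := by
  have hp' : (isoM i j HX HY a b hP).hom ((isoM i j HX HY a b hP).inv p) ∈ O := by
    rw [← Scheme.Hom.comp_apply, Iso.inv_hom_id]
    exact hp
  obtain ⟨β, ⟨z, hz⟩, h2⟩ := exists_small_chart i j (isoM i j HX HY a b hP).hom
    ((isoM i j HX HY a b hP).inv p) O hp'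
  refine ⟨β, ⟨z, ?_⟩, h2⟩
  rw [kk, Scheme.Hom.comp_apply, hz, ← Scheme.Hom.comp_apply, Iso.inv_hom_id]
  rfl

theorem kk_surj (p : P) : ∃ β : Idx i j, p ∈ Set.range (kk i j HX HY a b hP β) := by
  obtain ⟨β, h, -⟩ := kk_small i j HX HY a b hP p ⊤ trivial
  exact ⟨β, h⟩

/-- the local left exactness condition -/
def TorInj (α : Idx i j) {D : Type u} [CommRing D] (ρ : α.R →+* D) : Prop :=
  letI : Algebra α.R D := ρ.toAlgebra
  letI : Algebra α.R Γ(X, α.U) := (sndP α.pp α.qq).toAlgebra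
  letI : Algebra α.R Γ(Y, α.V) := (fstP α.pp α.qq).toAlgebra
  ∀ d : D, d ⊗ₜ[α.R] (1 : Γ(X, α.U)) = 0 → d ⊗ₜ[α.R] (1 : Γ(Y, α.V)) = 0 → d = 0

variable {F FX FY FZ : Scheme.{u}} (q : F ⟶ P) (pX : FX ⟶ X) (qX : FX ⟶ F)
  (hFX : IsPullback pX qX a q) (pY : FY ⟶ Y) (qY : FY ⟶ F) (hFY : IsPullback pY qY b q)
  (pZ : FZ ⟶ Z) (iF : FZ ⟶ FX) (jF : FZ ⟶ FY) (hFZ : IsPullback pZ iF i pX)
  (hj₁ : jF ≫ pY = pZ ≫ j) (hj₂ : jF ≫ qY = iF ≫ qX)

include hFX hFY hFZ hj₁ hj₂ in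
/-- an affine Ferrand chart of the base-changed square -/
theorem exists_chart_baseChange (α : Idx i j) (D : Type u) [CommRing D]
    (κ : Spec (CommRingCat.of D) ⟶ F) [IsOpenImmersion κ] (ρ : α.R →+* D)
    (hκ : κ ≫ q = Sp ρ ≫ kk i j HX HY a b hP α) (hinj : TorInj i j α ρ) :
    ∃ ch : AG59.Chart iF jF qX qY, Set.range ch.k = Set.range κ := by
  classical
  letI iD : Algebra α.R D := ρ.toAlgebra
  letI i1 : Algebra α.R Γ(X, α.U) := (sndP α.pp α.qq).toAlgebra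
  letI i2 : Algebra α.R Γ(Y, α.V) := (fstP α.pp α.qq).toAlgebra
  letI i0 : Algebra α.R Γ(Z, i ⁻¹ᵁ α.U) := (α.pp.comp (sndP α.pp α.qq)).toAlgebra
  let φa : Γ(X, α.U) →ₐ[α.R] Γ(Z, i ⁻¹ᵁ α.U) := { α.pp with commutes' := fun r => rfl }
  let ψa : Γ(Y, α.V) →ₐ[α.R] Γ(Z, i ⁻¹ᵁ α.U) :=
    { α.qq with commutes' := fun r => Groth.Agent.Helper19.FibProd.comm α.pp α.qq r }
  have hrpb : RPB (inclL α.R Γ(X, α.U) D) (inclL α.R Γ(Y, α.V) D) (tmap D φa) (tmap D ψa) := by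
    refine rpb_tensor φa ψa α.pp_surjective
      (Groth.Agent.Helper19.FibProd.fstP_surjective α.pp α.qq α.pp_surjective) ?_ hinj
    intro κ' hκ'
    have hκ'' : α.pp κ' = 0 := hκ'
    exact ⟨mkP α.pp α.qq 0 κ' (by rw [map_zero, hκ'']), rfl, rfl⟩
  -- the `X`-side
  have T1 : IsPullback (Sp (inclL α.R Γ(X, α.U) D)) (Sp (inclR α.R Γ(X, α.U) D)) (Sp ρ)
      (Sp (sndP α.pp α.qq)) :=
    isPullback_SpecMap_of_isPushout _ _ _ _
      (CommRingCat.isPushout_tensorProduct α.R D Γ(X, α.U))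
  have E1 : IsPullback (Sp (inclR α.R Γ(X, α.U) D) ≫ α.hU.fromSpec)
      (Sp (inclL α.R Γ(X, α.U) D)) a (κ ≫ q) := by
    rw [hκ]
    exact T1.flip.paste_horiz (kk_sqX i j HX HY a b hP α)
  let kX : Spec (CommRingCat.of (D ⊗[α.R] Γ(X, α.U))) ⟶ FX :=
    hFX.lift (Sp (inclR α.R Γ(X, α.U) D) ≫ α.hU.fromSpec) (Sp (inclL α.R Γ(X, α.U) D) ≫ κ)
      (by rw [Category.assoc]; exact E1.w)
  have hkX1 : kX ≫ pX = Sp (inclR α.R Γ(X, α.U) D) ≫ α.hU.fromSpec := hFX.lift_fst _ _ _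
  have hkX2 : kX ≫ qX = Sp (inclL α.R Γ(X, α.U) D) ≫ κ := hFX.lift_snd _ _ _
  have SX : IsPullback kX (Sp (inclL α.R Γ(X, α.U) D)) qX κ :=
    IsPullback.of_right (by rw [hkX1]; exact E1) hkX2 hFX
  have hoX : IsOpenImmersion kX :=
    MorphismProperty.of_isPullback (P := @IsOpenImmersion) SX.flip inferInstance
  have preX : ∀ x : FX, qX x ∈ Set.range κ → x ∈ Set.range kX := by
    rintro x ⟨d, hd⟩
    obtain ⟨z, hz1, -⟩ := exists_preimage_of_isPullback SX x d hd.symm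
    exact ⟨z, hz1⟩
  -- the `Y`-side
  have T2 : IsPullback (Sp (inclL α.R Γ(Y, α.V) D)) (Sp (inclR α.R Γ(Y, α.V) D)) (Sp ρ)
      (Sp (fstP α.pp α.qq)) :=
    isPullback_SpecMap_of_isPushout _ _ _ _
      (CommRingCat.isPushout_tensorProduct α.R D Γ(Y, α.V))
  have E2 : IsPullback (Sp (inclR α.R Γ(Y, α.V) D) ≫ α.hV.fromSpec)
      (Sp (inclL α.R Γ(Y, α.V) D)) b (κ ≫ q) := by
    rw [hκ]
    exact T2.flip.paste_horiz (kk_sqY i j HX HY a b hP α)
  let kY : Spec (CommRingCat.of (D ⊗[α.R] Γ(Y, α.V))) ⟶ FY :=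
    hFY.lift (Sp (inclR α.R Γ(Y, α.V) D) ≫ α.hV.fromSpec) (Sp (inclL α.R Γ(Y, α.V) D) ≫ κ)
      (by rw [Category.assoc]; exact E2.w)
  have hkY1 : kY ≫ pY = Sp (inclR α.R Γ(Y, α.V) D) ≫ α.hV.fromSpec := hFY.lift_fst _ _ _
  have hkY2 : kY ≫ qY = Sp (inclL α.R Γ(Y, α.V) D) ≫ κ := hFY.lift_snd _ _ _
  have SY : IsPullback kY (Sp (inclL α.R Γ(Y, α.V) D)) qY κ :=
    IsPullback.of_right (by rw [hkY1]; exact E2) hkY2 hFY
  have hoY : IsOpenImmersion kY :=
    MorphismProperty.of_isPullback (P := @IsOpenImmersion) SY.flip inferInstance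
  have preY : ∀ y : FY, qY y ∈ Set.range κ → y ∈ Set.range kY := by
    rintro y ⟨d, hd⟩
    obtain ⟨z, hz1, -⟩ := exists_preimage_of_isPullback SY y d hd.symm
    exact ⟨z, hz1⟩
  -- the `Z`-side
  have hr1 : (inclR α.R Γ(Z, i ⁻¹ᵁ α.U) D).comp α.pp =
      (tmap D φa).comp (inclR α.R Γ(X, α.U) D) :=
    RingHom.ext fun x => (tmap_tmul φa (1 : D) x).symm
  have hr2 : (inclR α.R Γ(Z, i ⁻¹ᵁ α.U) D).comp α.qq =
      (tmap D ψa).comp (inclR α.R Γ(Y, α.V) D) :=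
    RingHom.ext fun x => (tmap_tmul ψa (1 : D) x).symm
  have hr3 : (tmap D φa).comp (inclL α.R Γ(X, α.U) D) =
      (tmap D ψa).comp (inclL α.R Γ(Y, α.V) D) :=
    RingHom.ext fun d => hrpb.comm d
  have hZcomm : (Sp (inclR α.R Γ(Z, i ⁻¹ᵁ α.U) D) ≫ α.hW.fromSpec) ≫ i =
      (Sp (tmap D φa) ≫ kX) ≫ pX := by
    rw [Category.assoc, Category.assoc, hkX1, ← α.wZX, ← Category.assoc, ← Category.assoc,
      ← Sp_comp, ← Sp_comp, hr1]
  let kZ : Spec (CommRingCat.of (D ⊗[α.R] Γ(Z, i ⁻¹ᵁ α.U))) ⟶ FZ :=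
    hFZ.lift (Sp (inclR α.R Γ(Z, i ⁻¹ᵁ α.U) D) ≫ α.hW.fromSpec) (Sp (tmap D φa) ≫ kX) hZcomm
  have hkZ1 : kZ ≫ pZ = Sp (inclR α.R Γ(Z, i ⁻¹ᵁ α.U) D) ≫ α.hW.fromSpec :=
    hFZ.lift_fst _ _ _
  have hkZ2 : kZ ≫ iF = Sp (tmap D φa) ≫ kX := hFZ.lift_snd _ _ _
  have wZY : kZ ≫ jF = Sp (tmap D ψa) ≫ kY := by
    apply hFY.hom_ext
    · rw [Category.assoc, hj₁, ← Category.assoc, hkZ1, Category.assoc, ← α.wZY, Category.assoc,
        hkY1, ← Category.assoc, ← Category.assoc, ← Sp_comp, ← Sp_comp, hr2]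
    · rw [Category.assoc, hj₂, ← Category.assoc, hkZ2, Category.assoc, hkX2, Category.assoc,
        hkY2, ← Category.assoc, ← Category.assoc, ← Sp_comp, ← Sp_comp, hr3]
  exact ⟨{ C' := D
           B' := D ⊗[α.R] Γ(X, α.U)
           B := D ⊗[α.R] Γ(Z, i ⁻¹ᵁ α.U)
           C := D ⊗[α.R] Γ(Y, α.V)
           π₁ := inclL α.R Γ(X, α.U) D
           π₂ := inclL α.R Γ(Y, α.V) D
           φ := tmap D φa
           ψ := tmap D ψa
           rpb := hrpb
           k := κ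
           kX := kX
           kY := kY
           kZ := kZ
           hk := inferInstance
           hkX := hoX
           hkY := hoY
           wX := hkX2
           wY := hkY2
           wZX := hkZ2
           wZY := wZY
           preX := preX
           preY := preY }, rfl⟩

include hFX hFY hFZ hj₁ hj₂ in
/-- base change of a Ferrand push-out along a morphism satisfying the local left exactness -/
theorem isPushout_baseChange
    (Hloc : ∀ f : F, ∃ (α : Idx i j) (D : Type u) (_ : CommRing D)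
      (κ : Spec (CommRingCat.of D) ⟶ F) (_ : IsOpenImmersion κ) (ρ : α.R →+* D),
      f ∈ Set.range κ ∧ κ ≫ q = Sp ρ ≫ kk i j HX HY a b hP α ∧ TorInj i j α ρ) :
    IsPushout iF jF qX qY := by
  refine AG59.isPushout_of_charts hj₂.symm ?_
  intro f
  obtain ⟨α, D, _, κ, _, ρ, hf, hκ, hinj⟩ := Hloc f
  obtain ⟨ch, hch⟩ := exists_chart_baseChange i j HX HY a b hP q pX qX hFX pY qY hFY pZ iF jF
    hFZ hj₁ hj₂ α D κ ρ hκ hinj
  exact ⟨ch, by rw [hch]; exact hf⟩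

end geom

end Groth.Agent.Helper17.AG79
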