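import Mathlib
import Groth.Agent.Lib.Helper17.AG79

/-!
# Ferrand push-outs of schemes: flat base change (helper17)

Flat morphisms to a Ferrand push-out satisfy the local left exactness condition of `AG79`;
consequences in the `Over.pullback` formulation (`S15955`, `S16045`).
-/

set_option autoImplicit false
universe u
open CategoryTheory CategoryTheory.Limits AlgebraicGeometry Opposite TopologicalSpace

noncomputable section
namespace Groth.Agent.Helper17.AG80
open Groth.Agent.Helper17.AG57 Groth.Agent.Helper17.AG58 Groth.Agent.Helper17.AG68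
open Groth.Agent.Helper17.AG69 Groth.Agent.Helper17.AG69.Idx Groth.Agent.Helper17.AG70
open Groth.Agent.Helper17.AG71 Groth.Agent.Helper17.AG72 Groth.Agent.Helper17.AG73
open Groth.Agent.Helper17.AG75 Groth.Agent.Helper17.AG76 Groth.Agent.Helper17.AG77
open Groth.Agent.Helper17.AG78 Groth.Agent.Helper17.AG79
open Groth.Agent.Helper19.FibProd

section geom
open TensorProduct

variable {X Y Z : Scheme.{u}} (i : Z ⟶ X) (j : Z ⟶ Y) [IsClosedImmersion i]
  (HX : ∀ x : X, ∃ α : Idx i j, x ∈ α.U) (HY : ∀ y : Y, ∃ α : Idx i j, y ∈ α.V)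
  {P : Scheme.{u}} (a : X ⟶ P) (b : Y ⟶ P) (hP : IsPushout i j a b)

/-- flat morphisms satisfy the local left exactness condition -/
theorem hloc_of_flat {F : Scheme.{u}} (q : F ⟶ P) [Flat q] :
    ∀ f : F, ∃ (α : Idx i j) (D : Type u) (_ : CommRing D)
      (κ : Spec (CommRingCat.of D) ⟶ F) (_ : IsOpenImmersion κ) (ρ : α.R →+* D),
      f ∈ Set.range κ ∧ κ ≫ q = Sp ρ ≫ kk i j HX HY a b hP α ∧ TorInj i j α ρ := by
  intro f
  obtain ⟨α, hα⟩ := kk_surj i j HX HY a b hP (q f)
  have hfO : f ∈ q ⁻¹ᵁ (kk i j HX HY a b hP α).opensRange := hα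
  obtain ⟨V, hV, hfV, hVO⟩ := exists_isAffineOpen_mem_and_subset hfO
  have hr : Set.range (hV.fromSpec ≫ q) ⊆ Set.range (kk i j HX HY a b hP α) := by
    rintro _ ⟨t, rfl⟩
    exact hVO (fromSpec_mem hV t)
  let l : Spec Γ(F, V) ⟶ Spec (CommRingCat.of α.R) :=
    IsOpenImmersion.lift (kk i j HX HY a b hP α) (hV.fromSpec ≫ q) hr
  have hl : l ≫ kk i j HX HY a b hP α = hV.fromSpec ≫ q := IsOpenImmersion.lift_fac _ _ _
  have hρ' : Spec.map (Spec.preimage l) = l := Spec.map_preimage l
  have hflat_l : Flat l :=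
    MorphismProperty.of_postcomp @Flat (W' := MorphismProperty.monomorphisms Scheme) l
      (kk i j HX HY a b hP α) ((MorphismProperty.monomorphisms.iff _).mpr inferInstance)
      (by rw [hl]; infer_instance)
  have hfl : (Spec.preimage l).hom.Flat :=
    (HasRingHomProperty.Spec_iff (P := @Flat)).mp (by rw [hρ']; exact hflat_l)
  refine ⟨α, Γ(F, V), inferInstance, hV.fromSpec, inferInstance, (Spec.preimage l).hom,
    exists_fromSpec_eq hV f hfV, ?_, ?_⟩
  · rw [← hl]
    exact congrArg (fun m => m ≫ kk i j HX HY a b hP α) hρ'.symm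
  · letI : Algebra α.R Γ(F, V) := (Spec.preimage l).hom.toAlgebra
    letI : Algebra α.R Γ(X, α.U) := (sndP α.pp α.qq).toAlgebra
    letI : Algebra α.R Γ(Y, α.V) := (fstP α.pp α.qq).toAlgebra
    haveI : Module.Flat α.R Γ(F, V) := hfl
    exact torInj_of_flat (fun r h1 h2 => Groth.Agent.Helper19.FibProd.ext
      (by rw [map_zero]; exact h2) (by rw [map_zero]; exact h1))

/-- base change in the `Over.pullback` formulation -/
theorem isPushout_overPullback {F : Scheme.{u}} (q : F ⟶ P)
    (Hloc : ∀ f : F, ∃ (α : Idx i j) (D : Type u) (_ : CommRing D)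
      (κ : Spec (CommRingCat.of D) ⟶ F) (_ : IsOpenImmersion κ) (ρ : α.R →+* D),
      f ∈ Set.range κ ∧ κ ≫ q = Sp ρ ≫ kk i j HX HY a b hP α ∧ TorInj i j α ρ) :
    IsPushout ((Over.pullback q).map (Over.homMk i rfl : Over.mk (i ≫ a) ⟶ Over.mk a)).left
      ((Over.pullback q).map (Over.homMk j hP.w.symm : Over.mk (i ≫ a) ⟶ Over.mk b)).left
      ((Over.pullback q).obj (Over.mk a)).hom ((Over.pullback q).obj (Over.mk b)).hom := by
  let iF : pullback (i ≫ a) q ⟶ pullback a q :=
    pullback.lift (pullback.fst (i ≫ a) q ≫ i) (pullback.snd (i ≫ a) q)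
      (by rw [Category.assoc, pullback.condition])
  let jF : pullback (i ≫ a) q ⟶ pullback b q :=
    pullback.lift (pullback.fst (i ≫ a) q ≫ j) (pullback.snd (i ≫ a) q)
      (by rw [Category.assoc, ← hP.w, pullback.condition])
  have hiF1 : iF ≫ pullback.fst a q = pullback.fst (i ≫ a) q ≫ i := pullback.lift_fst _ _ _
  have hiF2 : iF ≫ pullback.snd a q = pullback.snd (i ≫ a) q := pullback.lift_snd _ _ _
  have hjF1 : jF ≫ pullback.fst b q = pullback.fst (i ≫ a) q ≫ j := pullback.lift_fst _ _ _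
  have hjF2 : jF ≫ pullback.snd b q = pullback.snd (i ≫ a) q := pullback.lift_snd _ _ _
  have hFZ : IsPullback (pullback.fst (i ≫ a) q) iF i (pullback.fst a q) := by
    have outer : IsPullback (iF ≫ pullback.snd a q) (pullback.fst (i ≫ a) q) q (i ≫ a) := by
      rw [hiF2]
      exact (IsPullback.of_hasPullback (i ≫ a) q).flip
    exact (IsPullback.of_right outer hiF1 (IsPullback.of_hasPullback a q).flip).flip
  have key := isPushout_baseChange i j HX HY a b hP q (pullback.fst a q) (pullback.snd a q)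
    (IsPullback.of_hasPullback a q) (pullback.fst b q) (pullback.snd b q)
    (IsPullback.of_hasPullback b q) (pullback.fst (i ≫ a) q) iF jF hFZ hjF1
    (hjF2.trans hiF2.symm) Hloc
  exact key

end geom

/-- the cartesian squares of `Over.pullback` -/
theorem isPullback_overPullback_map {S S' : Scheme.{u}} (g : S' ⟶ S) {A B : Over S}
    (m : A ⟶ B) :
    IsPullback (pullback.fst A.hom g) ((Over.pullback g).map m).left m.left
      (pullback.fst B.hom g) := by
  have h1 : ((Over.pullback g).map m).left ≫ pullback.fst B.hom g =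
      pullback.fst A.hom g ≫ m.left := pullback.lift_fst _ _ _
  have h2 : ((Over.pullback g).map m).left ≫ pullback.snd B.hom g = pullback.snd A.hom g :=
    pullback.lift_snd _ _ _
  have outer : IsPullback (((Over.pullback g).map m).left ≫ pullback.snd B.hom g)
      (pullback.fst A.hom g) g (m.left ≫ B.hom) := by
    rw [h2, Over.w m]
    exact (IsPullback.of_hasPullback A.hom g).flip
  exact (IsPullback.of_right outer h1 (IsPullback.of_hasPullback B.hom g).flip).flip

/-- `S15955` (core) -/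
theorem main15955 {X Y T Z : Scheme.{u}} (f : X ⟶ Y) (t : T ⟶ Y) (ξ : Z ⟶ T) (ι : Z ⟶ X)
    [IsAffineHom t] [IsClosedImmersion ι] (hsq : ι ≫ f = ξ ≫ t)
    (hstd : ∀ y : Y, ∃ U : Y.Opens, IsAffineOpen U ∧ y ∈ U ∧ ∃ V : X.Opens, IsAffineOpen V ∧
      V ≤ f ⁻¹ᵁ U ∧ ∀ z : Z, (ξ ≫ t).base z ∈ U → ι.base z ∈ V)
    {P : Scheme.{u}} (a : X ⟶ P) (b : T ⟶ P) (hP : IsPushout ι ξ a b)
    {F : Scheme.{u}} (q : F ⟶ P) [Flat q] :
    IsPushout ((Over.pullback q).map (Over.homMk ι rfl : Over.mk (ι ≫ a) ⟶ Over.mk a)).left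
      ((Over.pullback q).map (Over.homMk ξ hP.w.symm : Over.mk (ι ≫ a) ⟶ Over.mk b)).left
      ((Over.pullback q).obj (Over.mk a)).hom ((Over.pullback q).obj (Over.mk b)).hom := by
  obtain ⟨HX, HY⟩ := charts15943 f t ξ ι hsq hstd
  exact isPushout_overPullback ι ξ HX HY a b hP q (hloc_of_flat ι ξ HX HY a b hP q)

/-- `S16045` -/
theorem main16045 {S S' : Scheme.{u}} (g : S' ⟶ S) [Flat g]
    {Y X₁ X₂ X : Over S} (θ₁ : Y ⟶ X₁) (θ₂ : Y ⟶ X₂) [IsClosedImmersion θ₁.left]
    [IsClosedImmersion θ₂.left]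
    (φ₁ : X₁ ⟶ X) (φ₂ : X₂ ⟶ X) (hX : IsPushout θ₁ θ₂ φ₁ φ₂) :
    IsPushout ((Over.pullback g).map θ₁) ((Over.pullback g).map θ₂)
      ((Over.pullback g).map φ₁) ((Over.pullback g).map φ₂) := by
  have hX' : IsPushout θ₁.left θ₂.left φ₁.left φ₂.left := hX.map (Over.forget S)
  obtain ⟨HX, HY⟩ := charts_closed θ₁.left θ₂.left
  have comm : (Over.pullback g).map θ₁ ≫ (Over.pullback g).map φ₁ =
      (Over.pullback g).map θ₂ ≫ (Over.pullback g).map φ₂ := by
    rw [← Functor.map_comp, ← Functor.map_comp, hX.w]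
  refine IsPushout.of_map (Over.forget S') comm ?_
  show IsPushout ((Over.pullback g).map θ₁).left ((Over.pullback g).map θ₂).left
    ((Over.pullback g).map φ₁).left ((Over.pullback g).map φ₂).left
  haveI : Flat (pullback.fst X.hom g) := inferInstance
  refine isPushout_baseChange θ₁.left θ₂.left HX HY φ₁.left φ₂.left hX' (pullback.fst X.hom g)
    (pullback.fst X₁.hom g) ((Over.pullback g).map φ₁).left (isPullback_overPullback_map g φ₁)
    (pullback.fst X₂.hom g) ((Over.pullback g).map φ₂).left (isPullback_overPullback_map g φ₂)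
    (pullback.fst Y.hom g) ((Over.pullback g).map θ₁).left ((Over.pullback g).map θ₂).left
    (isPullback_overPullback_map g θ₁) ?_ ?_
    (hloc_of_flat θ₁.left θ₂.left HX HY φ₁.left φ₂.left hX' (pullback.fst X.hom g))
  · exact pullback.lift_fst _ _ _
  · have := congrArg (fun m => m.left) comm
    exact this.symm

end Groth.Agent.Helper17.AG80
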