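import Mathlib
import Groth.Agent.Lib.Helper17.AG80

/-!
# Ferrand push-outs of schemes: non-flat base change (helper17)

Ring lemmas: a submodule with flat cokernel is universally injective, the kernel of a surjection
of flat modules is flat; the resulting left exactness of the tensored fibre product sequence.
Geometric part: product charts of a base change `P ×_S T` of a Ferrand push-out.
-/

set_option autoImplicit false
universe u
open CategoryTheory CategoryTheory.Limits AlgebraicGeometry Opposite TopologicalSpace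

noncomputable section
namespace Groth.Agent.Helper17.AG81
open Groth.Agent.Helper17.AG57 Groth.Agent.Helper17.AG58 Groth.Agent.Helper17.AG68
open Groth.Agent.Helper17.AG69 Groth.Agent.Helper17.AG69.Idx Groth.Agent.Helper17.AG70
open Groth.Agent.Helper17.AG71 Groth.Agent.Helper17.AG72 Groth.Agent.Helper17.AG73
open Groth.Agent.Helper17.AG75 Groth.Agent.Helper17.AG76 Groth.Agent.Helper17.AG77
open Groth.Agent.Helper17.AG78 Groth.Agent.Helper17.AG79 Groth.Agent.Helper17.AG80
open Groth.Agent.Helper19.FibProd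

section modules
open TensorProduct

variable {O : Type u} [CommRing O]

theorem eq_zero_of_fst_snd {M N Q : Type u} [AddCommGroup M] [AddCommGroup N] [AddCommGroup Q]
    [Module O M] [Module O N] [Module O Q] (y : (M × N) ⊗[O] Q)
    (h1 : LinearMap.rTensor Q (LinearMap.fst O M N) y = 0)
    (h2 : LinearMap.rTensor Q (LinearMap.snd O M N) y = 0) : y = 0 := by
  have hid : LinearMap.inl O M N ∘ₗ LinearMap.fst O M N +
      LinearMap.inr O M N ∘ₗ LinearMap.snd O M N = LinearMap.id := by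
    ext x <;> simp
  have e : y = LinearMap.rTensor Q (LinearMap.id : (M × N) →ₗ[O] (M × N)) y := by
    rw [LinearMap.rTensor_id]
    rfl
  rw [e, ← hid, LinearMap.rTensor_add, LinearMap.add_apply, LinearMap.rTensor_comp,
    LinearMap.rTensor_comp, LinearMap.comp_apply, LinearMap.comp_apply, h1, h2, map_zero,
    map_zero, add_zero]

theorem flat_prod {M N : Type u} [AddCommGroup M] [AddCommGroup N] [Module O M] [Module O N]
    [Module.Flat O M] [Module.Flat O N] : Module.Flat O (M × N) := by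
  rw [Module.Flat.iff_lTensor_preserves_injective_linearMap]
  intro P' P _ _ _ _ v hv
  rw [injective_iff_map_eq_zero]
  intro y hy
  apply eq_zero_of_fst_snd
  · have hM := Module.Flat.lTensor_preserves_injective_linearMap (M := M) v hv
    apply hM
    rw [map_zero, ← LinearMap.comp_apply, LinearMap.lTensor_comp_rTensor,
      ← LinearMap.rTensor_comp_lTensor, LinearMap.comp_apply, hy, map_zero]
  · have hN := Module.Flat.lTensor_preserves_injective_linearMap (M := N) v hv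
    apply hN
    rw [map_zero, ← LinearMap.comp_apply, LinearMap.lTensor_comp_rTensor,
      ← LinearMap.rTensor_comp_lTensor, LinearMap.comp_apply, hy, map_zero]

theorem rTensor_injective_aux {N' N N'' M L : Type u} [AddCommGroup N'] [AddCommGroup N]
    [AddCommGroup N''] [AddCommGroup M] [AddCommGroup L] [Module O N'] [Module O N]
    [Module O N''] [Module O M] [Module O L] [Module.Flat O L]
    (π : L →ₗ[O] M) (hπ : Function.Surjective π)
    (f : N' →ₗ[O] N) (g : N →ₗ[O] N'') (hf : Function.Injective f) (hfg : Function.Exact f g)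
    (hg : Function.Surjective g) [Module.Flat O N''] :
    Function.Injective (LinearMap.rTensor M f) := by
  have hιπ : Function.Exact (LinearMap.ker π).subtype π := LinearMap.exact_subtype_ker_map π
  have hzero : g ∘ₗ f = 0 := by
    ext x
    exact (hfg (f x)).mpr ⟨x, rfl⟩
  have hπι : π ∘ₗ (LinearMap.ker π).subtype = 0 := by
    ext x
    exact x.2
  rw [injective_iff_map_eq_zero]
  intro x hx
  obtain ⟨x', rfl⟩ := LinearMap.lTensor_surjective N' hπ x
  have h1 : LinearMap.lTensor N π (LinearMap.rTensor L f x') = 0 := by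
    rw [← LinearMap.comp_apply, LinearMap.lTensor_comp_rTensor, ← LinearMap.rTensor_comp_lTensor,
      LinearMap.comp_apply]
    exact hx
  obtain ⟨z, hz⟩ := (lTensor_exact N hιπ hπ _).mp h1
  have h2 : LinearMap.lTensor N'' (LinearMap.ker π).subtype
      (LinearMap.rTensor (LinearMap.ker π) g z) = 0 := by
    rw [← LinearMap.comp_apply, LinearMap.lTensor_comp_rTensor, ← LinearMap.rTensor_comp_lTensor,
      LinearMap.comp_apply, hz, ← LinearMap.comp_apply, ← LinearMap.rTensor_comp, hzero,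
      LinearMap.rTensor_zero, LinearMap.zero_apply]
  have h3 : LinearMap.rTensor (LinearMap.ker π) g z = 0 := by
    have hinj := Module.Flat.lTensor_preserves_injective_linearMap (M := N'')
      (LinearMap.ker π).subtype Subtype.val_injective
    exact hinj (by rw [h2, map_zero])
  obtain ⟨w, hw⟩ := (rTensor_exact (LinearMap.ker π) hfg hg _).mp h3
  have h4 : LinearMap.rTensor L f (LinearMap.lTensor N' (LinearMap.ker π).subtype w) =
      LinearMap.rTensor L f x' := by
    rw [← LinearMap.comp_apply, LinearMap.rTensor_comp_lTensor, ← LinearMap.lTensor_comp_rTensor,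
      LinearMap.comp_apply, hw, hz]
  have h5 : LinearMap.lTensor N' (LinearMap.ker π).subtype w = x' := by
    have hinj := Module.Flat.rTensor_preserves_injective_linearMap (M := L) f hf
    exact hinj h4
  rw [← h5, ← LinearMap.comp_apply, ← LinearMap.lTensor_comp, hπι, LinearMap.lTensor_zero,
    LinearMap.zero_apply]

/-- a submodule with flat cokernel stays a submodule after tensoring -/
theorem rTensor_injective_of_flat_coker {N' N N'' M : Type u} [AddCommGroup N'] [AddCommGroup N]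
    [AddCommGroup N''] [AddCommGroup M] [Module O N'] [Module O N] [Module O N''] [Module O M]
    (f : N' →ₗ[O] N) (g : N →ₗ[O] N'') (hf : Function.Injective f) (hfg : Function.Exact f g)
    (hg : Function.Surjective g) [Module.Flat O N''] :
    Function.Injective (LinearMap.rTensor M f) := by
  classical
  have hπ : Function.Surjective (Finsupp.linearCombination O (id : M → M)) := by
    intro m
    exact ⟨Finsupp.single m 1, by simp⟩
  exact rTensor_injective_aux (L := M →₀ O) (Finsupp.linearCombination O (id : M → M)) hπ f g hf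
    hfg hg

/-- the kernel of a surjection of flat modules is flat -/
theorem flat_of_exact {N' N N'' : Type u} [AddCommGroup N'] [AddCommGroup N]
    [AddCommGroup N''] [Module O N'] [Module O N] [Module O N'']
    (f : N' →ₗ[O] N) (g : N →ₗ[O] N'') (hf : Function.Injective f) (hfg : Function.Exact f g)
    (hg : Function.Surjective g) [Module.Flat O N] [Module.Flat O N''] : Module.Flat O N' := by
  rw [Module.Flat.iff_lTensor_preserves_injective_linearMap]
  intro M' M _ _ _ _ v hv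
  have h1 : Function.Injective (LinearMap.rTensor M' f) :=
    rTensor_injective_of_flat_coker f g hf hfg hg
  have h2 : Function.Injective (LinearMap.lTensor N v) :=
    Module.Flat.lTensor_preserves_injective_linearMap v hv
  have hcomm : (LinearMap.rTensor M f) ∘ₗ (LinearMap.lTensor N' v) =
      (LinearMap.lTensor N v) ∘ₗ (LinearMap.rTensor M' f) := by
    rw [LinearMap.rTensor_comp_lTensor, LinearMap.lTensor_comp_rTensor]
  intro x y hxy
  apply h1
  apply h2
  have h3 := congrArg (LinearMap.rTensor M f) hxy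
  rw [← LinearMap.comp_apply, ← LinearMap.comp_apply, hcomm] at h3
  exact h3

variable {R R₁ R₂ R₀ : Type u} [AddCommGroup R] [AddCommGroup R₁] [AddCommGroup R₂]
  [AddCommGroup R₀] [Module O R] [Module O R₁] [Module O R₂] [Module O R₀]

/-- the defining sequence of a fibre product -/
theorem seq_exact (π₁ : R →ₗ[O] R₁) (π₂ : R →ₗ[O] R₂) (φ : R₁ →ₗ[O] R₀) (ψ : R₂ →ₗ[O] R₀)
    (hcomm : ∀ x, φ (π₁ x) = ψ (π₂ x)) (hsurj : Function.Surjective φ)
    (hinj : ∀ x, π₁ x = 0 → π₂ x = 0 → x = 0)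
    (hex : ∀ b c, φ b = ψ c → ∃ x, π₁ x = b ∧ π₂ x = c) :
    Function.Injective (π₂.prod π₁) ∧
      Function.Exact (π₂.prod π₁)
        (ψ ∘ₗ LinearMap.fst O R₂ R₁ - φ ∘ₗ LinearMap.snd O R₂ R₁) ∧
      Function.Surjective (ψ ∘ₗ LinearMap.fst O R₂ R₁ - φ ∘ₗ LinearMap.snd O R₂ R₁) := by
  refine ⟨?_, ?_, ?_⟩
  · rw [injective_iff_map_eq_zero]
    intro x hx
    have h := Prod.ext_iff.mp hx
    exact hinj x h.2 h.1
  · intro y
    constructor
    · intro hy
      have hy' : ψ y.1 - φ y.2 = 0 := hy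
      obtain ⟨x, hx1, hx2⟩ := hex y.2 y.1 (sub_eq_zero.mp hy').symm
      exact ⟨x, Prod.ext hx2 hx1⟩
    · rintro ⟨x, rfl⟩
      show ψ (π₂ x) - φ (π₁ x) = 0
      rw [hcomm, sub_self]
  · intro z
    obtain ⟨c, rfl⟩ := hsurj z
    refine ⟨(0, -c), ?_⟩
    show ψ 0 - φ (-c) = φ c
    rw [map_zero, map_neg, zero_sub, neg_neg]

theorem baseInj_of_flat {Q : Type u} [AddCommGroup Q] [Module O Q] [Module.Flat O R₀]
    (π₁ : R →ₗ[O] R₁) (π₂ : R →ₗ[O] R₂) (φ : R₁ →ₗ[O] R₀) (ψ : R₂ →ₗ[O] R₀)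
    (hcomm : ∀ x, φ (π₁ x) = ψ (π₂ x)) (hsurj : Function.Surjective φ)
    (hinj : ∀ x, π₁ x = 0 → π₂ x = 0 → x = 0)
    (hex : ∀ b c, φ b = ψ c → ∃ x, π₁ x = b ∧ π₂ x = c)
    (d : R ⊗[O] Q) (h1 : LinearMap.rTensor Q π₁ d = 0) (h2 : LinearMap.rTensor Q π₂ d = 0) :
    d = 0 := by
  obtain ⟨hf, hfg, hg⟩ := seq_exact π₁ π₂ φ ψ hcomm hsurj hinj hex
  have hI := rTensor_injective_of_flat_coker (M := Q) _ _ hf hfg hg
  apply hI
  rw [map_zero]
  apply eq_zero_of_fst_snd
  · rw [← LinearMap.comp_apply, ← LinearMap.rTensor_comp, LinearMap.fst_prod]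
    exact h2
  · rw [← LinearMap.comp_apply, ← LinearMap.rTensor_comp, LinearMap.snd_prod]
    exact h1

theorem flat_fibre [Module.Flat O R₁] [Module.Flat O R₂] [Module.Flat O R₀]
    (π₁ : R →ₗ[O] R₁) (π₂ : R →ₗ[O] R₂) (φ : R₁ →ₗ[O] R₀) (ψ : R₂ →ₗ[O] R₀)
    (hcomm : ∀ x, φ (π₁ x) = ψ (π₂ x)) (hsurj : Function.Surjective φ)
    (hinj : ∀ x, π₁ x = 0 → π₂ x = 0 → x = 0)
    (hex : ∀ b c, φ b = ψ c → ∃ x, π₁ x = b ∧ π₂ x = c) : Module.Flat O R := by
  obtain ⟨hf, hfg, hg⟩ := seq_exact π₁ π₂ φ ψ hcomm hsurj hinj hex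
  haveI : Module.Flat O (R₂ × R₁) := flat_prod
  exact flat_of_exact _ _ hf hfg hg

end modules

section rings
open TensorProduct

theorem map_eq_zero_of_tmul_one {R D A' E : Type u} [CommRing R] [CommRing D] [CommRing A']
    [CommRing E] [Algebra R D] [Algebra R A'] (Φ : D →+* E) (χ : A' →+* E)
    (hc : ∀ r : R, Φ (algebraMap R D r) = χ (algebraMap R A' r)) (d : D)
    (h : d ⊗ₜ[R] (1 : A') = 0) : Φ d = 0 := by
  letI : Algebra R E := (χ.comp (algebraMap R A')).toAlgebra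
  let Φa : D →ₐ[R] E := { Φ with commutes' := fun r => hc r }
  let χa : A' →ₐ[R] E := { χ with commutes' := fun r => rfl }
  have h3 := congrArg (Algebra.TensorProduct.productMap Φa χa) h
  rw [Algebra.TensorProduct.productMap_apply_tmul, map_one, mul_one, map_zero] at h3
  exact h3

theorem map_id_eq_rTensor {O R R₁ Q : Type u} [CommRing O] [CommRing R] [CommRing R₁]
    [CommRing Q] [Algebra O R] [Algebra O R₁] [Algebra O Q] (π : R →ₐ[O] R₁) (d : R ⊗[O] Q) :
    Algebra.TensorProduct.map π (AlgHom.id O Q) d = LinearMap.rTensor Q π.toLinearMap d := by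
  induction d using TensorProduct.induction_on with
  | zero => rw [map_zero, map_zero]
  | tmul x y => rw [Algebra.TensorProduct.map_tmul, LinearMap.rTensor_tmul]; rfl
  | add x y hx hy => rw [map_add, map_add, hx, hy]

/-- the left exactness condition for abstract algebras -/
def TInj (R D R₁ R₂ : Type u) [CommRing R] [CommRing D] [CommRing R₁] [CommRing R₂]
    [Algebra R D] [Algebra R R₁] [Algebra R R₂] : Prop :=
  ∀ d : D, d ⊗ₜ[R] (1 : R₁) = 0 → d ⊗ₜ[R] (1 : R₂) = 0 → d = 0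

/-- left exactness of the tensored fibre product sequence when the corner ring is flat over the
base -/
theorem torInj_tensor {O R R₁ R₂ R₀ Q : Type u} [CommRing O] [CommRing R] [CommRing R₁]
    [CommRing R₂] [CommRing R₀] [CommRing Q] (ρO : O →+* R) (γ : O →+* Q) (π₁ : R →+* R₁)
    (π₂ : R →+* R₂) (φ : R₁ →+* R₀) (ψ : R₂ →+* R₀) (h : RPB π₁ π₂ φ ψ)
    (hflat : ((φ.comp π₁).comp ρO).Flat) :
    letI := ρO.toAlgebra
    letI := γ.toAlgebra
    @TInj R (R ⊗[O] Q) R₁ R₂ _ _ _ _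
      (Algebra.TensorProduct.includeLeftRingHom : R →+* R ⊗[O] Q).toAlgebra π₁.toAlgebra
      π₂.toAlgebra := by
  letI aR : Algebra O R := ρO.toAlgebra
  letI aQ : Algebra O Q := γ.toAlgebra
  letI b1 : Algebra O R₁ := (π₁.comp ρO).toAlgebra
  letI b2 : Algebra O R₂ := (π₂.comp ρO).toAlgebra
  letI b0 : Algebra O R₀ := ((φ.comp π₁).comp ρO).toAlgebra
  haveI : Module.Flat O R₀ := hflat
  let π₁a : R →ₐ[O] R₁ := { π₁ with commutes' := fun _ => rfl }
  let π₂a : R →ₐ[O] R₂ := { π₂ with commutes' := fun _ => rfl }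
  let φa : R₁ →ₐ[O] R₀ := { φ with commutes' := fun _ => rfl }
  let ψa : R₂ →ₐ[O] R₀ := { ψ with commutes' := fun o => (h.comm (ρO o)).symm }
  intro d h1 h2
  have e1 : (Algebra.TensorProduct.map π₁a (AlgHom.id O Q)) d = 0 :=
    @map_eq_zero_of_tmul_one R (R ⊗[O] Q) R₁ (R₁ ⊗[O] Q) _ _ _ _
      (Algebra.TensorProduct.includeLeftRingHom : R →+* R ⊗[O] Q).toAlgebra π₁.toAlgebra
      (Algebra.TensorProduct.map π₁a (AlgHom.id O Q)).toRingHom
      (Algebra.TensorProduct.includeLeftRingHom : R₁ →+* R₁ ⊗[O] Q)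
      (fun r => by
        show (Algebra.TensorProduct.map π₁a (AlgHom.id O Q)) (r ⊗ₜ[O] (1 : Q)) = _
        rw [Algebra.TensorProduct.map_tmul]
        rfl) d h1
  have e2 : (Algebra.TensorProduct.map π₂a (AlgHom.id O Q)) d = 0 :=
    @map_eq_zero_of_tmul_one R (R ⊗[O] Q) R₂ (R₂ ⊗[O] Q) _ _ _ _
      (Algebra.TensorProduct.includeLeftRingHom : R →+* R ⊗[O] Q).toAlgebra π₂.toAlgebra
      (Algebra.TensorProduct.map π₂a (AlgHom.id O Q)).toRingHom
      (Algebra.TensorProduct.includeLeftRingHom : R₂ →+* R₂ ⊗[O] Q)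
      (fun r => by
        show (Algebra.TensorProduct.map π₂a (AlgHom.id O Q)) (r ⊗ₜ[O] (1 : Q)) = _
        rw [Algebra.TensorProduct.map_tmul]
        rfl) d h2
  rw [map_id_eq_rTensor] at e1 e2
  exact baseInj_of_flat π₁a.toLinearMap π₂a.toLinearMap φa.toLinearMap ψa.toLinearMap
    (fun x => h.comm x) h.surj (fun x hx1 hx2 => h.inj x hx1 hx2)
    (fun b c hbc => h.ex b c hbc) d e1 e2

end rings

section rings2
open TensorProduct

/-- the fibre product of flat algebras along a surjection onto a flat algebra is flat -/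
theorem flat_of_rpb {O R R₁ R₂ R₀ : Type u} [CommRing O] [CommRing R] [CommRing R₁]
    [CommRing R₂] [CommRing R₀] (ρO : O →+* R) (π₁ : R →+* R₁)
    (π₂ : R →+* R₂) (φ : R₁ →+* R₀) (ψ : R₂ →+* R₀) (h : RPB π₁ π₂ φ ψ)
    (h1 : (π₁.comp ρO).Flat) (h2 : (π₂.comp ρO).Flat) (h0 : ((φ.comp π₁).comp ρO).Flat) :
    ρO.Flat := by
  letI aR : Algebra O R := ρO.toAlgebra
  letI b1 : Algebra O R₁ := (π₁.comp ρO).toAlgebra
  letI b2 : Algebra O R₂ := (π₂.comp ρO).toAlgebra
  letI b0 : Algebra O R₀ := ((φ.comp π₁).comp ρO).toAlgebra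
  haveI : Module.Flat O R₀ := h0
  haveI : Module.Flat O R₁ := h1
  haveI : Module.Flat O R₂ := h2
  let π₁a : R →ₐ[O] R₁ := { π₁ with commutes' := fun _ => rfl }
  let π₂a : R →ₐ[O] R₂ := { π₂ with commutes' := fun _ => rfl }
  let φa : R₁ →ₐ[O] R₀ := { φ with commutes' := fun _ => rfl }
  let ψa : R₂ →ₐ[O] R₀ := { ψ with commutes' := fun o => (h.comm (ρO o)).symm }
  exact flat_fibre π₁a.toLinearMap π₂a.toLinearMap φa.toLinearMap ψa.toLinearMap
    (fun x => h.comm x) h.surj (fun x hx1 hx2 => h.inj x hx1 hx2)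
    (fun b c hbc => h.ex b c hbc)

end rings2

section geom
open TensorProduct

theorem flat_of_comp_fromSpec {S : Scheme.{u}} {O : S.Opens} (hO : IsAffineOpen O)
    {A : CommRingCat.{u}} (m : Γ(S, O) ⟶ A) (h : Flat (Spec.map m ≫ hO.fromSpec)) :
    m.hom.Flat := by
  have h1 : Flat (Spec.map m) :=
    MorphismProperty.of_postcomp @Flat (W' := MorphismProperty.monomorphisms Scheme)
      (Spec.map m) hO.fromSpec ((MorphismProperty.monomorphisms.iff _).mpr inferInstance) h
  exact Flat.SpecMap_iff.mp h1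

variable {X Y Z : Scheme.{u}} (i : Z ⟶ X) (j : Z ⟶ Y) [IsClosedImmersion i]
  (HX : ∀ x : X, ∃ α : Idx i j, x ∈ α.U) (HY : ∀ y : Y, ∃ α : Idx i j, y ∈ α.V)
  {P : Scheme.{u}} (a : X ⟶ P) (b : Y ⟶ P) (hP : IsPushout i j a b)

theorem flat_sideX {S : Scheme.{u}} (r : P ⟶ S) [Flat (a ≫ r)] (β : Idx i j)
    (O : S.Opens) (hO : IsAffineOpen O) (ρO : Γ(S, O) ⟶ CommRingCat.of β.R)
    (hρ : Spec.map ρO ≫ hO.fromSpec = kk i j HX HY a b hP β ≫ r) :
    ((sndP β.pp β.qq).comp ρO.hom).Flat := by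
  have e0 : Spec.map (CommRingCat.ofHom ((sndP β.pp β.qq).comp ρO.hom)) =
      Sp (sndP β.pp β.qq) ≫ Spec.map ρO := by
    rw [CommRingCat.ofHom_comp, Spec.map_comp]
    rfl
  have h1 : Sp (sndP β.pp β.qq) ≫ kk i j HX HY a b hP β ≫ r = β.hU.fromSpec ≫ a ≫ r := by
    rw [← Category.assoc, ← kk_a, Category.assoc]
  have e : Spec.map (CommRingCat.ofHom ((sndP β.pp β.qq).comp ρO.hom)) ≫ hO.fromSpec =
      β.hU.fromSpec ≫ a ≫ r := by
    rw [e0, Category.assoc, hρ, h1]
  exact flat_of_comp_fromSpec hO (CommRingCat.ofHom _) (by rw [e]; infer_instance)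

theorem flat_sideY {S : Scheme.{u}} (r : P ⟶ S) [Flat (b ≫ r)] (β : Idx i j)
    (O : S.Opens) (hO : IsAffineOpen O) (ρO : Γ(S, O) ⟶ CommRingCat.of β.R)
    (hρ : Spec.map ρO ≫ hO.fromSpec = kk i j HX HY a b hP β ≫ r) :
    ((fstP β.pp β.qq).comp ρO.hom).Flat := by
  have e0 : Spec.map (CommRingCat.ofHom ((fstP β.pp β.qq).comp ρO.hom)) =
      Sp (fstP β.pp β.qq) ≫ Spec.map ρO := by
    rw [CommRingCat.ofHom_comp, Spec.map_comp]
    rfl
  have h1 : Sp (fstP β.pp β.qq) ≫ kk i j HX HY a b hP β ≫ r = β.hV.fromSpec ≫ b ≫ r := by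
    rw [← Category.assoc, ← kk_b, Category.assoc]
  have e : Spec.map (CommRingCat.ofHom ((fstP β.pp β.qq).comp ρO.hom)) ≫ hO.fromSpec =
      β.hV.fromSpec ≫ b ≫ r := by
    rw [e0, Category.assoc, hρ, h1]
  exact flat_of_comp_fromSpec hO (CommRingCat.ofHom _) (by rw [e]; infer_instance)

theorem flat_corner {S : Scheme.{u}} (r : P ⟶ S) [Flat (i ≫ a ≫ r)] (β : Idx i j)
    (O : S.Opens) (hO : IsAffineOpen O) (ρO : Γ(S, O) ⟶ CommRingCat.of β.R)
    (hρ : Spec.map ρO ≫ hO.fromSpec = kk i j HX HY a b hP β ≫ r) :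
    ((β.pp.comp (sndP β.pp β.qq)).comp ρO.hom).Flat := by
  have e0 : Spec.map (CommRingCat.ofHom ((β.pp.comp (sndP β.pp β.qq)).comp ρO.hom)) =
      Sp β.pp ≫ Sp (sndP β.pp β.qq) ≫ Spec.map ρO := by
    rw [CommRingCat.ofHom_comp, CommRingCat.ofHom_comp, Spec.map_comp, Spec.map_comp,
      Category.assoc]
    rfl
  have h1 : Sp (sndP β.pp β.qq) ≫ kk i j HX HY a b hP β ≫ r = β.hU.fromSpec ≫ a ≫ r := by
    rw [← Category.assoc, ← kk_a, Category.assoc]
  have h2 : Sp β.pp ≫ β.hU.fromSpec ≫ a ≫ r = β.hW.fromSpec ≫ i ≫ a ≫ r := by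
    rw [← Category.assoc, β.wZX, Category.assoc]
  have e : Spec.map (CommRingCat.ofHom ((β.pp.comp (sndP β.pp β.qq)).comp ρO.hom)) ≫
      hO.fromSpec = β.hW.fromSpec ≫ i ≫ a ≫ r := by
    rw [e0, Category.assoc, Category.assoc, hρ, h1, h2]
  exact flat_of_comp_fromSpec hO (CommRingCat.ofHom _) (by rw [e]; infer_instance)

/-- a product chart of a base change of a push-out -/
theorem hloc_of_baseChange_pt {S T F : Scheme.{u}} (r : P ⟶ S) (g : T ⟶ S) (qF : F ⟶ P)
    (sF : F ⟶ T) (hF : IsPullback qF sF r g) (f : F) (β : Idx i j) (O : S.Opens)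
    (hO : IsAffineOpen O) (O' : T.Opens) (hO' : IsAffineOpen O') (e : O' ≤ g ⁻¹ᵁ O)
    (ρO : Γ(S, O) ⟶ CommRingCat.of β.R)
    (hρ : Spec.map ρO ≫ hO.fromSpec = kk i j HX HY a b hP β ≫ r)
    (hfβ : qF f ∈ Set.range (kk i j HX HY a b hP β)) (hfO' : sF f ∈ O')
    (htor : letI := ρO.hom.toAlgebra
            letI := (g.appLE O O' e).hom.toAlgebra
            @TInj β.R (β.R ⊗[Γ(S, O)] Γ(T, O')) Γ(X, β.U) Γ(Y, β.V) _ _ _ _
              (Algebra.TensorProduct.includeLeftRingHom :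
                β.R →+* β.R ⊗[Γ(S, O)] Γ(T, O')).toAlgebra
              (sndP β.pp β.qq).toAlgebra (fstP β.pp β.qq).toAlgebra) :
    ∃ (α : Idx i j) (D : Type u) (_ : CommRing D)
      (κ : Spec (CommRingCat.of D) ⟶ F) (_ : IsOpenImmersion κ) (ρ : α.R →+* D),
      f ∈ Set.range κ ∧ κ ≫ qF = Sp ρ ≫ kk i j HX HY a b hP α ∧ TorInj i j α ρ := by
  letI aR : Algebra Γ(S, O) β.R := ρO.hom.toAlgebra
  letI aQ : Algebra Γ(S, O) Γ(T, O') := (g.appLE O O' e).hom.toAlgebra
  have hγ : Spec.map (g.appLE O O' e) ≫ hO.fromSpec = hO'.fromSpec ≫ g :=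
    IsAffineOpen.SpecMap_appLE_fromSpec g hO hO' e
  have T0 : IsPullback
      (Sp (Algebra.TensorProduct.includeLeftRingHom : β.R →+* β.R ⊗[Γ(S, O)] Γ(T, O')))
      (Sp (Algebra.TensorProduct.includeRight :
        Γ(T, O') →ₐ[Γ(S, O)] β.R ⊗[Γ(S, O)] Γ(T, O')).toRingHom)
      (Spec.map ρO) (Spec.map (g.appLE O O' e)) :=
    isPullback_SpecMap_of_isPushout _ _ _ _
      (CommRingCat.isPushout_tensorProduct Γ(S, O) β.R Γ(T, O'))
  let κ₀ : pullback (Spec.map ρO) (Spec.map (g.appLE O O' e)) ⟶ pullback r g :=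
    pullback.map (Spec.map ρO) (Spec.map (g.appLE O O' e)) r g (kk i j HX HY a b hP β)
      hO'.fromSpec hO.fromSpec hρ hγ
  let κ : Spec (CommRingCat.of (β.R ⊗[Γ(S, O)] Γ(T, O'))) ⟶ F :=
    T0.isoPullback.hom ≫ κ₀ ≫ hF.isoPullback.inv
  haveI : IsOpenImmersion κ := by
    show IsOpenImmersion (T0.isoPullback.hom ≫ κ₀ ≫ hF.isoPullback.inv)
    infer_instance
  have hκq : κ ≫ qF =
      Sp (Algebra.TensorProduct.includeLeftRingHom : β.R →+* β.R ⊗[Γ(S, O)] Γ(T, O')) ≫
        kk i j HX HY a b hP β := by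
    show (T0.isoPullback.hom ≫ κ₀ ≫ hF.isoPullback.inv) ≫ qF = _
    rw [Category.assoc, Category.assoc, hF.isoPullback_inv_fst]
    show T0.isoPullback.hom ≫ pullback.map _ _ _ _ _ _ _ _ _ ≫ pullback.fst r g = _
    rw [pullback.lift_fst, ← Category.assoc, T0.isoPullback_hom_fst]
  have hfκ : f ∈ Set.range κ := by
    have hz : hF.isoPullback.hom f ∈ Set.range κ₀ := by
      rw [Scheme.Pullback.range_map]
      constructor
      · show pullback.fst r g (hF.isoPullback.hom f) ∈ Set.range (kk i j HX HY a b hP β)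
        rw [← Scheme.Hom.comp_apply, hF.isoPullback_hom_fst]
        exact hfβ
      · show pullback.snd r g (hF.isoPullback.hom f) ∈ Set.range hO'.fromSpec
        rw [← Scheme.Hom.comp_apply, hF.isoPullback_hom_snd, hO'.range_fromSpec]
        exact hfO'
    obtain ⟨w, hw⟩ := hz
    refine ⟨T0.isoPullback.inv w, ?_⟩
    show (T0.isoPullback.hom ≫ κ₀ ≫ hF.isoPullback.inv) (T0.isoPullback.inv w) = f
    rw [← Scheme.Hom.comp_apply, Iso.inv_hom_id_assoc, Scheme.Hom.comp_apply, hw,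
      ← Scheme.Hom.comp_apply, Iso.hom_inv_id]
    rfl
  exact ⟨β, β.R ⊗[Γ(S, O)] Γ(T, O'), inferInstance, κ, inferInstance,
    Algebra.TensorProduct.includeLeftRingHom, hfκ, hκq, htor⟩

/-- base change of a push-out whose corner `Z` is flat over the base: local condition -/
theorem hloc_of_flat_corner {S T F : Scheme.{u}} (r : P ⟶ S) (g : T ⟶ S) (qF : F ⟶ P)
    (sF : F ⟶ T) (hF : IsPullback qF sF r g) [Flat (i ≫ a ≫ r)] :
    ∀ f : F, ∃ (α : Idx i j) (D : Type u) (_ : CommRing D)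
      (κ : Spec (CommRingCat.of D) ⟶ F) (_ : IsOpenImmersion κ) (ρ : α.R →+* D),
      f ∈ Set.range κ ∧ κ ≫ qF = Sp ρ ≫ kk i j HX HY a b hP α ∧ TorInj i j α ρ := by
  intro f
  obtain ⟨O, hO, hsO, -⟩ :=
    exists_isAffineOpen_mem_and_subset (x := r (qF f)) (U := ⊤) trivial
  have hgs : g (sF f) = r (qF f) := by
    rw [← Scheme.Hom.comp_apply, ← Scheme.Hom.comp_apply, hF.w]
  have hsO' : sF f ∈ g ⁻¹ᵁ O := by
    show g (sF f) ∈ O
    rw [hgs]
    exact hsO
  obtain ⟨O', hO', hfO', e⟩ := exists_isAffineOpen_mem_and_subset hsO'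
  obtain ⟨β, hfβ, hβO⟩ := kk_small i j HX HY a b hP (qF f) (r ⁻¹ᵁ O) hsO
  have hrange : Set.range (kk i j HX HY a b hP β ≫ r) ⊆ (O : Set S) := by
    rintro _ ⟨w, rfl⟩
    exact hβO ⟨w, rfl⟩
  obtain ⟨ρO, hρ⟩ := exists_factor (kk i j HX HY a b hP β ≫ r) O hO hrange
  refine hloc_of_baseChange_pt i j HX HY a b hP r g qF sF hF f β O hO O' hO' e ρO hρ hfβ hfO' ?_
  exact torInj_tensor ρO.hom (g.appLE O O' e).hom (sndP β.pp β.qq) (fstP β.pp β.qq) β.pp β.qq
    (rpb_FP β.pp β.qq β.pp_surjective) (flat_corner i j HX HY a b hP r β O hO ρO hρ)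

include HX HY hP in
/-- a push-out of flat schemes along a flat corner is flat -/
theorem flat_of_flat_pieces {S : Scheme.{u}} (r : P ⟶ S) [Flat (a ≫ r)] [Flat (b ≫ r)]
    [Flat (i ≫ a ≫ r)] : Flat r := by
  have H : ∀ p : P, ∃ β : Idx i j, p ∈ Set.range (kk i j HX HY a b hP β) ∧
      Flat (kk i j HX HY a b hP β ≫ r) := by
    intro p
    obtain ⟨O, hO, hsO, -⟩ := exists_isAffineOpen_mem_and_subset (x := r p) (U := ⊤) trivial
    obtain ⟨β, hpβ, hβO⟩ := kk_small i j HX HY a b hP p (r ⁻¹ᵁ O) hsO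
    have hrange : Set.range (kk i j HX HY a b hP β ≫ r) ⊆ (O : Set S) := by
      rintro _ ⟨w, rfl⟩
      exact hβO ⟨w, rfl⟩
    obtain ⟨ρO, hρ⟩ := exists_factor (kk i j HX HY a b hP β ≫ r) O hO hrange
    refine ⟨β, hpβ, ?_⟩
    have hfl : ρO.hom.Flat := flat_of_rpb ρO.hom (sndP β.pp β.qq) (fstP β.pp β.qq) β.pp β.qq
      (rpb_FP β.pp β.qq β.pp_surjective) (flat_sideX i j HX HY a b hP r β O hO ρO hρ)
      (flat_sideY i j HX HY a b hP r β O hO ρO hρ) (flat_corner i j HX HY a b hP r β O hO ρO hρ)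
    haveI : Flat (Spec.map ρO) := Flat.SpecMap_iff.mpr hfl
    rw [← hρ]
    infer_instance
  choose β hβ hflat using H
  let 𝒰 : P.OpenCover :=
    { I₀ := P
      X := fun p => Spec (CommRingCat.of (β p).R)
      f := fun p => kk i j HX HY a b hP (β p)
      mem₀ := by
        rw [Scheme.presieve₀_mem_precoverage_iff]
        exact ⟨fun p => ⟨p, hβ p⟩, fun p => inferInstance⟩ }
  exact IsZariskiLocalAtSource.of_openCover (P := @Flat) 𝒰 (fun p => hflat p)

end geom

end Groth.Agent.Helper17.AG81
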