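import Mathlib
import Groth.Agent.Lib.Helper17.AG81

/-!
# Ferrand push-outs of schemes: base change with flat corner (helper17)

`S16715` and `S14098`.
-/

set_option autoImplicit false
universe u
open CategoryTheory CategoryTheory.Limits AlgebraicGeometry Opposite TopologicalSpace

noncomputable section
namespace Groth.Agent.Helper17.AG82
open Groth.Agent.Helper17.AG57 Groth.Agent.Helper17.AG58 Groth.Agent.Helper17.AG68
open Groth.Agent.Helper17.AG69 Groth.Agent.Helper17.AG69.Idx Groth.Agent.Helper17.AG70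
open Groth.Agent.Helper17.AG71 Groth.Agent.Helper17.AG72 Groth.Agent.Helper17.AG73
open Groth.Agent.Helper17.AG75 Groth.Agent.Helper17.AG76 Groth.Agent.Helper17.AG77
open Groth.Agent.Helper17.AG78 Groth.Agent.Helper17.AG79 Groth.Agent.Helper17.AG80
open Groth.Agent.Helper17.AG81
open Groth.Agent.Helper19.FibProd

theorem isPullback_map_id {A B S S' : Scheme.{u}} (v : A ⟶ S) (m : A ⟶ B) (r : B ⟶ S)
    (g : S' ⟶ S) (h1 : v ≫ 𝟙 S = m ≫ r) (h2 : g ≫ 𝟙 S = 𝟙 S' ≫ g) :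
    IsPullback (pullback.fst v g) (pullback.map v g r g m (𝟙 S') (𝟙 S) h1 h2) m
      (pullback.fst r g) := by
  have hv : v = m ≫ r := by rw [← h1, Category.comp_id]
  have e1 : pullback.map v g r g m (𝟙 S') (𝟙 S) h1 h2 ≫ pullback.fst r g =
      pullback.fst v g ≫ m := pullback.lift_fst _ _ _
  have e2 : pullback.map v g r g m (𝟙 S') (𝟙 S) h1 h2 ≫ pullback.snd r g =
      pullback.snd v g := by
    rw [pullback.lift_snd, Category.comp_id]
  have outer : IsPullback (pullback.map v g r g m (𝟙 S') (𝟙 S) h1 h2 ≫ pullback.snd r g)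
      (pullback.fst v g) g (m ≫ r) := by
    rw [e2, ← hv]
    exact (IsPullback.of_hasPullback v g).flip
  exact (IsPullback.of_right outer e1 (IsPullback.of_hasPullback r g).flip).flip

/-- charts of a push-out square with affine legs -/
theorem charts_affine {X₀ X Y₀ Y : Scheme.{u}} (i : X₀ ⟶ X) (f₀ : X₀ ⟶ Y₀) (f : X ⟶ Y)
    [IsAffineHom f] (j : Y₀ ⟶ Y) [IsAffineHom j] (w : i ≫ f = f₀ ≫ j) :
    (∀ x : X, ∃ α : Idx i f₀, x ∈ α.U) ∧ (∀ y : Y₀, ∃ α : Idx i f₀, y ∈ α.V) := by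
  have key : ∀ Ω : Y.Opens, IsAffineOpen Ω →
      ∃ α : Idx i f₀, α.U = f ⁻¹ᵁ Ω ∧ α.V = j ⁻¹ᵁ Ω := by
    intro Ω hΩ
    refine ⟨⟨f ⁻¹ᵁ Ω, j ⁻¹ᵁ Ω, hΩ.preimage f, hΩ.preimage j, ?_⟩, rfl, rfl⟩
    show (i ≫ f) ⁻¹ᵁ Ω = (f₀ ≫ j) ⁻¹ᵁ Ω
    rw [w]
  constructor
  · intro x
    obtain ⟨Ω, hΩ, hx, -⟩ := exists_isAffineOpen_mem_and_subset (x := f x) (U := ⊤) trivial
    obtain ⟨α, hU, -⟩ := key Ω hΩ
    exact ⟨α, by rw [hU]; exact hx⟩
  · intro y
    obtain ⟨Ω, hΩ, hy, -⟩ := exists_isAffineOpen_mem_and_subset (x := j y) (U := ⊤) trivial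
    obtain ⟨α, -, hV⟩ := key Ω hΩ
    exact ⟨α, by rw [hV]; exact hy⟩

/-- `S16715` -/
theorem main16715 {X₀ X Y₀ Y S S' : Scheme.{u}}
    (i : X₀ ⟶ X) [IsClosedImmersion i] (f₀ : X₀ ⟶ Y₀) [IsAffineHom f₀] (f : X ⟶ Y)
    [IsAffineHom f]
    (j : Y₀ ⟶ Y) [IsClosedImmersion j] (hpo : IsPushout i f₀ f j) (hpb : IsPullback i f₀ f j)
    (q : Y ⟶ S) [Flat ((i ≫ f) ≫ q)] (g : S' ⟶ S) :
    IsPushout
      (pullback.map ((i ≫ f) ≫ q) g (f ≫ q) g i (𝟙 S') (𝟙 S)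
        ((Category.comp_id _).trans (Category.assoc i f q))
        ((Category.comp_id g).trans (Category.id_comp g).symm))
      (pullback.map ((i ≫ f) ≫ q) g (j ≫ q) g f₀ (𝟙 S') (𝟙 S)
        ((Category.comp_id _).trans ((congrArg (fun t => t ≫ q) hpo.w).trans
          (Category.assoc f₀ j q)))
        ((Category.comp_id g).trans (Category.id_comp g).symm))
      (pullback.map (f ≫ q) g q g f (𝟙 S') (𝟙 S)
        (Category.comp_id _) ((Category.comp_id g).trans (Category.id_comp g).symm))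
      (pullback.map (j ≫ q) g q g j (𝟙 S') (𝟙 S)
        (Category.comp_id _) ((Category.comp_id g).trans (Category.id_comp g).symm)) := by
  obtain ⟨HX, HY⟩ := charts_affine i f₀ f j hpo.w
  haveI : Flat (i ≫ f ≫ q) := by
    rw [← Category.assoc]
    infer_instance
  refine isPushout_baseChange i f₀ HX HY f j hpo (pullback.fst q g)
    (pullback.fst (f ≫ q) g) _ (isPullback_map_id _ _ _ _ _ _)
    (pullback.fst (j ≫ q) g) _ (isPullback_map_id _ _ _ _ _ _)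
    (pullback.fst ((i ≫ f) ≫ q) g) _ _ (isPullback_map_id _ _ _ _ _ _) ?_ ?_
    (hloc_of_flat_corner i f₀ HX HY f j hpo q g (pullback.fst q g) (pullback.snd q g)
      (IsPullback.of_hasPullback q g))
  · exact pullback.lift_fst _ _ _
  · apply pullback.hom_ext
    · simp only [Category.assoc, pullback.lift_fst, pullback.lift_fst_assoc]
      rw [hpo.w]
    · simp only [Category.assoc, pullback.lift_snd, pullback.lift_snd_assoc, Category.comp_id]

/-- `S14098` -/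
theorem main14098 {S X Y Y' P T XT YT Y'T PT : Scheme.{u}}
    (i : Y ⟶ X) [IsClosedImmersion i] (h : Y ⟶ Y') [IsFinite h] [Flat h] [Surjective h]
    (q : X ⟶ P) [IsAffineHom q] (j : Y' ⟶ P) (hP : IsPushout i h q j)
    (sP : P ⟶ S) [Flat (q ≫ sP)] [Flat (j ≫ sP)] (g : T ⟶ S)
    (pP : PT ⟶ P) (sPT : PT ⟶ T) (hPT : IsPullback pP sPT sP g)
    (pX : XT ⟶ X) (qT : XT ⟶ PT) (hXT : IsPullback pX qT q pP)
    (pY' : Y'T ⟶ Y') (jT : Y'T ⟶ PT) (hY'T : IsPullback pY' jT j pP)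
    (pY : YT ⟶ Y) (iT : YT ⟶ XT) (hYT : IsPullback pY iT i pX)
    (hT : YT ⟶ Y'T) (hhT₁ : hT ≫ pY' = pY ≫ h) (hhT₂ : hT ≫ jT = iT ≫ qT) :
    Flat sP ∧ IsPushout iT hT qT jT := by
  have haff : ∀ y' : Y', ∃ U : X.Opens, IsAffineOpen U ∧ h ⁻¹' {y'} ⊆ (i ⁻¹ᵁ U : Set ↑Y) := by
    intro y'
    obtain ⟨Ω, hΩ, hy, -⟩ := exists_isAffineOpen_mem_and_subset (x := j y') (U := ⊤) trivial
    refine ⟨q ⁻¹ᵁ Ω, hΩ.preimage q, ?_⟩
    intro y hy'
    have hy'' : h y = y' := hy'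
    show (i ≫ q) y ∈ Ω
    rw [hP.w, Scheme.Hom.comp_apply, hy'']
    exact hy
  obtain ⟨HX, HY⟩ := charts0430 i h haff
  haveI : Flat (i ≫ q ≫ sP) := by
    rw [← Category.assoc, hP.w, Category.assoc]
    infer_instance
  exact ⟨flat_of_flat_pieces i h HX HY q j hP sP,
    isPushout_baseChange i h HX HY q j hP pP pX qT hXT pY' jT hY'T pY iT hT hYT hhT₁ hhT₂
      (hloc_of_flat_corner i h HX HY q j hP sP g pP sPT hPT)⟩

end Groth.Agent.Helper17.AG82
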