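import Mathlib
import Groth.Prelude.Def_W4c3jacimperfPinch
import Groth.Agent.Lib.Helper17.AG82

/-!
# Ferrand push-outs: base change when the cokernel of `O_T → ξ_* O_Z` is projective (helper17)

`S15954`.
-/

set_option autoImplicit false
universe u
open CategoryTheory CategoryTheory.Limits AlgebraicGeometry Opposite TopologicalSpace

noncomputable section
namespace Groth.Agent.Helper17.AG83
open Groth.Agent.Helper17.AG57 Groth.Agent.Helper17.AG58 Groth.Agent.Helper17.AG68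
open Groth.Agent.Helper17.AG69 Groth.Agent.Helper17.AG69.Idx Groth.Agent.Helper17.AG70
open Groth.Agent.Helper17.AG71 Groth.Agent.Helper17.AG72 Groth.Agent.Helper17.AG73
open Groth.Agent.Helper17.AG75 Groth.Agent.Helper17.AG76 Groth.Agent.Helper17.AG77
open Groth.Agent.Helper17.AG78 Groth.Agent.Helper17.AG79 Groth.Agent.Helper17.AG80
open Groth.Agent.Helper17.AG81 Groth.Agent.Helper17.AG82
open Groth.Agent.Helper19.FibProd

section rings
open TensorProduct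

/-- left exactness of the tensored fibre product sequence when `R₂ → R₀` is injective with flat
cokernel -/
theorem torInj_tensor_of_coker {O R R₁ R₂ R₀ Q C : Type u} [CommRing O] [CommRing R]
    [CommRing R₁] [CommRing R₂] [CommRing R₀] [CommRing Q] [AddCommGroup C] [Module O C]
    [Module.Flat O C]
    (ρO : O →+* R) (γ : O →+* Q) (π₁ : R →+* R₁)
    (π₂ : R →+* R₂) (φ : R₁ →+* R₀) (ψ : R₂ →+* R₀) (h : RPB π₁ π₂ φ ψ)
    (hψ : Function.Injective ψ) (c : R₀ →+ C)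
    (hc : ∀ (o : O) (x : R₀), c (φ (π₁ (ρO o)) * x) = o • c x)
    (hcs : Function.Surjective c) (hker : ∀ x, c x = 0 ↔ x ∈ Set.range ψ) :
    letI := ρO.toAlgebra
    letI := γ.toAlgebra
    @TInj R (R ⊗[O] Q) R₁ R₂ _ _ _ _
      (Algebra.TensorProduct.includeLeftRingHom : R →+* R ⊗[O] Q).toAlgebra π₁.toAlgebra
      π₂.toAlgebra := by
  letI aR : Algebra O R := ρO.toAlgebra
  letI aQ : Algebra O Q := γ.toAlgebra
  letI b1 : Algebra O R₁ := (π₁.comp ρO).toAlgebra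
  let π₁a : R →ₐ[O] R₁ := { π₁ with commutes' := fun _ => rfl }
  let gl : R₁ →ₗ[O] C :=
    { toFun := fun x => c (φ x)
      map_add' := fun x y => by rw [map_add, map_add]
      map_smul' := fun o x => by
        show c (φ (o • x)) = o • c (φ x)
        rw [Algebra.smul_def, map_mul]
        exact hc o (φ x) }
  intro d h1 _
  have e1 : (Algebra.TensorProduct.map π₁a (AlgHom.id O Q)) d = 0 :=
    @map_eq_zero_of_tmul_one R (R ⊗[O] Q) R₁ (R₁ ⊗[O] Q) _ _ _ _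
      (Algebra.TensorProduct.includeLeftRingHom : R →+* R ⊗[O] Q).toAlgebra π₁.toAlgebra
      (Algebra.TensorProduct.map π₁a (AlgHom.id O Q)).toRingHom
      (Algebra.TensorProduct.includeLeftRingHom : R₁ →+* R₁ ⊗[O] Q)
      (fun r => by
        show (Algebra.TensorProduct.map π₁a (AlgHom.id O Q)) (r ⊗ₜ[O] (1 : Q)) = _
        rw [Algebra.TensorProduct.map_tmul]
        rfl) d h1
  rw [map_id_eq_rTensor] at e1
  have hf : Function.Injective π₁a.toLinearMap := by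
    intro x y hxy
    have hxy' : π₁ x = π₁ y := hxy
    refine h.ext' hxy' (hψ ?_)
    rw [← h.comm, ← h.comm, hxy']
  have hfg : Function.Exact π₁a.toLinearMap gl := by
    intro b
    constructor
    · intro hb
      have hb' : c (φ b) = 0 := hb
      obtain ⟨y, hy⟩ := (hker _).mp hb'
      obtain ⟨x, hx1, -⟩ := h.ex b y hy.symm
      exact ⟨x, hx1⟩
    · rintro ⟨x, rfl⟩
      show c (φ (π₁ x)) = 0
      rw [h.comm]
      exact (hker _).mpr ⟨_, rfl⟩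
  have hg : Function.Surjective gl := by
    intro z
    obtain ⟨y, rfl⟩ := hcs z
    obtain ⟨b, rfl⟩ := h.surj y
    exact ⟨b, rfl⟩
  have hI := rTensor_injective_of_flat_coker (M := Q) π₁a.toLinearMap gl hf hfg hg
  apply hI
  rw [map_zero]
  exact e1

theorem tInj_of_bijective {R D R₁ R₂ : Type u} [CommRing R] [CommRing D] [CommRing R₁]
    [CommRing R₂] [Algebra R D] [Algebra R R₁] [Algebra R R₂]
    (hb : Function.Bijective (algebraMap R R₁)) : TInj R D R₁ R₂ := by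
  intro d h1 _
  let e : R ≃+* R₁ := RingEquiv.ofBijective (algebraMap R R₁) hb
  have h := map_eq_zero_of_tmul_one (RingHom.id D) ((algebraMap R D).comp e.symm.toRingHom)
    (fun r => by
      show algebraMap R D r = algebraMap R D (e.symm (algebraMap R R₁ r))
      have : e.symm (algebraMap R R₁ r) = r := e.symm_apply_apply r
      rw [this]) d h1
  exact h

end rings

section geom
open TensorProduct

variable {X Y Z : Scheme.{u}} (i : Z ⟶ X) (j : Z ⟶ Y) [IsClosedImmersion i]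
  (HX : ∀ x : X, ∃ α : Idx i j, x ∈ α.U) (HY : ∀ y : Y, ∃ α : Idx i j, y ∈ α.V)
  {P : Scheme.{u}} (a : X ⟶ P) (b : Y ⟶ P) (hP : IsPushout i j a b)

/-- a chart on which the left exactness holds for every base change -/
theorem hloc_pt_of_forall {F : Scheme.{u}} (q : F ⟶ P) (f : F) (α : Idx i j)
    (hα : q f ∈ Set.range (kk i j HX HY a b hP α))
    (H : ∀ (D : Type u) [CommRing D] (ρ : α.R →+* D), TorInj i j α ρ) :
    ∃ (α : Idx i j) (D : Type u) (_ : CommRing D)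
      (κ : Spec (CommRingCat.of D) ⟶ F) (_ : IsOpenImmersion κ) (ρ : α.R →+* D),
      f ∈ Set.range κ ∧ κ ≫ q = Sp ρ ≫ kk i j HX HY a b hP α ∧ TorInj i j α ρ := by
  have hfO : f ∈ q ⁻¹ᵁ (kk i j HX HY a b hP α).opensRange := hα
  obtain ⟨V, hV, hfV, hVO⟩ := exists_isAffineOpen_mem_and_subset hfO
  have hr : Set.range (hV.fromSpec ≫ q) ⊆ Set.range (kk i j HX HY a b hP α) := by
    rintro _ ⟨t, rfl⟩
    exact hVO (fromSpec_mem hV t)
  let l : Spec Γ(F, V) ⟶ Spec (CommRingCat.of α.R) :=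
    IsOpenImmersion.lift (kk i j HX HY a b hP α) (hV.fromSpec ≫ q) hr
  have hl : l ≫ kk i j HX HY a b hP α = hV.fromSpec ≫ q := IsOpenImmersion.lift_fac _ _ _
  have hρ' : Spec.map (Spec.preimage l) = l := Spec.map_preimage l
  refine ⟨α, Γ(F, V), inferInstance, hV.fromSpec, inferInstance, (Spec.preimage l).hom,
    exists_fromSpec_eq hV f hfV, ?_, H _ _⟩
  rw [← hl]
  exact congrArg (fun m => m ≫ kk i j HX HY a b hP α) hρ'.symm

include HX HY hP in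
theorem mem_range_a_or_b (π : P) : π ∈ Set.range a ∨ π ∈ Set.range b := by
  obtain ⟨β, w, rfl⟩ := kk_surj i j HX HY a b hP π
  rcases AG58.exists_point (rpb_FP β.pp β.qq β.pp_surjective) w with ⟨w', hw'⟩ | ⟨w', hw'⟩
  · left
    refine ⟨β.hU.fromSpec w', ?_⟩
    rw [← hw', ← Scheme.Hom.comp_apply, ← Scheme.Hom.comp_apply, kk_a]
  · right
    refine ⟨β.hV.fromSpec w', ?_⟩
    rw [← hw', ← Scheme.Hom.comp_apply, ← Scheme.Hom.comp_apply, kk_b]

theorem a_mem_range_kk (β : Idx i j) (x : X) (hx : x ∈ β.U) :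
    a x ∈ Set.range (kk i j HX HY a b hP β) := by
  obtain ⟨x', rfl⟩ := exists_fromSpec_eq β.hU x hx
  refine ⟨Sp (sndP β.pp β.qq) x', ?_⟩
  rw [← Scheme.Hom.comp_apply, ← Scheme.Hom.comp_apply, kk_a]

theorem b_mem_range_kk (β : Idx i j) (y : Y) (hy : y ∈ β.V) :
    b y ∈ Set.range (kk i j HX HY a b hP β) := by
  obtain ⟨y', rfl⟩ := exists_fromSpec_eq β.hV y hy
  refine ⟨Sp (fstP β.pp β.qq) y', ?_⟩
  rw [← Scheme.Hom.comp_apply, ← Scheme.Hom.comp_apply, kk_b]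

theorem range_kk_comp_subset {S : Scheme.{u}} (r : P ⟶ S) (β : Idx i j) (O : S.Opens)
    (hX : β.U ≤ (a ≫ r) ⁻¹ᵁ O) (hY : β.V ≤ (b ≫ r) ⁻¹ᵁ O) :
    Set.range (kk i j HX HY a b hP β ≫ r) ⊆ (O : Set S) := by
  rintro _ ⟨w, rfl⟩
  rcases AG58.exists_point (rpb_FP β.pp β.qq β.pp_surjective) w with ⟨w', hw'⟩ | ⟨w', hw'⟩
  · have e : Sp (sndP β.pp β.qq) ≫ kk i j HX HY a b hP β ≫ r = β.hU.fromSpec ≫ a ≫ r := by
      rw [← Category.assoc, ← kk_a, Category.assoc]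
    have h1 : (kk i j HX HY a b hP β ≫ r) w = (a ≫ r) (β.hU.fromSpec w') := by
      rw [← hw', ← Scheme.Hom.comp_apply, ← Scheme.Hom.comp_apply, e]
    rw [h1]
    exact hX (fromSpec_mem β.hU w')
  · have e : Sp (fstP β.pp β.qq) ≫ kk i j HX HY a b hP β ≫ r = β.hV.fromSpec ≫ b ≫ r := by
      rw [← Category.assoc, ← kk_b, Category.assoc]
    have h1 : (kk i j HX HY a b hP β ≫ r) w = (b ≫ r) (β.hV.fromSpec w') := by
      rw [← hw', ← Scheme.Hom.comp_apply, ← Scheme.Hom.comp_apply, e]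
    rw [h1]
    exact hY (fromSpec_mem β.hV w')

omit [IsClosedImmersion i] in
theorem qq_injective [IsAffineHom i] [Flat j] [Surjective j] (α : Idx i j) :
    Function.Injective α.qq := by
  have hfl : α.qq.Flat := Flat.flat_appLE j α.hV α.hW (le_of_eq α.h)
  have hsurj : Function.Surjective (PrimeSpectrum.comap α.qq) := by
    intro (𝔭 : ↥(Spec Γ(Y, α.V)))
    obtain ⟨z, hz⟩ := j.surjective (α.hV.fromSpec 𝔭)
    have hzW : z ∈ i ⁻¹ᵁ α.U := by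
      rw [α.h]
      show j z ∈ α.V
      rw [hz]
      exact fromSpec_mem α.hV 𝔭
    obtain ⟨𝔮, h𝔮⟩ := exists_fromSpec_eq α.hW z hzW
    refine ⟨𝔮, ?_⟩
    apply α.hV.fromSpec.isOpenEmbedding.injective
    show α.hV.fromSpec ((Sp α.qq) 𝔮) = α.hV.fromSpec 𝔭
    rw [← Scheme.Hom.comp_apply, α.wZY, Scheme.Hom.comp_apply, h𝔮, hz]
  exact (RingHom.FaithfullyFlat.iff_flat_and_comap_surjective.mpr ⟨hfl, hsurj⟩).injective

omit [IsClosedImmersion i] in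
theorem sndP_bijective_of_bot (α : Idx i j) (hV : α.V = ⊥) :
    Function.Bijective (sndP α.pp α.qq) := by
  haveI s1 : Subsingleton Γ(Y, α.V) := by
    rw [hV]
    infer_instance
  haveI s2 : Subsingleton Γ(Z, i ⁻¹ᵁ α.U) := by
    rw [α.h, hV]
    show Subsingleton Γ(Z, ⊥)
    infer_instance
  constructor
  · intro x y hxy
    exact Groth.Agent.Helper19.FibProd.ext (Subsingleton.elim _ _) hxy
  · intro u
    exact ⟨mkP α.pp α.qq 0 u (Subsingleton.elim _ _), rfl⟩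

theorem exists_idx_bot (x : X) (hx : x ∉ Set.range i) :
    ∃ α : Idx i j, x ∈ α.U ∧ α.V = ⊥ := by
  have hcl : IsClosed (Set.range i) := i.isClosedEmbedding.isClosed_range
  let O : X.Opens := ⟨(Set.range i)ᶜ, hcl.isOpen_compl⟩
  have hxO : x ∈ O := hx
  obtain ⟨U, hU, hxU, hUO⟩ := exists_isAffineOpen_mem_and_subset hxO
  refine ⟨⟨U, ⊥, hU, isAffineOpen_bot Y, ?_⟩, hxU, rfl⟩
  ext z
  constructor
  · intro hz
    have h1 : i z ∈ (O : Set X) := hUO hz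
    exact absurd ⟨z, rfl⟩ h1
  · intro hz
    exact (show j z ∈ (⊥ : Y.Opens) from hz).elim

/-- points outside the image of `Y` -/
theorem hloc_pt_of_not_mem_range_b {F : Scheme.{u}} (q : F ⟶ P) (f : F)
    (hf : q f ∉ Set.range b) :
    ∃ (α : Idx i j) (D : Type u) (_ : CommRing D)
      (κ : Spec (CommRingCat.of D) ⟶ F) (_ : IsOpenImmersion κ) (ρ : α.R →+* D),
      f ∈ Set.range κ ∧ κ ≫ q = Sp ρ ≫ kk i j HX HY a b hP α ∧ TorInj i j α ρ := by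
  rcases mem_range_a_or_b i j HX HY a b hP (q f) with ⟨x, hx⟩ | hb
  · have hxi : x ∉ Set.range i := by
      rintro ⟨z, rfl⟩
      apply hf
      refine ⟨j z, ?_⟩
      rw [← hx, ← Scheme.Hom.comp_apply, ← Scheme.Hom.comp_apply, hP.w]
    obtain ⟨α, hxα, hαV⟩ := exists_idx_bot i j x hxi
    refine hloc_pt_of_forall i j HX HY a b hP q f α ?_ ?_
    · rw [← hx]
      exact a_mem_range_kk i j HX HY a b hP α x hxα
    · intro D _ ρ
      exact @tInj_of_bijective α.R D Γ(X, α.U) Γ(Y, α.V) _ _ _ _ ρ.toAlgebra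
        (sndP α.pp α.qq).toAlgebra (fstP α.pp α.qq).toAlgebra
        (sndP_bijective_of_bot i j α hαV)
  · exact absurd hb hf

end geom

section main
open TensorProduct

/-- points in the image of `T` -/
theorem hloc_pt_of_mem_range_b {X Y T Z : Scheme.{u}} (f : X ⟶ Y) (t : T ⟶ Y) (ξ : Z ⟶ T)
    (ι : Z ⟶ X) [IsAffineHom t] [IsClosedImmersion ι] (hsq : ι ≫ f = ξ ≫ t)
    (HX : ∀ x : X, ∃ α : Idx ι ξ, x ∈ α.U) (HY : ∀ y : T, ∃ α : Idx ι ξ, y ∈ α.V)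
    {P : Scheme.{u}} (a : X ⟶ P) (b : T ⟶ P) (hP : IsPushout ι ξ a b)
    [Flat ξ] [Surjective ξ]
    (p : P ⟶ Y) (hap : a ≫ p = f) (hbp : b ≫ p = t) {Y' : Scheme.{u}} (g : Y' ⟶ Y)
    (U : Y.Opens) (hU : IsAffineOpen U) (V : X.Opens) (hV : IsAffineOpen V)
    (hVU : V ≤ f ⁻¹ᵁ U) (hz : ∀ z : Z, (ξ ≫ t).base z ∈ U → ι.base z ∈ V)
    (hproj : @Pinch.CokerProjective Γ(Y, U) Γ(Z, (ξ ≫ t) ⁻¹ᵁ U) Γ(T, t ⁻¹ᵁ U) _ _ _
      ((ξ ≫ t).app U).hom.toAlgebra (ξ.app (t ⁻¹ᵁ U)).hom)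
    (f' : (pullback p g : Scheme.{u})) (τ : T) (hτ : t τ ∈ U)
    (hf' : pullback.fst p g f' = b τ) :
    ∃ (α : Idx ι ξ) (D : Type u) (_ : CommRing D)
      (κ : Spec (CommRingCat.of D) ⟶ pullback p g) (_ : IsOpenImmersion κ) (ρ : α.R →+* D),
      f' ∈ Set.range κ ∧ κ ≫ pullback.fst p g = Sp ρ ≫ kk ι ξ HX HY a b hP α ∧
        TorInj ι ξ α ρ := by
  have e : ι ⁻¹ᵁ V = ξ ⁻¹ᵁ (t ⁻¹ᵁ U) := by
    ext z
    constructor
    · intro hzV
      have h1 : ι z ∈ f ⁻¹ᵁ U := hVU hzV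
      have h2 : (ι ≫ f) z ∈ U := h1
      rw [hsq] at h2
      exact h2
    · intro hzU
      exact hz z hzU
  let β : Idx ι ξ := ⟨V, t ⁻¹ᵁ U, hV, hU.preimage t, e⟩
  have hfβ : pullback.fst p g f' ∈ Set.range (kk ι ξ HX HY a b hP β) := by
    rw [hf']
    exact b_mem_range_kk ι ξ HX HY a b hP β τ hτ
  have hrange : Set.range (kk ι ξ HX HY a b hP β ≫ p) ⊆ (U : Set Y) := by
    apply range_kk_comp_subset ι ξ HX HY a b hP p β U
    · rw [hap]
      exact hVU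
    · rw [hbp]
  obtain ⟨ρO, hρ⟩ := exists_factor (kk ι ξ HX HY a b hP β ≫ p) U hU hrange
  have hgs : g (pullback.snd p g f') = t τ := by
    rw [← Scheme.Hom.comp_apply, ← pullback.condition, Scheme.Hom.comp_apply, hf',
      ← Scheme.Hom.comp_apply, hbp]
  have hsO' : pullback.snd p g f' ∈ g ⁻¹ᵁ U := by
    show g (pullback.snd p g f') ∈ U
    rw [hgs]
    exact hτ
  obtain ⟨O', hO', hfO', e'⟩ := exists_isAffineOpen_mem_and_subset hsO'
  refine hloc_of_baseChange_pt ι ξ HX HY a b hP p g (pullback.fst p g) (pullback.snd p g)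
    (IsPullback.of_hasPullback p g) f' β U hU O' hO' e' ρO hρ hfβ hfO' ?_
  -- the algebraic input
  have h12 : ι ⁻¹ᵁ V ≤ (ξ ≫ t) ⁻¹ᵁ U := le_of_eq e
  have h21 : (ξ ≫ t) ⁻¹ᵁ U ≤ ι ⁻¹ᵁ V := le_of_eq e.symm
  let res₁₂ : Γ(Z, ι ⁻¹ᵁ V) →+* Γ(Z, (ξ ≫ t) ⁻¹ᵁ U) := (Z.presheaf.map (homOfLE h21).op).hom
  let res₂₁ : Γ(Z, (ξ ≫ t) ⁻¹ᵁ U) →+* Γ(Z, ι ⁻¹ᵁ V) := (Z.presheaf.map (homOfLE h12).op).hom
  have hres1 : ∀ x, res₁₂ (res₂₁ x) = x := fun x =>
    (res_res Z h21 h12 x).trans (res_self Z _ x)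
  have hres2 : ∀ x, res₂₁ (res₁₂ x) = x := fun x =>
    (res_res Z h12 h21 x).trans (res_self Z _ x)
  have hqq : ∀ s : Γ(T, t ⁻¹ᵁ U), β.qq s = res₂₁ ((ξ.app (t ⁻¹ᵁ U)).hom s) := fun s => rfl
  have hcomp : ∀ o : Γ(Y, U),
      ((ξ ≫ t).app U).hom o = (ξ.app (t ⁻¹ᵁ U)).hom ((t.app U).hom o) := fun o => rfl
  have key : ∀ o : Γ(Y, U),
      res₁₂ (β.pp (sndP β.pp β.qq (ρO.hom o))) = ((ξ ≫ t).app U).hom o := by
    have e0 : Spec.map (CommRingCat.ofHom ((β.pp.comp (sndP β.pp β.qq)).comp ρO.hom)) =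
        Sp β.pp ≫ Sp (sndP β.pp β.qq) ≫ Spec.map ρO := by
      rw [CommRingCat.ofHom_comp, CommRingCat.ofHom_comp, Spec.map_comp, Spec.map_comp,
        Category.assoc]
      rfl
    have h1 : Sp (sndP β.pp β.qq) ≫ kk ι ξ HX HY a b hP β ≫ p = β.hU.fromSpec ≫ a ≫ p := by
      rw [← Category.assoc, ← kk_a, Category.assoc]
    have h2 : Sp β.pp ≫ β.hU.fromSpec ≫ a ≫ p = β.hW.fromSpec ≫ ι ≫ a ≫ p := by
      rw [← Category.assoc, β.wZX, Category.assoc]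
    have h3 : ι ≫ a ≫ p = ξ ≫ t := by rw [hap, hsq]
    have E1 : Spec.map (CommRingCat.ofHom ((β.pp.comp (sndP β.pp β.qq)).comp ρO.hom)) ≫
        hU.fromSpec = β.hW.fromSpec ≫ ξ ≫ t := by
      rw [e0, Category.assoc, Category.assoc, hρ, h1, h2, h3]
    have E2 : Spec.map ((ξ ≫ t).appLE U (ι ⁻¹ᵁ V) h12) ≫ hU.fromSpec =
        β.hW.fromSpec ≫ ξ ≫ t :=
      IsAffineOpen.SpecMap_appLE_fromSpec (ξ ≫ t) hU β.hW h12
    have E3 : CommRingCat.ofHom ((β.pp.comp (sndP β.pp β.qq)).comp ρO.hom) =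
        (ξ ≫ t).appLE U (ι ⁻¹ᵁ V) h12 := by
      apply Spec.map_injective
      rw [← cancel_mono hU.fromSpec, E1, E2]
    have E5 : (ξ ≫ t).appLE U (ι ⁻¹ᵁ V) h12 ≫ Z.presheaf.map (homOfLE h21).op =
        (ξ ≫ t).app U := by
      rw [Scheme.Hom.appLE_map]
      exact (Scheme.Hom.app_eq_appLE (ξ ≫ t)).symm
    intro o
    have E4 : β.pp (sndP β.pp β.qq (ρO.hom o)) = ((ξ ≫ t).appLE U (ι ⁻¹ᵁ V) h12).hom o :=
      congrArg (fun m => m.hom o) E3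
    rw [E4]
    exact congrArg (fun m => m.hom o) E5
  letI algZ : Algebra Γ(Y, U) Γ(Z, (ξ ≫ t) ⁻¹ᵁ U) := ((ξ ≫ t).app U).hom.toAlgebra
  let N : Submodule Γ(Y, U) Γ(Z, (ξ ≫ t) ⁻¹ᵁ U) :=
    Submodule.span Γ(Y, U) (Set.range (ξ.app (t ⁻¹ᵁ U)).hom)
  haveI hprojI : Module.Projective Γ(Y, U) (Γ(Z, (ξ ≫ t) ⁻¹ᵁ U) ⧸ N) := hproj
  let N' : Submodule Γ(Y, U) Γ(Z, (ξ ≫ t) ⁻¹ᵁ U) :=
    { carrier := Set.range (ξ.app (t ⁻¹ᵁ U)).hom
      add_mem' := by
        rintro _ _ ⟨s₁, rfl⟩ ⟨s₂, rfl⟩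
        exact ⟨s₁ + s₂, map_add _ _ _⟩
      zero_mem' := ⟨0, map_zero _⟩
      smul_mem' := by
        rintro o _ ⟨s, rfl⟩
        refine ⟨(t.app U).hom o * s, ?_⟩
        rw [map_mul, ← hcomp]
        exact (Algebra.smul_def o _).symm }
  have hN : N ≤ N' := Submodule.span_le.mpr (fun y hy => hy)
  let c : Γ(Z, ι ⁻¹ᵁ V) →+ (Γ(Z, (ξ ≫ t) ⁻¹ᵁ U) ⧸ N) :=
    N.mkQ.toAddMonoidHom.comp res₁₂.toAddMonoidHom
  have hc : ∀ (o : Γ(Y, U)) (x : Γ(Z, ι ⁻¹ᵁ V)),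
      c (β.pp (sndP β.pp β.qq (ρO.hom o)) * x) = o • c x := by
    intro o x
    have h2 : res₁₂ (β.pp (sndP β.pp β.qq (ρO.hom o)) * x) = o • res₁₂ x := by
      rw [map_mul, key o]
      exact (Algebra.smul_def o (res₁₂ x)).symm
    show N.mkQ (res₁₂ (β.pp (sndP β.pp β.qq (ρO.hom o)) * x)) = o • N.mkQ (res₁₂ x)
    rw [h2]
    exact N.mkQ.map_smul o (res₁₂ x)
  have hcs : Function.Surjective c := by
    intro y
    obtain ⟨x, rfl⟩ := N.mkQ_surjective y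
    exact ⟨res₂₁ x, congrArg N.mkQ (hres1 x)⟩
  have hker : ∀ x : Γ(Z, ι ⁻¹ᵁ V), c x = 0 ↔ x ∈ Set.range β.qq := by
    intro x
    have h0 : c x = 0 ↔ res₁₂ x ∈ N := Submodule.Quotient.mk_eq_zero N
    rw [h0]
    constructor
    · intro hx
      obtain ⟨s, hs⟩ := hN hx
      refine ⟨s, ?_⟩
      rw [hqq, hs, hres2]
    · rintro ⟨s, rfl⟩
      apply Submodule.subset_span
      refine ⟨s, ?_⟩
      rw [hqq, hres1]
  exact torInj_tensor_of_coker (C := Γ(Z, (ξ ≫ t) ⁻¹ᵁ U) ⧸ N) ρO.hom (g.appLE U O' e').hom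
    (sndP β.pp β.qq) (fstP β.pp β.qq) β.pp β.qq
    (rpb_FP β.pp β.qq β.pp_surjective) (qq_injective ι ξ β) c hc hcs hker

/-- `S15954` -/
theorem main15954 {X Y T Z : Scheme.{u}} (f : X ⟶ Y) (t : T ⟶ Y) (ξ : Z ⟶ T) (ι : Z ⟶ X)
    [IsAffineHom t] [IsClosedImmersion ι] (hsq : ι ≫ f = ξ ≫ t)
    (hstd : ∀ y : Y, ∃ U : Y.Opens, IsAffineOpen U ∧ y ∈ U ∧ ∃ V : X.Opens, IsAffineOpen V ∧
      V ≤ f ⁻¹ᵁ U ∧ ∀ z : Z, (ξ ≫ t).base z ∈ U → ι.base z ∈ V)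
    {P : Scheme.{u}} (a : X ⟶ P) (b : T ⟶ P) (hP : IsPushout ι ξ a b)
    [Flat ξ] [Surjective ξ]
    (hv : ∀ U : Y.affineOpens,
      @Pinch.CokerProjective Γ(Y, U) Γ(Z, (ξ ≫ t) ⁻¹ᵁ U) Γ(T, t ⁻¹ᵁ U) _ _ _
        ((ξ ≫ t).app U).hom.toAlgebra (ξ.app (t ⁻¹ᵁ U)).hom)
    (p : P ⟶ Y) (hap : a ≫ p = f) (hbp : b ≫ p = t) {Y' : Scheme.{u}} (g : Y' ⟶ Y) :
    IsPushout ((Over.pullback g).map (Over.homMk ι hsq : Over.mk (ξ ≫ t) ⟶ Over.mk f)).left
      ((Over.pullback g).map (Over.homMk ξ rfl : Over.mk (ξ ≫ t) ⟶ Over.mk t)).left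
      ((Over.pullback g).map (Over.homMk a hap : Over.mk f ⟶ Over.mk p)).left
      ((Over.pullback g).map (Over.homMk b hbp : Over.mk t ⟶ Over.mk p)).left := by
  obtain ⟨HX, HY⟩ := charts15943 f t ξ ι hsq hstd
  have comm : (Over.pullback g).map (Over.homMk ξ rfl : Over.mk (ξ ≫ t) ⟶ Over.mk t) ≫
      (Over.pullback g).map (Over.homMk b hbp : Over.mk t ⟶ Over.mk p) =
      (Over.pullback g).map (Over.homMk ι hsq : Over.mk (ξ ≫ t) ⟶ Over.mk f) ≫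
      (Over.pullback g).map (Over.homMk a hap : Over.mk f ⟶ Over.mk p) := by
    rw [← Functor.map_comp, ← Functor.map_comp]
    congr 1
    apply Over.OverMorphism.ext
    exact hP.w.symm
  refine isPushout_baseChange ι ξ HX HY a b hP (pullback.fst p g)
    (pullback.fst f g) ((Over.pullback g).map (Over.homMk a hap : Over.mk f ⟶ Over.mk p)).left
    (isPullback_overPullback_map g (Over.homMk a hap : Over.mk f ⟶ Over.mk p))
    (pullback.fst t g) ((Over.pullback g).map (Over.homMk b hbp : Over.mk t ⟶ Over.mk p)).left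
    (isPullback_overPullback_map g (Over.homMk b hbp : Over.mk t ⟶ Over.mk p))
    (pullback.fst (ξ ≫ t) g)
    ((Over.pullback g).map (Over.homMk ι hsq : Over.mk (ξ ≫ t) ⟶ Over.mk f)).left
    ((Over.pullback g).map (Over.homMk ξ rfl : Over.mk (ξ ≫ t) ⟶ Over.mk t)).left
    (isPullback_overPullback_map g (Over.homMk ι hsq : Over.mk (ξ ≫ t) ⟶ Over.mk f)) ?_ ?_ ?_
  · exact pullback.lift_fst _ _ _
  · exact congrArg (fun m => m.left) comm
  · intro f'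
    by_cases hb : pullback.fst p g f' ∈ Set.range b
    · obtain ⟨τ, hτ⟩ := hb
      obtain ⟨U, hU, hyU, V, hV, hVU, hz⟩ := hstd (t τ)
      exact hloc_pt_of_mem_range_b f t ξ ι hsq HX HY a b hP p hap hbp g U hU V hV hVU hz
        (hv ⟨U, hU⟩) f' τ hyU hτ.symm
    · exact hloc_pt_of_not_mem_range_b ι ξ HX HY a b hP (pullback.fst p g) f' hb

end main

end Groth.Agent.Helper17.AG83
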