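import Mathlib
import Groth.Agent.Lib.Helper17.AG83

/-!
# Push-outs of ringed spaces that are schemes are push-outs of schemes (helper17)

`S17903`.
-/

set_option autoImplicit false
universe u
open CategoryTheory CategoryTheory.Limits AlgebraicGeometry Opposite TopologicalSpace

noncomputable section
namespace Groth.Agent.Helper17.AG84
open Groth.Agent.Helper17.AG57 Groth.Agent.Helper17.AG58 Groth.Agent.Helper17.AG68
open Groth.Agent.Helper17.AG69 Groth.Agent.Helper17.AG69.Idx Groth.Agent.Helper17.AG70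
open Groth.Agent.Helper17.AG71 Groth.Agent.Helper17.AG72 Groth.Agent.Helper17.AG73
open Groth.Agent.Helper17.AG75 Groth.Agent.Helper17.AG76 Groth.Agent.Helper17.AG77
open Groth.Agent.Helper17.AG78 Groth.Agent.Helper17.AG79 Groth.Agent.Helper17.AG80
open Groth.Agent.Helper17.AG81 Groth.Agent.Helper17.AG82 Groth.Agent.Helper17.AG83
open Groth.Agent.Helper19.FibProd

/-- the forgetful functor from schemes to ringed spaces -/
abbrev Fsh : Scheme.{u} ⥤ SheafedSpace CommRingCat.{u} :=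
  Scheme.forgetToLocallyRingedSpace ⋙ LocallyRingedSpace.forgetToSheafedSpace

/-- joint surjectivity for a push-out of sheafed spaces -/
theorem jointly_surjective_of_isPushout {A B C D : SheafedSpace.{u+1, u, u} CommRingCat.{u}} {f : A ⟶ B}
    {g : A ⟶ C} {h : B ⟶ D} {k : C ⟶ D} (hpo : IsPushout f g h k) (d : D) :
    (∃ b : B, h.hom.base b = d) ∨ (∃ c : C, k.hom.base c = d) := by
  have hT : IsPushout ((SheafedSpace.forget.{u+1, u, u} CommRingCat.{u}).map f)
      ((SheafedSpace.forget.{u+1, u, u} CommRingCat.{u}).map g)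
      ((SheafedSpace.forget.{u+1, u, u} CommRingCat.{u}).map h) ((SheafedSpace.forget.{u+1, u, u} CommRingCat.{u}).map k) :=
    hpo.map (SheafedSpace.forget.{u+1, u, u} CommRingCat.{u})
  obtain ⟨j, y, hy⟩ := Concrete.isColimit_exists_rep _ hT.isColimit d
  rcases j with _ | _ | _
  · left
    exact ⟨f.hom.base y, hy⟩
  · left
    exact ⟨y, hy⟩
  · right
    exact ⟨y, hy⟩

theorem isLocalHom_stalkMap_of_comp {A B C : PresheafedSpace.{u, u+1, u} CommRingCat.{u}} (α : A ⟶ B)
    (β : B ⟶ C) (x : A) (h : IsLocalHom ((α ≫ β).stalkMap x).hom) :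
    IsLocalHom (β.stalkMap (α.base x)).hom := by
  rw [PresheafedSpace.stalkMap.comp] at h
  haveI : IsLocalHom ((α.stalkMap x).hom.comp (β.stalkMap (α.base x)).hom) := h
  exact isLocalHom_of_comp (β.stalkMap (α.base x)).hom (α.stalkMap x).hom

/-- a square of schemes which is a push-out of ringed spaces is a push-out of schemes -/
theorem isPushout_of_sheafedSpace {X Z Z' X' : Scheme.{u}} (ι : Z ⟶ X) (q : Z ⟶ Z')
    (π : X ⟶ X') (ι' : Z' ⟶ X')
    (hpo : IsPushout (Fsh.map ι) (Fsh.map q) (Fsh.map π) (Fsh.map ι')) : IsPushout ι q π ι' := by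
  have w : ι ≫ π = q ≫ ι' :=
    Fsh.map_injective (by rw [Functor.map_comp, Functor.map_comp]; exact hpo.w)
  have key : ∀ {W : Scheme.{u}} (a : X ⟶ W) (b : Z' ⟶ W) (_ : ι ≫ a = q ≫ b),
      ∃ h : X' ⟶ W, π ≫ h = a ∧ ι' ≫ h = b := by
    intro W a b hab
    have hab' : Fsh.map ι ≫ Fsh.map a = Fsh.map q ≫ Fsh.map b := by
      rw [← Functor.map_comp, ← Functor.map_comp, hab]
    let h₀ : Fsh.obj X' ⟶ Fsh.obj W := hpo.desc (Fsh.map a) (Fsh.map b) hab'
    have f1 : Fsh.map π ≫ h₀ = Fsh.map a := hpo.inl_desc _ _ _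
    have f2 : Fsh.map ι' ≫ h₀ = Fsh.map b := hpo.inr_desc _ _ _
    have hloc : ∀ x' : X'.toLocallyRingedSpace, IsLocalHom (h₀.hom.stalkMap x').hom := by
      intro x'
      rcases jointly_surjective_of_isPushout hpo x' with ⟨x, rfl⟩ | ⟨z, rfl⟩
      · apply isLocalHom_stalkMap_of_comp (Fsh.map π).hom h₀.hom x
        have e : (Fsh.map π).hom ≫ h₀.hom = (Fsh.map a).hom := congrArg (fun m => m.hom) f1
        rw [e]
        exact a.toLRSHom.prop x
      · apply isLocalHom_stalkMap_of_comp (Fsh.map ι').hom h₀.hom z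
        have e : (Fsh.map ι').hom ≫ h₀.hom = (Fsh.map b).hom := congrArg (fun m => m.hom) f2
        rw [e]
        exact b.toLRSHom.prop z
    let hL : X'.toLocallyRingedSpace ⟶ W.toLocallyRingedSpace := LocallyRingedSpace.homMk h₀ hloc
    let h : X' ⟶ W := Scheme.Hom.mk hL
    have hh : Fsh.map h = h₀ := rfl
    refine ⟨h, Fsh.map_injective ?_, Fsh.map_injective ?_⟩
    · rw [Functor.map_comp, hh, f1]
    · rw [Functor.map_comp, hh, f2]
  refine ⟨⟨w⟩, ⟨PushoutCocone.IsColimit.mk _ (fun s => (key s.inl s.inr s.condition).choose)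
    (fun s => (key s.inl s.inr s.condition).choose_spec.1)
    (fun s => (key s.inl s.inr s.condition).choose_spec.2) ?_⟩⟩
  intro s m h1 h2
  apply Fsh.map_injective
  apply hpo.hom_ext
  · rw [← Functor.map_comp, ← Functor.map_comp, h1,
      (key s.inl s.inr s.condition).choose_spec.1]
  · rw [← Functor.map_comp, ← Functor.map_comp, h2,
      (key s.inl s.inr s.condition).choose_spec.2]

/-- `S17903` -/
theorem main17903 {S X Z Z' X' : Scheme.{u}}
    (fX : X ⟶ S) (fZ' : Z' ⟶ S) (fX' : X' ⟶ S) (ι : Z ⟶ X) (q : Z ⟶ Z') (π : X ⟶ X')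
    (ι' : Z' ⟶ X')
    [IsClosedImmersion ι] [IsClosedImmersion ι'] [IsAffineHom q] [IsAffineHom π]
    (hπ : π ≫ fX' = fX) (hι' : ι' ≫ fX' = fZ')
    (hpo : IsPushout (Fsh.map ι) (Fsh.map q) (Fsh.map π) (Fsh.map ι'))
    [Flat fX] [Flat (ι ≫ fX)] [Flat fZ'] : Flat fX' := by
  have hP := isPushout_of_sheafedSpace ι q π ι' hpo
  obtain ⟨HX, HY⟩ := charts_affine ι q π ι' hP.w
  haveI : Flat (π ≫ fX') := by rw [hπ]; infer_instance
  haveI : Flat (ι' ≫ fX') := by rw [hι']; infer_instance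
  haveI : Flat (ι ≫ π ≫ fX') := by rw [hπ]; infer_instance
  exact flat_of_flat_pieces ι q HX HY π ι' hP fX'

end Groth.Agent.Helper17.AG84
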