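import Mathlib
import Groth.Agent.Lib.Helper17.AG84

/-!
# Sections of Ferrand push-outs (helper17)

`S17905`.
-/

set_option autoImplicit false
universe u
open CategoryTheory CategoryTheory.Limits AlgebraicGeometry Opposite TopologicalSpace

noncomputable section
namespace Groth.Agent.Helper17.AG85
open Groth.Agent.Helper17.AG57 Groth.Agent.Helper17.AG58 Groth.Agent.Helper17.AG68
open Groth.Agent.Helper17.AG69 Groth.Agent.Helper17.AG69.Idx Groth.Agent.Helper17.AG70
open Groth.Agent.Helper17.AG71 Groth.Agent.Helper17.AG72 Groth.Agent.Helper17.AG73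
open Groth.Agent.Helper17.AG75 Groth.Agent.Helper17.AG76 Groth.Agent.Helper17.AG77
open Groth.Agent.Helper17.AG78 Groth.Agent.Helper17.AG79 Groth.Agent.Helper17.AG80
open Groth.Agent.Helper17.AG81 Groth.Agent.Helper17.AG82 Groth.Agent.Helper17.AG83
open Groth.Agent.Helper17.AG84
open Groth.Agent.Helper19.FibProd

/-- global sections of a push-out of schemes are determined by their restrictions to the two
pieces -/
theorem gdom {F FX FY FZ : Scheme.{u}} {iF : FZ ⟶ FX} {jF : FZ ⟶ FY} {qX : FX ⟶ F} {qY : FY ⟶ F}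
    (hF : IsPushout iF jF qX qY) (σ₁ σ₂ : Γ(F, ⊤)) (h1 : qX.appTop.hom σ₁ = qX.appTop.hom σ₂)
    (h2 : qY.appTop.hom σ₁ = qY.appTop.hom σ₂) : σ₁ = σ₂ := by
  let E := AffineSpace.toSpecMvPolyIntEquiv PUnit.{u+1} (X := F)
  have hm : E.symm (fun _ => σ₁) = E.symm (fun _ => σ₂) := by
    apply hF.hom_ext
    · apply (AffineSpace.toSpecMvPolyIntEquiv PUnit.{u+1}).injective
      funext k
      rw [AffineSpace.toSpecMvPolyIntEquiv_comp, AffineSpace.toSpecMvPolyIntEquiv_comp]
      show qX.appTop.hom (E (E.symm _) k) = qX.appTop.hom (E (E.symm _) k)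
      rw [Equiv.apply_symm_apply, Equiv.apply_symm_apply]
      exact h1
    · apply (AffineSpace.toSpecMvPolyIntEquiv PUnit.{u+1}).injective
      funext k
      rw [AffineSpace.toSpecMvPolyIntEquiv_comp, AffineSpace.toSpecMvPolyIntEquiv_comp]
      show qY.appTop.hom (E (E.symm _) k) = qY.appTop.hom (E (E.symm _) k)
      rw [Equiv.apply_symm_apply, Equiv.apply_symm_apply]
      exact h2
  have h3 := congrArg (fun m => E m PUnit.unit) hm
  simp only [Equiv.apply_symm_apply] at h3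
  exact h3

/-- sections inject along flat surjective morphisms -/
theorem app_injective_of_flat_surjective {A B : Scheme.{u}} (j : A ⟶ B) [Flat j] [Surjective j]
    (V : B.Opens) : Function.Injective (j.app V).hom := by
  rw [injective_iff_map_eq_zero]
  intro e he
  apply TopCat.Presheaf.section_ext B.sheaf V e 0
  intro y hy
  obtain ⟨z, rfl⟩ := j.surjective y
  have hinj : Function.Injective (j.stalkMap z).hom := by
    algebraize [(j.stalkMap z).hom]
    have : Module.FaithfullyFlat (B.presheaf.stalk (j z)) (A.presheaf.stalk z) :=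
      @Module.FaithfullyFlat.of_flat_of_isLocalHom _ _ _ _ _ _ _
        (Flat.stalkMap j z) (j.toLRSHom.prop z)
    exact ‹RingHom.FaithfullyFlat _›.injective
  apply hinj
  have e1 := Scheme.Hom.germ_stalkMap_apply j V z hy e
  rw [he, map_zero] at e1
  refine e1.trans ?_
  rw [map_zero]
  exact (map_zero (j.stalkMap z).hom).symm

theorem appLE_congr_hom {A B : Scheme.{u}} {f g : A ⟶ B} (h : f = g) (U : B.Opens) (V : A.Opens)
    (e : V ≤ f ⁻¹ᵁ U) (e' : V ≤ g ⁻¹ᵁ U) : f.appLE U V e = g.appLE U V e' := by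
  subst h
  rfl

theorem restr_zero {A P : Scheme.{u}} (a : A ⟶ P) (W : P.Opens) (d : Γ(P, W))
    (h : (a.app W).hom d = 0) :
    (pullback.snd a W.ι).appTop.hom ((W.ι.appLE W ⊤ W.ι_preimage_self.ge).hom d) = 0 := by
  have hle : (⊤ : (pullback a W.ι : Scheme.{u}).Opens) ≤
      (pullback.fst a W.ι) ⁻¹ᵁ (a ⁻¹ᵁ W) := by
    intro x _
    show (pullback.fst a W.ι ≫ a) x ∈ W
    rw [pullback.condition]
    have : W.ι (pullback.snd a W.ι x) ∈ Set.range W.ι := ⟨_, rfl⟩
    rw [Scheme.Opens.range_ι] at this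
    exact this
  have e2 : (pullback.snd a W.ι).appTop = (pullback.snd a W.ι).appLE ⊤ ⊤ le_top :=
    Scheme.Hom.app_eq_appLE _
  have e1 : W.ι.appLE W ⊤ W.ι_preimage_self.ge ≫ (pullback.snd a W.ι).appTop =
      a.app W ≫ (pullback.fst a W.ι).appLE (a ⁻¹ᵁ W) ⊤ hle := by
    rw [← Scheme.Hom.comp_appLE, e2, Scheme.Hom.appLE_comp_appLE]
    exact appLE_congr_hom pullback.condition.symm _ _ _ _
  have e3 := congrArg (fun m => m.hom d) e1
  exact e3.trans (by
    show ((pullback.fst a W.ι).appLE (a ⁻¹ᵁ W) ⊤ hle).hom ((a.app W).hom d) = 0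
    rw [h, map_zero])

section geom

variable {X Y Z : Scheme.{u}} (i : Z ⟶ X) (j : Z ⟶ Y) [IsClosedImmersion i]
  (HX : ∀ x : X, ∃ α : Idx i j, x ∈ α.U) (HY : ∀ y : Y, ∃ α : Idx i j, y ∈ α.V)
  {P : Scheme.{u}} (a : X ⟶ P) (b : Y ⟶ P) (hP : IsPushout i j a b)

include HX HY hP in
/-- sections of a Ferrand push-out are determined by their restrictions to the two pieces -/
theorem dom (W : P.Opens) (d : Γ(P, W)) (h1 : (a.app W).hom d = 0) (h2 : (b.app W).hom d = 0) :
    d = 0 := by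
  have hF := isPushout_overPullback i j HX HY a b hP W.ι (hloc_of_flat i j HX HY a b hP W.ι)
  have hinj : Function.Injective (W.ι.appLE W ⊤ W.ι_preimage_self.ge).hom :=
    ((ConcreteCategory.isIso_iff_bijective (W.ι.appLE W ⊤ W.ι_preimage_self.ge)).mp
      inferInstance).injective
  apply hinj
  rw [map_zero]
  apply gdom hF
  · rw [map_zero]
    exact restr_zero a W d h1
  · rw [map_zero]
    exact restr_zero b W d h2

include HX HY hP in
/-- if the functions on `X` over an open of the base are the functions of the base, so are the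
functions of the push-out -/
theorem isIso_app_of_isPushout [Flat j] [Surjective j] {T : Scheme.{u}} (s : P ⟶ T)
    (U : T.Opens) (h : IsIso ((a ≫ s).app U)) : IsIso (s.app U) := by
  have hbij : Function.Bijective ((a ≫ s).app U).hom :=
    (ConcreteCategory.isIso_iff_bijective _).mp h
  have hcomp : ∀ x, ((a ≫ s).app U).hom x = (a.app (s ⁻¹ᵁ U)).hom ((s.app U).hom x) :=
    fun x => rfl
  rw [ConcreteCategory.isIso_iff_bijective]
  constructor
  · intro x y hxy
    apply hbij.injective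
    have hxy' : (s.app U).hom x = (s.app U).hom y := hxy
    rw [hcomp, hcomp, hxy']
  · intro s'
    obtain ⟨σ, hσ⟩ := hbij.surjective ((a.app (s ⁻¹ᵁ U)).hom s')
    refine ⟨σ, ?_⟩
    have ha0 : (a.app (s ⁻¹ᵁ U)).hom ((s.app U).hom σ - s') = 0 := by
      rw [map_sub, ← hcomp, hσ, sub_self]
    have hd : (s.app U).hom σ - s' = 0 := by
      apply dom i j HX HY a b hP (s ⁻¹ᵁ U) _ ha0
      apply app_injective_of_flat_surjective j (b ⁻¹ᵁ (s ⁻¹ᵁ U))
      rw [map_zero]
      have e1 : (j.app (b ⁻¹ᵁ (s ⁻¹ᵁ U))).hom ((b.app (s ⁻¹ᵁ U)).hom ((s.app U).hom σ - s')) =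
          ((j ≫ b).app (s ⁻¹ᵁ U)).hom ((s.app U).hom σ - s') := rfl
      rw [e1]
      have e2 := Scheme.Hom.congr_app hP.w.symm (s ⁻¹ᵁ U)
      have e3 := congrArg (fun m => m.hom ((s.app U).hom σ - s')) e2
      refine e3.trans ?_
      show (Z.presheaf.map _).hom ((i.app (a ⁻¹ᵁ (s ⁻¹ᵁ U))).hom
        ((a.app (s ⁻¹ᵁ U)).hom ((s.app U).hom σ - s'))) = 0
      rw [ha0, map_zero, map_zero]
    exact sub_eq_zero.mp hd

end geom

/-- `S17905` -/
theorem main17905 {S X Z Z' X' : Scheme.{u}} (fX' : X' ⟶ S) (ι : Z ⟶ X) (q : Z ⟶ Z')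
    (π : X ⟶ X') (ι' : Z' ⟶ X')
    [IsClosedImmersion ι] [IsClosedImmersion ι'] [IsFinite q] [Flat q] [Surjective q]
    [IsAffineHom π]
    (hpo : IsPushout (Fsh.map ι) (Fsh.map q) (Fsh.map π) (Fsh.map ι'))
    [Flat (ι ≫ π ≫ fX')]
    (T : Scheme.{u}) (g : T ⟶ S) (U : T.Opens)
    (hX : IsIso ((pullback.snd (π ≫ fX') g).app U)) :
    IsIso ((pullback.snd fX' g).app U) := by
  have hP := isPushout_of_sheafedSpace ι q π ι' hpo
  obtain ⟨HX, HY⟩ := charts_affine ι q π ι' hP.w
  have h2 : g ≫ 𝟙 S = 𝟙 T ≫ g := (Category.comp_id g).trans (Category.id_comp g).symm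
  have hZ1 : (ι ≫ π ≫ fX') ≫ 𝟙 S = ι ≫ π ≫ fX' := Category.comp_id _
  have hZ2 : (ι ≫ π ≫ fX') ≫ 𝟙 S = q ≫ ι' ≫ fX' := by
    rw [Category.comp_id, ← Category.assoc, hP.w, Category.assoc]
  have hX1 : (π ≫ fX') ≫ 𝟙 S = π ≫ fX' := Category.comp_id _
  have hY1 : (ι' ≫ fX') ≫ 𝟙 S = ι' ≫ fX' := Category.comp_id _
  let aT := pullback.map (π ≫ fX') g fX' g π (𝟙 T) (𝟙 S) hX1 h2
  let bT := pullback.map (ι' ≫ fX') g fX' g ι' (𝟙 T) (𝟙 S) hY1 h2
  let iT := pullback.map (ι ≫ π ≫ fX') g (π ≫ fX') g ι (𝟙 T) (𝟙 S) hZ1 h2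
  let jT := pullback.map (ι ≫ π ≫ fX') g (ι' ≫ fX') g q (𝟙 T) (𝟙 S) hZ2 h2
  have sqX : IsPullback (pullback.fst (π ≫ fX') g) aT π (pullback.fst fX' g) :=
    isPullback_map_id _ _ _ _ _ _
  have sqY : IsPullback (pullback.fst (ι' ≫ fX') g) bT ι' (pullback.fst fX' g) :=
    isPullback_map_id _ _ _ _ _ _
  have sqZ : IsPullback (pullback.fst (ι ≫ π ≫ fX') g) iT ι (pullback.fst (π ≫ fX') g) :=
    isPullback_map_id _ _ _ _ _ _
  have sqZ' : IsPullback (pullback.fst (ι ≫ π ≫ fX') g) jT q (pullback.fst (ι' ≫ fX') g) :=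
    isPullback_map_id _ _ _ _ _ _
  haveI : IsClosedImmersion iT := MorphismProperty.of_isPullback (P := @IsClosedImmersion) sqZ
    inferInstance
  haveI : IsClosedImmersion bT := MorphismProperty.of_isPullback (P := @IsClosedImmersion) sqY
    inferInstance
  haveI : IsAffineHom aT := MorphismProperty.of_isPullback (P := @IsAffineHom) sqX inferInstance
  haveI : Flat jT := MorphismProperty.of_isPullback (P := @Flat) sqZ' inferInstance
  haveI : Surjective jT := MorphismProperty.of_isPullback (P := @Surjective) sqZ' inferInstance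
  have hj₁ : jT ≫ pullback.fst (ι' ≫ fX') g = pullback.fst (ι ≫ π ≫ fX') g ≫ q :=
    pullback.lift_fst _ _ _
  have hj₂ : jT ≫ bT = iT ≫ aT := by
    apply pullback.hom_ext
    · simp only [aT, bT, iT, jT, pullback.map, Category.assoc, pullback.lift_fst,
        pullback.lift_fst_assoc]
      rw [hP.w]
    · simp only [aT, bT, iT, jT, pullback.map, Category.assoc, pullback.lift_snd,
        Category.comp_id]
  have hPT : IsPushout iT jT aT bT :=
    isPushout_baseChange ι q HX HY π ι' hP (pullback.fst fX' g)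
      (pullback.fst (π ≫ fX') g) aT sqX (pullback.fst (ι' ≫ fX') g) bT sqY
      (pullback.fst (ι ≫ π ≫ fX') g) iT jT sqZ hj₁ hj₂
      (hloc_of_flat_corner ι q HX HY π ι' hP fX' g (pullback.fst fX' g) (pullback.snd fX' g)
        (IsPullback.of_hasPullback fX' g))
  obtain ⟨HXT, HYT⟩ := charts_affine iT jT aT bT hPT.w
  have e : aT ≫ pullback.snd fX' g = pullback.snd (π ≫ fX') g := by
    simp only [aT, pullback.map, pullback.lift_snd, Category.comp_id]
  exact isIso_app_of_isPushout iT jT HXT HYT aT bT hPT (pullback.snd fX' g) U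
    (by rw [e]; exact hX)

end Groth.Agent.Helper17.AG85
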