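import Mathlib
import Groth.Agent.Lib.Helper17.AG85

/-!
# Ferrand push-outs: points and topology (helper17)

The underlying topological space of a Ferrand push-out is the push-out of the underlying spaces.
-/

set_option autoImplicit false
universe u
open CategoryTheory CategoryTheory.Limits AlgebraicGeometry Opposite TopologicalSpace

noncomputable section
namespace Groth.Agent.Helper17.AG86
open Groth.Agent.Helper17.AG57 Groth.Agent.Helper17.AG58 Groth.Agent.Helper17.AG68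
open Groth.Agent.Helper17.AG69 Groth.Agent.Helper17.AG69.Idx Groth.Agent.Helper17.AG70
open Groth.Agent.Helper17.AG71 Groth.Agent.Helper17.AG72 Groth.Agent.Helper17.AG73
open Groth.Agent.Helper17.AG75 Groth.Agent.Helper17.AG76 Groth.Agent.Helper17.AG77
open Groth.Agent.Helper17.AG78 Groth.Agent.Helper17.AG79 Groth.Agent.Helper17.AG80
open Groth.Agent.Helper17.AG81 Groth.Agent.Helper17.AG82 Groth.Agent.Helper17.AG83
open Groth.Agent.Helper17.AG84 Groth.Agent.Helper17.AG85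
open Groth.Agent.Helper19.FibProd

section ring

/-- lifting a power of a function vanishing on the trace of a closed set -/
theorem exists_lift_pow {R₁ R₀ : Type u} [CommRing R₁] [CommRing R₀] (pp : R₁ →+* R₀)
    (hpp : Function.Surjective pp) (T₁ : Set (PrimeSpectrum R₁)) (hT : IsClosed T₁) (g : R₀)
    (hg : ∀ 𝔮 : PrimeSpectrum R₀, g ∉ 𝔮.asIdeal → PrimeSpectrum.comap pp 𝔮 ∉ T₁) :
    ∃ (n : ℕ) (r₁ : R₁), pp r₁ = g ^ n ∧ ∀ 𝔭 ∈ T₁, r₁ ∈ (𝔭 : PrimeSpectrum R₁).asIdeal := by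
  set J : Ideal R₁ := PrimeSpectrum.vanishingIdeal T₁ with hJ
  have hzl : PrimeSpectrum.zeroLocus (J : Set R₁) = T₁ := by
    rw [hJ, PrimeSpectrum.zeroLocus_vanishingIdeal_eq_closure, hT.closure_eq]
  have hrad : g ∈ (J.map pp).radical := by
    rw [Ideal.radical_eq_sInf, Ideal.mem_sInf]
    rintro 𝔮 ⟨h𝔮J, h𝔮p⟩
    by_contra hgq
    have h1 := hg ⟨𝔮, h𝔮p⟩ hgq
    apply h1
    rw [← hzl]
    intro x hx
    show pp x ∈ 𝔮
    exact h𝔮J (Ideal.mem_map_of_mem pp hx)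
  obtain ⟨n, hn⟩ := hrad
  obtain ⟨r₁, hr₁J, hr₁⟩ := (Ideal.mem_map_iff_of_surjective pp hpp).mp hn
  refine ⟨n, r₁, hr₁, ?_⟩
  intro 𝔭 h𝔭
  exact (PrimeSpectrum.mem_vanishingIdeal T₁ r₁).mp hr₁J 𝔭 h𝔭

end ring

section geom

variable {X Y Z : Scheme.{u}} (i : Z ⟶ X) (j : Z ⟶ Y) [IsClosedImmersion i]
  (HX : ∀ x : X, ∃ α : Idx i j, x ∈ α.U) (HY : ∀ y : Y, ∃ α : Idx i j, y ∈ α.V)
  {P : Scheme.{u}} (a : X ⟶ P) (b : Y ⟶ P) (hP : IsPushout i j a b)

include HX HY hP in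
theorem b_injective : Function.Injective b := by
  haveI : IsClosedImmersion b := (props_of_isPushout i j HX HY a b hP).2.1
  exact b.isClosedEmbedding.injective

include HX HY hP in
theorem exists_of_a_eq_b (x : X) (y : Y) (h : a x = b y) : ∃ z : Z, i z = x ∧ j z = y :=
  exists_preimage_of_isPullback (props_of_isPushout i j HX HY a b hP).1 x y h

include hP in
theorem a_i_eq (z : Z) : a (i z) = b (j z) := by
  rw [← Scheme.Hom.comp_apply, ← Scheme.Hom.comp_apply, hP.w]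

include HX HY hP in
/-- `a` is injective away from `Z` -/
theorem a_eq_of_not_mem_range (x x' : X) (h : a x = a x') (hx : x ∉ Set.range i) : x = x' := by
  obtain ⟨α, hxα, hαV⟩ := exists_idx_bot i j x hx
  obtain ⟨x₀, rfl⟩ := exists_fromSpec_eq α.hU x hxα
  have h1 : a x' = kk i j HX HY a b hP α (Sp (sndP α.pp α.qq) x₀) := by
    rw [← h, ← Scheme.Hom.comp_apply, ← Scheme.Hom.comp_apply, kk_a]
  obtain ⟨t, ht1, ht2⟩ := exists_preimage_of_isPullback (kk_sqX i j HX HY a b hP α) x'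
    (Sp (sndP α.pp α.qq) x₀) h1
  have hinj : Function.Injective (Sp (sndP α.pp α.qq)) := by
    have hb := sndP_bijective_of_bot i j α hαV
    intro u v huv
    apply PrimeSpectrum.ext
    have h2 : (Sp (sndP α.pp α.qq) u : PrimeSpectrum α.R).asIdeal =
        (Sp (sndP α.pp α.qq) v : PrimeSpectrum α.R).asIdeal := by rw [huv]
    ext r
    obtain ⟨r', rfl⟩ := hb.surjective r
    have h3 := congrArg (fun I : Ideal α.R => r' ∈ I) h2
    exact Iff.of_eq h3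
  rw [← ht1, hinj ht2]

include HX HY hP in
/-- the topology of a Ferrand push-out is the quotient topology -/
theorem isOpen_of_preimages (S : Set P) (h1 : IsOpen (a ⁻¹' S)) (h2 : IsOpen (b ⁻¹' S)) :
    IsOpen S := by
  rw [isOpen_iff_forall_mem_open]
  let OX : X.Opens := ⟨a ⁻¹' S, h1⟩
  let OY : Y.Opens := ⟨b ⁻¹' S, h2⟩
  have key : ∀ (α : Idx i j) (s : α.R), X.basicOpen (sndP α.pp α.qq s) ≤ OX →
      Y.basicOpen (fstP α.pp α.qq s) ≤ OY →
      ∀ w : Spec (CommRingCat.of α.R), s ∉ (w : PrimeSpectrum α.R).asIdeal →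
        kk i j HX HY a b hP α w ∈ S := by
    intro α s hsX hsY w hw
    rcases AG58.exists_point (rpb_FP α.pp α.qq α.pp_surjective) w with ⟨x', rfl⟩ | ⟨y', rfl⟩
    · have e : kk i j HX HY a b hP α (Sp (sndP α.pp α.qq) x') = a (α.hU.fromSpec x') := by
        rw [← Scheme.Hom.comp_apply, ← Scheme.Hom.comp_apply, kk_a]
      rw [e]
      have hm : α.hU.fromSpec x' ∈ X.basicOpen (sndP α.pp α.qq s) :=
        (mem_basicOpen_fromSpec α.hU _ x').mpr hw
      exact hsX hm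
    · have e : kk i j HX HY a b hP α (Sp (fstP α.pp α.qq) y') = b (α.hV.fromSpec y') := by
        rw [← Scheme.Hom.comp_apply, ← Scheme.Hom.comp_apply, kk_b]
      rw [e]
      have hm : α.hV.fromSpec y' ∈ Y.basicOpen (fstP α.pp α.qq s) :=
        (mem_basicOpen_fromSpec α.hV _ y').mpr hw
      exact hsY hm
  have hopen : ∀ (α : Idx i j) (s : α.R), IsOpen (kk i j HX HY a b hP α ''
      {w : Spec (CommRingCat.of α.R) | s ∉ (w : PrimeSpectrum α.R).asIdeal}) := by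
    intro α s
    apply (kk i j HX HY a b hP α).isOpenEmbedding.isOpenMap
    exact (PrimeSpectrum.basicOpen s).isOpen
  have hO : ∀ (α : Idx i j) (z : Z), z ∈ i ⁻¹ᵁ α.U → (i z ∈ OX ↔ j z ∈ OY) := by
    intro α z _
    show a (i z) ∈ S ↔ b (j z) ∈ S
    rw [a_i_eq i j a b hP]
  have hbcase : ∀ y : Y, b y ∈ S → ∃ t ⊆ S, IsOpen t ∧ b y ∈ t := by
    intro y hy
    obtain ⟨α, hyα⟩ := HY y
    obtain ⟨s, hs1, hs2, hs3⟩ := exists_refine_Y α OX OY (hO α) y hyα hy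
    refine ⟨_, ?_, hopen α s, ?_⟩
    · rintro _ ⟨w, hw, rfl⟩
      exact key α s hs2 hs3 w hw
    · obtain ⟨y', hy'⟩ := exists_fromSpec_eq α.hV y hyα
      refine ⟨Sp (fstP α.pp α.qq) y', ?_, ?_⟩
      · rw [← hy'] at hs1
        exact (mem_basicOpen_fromSpec α.hV _ y').mp hs1
      · rw [← hy', ← Scheme.Hom.comp_apply, ← Scheme.Hom.comp_apply, kk_b]
  intro p hp
  rcases mem_range_a_or_b i j HX HY a b hP p with ⟨x, rfl⟩ | ⟨y, rfl⟩
  · by_cases hx : x ∈ Set.range i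
    · obtain ⟨z, rfl⟩ := hx
      rw [a_i_eq i j a b hP] at hp ⊢
      exact hbcase (j z) hp
    · obtain ⟨α, hxα⟩ := HX x
      obtain ⟨s, hs1, hs2, hs3⟩ := exists_refine_X α OX x hxα hp hx
      have hs4 : Y.basicOpen (fstP α.pp α.qq s) ≤ OY := by
        rw [hs3, Scheme.basicOpen_zero]
        exact bot_le
      refine ⟨_, ?_, hopen α s, ?_⟩
      · rintro _ ⟨w, hw, rfl⟩
        exact key α s hs2 hs4 w hw
      · obtain ⟨x', hx'⟩ := exists_fromSpec_eq α.hU x hxα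
        refine ⟨Sp (sndP α.pp α.qq) x', ?_, ?_⟩
        · rw [← hx'] at hs1
          exact (mem_basicOpen_fromSpec α.hU _ x').mp hs1
        · rw [← hx', ← Scheme.Hom.comp_apply, ← Scheme.Hom.comp_apply, kk_a]
  · exact hbcase y hp

include HX HY hP in
/-- the underlying space of a Ferrand push-out is the push-out of the underlying spaces -/
theorem exists_base_desc {W : Type*} [TopologicalSpace W] (f₁ : X → W) (f₂ : Y → W)
    (hf₁ : Continuous f₁) (hf₂ : Continuous f₂) (h : ∀ z : Z, f₁ (i z) = f₂ (j z)) :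
    ∃ g₀ : P → W, Continuous g₀ ∧ (∀ x, g₀ (a x) = f₁ x) ∧ (∀ y, g₀ (b y) = f₂ y) := by
  classical
  have hcov : ∀ p : P, p ∉ Set.range b → ∃ x, a x = p := by
    intro p hp
    rcases mem_range_a_or_b i j HX HY a b hP p with ⟨x, hx⟩ | hb
    · exact ⟨x, hx⟩
    · exact absurd hb hp
  let g₀ : P → W := fun p =>
    if hp : p ∈ Set.range b then f₂ hp.choose else f₁ (hcov p hp).choose
  have hgb : ∀ y, g₀ (b y) = f₂ y := by
    intro y
    have hp : b y ∈ Set.range b := ⟨y, rfl⟩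
    show (if hp : b y ∈ Set.range b then f₂ hp.choose else f₁ (hcov (b y) hp).choose) = f₂ y
    rw [dif_pos hp]
    exact congrArg f₂ (b_injective i j HX HY a b hP hp.choose_spec)
  have hga : ∀ x, g₀ (a x) = f₁ x := by
    intro x
    by_cases hp : a x ∈ Set.range b
    · obtain ⟨y, hy⟩ := hp
      obtain ⟨z, hz1, hz2⟩ := exists_of_a_eq_b i j HX HY a b hP x y hy.symm
      rw [← hy, hgb, ← hz1, ← hz2, h]
    · show (if hp : a x ∈ Set.range b then f₂ hp.choose else f₁ (hcov (a x) hp).choose) = f₁ x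
      rw [dif_neg hp]
      have hx' := (hcov (a x) hp).choose_spec
      have hni : (hcov (a x) hp).choose ∉ Set.range i := by
        rintro ⟨z, hz⟩
        apply hp
        refine ⟨j z, ?_⟩
        rw [← hx', ← hz, a_i_eq i j a b hP]
      exact congrArg f₁ (a_eq_of_not_mem_range i j HX HY a b hP _ _ hx' hni)
  refine ⟨g₀, ?_, hga, hgb⟩
  rw [continuous_def]
  intro V hV
  apply isOpen_of_preimages i j HX HY a b hP
  · have e : a ⁻¹' (g₀ ⁻¹' V) = f₁ ⁻¹' V := by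
      ext x
      show g₀ (a x) ∈ V ↔ f₁ x ∈ V
      rw [hga]
    rw [e]
    exact hV.preimage hf₁
  · have e : b ⁻¹' (g₀ ⁻¹' V) = f₂ ⁻¹' V := by
      ext y
      show g₀ (b y) ∈ V ↔ f₂ y ∈ V
      rw [hgb]
    rw [e]
    exact hV.preimage hf₂

end geom

section sections

/-- gluing global sections on a push-out of schemes -/
theorem gex {F FX FY FZ : Scheme.{u}} {iF : FZ ⟶ FX} {jF : FZ ⟶ FY} {qX : FX ⟶ F} {qY : FY ⟶ F}
    (hF : IsPushout iF jF qX qY) (σX : Γ(FX, ⊤)) (σY : Γ(FY, ⊤))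
    (h : iF.appTop.hom σX = jF.appTop.hom σY) :
    ∃ σ : Γ(F, ⊤), qX.appTop.hom σ = σX ∧ qY.appTop.hom σ = σY := by
  let EF := AffineSpace.toSpecMvPolyIntEquiv PUnit.{u+1} (X := F)
  let EX := AffineSpace.toSpecMvPolyIntEquiv PUnit.{u+1} (X := FX)
  let EY := AffineSpace.toSpecMvPolyIntEquiv PUnit.{u+1} (X := FY)
  have hc : iF ≫ EX.symm (fun _ => σX) = jF ≫ EY.symm (fun _ => σY) := by
    apply (AffineSpace.toSpecMvPolyIntEquiv PUnit.{u+1}).injective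
    funext k
    rw [AffineSpace.toSpecMvPolyIntEquiv_comp, AffineSpace.toSpecMvPolyIntEquiv_comp]
    show iF.appTop.hom (EX (EX.symm _) k) = jF.appTop.hom (EY (EY.symm _) k)
    rw [Equiv.apply_symm_apply, Equiv.apply_symm_apply]
    exact h
  let m := hF.desc (EX.symm (fun _ => σX)) (EY.symm (fun _ => σY)) hc
  refine ⟨EF m PUnit.unit, ?_, ?_⟩
  · have e1 : qX ≫ m = EX.symm (fun _ => σX) := hF.inl_desc _ _ _
    have e2 := congrArg (fun t => EX t PUnit.unit) e1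
    simp only [Equiv.apply_symm_apply] at e2
    exact e2
  · have e1 : qY ≫ m = EY.symm (fun _ => σY) := hF.inr_desc _ _ _
    have e2 := congrArg (fun t => EY t PUnit.unit) e1
    simp only [Equiv.apply_symm_apply] at e2
    exact e2

theorem appLE_injective_of_isOpenImmersion {A B : Scheme.{u}} (f : A ⟶ B) [IsOpenImmersion f]
    (U : B.Opens) (hU : U = f ''ᵁ ⊤) (e : (⊤ : A.Opens) ≤ f ⁻¹ᵁ U) :
    Function.Injective (f.appLE U ⊤ e).hom := by
  subst hU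
  have h1 : f.appLE (f ''ᵁ ⊤) ⊤ e = (f.appIso ⊤).hom := (Scheme.Hom.appIso_hom' f ⊤).symm
  rw [h1]
  exact ((ConcreteCategory.isIso_iff_bijective (f.appIso ⊤).hom).mp inferInstance).injective

theorem top_le_fst_preimage {A P : Scheme.{u}} (a : A ⟶ P) (W : P.Opens) :
    (⊤ : (pullback a W.ι : Scheme.{u}).Opens) ≤ (pullback.fst a W.ι) ⁻¹ᵁ (a ⁻¹ᵁ W) := by
  intro x _
  show (pullback.fst a W.ι ≫ a) x ∈ W
  rw [pullback.condition]
  have : W.ι (pullback.snd a W.ι x) ∈ Set.range W.ι := ⟨_, rfl⟩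
  rw [Scheme.Opens.range_ι] at this
  exact this

theorem restr_eq {A P : Scheme.{u}} (a : A ⟶ P) (W : P.Opens) :
    W.ι.appLE W ⊤ W.ι_preimage_self.ge ≫ (pullback.snd a W.ι).appTop =
      a.app W ≫ (pullback.fst a W.ι).appLE (a ⁻¹ᵁ W) ⊤ (top_le_fst_preimage a W) := by
  have e2 : (pullback.snd a W.ι).appTop = (pullback.snd a W.ι).appLE ⊤ ⊤ le_top :=
    Scheme.Hom.app_eq_appLE _
  rw [← Scheme.Hom.comp_appLE, e2, Scheme.Hom.appLE_comp_appLE]
  exact appLE_congr_hom pullback.condition.symm _ _ _ _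

theorem fst_appLE_injective {A P : Scheme.{u}} (a : A ⟶ P) (W : P.Opens) :
    Function.Injective
      ((pullback.fst a W.ι).appLE (a ⁻¹ᵁ W) ⊤ (top_le_fst_preimage a W)).hom := by
  apply appLE_injective_of_isOpenImmersion
  apply TopologicalSpace.Opens.ext
  show (a ⁻¹' (W : Set P)) = (pullback.fst a W.ι) '' (Set.univ)
  rw [Set.image_univ, Scheme.Pullback.range_fst, Scheme.Opens.range_ι]

end sections

section geom2

variable {X Y Z : Scheme.{u}} (i : Z ⟶ X) (j : Z ⟶ Y) [IsClosedImmersion i]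
  (HX : ∀ x : X, ∃ α : Idx i j, x ∈ α.U) (HY : ∀ y : Y, ∃ α : Idx i j, y ∈ α.V)
  {P : Scheme.{u}} (a : X ⟶ P) (b : Y ⟶ P) (hP : IsPushout i j a b)

include HX HY hP in
/-- sections of a Ferrand push-out: gluing -/
theorem exists_section (W : P.Opens) (s₁ : Γ(X, a ⁻¹ᵁ W)) (s₂ : Γ(Y, b ⁻¹ᵁ W))
    (hle : i ⁻¹ᵁ a ⁻¹ᵁ W ≤ j ⁻¹ᵁ b ⁻¹ᵁ W)
    (h : (i.app (a ⁻¹ᵁ W)).hom s₁ = (j.appLE (b ⁻¹ᵁ W) (i ⁻¹ᵁ a ⁻¹ᵁ W) hle).hom s₂) :
    ∃ t : Γ(P, W), (a.app W).hom t = s₁ ∧ (b.app W).hom t = s₂ := by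
  have hF := isPushout_overPullback i j HX HY a b hP W.ι (hloc_of_flat i j HX HY a b hP W.ι)
  let iF : pullback (i ≫ a) W.ι ⟶ pullback a W.ι :=
    ((Over.pullback W.ι).map (Over.homMk i rfl : Over.mk (i ≫ a) ⟶ Over.mk a)).left
  let jF : pullback (i ≫ a) W.ι ⟶ pullback b W.ι :=
    ((Over.pullback W.ι).map (Over.homMk j hP.w.symm : Over.mk (i ≫ a) ⟶ Over.mk b)).left
  have hF' : IsPushout iF jF (pullback.snd a W.ι) (pullback.snd b W.ι) := hF
  have hiF1 : iF ≫ pullback.fst a W.ι = pullback.fst (i ≫ a) W.ι ≫ i := pullback.lift_fst _ _ _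
  have hjF1 : jF ≫ pullback.fst b W.ι = pullback.fst (i ≫ a) W.ι ≫ j := pullback.lift_fst _ _ _
  have hleZ : (⊤ : (pullback (i ≫ a) W.ι : Scheme.{u}).Opens) ≤
      (pullback.fst (i ≫ a) W.ι) ⁻¹ᵁ (i ⁻¹ᵁ a ⁻¹ᵁ W) := top_le_fst_preimage (i ≫ a) W
  have eTi : iF.appTop = iF.appLE ⊤ ⊤ le_top := Scheme.Hom.app_eq_appLE _
  have eTj : jF.appTop = jF.appLE ⊤ ⊤ le_top := Scheme.Hom.app_eq_appLE _
  have cX : (pullback.fst a W.ι).appLE (a ⁻¹ᵁ W) ⊤ (top_le_fst_preimage a W) ≫ iF.appTop =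
      i.app (a ⁻¹ᵁ W) ≫ (pullback.fst (i ≫ a) W.ι).appLE (i ⁻¹ᵁ a ⁻¹ᵁ W) ⊤ hleZ := by
    rw [eTi, Scheme.Hom.appLE_comp_appLE, Scheme.Hom.app_eq_appLE, Scheme.Hom.appLE_comp_appLE]
    exact appLE_congr_hom hiF1 _ _ _ _
  have cY : (pullback.fst b W.ι).appLE (b ⁻¹ᵁ W) ⊤ (top_le_fst_preimage b W) ≫ jF.appTop =
      j.appLE (b ⁻¹ᵁ W) (i ⁻¹ᵁ a ⁻¹ᵁ W) hle ≫
        (pullback.fst (i ≫ a) W.ι).appLE (i ⁻¹ᵁ a ⁻¹ᵁ W) ⊤ hleZ := by
    rw [eTj, Scheme.Hom.appLE_comp_appLE, Scheme.Hom.appLE_comp_appLE]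
    exact appLE_congr_hom hjF1 _ _ _ _
  have hc : iF.appTop.hom
        (((pullback.fst a W.ι).appLE (a ⁻¹ᵁ W) ⊤ (top_le_fst_preimage a W)).hom s₁) =
      jF.appTop.hom
        (((pullback.fst b W.ι).appLE (b ⁻¹ᵁ W) ⊤ (top_le_fst_preimage b W)).hom s₂) := by
    have e1 := congrArg (fun m => m.hom s₁) cX
    have e2 := congrArg (fun m => m.hom s₂) cY
    refine e1.trans (Eq.trans ?_ e2.symm)
    show ((pullback.fst (i ≫ a) W.ι).appLE (i ⁻¹ᵁ a ⁻¹ᵁ W) ⊤ hleZ).hom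
        ((i.app (a ⁻¹ᵁ W)).hom s₁) =
      ((pullback.fst (i ≫ a) W.ι).appLE (i ⁻¹ᵁ a ⁻¹ᵁ W) ⊤ hleZ).hom
        ((j.appLE (b ⁻¹ᵁ W) (i ⁻¹ᵁ a ⁻¹ᵁ W) hle).hom s₂)
    rw [h]
  obtain ⟨σ, hσ1, hσ2⟩ := gex hF' _ _ hc
  have hsurj : Function.Surjective (W.ι.appLE W ⊤ W.ι_preimage_self.ge).hom :=
    ((ConcreteCategory.isIso_iff_bijective (W.ι.appLE W ⊤ W.ι_preimage_self.ge)).mp
      inferInstance).surjective
  obtain ⟨t, ht⟩ := hsurj σ
  refine ⟨t, ?_, ?_⟩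
  · apply fst_appLE_injective a W
    have e3 := congrArg (fun m => m.hom t) (restr_eq a W)
    have e4 : ((pullback.fst a W.ι).appLE (a ⁻¹ᵁ W) ⊤ (top_le_fst_preimage a W)).hom
        ((a.app W).hom t) = (pullback.snd a W.ι).appTop.hom
          ((W.ι.appLE W ⊤ W.ι_preimage_self.ge).hom t) := e3.symm
    rw [e4, ht, hσ1]
  · apply fst_appLE_injective b W
    have e3 := congrArg (fun m => m.hom t) (restr_eq b W)
    have e4 : ((pullback.fst b W.ι).appLE (b ⁻¹ᵁ W) ⊤ (top_le_fst_preimage b W)).hom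
        ((b.app W).hom t) = (pullback.snd b W.ι).appTop.hom
          ((W.ι.appLE W ⊤ W.ι_preimage_self.ge).hom t) := e3.symm
    rw [e4, ht, hσ2]

include HX HY hP in
/-- gluing sections, flexible form -/
theorem exists_section' (O : P.Opens) (O₁ : X.Opens) (O₂ : Y.Opens) (h₁ : O₁ = a ⁻¹ᵁ O)
    (h₂ : O₂ = b ⁻¹ᵁ O) (hle : i ⁻¹ᵁ O₁ ≤ j ⁻¹ᵁ O₂) (s₁ : Γ(X, O₁)) (s₂ : Γ(Y, O₂))
    (hc : (i.app O₁).hom s₁ = (j.appLE O₂ (i ⁻¹ᵁ O₁) hle).hom s₂) :
    ∃ t : Γ(P, O), (a.appLE O O₁ h₁.le).hom t = s₁ ∧ (b.appLE O O₂ h₂.le).hom t = s₂ := by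
  subst h₁ h₂
  obtain ⟨t, ht1, ht2⟩ := exists_section i j HX HY a b hP O s₁ s₂ hle hc
  refine ⟨t, ?_, ?_⟩
  · have e : a.appLE O (a ⁻¹ᵁ O) le_rfl = a.app O := (Scheme.Hom.app_eq_appLE a).symm
    exact (congrArg (fun m => m.hom t) e).trans ht1
  · have e : b.appLE O (b ⁻¹ᵁ O) le_rfl = b.app O := (Scheme.Hom.app_eq_appLE b).symm
    exact (congrArg (fun m => m.hom t) e).trans ht2

include HX HY hP in
/-- sections are determined by their restrictions, flexible form -/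
theorem sec_ext' (O : P.Opens) (O₁ : X.Opens) (O₂ : Y.Opens) (h₁ : O₁ = a ⁻¹ᵁ O)
    (h₂ : O₂ = b ⁻¹ᵁ O) (t t' : Γ(P, O))
    (e1 : (a.appLE O O₁ h₁.le).hom t = (a.appLE O O₁ h₁.le).hom t')
    (e2 : (b.appLE O O₂ h₂.le).hom t = (b.appLE O O₂ h₂.le).hom t') : t = t' := by
  subst h₁ h₂
  have ea : a.appLE O (a ⁻¹ᵁ O) le_rfl = a.app O := (Scheme.Hom.app_eq_appLE a).symm
  have eb : b.appLE O (b ⁻¹ᵁ O) le_rfl = b.app O := (Scheme.Hom.app_eq_appLE b).symm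
  have e1' : (a.app O).hom t = (a.app O).hom t' :=
    ((congrArg (fun m => m.hom t) ea).symm.trans e1).trans (congrArg (fun m => m.hom t') ea)
  have e2' : (b.app O).hom t = (b.app O).hom t' :=
    ((congrArg (fun m => m.hom t) eb).symm.trans e2).trans (congrArg (fun m => m.hom t') eb)
  have hd := dom i j HX HY a b hP O (t - t') (by rw [map_sub, e1', sub_self])
    (by rw [map_sub, e2', sub_self])
  exact sub_eq_zero.mp hd

end geom2

section ring2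

/-- a ring homomorphism defined by unique existence -/
theorem exists_ringHom_lift {A B₁ B₂ C : Type u} [CommRing A] [CommRing B₁] [CommRing B₂]
    [CommRing C] (φ₁ : A →+* B₁) (φ₂ : A →+* B₂)
    (hinj : ∀ x y : A, φ₁ x = φ₁ y → φ₂ x = φ₂ y → x = y)
    (ψ₁ : C →+* B₁) (ψ₂ : C →+* B₂) (hex : ∀ c : C, ∃ x : A, φ₁ x = ψ₁ c ∧ φ₂ x = ψ₂ c) :
    ∃ θ : C →+* A, φ₁.comp θ = ψ₁ ∧ φ₂.comp θ = ψ₂ := by
  choose θ₀ h1 h2 using hex
  have hu : ∀ (c : C) (x : A), φ₁ x = ψ₁ c → φ₂ x = ψ₂ c → θ₀ c = x :=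
    fun c x e1 e2 => hinj _ _ ((h1 c).trans e1.symm) ((h2 c).trans e2.symm)
  refine ⟨{ toFun := θ₀, map_one' := ?_, map_mul' := ?_, map_zero' := ?_, map_add' := ?_ },
    ?_, ?_⟩
  · exact hu 1 1 (by rw [map_one, map_one]) (by rw [map_one, map_one])
  · intro c c'
    exact hu _ _ (by simp only [map_mul, h1]) (by simp only [map_mul, h2])
  · exact hu 0 0 (by rw [map_zero, map_zero]) (by rw [map_zero, map_zero])
  · intro c c'
    exact hu _ _ (by simp only [map_add, h1]) (by simp only [map_add, h2])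
  · ext c
    exact h1 c
  · ext c
    exact h2 c

end ring2

end Groth.Agent.Helper17.AG86
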