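import Mathlib
import Groth.Agent.Lib.Helper17.AG86

/-!
# Ferrand push-outs are push-outs of ringed spaces (helper17)

`S17904`.
-/

set_option autoImplicit false
universe u
open CategoryTheory CategoryTheory.Limits AlgebraicGeometry Opposite TopologicalSpace

noncomputable section
namespace Groth.Agent.Helper17.AG87
open Groth.Agent.Helper17.AG57 Groth.Agent.Helper17.AG58 Groth.Agent.Helper17.AG68
open Groth.Agent.Helper17.AG69 Groth.Agent.Helper17.AG69.Idx Groth.Agent.Helper17.AG70
open Groth.Agent.Helper17.AG71 Groth.Agent.Helper17.AG72 Groth.Agent.Helper17.AG73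
open Groth.Agent.Helper17.AG75 Groth.Agent.Helper17.AG76 Groth.Agent.Helper17.AG77
open Groth.Agent.Helper17.AG78 Groth.Agent.Helper17.AG79 Groth.Agent.Helper17.AG80
open Groth.Agent.Helper17.AG81 Groth.Agent.Helper17.AG82 Groth.Agent.Helper17.AG83
open Groth.Agent.Helper17.AG84 Groth.Agent.Helper17.AG85 Groth.Agent.Helper17.AG86
open Groth.Agent.Helper19.FibProd

theorem app_eqToHom_eq_appLE {A B : Scheme.{u}} (f : A ⟶ B) (U : B.Opens) (V : A.Opens)
    (h : op (f ⁻¹ᵁ U) = op V) (e : V ≤ f ⁻¹ᵁ U) :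
    f.app U ≫ A.presheaf.map (eqToHom h) = f.appLE U V e := by
  have h' : f ⁻¹ᵁ U = V := Opposite.op_injective h
  subst h'
  simp [Scheme.Hom.appLE]

theorem appLE_nat {A B : Scheme.{u}} (f : A ⟶ B) {U U' : B.Opens} {V V' : A.Opens}
    (e : V ≤ f ⁻¹ᵁ U) (e' : V' ≤ f ⁻¹ᵁ U') (r : op U ⟶ op U') (r' : op V ⟶ op V') :
    B.presheaf.map r ≫ f.appLE U' V' e' = f.appLE U V e ≫ A.presheaf.map r' := by
  rw [Scheme.Hom.map_appLE, Scheme.Hom.appLE_map]

section geom

variable {X Y Z : Scheme.{u}} (i : Z ⟶ X) (j : Z ⟶ Y) [IsClosedImmersion i]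
  (HX : ∀ x : X, ∃ α : Idx i j, x ∈ α.U) (HY : ∀ y : Y, ∃ α : Idx i j, y ∈ α.V)
  {P : Scheme.{u}} (a : X ⟶ P) (b : Y ⟶ P) (hP : IsPushout i j a b)

include HX HY hP in
theorem sec_ext (O : P.Opens) (t t' : Γ(P, O)) (e1 : (a.app O).hom t = (a.app O).hom t')
    (e2 : (b.app O).hom t = (b.app O).hom t') : t = t' := by
  have hd := dom i j HX HY a b hP O (t - t') (by rw [map_sub, e1, sub_self])
    (by rw [map_sub, e2, sub_self])
  exact sub_eq_zero.mp hd

include HX HY hP in
/-- the two pieces of a Ferrand push-out are jointly epimorphic among ringed spaces -/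
theorem key_ext (W : SheafedSpace.{u+1, u, u} CommRingCat.{u}) (m₁ m₂ : Fsh.obj P ⟶ W)
    (h1 : Fsh.map a ≫ m₁ = Fsh.map a ≫ m₂) (h2 : Fsh.map b ≫ m₁ = Fsh.map b ≫ m₂) :
    m₁ = m₂ := by
  obtain ⟨n₁⟩ := m₁
  obtain ⟨n₂⟩ := m₂
  have h1' : (Fsh.map a).hom ≫ n₁ = (Fsh.map a).hom ≫ n₂ := congrArg (fun m => m.hom) h1
  have h2' : (Fsh.map b).hom ≫ n₁ = (Fsh.map b).hom ≫ n₂ := congrArg (fun m => m.hom) h2
  apply InducedCategory.Hom.ext
  show n₁ = n₂
  obtain ⟨β₁, c₁⟩ := n₁
  obtain ⟨β₂, c₂⟩ := n₂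
  have hβ : β₁ = β₂ := by
    apply ConcreteCategory.hom_ext
    intro p
    rcases mem_range_a_or_b i j HX HY a b hP p with ⟨x, rfl⟩ | ⟨y, rfl⟩
    · exact congrArg (fun m : (Fsh.obj X).toPresheafedSpace ⟶ W.toPresheafedSpace =>
        m.base x) h1'
    · exact congrArg (fun m : (Fsh.obj Y).toPresheafedSpace ⟶ W.toPresheafedSpace =>
        m.base y) h2'
  subst hβ
  have hc : c₁ = c₂ := by
    apply NatTrans.ext
    funext V
    apply CommRingCat.hom_ext
    apply RingHom.ext
    intro s
    apply sec_ext i j HX HY a b hP ((Opens.map β₁).obj V.unop)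
    · have e := PresheafedSpace.congr_app h1' V
      have e' : c₁.app V ≫ a.app ((Opens.map β₁).obj V.unop) =
          (c₂.app V ≫ a.app ((Opens.map β₁).obj V.unop)) ≫
            X.presheaf.map (eqToHom (rfl : op (a ⁻¹ᵁ ((Opens.map β₁).obj V.unop)) = _)) := e
      rw [eqToHom_refl, X.presheaf.map_id, Category.comp_id] at e'
      exact congrArg (fun m => m.hom s) e'
    · have e := PresheafedSpace.congr_app h2' V
      have e' : c₁.app V ≫ b.app ((Opens.map β₁).obj V.unop) =
          (c₂.app V ≫ b.app ((Opens.map β₁).obj V.unop)) ≫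
            Y.presheaf.map (eqToHom (rfl : op (b ⁻¹ᵁ ((Opens.map β₁).obj V.unop)) = _)) := e
      rw [eqToHom_refl, Y.presheaf.map_id, Category.comp_id] at e'
      exact congrArg (fun m => m.hom s) e'
  rw [hc]

include HX HY hP in
/-- the universal property of a Ferrand push-out among ringed spaces: existence -/
theorem key_desc (W : SheafedSpace.{u+1, u, u} CommRingCat.{u}) (f₁ : Fsh.obj X ⟶ W)
    (f₂ : Fsh.obj Y ⟶ W) (h : Fsh.map i ≫ f₁ = Fsh.map j ≫ f₂) :
    ∃ m : Fsh.obj P ⟶ W, Fsh.map a ≫ m = f₁ ∧ Fsh.map b ≫ m = f₂ := by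
  obtain ⟨n₁⟩ := f₁
  obtain ⟨n₂⟩ := f₂
  have h' : (Fsh.map i).hom ≫ n₁ = (Fsh.map j).hom ≫ n₂ := congrArg (fun m => m.hom) h
  have hb : ∀ z : Z, n₁.base (i z) = n₂.base (j z) := by
    intro z
    exact congrArg (fun m : (Fsh.obj Z).toPresheafedSpace ⟶ W.toPresheafedSpace => m.base z) h'
  obtain ⟨g₀, hg₀, hga, hgb⟩ := exists_base_desc i j HX HY a b hP (fun x : X => n₁.base x)
    (fun y : Y => n₂.base y) n₁.base.hom.continuous n₂.base.hom.continuous hb
  let β : (Fsh.obj P).toPresheafedSpace.carrier ⟶ W.toPresheafedSpace.carrier :=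
    TopCat.ofHom ⟨g₀, hg₀⟩
  have hOa : ∀ V : Opens W.toPresheafedSpace.carrier,
      (Opens.map n₁.base).obj V = a ⁻¹ᵁ ((Opens.map β).obj V) := by
    intro V
    apply Opens.ext
    ext x
    show n₁.base x ∈ V ↔ g₀ (a x) ∈ V
    rw [hga]
  have hOb : ∀ V : Opens W.toPresheafedSpace.carrier,
      (Opens.map n₂.base).obj V = b ⁻¹ᵁ ((Opens.map β).obj V) := by
    intro V
    apply Opens.ext
    ext y
    show n₂.base y ∈ V ↔ g₀ (b y) ∈ V
    rw [hgb]
  have hle : ∀ V : Opens W.toPresheafedSpace.carrier,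
      i ⁻¹ᵁ ((Opens.map n₁.base).obj V) ≤ j ⁻¹ᵁ ((Opens.map n₂.base).obj V) := by
    intro V z hz
    show n₂.base (j z) ∈ V
    rw [← hb]
    exact hz
  have hcompat : ∀ (V : Opens W.toPresheafedSpace.carrier) (s : W.presheaf.obj (op V)),
      (i.app ((Opens.map n₁.base).obj V)).hom ((n₁.c.app (op V)).hom s) =
        (j.appLE ((Opens.map n₂.base).obj V) (i ⁻¹ᵁ ((Opens.map n₁.base).obj V)) (hle V)).hom
          ((n₂.c.app (op V)).hom s) := by
    intro V s
    have e := PresheafedSpace.congr_app h' (op V)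
    have hEq : op (j ⁻¹ᵁ ((Opens.map n₂.base).obj V)) =
        op (i ⁻¹ᵁ ((Opens.map n₁.base).obj V)) := by
      congr 1
      apply Opens.ext
      ext z
      show n₂.base (j z) ∈ V ↔ n₁.base (i z) ∈ V
      rw [hb]
    have e' : n₁.c.app (op V) ≫ i.app ((Opens.map n₁.base).obj V) =
        (n₂.c.app (op V) ≫ j.app ((Opens.map n₂.base).obj V)) ≫
          Z.presheaf.map (eqToHom hEq) := e
    have e2 := congrArg (fun m => m.hom s) e'
    have e3 := congrArg (fun m => m.hom ((n₂.c.app (op V)).hom s))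
      (app_eqToHom_eq_appLE j ((Opens.map n₂.base).obj V) (i ⁻¹ᵁ ((Opens.map n₁.base).obj V))
        hEq (hle V))
    exact e2.trans e3
  have hθ : ∀ V : Opens W.toPresheafedSpace.carrier,
      ∃ θ : W.presheaf.obj (op V) →+* Γ(P, (Opens.map β).obj V),
        (a.appLE ((Opens.map β).obj V) ((Opens.map n₁.base).obj V) (hOa V).le).hom.comp θ =
          (n₁.c.app (op V)).hom ∧
        (b.appLE ((Opens.map β).obj V) ((Opens.map n₂.base).obj V) (hOb V).le).hom.comp θ =
          (n₂.c.app (op V)).hom := by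
    intro V
    exact exists_ringHom_lift _ _
      (fun x y e1 e2 => sec_ext' i j HX HY a b hP _ _ _ (hOa V) (hOb V) x y e1 e2) _ _
      (fun s => exists_section' i j HX HY a b hP _ _ _ (hOa V) (hOb V) (hle V) _ _
        (hcompat V s))
  choose θ hθa hθb using hθ
  let c : W.presheaf ⟶ β _* (Fsh.obj P).presheaf :=
    { app := fun V => CommRingCat.ofHom (θ V.unop)
      naturality := by
        intro V V' f
        apply CommRingCat.hom_ext
        apply RingHom.ext
        intro s
        refine sec_ext' i j HX HY a b hP _ _ _ (hOa V'.unop) (hOb V'.unop) _ _ ?_ ?_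
        · have nA := appLE_nat a (U := (Opens.map β).obj V.unop)
            (U' := (Opens.map β).obj V'.unop) (V := (Opens.map n₁.base).obj V.unop)
            (V' := (Opens.map n₁.base).obj V'.unop) (hOa V.unop).le (hOa V'.unop).le
            ((Opens.map β).op.map f) ((Opens.map n₁.base).op.map f)
          have l1 := RingHom.congr_fun (hθa V'.unop) ((W.presheaf.map f).hom s)
          have l2 := RingHom.congr_fun (hθa V.unop) s
          have nat := congrArg (fun m => m.hom s) (n₁.c.naturality f)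
          have nA' := congrArg (fun m => m.hom (θ V.unop s)) nA
          refine l1.trans ?_
          refine Eq.trans ?_ nA'.symm
          refine nat.trans ?_
          show (X.presheaf.map ((Opens.map n₁.base).op.map f)).hom
              ((n₁.c.app (op V.unop)).hom s) =
            (X.presheaf.map ((Opens.map n₁.base).op.map f)).hom
              ((a.appLE ((Opens.map β).obj V.unop) ((Opens.map n₁.base).obj V.unop)
                (hOa V.unop).le).hom (θ V.unop s))
          exact congrArg _ l2.symm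
        · have nB := appLE_nat b (U := (Opens.map β).obj V.unop)
            (U' := (Opens.map β).obj V'.unop) (V := (Opens.map n₂.base).obj V.unop)
            (V' := (Opens.map n₂.base).obj V'.unop) (hOb V.unop).le (hOb V'.unop).le
            ((Opens.map β).op.map f) ((Opens.map n₂.base).op.map f)
          have l1 := RingHom.congr_fun (hθb V'.unop) ((W.presheaf.map f).hom s)
          have l2 := RingHom.congr_fun (hθb V.unop) s
          have nat := congrArg (fun m => m.hom s) (n₂.c.naturality f)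
          have nB' := congrArg (fun m => m.hom (θ V.unop s)) nB
          refine l1.trans ?_
          refine Eq.trans ?_ nB'.symm
          refine nat.trans ?_
          show (Y.presheaf.map ((Opens.map n₂.base).op.map f)).hom
              ((n₂.c.app (op V.unop)).hom s) =
            (Y.presheaf.map ((Opens.map n₂.base).op.map f)).hom
              ((b.appLE ((Opens.map β).obj V.unop) ((Opens.map n₂.base).obj V.unop)
                (hOb V.unop).le).hom (θ V.unop s))
          exact congrArg _ l2.symm }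
  let m₀ : (Fsh.obj P).toPresheafedSpace ⟶ W.toPresheafedSpace := { base := β, c := c }
  have keyA : ∀ (V : (Opens W.toPresheafedSpace.carrier)ᵒᵖ)
      (hE : op (a ⁻¹ᵁ ((Opens.map β).obj V.unop)) = op ((Opens.map n₁.base).obj V.unop)),
      (CommRingCat.ofHom (θ V.unop) ≫ a.app ((Opens.map β).obj V.unop)) ≫
        X.presheaf.map (eqToHom hE) = n₁.c.app V := by
    intro V hE
    have e3 := app_eqToHom_eq_appLE a ((Opens.map β).obj V.unop)
      ((Opens.map n₁.base).obj V.unop) hE (hOa V.unop).le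
    apply CommRingCat.hom_ext
    apply RingHom.ext
    intro s
    have e4 := congrArg (fun m => m.hom (θ V.unop s)) e3
    exact e4.trans (RingHom.congr_fun (hθa V.unop) s)
  have keyB : ∀ (V : (Opens W.toPresheafedSpace.carrier)ᵒᵖ)
      (hE : op (b ⁻¹ᵁ ((Opens.map β).obj V.unop)) = op ((Opens.map n₂.base).obj V.unop)),
      (CommRingCat.ofHom (θ V.unop) ≫ b.app ((Opens.map β).obj V.unop)) ≫
        Y.presheaf.map (eqToHom hE) = n₂.c.app V := by
    intro V hE
    have e3 := app_eqToHom_eq_appLE b ((Opens.map β).obj V.unop)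
      ((Opens.map n₂.base).obj V.unop) hE (hOb V.unop).le
    apply CommRingCat.hom_ext
    apply RingHom.ext
    intro s
    have e4 := congrArg (fun m => m.hom (θ V.unop s)) e3
    exact e4.trans (RingHom.congr_fun (hθb V.unop) s)
  refine ⟨⟨m₀⟩, ?_, ?_⟩
  · apply InducedCategory.Hom.ext
    show (Fsh.map a).hom ≫ m₀ = n₁
    refine PresheafedSpace.ext _ _ ?_ ?_
    · apply ConcreteCategory.hom_ext
      intro x
      exact hga x
    · apply NatTrans.ext
      funext V
      rw [TopCat.Presheaf.comp_app, Functor.whiskerRight_app, eqToHom_app]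
      exact keyA V _
  · apply InducedCategory.Hom.ext
    show (Fsh.map b).hom ≫ m₀ = n₂
    refine PresheafedSpace.ext _ _ ?_ ?_
    · apply ConcreteCategory.hom_ext
      intro y
      exact hgb y
    · apply NatTrans.ext
      funext V
      rw [TopCat.Presheaf.comp_app, Functor.whiskerRight_app, eqToHom_app]
      exact keyB V _

include HX HY hP in
/-- a Ferrand push-out of schemes is a push-out of ringed spaces -/
theorem isPushout_Fsh : IsPushout (Fsh.map i) (Fsh.map j) (Fsh.map a) (Fsh.map b) := by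
  have w : Fsh.map i ≫ Fsh.map a = Fsh.map j ≫ Fsh.map b := by
    rw [← Functor.map_comp, ← Functor.map_comp, hP.w]
  refine ⟨⟨w⟩, ⟨PushoutCocone.IsColimit.mk _
    (fun s => (key_desc i j HX HY a b hP s.pt s.inl s.inr s.condition).choose)
    (fun s => (key_desc i j HX HY a b hP s.pt s.inl s.inr s.condition).choose_spec.1)
    (fun s => (key_desc i j HX HY a b hP s.pt s.inl s.inr s.condition).choose_spec.2) ?_⟩⟩
  intro s m h1 h2
  apply key_ext i j HX HY a b hP
  · rw [(key_desc i j HX HY a b hP s.pt s.inl s.inr s.condition).choose_spec.1]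
    exact h1
  · rw [(key_desc i j HX HY a b hP s.pt s.inl s.inr s.condition).choose_spec.2]
    exact h2

end geom

/-- `S17904` -/
theorem main17904 {S X Z Z' X' : Scheme.{u}}
    (fX : X ⟶ S) (fZ' : Z' ⟶ S) (fX' : X' ⟶ S) (ι : Z ⟶ X) (q : Z ⟶ Z') (π : X ⟶ X')
    (ι' : Z' ⟶ X')
    [IsClosedImmersion ι] [IsClosedImmersion ι'] [IsAffineHom q] [IsAffineHom π]
    (hq : q ≫ fZ' = ι ≫ fX) (hπ : π ≫ fX' = fX) (hι' : ι' ≫ fX' = fZ')
    (hpo : IsPushout (Fsh.map ι) (Fsh.map q) (Fsh.map π) (Fsh.map ι'))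
    [Flat fX] [Flat (ι ≫ fX)] [Flat fZ'] {T : Scheme.{u}} (g : T ⟶ S) :
    IsPushout
      (Fsh.map ((Over.pullback g).map (Over.homMk ι rfl : Over.mk (ι ≫ fX) ⟶ Over.mk fX)).left)
      (Fsh.map ((Over.pullback g).map (Over.homMk q hq : Over.mk (ι ≫ fX) ⟶ Over.mk fZ')).left)
      (Fsh.map ((Over.pullback g).map (Over.homMk π hπ : Over.mk fX ⟶ Over.mk fX')).left)
      (Fsh.map
        ((Over.pullback g).map (Over.homMk ι' hι' : Over.mk fZ' ⟶ Over.mk fX')).left) := by
  have hP := isPushout_of_sheafedSpace ι q π ι' hpo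
  obtain ⟨HX, HY⟩ := charts_affine ι q π ι' hP.w
  haveI : Flat (ι ≫ π ≫ fX') := by rw [hπ]; infer_instance
  have comm : (Over.pullback g).map (Over.homMk q hq : Over.mk (ι ≫ fX) ⟶ Over.mk fZ') ≫
      (Over.pullback g).map (Over.homMk ι' hι' : Over.mk fZ' ⟶ Over.mk fX') =
      (Over.pullback g).map (Over.homMk ι rfl : Over.mk (ι ≫ fX) ⟶ Over.mk fX) ≫
      (Over.pullback g).map (Over.homMk π hπ : Over.mk fX ⟶ Over.mk fX') := by
    rw [← Functor.map_comp, ← Functor.map_comp]
    congr 1
    apply Over.OverMorphism.ext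
    exact hP.w.symm
  have sqX := isPullback_overPullback_map g (Over.homMk π hπ : Over.mk fX ⟶ Over.mk fX')
  have sqY := isPullback_overPullback_map g (Over.homMk ι' hι' : Over.mk fZ' ⟶ Over.mk fX')
  have sqZ := isPullback_overPullback_map g (Over.homMk ι rfl : Over.mk (ι ≫ fX) ⟶ Over.mk fX)
  have hPT : IsPushout
      ((Over.pullback g).map (Over.homMk ι rfl : Over.mk (ι ≫ fX) ⟶ Over.mk fX)).left
      ((Over.pullback g).map (Over.homMk q hq : Over.mk (ι ≫ fX) ⟶ Over.mk fZ')).left
      ((Over.pullback g).map (Over.homMk π hπ : Over.mk fX ⟶ Over.mk fX')).left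
      ((Over.pullback g).map (Over.homMk ι' hι' : Over.mk fZ' ⟶ Over.mk fX')).left := by
    refine isPushout_baseChange ι q HX HY π ι' hP (pullback.fst fX' g)
      (pullback.fst fX g)
      ((Over.pullback g).map (Over.homMk π hπ : Over.mk fX ⟶ Over.mk fX')).left sqX
      (pullback.fst fZ' g)
      ((Over.pullback g).map (Over.homMk ι' hι' : Over.mk fZ' ⟶ Over.mk fX')).left sqY
      (pullback.fst (ι ≫ fX) g)
      ((Over.pullback g).map (Over.homMk ι rfl : Over.mk (ι ≫ fX) ⟶ Over.mk fX)).left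
      ((Over.pullback g).map (Over.homMk q hq : Over.mk (ι ≫ fX) ⟶ Over.mk fZ')).left
      sqZ ?_ ?_ ?_
    · exact pullback.lift_fst _ _ _
    · exact congrArg (fun m => m.left) comm
    · exact hloc_of_flat_corner ι q HX HY π ι' hP fX' g (pullback.fst fX' g)
        (pullback.snd fX' g) (IsPullback.of_hasPullback fX' g)
  haveI : IsClosedImmersion
      ((Over.pullback g).map (Over.homMk ι rfl : Over.mk (ι ≫ fX) ⟶ Over.mk fX)).left :=
    MorphismProperty.of_isPullback (P := @IsClosedImmersion) sqZ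
      (show IsClosedImmersion ι from inferInstance)
  haveI : IsAffineHom
      ((Over.pullback g).map (Over.homMk π hπ : Over.mk fX ⟶ Over.mk fX')).left :=
    MorphismProperty.of_isPullback (P := @IsAffineHom) sqX
      (show IsAffineHom π from inferInstance)
  haveI : IsClosedImmersion
      ((Over.pullback g).map (Over.homMk ι' hι' : Over.mk fZ' ⟶ Over.mk fX')).left :=
    MorphismProperty.of_isPullback (P := @IsClosedImmersion) sqY
      (show IsClosedImmersion ι' from inferInstance)
  obtain ⟨HXT, HYT⟩ := charts_affine _ _ _ _ hPT.w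
  exact isPushout_Fsh _ _ HXT HYT _ _ hPT

end Groth.Agent.Helper17.AG87
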