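import Mathlib
import Groth.Prelude.Def_W4bk4boschfrg79
import Groth.Agent.Lib.Helper17.AR10

/-!
# Flatness can be tested on truncations (helper17)
-/

set_option autoImplicit false

universe u

open AdicRing TensorProduct

namespace Groth.Agent.Helper17.AR

section Triv

variable {A : Type u} [CommRing A] {M : Type u} [AddCommGroup M] [Module A M]

/-- trivial relations with an arbitrary finite index type -/
def TrivRel {l : ℕ} (f : Fin l → A) (x : Fin l → M) : Prop :=
  ∃ (κ : Type) (_ : Fintype κ) (a : Fin l → κ → A) (y : κ → M),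
    (∀ i, x i = ∑ j, a i j • y j) ∧ ∀ j, ∑ i, f i * a i j = 0

lemma TrivRel.isTrivialRelation {l : ℕ} {f : Fin l → A} {x : Fin l → M} (h : TrivRel f x) :
    Module.IsTrivialRelation f x := by
  obtain ⟨κ, _, a, y, h1, h2⟩ := h
  refine ⟨Fintype.card κ, fun i j => a i ((Fintype.equivFin κ).symm j),
    fun j => y ((Fintype.equivFin κ).symm j), ?_, ?_⟩
  · intro i
    rw [h1 i]
    exact (Equiv.sum_comp (Fintype.equivFin κ).symm (fun j => a i j • y j)).symm
  · intro j
    exact h2 _

variable {B : Type u} [CommRing B] [Algebra A B] [Module B M] [IsScalarTower A B M]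

/-- the submodule of trivial relations, as a `B`-submodule -/
def trivSub {l : ℕ} (f : Fin l → A) : Submodule B (Fin l → M) where
  carrier := {x | TrivRel f x}
  add_mem' := by
    rintro x x' ⟨κ, _, a, y, h1, h2⟩ ⟨κ', _, a', y', h1', h2'⟩
    refine ⟨κ ⊕ κ', inferInstance, fun i => Sum.elim (a i) (a' i), Sum.elim y y', ?_, ?_⟩
    · intro i
      rw [Fintype.sum_sum_type]
      simp only [Sum.elim_inl, Sum.elim_inr, Pi.add_apply, h1 i, h1' i]
    · rintro (j | j)
      · simpa using h2 j
      · simpa using h2' j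
  zero_mem' := ⟨PEmpty, inferInstance, fun _ j => j.elim, fun j => j.elim, by simp,
    fun j => j.elim⟩
  smul_mem' := by
    rintro b x ⟨κ, _, a, y, h1, h2⟩
    refine ⟨κ, inferInstance, a, fun j => b • y j, ?_, h2⟩
    intro i
    simp only [Pi.smul_apply, h1 i, Finset.smul_sum]
    refine Finset.sum_congr rfl fun j _ => ?_
    rw [smul_comm]

lemma mem_trivSub {l : ℕ} (f : Fin l → A) (x : Fin l → M) :
    x ∈ trivSub (B := B) f ↔ TrivRel f x := Iff.rfl

end Triv

section Trunc

variable {A : Type u} [CommRing A] (J : Ideal A) {M : Type u} [AddCommGroup M] [Module A M]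

lemma mk_tmul (a : A) (m : M) :
    (Ideal.Quotient.mk J a) ⊗ₜ[A] m = (1 : A ⧸ J) ⊗ₜ[A] (a • m) := by
  rw [← TensorProduct.smul_tmul]
  congr 1
  rw [Algebra.smul_def, mul_one]
  rfl

lemma exists_one_tmul (z : (A ⧸ J) ⊗[A] M) : ∃ y : M, z = (1 : A ⧸ J) ⊗ₜ[A] y := by
  induction z using TensorProduct.induction_on with
  | zero => exact ⟨0, by simp⟩
  | tmul q m =>
    obtain ⟨a, rfl⟩ := Ideal.Quotient.mk_surjective q
    exact ⟨a • m, mk_tmul J a m⟩
  | add z w hz hw =>
    obtain ⟨y, rfl⟩ := hz
    obtain ⟨y', rfl⟩ := hw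
    exact ⟨y + y', by rw [TensorProduct.tmul_add]⟩

lemma mem_of_one_tmul_eq_zero (m : M) (h : (1 : A ⧸ J) ⊗ₜ[A] m = 0) :
    m ∈ J • (⊤ : Submodule A M) := by
  have h2 := congrArg (TensorProduct.quotTensorEquivQuotSMul M J) h
  rw [map_zero, TensorProduct.quotTensorEquivQuotSMul_mk_one_tmul] at h2
  exact (Submodule.Quotient.mk_eq_zero _).mp h2

lemma mk_smul_one_tmul (a : A) (m : M) :
    (Ideal.Quotient.mk J a) • ((1 : A ⧸ J) ⊗ₜ[A] m) = (1 : A ⧸ J) ⊗ₜ[A] (a • m) := by
  rw [TensorProduct.smul_tmul', smul_eq_mul, mul_one, mk_tmul]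

/-- lifting of trivialisations from a truncation -/
lemma exists_lift_triv (hfl : Module.Flat (A ⧸ J) ((A ⧸ J) ⊗[A] M)) {l : ℕ} (f : Fin l → A)
    (x : Fin l → M) (hx : ∑ i, f i • x i = 0) :
    ∃ (k : ℕ) (a : Fin l → Fin k → A) (y : Fin k → M),
      (∀ i, x i - ∑ j, a i j • y j ∈ J • (⊤ : Submodule A M)) ∧ ∀ j, ∑ i, f i * a i j ∈ J := by
  have hrel : ∑ i, (Ideal.Quotient.mk J (f i)) • ((1 : A ⧸ J) ⊗ₜ[A] x i) = 0 := by
    simp_rw [mk_smul_one_tmul]
    rw [← TensorProduct.tmul_sum, hx, TensorProduct.tmul_zero]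
  obtain ⟨k, a', y', h1, h2⟩ := Module.Flat.isTrivialRelation_of_sum_smul_eq_zero hrel
  beta_reduce at h1 h2
  have ha : ∀ i j, ∃ c : A, Ideal.Quotient.mk J c = a' i j :=
    fun i j => Ideal.Quotient.mk_surjective _
  choose a ha using ha
  have hy : ∀ j, ∃ m : M, y' j = (1 : A ⧸ J) ⊗ₜ[A] m := fun j => exists_one_tmul J _
  choose y hy using hy
  refine ⟨k, a, y, ?_, ?_⟩
  · intro i
    apply mem_of_one_tmul_eq_zero
    rw [TensorProduct.tmul_sub, h1 i, sub_eq_zero, TensorProduct.tmul_sum]
    refine Finset.sum_congr rfl fun j _ => ?_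
    rw [← ha i j, hy j, mk_smul_one_tmul]
  · intro j
    rw [← Ideal.Quotient.eq_zero_iff_mem, map_sum]
    simp_rw [map_mul, ha]
    exact h2 j

end Trunc

section Gen

variable {R : Type u} [CommRing R] (I : Ideal R)

lemma map_mem_smul_top {M N : Type u} [AddCommGroup M] [Module R M] [AddCommGroup N]
    [Module R N] (g : M →ₗ[R] N) {z : M} (hz : z ∈ I • (⊤ : Submodule R M)) :
    g z ∈ I • (⊤ : Submodule R N) := by
  have h := Submodule.mem_map_of_mem (f := g) hz
  rw [Submodule.map_smul''] at h
  exact Submodule.smul_mono le_rfl le_top h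

lemma pi_mem_smul_top {l : ℕ} {M : Type u} [AddCommGroup M] [Module R M] (z : Fin l → M)
    (hz : ∀ i, z i ∈ I • (⊤ : Submodule R M)) : z ∈ I • (⊤ : Submodule R (Fin l → M)) := by
  have : z = ∑ i, LinearMap.single R (fun _ : Fin l => M) i (z i) := by
    ext j
    simp [Finset.sum_apply, Pi.single_apply]
  rw [this]
  exact Submodule.sum_mem _ fun i _ => map_mem_smul_top I _ (hz i)

variable {A : Type u} [CommRing A] [Algebra R A]

lemma mem_smul_top_iff_mem_map (a : A) :
    a ∈ I • (⊤ : Submodule R A) ↔ a ∈ I.map (algebraMap R A) := by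
  have h := Submodule.restrictScalars_map_smul_eq (R := A) I (⊤ : Submodule A A)
  rw [Submodule.restrictScalars_top] at h
  rw [← h, Submodule.restrictScalars_mem, smul_eq_mul, Ideal.mul_top]

lemma mem_smul_top_iff_mem_map_smul {M : Type u} [AddCommGroup M] [Module A M] [Module R M]
    [IsScalarTower R A M] (m : M) :
    m ∈ I • (⊤ : Submodule R M) ↔ m ∈ I.map (algebraMap R A) • (⊤ : Submodule A M) := by
  have h := Submodule.restrictScalars_map_smul_eq (R := A) I (⊤ : Submodule A M)
  rw [Submodule.restrictScalars_top] at h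
  rw [← h, Submodule.restrictScalars_mem]

lemma exists_of_mem_smul_span {l : ℕ} (f : Fin l → A) (c : A)
    (hc : c ∈ I • (Ideal.span (Set.range f)).restrictScalars R) :
    ∃ d : Fin l → A, (∀ i, d i ∈ I • (⊤ : Submodule R A)) ∧ c = ∑ i, f i * d i := by
  refine Submodule.smul_induction_on hc (fun r hr n hn => ?_) (fun c c' hc hc' => ?_)
  · rw [Submodule.restrictScalars_mem] at hn
    obtain ⟨e, rfl⟩ := Ideal.mem_span_range_iff_exists_fun.mp hn
    refine ⟨fun i => r • e i, fun i => Submodule.smul_mem_smul hr trivial, ?_⟩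
    rw [Finset.smul_sum]
    refine Finset.sum_congr rfl fun i _ => ?_
    rw [mul_smul_comm, mul_comm]
  · obtain ⟨d, hd, rfl⟩ := hc
    obtain ⟨d', hd', rfl⟩ := hc'
    refine ⟨d + d', fun i => add_mem (hd i) (hd' i), ?_⟩
    simp [mul_add, Finset.sum_add_distrib]

end Gen

section Main31

theorem main11531
    (R : Type u) [CommRing R] (I : Ideal R) (hR : AdicRing.IsBase R I)
    (A : Type u) [CommRing A] [Algebra R A] (hA : AdicRing.TopFiniteType R I A)
    (B : Type u) [CommRing B] [Algebra R B] [Algebra A B] [IsScalarTower R A B]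
    (hB : AdicRing.TopFiniteType R I B)
    (M : Type u) [AddCommGroup M] [Module B M] [Module A M] [IsScalarTower A B M]
    [Module.Finite B M] :
    Module.Flat A M ↔
      ∀ n : ℕ, Module.Flat (AdicRing.trunc A I n) ((AdicRing.trunc A I n) ⊗[A] M) := by
  constructor
  · intro h n
    infer_instance
  · intro h
    let _ : Module R M := Module.compHom M (algebraMap R B)
    have hRB : IsScalarTower R B M := IsScalarTower.of_algebraMap_smul fun r m => rfl
    have hRA : IsScalarTower R A M := IsScalarTower.of_algebraMap_smul fun r m => by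
      show algebraMap R A r • m = algebraMap R B r • m
      rw [IsScalarTower.algebraMap_apply R A B, algebraMap_smul B (algebraMap R A r) m]
    refine Module.Flat.of_forall_isTrivialRelation ?_
    intro l f x hx
    apply TrivRel.isTrivialRelation
    rw [← mem_trivSub (B := B)]
    have hQ : IsAdicComplete I ((Fin l → M) ⧸ trivSub (B := B) (M := M) f) :=
      main11529 R I hR B hB _
    have hH : IsHausdorff I ((Fin l → M) ⧸ trivSub (B := B) (M := M) f) := hQ.toIsHausdorff
    rw [← Submodule.Quotient.mk_eq_zero]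
    apply hH.haus
    intro m
    rw [SModEq.zero]
    -- the approximation
    obtain ⟨n₀, hAR⟩ := main11528 R I hR A hA A (Ideal.span (Set.range f))
    obtain ⟨k, a, y, h1, h2⟩ := exists_lift_triv ((I ^ (m + n₀ + 1)).map (algebraMap R A))
      (h (m + n₀)) f x hx
    have hc : ∀ j, ∑ i, f i * a i j ∈ I ^ m • (Ideal.span (Set.range f)).restrictScalars R := by
      intro j
      apply hAR m
      refine ⟨?_, ?_⟩
      · rw [SetLike.mem_coe, mem_smul_top_iff_mem_map]
        exact Ideal.map_mono (Ideal.pow_le_pow_right (Nat.le_succ _)) (h2 j)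
      · rw [SetLike.mem_coe, Submodule.restrictScalars_mem]
        exact Ideal.sum_mem _ fun i _ =>
          Ideal.mul_mem_right _ _ (Ideal.subset_span ⟨i, rfl⟩)
    have hd := fun j => exists_of_mem_smul_span (I ^ m) f _ (hc j)
    choose d hd1 hd2 using hd
    -- the corrected trivialisation
    have hτ : (fun i => ∑ j, (a i j - d j i) • y j) ∈ trivSub (B := B) (M := M) f := by
      refine ⟨Fin k, inferInstance, fun i j => a i j - d j i, y, fun i => rfl, fun j => ?_⟩
      simp only [mul_sub, Finset.sum_sub_distrib]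
      rw [hd2 j, sub_self]
    have hdiff : x - (fun i => ∑ j, (a i j - d j i) • y j) ∈
        I ^ m • (⊤ : Submodule R (Fin l → M)) := by
      apply pi_mem_smul_top
      intro i
      have e : (x - fun i => ∑ j, (a i j - d j i) • y j) i =
          (x i - ∑ j, a i j • y j) + ∑ j, d j i • y j := by
        simp only [Pi.sub_apply, sub_smul, Finset.sum_sub_distrib]
        abel
      rw [e]
      refine add_mem ?_ (Submodule.sum_mem _ fun j _ => ?_)
      · rw [mem_smul_top_iff_mem_map_smul (A := A)]
        exact Submodule.smul_mono_left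
          (Ideal.map_mono (Ideal.pow_le_pow_right (by omega))) (h1 i)
      · exact map_mem_smul_top (I ^ m)
          ((LinearMap.toSpanSingleton A M (y j)).restrictScalars R) (hd1 j i)
    have hmk : (Submodule.Quotient.mk x : (Fin l → M) ⧸ trivSub (B := B) (M := M) f) =
        Submodule.Quotient.mk (x - fun i => ∑ j, (a i j - d j i) • y j) := by
      rw [Submodule.Quotient.mk_sub, (Submodule.Quotient.mk_eq_zero _).mpr hτ, sub_zero]
    rw [hmk]
    exact map_mem_smul_top (I ^ m)
      ((trivSub (B := B) (M := M) f).mkQ.restrictScalars R) hdiff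

end Main31

section Main32

theorem main11532
    (R : Type u) [CommRing R] (I : Ideal R) (hR : AdicRing.IsBase R I)
    (A : Type u) [CommRing A] [Algebra R A] (hA : AdicRing.TopFiniteType R I A)
    (B : Type u) [CommRing B] [Algebra R B] [Algebra A B] [IsScalarTower R A B]
    (hB : AdicRing.TopFiniteType R I B)
    (M : Type u) [AddCommGroup M] [Module B M] [Module A M] [IsScalarTower A B M]
    [Module.Finite B M] :
    Module.FaithfullyFlat A M ↔
      ∀ n : ℕ, Module.FaithfullyFlat (AdicRing.trunc A I n) ((AdicRing.trunc A I n) ⊗[A] M) := by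
  constructor
  · intro h n
    infer_instance
  · intro h
    have hfl : Module.Flat A M :=
      (main11531 R I hR A hA B hB M).mpr fun n => (h n).toFlat
    refine { toFlat := hfl, submodule_ne_top := ?_ }
    intro 𝔪 h𝔪 htop
    have hcA : IsAdicComplete I A := main11529 R I hR A hA A
    have hcA' : IsAdicComplete (I.map (algebraMap R A)) A :=
      (IsAdicComplete.map_algebraMap_iff _ _).mpr hcA
    have hle : I.map (algebraMap R A) ≤ 𝔪 :=
      (IsAdicComplete.le_jacobson_bot _).trans (sInf_le ⟨bot_le, h𝔪⟩)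
    have hle' : (I ^ (0 + 1)).map (algebraMap R A) ≤ 𝔪 := by
      rw [zero_add, pow_one]; exact hle
    have hmax : (𝔪.map (Ideal.Quotient.mk ((I ^ (0 + 1)).map (algebraMap R A)))).IsMaximal :=
      Ideal.IsMaximal.map_of_surjective_of_ker_le Ideal.Quotient.mk_surjective
        (by rw [Ideal.mk_ker]; exact hle')
    refine (h 0).submodule_ne_top hmax ?_
    rw [eq_top_iff]
    rintro z -
    obtain ⟨y, rfl⟩ := exists_one_tmul _ z
    have hy : y ∈ 𝔪 • (⊤ : Submodule A M) := by rw [htop]; trivial
    refine Submodule.smul_induction_on hy (fun a ha m _ => ?_) (fun y y' hy hy' => ?_)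
    · rw [← mk_smul_one_tmul]
      exact Submodule.smul_mem_smul (Ideal.mem_map_of_mem _ ha) trivial
    · rw [TensorProduct.tmul_add]
      exact add_mem hy hy'

end Main32

end Groth.Agent.Helper17.AR
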