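import Mathlib
import Groth.Prelude.Def_W4bk4boschfrg79
import Groth.Agent.Lib.Helper17.AR5

/-!
# Universal property of restricted power series, and a criterion for being topologically of
finite type (helper17)
-/

set_option autoImplicit false

universe u

open AdicRing MvPolynomial

namespace Groth.Agent.Helper17.AR

section Ker

variable {P : Type u} [CommRing P] (J : Ideal P)

lemma ker_evalₐ_eq_map (hJ : J.FG) (k : ℕ) :
    RingHom.ker (AdicCompletion.evalₐ J k).toRingHom =
      (J ^ k).map (algebraMap P (AdicCompletion J P)) := by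
  ext x
  trans x ∈ (AdicCompletion.eval J P k).ker
  · have eq : J ^ k * ⊤ = J ^ k := by simp
    have : Function.Injective (Ideal.Quotient.factor (le_of_eq eq)) := by
      simpa [RingHom.injective_iff_ker_eq_bot, Ideal.Quotient.factor_ker]
        using Ideal.map_mk_eq_bot_of_le (le_of_eq eq.symm)
    simpa [← AdicCompletion.factor_eval_eq_evalₐ] using map_eq_zero_iff _ this
  · rw [← AdicCompletion.pow_smul_top_eq_ker_eval hJ, Ideal.smul_top_eq_map]
    simp

lemma exists_of_sub_mem_pow (hJ : J.FG) (k : ℕ) (x : AdicCompletion J P) :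
    ∃ p : P, x - AdicCompletion.of J P p ∈ (J ^ k).map (algebraMap P (AdicCompletion J P)) := by
  obtain ⟨p, hp⟩ := Ideal.Quotient.mk_surjective (AdicCompletion.evalₐ J k x)
  refine ⟨p, ?_⟩
  rw [← ker_evalₐ_eq_map J hJ, RingHom.mem_ker]
  change AdicCompletion.evalₐ J k (x - AdicCompletion.of J P p) = 0
  rw [map_sub, AdicCompletion.evalₐ_of, hp, sub_self]

lemma of_mem_map_pow_iff (hJ : J.FG) (k : ℕ) (p : P) :
    AdicCompletion.of J P p ∈ (J ^ k).map (algebraMap P (AdicCompletion J P)) ↔ p ∈ J ^ k := by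
  rw [← ker_evalₐ_eq_map J hJ, RingHom.mem_ker]
  change AdicCompletion.evalₐ J k (AdicCompletion.of J P p) = 0 ↔ _
  rw [AdicCompletion.evalₐ_of, Ideal.Quotient.eq_zero_iff_mem]

end Ker

section RPowGen

variable {R : Type u} [CommRing R] (I : Ideal R) (n : ℕ)

/-- the canonical map from polynomials to restricted power series (general ideal) -/
noncomputable def ιR : MvPolynomial (Fin n) R →ₐ[R] RPow R I n :=
  IsScalarTower.toAlgHom R (MvPolynomial (Fin n) R) (RPow R I n)

lemma ιR_apply (p : MvPolynomial (Fin n) R) : ιR I n p = AdicCompletion.of _ _ p := rfl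

lemma map_C_fg (hI : I.FG) : (I.map (C : R →+* MvPolynomial (Fin n) R)).FG := hI.map _

lemma map_pow_rpow_eq (k : ℕ) :
    (I ^ k).map (algebraMap R (RPow R I n)) =
      ((I.map (C : R →+* MvPolynomial (Fin n) R)) ^ k).map
        (algebraMap (MvPolynomial (Fin n) R) (RPow R I n)) := by
  rw [← Ideal.map_pow, Ideal.map_map]
  rfl

lemma exists_poly_sub_mem (hI : I.FG) (k : ℕ) (x : RPow R I n) :
    ∃ p : MvPolynomial (Fin n) R, x - ιR I n p ∈ (I ^ k).map (algebraMap R (RPow R I n)) := by
  obtain ⟨p, hp⟩ := exists_of_sub_mem_pow _ (map_C_fg I n hI) k x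
  exact ⟨p, by rw [map_pow_rpow_eq]; exact hp⟩

lemma ιR_mem_iff (hI : I.FG) (k : ℕ) (p : MvPolynomial (Fin n) R) :
    ιR I n p ∈ (I ^ k).map (algebraMap R (RPow R I n)) ↔
      p ∈ (I ^ k).map (C : R →+* MvPolynomial (Fin n) R) := by
  rw [map_pow_rpow_eq, ιR_apply, of_mem_map_pow_iff _ (map_C_fg I n hI), Ideal.map_pow]

theorem isAdicComplete_rpow_of_fg (hI : I.FG) :
    IsAdicComplete (I.map (algebraMap R (RPow R I n))) (RPow R I n) := by
  have h1 : IsAdicComplete (I.map (C : R →+* MvPolynomial (Fin n) R)) (RPow R I n) :=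
    AdicCompletion.isAdicComplete (map_C_fg I n hI)
  have h2 := (IsAdicComplete.map_algebraMap_iff
    (I.map (C : R →+* MvPolynomial (Fin n) R)) (RPow R I n) (S := RPow R I n)).mpr h1
  have h3 := map_pow_rpow_eq I n 1
  rw [pow_one, pow_one] at h3
  rw [h3]
  exact h2

end RPowGen

section UP

variable {R : Type u} [CommRing R] (I : Ideal R) {n : ℕ}
  {C' : Type u} [CommRing C'] [Algebra R C'] [IsAdicComplete (I.map (algebraMap R C')) C']
  (c : Fin n → C')

lemma map_aeval_le : (I.map (C : R →+* MvPolynomial (Fin n) R)).map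
    (aeval c : MvPolynomial (Fin n) R →ₐ[R] C').toRingHom ≤ I.map (algebraMap R C') := by
  rw [Ideal.map_map]
  apply le_of_eq
  congr 1
  ext r
  simp

/-- the universal property of restricted power series -/
noncomputable def rpowLift : RPow R I n →ₐ[R] C' :=
  { ((AdicCompletion.ofAlgEquiv (I.map (algebraMap R C'))).symm : _ →+* C').comp
      (mapRingHom (I.map (C : R →+* MvPolynomial (Fin n) R)) (I.map (algebraMap R C'))
        (aeval c : MvPolynomial (Fin n) R →ₐ[R] C').toRingHom (map_aeval_le I c)) with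
    commutes' := by
      intro r
      change (AdicCompletion.ofAlgEquiv (I.map (algebraMap R C'))).symm
        (mapRingHom _ _ _ (map_aeval_le I c) (AdicCompletion.of _ _ (C r))) = _
      rw [mapRingHom_of]
      simp }

lemma rpowLift_ι (p : MvPolynomial (Fin n) R) : rpowLift I c (ιR I n p) = aeval c p := by
  change (AdicCompletion.ofAlgEquiv (I.map (algebraMap R C'))).symm
    (mapRingHom _ _ _ (map_aeval_le I c) (AdicCompletion.of _ _ p)) = _
  rw [mapRingHom_of]
  simp

theorem rpowLift_surjective (hI : I.FG)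
    (hc : ∀ x : C', ∃ p : MvPolynomial (Fin n) R, x - aeval c p ∈ I.map (algebraMap R C')) :
    Function.Surjective (rpowLift I c) := by
  have hcT := isAdicComplete_rpow_of_fg I n hI
  have hprec : IsPrecomplete (I.map (algebraMap R (RPow R I n))) (RPow R I n) :=
    hcT.toIsPrecomplete
  have hmap : (I.map (algebraMap R (RPow R I n))).map (rpowLift I c).toRingHom =
      I.map (algebraMap R C') := by
    rw [Ideal.map_map]
    congr 1
    ext r
    simp
  have hH : IsHausdorff ((I.map (algebraMap R (RPow R I n))).map (rpowLift I c).toRingHom) C' := by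
    rw [hmap]; infer_instance
  refine surjective_of_mk_map_comp_surjective (I := I.map (algebraMap R (RPow R I n)))
    (rpowLift I c).toRingHom ?_
  intro y
  obtain ⟨x, rfl⟩ := Ideal.Quotient.mk_surjective y
  obtain ⟨p, hp⟩ := hc x
  refine ⟨ιR I n p, ?_⟩
  rw [RingHom.comp_apply]
  symm
  rw [Ideal.Quotient.eq, hmap]
  change x - rpowLift I c (ιR I n p) ∈ _
  rw [rpowLift_ι]
  exact hp

end UP

end Groth.Agent.Helper17.AR
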