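import Mathlib
import Groth.Prelude.Def_W4bk4boschfrg79
import Groth.Agent.Lib.Helper17.AR12

/-!
# Completions of `R`-algebras for the `I`-adic topology; topological finite type via the
special fibre (helper17)
-/

set_option autoImplicit false

universe u

open AdicRing MvPolynomial

namespace Groth.Agent.Helper17.AR

lemma IsBase.fg {R : Type u} [CommRing R] {I : Ideal R} (hR : IsBase R I) : I.FG := by
  obtain ⟨-, h | ⟨-, -, -, t, -, rfl⟩⟩ := hR
  · have := h.1
    exact IsNoetherian.noetherian I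
  · exact ⟨{t}, by simp⟩

section Compl

variable {R : Type u} [CommRing R] (I : Ideal R) (Q : Type u) [CommRing Q] [Algebra R Q]

/-- the `I`-adic completion of an `R`-algebra -/
abbrev Cpl : Type u := AdicCompletion (I.map (algebraMap R Q)) Q

lemma map_pow_cpl_eq (k : ℕ) :
    (I ^ k).map (algebraMap R (Cpl I Q)) =
      ((I.map (algebraMap R Q)) ^ k).map (algebraMap Q (Cpl I Q)) := by
  rw [← Ideal.map_pow, Ideal.map_map]
  rfl

lemma map_cpl_eq :
    I.map (algebraMap R (Cpl I Q)) =
      (I.map (algebraMap R Q)).map (algebraMap Q (Cpl I Q)) := by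
  rw [Ideal.map_map]
  rfl

variable {I Q}

lemma cpl_exists_sub_mem (hI : I.FG) (k : ℕ) (x : Cpl I Q) :
    ∃ q : Q, x - AdicCompletion.of _ _ q ∈ (I ^ k).map (algebraMap R (Cpl I Q)) := by
  obtain ⟨q, hq⟩ := exists_of_sub_mem_pow _ (hI.map (algebraMap R Q)) k x
  exact ⟨q, by rw [map_pow_cpl_eq]; exact hq⟩

lemma cpl_of_mem_iff (hI : I.FG) (k : ℕ) (q : Q) :
    (AdicCompletion.of _ _ q : Cpl I Q) ∈ (I ^ k).map (algebraMap R (Cpl I Q)) ↔
      q ∈ (I ^ k).map (algebraMap R Q) := by
  rw [map_pow_cpl_eq, of_mem_map_pow_iff _ (hI.map (algebraMap R Q)), Ideal.map_pow]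

theorem isAdicComplete_cpl (hI : I.FG) :
    IsAdicComplete (I.map (algebraMap R (Cpl I Q))) (Cpl I Q) := by
  have h1 : IsAdicComplete (I.map (algebraMap R Q)) (Cpl I Q) :=
    AdicCompletion.isAdicComplete (hI.map (algebraMap R Q))
  have h2 := (IsAdicComplete.map_algebraMap_iff
    (I.map (algebraMap R Q)) (Cpl I Q) (S := Cpl I Q)).mpr h1
  rw [map_cpl_eq]
  exact h2

end Compl

section FT

variable {R : Type u} [CommRing R] (I : Ideal R)

/-- a quotient of restricted power series killed by `I` is of finite type -/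
theorem finiteType_of_rpow_surjective (hI : I.FG) {n : ℕ} {L : Type u} [CommRing L] [Algebra R L]
    (g : RPow R I n →ₐ[R] L) (hg : Function.Surjective g)
    (hL : ∀ r ∈ I, algebraMap R L r = 0) : Algebra.FiniteType R L := by
  refine Algebra.FiniteType.of_surjective (g.comp (ιR I n)) ?_
  intro y
  obtain ⟨x, rfl⟩ := hg y
  obtain ⟨p, hp⟩ := exists_poly_sub_mem I n hI 1 x
  refine ⟨p, ?_⟩
  rw [AlgHom.comp_apply]
  symm
  rw [← sub_eq_zero, ← map_sub]
  have hle : (I ^ 1).map (algebraMap R (RPow R I n)) ≤ RingHom.ker g.toRingHom := by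
    rw [pow_one, Ideal.map_le_iff_le_comap]
    intro r hr
    rw [Ideal.mem_comap, RingHom.mem_ker]
    change g (algebraMap R _ r) = 0
    rw [AlgHom.commutes]
    exact hL r hr
  exact hle hp

theorem finiteType_quot_of_tft (hI : I.FG) {A : Type u} [CommRing A] [Algebra R A]
    (hA : TopFiniteType R I A) : Algebra.FiniteType R (A ⧸ I.map (algebraMap R A)) := by
  obtain ⟨n, φ, hφ⟩ := hA
  refine finiteType_of_rpow_surjective I hI ((Ideal.Quotient.mkₐ R _).comp φ)
    ((Ideal.Quotient.mkₐ_surjective R _).comp hφ) ?_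
  intro r hr
  rw [IsScalarTower.algebraMap_apply R A (A ⧸ I.map (algebraMap R A)),
    Ideal.Quotient.algebraMap_eq, Ideal.Quotient.eq_zero_iff_mem]
  exact Ideal.mem_map_of_mem _ hr

theorem tft_of_finiteType_quot (hI : I.FG) {A : Type u} [CommRing A] [Algebra R A]
    [IsAdicComplete (I.map (algebraMap R A)) A]
    (h : Algebra.FiniteType R (A ⧸ I.map (algebraMap R A))) : TopFiniteType R I A := by
  obtain ⟨n, g, hg⟩ := Algebra.FiniteType.iff_quotient_mvPolynomial''.mp h
  have hc : ∀ j : Fin n, ∃ c : A, Ideal.Quotient.mk (I.map (algebraMap R A)) c = g (X j) :=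
    fun j => Ideal.Quotient.mk_surjective _
  choose c hc using hc
  refine ⟨n, rpowLift I c, rpowLift_surjective I c hI ?_⟩
  intro x
  obtain ⟨p, hp⟩ := hg (Ideal.Quotient.mk _ x)
  refine ⟨p, ?_⟩
  rw [← Ideal.Quotient.eq, ← hp]
  have e : (Ideal.Quotient.mkₐ R (I.map (algebraMap R A))).comp (aeval c) = g := by
    apply MvPolynomial.algHom_ext
    intro j
    rw [AlgHom.comp_apply, aeval_X]
    exact hc j
  rw [← e]
  rfl

theorem tft_iff_finiteType_quot (hI : I.FG) {A : Type u} [CommRing A] [Algebra R A]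
    [IsAdicComplete (I.map (algebraMap R A)) A] :
    TopFiniteType R I A ↔ Algebra.FiniteType R (A ⧸ I.map (algebraMap R A)) :=
  ⟨finiteType_quot_of_tft I hI, tft_of_finiteType_quot I hI⟩

end FT

end Groth.Agent.Helper17.AR
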