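import Mathlib
import Groth.Prelude.Def_W4bk4boschfrg79
import Groth.Agent.Lib.Helper17.AR13

/-!
# Truncations of completions and of complete localizations (helper17)
-/

set_option autoImplicit false

universe u

open AdicRing MvPolynomial

namespace Groth.Agent.Helper17.AR

section G5

variable {R : Type u} [CommRing R] {I : Ideal R} {Q : Type u} [CommRing Q] [Algebra R Q]

lemma cpl_of_comap_le (k : ℕ) :
    (I ^ k).map (algebraMap R Q) ≤
      ((I ^ k).map (algebraMap R (Cpl I Q))).comap (IsScalarTower.toAlgHom R Q (Cpl I Q)) := by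
  rw [Ideal.map_le_iff_le_comap]
  intro r hr
  rw [Ideal.mem_comap, Ideal.mem_comap]
  have : (IsScalarTower.toAlgHom R Q (Cpl I Q)) (algebraMap R Q r) = algebraMap R (Cpl I Q) r :=
    AlgHom.commutes _ r
  rw [this]
  exact Ideal.mem_map_of_mem _ hr

/-- the truncations of a completion are the truncations of the algebra -/
noncomputable def cplQuotEquiv (hI : I.FG) (k : ℕ) :
    (Q ⧸ (I ^ k).map (algebraMap R Q)) ≃ₐ[R]
      (Cpl I Q ⧸ (I ^ k).map (algebraMap R (Cpl I Q))) :=
  AlgEquiv.ofBijective
    (Ideal.quotientMapₐ ((I ^ k).map (algebraMap R (Cpl I Q)))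
      (IsScalarTower.toAlgHom R Q (Cpl I Q)) (cpl_of_comap_le k))
    (by
      constructor
      · rw [injective_iff_map_eq_zero]
        intro a ha
        obtain ⟨q, rfl⟩ := Ideal.Quotient.mk_surjective a
        rw [Ideal.Quotient.eq_zero_iff_mem]
        have h2 : Ideal.Quotient.mk ((I ^ k).map (algebraMap R (Cpl I Q)))
            (AdicCompletion.of _ _ q) = 0 := ha
        rw [Ideal.Quotient.eq_zero_iff_mem] at h2
        exact (cpl_of_mem_iff hI k q).mp h2
      · intro y
        obtain ⟨x, rfl⟩ := Ideal.Quotient.mk_surjective y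
        obtain ⟨q, hq⟩ := cpl_exists_sub_mem hI k x
        refine ⟨Ideal.Quotient.mk _ q, ?_⟩
        symm
        exact Ideal.Quotient.eq.mpr hq)

lemma cplQuotEquiv_mk (hI : I.FG) (k : ℕ) (q : Q) :
    cplQuotEquiv (Q := Q) hI k (Ideal.Quotient.mk _ q) =
      Ideal.Quotient.mk _ (AdicCompletion.of _ _ q) := rfl

end G5

section Loc

variable {R : Type u} [CommRing R] {A : Type u} [CommRing A] [Algebra R A] (J : Ideal A) (f : A)

instance isScalarTower_quot_loc :
    IsScalarTower R (A ⧸ J) (Localization.Away f ⧸ J.map (algebraMap A (Localization.Away f))) :=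
  IsScalarTower.of_algebraMap_eq fun r => by
    rw [IsScalarTower.algebraMap_apply R A (A ⧸ J), Ideal.Quotient.algebraMap_eq,
      Ideal.Quotient.algebraMap_quotient_map_quotient,
      IsScalarTower.algebraMap_apply R (Localization.Away f)
        (Localization.Away f ⧸ J.map (algebraMap A (Localization.Away f))),
      Ideal.Quotient.algebraMap_eq, ← IsScalarTower.algebraMap_apply R A (Localization.Away f)]

instance isLocalizationAway_quot_loc :
    IsLocalization.Away (Ideal.Quotient.mk J f)
      (Localization.Away f ⧸ J.map (algebraMap A (Localization.Away f))) := by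
  have h : IsLocalization (Algebra.algebraMapSubmonoid (A ⧸ J) (Submonoid.powers f))
      (Localization.Away f ⧸ J.map (algebraMap A (Localization.Away f))) := inferInstance
  have e : Algebra.algebraMapSubmonoid (A ⧸ J) (Submonoid.powers f) =
      Submonoid.powers (Ideal.Quotient.mk J f) := by
    unfold Algebra.algebraMapSubmonoid
    rw [Submonoid.map_powers]
    rfl
  rw [e] at h
  exact h

end Loc

section LocFT

variable {R : Type u} [CommRing R] {A : Type u} [CommRing A] [Algebra R A] (J : Ideal A)
  {r : ℕ} (f : Fin r → A) (hf : Ideal.span (Set.range f) = ⊤)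

include hf in
lemma span_mk_eq_top : Ideal.span (Set.range fun i => Ideal.Quotient.mk J (f i)) = ⊤ := by
  have := congrArg (Ideal.map (Ideal.Quotient.mk J)) hf
  rw [Ideal.map_span, Ideal.map_top, ← Set.range_comp] at this
  exact this

include hf in
theorem finiteType_quot_iff_loc :
    Algebra.FiniteType R (A ⧸ J) ↔
      ∀ i, Algebra.FiniteType R
        (Localization.Away (f i) ⧸ J.map (algebraMap A (Localization.Away (f i)))) := by
  constructor
  · intro h i
    have : Algebra.FiniteType (A ⧸ J)
        (Localization.Away (f i) ⧸ J.map (algebraMap A (Localization.Away (f i)))) :=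
      IsLocalization.finiteType_of_monoid_fg (Submonoid.powers (Ideal.Quotient.mk J (f i))) _
    exact Algebra.FiniteType.trans h this
  · intro h
    apply Algebra.FiniteType.of_span_eq_top_target _ (span_mk_eq_top J f hf)
    rintro - ⟨i, rfl⟩
    exact (h i).equiv ((IsLocalization.algEquiv (.powers (Ideal.Quotient.mk J (f i))) _
      (Localization.Away (f i) ⧸ J.map (algebraMap A (Localization.Away (f i))))).symm.restrictScalars R)

include hf in
theorem finitePresentation_quot_iff_loc :
    Algebra.FinitePresentation R (A ⧸ J) ↔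
      ∀ i, Algebra.FinitePresentation R
        (Localization.Away (f i) ⧸ J.map (algebraMap A (Localization.Away (f i)))) := by
  constructor
  · intro h i
    have : Algebra.FinitePresentation (A ⧸ J)
        (Localization.Away (f i) ⧸ J.map (algebraMap A (Localization.Away (f i)))) :=
      IsLocalization.Away.finitePresentation (Ideal.Quotient.mk J (f i))
    exact Algebra.FinitePresentation.trans R (A ⧸ J) _
  · intro h
    exact Algebra.FinitePresentation.of_span_eq_top_target_of_isLocalizationAway
      (fun i => Ideal.Quotient.mk J (f i)) (span_mk_eq_top J f hf)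
      (fun i => Localization.Away (f i) ⧸ J.map (algebraMap A (Localization.Away (f i))))

end LocFT

section LocPow

variable {R : Type u} [CommRing R] (I : Ideal R) {A : Type u} [CommRing A] [Algebra R A] (f : A)

lemma map_map_loc_eq (k : ℕ) :
    ((I ^ k).map (algebraMap R A)).map (algebraMap A (Localization.Away f)) =
      (I ^ k).map (algebraMap R (Localization.Away f)) := by
  rw [Ideal.map_map, ← IsScalarTower.algebraMap_eq]

end LocPow

section Main34

theorem main11534
    (R : Type u) [CommRing R] (I : Ideal R) (hR : AdicRing.IsBase R I)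
    (A : Type u) [CommRing A] [Algebra R A] [IsAdicComplete (I.map (algebraMap R A)) A]
    (r : ℕ) (f : Fin r → A) (hf : Ideal.span (Set.range f) = ⊤) :
    AdicRing.TopFiniteType R I A ↔ ∀ i, AdicRing.TopFiniteType R I (AdicRing.CLoc I (f i)) := by
  have hI := IsBase.fg hR
  have hc : ∀ i, IsAdicComplete (I.map (algebraMap R (CLoc I (f i)))) (CLoc I (f i)) :=
    fun i => isAdicComplete_cpl hI
  rw [tft_iff_finiteType_quot I hI, finiteType_quot_iff_loc _ f hf]
  refine forall_congr' fun i => ?_
  have := hc i
  rw [tft_iff_finiteType_quot I hI]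
  have e1 : (Localization.Away (f i) ⧸
      (I.map (algebraMap R A)).map (algebraMap A (Localization.Away (f i)))) ≃ₐ[R]
      (Localization.Away (f i) ⧸ (I ^ 1).map (algebraMap R (Localization.Away (f i)))) :=
    Ideal.quotientEquivAlgOfEq R (by rw [pow_one, Ideal.map_map, ← IsScalarTower.algebraMap_eq])
  have e2 := cplQuotEquiv (Q := Localization.Away (f i)) hI 1
  have e3 : (CLoc I (f i) ⧸ (I ^ 1).map (algebraMap R (CLoc I (f i)))) ≃ₐ[R]
      (CLoc I (f i) ⧸ I.map (algebraMap R (CLoc I (f i)))) :=
    Ideal.quotientEquivAlgOfEq R (by rw [pow_one])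
  exact ⟨fun h => h.equiv ((e1.trans e2).trans e3),
    fun h => h.equiv ((e1.trans e2).trans e3).symm⟩

end Main34

end Groth.Agent.Helper17.AR
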