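import Mathlib
import Groth.Prelude.Def_W4bk4boschfrg79
import Groth.Agent.Lib.Helper17.AR9
import Groth.Agent.Lib.Helper17.AR14

/-!
# Topological finite presentation via truncations (helper17)
-/

set_option autoImplicit false

universe u

open AdicRing MvPolynomial

namespace Groth.Agent.Helper17.AR

section Step0

variable {R : Type u} [CommRing R] (I : Ideal R) (A : Type u) [CommRing A] [Algebra R A]

lemma fp_quotientMap_iff (hI : I.FG) (k : ℕ) :
    (Ideal.quotientMap ((I ^ k).map (algebraMap R A)) (algebraMap R A)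
      Ideal.le_comap_map).FinitePresentation ↔
      Algebra.FinitePresentation R (A ⧸ (I ^ k).map (algebraMap R A)) := by
  have hπ : (Ideal.Quotient.mk (I ^ k)).FinitePresentation :=
    RingHom.FinitePresentation.of_surjective _ Ideal.Quotient.mk_surjective
      (by rw [Ideal.mk_ker]; exact hI.pow)
  have hcomp : (Ideal.quotientMap ((I ^ k).map (algebraMap R A)) (algebraMap R A)
      Ideal.le_comap_map).comp (Ideal.Quotient.mk (I ^ k)) =
      algebraMap R (A ⧸ (I ^ k).map (algebraMap R A)) := rfl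
  rw [← RingHom.finitePresentation_algebraMap, ← hcomp]
  constructor
  · intro h
    exact h.comp hπ
  · intro h
    exact RingHom.FinitePresentation.of_comp_finiteType _ h
      (RingHom.FiniteType.of_surjective _ Ideal.Quotient.mk_surjective)

end Step0

section Psi

variable {R : Type u} [CommRing R] (I : Ideal R) {n : ℕ} {A : Type u} [CommRing A] [Algebra R A]
  (φ : RPow R I n →ₐ[R] A) (hφ : Function.Surjective φ) (k : ℕ)

/-- the ideal `I^k` of restricted power series -/
noncomputable abbrev KK : Ideal (RPow R I n) := (I ^ k).map (algebraMap R (RPow R I n))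

/-- the induced presentation of the truncation -/
noncomputable def psi : MvPolynomial (Fin n) R →ₐ[R] A ⧸ (I ^ k).map (algebraMap R A) :=
  (Ideal.Quotient.mkₐ R _).comp (φ.comp (ιR I n))

lemma psi_apply (p : MvPolynomial (Fin n) R) :
    psi I φ k p = Ideal.Quotient.mk _ (φ (ιR I n p)) := rfl

lemma map_KK : (KK I k).map φ.toRingHom = (I ^ k).map (algebraMap R A) := by
  unfold KK
  rw [Ideal.map_map]
  congr 1
  ext r
  simp

lemma phi_mem_of_mem_KK {e : RPow R I n} (he : e ∈ KK (n := n) I k) :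
    φ e ∈ (I ^ k).map (algebraMap R A) := by
  rw [← map_KK I φ k]
  exact Ideal.mem_map_of_mem φ.toRingHom he

include hφ in
lemma exists_mem_KK_of_phi_mem {x : RPow R I n} (hx : φ x ∈ (I ^ k).map (algebraMap R A)) :
    ∃ e ∈ KK (n := n) I k, x - e ∈ RingHom.ker φ.toRingHom := by
  rw [← map_KK I φ k] at hx
  obtain ⟨e, he, hex⟩ := (Ideal.mem_map_iff_of_surjective φ.toRingHom hφ).mp hx
  refine ⟨e, he, ?_⟩
  rw [RingHom.mem_ker, map_sub, hex]
  exact sub_self _

include hφ in
lemma psi_surjective (hI : I.FG) : Function.Surjective (psi I φ k) := by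
  intro y
  obtain ⟨a, rfl⟩ := Ideal.Quotient.mk_surjective y
  obtain ⟨x, rfl⟩ := hφ a
  obtain ⟨p, hp⟩ := exists_poly_sub_mem I n hI k x
  refine ⟨p, ?_⟩
  rw [psi_apply]
  symm
  rw [Ideal.Quotient.eq, ← map_sub]
  exact phi_mem_of_mem_KK I φ k hp

include hφ in
lemma psi_eq_zero_iff (p : MvPolynomial (Fin n) R) :
    psi I φ k p = 0 ↔ ∃ e ∈ KK (n := n) I k, ιR I n p - e ∈ RingHom.ker φ.toRingHom := by
  rw [psi_apply, Ideal.Quotient.eq_zero_iff_mem]
  constructor
  · intro h
    exact exists_mem_KK_of_phi_mem I φ hφ k h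
  · rintro ⟨e, he, h⟩
    rw [RingHom.mem_ker, map_sub, sub_eq_zero] at h
    change φ (ιR I n p) = φ e at h
    rw [h]
    exact phi_mem_of_mem_KK I φ k he

include hφ in
theorem psi_ker_fg (hI : I.FG) (hker : (RingHom.ker φ.toRingHom).FG) :
    (RingHom.ker (psi I φ k).toRingHom).FG := by
  classical
  obtain ⟨s, g, hg⟩ := Submodule.fg_iff_exists_fin_generating_family.mp hker
  have hp : ∀ i, ∃ p : MvPolynomial (Fin n) R, g i - ιR I n p ∈ KK (n := n) I k :=
    fun i => exists_poly_sub_mem I n hI k (g i)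
  choose p hp using hp
  have hfgK : ((I ^ k).map (C : R →+* MvPolynomial (Fin n) R)).FG := (hI.pow).map _
  have hfg1 : (Ideal.span (Set.range p)).FG := Submodule.fg_span (Set.finite_range p)
  suffices h : RingHom.ker (psi I φ k).toRingHom =
      Ideal.span (Set.range p) ⊔ (I ^ k).map (C : R →+* MvPolynomial (Fin n) R) by
    rw [h]; exact Submodule.FG.sup hfg1 hfgK
  apply le_antisymm
  · intro q hq
    rw [RingHom.mem_ker] at hq
    obtain ⟨e, he, h⟩ := (psi_eq_zero_iff I φ hφ k q).mp hq
    rw [← hg] at h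
    obtain ⟨w, hw⟩ := (Ideal.mem_span_range_iff_exists_fun).mp h
    have hq' : ∀ i, ∃ c : MvPolynomial (Fin n) R, w i - ιR I n c ∈ KK (n := n) I k :=
      fun i => exists_poly_sub_mem I n hI k (w i)
    choose c hc using hq'
    have hmem : q - ∑ i, c i * p i ∈ (I ^ k).map (C : R →+* MvPolynomial (Fin n) R) := by
      rw [← ιR_mem_iff I n hI k, map_sub, map_sum]
      have e1 : ιR I n q - ∑ i, ιR I n (c i * p i) =
          e + ∑ i, (w i * g i - ιR I n (c i) * ιR I n (p i)) := by
        rw [Finset.sum_sub_distrib, hw]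
        simp only [map_mul]
        ring
      rw [e1]
      refine Ideal.add_mem _ he (Ideal.sum_mem _ fun i _ => ?_)
      have e2 : w i * g i - ιR I n (c i) * ιR I n (p i) =
          (w i - ιR I n (c i)) * g i + ιR I n (c i) * (g i - ιR I n (p i)) := by ring
      rw [e2]
      exact Ideal.add_mem _ (Ideal.mul_mem_right _ _ (hc i)) (Ideal.mul_mem_left _ _ (hp i))
    have e3 : q = ∑ i, c i * p i + (q - ∑ i, c i * p i) := by ring
    rw [e3]
    exact Submodule.add_mem_sup (Ideal.sum_mem _ fun i _ =>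
      Ideal.mul_mem_left _ _ (Ideal.subset_span ⟨i, rfl⟩)) hmem
  · rw [sup_le_iff]
    constructor
    · rw [Ideal.span_le]
      rintro _ ⟨i, rfl⟩
      rw [SetLike.mem_coe, RingHom.mem_ker]
      apply (psi_eq_zero_iff I φ hφ k (p i)).mpr
      refine ⟨ιR I n (p i) - g i, ?_, ?_⟩
      · rw [← neg_sub]
        exact (KK I k).neg_mem (hp i)
      · rw [sub_sub_cancel, ← hg]
        exact Ideal.subset_span ⟨i, rfl⟩
    · rw [Ideal.map_le_iff_le_comap]
      intro r hr
      rw [Ideal.mem_comap, RingHom.mem_ker]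
      change psi I φ k (C r) = 0
      rw [← MvPolynomial.algebraMap_eq, AlgHom.commutes,
        IsScalarTower.algebraMap_apply R A (A ⧸ (I ^ k).map (algebraMap R A)),
        Ideal.Quotient.algebraMap_eq, Ideal.Quotient.eq_zero_iff_mem]
      exact Ideal.mem_map_of_mem _ hr

end Psi

section Fwd

variable {R : Type u} [CommRing R] (I : Ideal R) {A : Type u} [CommRing A] [Algebra R A]

theorem fp_trunc_of_tfp (hI : I.FG) (h : TopFinitePresentation R I A) (k : ℕ) :
    Algebra.FinitePresentation R (A ⧸ (I ^ k).map (algebraMap R A)) := by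
  obtain ⟨n, φ, hφ, hker⟩ := h
  exact Algebra.FinitePresentation.of_surjective (f := psi I φ k) (psi_surjective I φ hφ k hI)
    (psi_ker_fg I φ hφ k hI hker)

end Fwd

section Bwd

lemma inf_span_singleton_eq {T : Type u} [CommRing T] (τ : T) (𝔞 S : Ideal T)
    (h1 : ∀ z, τ * z ∈ 𝔞 → z ∈ S) (h2 : ∀ z ∈ S, τ * z ∈ 𝔞) :
    𝔞 ⊓ Ideal.span {τ} = Ideal.span {τ} * S := by
  apply le_antisymm
  · rintro x ⟨hx1, hx2⟩
    obtain ⟨a, rfl⟩ := Ideal.mem_span_singleton'.mp hx2
    rw [mul_comm a τ] at hx1 ⊢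
    exact Ideal.mem_span_singleton_mul.mpr ⟨a, h1 a hx1, rfl⟩
  · intro x hx
    obtain ⟨z, hz, rfl⟩ := Ideal.mem_span_singleton_mul.mp hx
    exact ⟨h2 z hz, Ideal.mul_mem_right _ _ (Ideal.mem_span_singleton_self _)⟩

theorem ker_fg_V (R : Type u) [CommRing R] [IsDomain R] [ValuationRing R] [Ring.KrullDimLE 1 R]
    (t : R) (ht0 : t ≠ 0) (htu : ¬ IsUnit t)
    {n : ℕ} {A : Type u} [CommRing A] [Algebra R A] (φ : RPow R (Ideal.span {t}) n →ₐ[R] A)
    (hφ : Function.Surjective φ)
    (hfp : ∀ k : ℕ, Algebra.FinitePresentation R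
      (A ⧸ ((Ideal.span {t}) ^ (k + 1)).map (algebraMap R A))) :
    (RingHom.ker φ.toRingHom).FG := by
  classical
  have hI : (Ideal.span {t}).FG := ⟨{t}, by simp⟩
  have hsatfg : (satOf t (RingHom.ker φ.toRingHom)).FG :=
    fg_saturated_V R t ht0 htu (RPow R (Ideal.span {t}) n) n (AlgHom.id R _)
      Function.surjective_id (RPow R (Ideal.span {t}) n) (satOf t (RingHom.ker φ.toRingHom))
      (satOf_saturated t (RingHom.ker φ.toRingHom))
  obtain ⟨n₀, hn₀⟩ := exists_pow_smul_satOf_le t (RingHom.ker φ.toRingHom) hsatfg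
  have hfpk := hfp n₀
  refine Ideal.fg_of_fg_map_of_fg_inf_ker_of_surjective
    (f := Ideal.Quotient.mk (KK (n := n) (Ideal.span {t}) (n₀ + 1))) ?_ ?_
    Ideal.Quotient.mk_surjective
  · have hψs := psi_surjective (Ideal.span {t}) φ hφ (n₀ + 1) hI
    have hkerψ : (RingHom.ker (psi (Ideal.span {t}) φ (n₀ + 1)).toRingHom).FG :=
      Algebra.FinitePresentation.ker_fG_of_surjective (psi (Ideal.span {t}) φ (n₀ + 1)) hψs
    obtain ⟨s, q, hq⟩ := Submodule.fg_iff_exists_fin_generating_family.mp hkerψ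
    have hmap : (RingHom.ker φ.toRingHom).map
        (Ideal.Quotient.mk (KK (n := n) (Ideal.span {t}) (n₀ + 1))) =
        Ideal.span (Set.range fun i => Ideal.Quotient.mk (KK (n := n) (Ideal.span {t}) (n₀ + 1))
          (ιR (Ideal.span {t}) n (q i))) := by
      apply le_antisymm
      · rw [Ideal.map_le_iff_le_comap]
        intro x hx
        rw [Ideal.mem_comap]
        obtain ⟨p, hp⟩ := exists_poly_sub_mem (Ideal.span {t}) n hI (n₀ + 1) x
        have hψp : psi (Ideal.span {t}) φ (n₀ + 1) p = 0 :=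
          (psi_eq_zero_iff (Ideal.span {t}) φ hφ (n₀ + 1) p).mpr
            ⟨ιR (Ideal.span {t}) n p - x, by
              rw [← neg_sub]; exact (KK (Ideal.span {t}) (n₀ + 1)).neg_mem hp,
              by rw [sub_sub_cancel]; exact hx⟩
        have hpk : p ∈ RingHom.ker (psi (Ideal.span {t}) φ (n₀ + 1)).toRingHom := hψp
        rw [← hq] at hpk
        obtain ⟨c, hc⟩ := Ideal.mem_span_range_iff_exists_fun.mp hpk
        have e1 : Ideal.Quotient.mk (KK (n := n) (Ideal.span {t}) (n₀ + 1)) x =
            Ideal.Quotient.mk (KK (n := n) (Ideal.span {t}) (n₀ + 1))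
              (ιR (Ideal.span {t}) n p) := Ideal.Quotient.eq.mpr hp
        rw [e1, ← hc, map_sum, map_sum]
        refine Ideal.sum_mem _ fun i _ => ?_
        rw [map_mul, map_mul]
        exact Ideal.mul_mem_left _ _ (Ideal.subset_span ⟨i, rfl⟩)
      · rw [Ideal.span_le]
        rintro _ ⟨i, rfl⟩
        have hqi : psi (Ideal.span {t}) φ (n₀ + 1) (q i) = 0 := by
          have h1 : q i ∈ RingHom.ker (psi (Ideal.span {t}) φ (n₀ + 1)).toRingHom := by
            rw [← hq]; exact Ideal.subset_span ⟨i, rfl⟩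
          exact h1
        obtain ⟨e, he, h⟩ := (psi_eq_zero_iff (Ideal.span {t}) φ hφ (n₀ + 1) (q i)).mp hqi
        have e2 : Ideal.Quotient.mk (KK (n := n) (Ideal.span {t}) (n₀ + 1))
            (ιR (Ideal.span {t}) n (q i)) =
            Ideal.Quotient.mk (KK (n := n) (Ideal.span {t}) (n₀ + 1))
              (ιR (Ideal.span {t}) n (q i) - e) := by
          apply Ideal.Quotient.eq.mpr
          rw [sub_sub_cancel]
          exact he
        beta_reduce
        rw [SetLike.mem_coe, e2]
        exact Ideal.mem_map_of_mem _ h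
    rw [hmap]
    exact Submodule.fg_span (Set.finite_range _)
  · rw [Ideal.mk_ker]
    have hKK : KK (n := n) (Ideal.span {t}) (n₀ + 1) =
        Ideal.span {algebraMap R (RPow R (Ideal.span {t}) n) (t ^ (n₀ + 1))} := by
      unfold KK
      rw [Ideal.span_singleton_pow,
        Ideal.map_span (algebraMap R (RPow R (Ideal.span {t}) n)) {t ^ (n₀ + 1)},
        Set.image_singleton]
    obtain ⟨S, hS⟩ : ∃ S : Ideal (RPow R (Ideal.span {t}) n),
        S = satOf t (RingHom.ker φ.toRingHom) := ⟨_, rfl⟩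
    have hSfg : S.FG := by rw [hS]; exact hsatfg
    have hSmem : ∀ z, z ∈ S ↔ ∃ j : ℕ, t ^ j • z ∈ RingHom.ker φ.toRingHom := by
      intro z; rw [hS]; exact Iff.rfl
    have hSn₀ : ∀ z ∈ S, t ^ n₀ • z ∈ RingHom.ker φ.toRingHom := by
      intro z hz; rw [hS] at hz; exact hn₀ z hz
    have hinf : RingHom.ker φ.toRingHom ⊓ KK (n := n) (Ideal.span {t}) (n₀ + 1) =
        Ideal.span {algebraMap R (RPow R (Ideal.span {t}) n) (t ^ (n₀ + 1))} * S := by
      rw [hKK]
      apply inf_span_singleton_eq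
      · intro z hz
        rw [hSmem]
        refine ⟨n₀ + 1, ?_⟩
        rw [Algebra.smul_def]
        exact hz
      · intro z hz
        have h4 := hSn₀ z hz
        have e3 : algebraMap R (RPow R (Ideal.span {t}) n) (t ^ (n₀ + 1)) * z =
            t • (t ^ n₀ • z) := by
          rw [← Algebra.smul_def, pow_succ, mul_comm, mul_smul]
        rw [e3]
        exact Submodule.smul_of_tower_mem _ t h4
    rw [hinf]
    exact Ideal.FG.mul (Submodule.fg_span_singleton _) hSfg

theorem tfp_of_fp_trunc {R : Type u} [CommRing R] {I : Ideal R} (hR : IsBase R I)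
    {A : Type u} [CommRing A] [Algebra R A] [IsAdicComplete (I.map (algebraMap R A)) A]
    (h : ∀ k : ℕ, Algebra.FinitePresentation R (A ⧸ (I ^ (k + 1)).map (algebraMap R A))) :
    TopFinitePresentation R I A := by
  have hI := IsBase.fg hR
  have hft : Algebra.FiniteType R (A ⧸ I.map (algebraMap R A)) := by
    have h0 := h 0
    have e : (A ⧸ (I ^ (0 + 1)).map (algebraMap R A)) ≃ₐ[R] (A ⧸ I.map (algebraMap R A)) :=
      Ideal.quotientEquivAlgOfEq R (by rw [zero_add, pow_one])
    exact (Algebra.FiniteType.of_finitePresentation).equiv e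
  obtain ⟨n, φ, hφ⟩ := tft_of_finiteType_quot I hI hft
  refine ⟨n, φ, hφ, ?_⟩
  obtain ⟨hcomp, hN | ⟨hdom, hpv, hdim, t, ht, rfl⟩⟩ := hR
  · have := hN.1
    have : IsNoetherianRing (RPow R I n) := isNoetherianRing_adicCompletion _
    exact IsNoetherian.noetherian _
  · have := hdom
    have : ValuationRing R := { toPreValuationRing := hpv }
    have := hdim
    have htu := not_isUnit_of_complete t hcomp
    exact ker_fg_V R t ht htu φ hφ h

theorem main11530
    (R : Type u) [CommRing R] (I : Ideal R) (hR : AdicRing.IsBase R I)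
    (A : Type u) [CommRing A] [Algebra R A] [IsAdicComplete (I.map (algebraMap R A)) A] :
    AdicRing.TopFinitePresentation R I A ↔
      ∀ n : ℕ, (Ideal.quotientMap ((I ^ (n + 1)).map (algebraMap R A)) (algebraMap R A)
        Ideal.le_comap_map).FinitePresentation := by
  have hI := IsBase.fg hR
  constructor
  · intro h k
    rw [fp_quotientMap_iff I A hI]
    exact fp_trunc_of_tfp I hI h (k + 1)
  · intro h
    exact tfp_of_fp_trunc hR fun k => (fp_quotientMap_iff I A hI (k + 1)).mp (h k)

end Bwd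

end Groth.Agent.Helper17.AR
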