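import Mathlib
import Groth.Prelude.Def_W4bk4boschfrg79
import Groth.Agent.Lib.Helper17.AR15

/-!
# Topological finite presentation is local for complete localizations (helper17)
-/

set_option autoImplicit false

universe u

open AdicRing MvPolynomial

namespace Groth.Agent.Helper17.AR

section Main35

theorem tfp_iff_fp_trunc {R : Type u} [CommRing R] {I : Ideal R} (hR : IsBase R I)
    {A : Type u} [CommRing A] [Algebra R A] [IsAdicComplete (I.map (algebraMap R A)) A] :
    TopFinitePresentation R I A ↔
      ∀ k : ℕ, Algebra.FinitePresentation R (A ⧸ (I ^ (k + 1)).map (algebraMap R A)) :=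
  ⟨fun h k => fp_trunc_of_tfp I (IsBase.fg hR) h (k + 1), tfp_of_fp_trunc hR⟩

theorem fp_trunc_cloc_iff {R : Type u} [CommRing R] {I : Ideal R} (hI : I.FG)
    {A : Type u} [CommRing A] [Algebra R A] (f : A) (k : ℕ) :
    Algebra.FinitePresentation R (Localization.Away f ⧸
        ((I ^ k).map (algebraMap R A)).map (algebraMap A (Localization.Away f))) ↔
      Algebra.FinitePresentation R (CLoc I f ⧸ (I ^ k).map (algebraMap R (CLoc I f))) := by
  have e1 : (Localization.Away f ⧸
      ((I ^ k).map (algebraMap R A)).map (algebraMap A (Localization.Away f))) ≃ₐ[R]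
      (Localization.Away f ⧸ (I ^ k).map (algebraMap R (Localization.Away f))) :=
    Ideal.quotientEquivAlgOfEq R (map_map_loc_eq I f k)
  have e2 := cplQuotEquiv (Q := Localization.Away f) hI k
  exact ⟨fun h => h.equiv (e1.trans e2), fun h => h.equiv (e1.trans e2).symm⟩

theorem main11535
    (R : Type u) [CommRing R] (I : Ideal R) (hR : AdicRing.IsBase R I)
    (A : Type u) [CommRing A] [Algebra R A] [IsAdicComplete (I.map (algebraMap R A)) A]
    (r : ℕ) (f : Fin r → A) (hf : Ideal.span (Set.range f) = ⊤) :
    AdicRing.TopFinitePresentation R I A ↔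
      ∀ i, AdicRing.TopFinitePresentation R I (AdicRing.CLoc I (f i)) := by
  have hI := IsBase.fg hR
  have hc : ∀ i, IsAdicComplete (I.map (algebraMap R (CLoc I (f i)))) (CLoc I (f i)) :=
    fun i => isAdicComplete_cpl hI
  rw [tfp_iff_fp_trunc hR]
  have h2 : ∀ i, TopFinitePresentation R I (CLoc I (f i)) ↔
      ∀ k : ℕ, Algebra.FinitePresentation R
        (CLoc I (f i) ⧸ (I ^ (k + 1)).map (algebraMap R (CLoc I (f i)))) := by
    intro i
    have := hc i
    exact tfp_iff_fp_trunc hR
  simp_rw [h2]
  rw [forall_comm]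
  refine forall_congr' fun k => ?_
  rw [finitePresentation_quot_iff_loc _ f hf]
  exact forall_congr' fun i => fp_trunc_cloc_iff hI (f i) (k + 1)

end Main35

end Groth.Agent.Helper17.AR
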