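import Mathlib
import Groth.Prelude.Def_W4bk4boschfrg79
import Groth.Agent.Lib.Helper17.AR11
import Groth.Agent.Lib.Helper17.AR16

/-!
# Complete localizations are flat (helper17)
-/

set_option autoImplicit false

universe u

open AdicRing TensorProduct

namespace Groth.Agent.Helper17.AR

section FlatLift

/-- flatness from approximate trivialisations of relations modulo all powers of `I` -/
theorem flat_of_forall_lift
    (R : Type u) [CommRing R] (I : Ideal R) (hR : AdicRing.IsBase R I)
    (A : Type u) [CommRing A] [Algebra R A] (hA : AdicRing.TopFiniteType R I A)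
    (B : Type u) [CommRing B] [Algebra R B] [Algebra A B] [IsScalarTower R A B]
    (hB : AdicRing.TopFiniteType R I B)
    (M : Type u) [AddCommGroup M] [Module B M] [Module A M] [IsScalarTower A B M]
    [Module.Finite B M]
    (hlift : ∀ (k : ℕ) {l : ℕ} (f : Fin l → A) (x : Fin l → M), ∑ i, f i • x i = 0 →
      ∃ (k' : ℕ) (a : Fin l → Fin k' → A) (y : Fin k' → M),
        (∀ i, x i - ∑ j, a i j • y j ∈
          ((I ^ k).map (algebraMap R A)) • (⊤ : Submodule A M)) ∧
        ∀ j, ∑ i, f i * a i j ∈ (I ^ k).map (algebraMap R A)) :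
    Module.Flat A M := by
  let _ : Module R M := Module.compHom M (algebraMap R B)
  have hRB : IsScalarTower R B M := IsScalarTower.of_algebraMap_smul fun r m => rfl
  have hRA : IsScalarTower R A M := IsScalarTower.of_algebraMap_smul fun r m => by
    show algebraMap R A r • m = algebraMap R B r • m
    rw [IsScalarTower.algebraMap_apply R A B, algebraMap_smul B (algebraMap R A r) m]
  refine Module.Flat.of_forall_isTrivialRelation ?_
  intro l f x hx
  apply TrivRel.isTrivialRelation
  rw [← mem_trivSub (B := B)]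
  have hQ : IsAdicComplete I ((Fin l → M) ⧸ trivSub (B := B) (M := M) f) :=
    main11529 R I hR B hB _
  have hH : IsHausdorff I ((Fin l → M) ⧸ trivSub (B := B) (M := M) f) := hQ.toIsHausdorff
  rw [← Submodule.Quotient.mk_eq_zero]
  apply hH.haus
  intro m
  rw [SModEq.zero]
  obtain ⟨n₀, hAR⟩ := main11528 R I hR A hA A (Ideal.span (Set.range f))
  obtain ⟨k, a, y, h1, h2⟩ := hlift (m + n₀ + 1) f x hx
  have hc : ∀ j, ∑ i, f i * a i j ∈ I ^ m • (Ideal.span (Set.range f)).restrictScalars R := by
    intro j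
    apply hAR m
    refine ⟨?_, ?_⟩
    · rw [SetLike.mem_coe, mem_smul_top_iff_mem_map]
      exact Ideal.map_mono (Ideal.pow_le_pow_right (Nat.le_succ _)) (h2 j)
    · rw [SetLike.mem_coe, Submodule.restrictScalars_mem]
      exact Ideal.sum_mem _ fun i _ =>
        Ideal.mul_mem_right _ _ (Ideal.subset_span ⟨i, rfl⟩)
  have hd := fun j => exists_of_mem_smul_span (I ^ m) f _ (hc j)
  choose d hd1 hd2 using hd
  have hτ : (fun i => ∑ j, (a i j - d j i) • y j) ∈ trivSub (B := B) (M := M) f := by
    refine ⟨Fin k, inferInstance, fun i j => a i j - d j i, y, fun i => rfl, fun j => ?_⟩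
    simp only [mul_sub, Finset.sum_sub_distrib]
    rw [hd2 j, sub_self]
  have hdiff : x - (fun i => ∑ j, (a i j - d j i) • y j) ∈
      I ^ m • (⊤ : Submodule R (Fin l → M)) := by
    apply pi_mem_smul_top
    intro i
    have e : (x - fun i => ∑ j, (a i j - d j i) • y j) i =
        (x i - ∑ j, a i j • y j) + ∑ j, d j i • y j := by
      simp only [Pi.sub_apply, sub_smul, Finset.sum_sub_distrib]
      abel
    rw [e]
    refine add_mem ?_ (Submodule.sum_mem _ fun j _ => ?_)
    · rw [mem_smul_top_iff_mem_map_smul (A := A)]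
      exact Submodule.smul_mono_left
        (Ideal.map_mono (Ideal.pow_le_pow_right (by omega))) (h1 i)
    · exact map_mem_smul_top (I ^ m)
        ((LinearMap.toSpanSingleton A M (y j)).restrictScalars R) (hd1 j i)
  have hmk : (Submodule.Quotient.mk x : (Fin l → M) ⧸ trivSub (B := B) (M := M) f) =
      Submodule.Quotient.mk (x - fun i => ∑ j, (a i j - d j i) • y j) := by
    rw [Submodule.Quotient.mk_sub, (Submodule.Quotient.mk_eq_zero _).mpr hτ, sub_zero]
  rw [hmk]
  exact map_mem_smul_top (I ^ m)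
    ((trivSub (B := B) (M := M) f).mkQ.restrictScalars R) hdiff

end FlatLift

section CLocLift

variable {R : Type u} [CommRing R] {I : Ideal R} {A : Type u} [CommRing A] [Algebra R A] (f : A)

lemma cloc_smul_of (a : A) (q : Localization.Away f) :
    a • (AdicCompletion.of _ _ q : CLoc I f) = AdicCompletion.of _ _ (a • q) := by
  rw [← algebraMap_smul (Localization.Away f) a (AdicCompletion.of _ _ q : CLoc I f),
    ← map_smul, algebraMap_smul]

lemma mem_cloc_smul_top_iff (k : ℕ) (z : CLoc I f) :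
    z ∈ ((I ^ k).map (algebraMap R A)) • (⊤ : Submodule A (CLoc I f)) ↔
      z ∈ (I ^ k).map (algebraMap R (CLoc I f)) := by
  rw [← mem_smul_top_iff_mem_map_smul (A := A) (I ^ k) z, mem_smul_top_iff_mem_map]

theorem cloc_lift (hI : I.FG) (k : ℕ) {l : ℕ} (g : Fin l → A) (x : Fin l → CLoc I f)
    (hx : ∑ i, g i • x i = 0) :
    ∃ (k' : ℕ) (a : Fin l → Fin k' → A) (y : Fin k' → CLoc I f),
      (∀ i, x i - ∑ j, a i j • y j ∈
        ((I ^ k).map (algebraMap R A)) • (⊤ : Submodule A (CLoc I f))) ∧
      ∀ j, ∑ i, g i * a i j ∈ (I ^ k).map (algebraMap R A) := by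
  classical
  have hq : ∀ i, ∃ q : Localization.Away f,
      x i - AdicCompletion.of _ _ q ∈ (I ^ k).map (algebraMap R (CLoc I f)) :=
    fun i => cpl_exists_sub_mem hI k (x i)
  choose q hq using hq
  have hsum : (AdicCompletion.of _ _ (∑ i, g i • q i) : CLoc I f) ∈
      (I ^ k).map (algebraMap R (CLoc I f)) := by
    have e1 : (AdicCompletion.of _ _ (∑ i, g i • q i) : CLoc I f) =
        - ∑ i, g i • (x i - AdicCompletion.of _ _ (q i)) := by
      rw [map_sum]
      simp only [smul_sub, Finset.sum_sub_distrib, hx, zero_sub, neg_neg, cloc_smul_of]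
    rw [e1]
    refine neg_mem (Ideal.sum_mem _ fun i _ => ?_)
    rw [Algebra.smul_def]
    exact Ideal.mul_mem_left _ _ (hq i)
  rw [cpl_of_mem_iff hI] at hsum
  obtain ⟨s, c, hc⟩ := Submodule.fg_iff_exists_fin_generating_family.mp (hI.pow (n := k))
  rw [← hc, Ideal.map_span, ← Set.range_comp] at hsum
  obtain ⟨e, he⟩ := Ideal.mem_span_range_iff_exists_fun.mp hsum
  have hrel : ∑ ι : Fin l ⊕ Fin s, (Sum.elim g (fun s' => - algebraMap R A (c s')) ι) •
      (Sum.elim q e ι) = 0 := by
    rw [Fintype.sum_sum_type]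
    simp only [Sum.elim_inl, Sum.elim_inr, neg_smul, Finset.sum_neg_distrib]
    rw [← he]
    have e4 : ∀ x, algebraMap R A (c x) • e x =
        e x * (algebraMap R (Localization.Away f) ∘ c) x := fun x => by
      rw [Algebra.smul_def, ← IsScalarTower.algebraMap_apply, mul_comm]
      rfl
    simp_rw [e4]
    exact add_neg_cancel _
  obtain ⟨k', a, y, h1, h2⟩ := Module.Flat.isTrivialRelation_of_sum_smul_eq_zero
    (R := A) (M := Localization.Away f) hrel
  refine ⟨k', fun i j => a (Sum.inl i) j, fun j => AdicCompletion.of _ _ (y j), ?_, ?_⟩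
  · intro i
    have e2 : ∑ j, a (Sum.inl i) j • (AdicCompletion.of _ _ (y j) : CLoc I f) =
        AdicCompletion.of _ _ (q i) := by
      simp_rw [cloc_smul_of]
      rw [← map_sum]
      congr 1
      exact (h1 (Sum.inl i)).symm
    rw [e2]
    exact (mem_cloc_smul_top_iff f k _).mpr (hq i)
  · intro j
    have h3 := h2 j
    rw [Fintype.sum_sum_type] at h3
    simp only [Sum.elim_inl, Sum.elim_inr, neg_mul, Finset.sum_neg_distrib] at h3
    have e3 : ∑ i, g i * a (Sum.inl i) j = ∑ s', algebraMap R A (c s') * a (Sum.inr s') j := by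
      linear_combination h3
    rw [e3]
    refine Ideal.sum_mem _ fun s' _ => Ideal.mul_mem_right _ _ (Ideal.mem_map_of_mem _ ?_)
    rw [← hc]
    exact Ideal.subset_span ⟨s', rfl⟩

end CLocLift

section Main33

theorem cloc_smul_top_ne_top {R : Type u} [CommRing R] {I : Ideal R} {A : Type u} [CommRing A]
    [Algebra R A] (f : A) (𝔪 : Ideal A) [𝔪.IsPrime] (hle : I.map (algebraMap R A) ≤ 𝔪)
    (hf : f ∉ 𝔪) : (1 : CLoc I f) ∉ 𝔪 • (⊤ : Submodule A (CLoc I f)) := by
  intro h1
  have hJ : I.map (algebraMap R (Localization.Away f)) ≤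
      𝔪.map (algebraMap A (Localization.Away f)) := by
    rw [IsScalarTower.algebraMap_eq R A (Localization.Away f), ← Ideal.map_map]
    exact Ideal.map_mono hle
  have hψof : ∀ q : Localization.Away f,
      (Ideal.Quotient.factor hJ).comp
        (AdicCompletion.evalOneₐ (I.map (algebraMap R (Localization.Away f)))).toRingHom
        (AdicCompletion.of _ _ q) = Ideal.Quotient.mk _ q := by
    intro q
    rw [RingHom.comp_apply]
    change Ideal.Quotient.factor hJ (AdicCompletion.evalOneₐ _ (AdicCompletion.of _ _ q)) = _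
    rw [AdicCompletion.evalOneₐ_of, Ideal.Quotient.factor_mk]
  have hkill : ∀ z ∈ 𝔪 • (⊤ : Submodule A (CLoc I f)),
      (Ideal.Quotient.factor hJ).comp
        (AdicCompletion.evalOneₐ (I.map (algebraMap R (Localization.Away f)))).toRingHom z = 0 := by
    intro z hz
    refine Submodule.smul_induction_on hz (fun a ha c _ => ?_) (fun x y hx hy => ?_)
    · rw [Algebra.smul_def, map_mul]
      have e1 : algebraMap A (CLoc I f) a =
          AdicCompletion.of _ _ (algebraMap A (Localization.Away f) a) := rfl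
      rw [e1, hψof, Ideal.Quotient.eq_zero_iff_mem.mpr (Ideal.mem_map_of_mem _ ha), zero_mul]
    · rw [map_add, hx, hy, add_zero]
  have h2 := hkill 1 h1
  rw [map_one] at h2
  have h3 : (1 : Localization.Away f) ∈ 𝔪.map (algebraMap A (Localization.Away f)) := by
    rw [← Ideal.Quotient.eq_zero_iff_mem, map_one]
    exact h2
  have h4 : 𝔪.map (algebraMap A (Localization.Away f)) ≠ ⊤ :=
    (IsLocalization.map_algebraMap_ne_top_iff_disjoint (Submonoid.powers f)
      (Localization.Away f) 𝔪).mpr ((Ideal.disjoint_powers_iff_notMem_of_isPrime f).mpr hf)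
  exact h4 ((Ideal.eq_top_iff_one _).mpr h3)

theorem main11533
    (R : Type u) [CommRing R] (I : Ideal R) (hR : AdicRing.IsBase R I)
    (A : Type u) [CommRing A] [Algebra R A] (hA : AdicRing.TopFiniteType R I A)
    (r : ℕ) (f : Fin r → A) (hf : Ideal.span (Set.range f) = ⊤) :
    (∀ i, Module.Flat A (AdicRing.CLoc I (f i))) ∧
      Module.FaithfullyFlat A (∀ i, AdicRing.CLoc I (f i)) := by
  classical
  have hI := IsBase.fg hR
  have hcA : IsAdicComplete I A := main11529 R I hR A hA A
  have hcA' : IsAdicComplete (I.map (algebraMap R A)) A :=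
    (IsAdicComplete.map_algebraMap_iff _ _).mpr hcA
  have htft : ∀ i, TopFiniteType R I (CLoc I (f i)) := (main11534 R I hR A r f hf).mp hA
  have hflat : ∀ i, Module.Flat A (CLoc I (f i)) := fun i =>
    flat_of_forall_lift R I hR A hA (CLoc I (f i)) (htft i) (CLoc I (f i))
      (fun k l g x hx => cloc_lift (f i) hI k g x hx)
  refine ⟨hflat, ?_⟩
  have hflatpi : Module.Flat A (∀ i, CLoc I (f i)) :=
    Module.Flat.of_linearEquiv
      (DirectSum.linearEquivFunOnFintype A (Fin r) (fun i => CLoc I (f i))).symm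
  refine { toFlat := hflatpi, submodule_ne_top := ?_ }
  intro 𝔪 h𝔪 htop
  have hle : I.map (algebraMap R A) ≤ 𝔪 :=
    (IsAdicComplete.le_jacobson_bot _).trans (sInf_le ⟨bot_le, h𝔪⟩)
  obtain ⟨i, hi⟩ : ∃ i, f i ∉ 𝔪 := by
    by_contra hcon
    push Not at hcon
    have h5 : Ideal.span (Set.range f) ≤ 𝔪 :=
      Ideal.span_le.mpr (by rintro _ ⟨i, rfl⟩; exact hcon i)
    rw [hf] at h5
    exact h𝔪.ne_top (top_le_iff.mp h5)
  have h1 : (1 : CLoc I (f i)) ∈ 𝔪 • (⊤ : Submodule A (CLoc I (f i))) := by
    have h6 : (1 : ∀ i, CLoc I (f i)) ∈ 𝔪 • (⊤ : Submodule A (∀ i, CLoc I (f i))) := by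
      rw [htop]; trivial
    exact map_mem_smul_top 𝔪 (LinearMap.proj i) h6
  have := h𝔪.isPrime
  exact cloc_smul_top_ne_top (f i) 𝔪 hle hi h1

end Main33

end Groth.Agent.Helper17.AR
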