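import Mathlib
import Groth.Prelude.Def_W4bk4boschfrg79
import Groth.Agent.Lib.Helper17.AR17

/-!
# Admissibility is local for complete localizations (helper17)
-/

set_option autoImplicit false

universe u

open AdicRing TensorProduct

namespace Groth.Agent.Helper17.AR

section Main36

lemma tft_of_tfp {R : Type u} [CommRing R] {I : Ideal R} {A : Type u} [CommRing A] [Algebra R A]
    (h : TopFinitePresentation R I A) : TopFiniteType R I A := by
  obtain ⟨n, φ, hφ, -⟩ := h
  exact ⟨n, φ, hφ⟩

theorem noPowTorsion_of_flat {R : Type u} [CommRing R] {I : Ideal R} (hI : I.FG)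
    {A : Type u} [CommRing A] [Algebra R A] (hA : NoPowTorsion I A)
    {C : Type u} [AddCommGroup C] [Module A C] [Module R C] [IsScalarTower R A C]
    [Module.Flat A C] : NoPowTorsion I C := by
  classical
  intro x n hx
  obtain ⟨s, c, hc⟩ := Submodule.fg_iff_exists_fin_generating_family.mp (hI.pow (n := n))
  let μ : A →ₗ[A] (Fin s → A) :=
    LinearMap.pi (fun j => LinearMap.lsmul A A (algebraMap R A (c j)))
  have hμapp : ∀ a j, μ a j = algebraMap R A (c j) * a := fun a j => rfl
  have hμ : Function.Injective μ := by
    rw [injective_iff_map_eq_zero]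
    intro a ha
    apply hA a n
    intro r hr
    rw [← hc] at hr
    obtain ⟨ρ, rfl⟩ := (Submodule.mem_span_range_iff_exists_fun R).mp hr
    rw [Finset.sum_smul]
    refine Finset.sum_eq_zero fun j _ => ?_
    rw [smul_assoc]
    have h1 : c j • a = 0 := by
      have h2 := congrFun ha j
      rw [hμapp] at h2
      rw [Algebra.smul_def]
      exact h2
    rw [h1, smul_zero]
  have hinj := Module.Flat.lTensor_preserves_injective_linearMap (M := C) μ hμ
  have h0 : (μ.lTensor C) (x ⊗ₜ 1) = 0 := by
    rw [LinearMap.lTensor_tmul]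
    have e1 : μ 1 = ∑ j, algebraMap R A (c j) • Pi.single j (1 : A) := by
      ext j'
      rw [hμapp, Finset.sum_apply]
      simp [Pi.single_apply]
    rw [e1, TensorProduct.tmul_sum]
    refine Finset.sum_eq_zero fun j _ => ?_
    rw [← TensorProduct.smul_tmul, algebraMap_smul,
      hx (c j) (by rw [← hc]; exact Submodule.subset_span ⟨j, rfl⟩), TensorProduct.zero_tmul]
  have h1 : x ⊗ₜ[A] (1 : A) = 0 := hinj (by rw [h0, map_zero])
  have h2 := congrArg (TensorProduct.rid A C) h1
  simpa using h2

theorem main11536
    (R : Type u) [CommRing R] (I : Ideal R) (hR : AdicRing.IsBase R I)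
    (A : Type u) [CommRing A] [Algebra R A] [IsAdicComplete (I.map (algebraMap R A)) A]
    (r : ℕ) (f : Fin r → A) (hf : Ideal.span (Set.range f) = ⊤) :
    AdicRing.Admissible R I A ↔ ∀ i, AdicRing.Admissible R I (AdicRing.CLoc I (f i)) := by
  have hI := IsBase.fg hR
  constructor
  · rintro ⟨htfp, htor⟩ i
    refine ⟨(main11535 R I hR A r f hf).mp htfp i, ?_⟩
    have hA : TopFiniteType R I A := tft_of_tfp htfp
    have := (main11533 R I hR A hA r f hf).1 i
    exact noPowTorsion_of_flat hI htor
  · intro h
    have htfp := (main11535 R I hR A r f hf).mpr fun i => (h i).1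
    refine ⟨htfp, ?_⟩
    have hA : TopFiniteType R I A := tft_of_tfp htfp
    have hff := (main11533 R I hR A hA r f hf).2
    intro x n hx
    have hxm : ∀ m : (∀ i, CLoc I (f i)), x • m = 0 := by
      intro m
      funext i
      have h1 : algebraMap A (CLoc I (f i)) x = 0 := by
        apply (h i).2 _ n
        intro a ha
        rw [← algebraMap_smul A a (algebraMap A (CLoc I (f i)) x), Algebra.smul_def, ← map_mul,
          ← Algebra.smul_def, hx a ha, map_zero]
      rw [Pi.smul_apply, Algebra.smul_def, h1, zero_mul]
      rfl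
    have hg : (LinearMap.lsmul A A x).lTensor (∀ i, CLoc I (f i)) = 0 := by
      apply TensorProduct.ext'
      intro m a
      rw [LinearMap.lTensor_tmul, LinearMap.lsmul_apply, LinearMap.zero_apply,
        ← TensorProduct.smul_tmul, hxm, TensorProduct.zero_tmul]
    have h3 := (Module.FaithfullyFlat.zero_iff_lTensor_zero A (∀ i, CLoc I (f i))
      (LinearMap.lsmul A A x)).mpr hg
    have h4 := congrArg (fun g => g 1) h3
    simpa using h4

end Main36

end Groth.Agent.Helper17.AR
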