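import Mathlib
import Groth.Prelude.Def_W4bk4boschfrg79
import Groth.Agent.Lib.Helper17.AR13

/-!
# Universal property of the completion of an `R`-algebra; blow-up charts (helper17)
-/

set_option autoImplicit false

universe u

open AdicRing MvPolynomial

namespace Groth.Agent.Helper17.AR

section CplLift

variable {R : Type u} [CommRing R] (I : Ideal R) {Q : Type u} [CommRing Q] [Algebra R Q]
  {B : Type u} [CommRing B] [Algebra R B] [IsAdicComplete (I.map (algebraMap R B)) B]
  (g : Q →ₐ[R] B)

lemma map_algHom_le : (I.map (algebraMap R Q)).map g.toRingHom ≤ I.map (algebraMap R B) := by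
  rw [Ideal.map_map]
  apply le_of_eq
  congr 1
  ext r
  simp

/-- the universal property of the completion of an `R`-algebra -/
noncomputable def cplLift : Cpl I Q →ₐ[R] B :=
  { ((AdicCompletion.ofAlgEquiv (I.map (algebraMap R B))).symm : _ →+* B).comp
      (mapRingHom (I.map (algebraMap R Q)) (I.map (algebraMap R B)) g.toRingHom
        (map_algHom_le I g)) with
    commutes' := by
      intro r
      change (AdicCompletion.ofAlgEquiv (I.map (algebraMap R B))).symm
        (mapRingHom _ _ _ (map_algHom_le I g) (AdicCompletion.of _ _ (algebraMap R Q r))) = _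
      rw [mapRingHom_of]
      simp }

lemma cplLift_of (q : Q) : cplLift I g (AdicCompletion.of _ _ q) = g q := by
  change (AdicCompletion.ofAlgEquiv (I.map (algebraMap R B))).symm
    (mapRingHom _ _ _ (map_algHom_le I g) (AdicCompletion.of _ _ q)) = _
  rw [mapRingHom_of]
  simp

omit [IsAdicComplete (I.map (algebraMap R B)) B] in
theorem cpl_algHom_ext (hI : I.FG) [IsHausdorff (I.map (algebraMap R B)) B]
    (g₁ g₂ : Cpl I Q →ₐ[R] B)
    (h : ∀ q : Q, g₁ (AdicCompletion.of _ _ q) = g₂ (AdicCompletion.of _ _ q)) : g₁ = g₂ := by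
  apply AlgHom.ext
  intro x
  rw [← sub_eq_zero]
  apply IsHausdorff.haus (I := I.map (algebraMap R B)) inferInstance
  intro k
  rw [SModEq.zero, smul_eq_mul, Ideal.mul_top]
  obtain ⟨q, hq⟩ := cpl_exists_sub_mem hI k x
  have e : g₁ x - g₂ x = g₁ (x - AdicCompletion.of _ _ q) - g₂ (x - AdicCompletion.of _ _ q) := by
    rw [map_sub, map_sub, h q]; ring
  rw [e]
  have hmem : ∀ g' : Cpl I Q →ₐ[R] B, g' (x - AdicCompletion.of _ _ q) ∈
      (I.map (algebraMap R B)) ^ k := by
    intro g'
    have h1 : ((I ^ k).map (algebraMap R (Cpl I Q))).map g'.toRingHom =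
        (I.map (algebraMap R B)) ^ k := by
      rw [Ideal.map_map, ← Ideal.map_pow]
      congr 1
      ext r
      simp
    rw [← h1]
    exact Ideal.mem_map_of_mem g'.toRingHom hq
  exact sub_mem (hmem g₁) (hmem g₂)

end CplLift

section Chart

variable {R : Type u} [CommRing R] (I : Ideal R) {A : Type u} [CommRing A] [Algebra R A]
  {r : ℕ} (f : Fin (r + 1) → A) (i : Fin (r + 1))
  {B : Type u} [CommRing B] [Algebra R B]
  (φ : A →ₐ[R] B) (b : {j : Fin (r + 1) // j ≠ i} → B)

/-- polynomial-level map to `B` -/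
noncomputable def chartPoly : MvPolynomial {j : Fin (r + 1) // j ≠ i} A →ₐ[R] B :=
  { MvPolynomial.eval₂Hom φ.toRingHom b with
    commutes' := fun c => by
      change MvPolynomial.eval₂Hom φ.toRingHom b (algebraMap R (MvPolynomial _ A) c) = _
      rw [IsScalarTower.algebraMap_apply R A (MvPolynomial _ A), MvPolynomial.algebraMap_eq]
      simp }

lemma chartPoly_C (a : A) : chartPoly i φ b (C a) = φ a := by
  change MvPolynomial.eval₂Hom φ.toRingHom b (C a) = _
  simp

lemma chartPoly_X (j : {j : Fin (r + 1) // j ≠ i}) : chartPoly i φ b (X j) = b j := by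
  change MvPolynomial.eval₂Hom φ.toRingHom b (X j) = _
  simp

variable (hb : ∀ j : {j : Fin (r + 1) // j ≠ i}, φ (f j.1) = φ (f i) * b j)

include hb in
lemma chartPoly_kills (a : MvPolynomial {j : Fin (r + 1) // j ≠ i} A)
    (ha : a ∈ Ideal.span (Set.range fun j : {j : Fin (r + 1) // j ≠ i} =>
      MvPolynomial.C (f i) * MvPolynomial.X j - MvPolynomial.C (f j.1))) :
    chartPoly i φ b a = 0 := by
  have hle : Ideal.span (Set.range fun j : {j : Fin (r + 1) // j ≠ i} =>
      MvPolynomial.C (f i) * MvPolynomial.X j - MvPolynomial.C (f j.1)) ≤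
      RingHom.ker (chartPoly i φ b).toRingHom := by
    rw [Ideal.span_le]
    rintro _ ⟨j, rfl⟩
    rw [SetLike.mem_coe, RingHom.mem_ker]
    change chartPoly i φ b _ = 0
    rw [map_sub, map_mul, chartPoly_C, chartPoly_C, chartPoly_X, hb j, sub_self]
  exact hle ha

/-- the map from the chart algebra -/
noncomputable def chartAlgHom : chartAlg f i →ₐ[R] B :=
  Ideal.Quotient.liftₐ _ (chartPoly i φ b) (chartPoly_kills f i φ b hb)

lemma chartAlgHom_mk (a : MvPolynomial {j : Fin (r + 1) // j ≠ i} A) :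
    chartAlgHom f i φ b hb (Ideal.Quotient.mk _ a) = chartPoly i φ b a := rfl

end Chart

section Main45

theorem main11545
    (R : Type u) [CommRing R] (I : Ideal R) (hR : AdicRing.IsBase R I)
    (A : Type u) [CommRing A] [Algebra R A]
    (r : ℕ) (f : Fin (r + 1) → A) (i : Fin (r + 1))
    (B : Type u) [CommRing B] [Algebra R B] [IsAdicComplete (I.map (algebraMap R B)) B]
    (φ : A →ₐ[R] B) (hnzd : φ (f i) ∈ nonZeroDivisors B)
    (hgen : (Ideal.span (Set.range f)).map φ = Ideal.span {φ (f i)}) :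
    ∃! ψ : AdicRing.chartAdm I f i →ₐ[R] B,
      ψ.comp (IsScalarTower.toAlgHom R A (AdicRing.chartAdm I f i)) = φ := by
  have hI := IsBase.fg hR
  have hb : ∀ j : {j : Fin (r + 1) // j ≠ i}, ∃ c : B, φ (f j.1) = φ (f i) * c := by
    intro j
    have h1 : φ (f j.1) ∈ (Ideal.span (Set.range f)).map φ :=
      Ideal.mem_map_of_mem _ (Ideal.subset_span ⟨j.1, rfl⟩)
    rw [hgen] at h1
    obtain ⟨c, hc⟩ := Ideal.mem_span_singleton'.mp h1
    exact ⟨c, by rw [← hc, mul_comm]⟩
  choose b hb using hb
  have hcancel : ∀ x y : B, φ (f i) * x = φ (f i) * y → x = y := by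
    intro x y hxy
    have h2 : (x - y) * φ (f i) = 0 := by rw [mul_comm, mul_sub, hxy, sub_self]
    exact sub_eq_zero.mp ((mem_nonZeroDivisors_iff_right.mp hnzd) _ h2)
  obtain ⟨g₂, hg₂⟩ : ∃ g₂ : chartCompl I f i →ₐ[R] B, g₂ = cplLift I (chartAlgHom f i φ b hb) :=
    ⟨_, rfl⟩
  have hg₂of : ∀ a, g₂ (AdicCompletion.of _ _ (Ideal.Quotient.mk _ a)) = chartPoly i φ b a := by
    intro a
    rw [hg₂, cplLift_of, chartAlgHom_mk]
  have hg₂A : ∀ a : A, g₂ (algebraMap A (chartCompl I f i) a) = φ a := by
    intro a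
    have e1 : algebraMap A (chartCompl I f i) a =
        AdicCompletion.of _ _ (Ideal.Quotient.mk _ (C a)) := rfl
    rw [e1, hg₂of, chartPoly_C]
  have hkill : ∀ x : chartCompl I f i,
      x ∈ (⨆ n : ℕ, Submodule.torsionBy (chartCompl I f i) (chartCompl I f i)
        (algebraMap A (chartCompl I f i) (f i) ^ n) : Ideal (chartCompl I f i)) → g₂ x = 0 := by
    have hle : (⨆ n : ℕ, Submodule.torsionBy (chartCompl I f i) (chartCompl I f i)
        (algebraMap A (chartCompl I f i) (f i) ^ n) : Ideal (chartCompl I f i)) ≤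
        RingHom.ker g₂.toRingHom := by
      refine iSup_le fun n => ?_
      intro x hx
      rw [Submodule.mem_torsionBy_iff] at hx
      rw [RingHom.mem_ker]
      change g₂ x = 0
      have h3 := congrArg g₂ hx
      rw [smul_eq_mul, map_mul, map_pow, hg₂A, map_zero] at h3
      have h4 : φ (f i) ^ n ∈ nonZeroDivisors B := pow_mem hnzd n
      rw [mul_comm] at h3
      exact (mem_nonZeroDivisors_iff_right.mp h4) _ h3
    intro x hx
    exact hle hx
  refine ⟨Ideal.Quotient.liftₐ _ g₂ hkill, ?_, ?_⟩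
  · apply AlgHom.ext
    intro a
    exact hg₂A a
  · intro ψ' hψ'
    apply Ideal.Quotient.algHom_ext
    have hψ'A : ∀ a : A, ψ' (algebraMap A (chartAdm I f i) a) = φ a := fun a =>
      congrArg (fun g : A →ₐ[R] B => g a) hψ'
    have hcomp : (Ideal.Quotient.liftₐ _ g₂ hkill).comp (Ideal.Quotient.mkₐ R _) = g₂ := by
      apply AlgHom.ext
      intro x
      rfl
    rw [hcomp]
    apply cpl_algHom_ext I hI
    intro q
    obtain ⟨a, rfl⟩ := Ideal.Quotient.mk_surjective q
    rw [hg₂of]
    -- compare ring homs on the polynomial ring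
    obtain ⟨H, hH⟩ : ∃ H : chartAlg f i →+* B, H = (ψ'.comp (Ideal.Quotient.mkₐ R _)).toRingHom.comp
        (algebraMap (chartAlg f i) (chartCompl I f i)) := ⟨_, rfl⟩
    have hHof : ∀ q : chartAlg f i, H q = (ψ'.comp (Ideal.Quotient.mkₐ R _))
        (AdicCompletion.of _ _ q) := by
      intro q; rw [hH]; rfl
    have hC : ∀ a' : A, H (Ideal.Quotient.mk _ (C a')) = φ a' := by
      intro a'; rw [hHof]; exact hψ'A a'
    have hX : ∀ j : {j : Fin (r + 1) // j ≠ i}, H (Ideal.Quotient.mk _ (X j)) = b j := by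
      intro j
      apply hcancel
      rw [← hb j, ← hC (f i), ← hC (f j.1), ← map_mul, ← map_mul]
      congr 1
      rw [Ideal.Quotient.eq]
      exact Ideal.subset_span ⟨j, rfl⟩
    have hring : H.comp (Ideal.Quotient.mk _) = (chartPoly i φ b).toRingHom := by
      apply MvPolynomial.ringHom_ext
      · intro a'
        rw [RingHom.comp_apply, hC a']
        exact (chartPoly_C i φ b a').symm
      · intro j
        rw [RingHom.comp_apply, hX j]
        exact (chartPoly_X i φ b j).symm
    rw [← hHof]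
    exact congrArg (fun g : MvPolynomial {j : Fin (r + 1) // j ≠ i} A →+* B => g a) hring

end Main45

end Groth.Agent.Helper17.AR
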