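import Mathlib
import Groth.Prelude.Def_W4bk4boschfrg79
import Groth.Agent.Lib.Helper17.AR18
import Groth.Agent.Lib.Helper17.AR19

/-!
# Torsion in the completed blow-up charts (helper17)
-/

set_option autoImplicit false

universe u

open AdicRing MvPolynomial

namespace Groth.Agent.Helper17.AR

section T1

theorem tft_flat_cloc (R : Type u) [CommRing R] (I : Ideal R) (hR : AdicRing.IsBase R I)
    (A : Type u) [CommRing A] [Algebra R A] (hA : AdicRing.TopFiniteType R I A) (f : A) :
    TopFiniteType R I (CLoc I f) ∧ Module.Flat A (CLoc I f) := by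
  have hcA : IsAdicComplete I A := main11529 R I hR A hA A
  have hcA' : IsAdicComplete (I.map (algebraMap R A)) A :=
    (IsAdicComplete.map_algebraMap_iff _ _).mpr hcA
  have hspan : Ideal.span (Set.range ![f, 1 - f]) = ⊤ := by
    rw [Ideal.eq_top_iff_one]
    have hmem : f + (1 - f) ∈ Ideal.span (Set.range ![f, 1 - f]) :=
      Ideal.add_mem _ (Ideal.subset_span ⟨0, rfl⟩) (Ideal.subset_span ⟨1, rfl⟩)
    have e : f + (1 - f) = 1 := by ring
    rw [e] at hmem
    exact hmem
  exact ⟨(main11534 R I hR A 2 ![f, 1 - f] hspan).mp hA 0,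
    (main11533 R I hR A hA 2 ![f, 1 - f] hspan).1 0⟩

end T1

section T2

variable {R : Type u} [CommRing R] (I : Ideal R) {A B : Type u} [CommRing A] [Algebra R A]
  [CommRing B] [Algebra R B] [Algebra A B] [IsScalarTower R A B]

instance isScalarTower_quot_map (J : Ideal A) :
    IsScalarTower R (A ⧸ J) (B ⧸ J.map (algebraMap A B)) :=
  IsScalarTower.of_algebraMap_eq fun r => by
    rw [IsScalarTower.algebraMap_apply R A (A ⧸ J), Ideal.Quotient.algebraMap_eq,
      Ideal.Quotient.algebraMap_quotient_map_quotient,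
      IsScalarTower.algebraMap_apply R B (B ⧸ J.map (algebraMap A B)),
      Ideal.Quotient.algebraMap_eq, ← IsScalarTower.algebraMap_apply R A B]

theorem finiteType_quot_of_finiteType [Algebra.FiniteType A B]
    (h : Algebra.FiniteType R (A ⧸ I.map (algebraMap R A))) :
    Algebra.FiniteType R (B ⧸ I.map (algebraMap R B)) := by
  have h1 : Algebra.FiniteType A (B ⧸ (I.map (algebraMap R A)).map (algebraMap A B)) :=
    Algebra.FiniteType.of_surjective (Ideal.Quotient.mkₐ A _) (Ideal.Quotient.mkₐ_surjective A _)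
  have h2 : Algebra.FiniteType (A ⧸ I.map (algebraMap R A))
      (B ⧸ (I.map (algebraMap R A)).map (algebraMap A B)) :=
    Algebra.FiniteType.of_restrictScalars_finiteType A _ _
  have h4 : Algebra.FiniteType R (B ⧸ (I.map (algebraMap R A)).map (algebraMap A B)) :=
    h.trans h2
  have e : (B ⧸ (I.map (algebraMap R A)).map (algebraMap A B)) ≃ₐ[R]
      (B ⧸ I.map (algebraMap R B)) :=
    Ideal.quotientEquivAlgOfEq R (by rw [Ideal.map_map, ← IsScalarTower.algebraMap_eq])
  exact h4.equiv e

theorem tft_cpl_of_finiteType (hR : IsBase R I) (hA : TopFiniteType R I A)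
    [Algebra.FiniteType A B] : TopFiniteType R I (Cpl I B) := by
  have hI := IsBase.fg hR
  have := isAdicComplete_cpl (I := I) (Q := B) hI
  apply tft_of_finiteType_quot I hI
  have h1 : Algebra.FiniteType R (B ⧸ I.map (algebraMap R B)) :=
    finiteType_quot_of_finiteType I (finiteType_quot_of_tft I hI hA)
  have e1 : (B ⧸ I.map (algebraMap R B)) ≃ₐ[R] (B ⧸ (I ^ 1).map (algebraMap R B)) :=
    Ideal.quotientEquivAlgOfEq R (by rw [pow_one])
  have e2 := cplQuotEquiv (Q := B) hI 1
  have e3 : (Cpl I B ⧸ (I ^ 1).map (algebraMap R (Cpl I B))) ≃ₐ[R]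
      (Cpl I B ⧸ I.map (algebraMap R (Cpl I B))) :=
    Ideal.quotientEquivAlgOfEq R (by rw [pow_one])
  exact h1.equiv ((e1.trans e2).trans e3)

end T2

section T3

variable {R : Type u} [CommRing R] (I : Ideal R) {A : Type u} [CommRing A] [Algebra R A]
  {r : ℕ} (f : Fin (r + 1) → A) (i : Fin (r + 1))

/-- the image of `f i` in the completed chart algebra -/
noncomputable abbrev FF : chartCompl I f i := algebraMap A (chartCompl I f i) (f i)

theorem noPowTorsion_cloc_chart (hI : I.FG) (hnt : NoPowTorsion I (CLoc I (f i))) :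
    NoPowTorsion I (CLoc I (FF I f i)) := by
  have hcA := isAdicComplete_cpl (I := I) (Q := Localization.Away (f i)) hI
  have hcD := isAdicComplete_cpl (I := I) (Q := Localization.Away (FF I f i)) hI
  -- the map from the chart algebra to `A⟨f_i⁻¹⟩`
  have hb : ∀ j : {j : Fin (r + 1) // j ≠ i},
      (IsScalarTower.toAlgHom R A (CLoc I (f i))) (f j.1) =
        (IsScalarTower.toAlgHom R A (CLoc I (f i))) (f i) *
          (AdicCompletion.of _ _ (IsLocalization.mk' (Localization.Away (f i)) (f j.1)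
            (⟨f i, Submonoid.mem_powers _⟩ : Submonoid.powers (f i))) : CLoc I (f i)) := by
    intro j
    change AdicCompletion.of _ _ (algebraMap A (Localization.Away (f i)) (f j.1)) =
      AdicCompletion.of _ _ (algebraMap A (Localization.Away (f i)) (f i)) * _
    have hof : ∀ l : Localization.Away (f i), (AdicCompletion.of _ _ l : CLoc I (f i)) =
        algebraMap (Localization.Away (f i)) (CLoc I (f i)) l := fun l => rfl
    simp only [hof]
    rw [← map_mul]
    congr 1
    exact (IsLocalization.mk'_spec' (Localization.Away (f i)) (f j.1)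
      (⟨f i, Submonoid.mem_powers _⟩ : Submonoid.powers (f i))).symm
  obtain ⟨αh, hαh⟩ : ∃ g : chartCompl I f i →ₐ[R] CLoc I (f i), ∀ q,
      g (AdicCompletion.of _ _ q) = chartAlgHom f i (IsScalarTower.toAlgHom R A (CLoc I (f i)))
        (fun j => (AdicCompletion.of _ _ (IsLocalization.mk' (Localization.Away (f i)) (f j.1)
            (⟨f i, Submonoid.mem_powers _⟩ : Submonoid.powers (f i))) : CLoc I (f i))) hb q :=
    ⟨cplLift I _, cplLift_of I _⟩
  have hαhA : ∀ a : A, αh (algebraMap A (chartCompl I f i) a) =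
      algebraMap A (CLoc I (f i)) a := by
    intro a
    have e1 : algebraMap A (chartCompl I f i) a =
        AdicCompletion.of _ _ (Ideal.Quotient.mk _ (C a)) := rfl
    rw [e1, hαh, chartAlgHom_mk, chartPoly_C]
    rfl
  have hαhX : ∀ j : {j : Fin (r + 1) // j ≠ i},
      αh (AdicCompletion.of _ _ (Ideal.Quotient.mk _ (X j))) =
        (AdicCompletion.of _ _ (IsLocalization.mk' (Localization.Away (f i)) (f j.1)
            (⟨f i, Submonoid.mem_powers _⟩ : Submonoid.powers (f i))) : CLoc I (f i)) := by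
    intro j
    rw [hαh, chartAlgHom_mk, chartPoly_X]
  have hunitA : IsUnit (algebraMap A (CLoc I (f i)) (f i)) := by
    have h1 : IsUnit (algebraMap A (Localization.Away (f i)) (f i)) :=
      IsLocalization.map_units (Localization.Away (f i))
        (⟨f i, Submonoid.mem_powers _⟩ : Submonoid.powers (f i))
    have h2 := h1.map (algebraMap (Localization.Away (f i)) (CLoc I (f i)))
    rwa [← IsScalarTower.algebraMap_apply] at h2
  have hunit : ∀ y : Submonoid.powers (FF I f i), IsUnit (αh y) := by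
    rintro ⟨_, m, rfl⟩
    change IsUnit (αh (FF I f i ^ m))
    rw [map_pow, hαhA]
    exact hunitA.pow m
  obtain ⟨β, hβ⟩ : ∃ β : Localization.Away (FF I f i) →ₐ[R] CLoc I (f i),
      ∀ c, β (algebraMap (chartCompl I f i) (Localization.Away (FF I f i)) c) = αh c :=
    ⟨IsLocalization.liftAlgHom (M := Submonoid.powers (FF I f i)) (f := αh) hunit,
      fun c => IsLocalization.lift_eq _ c⟩
  obtain ⟨βh, hβh⟩ : ∃ g : CLoc I (FF I f i) →ₐ[R] CLoc I (f i), ∀ d,
      g (AdicCompletion.of _ _ d) = β d := ⟨cplLift I β, cplLift_of I β⟩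
  -- the map back
  have hunitF : IsUnit (algebraMap (chartCompl I f i) (CLoc I (FF I f i)) (FF I f i)) := by
    have h1 : IsUnit (algebraMap (chartCompl I f i) (Localization.Away (FF I f i)) (FF I f i)) :=
      IsLocalization.map_units (Localization.Away (FF I f i))
        (⟨FF I f i, Submonoid.mem_powers _⟩ : Submonoid.powers (FF I f i))
    have h2 := h1.map (algebraMap (Localization.Away (FF I f i)) (CLoc I (FF I f i)))
    rwa [← IsScalarTower.algebraMap_apply] at h2
  obtain ⟨ιA, hιA⟩ : ∃ g : A →ₐ[R] CLoc I (FF I f i), ∀ a, g a =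
      algebraMap (chartCompl I f i) (CLoc I (FF I f i)) (algebraMap A (chartCompl I f i) a) :=
    ⟨(IsScalarTower.toAlgHom R (chartCompl I f i) (CLoc I (FF I f i))).comp
      (IsScalarTower.toAlgHom R A (chartCompl I f i)), fun a => rfl⟩
  have hunit' : ∀ y : Submonoid.powers (f i), IsUnit (ιA y) := by
    rintro ⟨_, m, rfl⟩
    change IsUnit (ιA (f i ^ m))
    rw [map_pow, hιA]
    exact hunitF.pow m
  obtain ⟨γ, hγ⟩ : ∃ γ : Localization.Away (f i) →ₐ[R] CLoc I (FF I f i),
      ∀ a, γ (algebraMap A (Localization.Away (f i)) a) = ιA a :=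
    ⟨IsLocalization.liftAlgHom (M := Submonoid.powers (f i)) (f := ιA) hunit',
      fun a => IsLocalization.lift_eq _ a⟩
  obtain ⟨γh, hγh⟩ : ∃ g : CLoc I (f i) →ₐ[R] CLoc I (FF I f i), ∀ l,
      g (AdicCompletion.of _ _ l) = γ l := ⟨cplLift I γ, cplLift_of I γ⟩
  -- the composite on the completed chart algebra
  have hC : γh.comp αh = IsScalarTower.toAlgHom R (chartCompl I f i) (CLoc I (FF I f i)) := by
    apply cpl_algHom_ext I hI
    intro q
    obtain ⟨a, rfl⟩ := Ideal.Quotient.mk_surjective q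
    obtain ⟨H₁, hH₁⟩ : ∃ H : MvPolynomial {j : Fin (r + 1) // j ≠ i} A →+* CLoc I (FF I f i),
        H = ((γh.comp αh).toRingHom.comp (algebraMap (chartAlg f i) (chartCompl I f i))).comp
          (Ideal.Quotient.mk _) := ⟨_, rfl⟩
    obtain ⟨H₂, hH₂⟩ : ∃ H : MvPolynomial {j : Fin (r + 1) // j ≠ i} A →+* CLoc I (FF I f i),
        H = ((algebraMap (chartCompl I f i) (CLoc I (FF I f i))).comp
          (algebraMap (chartAlg f i) (chartCompl I f i))).comp
          (Ideal.Quotient.mk _) := ⟨_, rfl⟩
    have hH₁of : ∀ a', H₁ a' = (γh.comp αh) (AdicCompletion.of _ _ (Ideal.Quotient.mk _ a')) := by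
      intro a'; rw [hH₁]; rfl
    have hH₂of : ∀ a', H₂ a' = (IsScalarTower.toAlgHom R (chartCompl I f i) (CLoc I (FF I f i)))
        (AdicCompletion.of _ _ (Ideal.Quotient.mk _ a')) := by
      intro a'; rw [hH₂]; rfl
    have hH₁C : ∀ a' : A, H₁ (C a') = ιA a' := by
      intro a'
      rw [hH₁of, AlgHom.comp_apply]
      have e1 : (AdicCompletion.of _ _ (Ideal.Quotient.mk _ (C a')) : chartCompl I f i) =
          algebraMap A (chartCompl I f i) a' := rfl
      rw [e1, hαhA]
      have e2 : algebraMap A (CLoc I (f i)) a' =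
          AdicCompletion.of _ _ (algebraMap A (Localization.Away (f i)) a') := rfl
      rw [e2, hγh, hγ]
    have hH₂C : ∀ a' : A, H₂ (C a') = ιA a' := by
      intro a'
      rw [hH₂of, hιA]
      rfl
    have hrel : ∀ j : {j : Fin (r + 1) // j ≠ i}, ∀ H : MvPolynomial {j : Fin (r + 1) // j ≠ i} A →+*
        CLoc I (FF I f i), (∃ H' : chartAlg f i →+* CLoc I (FF I f i),
          H = H'.comp (Ideal.Quotient.mk _)) → H (C (f i)) * H (X j) = H (C (f j.1)) := by
      rintro j H ⟨H', rfl⟩
      rw [← map_mul]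
      simp only [RingHom.comp_apply]
      congr 1
      rw [Ideal.Quotient.eq]
      exact Ideal.subset_span ⟨j, rfl⟩
    have hring : H₁ = H₂ := by
      apply MvPolynomial.ringHom_ext
      · intro a'
        rw [hH₁C, hH₂C]
      · intro j
        have h1 := hrel j H₁ ⟨_, hH₁⟩
        have h2 := hrel j H₂ ⟨_, hH₂⟩
        rw [hH₁C, hH₁C] at h1
        rw [hH₂C, hH₂C] at h2
        have hu : IsUnit (ιA (f i)) := hunit' ⟨f i, Submonoid.mem_powers _⟩
        exact hu.mul_left_cancel (h1.trans h2.symm)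
    rw [← hH₁of, ← hH₂of, hring]
  have hcomp : γh.comp βh = AlgHom.id R _ := by
    apply cpl_algHom_ext I hI
    intro d
    rw [AlgHom.comp_apply, hβh, AlgHom.id_apply]
    have hD : (γh.toRingHom.comp β.toRingHom) =
        algebraMap (Localization.Away (FF I f i)) (CLoc I (FF I f i)) := by
      apply IsLocalization.ringHom_ext (Submonoid.powers (FF I f i))
      apply RingHom.ext
      intro c
      rw [RingHom.comp_apply, RingHom.comp_apply, RingHom.comp_apply]
      change γh (β (algebraMap _ _ c)) = _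
      rw [hβ]
      have h3 := congrArg (fun g : chartCompl I f i →ₐ[R] CLoc I (FF I f i) => g c) hC
      simp only [AlgHom.comp_apply] at h3
      rw [h3]
      rfl
    have h4 := congrArg (fun g : Localization.Away (FF I f i) →+* CLoc I (FF I f i) => g d) hD
    exact h4
  -- conclusion
  intro x n hx
  have h5 : βh x = 0 := by
    apply hnt _ n
    intro a ha
    rw [← map_smul, hx a ha, map_zero]
  have h6 := congrArg (fun g : CLoc I (FF I f i) →ₐ[R] CLoc I (FF I f i) => g x) hcomp
  simp only [AlgHom.comp_apply, AlgHom.id_apply] at h6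
  rw [← h6, h5, map_zero]

end T3

section Gen40

theorem pow_mul_eq_zero_of_flat_cloc {R : Type u} [CommRing R] {I : Ideal R} (hI : I.FG)
    {C : Type u} [CommRing C] [Algebra R C] (F : C) [Module.Flat C (CLoc I F)]
    (hnt : NoPowTorsion I (CLoc I F)) (x : C) (n : ℕ) (hx : ∀ a ∈ I ^ n, a • x = 0) :
    ∃ m : ℕ, F ^ m * x = 0 := by
  classical
  have hx0 : algebraMap C (CLoc I F) x = 0 := by
    apply hnt _ n
    intro a ha
    rw [← algebraMap_smul C a (algebraMap C (CLoc I F) x), Algebra.smul_def, ← map_mul,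
      ← Algebra.smul_def, hx a ha, map_zero]
  have hx1 : x • (1 : CLoc I F) = 0 := by
    rw [Algebra.smul_def, mul_one]; exact hx0
  have hrel : ∑ _j : Fin 1, x • (1 : CLoc I F) = 0 :=
    Finset.sum_eq_zero fun _ _ => hx1
  obtain ⟨k', a, y, h1, h2⟩ := Module.Flat.isTrivialRelation_of_sum_smul_eq_zero
    (R := C) (M := CLoc I F) (f := fun _ : Fin 1 => x) (x := fun _ => 1) hrel
  have ha : ∀ j, x * a 0 j = 0 := fun j => by simpa using h2 j
  have hd := fun j => cpl_exists_sub_mem (Q := Localization.Away F) hI n (y j)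
  choose d hd using hd
  have hof : ∀ l : Localization.Away F, (AdicCompletion.of _ _ l : CLoc I F) =
      algebraMap (Localization.Away F) (CLoc I F) l := fun l => rfl
  have hmem : (1 : Localization.Away F) - ∑ j, a 0 j • d j ∈
      (I ^ n).map (algebraMap R (Localization.Away F)) := by
    rw [← cpl_of_mem_iff hI]
    have e1 : (AdicCompletion.of _ _ ((1 : Localization.Away F) - ∑ j, a 0 j • d j) :
        CLoc I F) = ∑ j, a 0 j • (y j - AdicCompletion.of _ _ (d j)) := by
      rw [map_sub, map_sum]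
      simp only [smul_sub, Finset.sum_sub_distrib, cloc_smul_of]
      rw [← h1 0, hof 1, map_one]
    rw [e1]
    refine Ideal.sum_mem _ fun j _ => ?_
    rw [Algebra.smul_def]
    exact Ideal.mul_mem_left _ _ (hd j)
  obtain ⟨𝔟, h𝔟⟩ : ∃ 𝔟 : Ideal C, ∀ c, c ∈ 𝔟 ↔ x * c = 0 :=
    ⟨LinearMap.ker (LinearMap.mulLeft C x), fun c => by
      rw [LinearMap.mem_ker, LinearMap.mulLeft_apply]⟩
  have hI𝔟 : (I ^ n).map (algebraMap R C) ≤ 𝔟 := by
    rw [Ideal.map_le_iff_le_comap]
    intro c hc
    rw [Ideal.mem_comap, h𝔟, mul_comm, ← Algebra.smul_def]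
    exact hx c hc
  have htop : 𝔟.map (algebraMap C (Localization.Away F)) = ⊤ := by
    rw [Ideal.eq_top_iff_one]
    have e2 : (1 : Localization.Away F) =
        ∑ j, a 0 j • d j + (1 - ∑ j, a 0 j • d j) := by ring
    rw [e2]
    refine Ideal.add_mem _ (Ideal.sum_mem _ fun j _ => ?_) ?_
    · rw [Algebra.smul_def]
      exact Ideal.mul_mem_right _ _ (Ideal.mem_map_of_mem _ ((h𝔟 _).mpr (ha j)))
    · have e3 : (I ^ n).map (algebraMap R (Localization.Away F)) =
          ((I ^ n).map (algebraMap R C)).map (algebraMap C (Localization.Away F)) := by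
        rw [Ideal.map_map, ← IsScalarTower.algebraMap_eq]
      rw [e3] at hmem
      exact Ideal.map_mono hI𝔟 hmem
  have hnd : ¬ Disjoint (Submonoid.powers F : Set C) (𝔟 : Set C) := by
    intro hdis
    exact (IsLocalization.map_algebraMap_ne_top_iff_disjoint (Submonoid.powers F)
      (Localization.Away F) 𝔟).mpr hdis htop
  obtain ⟨z, ⟨m, rfl⟩, hz⟩ := Set.not_disjoint_iff.mp hnd
  refine ⟨m, ?_⟩
  rw [mul_comm]
  exact (h𝔟 _).mp hz

end Gen40

section Main40

variable {R : Type u} [CommRing R] (I : Ideal R) {A : Type u} [CommRing A] [Algebra R A]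
  {r : ℕ} (f : Fin (r + 1) → A) (i : Fin (r + 1))

lemma chart_map_le_span (k : ℕ)
    (hopen : (I ^ k).map (algebraMap R A) ≤ Ideal.span (Set.range f)) :
    (I ^ k).map (algebraMap R (chartCompl I f i)) ≤ Ideal.span {FF I f i} := by
  have e1 : (I ^ k).map (algebraMap R (chartCompl I f i)) =
      ((I ^ k).map (algebraMap R A)).map (algebraMap A (chartCompl I f i)) := by
    rw [Ideal.map_map, ← IsScalarTower.algebraMap_eq]
  rw [e1]
  refine (Ideal.map_mono hopen).trans ?_
  rw [Ideal.map_span, Ideal.span_le]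
  rintro _ ⟨_, ⟨j, rfl⟩, rfl⟩
  rw [SetLike.mem_coe, Ideal.mem_span_singleton]
  by_cases hj : j = i
  · rw [hj]
  · refine ⟨AdicCompletion.of _ _ (Ideal.Quotient.mk _ (X (⟨j, hj⟩ : {j : Fin (r + 1) // j ≠ i}))), ?_⟩
    have hof : ∀ l : chartAlg f i, (AdicCompletion.of _ _ l : chartCompl I f i) =
        algebraMap (chartAlg f i) (chartCompl I f i) l := fun l => rfl
    have e2 : ∀ a : A, algebraMap A (chartCompl I f i) a =
        algebraMap (chartAlg f i) (chartCompl I f i) (Ideal.Quotient.mk _ (C a)) := fun a => rfl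
    rw [FF, e2, e2, hof, ← map_mul, ← map_mul]
    congr 1
    symm
    rw [Ideal.Quotient.eq]
    exact Ideal.subset_span ⟨⟨j, hj⟩, rfl⟩

theorem main11540
    (R : Type u) [CommRing R] (I : Ideal R) (hR : AdicRing.IsBase R I)
    (A : Type u) [CommRing A] [Algebra R A] (hA : AdicRing.Admissible R I A)
    (r : ℕ) (f : Fin (r + 1) → A) (k : ℕ)
    (hopen : (I ^ k).map (algebraMap R A) ≤ Ideal.span (Set.range f)) (i : Fin (r + 1))
    (x : AdicRing.chartCompl I f i) :
    (∃ n : ℕ, ∀ a ∈ I ^ n, a • x = 0) ↔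
      ∃ n : ℕ, algebraMap A (AdicRing.chartCompl I f i) (f i) ^ n * x = 0 := by
  classical
  have hI := IsBase.fg hR
  constructor
  · rintro ⟨n, hx⟩
    have hAtft : TopFiniteType R I A := tft_of_tfp hA.1
    have hFT : Algebra.FiniteType A (chartAlg f i) :=
      Algebra.FiniteType.of_surjective (Ideal.Quotient.mkₐ A _) (Ideal.Quotient.mkₐ_surjective A _)
    have hCtft : TopFiniteType R I (chartCompl I f i) := tft_cpl_of_finiteType I hR hAtft
    have hflatD : Module.Flat (chartCompl I f i) (CLoc I (FF I f i)) :=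
      (tft_flat_cloc R I hR (chartCompl I f i) hCtft (FF I f i)).2
    have hflatA : Module.Flat A (CLoc I (f i)) := (tft_flat_cloc R I hR A hAtft (f i)).2
    have hntA : NoPowTorsion I (CLoc I (f i)) := noPowTorsion_of_flat hI hA.2
    have hntD : NoPowTorsion I (CLoc I (FF I f i)) := noPowTorsion_cloc_chart I f i hI hntA
    exact pow_mul_eq_zero_of_flat_cloc hI (FF I f i) hntD x n hx
  · rintro ⟨n, hx⟩
    refine ⟨k * n, ?_⟩
    intro a ha
    have h1 : (I ^ (k * n)).map (algebraMap R (chartCompl I f i)) ≤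
        Ideal.span {FF I f i ^ n} := by
      rw [pow_mul, Ideal.map_pow, ← Ideal.span_singleton_pow]
      exact Ideal.pow_right_mono (chart_map_le_span I f i k hopen) n
    have h2 := h1 (Ideal.mem_map_of_mem _ ha)
    obtain ⟨w, hw⟩ := Ideal.mem_span_singleton'.mp h2
    rw [Algebra.smul_def, ← hw, mul_assoc, hx, mul_zero]

end Main40

end Groth.Agent.Helper17.AR
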