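import Mathlib
import Groth.Prelude.Def_W4bk4boschfrg79
import Groth.Agent.Lib.Helper17.AR7
import Groth.Agent.Lib.Helper17.AR20

/-!
# Adjoining integral elements of the generic fibre to an admissible algebra (helper17)
-/

set_option autoImplicit false

universe u

open AdicRing TensorProduct

namespace Groth.Agent.Helper17.AR

section Base

theorem isBase_of_valuationRing (R : Type u) [CommRing R] [IsDomain R] [ValuationRing R]
    [Ring.KrullDimLE 1 R] (t : R) (ht : t ≠ 0) [IsAdicComplete (Ideal.span {t}) R] :
    IsBase R (Ideal.span {t}) :=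
  ⟨inferInstance, Or.inr ⟨inferInstance, inferInstance, inferInstance, t, ht, rfl⟩⟩

/-- finite algebras without torsion over an admissible algebra are admissible -/
theorem admissible_of_finite {R : Type u} [CommRing R] {I : Ideal R} (hR : IsBase R I)
    {A : Type u} [CommRing A] [Algebra R A] (hA : TopFiniteType R I A)
    {B : Type u} [CommRing B] [Algebra R B] [Algebra A B] [IsScalarTower R A B]
    [Module.Finite A B] (hB : NoPowTorsion I B) : Admissible R I B := by
  have hI := IsBase.fg hR
  have hc : IsAdicComplete I B := main11529 R I hR A hA B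
  have hc' : IsAdicComplete (I.map (algebraMap R B)) B :=
    (IsAdicComplete.map_algebraMap_iff _ _).mpr hc
  have hft : Algebra.FiniteType R (B ⧸ I.map (algebraMap R B)) :=
    finiteType_quot_of_finiteType I (A := A) (finiteType_quot_of_tft I hI hA)
  have htft : TopFiniteType R I B := tft_of_finiteType_quot I hI hft
  exact ⟨main11525 R I hR B htft hB, hB⟩

end Base

section GenFibre

variable {R : Type u} [CommRing R] [IsDomain R] (A : Type u) [CommRing A] [Algebra R A]

lemma eq_zero_of_smul_eq_zero_genFibre (c : R) (hc : c ≠ 0) (z : A ⊗[R] FractionRing R)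
    (h : c • z = 0) : z = 0 := by
  have hτ : algebraMap R (FractionRing R) c ≠ 0 := by
    rw [Ne, map_eq_zero_iff _ (IsFractionRing.injective R (FractionRing R))]
    exact hc
  have e1 : ∀ z' : A ⊗[R] FractionRing R,
      c • z' = z' * ((1 : A) ⊗ₜ[R] algebraMap R (FractionRing R) c) := by
    intro z'
    induction z' using TensorProduct.induction_on with
    | zero => simp
    | tmul a k =>
      rw [TensorProduct.smul_tmul', TensorProduct.smul_tmul, Algebra.TensorProduct.tmul_mul_tmul,
        mul_one, Algebra.smul_def, mul_comm]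
    | add z w hz hw => rw [smul_add, add_mul, hz, hw]
  have e2 : z = (c • z) * ((1 : A) ⊗ₜ[R] (algebraMap R (FractionRing R) c)⁻¹) := by
    rw [e1 z, mul_assoc, Algebra.TensorProduct.tmul_mul_tmul, mul_one, mul_inv_cancel₀ hτ]
    rw [← Algebra.TensorProduct.one_def, mul_one]
  rw [e2, h, zero_mul]

end GenFibre

section Main52

theorem main13352
    (R : Type u) [CommRing R] [IsDomain R] [ValuationRing R] [Ring.KrullDimLE 1 R]
    (t : R) (ht : t ≠ 0) [IsAdicComplete (Ideal.span {t}) R]
    (A : Type u) [CommRing A] [Algebra R A] (hA : AdicRing.Admissible R (Ideal.span {t}) A)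
    (n : ℕ) (f : Fin n → A ⊗[R] FractionRing R) (hf : ∀ i, IsIntegral A (f i)) :
    AdicRing.Admissible R (Ideal.span {t}) ↥(Algebra.adjoin A (Set.range f)) ∧
      Module.Finite A ↥(Algebra.adjoin A (Set.range f)) := by
  have hR := isBase_of_valuationRing R t ht
  have hfin : Module.Finite A ↥(Algebra.adjoin A (Set.range f)) :=
    Algebra.finite_adjoin_of_finite_of_isIntegral (Set.finite_range f)
      (by rintro _ ⟨i, rfl⟩; exact hf i)
  refine ⟨?_, hfin⟩
  apply admissible_of_finite hR (tft_of_tfp hA.1)
  intro x m hx
  have h1 : (t ^ m) • x = 0 := hx _ (Ideal.pow_mem_pow (Ideal.mem_span_singleton_self t) m)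
  have h2 : (t ^ m) • (x : A ⊗[R] FractionRing R) = 0 := by
    have := congrArg (Subtype.val) h1
    simpa using this
  have h3 := eq_zero_of_smul_eq_zero_genFibre A (t ^ m) (pow_ne_zero m ht) _ h2
  exact Subtype.ext h3

end Main52

end Groth.Agent.Helper17.AR
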