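import Mathlib
import Groth.Prelude.Def_W4bk4boschfrg79
import Groth.Agent.Lib.Helper17.AR21

/-!
# The universal property of `A[f_1, …, f_n]` inside the generic fibre (helper17)
-/

set_option autoImplicit false

universe u

open AdicRing TensorProduct

namespace Groth.Agent.Helper17.AR

section Tors

variable {R : Type u} [CommRing R] [IsDomain R] [ValuationRing R] [Ring.KrullDimLE 1 R]
  (t : R) (htu : ¬ IsUnit t)

include htu in
lemma eq_zero_of_smul_eq_zero_of_noPowTorsion {M : Type u} [AddCommGroup M] [Module R M]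
    (hM : NoPowTorsion (Ideal.span {t}) M) (c : R) (hc : c ≠ 0) (x : M) (h : c • x = 0) :
    x = 0 := by
  obtain ⟨e, s, hes⟩ := exists_pow_eq_mul R c t hc htu
  apply hM x e
  intro b hb
  rw [Ideal.span_singleton_pow, Ideal.mem_span_singleton'] at hb
  obtain ⟨w, rfl⟩ := hb
  rw [hes, ← mul_assoc, mul_smul, h, smul_zero]

include htu in
lemma algebraMap_genFibre_injective {A : Type u} [CommRing A] [Algebra R A]
    (hA : NoPowTorsion (Ideal.span {t}) A) :
    Function.Injective (algebraMap A (A ⊗[R] FractionRing R)) := by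
  rw [injective_iff_map_eq_zero]
  intro a ha
  rw [Algebra.TensorProduct.algebraMap_apply, Algebra.algebraMap_self_apply] at ha
  have h1 : TensorProduct.mk R (FractionRing R) A 1 a = 0 := by
    have := congrArg (TensorProduct.comm R A (FractionRing R)) ha
    simpa using this
  obtain ⟨s, hs⟩ := (IsLocalizedModule.eq_zero_iff (nonZeroDivisors R)
    (TensorProduct.mk R (FractionRing R) A 1)).mp h1
  exact eq_zero_of_smul_eq_zero_of_noPowTorsion t htu hA s.1 (nonZeroDivisors.ne_zero s.2) a hs

end Tors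

section UnitArg

open Polynomial in
lemma isUnit_of_integral_rel {A D : Type u} [CommRing A] [CommRing D] (φ : A →+* D)
    (P : Polynomial A) (hP : P.Monic) (cA g : A)
    (hroot : Polynomial.eval g (P.scaleRoots cA) = 0) (γ u : D) (hγ : φ g = γ)
    (hu : φ cA = γ * u) (hnzd : ∀ x : D, γ * x = 0 → x = 0) : IsUnit u := by
  have hnzdpow : ∀ (m : ℕ) (x : D), γ ^ m * x = 0 → x = 0 := by
    intro m
    induction m with
    | zero => intro x hx; simpa using hx
    | succ m ih =>
      intro x hx
      rw [pow_succ, mul_assoc] at hx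
      exact hnzd x (ih _ hx)
  have h1 : Polynomial.eval₂ φ γ (P.scaleRoots cA) = 0 := by
    rw [← hγ, Polynomial.eval₂_at_apply, hroot, map_zero]
  rw [Polynomial.eval₂_eq_sum_range, Polynomial.natDegree_scaleRoots] at h1
  have h2 : ∀ j ∈ Finset.range (P.natDegree + 1),
      φ ((P.scaleRoots cA).coeff j) * γ ^ j =
        γ ^ P.natDegree * (φ (P.coeff j) * u ^ (P.natDegree - j)) := by
    intro j hj
    have hjm : j ≤ P.natDegree := Nat.lt_succ_iff.mp (Finset.mem_range.mp hj)
    rw [Polynomial.coeff_scaleRoots, map_mul, map_pow, hu, mul_pow, ← pow_sub_mul_pow γ hjm]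
    ring
  rw [Finset.sum_congr rfl h2, ← Finset.mul_sum] at h1
  have h3 := hnzdpow _ _ h1
  rw [Finset.sum_range_succ, Nat.sub_self, pow_zero, mul_one, hP.coeff_natDegree, map_one] at h3
  have h4 : ∀ j ∈ Finset.range P.natDegree, φ (P.coeff j) * u ^ (P.natDegree - j) =
      u * (φ (P.coeff j) * u ^ (P.natDegree - j - 1)) := by
    intro j hj
    have hjm : j < P.natDegree := Finset.mem_range.mp hj
    obtain ⟨e, he⟩ : ∃ e, P.natDegree - j = e + 1 := ⟨P.natDegree - j - 1, by omega⟩
    rw [he, Nat.add_sub_cancel, pow_succ]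
    ring
  rw [Finset.sum_congr rfl h4, ← Finset.mul_sum] at h3
  exact IsUnit.of_mul_eq_one (-∑ j ∈ Finset.range P.natDegree,
    φ (P.coeff j) * u ^ (P.natDegree - j - 1)) (by linear_combination (-1 : D) * h3)

end UnitArg

section GF

variable {R : Type u} [CommRing R] (A : Type u) [CommRing A] [Algebra R A]

lemma smul_genFibre_eq (c : R) (z : A ⊗[R] FractionRing R) :
    c • z = algebraMap A (A ⊗[R] FractionRing R) (algebraMap R A c) * z := by
  induction z using TensorProduct.induction_on with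
  | zero => simp
  | tmul a k =>
    rw [TensorProduct.smul_tmul', Algebra.TensorProduct.algebraMap_apply,
      Algebra.TensorProduct.tmul_mul_tmul, one_mul, Algebra.algebraMap_self_apply,
      Algebra.smul_def]
  | add z w hz hw => rw [smul_add, mul_add, hz, hw]

end GF

section Main53

theorem main13353
    (R : Type u) [CommRing R] [IsDomain R] [ValuationRing R] [Ring.KrullDimLE 1 R]
    (t : R) (ht : t ≠ 0) [IsAdicComplete (Ideal.span {t}) R]
    (A : Type u) [CommRing A] [Algebra R A] (hA : AdicRing.Admissible R (Ideal.span {t}) A)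
    (n : ℕ) (f : Fin n → A ⊗[R] FractionRing R) (hf : ∀ i, IsIntegral A (f i))
    (c : R) (hc : c ≠ 0) (g : Fin n → A)
    (hg : ∀ i, algebraMap A (A ⊗[R] FractionRing R) (g i) = c • f i)
    (D : Type u) [CommRing D] [Algebra R D] (hD : AdicRing.Admissible R (Ideal.span {t}) D)
    (φ : A →ₐ[R] D)
    (hgen : (Ideal.span (insert (algebraMap R A c) (Set.range g))).map φ =
          Ideal.span {algebraMap R D c} ∨
      ∃ i, (Ideal.span (insert (algebraMap R A c) (Set.range g))).map φ = Ideal.span {φ (g i)}) :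
    (Ideal.span (insert (algebraMap R A c) (Set.range g))).map φ = Ideal.span {algebraMap R D c} ∧
      ∃! ψ : ↥(Algebra.adjoin A (Set.range f)) →ₐ[R] D,
        ψ.comp (IsScalarTower.toAlgHom R A ↥(Algebra.adjoin A (Set.range f))) = φ := by
  have htu : ¬ IsUnit t := not_isUnit_of_complete t inferInstance
  have hcD : ∀ x : D, algebraMap R D c * x = 0 → x = 0 := by
    intro x hx
    rw [← Algebra.smul_def] at hx
    exact eq_zero_of_smul_eq_zero_of_noPowTorsion t htu hD.2 c hc x hx
  have hinjA := algebraMap_genFibre_injective t htu hA.2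
  have hinjD := algebraMap_genFibre_injective t htu hD.2
  -- Part 1
  have hpart1 : (Ideal.span (insert (algebraMap R A c) (Set.range g))).map φ =
      Ideal.span {algebraMap R D c} := by
    rcases hgen with h | ⟨i, h⟩
    · exact h
    · have hcmem : algebraMap R D c ∈
          (Ideal.span (insert (algebraMap R A c) (Set.range g))).map φ := by
        have h0 : φ (algebraMap R A c) ∈
            (Ideal.span (insert (algebraMap R A c) (Set.range g))).map φ :=
          Ideal.mem_map_of_mem φ (Ideal.subset_span (Set.mem_insert _ _))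
        rwa [AlgHom.commutes] at h0
      rw [h] at hcmem
      obtain ⟨u, hu⟩ := Ideal.mem_span_singleton'.mp hcmem
      have hγnzd : ∀ x : D, φ (g i) * x = 0 → x = 0 := by
        intro x hx
        apply hcD
        rw [← hu, mul_assoc, hx, mul_zero]
      obtain ⟨P, hPm, hPr⟩ := hf i
      have hroot : Polynomial.eval (g i) (P.scaleRoots (algebraMap R A c)) = 0 := by
        apply hinjA
        rw [map_zero, ← Polynomial.eval₂_at_apply, hg i, smul_genFibre_eq]
        exact Polynomial.scaleRoots_eval₂_eq_zero _ hPr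
      have hunit := isUnit_of_integral_rel φ.toRingHom P hPm (algebraMap R A c) (g i) hroot
        (φ (g i)) u rfl (by
          change φ (algebraMap R A c) = _
          rw [AlgHom.commutes, ← hu, mul_comm]) hγnzd
      rw [h, ← hu, mul_comm u]
      exact (Ideal.span_singleton_mul_right_unit hunit _).symm
  refine ⟨hpart1, ?_⟩
  -- Part 2
  have hd : ∀ i, ∃ d : D, φ (g i) = algebraMap R D c * d := by
    intro i
    have h0 : φ (g i) ∈ (Ideal.span (insert (algebraMap R A c) (Set.range g))).map φ :=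
      Ideal.mem_map_of_mem φ (Ideal.subset_span (Set.mem_insert_of_mem _ ⟨i, rfl⟩))
    rw [hpart1] at h0
    obtain ⟨d, hd⟩ := Ideal.mem_span_singleton'.mp h0
    exact ⟨d, by rw [← hd, mul_comm]⟩
  choose d hd using hd
  obtain ⟨Φ, hΦ⟩ : ∃ Φ : A ⊗[R] FractionRing R →ₐ[R] D ⊗[R] FractionRing R,
      ∀ a k, Φ (a ⊗ₜ k) = φ a ⊗ₜ k :=
    ⟨Algebra.TensorProduct.map φ (AlgHom.id R (FractionRing R)), fun a k => by
      rw [Algebra.TensorProduct.map_tmul]; rfl⟩
  have hΦA : ∀ a : A, Φ (algebraMap A (A ⊗[R] FractionRing R) a) =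
      algebraMap D (D ⊗[R] FractionRing R) (φ a) := by
    intro a
    rw [Algebra.TensorProduct.algebraMap_apply, Algebra.TensorProduct.algebraMap_apply,
      Algebra.algebraMap_self_apply, Algebra.algebraMap_self_apply, hΦ]
  have hΦf : ∀ i, Φ (f i) = algebraMap D (D ⊗[R] FractionRing R) (d i) := by
    intro i
    have h1 : c • (Φ (f i) - algebraMap D (D ⊗[R] FractionRing R) (d i)) = 0 := by
      rw [smul_sub, ← map_smul, ← hg i, hΦA, hd i, smul_genFibre_eq D c, ← map_mul, sub_self]
    exact sub_eq_zero.mp (eq_zero_of_smul_eq_zero_genFibre D c hc _ h1)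
  have hrange : ∀ x ∈ Algebra.adjoin A (Set.range f),
      ∃ y : D, algebraMap D (D ⊗[R] FractionRing R) y = Φ x := by
    intro x hx
    induction hx using Algebra.adjoin_induction with
    | mem x hx =>
      obtain ⟨i, rfl⟩ := hx
      exact ⟨d i, (hΦf i).symm⟩
    | algebraMap a => exact ⟨φ a, (hΦA a).symm⟩
    | add x y _ _ hx hy =>
      obtain ⟨x', hx'⟩ := hx
      obtain ⟨y', hy'⟩ := hy
      exact ⟨x' + y', by rw [map_add, map_add, hx', hy']⟩
    | mul x y _ _ hx hy =>
      obtain ⟨x', hx'⟩ := hx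
      obtain ⟨y', hy'⟩ := hy
      exact ⟨x' * y', by rw [map_mul, map_mul, hx', hy']⟩
  choose! ψ₀ hψ₀ using hrange
  -- the algebra homomorphism
  obtain ⟨ψ, hψ⟩ : ∃ ψ : ↥(Algebra.adjoin A (Set.range f)) →ₐ[R] D,
      ∀ x, algebraMap D (D ⊗[R] FractionRing R) (ψ x) = Φ x.1 := by
    refine ⟨{ toFun := fun x => ψ₀ x.1
              map_one' := ?_
              map_mul' := ?_
              map_zero' := ?_
              map_add' := ?_
              commutes' := ?_ }, fun x => hψ₀ x.1 x.2⟩
    · apply hinjD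
      rw [hψ₀ _ (1 : ↥(Algebra.adjoin A (Set.range f))).2, Subalgebra.coe_one, map_one, map_one]
    · intro x y
      apply hinjD
      rw [map_mul, hψ₀ _ x.2, hψ₀ _ y.2, hψ₀ _ (x * y).2, Subalgebra.coe_mul, map_mul]
    · apply hinjD
      rw [hψ₀ _ (0 : ↥(Algebra.adjoin A (Set.range f))).2, Subalgebra.coe_zero, map_zero, map_zero]
    · intro x y
      apply hinjD
      rw [map_add, hψ₀ _ x.2, hψ₀ _ y.2, hψ₀ _ (x + y).2, Subalgebra.coe_add, map_add]
    · intro r
      apply hinjD
      rw [hψ₀ _ (algebraMap R ↥(Algebra.adjoin A (Set.range f)) r).2]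
      change Φ (algebraMap R (A ⊗[R] FractionRing R) r) = _
      rw [AlgHom.commutes, ← IsScalarTower.algebraMap_apply]
  have hψA : ∀ a : A, ψ (algebraMap A ↥(Algebra.adjoin A (Set.range f)) a) = φ a := by
    intro a
    apply hinjD
    rw [hψ]
    exact hΦA a
  refine ⟨ψ, AlgHom.ext hψA, ?_⟩
  intro ψ' hψ'
  have hψ'A : ∀ a : A, ψ' (algebraMap A ↥(Algebra.adjoin A (Set.range f)) a) = φ a := fun a =>
    congrArg (fun h : A →ₐ[R] D => h a) hψ'
  have key : ∀ (x : A ⊗[R] FractionRing R) (hx : x ∈ Algebra.adjoin A (Set.range f)),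
      ψ' ⟨x, hx⟩ = ψ ⟨x, hx⟩ := by
    intro x hx
    induction hx using Algebra.adjoin_induction with
    | mem x hx =>
      obtain ⟨i, rfl⟩ := hx
      have hcf : c • (⟨f i, Algebra.subset_adjoin ⟨i, rfl⟩⟩ : ↥(Algebra.adjoin A (Set.range f))) =
          algebraMap A ↥(Algebra.adjoin A (Set.range f)) (g i) := by
        apply Subtype.ext
        exact (hg i).symm
      have h1 : ∀ χ : ↥(Algebra.adjoin A (Set.range f)) →ₐ[R] D,
          (∀ a, χ (algebraMap A ↥(Algebra.adjoin A (Set.range f)) a) = φ a) →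
          algebraMap R D c * χ ⟨f i, Algebra.subset_adjoin ⟨i, rfl⟩⟩ = φ (g i) := by
        intro χ hχ
        rw [← Algebra.smul_def, ← map_smul, hcf, hχ]
      have h2 := (h1 ψ' hψ'A).trans (h1 ψ hψA).symm
      have h3 : algebraMap R D c * (ψ' ⟨f i, Algebra.subset_adjoin ⟨i, rfl⟩⟩ -
          ψ ⟨f i, Algebra.subset_adjoin ⟨i, rfl⟩⟩) = 0 := by rw [mul_sub, h2, sub_self]
      exact sub_eq_zero.mp (hcD _ h3)
    | algebraMap a => exact (hψ'A a).trans (hψA a).symm
    | add x y hx hy hx' hy' =>
      have e : (⟨x + y, Subalgebra.add_mem _ hx hy⟩ : ↥(Algebra.adjoin A (Set.range f))) =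
          ⟨x, hx⟩ + ⟨y, hy⟩ := rfl
      rw [e, map_add, map_add, hx', hy']
    | mul x y hx hy hx' hy' =>
      have e : (⟨x * y, Subalgebra.mul_mem _ hx hy⟩ : ↥(Algebra.adjoin A (Set.range f))) =
          ⟨x, hx⟩ * ⟨y, hy⟩ := rfl
      rw [e, map_mul, map_mul, hx', hy']
  exact AlgHom.ext fun x => key x.1 x.2

end Main53

end Groth.Agent.Helper17.AR
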