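import Mathlib
import Groth.Agent.Lib.Helper17.AU1

/-!
# Infinitesimal automorphisms of a flat module over a small extension (main statements)
-/

set_option autoImplicit false

universe u

open scoped TensorProduct

namespace Groth.Agent.Helper17.AU

open Groth.Agent.Helper17.DF

variable {C' : Type u} [CommRing C'] (J : Ideal C') {A' : Type u} [CommRing A'] [Algebra C' A']
  {M' : Type u} [AddCommGroup M'] [Module A' M'] [Module C' M'] [IsScalarTower C' A' M']

theorem smul_eq_zero_of_mem (I : Ideal A') (r : A') (hr : r ∈ I)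
    (w : (M' ⧸ (I • (⊤ : Submodule A' M'))) ⊗[C'] ↥J) : r • w = 0 := by
  induction w using TensorProduct.induction_on with
  | zero => simp
  | tmul m₀ j =>
    rw [TensorProduct.smul_tmul']
    have : r • m₀ = 0 := by
      obtain ⟨n, rfl⟩ := Submodule.mkQ_surjective _ m₀
      rw [← map_smul]
      exact (Submodule.Quotient.mk_eq_zero _).mpr (Submodule.smul_mem_smul hr Submodule.mem_top)
    rw [this, TensorProduct.zero_tmul]
  | add x y hx hy => rw [smul_add, hx, hy, add_zero]

theorem part1 [Module.Flat C' M'] (m : Ideal C') (hmJ : ∀ c ∈ m, ∀ j ∈ J, c * j = 0)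
    (hJm : J ≤ m) (σ : M' →ₗ[A'] M')
    (hσ : ∀ x : M', σ x - x ∈ (J.map (algebraMap C' A')) • (⊤ : Submodule A' M')) :
    Function.Bijective σ ∧
      ∃! τ : (M' ⧸ (m.map (algebraMap C' A')) • (⊤ : Submodule A' M')) →ₗ[A']
          ((M' ⧸ (m.map (algebraMap C' A')) • (⊤ : Submodule A' M')) ⊗[C'] ↥J),
        (∀ (x : M') (z : M' ⊗[C'] ↥J),
          TensorProduct.rid C' M' (LinearMap.lTensor M' (Submodule.subtype J) z) = σ x - x →
          LinearMap.rTensor ↥J ((Submodule.mkQ ((m.map (algebraMap C' A')) •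
            (⊤ : Submodule A' M'))).restrictScalars C') z = τ (Submodule.mkQ _ x)) := by
  have hJJ : ∀ j₁ ∈ J, ∀ j₂ ∈ J, j₁ * j₂ = 0 := fun j₁ h₁ j₂ h₂ => hmJ j₁ (hJm h₁) j₂ h₂
  have hinj : Function.Injective (mu J M') := mu_injective J
  choose zf hzf using fun x => range_mu J (σ x - x) (hσ x)
  have hzf_add : ∀ x y, zf (x + y) = zf x + zf y := by
    intro x y
    apply hinj
    rw [map_add, hzf, hzf, hzf, map_add]
    abel
  have hzf_smul : ∀ (a : A') x, zf (a • x) = a • zf x := by
    intro a x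
    apply hinj
    rw [mu_smul_left, hzf, hzf, map_smul, smul_sub]
  have hσC : ∀ (c : C') (n : M'), σ (c • n) = c • σ n := by
    intro c n
    rw [← algebraMap_smul A' c n, map_smul, algebraMap_smul]
  have hδμ : ∀ z, σ (mu J M' z) = mu J M' z := by
    intro z
    induction z using TensorProduct.induction_on with
    | zero => simp
    | tmul n j =>
      rw [mu_tmul, hσC]
      have h1 : σ n = n + mu J M' (zf n) := by rw [hzf]; abel
      rw [h1, smul_add, ← map_smul, smul_J_eq_zero J hJJ (j : C') j.2, map_zero, add_zero]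
    | add x y hx hy => rw [map_add, map_add, hx, hy]
  refine ⟨⟨?_, ?_⟩, ?_⟩
  · rw [injective_iff_map_eq_zero]
    intro x h0
    have hw : mu J M' (zf x) = -x := by rw [hzf, h0, zero_sub]
    have h1 := hδμ (zf x)
    rw [hw, map_neg, h0, neg_zero] at h1
    exact neg_eq_zero.mp h1.symm
  · intro y
    refine ⟨y - mu J M' (zf y), ?_⟩
    rw [map_sub, hδμ, hzf]
    abel
  · let τt : M' →ₗ[A'] ((M' ⧸ (m.map (algebraMap C' A')) • (⊤ : Submodule A' M')) ⊗[C'] ↥J) :=
      { toFun := fun x => LinearMap.rTensor ↥J ((Submodule.mkQ ((m.map (algebraMap C' A')) •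
            (⊤ : Submodule A' M'))).restrictScalars C') (zf x)
        map_add' := by
          intro x y
          rw [hzf_add, map_add]
        map_smul' := by
          intro a x
          rw [hzf_smul, rTensor_mkQ_smul]
          rfl }
    have hker : (m.map (algebraMap C' A')) • (⊤ : Submodule A' M') ≤ LinearMap.ker τt := by
      intro y hy
      rw [LinearMap.mem_ker]
      refine Submodule.smul_induction_on hy ?_ ?_
      · intro r hr n _
        rw [map_smul]
        exact smul_eq_zero_of_mem J _ r hr _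
      · intro x y hx hy
        rw [map_add, hx, hy, add_zero]
    have hprop : ∀ (x : M') (z : M' ⊗[C'] ↥J),
        TensorProduct.rid C' M' (LinearMap.lTensor M' (Submodule.subtype J) z) = σ x - x →
        LinearMap.rTensor ↥J ((Submodule.mkQ ((m.map (algebraMap C' A')) •
          (⊤ : Submodule A' M'))).restrictScalars C') z =
          (Submodule.liftQ _ τt hker) (Submodule.mkQ _ x) := by
      intro x z hz
      have hzz : z = zf x := hinj (by rw [hzf]; exact hz)
      rw [hzz]
      rfl
    refine ⟨Submodule.liftQ _ τt hker, hprop, ?_⟩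
    intro τ' hτ'
    apply LinearMap.ext
    intro m₀
    obtain ⟨x, rfl⟩ := Submodule.mkQ_surjective _ m₀
    rw [← hτ' x (zf x) (hzf x), ← hprop x (zf x) (hzf x)]

theorem part2 [Module.Flat C' M'] (m : Ideal C') (hmJ : ∀ c ∈ m, ∀ j ∈ J, c * j = 0)
    (τ : (M' ⧸ (m.map (algebraMap C' A')) • (⊤ : Submodule A' M')) →ₗ[A']
          ((M' ⧸ (m.map (algebraMap C' A')) • (⊤ : Submodule A' M')) ⊗[C'] ↥J)) :
    ∃ σ : M' →ₗ[A'] M',
      (∀ x : M', σ x - x ∈ (J.map (algebraMap C' A')) • (⊤ : Submodule A' M')) ∧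
      (∀ (x : M') (z : M' ⊗[C'] ↥J),
        TensorProduct.rid C' M' (LinearMap.lTensor M' (Submodule.subtype J) z) = σ x - x →
        LinearMap.rTensor ↥J ((Submodule.mkQ ((m.map (algebraMap C' A')) •
          (⊤ : Submodule A' M'))).restrictScalars C') z = τ (Submodule.mkQ _ x)) := by
  have hinj : Function.Injective (mu J M') := mu_injective J
  have hΘinj := rTensor_mkQ_injective J (A' := A') (M' := M') m hmJ
  have hΘsurj : Function.Surjective (LinearMap.rTensor ↥J
      ((Submodule.mkQ ((m.map (algebraMap C' A')) • (⊤ : Submodule A' M'))).restrictScalars C')) := by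
    apply LinearMap.rTensor_surjective
    intro y
    obtain ⟨x, rfl⟩ := Submodule.mkQ_surjective
      ((m.map (algebraMap C' A')) • (⊤ : Submodule A' M')) y
    exact ⟨x, rfl⟩
  obtain ⟨Θe, hΘe⟩ : ∃ Θe : (M' ⊗[C'] ↥J) ≃ₗ[C']
      ((M' ⧸ (m.map (algebraMap C' A')) • (⊤ : Submodule A' M')) ⊗[C'] ↥J),
      ∀ z, Θe z = LinearMap.rTensor ↥J ((Submodule.mkQ ((m.map (algebraMap C' A')) •
        (⊤ : Submodule A' M'))).restrictScalars C') z :=
    ⟨LinearEquiv.ofBijective _ ⟨hΘinj, hΘsurj⟩, fun z => rfl⟩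
  have hΘe_smul : ∀ (a : A') w, Θe.symm (a • w) = a • Θe.symm w := by
    intro a w
    apply Θe.injective
    rw [Θe.apply_symm_apply, hΘe, rTensor_mkQ_smul, ← hΘe, Θe.apply_symm_apply]
  let σ : M' →ₗ[A'] M' :=
    { toFun := fun x => x + mu J M' (Θe.symm (τ (Submodule.mkQ _ x)))
      map_add' := by
        intro x y
        rw [map_add, map_add, map_add, map_add]
        abel
      map_smul' := by
        intro a x
        rw [map_smul, map_smul, hΘe_smul, mu_smul_left, smul_add]
        rfl }
  have hσ : ∀ x, σ x - x = mu J M' (Θe.symm (τ (Submodule.mkQ _ x))) := by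
    intro x
    show x + mu J M' (Θe.symm (τ (Submodule.mkQ _ x))) - x = _
    rw [add_sub_cancel_left]
  refine ⟨σ, ?_, ?_⟩
  · intro x
    rw [hσ]
    exact mu_mem J _
  · intro x z hz
    have hzz : z = Θe.symm (τ (Submodule.mkQ _ x)) := hinj (by rw [← hσ]; exact hz)
    rw [← hΘe, hzz, Θe.apply_symm_apply]

end Groth.Agent.Helper17.AU
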