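import Mathlib
set_option autoImplicit false
universe u
open CategoryTheory CategoryTheory.Limits AlgebraicGeometry TopologicalSpace Opposite

namespace Groth.Agent.Helper17.BC1

/-- The generic fibre of `f₀` is contained in the irreducible component `C` meeting it. -/
theorem fibre_subset {X₀ Y₀ : Scheme.{u}} [IsIntegral Y₀] (f₀ : X₀ ⟶ Y₀)
    (hirr : IsIrreducible (f₀.base ⁻¹' {genericPoint Y₀}))
    (C : Set X₀) (hC : C ∈ irreducibleComponents (X₀ : Type u))
    (hCη : (C ∩ f₀.base ⁻¹' {genericPoint Y₀}).Nonempty) :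
    f₀.base ⁻¹' {genericPoint Y₀} ⊆ C := by
  obtain ⟨x₁, hx₁C, hx₁F⟩ := hCη
  have hCirr : IsIrreducible C := hC.1
  have hCcl : IsClosed C := isClosed_of_mem_irreducibleComponents C hC
  -- generic point of C
  have hgen : IsGenericPoint hCirr.genericPoint C := by
    have h := hCirr.isGenericPoint_genericPoint_closure
    rwa [hCcl.closure_eq] at h
  set c := hCirr.genericPoint with hc
  have hcx₁ : c ⤳ x₁ := hgen.specializes hx₁C
  have h1 : f₀.base c ⤳ f₀.base x₁ := hcx₁.map f₀.continuous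
  have hx₁η : f₀.base x₁ = genericPoint Y₀ := hx₁F
  rw [hx₁η] at h1
  have h2 : genericPoint Y₀ ⤳ f₀.base c := genericPoint_specializes _
  have hcη : f₀.base c = genericPoint Y₀ := (h1.antisymm h2).eq
  have hcF : c ∈ f₀.base ⁻¹' {genericPoint Y₀} := hcη
  -- C ⊆ closure F
  have hCF : C ⊆ closure (f₀.base ⁻¹' {genericPoint Y₀}) := by
    rw [← hgen.def]
    exact closure_mono (Set.singleton_subset_iff.2 hcF)
  have hmax := hC.2 hirr.closure hCF
  exact subset_closure.trans hmax

theorem main4973 {X₀ Y₀ Y : Scheme.{u}} [IsIntegral Y₀] [IsIntegral Y]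
    (g : Y ⟶ Y₀) [IsDominant g] (f₀ : X₀ ⟶ Y₀) [IsDominant f₀]
    (hirr : IsIrreducible (f₀.base ⁻¹' {genericPoint Y₀}))
    (C : TopologicalSpace.Closeds X₀) (hC : (C : Set X₀) ∈ irreducibleComponents (X₀ : Type u))
    (hCη : ((C : Set X₀) ∩ f₀.base ⁻¹' {genericPoint Y₀}).Nonempty) [IsIntegral (pullback f₀ g)]
    (e₁ : ((Scheme.IdealSheafData.vanishingIdeal C).subschemeι ≫ f₀) ≫ 𝟙 Y₀ =
      (Scheme.IdealSheafData.vanishingIdeal C).subschemeι ≫ f₀) (e₂ : g ≫ 𝟙 Y₀ = 𝟙 Y ≫ g) :
    IsIso (pullback.map ((Scheme.IdealSheafData.vanishingIdeal C).subschemeι ≫ f₀) g f₀ g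
      (Scheme.IdealSheafData.vanishingIdeal C).subschemeι (𝟙 Y) (𝟙 Y₀) e₁ e₂) := by
  obtain ⟨ι, hι⟩ : ∃ ι : (Scheme.IdealSheafData.vanishingIdeal C).subscheme ⟶ X₀,
      ι = (Scheme.IdealSheafData.vanishingIdeal C).subschemeι := ⟨_, rfl⟩
  haveI hιcl : IsClosedImmersion ι := by rw [hι]; infer_instance
  have hrange : Set.range ι = (C : Set X₀) := by
    rw [hι, Scheme.IdealSheafData.range_subschemeι,
      Scheme.IdealSheafData.coe_support_vanishingIdeal]
  have e₁' : (ι ≫ f₀) ≫ 𝟙 Y₀ = ι ≫ f₀ := Category.comp_id _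
  obtain ⟨m, hm⟩ : ∃ m : pullback (ι ≫ f₀) g ⟶ pullback f₀ g,
      m = pullback.map (ι ≫ f₀) g f₀ g ι (𝟙 Y) (𝟙 Y₀) e₁' e₂ := ⟨_, rfl⟩
  haveI hcl : IsClosedImmersion m := by
    rw [hm]
    exact MorphismProperty.pullbackMap (P := @IsClosedImmersion) hιcl
      (inferInstance : IsClosedImmersion (𝟙 Y)) rfl (Category.id_comp g).symm
  suffices hiso : IsIso m by
    rw [hm] at hiso
    subst hι
    exact hiso
  -- the generic point of the pullback lands in C
  have hF := fibre_subset f₀ hirr (C : Set X₀) hC hCη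
  obtain ⟨x₁, hx₁C, hx₁F⟩ := hCη
  have hgη : g.base (genericPoint Y) = genericPoint Y₀ := by
    have h1 : IsGenericPoint (g.base (genericPoint Y)) (closure (g.base '' Set.univ)) :=
      (genericPoint_spec Y).image g.continuous
    rw [Set.image_univ, g.denseRange.closure_range] at h1
    exact h1.eq (genericPoint_spec Y₀)
  have hx₁η : f₀.base x₁ = g.base (genericPoint Y) := by rw [hgη]; exact hx₁F
  obtain ⟨x, hx1, hx2⟩ := Scheme.Pullback.exists_preimage_pullback x₁ (genericPoint Y) hx₁η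
  set ξ := genericPoint ↥(pullback f₀ g : Scheme.{u}) with hξ
  have hξx : ξ ⤳ x := genericPoint_specializes x
  have h1 : (pullback.snd f₀ g).base ξ ⤳ (pullback.snd f₀ g).base x :=
    hξx.map (pullback.snd f₀ g).continuous
  rw [hx2] at h1
  have h2 : genericPoint Y ⤳ (pullback.snd f₀ g).base ξ := genericPoint_specializes _
  have hsnd : (pullback.snd f₀ g).base ξ = genericPoint Y := (h1.antisymm h2).eq
  have hcond : f₀.base ((pullback.fst f₀ g).base ξ) = g.base ((pullback.snd f₀ g).base ξ) := by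
    have := congrArg (fun m => m.base ξ) (pullback.condition (f := f₀) (g := g))
    exact this
  have hfstF : (pullback.fst f₀ g).base ξ ∈ f₀.base ⁻¹' {genericPoint Y₀} := by
    show f₀.base ((pullback.fst f₀ g).base ξ) = genericPoint Y₀
    rw [hcond, hsnd, hgη]
  have hfstC : (pullback.fst f₀ g).base ξ ∈ Set.range ι := by
    rw [hrange]; exact hF hfstF
  -- ξ is in the range of the map
  obtain ⟨z, hz⟩ := hfstC
  obtain ⟨w, hw1, hw2⟩ := Scheme.Pullback.exists_preimage_pullback (f := ι)
    (g := pullback.fst f₀ g) z ξ hz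
  let l : pullback ι (pullback.fst f₀ g) ⟶ pullback (ι ≫ f₀) g :=
    pullback.lift (pullback.fst ι (pullback.fst f₀ g))
      (pullback.snd ι (pullback.fst f₀ g) ≫ pullback.snd f₀ g)
      (by rw [← Category.assoc, pullback.condition, Category.assoc, Category.assoc,
        pullback.condition])
  have hl : l ≫ m =
      pullback.snd ι (pullback.fst f₀ g) := by
    have hl1 : l ≫ pullback.fst (ι ≫ f₀) g = pullback.fst ι (pullback.fst f₀ g) :=
      pullback.lift_fst _ _ _
    have hl2 : l ≫ pullback.snd (ι ≫ f₀) g =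
        pullback.snd ι (pullback.fst f₀ g) ≫ pullback.snd f₀ g := pullback.lift_snd _ _ _
    have hm1 : m ≫
        pullback.fst f₀ g = pullback.fst (ι ≫ f₀) g ≫ ι := by
      rw [hm]; exact pullback.lift_fst _ _ _
    have hm2 : m ≫
        pullback.snd f₀ g = pullback.snd (ι ≫ f₀) g ≫ 𝟙 Y := by
      rw [hm]; exact pullback.lift_snd _ _ _
    apply pullback.hom_ext
    · rw [Category.assoc, hm1, ← Category.assoc, hl1, pullback.condition]
    · rw [Category.assoc, hm2, Category.comp_id, hl2]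
  have hξrange : ξ ∈ Set.range m.base := by
    refine ⟨l.base w, ?_⟩
    have := congrArg (fun m => m.base w) hl
    exact this.trans hw2
  haveI : Surjective m := by
    constructor
    intro y
    have hclosed : IsClosed (Set.range m.base) :=
      m.isClosedEmbedding.isClosed_range
    have hsp : ξ ⤳ y := genericPoint_specializes y
    exact hsp.mem_closed hclosed hξrange
  exact isIso_of_isClosedImmersion_of_surjective m

end Groth.Agent.Helper17.BC1
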