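import Groth.Agent.Lib.Helper23.BMLib2
import Groth.Prelude.Def_BMCoh3
import Mathlib

/-!
# Borel–Moore theories: dimension lemmas, big opens, uniqueness of push-forward data
-/

set_option autoImplicit false
universe u
open AlgebraicGeometry CategoryTheory CategoryTheory.Limits Opposite BMCoh TopologicalSpace
open Topology Order Set

namespace Groth.Agent.Helper17.BM
open Groth.Agent.Helper23.BMLib1 Groth.Agent.Helper23.BMLib2

section topo
variable {T : Type u} [TopologicalSpace T]

theorem exists_nat_dim {S : Type u} [TopologicalSpace S] [Nonempty S]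
    (hfin : topologicalKrullDim S < ⊤) : ∃ n : ℕ, topologicalKrullDim S = n := by
  have hne : Nonempty (IrreducibleCloseds S) := by
    obtain ⟨x⟩ := ‹Nonempty S›
    exact ⟨⟨closure {x}, isIrreducible_singleton.closure, isClosed_closure⟩⟩
  have h0 : (0 : WithBot ℕ∞) ≤ topologicalKrullDim S := Order.krullDim_nonneg
  obtain ⟨m, hm⟩ := WithBot.ne_bot_iff_exists.1
    (ne_of_gt (lt_of_lt_of_le (WithBot.bot_lt_coe 0) h0))
  rw [← hm] at hfin
  have hm' : m ≠ ⊤ := by
    rintro rfl
    exact lt_irrefl _ hfin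
  obtain ⟨k, hk⟩ := ENat.ne_top_iff_exists.1 hm'
  exact ⟨k, by rw [← hm, ← hk]; rfl⟩

theorem natDim_of_eq {S : Type u} [TopologicalSpace S] {n : ℕ}
    (h : topologicalKrullDim S = n) : WeilCoh.natDim S = n := by
  unfold WeilCoh.natDim
  rw [h]
  rfl

theorem natDim_closure_lt (hT : topologicalKrullDim T < ⊤) {x y : T}
    (hxy : x ∈ closure ({y} : Set T)) (hyx : y ∉ closure ({x} : Set T)) :
    WeilCoh.natDim ↥(closure ({x} : Set T)) < WeilCoh.natDim ↥(closure ({y} : Set T)) := by
  have hfx : topologicalKrullDim ↥(closure ({x} : Set T)) < ⊤ :=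
    lt_of_le_of_lt (topologicalKrullDim_subspace_le _ _) hT
  have hfy : topologicalKrullDim ↥(closure ({y} : Set T)) < ⊤ :=
    lt_of_le_of_lt (topologicalKrullDim_subspace_le _ _) hT
  haveI : Nonempty ↥(closure ({x} : Set T)) := ⟨⟨x, subset_closure rfl⟩⟩
  haveI : Nonempty ↥(closure ({y} : Set T)) := ⟨⟨y, subset_closure rfl⟩⟩
  obtain ⟨n, hn⟩ := exists_nat_dim hfx
  obtain ⟨m, hm⟩ := exists_nat_dim hfy
  rw [natDim_of_eq hn, natDim_of_eq hm]
  obtain ⟨l, hl⟩ := Order.le_krullDim_iff.1
    (le_of_eq hn.symm : (n : WithBot ℕ∞) ≤ krullDim (IrreducibleCloseds ↥(closure ({x} : Set T))))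
  let l₁ : LTSeries (IrreducibleCloseds T) :=
    l.map (IrreducibleCloseds.map Subtype.val continuous_subtype_val)
      (IrreducibleCloseds.map_strictMono_of_isInducing IsInducing.subtypeVal)
  have hsub : closure ({x} : Set T) ⊆ closure ({y} : Set T) :=
    closure_minimal (Set.singleton_subset_iff.2 hxy) isClosed_closure
  have hl₁ : ∀ i, (l₁ i : Set T) ⊆ closure ({x} : Set T) := by
    intro i
    change ((IrreducibleCloseds.map Subtype.val continuous_subtype_val (l i) :
      IrreducibleCloseds T) : Set T) ⊆ _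
    rw [IrreducibleCloseds.coe_map]
    apply closure_minimal _ isClosed_closure
    rintro _ ⟨z, -, rfl⟩
    exact z.2
  let Y₀ : IrreducibleCloseds T := ⟨closure {y}, isIrreducible_singleton.closure, isClosed_closure⟩
  have hlast : l₁.last < Y₀ := by
    refine lt_of_le_of_ne ?_ ?_
    · rw [← SetLike.coe_subset_coe]
      exact (hl₁ _).trans hsub
    · intro heq
      apply hyx
      apply hl₁ (Fin.last _)
      have : y ∈ (Y₀ : Set T) := subset_closure rfl
      rw [← heq] at this
      exact this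
  let l₂ : LTSeries (IrreducibleCloseds T) := l₁.snoc Y₀ hlast
  have hl₂ : ∀ i, (l₂ i : Set T) ⊆ Set.range (Subtype.val : ↥(closure ({y} : Set T)) → T) := by
    intro i
    rw [Subtype.range_coe]
    have h1 : l₂ i ≤ l₂.last := l₂.strictMono.monotone (Fin.le_last i)
    have h2 : l₂.last = Y₀ := RelSeries.last_snoc _ _ _
    rw [h2] at h1
    exact SetLike.coe_subset_coe.2 h1
  have key := le_topologicalKrullDim_of_chain (f := (Subtype.val : ↥(closure ({y} : Set T)) → T))
    IsInducing.subtypeVal l₂ hl₂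
  have hlen : l₂.length = n + 1 := by
    change l₁.length + 1 = n + 1
    change l.length + 1 = n + 1
    rw [hl]
  rw [hlen, hm] at key
  have : ((n + 1 : ℕ) : ℕ∞) ≤ (m : ℕ∞) := WithBot.coe_le_coe.1 key
  have : n + 1 ≤ m := by exact_mod_cast this
  omega

end topo

section objs
variable {V : ObjectProperty Scheme.{u}} [IsConstructible V]

theorem pdim_mono (X : Obj V) {x y : X.scheme} (h : x ∈ closure ({y} : Set X.scheme)) :
    WeilCoh.pdim X.scheme x ≤ WeilCoh.pdim X.scheme y := by
  unfold WeilCoh.pdim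
  have hsub : closure ({x} : Set X.scheme) ⊆ closure ({y} : Set X.scheme) :=
    closure_minimal (Set.singleton_subset_iff.2 h) isClosed_closure
  exact natDim_mono (IsEmbedding.inclusion hsub).isInducing.topologicalKrullDim_le
    (lt_of_le_of_lt (topologicalKrullDim_subspace_le _ _) (finDim_obj X))

theorem pdim_lt (X : Obj V) {x y : X.scheme} (h : x ∈ closure ({y} : Set X.scheme))
    (h' : y ∉ closure ({x} : Set X.scheme)) :
    WeilCoh.pdim X.scheme x < WeilCoh.pdim X.scheme y :=
  natDim_closure_lt (finDim_obj X) h h'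

theorem codim_lt (X : Obj V) {x y : X.scheme} (h : x ∈ closure ({y} : Set X.scheme))
    (h' : y ∉ closure ({x} : Set X.scheme)) :
    WeilCoh.codim X.scheme y < WeilCoh.codim X.scheme x := by
  have h1 := pdim_lt X h h'
  have h2 := pdim_le_dim X y
  unfold WeilCoh.codim
  omega

theorem codim_mono (X : Obj V) {x y : X.scheme} (h : x ∈ closure ({y} : Set X.scheme)) :
    WeilCoh.codim X.scheme y ≤ WeilCoh.codim X.scheme x := by
  have h1 := pdim_mono X h
  unfold WeilCoh.codim
  omega

theorem eq_of_mem_closure_of_mem_closure (X : Obj V) {x y : X.scheme}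
    (h : x ∈ closure ({y} : Set X.scheme)) (h' : y ∈ closure ({x} : Set X.scheme)) : x = y :=
  ((specializes_iff_mem_closure.2 h').antisymm (specializes_iff_mem_closure.2 h)).eq

theorem codim_lt_of_ne (X : Obj V) {x y : X.scheme} (h : x ∈ closure ({y} : Set X.scheme))
    (hne : x ≠ y) : WeilCoh.codim X.scheme y < WeilCoh.codim X.scheme x :=
  codim_lt X h (fun h' => hne (eq_of_mem_closure_of_mem_closure X h h'))

/-- an open containing the points of codimension zero has the dimension of the whole -/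
theorem dim_eq_of_containsF0 (X : Obj V) (U : X.scheme.Opens) (hU : ContainsFj X 0 U) :
    WeilCoh.dim (U : Scheme.{u}) = WeilCoh.dim X.scheme := by
  rcases isEmpty_or_nonempty X.scheme with hemp | hne
  · have : U = ⊤ := by
      ext y
      exact isEmptyElim y
    rw [this]
    exact dim_top _
  · obtain ⟨η, o, -, -, -, hdim⟩ := exists_generic_top X.scheme (finDim_obj X)
    have hp : WeilCoh.pdim X.scheme η = WeilCoh.dim X.scheme := by
      unfold WeilCoh.pdim WeilCoh.dim
      exact natDim_congr hdim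
    have hηU : η ∈ U := hU η (by unfold WeilCoh.codim; omega)
    apply le_antisymm
    · exact natDim_mono (topologicalKrullDim_subspace_le _ _) (finDim_obj X)
    · let W' : (X.ptSub η).scheme.Opens := (X.ptSubι η) ⁻¹ᵁ U
      have hne' : (W' : Set (X.ptSub η).scheme).Nonempty := by
        refine ⟨ptGen X η, ?_⟩
        change (X.ptSubι η) (ptGen X η) ∈ U
        rw [ptSubι_ptGen]
        exact hηU
      have h1 : WeilCoh.dim (W' : Scheme.{u}) = WeilCoh.dim (X.ptSub η).scheme :=
        IsConstructible.dim_open (X.ptSub η).mem inferInstance W' hne'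
      have h2 : WeilCoh.dim (W' : Scheme.{u}) ≤ WeilCoh.dim (U : Scheme.{u}) :=
        dim_le_of_closedImmersion ((X.ptSubι η) ∣_ U)
          (lt_of_le_of_lt (topologicalKrullDim_subspace_le _ _) (finDim_obj X))
      rw [← hp, ← dim_ptSub, ← h1]
      exact h2

theorem dim_eq_of_containsFj (X : Obj V) (j : ℕ) (U : X.scheme.Opens) (hU : ContainsFj X j U) :
    WeilCoh.dim (U : Scheme.{u}) = WeilCoh.dim X.scheme :=
  dim_eq_of_containsF0 X U (containsFj_mono X (Nat.zero_le j) U hU)

/-- build an index from an open containing `F_j X` -/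
abbrev mkIdx (X : Obj V) (j : ℕ) (U : X.scheme.Opens) (hU : ContainsFj X j U) :
    Idx X (ContainsFj X j) := ⟨U, hU, dim_eq_of_containsFj X j U hU⟩

end objs

section push
variable {V : ObjectProperty Scheme.{u}} [IsConstructible V] {R : Type u} [CommRing R]
  {A : Coefs R}

theorem isClosedImmersion_resLE {Y X : Scheme.{u}} (g : Y ⟶ X) [IsClosedImmersion g]
    (U : X.Opens) (W : Y.Opens) (h : W = g ⁻¹ᵁ U) :
    IsClosedImmersion (g.resLE U W (le_of_eq h)) := by
  subst h
  have : g.resLE U (g ⁻¹ᵁ U) (le_of_eq rfl) = g ∣_ U := by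
    simp [Scheme.Hom.resLE]
  rw [this]
  infer_instance

/-- the big open attached to an open `W` of the reduced closure of `x` -/
def bigOpen (X : Obj V) (x : X.scheme) (W : (X.ptSub x).scheme.Opens) : X.scheme.Opens :=
  ⟨((X.ptSubι x) '' ((W : Set (X.ptSub x).scheme)ᶜ))ᶜ,
    ((X.ptSubι x).isClosedEmbedding.isClosedMap _ W.isOpen.isClosed_compl).isOpen_compl⟩

theorem mem_bigOpen (X : Obj V) (x : X.scheme) (W : (X.ptSub x).scheme.Opens) (y : X.scheme) :
    y ∈ bigOpen X x W ↔ ∀ z : (X.ptSub x).scheme, (X.ptSubι x) z = y → z ∈ W := by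
  change y ∈ ((X.ptSubι x) '' ((W : Set (X.ptSub x).scheme)ᶜ))ᶜ ↔ _
  rw [Set.mem_compl_iff, Set.mem_image]
  constructor
  · intro h z hz
    by_contra hzW
    exact h ⟨z, hzW, hz⟩
  · rintro h ⟨z, hzW, hz⟩
    exact hzW (h z hz)

theorem preimage_bigOpen (X : Obj V) (x : X.scheme) (W : (X.ptSub x).scheme.Opens) :
    (X.ptSubι x) ⁻¹ᵁ (bigOpen X x W) = W := by
  ext z
  change (X.ptSubι x) z ∈ bigOpen X x W ↔ z ∈ W
  rw [mem_bigOpen]
  constructor
  · intro h
    exact h z rfl
  · intro hz z' hz'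
    have : z' = z := (X.ptSubι x).isClosedEmbedding.injective hz'
    rw [this]
    exact hz

theorem containsFj_bigOpen (X : Obj V) (j : ℕ) (x : X.cdPt j) (W : ptIdx X x.1) :
    ContainsFj X j (bigOpen X x.1 W.1) := by
  intro y hy
  rw [mem_bigOpen]
  intro z hz
  by_contra hzW
  have hycl : y ∈ closure ({x.1} : Set X.scheme) := by
    rw [← range_ptSubι, ← hz]
    exact ⟨z, rfl⟩
  by_cases hyx : y = x.1
  · have : z = ptGen X x.1 := by
      apply (X.ptSubι x.1).isClosedEmbedding.injective
      rw [hz, ptSubι_ptGen, hyx]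
    exact hzW (this ▸ ptGen_mem_of_nonempty X x.1 W.1 W.2.1)
  · have := codim_lt_of_ne X hycl hyx
    rw [x.2] at this
    omega

/-- the closed immersion of `W` into its big open -/
noncomputable def toBig (X : Obj V) (x : X.scheme) (W : (X.ptSub x).scheme.Opens) :
    ((X.ptSub x).res W).scheme ⟶ (X.res (bigOpen X x W)).scheme :=
  (X.ptSubι x).resLE (bigOpen X x W) W (le_of_eq (preimage_bigOpen X x W).symm)

instance (X : Obj V) (x : X.scheme) (W : (X.ptSub x).scheme.Opens) :
    IsClosedImmersion (toBig X x W) :=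
  isClosedImmersion_resLE (X.ptSubι x) _ _ (preimage_bigOpen X x W).symm

theorem toBig_ι (X : Obj V) (x : X.scheme) (W : (X.ptSub x).scheme.Opens) :
    toBig X x W ≫ (bigOpen X x W).ι = W.ι ≫ X.ptSubι x :=
  Scheme.Hom.resLE_comp_ι _ _

theorem relCodim_pt (X : Obj V) (j : ℕ) (x : X.cdPt j) (W : ptIdx X x.1)
    (U : X.scheme.Opens) (hU : WeilCoh.dim (U : Scheme.{u}) = WeilCoh.dim X.scheme) :
    relCodim ((X.ptSub x.1).res W.1).scheme (X.res U).scheme = (j : ℤ) := by
  unfold relCodim
  change ((WeilCoh.dim (U : Scheme.{u}) : ℕ) : ℤ) - ((WeilCoh.dim (W.1 : Scheme.{u}) : ℕ) : ℤ) = j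
  rw [hU, W.2.2, dim_ptSub]
  have h1 := x.2
  have h2 := pdim_le_dim X x.1
  unfold WeilCoh.codim at h1
  omega

/-- the components `(T.ptι W).app M` are jointly epimorphic -/
theorem ptGp_hom_ext (T : PreTheory V R A) (X : Obj V) (x : X.scheme) (M : A.Cat) (i n : ℤ)
    {N : ModuleCat.{u} R} (a b : T.ptGp X x M i n ⟶ N)
    (h : ∀ W : ptIdx X x, (T.ptι X x i n W).app M ≫ a = (T.ptι X x i n W).app M ≫ b) : a = b := by
  let F := (idxDiag (X.ptSub x) (fun U => (U : Set (X.ptSub x).scheme).Nonempty)).op ⋙ T.H i n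
  have hD : IsColimit (((evaluation _ _).obj M).mapCocone (colimit.cocone F)) :=
    isColimitOfPreserves ((evaluation _ _).obj M) (colimit.isColimit F)
  apply hD.hom_ext
  intro W
  exact h W.unop

theorem main15931 (T : PreTheory V R A) (X : Obj V) (j : ℕ) : Subsingleton (T.PushData X j) := by
  constructor
  intro P P'
  have key : P.cpt = P'.cpt := by
    funext x M i n i' n' hi hn
    apply ptGp_hom_ext
    intro W
    let U : Idx X (ContainsFj X j) := mkIdx X j (bigOpen X x.1 W.1) (containsFj_bigOpen X j x W)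
    have hrc := relCodim_pt X j x W U.1 U.2.2
    have h1 := P.cpt_spec x M i n i' n' hi hn U W (toBig X x.1 W.1) (toBig_ι X x.1 W.1)
      (by rw [hrc]; exact hi) (by rw [hrc]; exact hn)
    have h2 := P'.cpt_spec x M i n i' n' hi hn U W (toBig X x.1 W.1) (toBig_ι X x.1 W.1)
      (by rw [hrc]; exact hi) (by rw [hrc]; exact hn)
    rw [h1, h2]
  cases P
  cases P'
  simp only at key
  subst key
  rfl

end push

end Groth.Agent.Helper17.BM
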