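import Groth.Agent.Lib.Helper17.BM9

/-!
# Borel–Moore theories: the groups of `F_0X` of a reduced object
-/

set_option autoImplicit false
universe u
open AlgebraicGeometry CategoryTheory CategoryTheory.Limits Opposite BMCoh TopologicalSpace
open Topology Order Set

namespace Groth.Agent.Helper17.BM
open Groth.Agent.Helper23.BMLib1 Groth.Agent.Helper23.BMLib2

section level0
variable {V : ObjectProperty Scheme.{u}} [IsConstructible V] {R : Type u} [CommRing R]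
  {A : Coefs R}

theorem tot_eq_sum (T : PreTheory V R A) (X : Obj V) (j : ℕ) (P : T.PushData X j)
    [Fintype (X.cdPt j)] (M : A.Cat) (i n i' n' : ℤ) (hi : i' = i + 2 * (j : ℤ))
    (hn : n' = n + (j : ℤ)) (ξ : T.ptSum X j M i n) :
    (P.tot M i n i' n' hi hn).hom ξ =
      ∑ x : X.cdPt j, (P.cpt x M i n i' n' hi hn).hom (ξ x) := by
  classical
  conv_lhs => rw [← DirectSum.sum_univ_of ξ]
  rw [map_sum]
  refine Finset.sum_congr rfl (fun x _ => ?_)
  have h1 := PreTheory.PushData.tot_lof P M i n i' n' hi hn x (ξ x)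
  rw [DirectSum.lof_eq_of] at h1
  exact h1

theorem piece_subset_closure (X : Obj V) (U : X.scheme.Opens) (η : X.scheme)
    (hη : WeilCoh.codim X.scheme η = 0) :
    ((piece X U η : X.scheme.Opens) : Set X.scheme) ⊆ closure ({η} : Set X.scheme) :=
  fun y hy => pureOpen_subset_closure X η hη y hy.2

/-- the push-forward datum at a point of codimension 0, computed on a piece -/
theorem cpt_piece (T : PreTheory V R A) (X : Obj V) [IsReduced X.scheme] (P : T.PushData X 0)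
    (M : A.Cat) (i n : ℤ) (hi : i = i + 2 * ((0 : ℕ) : ℤ)) (hn : n = n + ((0 : ℕ) : ℤ))
    (U : X.scheme.Opens) (hU : ContainsFj X 0 U) (hUp : U ≤ pureLocus X) (η : X.scheme)
    (hη : WeilCoh.codim X.scheme η = 0) (hηU : η ∈ U)
    (δ : T.gp (X.res (piece X U η)) M i n) :
    ((T.fjι X 0 i n (mkIdx X 0 U hU)).app M).hom
      ((T.push (pieceHom X U hUp η hη hηU (dim_eq_of_containsFj X 0 U hU)).hom M i n i n
        (hi_of_hom (pieceHom X U hUp η hη hηU (dim_eq_of_containsFj X 0 U hU)) i)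
        (hn_of_hom (pieceHom X U hUp η hη hηU (dim_eq_of_containsFj X 0 U hU)) n)).hom δ) =
    (P.cpt ⟨η, hη⟩ M i n i n hi hn).hom
      (((T.ptι X η i n (ptIdxOf X η (piece X U η) ⟨hηU, self_mem_pureOpen X η⟩)).app M).hom
        ((T.pull (eW X η (piece X U η) (piece_subset_closure X U η hη)) M i n).hom δ)) := by
  have hdU := dim_eq_of_containsFj X 0 U hU
  have hcl := piece_subset_closure X U η hη
  let W : ptIdx X η := ptIdxOf X η (piece X U η) ⟨hηU, self_mem_pureOpen X η⟩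
  let e := eW X η (piece X U η) hcl
  let g := pieceHom X U hUp η hη hηU hdU
  haveI : IsClosedImmersion e.hom :=
    inferInstanceAs (IsClosedImmersion ((X.ptSubι η) ∣_ (piece X U η)))
  haveI : IsClosedImmersion (e.hom ≫ g.hom) := inferInstance
  have hcomm : (e.hom ≫ g.hom) ≫ U.ι = W.1.ι ≫ X.ptSubι η := by
    have hle : piece X U η ≤ U := inf_le_left
    change ((X.ptSubι η) ∣_ (piece X U η) ≫ X.scheme.homOfLE hle) ≫ U.ι = _
    rw [Category.assoc, Scheme.homOfLE_ι, morphismRestrict_ι]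
  have hrc : relCodim ((X.ptSub η).res W.1).scheme (X.res U).scheme = 0 :=
    relCodim_eq_zero' (e ≫ g)
  have spec := P.cpt_spec ⟨η, hη⟩ M i n i n hi hn (mkIdx X 0 U hU) W (e.hom ≫ g.hom) hcomm
    (by rw [hrc]; ring) (by rw [hrc]; ring)
  have e1 := congrArg (fun t => t.hom ((T.pull e M i n).hom δ)) spec
  simp only [ModuleCat.hom_comp, LinearMap.comp_apply] at e1
  refine Eq.trans ?_ e1.symm
  congr 1
  have hpc := T.push_comp e.hom g.hom M i n i n i n (hi_of_hom e i) (hn_of_hom e n)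
    (hi_of_hom g i) (hn_of_hom g n) (by rw [hrc]; ring) (by rw [hrc]; ring)
  have e2 := congrArg (fun t => t.hom ((T.pull e M i n).hom δ)) hpc
  simp only [ModuleCat.hom_comp, LinearMap.comp_apply] at e2
  rw [← e2, pull_push_iso T e (eWinv X η (piece X U η) hcl) (eWinv_eW X η (piece X U η) hcl)
    M i n _ _ δ]

theorem surj15930 (T : PreTheory V R A) (X : Obj V) [IsReduced X.scheme] (P : T.PushData X 0)
    (M : A.Cat) (i n : ℤ) (hi : i = i + 2 * ((0 : ℕ) : ℤ)) (hn : n = n + ((0 : ℕ) : ℤ))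
    (y : T.fjGp X 0 M i n) : y ∈ LinearMap.range (P.tot M i n i n hi hn).hom := by
  classical
  obtain ⟨U₀, β₀, rfl⟩ := ocolim_exists_rep T X (ContainsFj X 0) i n M (fj_directed X 0) y
  have hU : ContainsFj X 0 (U₀.1 ⊓ pureLocus X) := fun y hy =>
    ⟨U₀.2.1 y hy, containsF0_pureLocus X y hy⟩
  have hUp : U₀.1 ⊓ pureLocus X ≤ pureLocus X := inf_le_right
  have hdU := dim_eq_of_containsFj X 0 (U₀.1 ⊓ pureLocus X) hU
  rw [ocolimι_res T X (ContainsFj X 0) i n M (U' := mkIdx X 0 (U₀.1 ⊓ pureLocus X) hU) (U := U₀)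
    inf_le_left β₀]
  generalize (T.pull (idxRes X (ContainsFj X 0) (U' := mkIdx X 0 (U₀.1 ⊓ pureLocus X) hU)
    (U := U₀) inf_le_left) M i n).hom β₀ = β
  have hfin : {η : X.scheme | WeilCoh.codim X.scheme η = 0 ∧ η ∈ U₀.1 ⊓ pureLocus X}.Finite :=
    (finite_codim_zero X).subset (fun η h => h.1)
  rw [additivity T X M i n (U₀.1 ⊓ pureLocus X) hdU hUp β hfin, map_sum]
  refine Submodule.sum_mem _ (fun η hη => ?_)
  obtain ⟨hη1, hη2⟩ := (Set.Finite.mem_toFinset hfin).1 hη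
  rw [pieceTerm_pos T X M i n (U₀.1 ⊓ pureLocus X) hdU hUp β η hη1 hη2]
  refine ⟨DirectSum.lof R (X.cdPt 0) (fun y : X.cdPt 0 => T.ptGp X y.1 M i n) ⟨η, hη1⟩
    (((T.ptι X η i n (ptIdxOf X η (piece X (U₀.1 ⊓ pureLocus X) η)
      ⟨hη2, self_mem_pureOpen X η⟩)).app M).hom
      ((T.pull (eW X η (piece X (U₀.1 ⊓ pureLocus X) η)
        (piece_subset_closure X (U₀.1 ⊓ pureLocus X) η hη1)) M i n).hom
        ((T.pull (pieceHom X (U₀.1 ⊓ pureLocus X) hUp η hη1 hη2 hdU) M i n).hom β))), ?_⟩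
  rw [PreTheory.PushData.tot_lof]
  exact (cpt_piece T X P M i n hi hn (U₀.1 ⊓ pureLocus X) hU hUp η hη1 hη2 _).symm

end level0

section level0inj
variable {V : ObjectProperty Scheme.{u}} [IsConstructible V] {R : Type u} [CommRing R]
  {A : Coefs R}

theorem inj15930 (T : PreTheory V R A) (X : Obj V) [IsReduced X.scheme] (P : T.PushData X 0)
    (M : A.Cat) (i n : ℤ) (hi : i = i + 2 * ((0 : ℕ) : ℤ)) (hn : n = n + ((0 : ℕ) : ℤ))
    (ξ : T.ptSum X 0 M i n) (hξ : (P.tot M i n i n hi hn).hom ξ = 0) : ξ = 0 := by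
  classical
  haveI : Finite (X.cdPt 0) := (finite_codim_zero X).to_subtype
  haveI : Fintype (X.cdPt 0) := Fintype.ofFinite _
  -- representatives
  have rep : ∀ x : X.cdPt 0, ∃ (W : ptIdx X x.1) (γ : T.gp ((X.ptSub x.1).res W.1) M i n),
      ((T.ptι X x.1 i n W).app M).hom γ = ξ x := fun x =>
    ocolim_exists_rep T (X.ptSub x.1) (fun U => (U : Set (X.ptSub x.1).scheme).Nonempty) i n M
      (idx_directed X x.1) (ξ x)
  choose Wf γf hrep using rep
  -- a common open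
  let U : X.scheme.Opens :=
    ⟨(pureLocus X : Set X.scheme) ∩
      (⋃ x : X.cdPt 0, (X.ptSubι x.1) '' (((Wf x).1 : Set (X.ptSub x.1).scheme)ᶜ))ᶜ,
      (pureLocus X).isOpen.inter (isClosed_iUnion_of_finite (fun x : X.cdPt 0 =>
        (X.ptSubι x.1).isClosedEmbedding.isClosedMap _
          (Wf x).1.isOpen.isClosed_compl)).isOpen_compl⟩
  have hmemU : ∀ y : X.scheme, y ∈ U ↔
      y ∈ pureLocus X ∧ ∀ x : X.cdPt 0, y ∈ bigOpen X x.1 (Wf x).1 := by
    intro y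
    change y ∈ (pureLocus X : Set X.scheme) ∩
      (⋃ x : X.cdPt 0, (X.ptSubι x.1) '' (((Wf x).1 : Set (X.ptSub x.1).scheme)ᶜ))ᶜ ↔ _
    rw [Set.mem_inter_iff, Set.mem_compl_iff, Set.mem_iUnion, not_exists]
    rfl
  have hUp : U ≤ pureLocus X := fun y hy => ((hmemU y).1 hy).1
  have hU : ContainsFj X 0 U := fun y hy =>
    (hmemU y).2 ⟨containsF0_pureLocus X y hy, fun x => containsFj_bigOpen X 0 x (Wf x) y hy⟩
  have hdU := dim_eq_of_containsFj X 0 U hU
  have hxU : ∀ x : X.cdPt 0, x.1 ∈ U := fun x => hU x.1 (le_of_eq x.2)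
  have hW'le : ∀ x : X.cdPt 0,
      (ptIdxOf X x.1 (piece X U x.1) ⟨hxU x, self_mem_pureOpen X x.1⟩).1 ≤ (Wf x).1 := by
    intro x z hz
    have h1 : (X.ptSubι x.1) z ∈ U := hz.1
    have h2 := ((hmemU _).1 h1).2 x
    rw [mem_bigOpen] at h2
    exact h2 z rfl
  -- the restricted representatives
  have hγ' : ∀ x : X.cdPt 0, ((T.ptι X x.1 i n
      (ptIdxOf X x.1 (piece X U x.1) ⟨hxU x, self_mem_pureOpen X x.1⟩)).app M).hom
      ((T.pull (idxRes (X.ptSub x.1) (fun U => (U : Set (X.ptSub x.1).scheme).Nonempty)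
        (U' := ptIdxOf X x.1 (piece X U x.1) ⟨hxU x, self_mem_pureOpen X x.1⟩) (U := Wf x)
        (hW'le x)) M i n).hom (γf x)) = ξ x := fun x =>
    (ocolimι_res T (X.ptSub x.1) (fun U => (U : Set (X.ptSub x.1).scheme).Nonempty) i n M
      (hW'le x) (γf x)).symm.trans (hrep x)
  haveI : ∀ x : X.cdPt 0, IsClosedImmersion
      (eW X x.1 (piece X U x.1) (piece_subset_closure X U x.1 x.2)).hom := fun x =>
    inferInstanceAs (IsClosedImmersion ((X.ptSubι x.1) ∣_ (piece X U x.1)))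
  -- classes on the pieces
  let δ : ∀ x : X.cdPt 0, T.gp (X.res (piece X U x.1)) M i n := fun x =>
    (T.push (eW X x.1 (piece X U x.1) (piece_subset_closure X U x.1 x.2)).hom M i n i n
      (hi_of_hom (eW X x.1 (piece X U x.1) (piece_subset_closure X U x.1 x.2)) i)
      (hn_of_hom (eW X x.1 (piece X U x.1) (piece_subset_closure X U x.1 x.2)) n)).hom
      ((T.pull (idxRes (X.ptSub x.1) (fun U => (U : Set (X.ptSub x.1).scheme).Nonempty)
        (U' := ptIdxOf X x.1 (piece X U x.1) ⟨hxU x, self_mem_pureOpen X x.1⟩) (U := Wf x)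
        (hW'le x)) M i n).hom (γf x))
  have hδ : ∀ x : X.cdPt 0,
      (T.pull (eW X x.1 (piece X U x.1) (piece_subset_closure X U x.1 x.2)) M i n).hom (δ x) =
      (T.pull (idxRes (X.ptSub x.1) (fun U => (U : Set (X.ptSub x.1).scheme).Nonempty)
        (U' := ptIdxOf X x.1 (piece X U x.1) ⟨hxU x, self_mem_pureOpen X x.1⟩) (U := Wf x)
        (hW'le x)) M i n).hom (γf x) := fun x =>
    push_pull_self' T (eW X x.1 (piece X U x.1) (piece_subset_closure X U x.1 x.2)) M i n _ _ _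
  let τ : X.cdPt 0 → T.gp (X.res U) M i n := fun x =>
    (T.push (pieceHom X U hUp x.1 x.2 (hxU x) hdU).hom M i n i n
      (hi_of_hom (pieceHom X U hUp x.1 x.2 (hxU x) hdU) i)
      (hn_of_hom (pieceHom X U hUp x.1 x.2 (hxU x) hdU) n)).hom (δ x)
  have hcpt : ∀ x : X.cdPt 0, (P.cpt x M i n i n hi hn).hom (ξ x) =
      ((T.fjι X 0 i n (mkIdx X 0 U hU)).app M).hom (τ x) := by
    intro x
    rw [← hγ' x, ← hδ x]
    exact (cpt_piece T X P M i n hi hn U hU hUp x.1 x.2 (hxU x) (δ x)).symm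
  have htot : (P.tot M i n i n hi hn).hom ξ =
      ((T.fjι X 0 i n (mkIdx X 0 U hU)).app M).hom (∑ x : X.cdPt 0, τ x) := by
    rw [tot_eq_sum, map_sum]
    exact Finset.sum_congr rfl (fun x _ => hcpt x)
  rw [htot] at hξ
  obtain ⟨U', hle, hz⟩ := ocolim_eq_zero T X (ContainsFj X 0) i n M (fj_directed X 0)
    (mkIdx X 0 U hU) _ hξ
  -- componentwise vanishing
  refine DFinsupp.ext (fun x₀ => ?_)
  have hx₀U' : x₀.1 ∈ U'.1 := U'.2.1 x₀.1 (le_of_eq x₀.2)
  have hU'p : U'.1 ≤ pureLocus X := hle.trans hUp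
  have hle₁ : piece X U'.1 x₀.1 ≤ piece X U x₀.1 := fun y hy => ⟨hle hy.1, hy.2⟩
  have hd₁ : WeilCoh.dim (piece X U'.1 x₀.1 : Scheme.{u}) =
      WeilCoh.dim (piece X U x₀.1 : Scheme.{u}) :=
    (dim_piece X U'.1 x₀.1 x₀.2 hx₀U').trans (dim_piece X U x₀.1 x₀.2 (hxU x₀)).symm
  -- restrict the relation to the piece of `x₀` in `U'`
  have hle₂ : piece X U'.1 x₀.1 ≤ U := inf_le_left.trans hle
  have hd₂ : WeilCoh.dim (piece X U'.1 x₀.1 : Scheme.{u}) = WeilCoh.dim (U : Scheme.{u}) :=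
    (dim_piece X U'.1 x₀.1 x₀.2 hx₀U').trans hdU.symm
  have hz₁ : (T.pull (X.resLE hle₂ hd₂) M i n).hom (∑ x : X.cdPt 0, τ x) = 0 := by
    have e := pull_comp_apply' T (pieceHom X U'.1 hU'p x₀.1 x₀.2 hx₀U' U'.2.2)
      (idxRes X (ContainsFj X 0) (U' := U') (U := mkIdx X 0 U hU) hle) (X.resLE hle₂ hd₂)
      (resLE_comp X _ _ _ _) M i n (∑ x : X.cdPt 0, τ x)
    rw [← e, hz, map_zero]
  have hz₂ : (T.pull (X.resLE hle₁ hd₁) M i n).hom (δ x₀) = 0 := by
    have e := pull_comp_apply' T (X.resLE hle₁ hd₁) (pieceHom X U hUp x₀.1 x₀.2 (hxU x₀) hdU)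
      (X.resLE hle₂ hd₂) (resLE_comp X _ _ _ _) M i n (∑ x : X.cdPt 0, τ x)
    rw [← e, map_sum, Finset.sum_eq_single x₀] at hz₁
    · rw [push_pull_self' T (pieceHom X U hUp x₀.1 x₀.2 (hxU x₀) hdU) M i n _ _ (δ x₀)] at hz₁
      exact hz₁
    · intro x _ hne
      have hne' : x.1 ≠ x₀.1 := fun h => hne (Subtype.ext h)
      exact pull_push_piece_ne T X M i n U hdU hUp x.1 x₀.1 x.2 x₀.2 (hxU x) (hxU x₀) hne'
        _ _ (δ x)
    · intro h
      exact absurd (Finset.mem_univ x₀) h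
  -- back to the point
  have hpre : (X.ptSubι x₀.1) ⁻¹ᵁ (piece X U'.1 x₀.1) ≤ (X.ptSubι x₀.1) ⁻¹ᵁ (piece X U x₀.1) :=
    fun _ hx => hle₁ hx
  have hd' : WeilCoh.dim (((X.ptSubι x₀.1) ⁻¹ᵁ (piece X U'.1 x₀.1) :
      (X.ptSub x₀.1).scheme.Opens) : Scheme.{u}) =
      WeilCoh.dim (((X.ptSubι x₀.1) ⁻¹ᵁ (piece X U x₀.1) :
        (X.ptSub x₀.1).scheme.Opens) : Scheme.{u}) :=
    (ptIdxOf X x₀.1 (piece X U'.1 x₀.1) ⟨hx₀U', self_mem_pureOpen X x₀.1⟩).2.2.trans
      (ptIdxOf X x₀.1 (piece X U x₀.1) ⟨hxU x₀, self_mem_pureOpen X x₀.1⟩).2.2.symm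
  have hnat := eW_natural X x₀.1 (piece X U x₀.1) (piece X U'.1 x₀.1) hle₁
    (piece_subset_closure X U x₀.1 x₀.2) hd₁ hd'
  rw [← hγ' x₀, ← hδ x₀]
  have e3 := ocolimι_res T (X.ptSub x₀.1) (fun U => (U : Set (X.ptSub x₀.1).scheme).Nonempty)
    i n M (U' := ptIdxOf X x₀.1 (piece X U'.1 x₀.1) ⟨hx₀U', self_mem_pureOpen X x₀.1⟩)
    (U := ptIdxOf X x₀.1 (piece X U x₀.1) ⟨hxU x₀, self_mem_pureOpen X x₀.1⟩) hpre
    ((T.pull (eW X x₀.1 (piece X U x₀.1) (piece_subset_closure X U x₀.1 x₀.2)) M i n).hom (δ x₀))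
  refine e3.trans ?_
  have e4 := pull_comp_apply' T ((X.ptSub x₀.1).resLE hpre hd')
    (eW X x₀.1 (piece X U x₀.1) (piece_subset_closure X U x₀.1 x₀.2)) _ hnat M i n (δ x₀)
  have e5 := pull_comp_apply' T
    (eW X x₀.1 (piece X U'.1 x₀.1) (subset_trans (fun _ hx => hle₁ hx)
      (piece_subset_closure X U x₀.1 x₀.2)))
    (X.resLE hle₁ hd₁) _ rfl M i n (δ x₀)
  have e6 : (T.pull (idxRes (X.ptSub x₀.1) (fun U => (U : Set (X.ptSub x₀.1).scheme).Nonempty)
      (U' := ptIdxOf X x₀.1 (piece X U'.1 x₀.1) ⟨hx₀U', self_mem_pureOpen X x₀.1⟩)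
      (U := ptIdxOf X x₀.1 (piece X U x₀.1) ⟨hxU x₀, self_mem_pureOpen X x₀.1⟩) hpre) M i n).hom
      ((T.pull (eW X x₀.1 (piece X U x₀.1) (piece_subset_closure X U x₀.1 x₀.2)) M i n).hom
        (δ x₀)) = 0 := by
    refine e4.trans ?_
    rw [← e5, hz₂, map_zero]
  rw [e6, map_zero]
  rfl

theorem main15930 (T : PreTheory V R A) (X : Obj V) [IsReduced X.scheme] (P : T.PushData X 0)
    (M : A.Cat) (i n i' n' : ℤ) (hi : i' = i + 2 * ((0 : ℕ) : ℤ)) (hn : n' = n + ((0 : ℕ) : ℤ)) :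
    Function.Bijective (P.tot M i n i' n' hi hn).hom := by
  obtain rfl : i' = i := by simpa using hi
  obtain rfl : n' = n := by simpa using hn
  constructor
  · rw [injective_iff_map_eq_zero]
    intro ξ hξ
    exact inj15930 T X P M i' n' hi hn ξ hξ
  · intro y
    exact surj15930 T X P M i' n' hi hn y

end level0inj

end Groth.Agent.Helper17.BM
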