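import Groth.Agent.Lib.Helper17.BM10

/-!
# Borel–Moore theories: pieces of a reduced closed subscheme and the closures of its generic points
-/

set_option autoImplicit false
universe u
open AlgebraicGeometry CategoryTheory CategoryTheory.Limits Opposite BMCoh TopologicalSpace
open Topology Order Set

namespace Groth.Agent.Helper17.BM
open Groth.Agent.Helper23.BMLib1 Groth.Agent.Helper23.BMLib2

section eQ
variable {V : ObjectProperty Scheme.{u}} [IsConstructible V] (Y Z : Obj V) [IsReduced Z.scheme]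
  (q : Y.scheme ⟶ Z.scheme) [IsClosedImmersion q]

theorem surjective_restrict_q (O : Z.scheme.Opens) (hO : (O : Set Z.scheme) ⊆ Set.range q) :
    Surjective (q ∣_ O) := by
  constructor
  intro w
  obtain ⟨p, hp⟩ := hO w.2
  refine ⟨⟨p, by change q p ∈ O; rw [hp]; exact w.2⟩, ?_⟩
  apply Subtype.ext
  rw [morphismRestrict_base_coe]
  exact hp

theorem isIso_restrict_q (O : Z.scheme.Opens) (hO : (O : Set Z.scheme) ⊆ Set.range q) :
    IsIso (q ∣_ O) := by
  haveI := surjective_restrict_q Y Z q O hO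
  haveI : IsReduced (O : Scheme.{u}) := isReduced_of_isOpenImmersion O.ι
  exact isIso_of_isClosedImmersion_of_surjective _

/-- the comparison morphism of objects -/
noncomputable def eQ (O : Z.scheme.Opens) (hO : (O : Set Z.scheme) ⊆ Set.range q) :
    Y.res (q ⁻¹ᵁ O) ⟶ Z.res O :=
  haveI := isIso_restrict_q Y Z q O hO
  ⟨q ∣_ O, inferInstance, dim_eq_of_iso (asIso (q ∣_ O))⟩

noncomputable def eQinv (O : Z.scheme.Opens) (hO : (O : Set Z.scheme) ⊆ Set.range q) :
    Z.res O ⟶ Y.res (q ⁻¹ᵁ O) :=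
  haveI := isIso_restrict_q Y Z q O hO
  ⟨inv (q ∣_ O), inferInstance, (dim_eq_of_iso (asIso (q ∣_ O))).symm⟩

theorem eQinv_eQ (O : Z.scheme.Opens) (hO : (O : Set Z.scheme) ⊆ Set.range q) :
    eQinv Y Z q O hO ≫ eQ Y Z q O hO = 𝟙 _ := by
  haveI := isIso_restrict_q Y Z q O hO
  apply BMCoh.Hom.ext
  change inv (q ∣_ O) ≫ (q ∣_ O) = 𝟙 _
  simp

instance isClosedImmersion_eQ (O : Z.scheme.Opens) (hO : (O : Set Z.scheme) ⊆ Set.range q) :
    IsClosedImmersion (eQ Y Z q O hO).hom :=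
  inferInstanceAs (IsClosedImmersion (q ∣_ O))

theorem eQ_natural (O O' : Z.scheme.Opens) (hle : O' ≤ O)
    (hO : (O : Set Z.scheme) ⊆ Set.range q)
    (hd : WeilCoh.dim (O' : Scheme.{u}) = WeilCoh.dim (O : Scheme.{u}))
    (hd' : WeilCoh.dim ((q ⁻¹ᵁ O' : Y.scheme.Opens) : Scheme.{u}) =
      WeilCoh.dim ((q ⁻¹ᵁ O : Y.scheme.Opens) : Scheme.{u})) :
    Y.resLE (show q ⁻¹ᵁ O' ≤ q ⁻¹ᵁ O from fun _ hx => hle hx) hd' ≫ eQ Y Z q O hO =
    eQ Y Z q O' (subset_trans (fun _ hx => hle hx) hO) ≫ Z.resLE hle hd := by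
  apply BMCoh.Hom.ext
  change Y.scheme.homOfLE (show q ⁻¹ᵁ O' ≤ q ⁻¹ᵁ O from fun _ hx => hle hx) ≫ (q ∣_ O) =
    (q ∣_ O') ≫ Z.scheme.homOfLE hle
  rw [← cancel_mono O.ι, Category.assoc, Category.assoc, morphismRestrict_ι,
    Scheme.homOfLE_ι, ← Category.assoc, Scheme.homOfLE_ι, morphismRestrict_ι]

end eQ

section qmap
variable {V : ObjectProperty Scheme.{u}} [IsConstructible V]

/-- the reduced closure of a point outside an open maps to the reduced complement of the open -/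
noncomputable def qMap (X : Obj V) (Uo : X.scheme.Opens) (x : X.scheme) (hx : x ∉ Uo) :
    (X.ptSub x).scheme ⟶ (complObj X Uo).scheme :=
  Scheme.IdealSheafData.inclusion (I := complIdeal X.scheme Uo) (J := X.ptIdeal x)
    (Scheme.IdealSheafData.vanishingIdeal_antimono
      (show (⟨closure ({x} : Set X.scheme), isClosed_closure⟩ : Closeds X.scheme) ≤
        ⟨(Uo : Set X.scheme)ᶜ, Uo.isOpen.isClosed_compl⟩ from
        closure_minimal (Set.singleton_subset_iff.2 hx) Uo.isOpen.isClosed_compl))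

instance (X : Obj V) (Uo : X.scheme.Opens) (x : X.scheme) (hx : x ∉ Uo) :
    IsClosedImmersion (qMap X Uo x hx) := by
  unfold qMap
  infer_instance

theorem qMap_ι (X : Obj V) (Uo : X.scheme.Opens) (x : X.scheme) (hx : x ∉ Uo) :
    qMap X Uo x hx ≫ (complIdeal X.scheme Uo).subschemeι = X.ptSubι x :=
  Scheme.IdealSheafData.inclusion_subschemeι _

end qmap

section qgen
variable {V : ObjectProperty Scheme.{u}} [IsConstructible V] (X Z : Obj V)
  (ι : Z.scheme ⟶ X.scheme) [IsClosedImmersion ι] (z : Z.scheme)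
  (q : (X.ptSub (ι z)).scheme ⟶ Z.scheme) (hq : q ≫ ι = X.ptSubι (ι z))
include hq

theorem q_apply (w : (X.ptSub (ι z)).scheme) : ι (q w) = (X.ptSubι (ι z)) w := by
  have := congrArg (fun t => t.base w) hq
  exact this

theorem q_ptGen : q (ptGen X (ι z)) = z := by
  apply ι.isClosedEmbedding.injective
  rw [q_apply X Z ι z q hq, ptSubι_ptGen]

theorem closure_subset_range_q : closure ({z} : Set Z.scheme) ⊆ Set.range q := by
  intro z' hz'
  have h1 : ι z' ∈ closure ({ι z} : Set X.scheme) := by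
    have := image_closure_subset_closure_image ι.continuous (s := {z}) ⟨z', hz', rfl⟩
    rwa [Set.image_singleton] at this
  rw [← range_ptSubι] at h1
  obtain ⟨w, hw⟩ := h1
  refine ⟨w, ?_⟩
  apply ι.isClosedEmbedding.injective
  rw [q_apply X Z ι z q hq, hw]

/-- the index of the point `ι z` cut out by an open `O ∋ z` of the closed subscheme -/
noncomputable abbrev qIdx (O : Z.scheme.Opens) (hzO : z ∈ O) : ptIdx X (ι z) :=
  ⟨q ⁻¹ᵁ O,
    ⟨ptGen X (ι z), by change q (ptGen X (ι z)) ∈ O; rw [q_ptGen X Z ι z q hq]; exact hzO⟩,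
    IsConstructible.dim_open (X.ptSub (ι z)).mem inferInstance _
      ⟨ptGen X (ι z), by change q (ptGen X (ι z)) ∈ O; rw [q_ptGen X Z ι z q hq]; exact hzO⟩⟩

end qgen

section keyPQ
variable {V : ObjectProperty Scheme.{u}} [IsConstructible V] {R : Type u} [CommRing R]
  {A : Coefs R}

theorem piece_subset_range_q (X Z : Obj V) (ι : Z.scheme ⟶ X.scheme) [IsClosedImmersion ι]
    (z : Z.scheme) (hz : WeilCoh.codim Z.scheme z = 0)
    (q : (X.ptSub (ι z)).scheme ⟶ Z.scheme) (hq : q ≫ ι = X.ptSubι (ι z))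
    (W : Z.scheme.Opens) :
    ((piece Z W z : Z.scheme.Opens) : Set Z.scheme) ⊆ Set.range q :=
  (piece_subset_closure Z W z hz).trans (closure_subset_range_q X Z ι z q hq)

/-- the push-forward datum at the image of a generic point of a closed subscheme, computed on a
piece of the subscheme -/
theorem cpt_piece_cl (T : PreTheory V R A) (X Z : Obj V) [IsReduced Z.scheme]
    (ι : Z.scheme ⟶ X.scheme) [IsClosedImmersion ι] (j : ℕ) (P : T.PushData X (j + 1))
    (hdimZ : WeilCoh.dim Z.scheme + (j + 1) = WeilCoh.dim X.scheme)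
    (M : A.Cat) (i n i1 n1 : ℤ) (hi : i1 = i + 2 * ((j + 1 : ℕ) : ℤ))
    (hn : n1 = n + ((j + 1 : ℕ) : ℤ))
    (W : Z.scheme.Opens) (hWF : ContainsFj Z 0 W) (hWp : W ≤ pureLocus Z)
    (U : X.scheme.Opens) (hU : ContainsFj X (j + 1) U) (hW : W = ι ⁻¹ᵁ U)
    (z : Z.scheme) (hz : WeilCoh.codim Z.scheme z = 0) (hzW : z ∈ W)
    (q : (X.ptSub (ι z)).scheme ⟶ Z.scheme) [IsClosedImmersion q]
    (hq : q ≫ ι = X.ptSubι (ι z)) (hxc : WeilCoh.codim X.scheme (ι z) = j + 1)
    (hi2 : i1 = i + 2 * relCodim (Z.res W).scheme (X.res U).scheme)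
    (hn2 : n1 = n + relCodim (Z.res W).scheme (X.res U).scheme)
    (δ : T.gp (Z.res (piece Z W z)) M i n) :
    haveI : IsClosedImmersion (ι.resLE U W (le_of_eq hW)) := isClosedImmersion_resLE _ _ _ hW
    ((T.fjι X (j + 1) i1 n1 (mkIdx X (j + 1) U hU)).app M).hom
      ((T.push (ι.resLE U W (le_of_eq hW)) M i n i1 n1 hi2 hn2).hom
        ((T.push (pieceHom Z W hWp z hz hzW (dim_eq_of_containsFj Z 0 W hWF)).hom M i n i n
          (hi_of_hom (pieceHom Z W hWp z hz hzW (dim_eq_of_containsFj Z 0 W hWF)) i)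
          (hn_of_hom (pieceHom Z W hWp z hz hzW (dim_eq_of_containsFj Z 0 W hWF)) n)).hom δ)) =
    (P.cpt ⟨ι z, hxc⟩ M i n i1 n1 hi hn).hom
      (((T.ptι X (ι z) i n (qIdx X Z ι z q hq (piece Z W z) ⟨hzW, self_mem_pureOpen Z z⟩)).app
        M).hom
        ((T.pull (eQ (X.ptSub (ι z)) Z q (piece Z W z)
          (piece_subset_range_q X Z ι z hz q hq W)) M i n).hom δ)) := by
  haveI : IsClosedImmersion (ι.resLE U W (le_of_eq hW)) := isClosedImmersion_resLE _ _ _ hW
  have hdW := dim_eq_of_containsFj Z 0 W hWF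
  have hdU := dim_eq_of_containsFj X (j + 1) U hU
  have hcl := piece_subset_range_q X Z ι z hz q hq W
  let Wi : ptIdx X (ι z) := qIdx X Z ι z q hq (piece Z W z) ⟨hzW, self_mem_pureOpen Z z⟩
  let e := eQ (X.ptSub (ι z)) Z q (piece Z W z) hcl
  let g := pieceHom Z W hWp z hz hzW hdW
  haveI : IsClosedImmersion (g.hom ≫ ι.resLE U W (le_of_eq hW)) := inferInstance
  haveI : IsClosedImmersion (e.hom ≫ g.hom ≫ ι.resLE U W (le_of_eq hW)) := inferInstance
  have hcomm : (e.hom ≫ g.hom ≫ ι.resLE U W (le_of_eq hW)) ≫ U.ι = Wi.1.ι ≫ X.ptSubι (ι z) := by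
    have hle : piece Z W z ≤ W := inf_le_left
    change ((q ∣_ (piece Z W z)) ≫ Z.scheme.homOfLE hle ≫ ι.resLE U W (le_of_eq hW)) ≫ U.ι = _
    rw [Category.assoc, Category.assoc, Scheme.Hom.resLE_comp_ι, ← Category.assoc _ W.ι,
      Scheme.homOfLE_ι, ← Category.assoc, morphismRestrict_ι, Category.assoc, hq]
  have hrcT : relCodim ((X.ptSub (ι z)).res Wi.1).scheme (X.res U).scheme = ((j + 1 : ℕ) : ℤ) :=
    relCodim_pt X (j + 1) ⟨ι z, hxc⟩ Wi U hdU
  have hrcW : relCodim (Z.res W).scheme (X.res U).scheme = ((j + 1 : ℕ) : ℤ) :=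
    relCodim_cl X Z (j + 1) 0 hdimZ U hdU W hWF
  have hrcP : relCodim (Z.res (piece Z W z)).scheme (X.res U).scheme = ((j + 1 : ℕ) : ℤ) := by
    have h0 := relCodim_eq_zero' g
    unfold relCodim at h0 hrcW ⊢
    omega
  have spec := P.cpt_spec ⟨ι z, hxc⟩ M i n i1 n1 hi hn (mkIdx X (j + 1) U hU) Wi
    (e.hom ≫ g.hom ≫ ι.resLE U W (le_of_eq hW)) hcomm
    (by rw [hrcT]; exact hi) (by rw [hrcT]; exact hn)
  have e1 := congrArg (fun t => t.hom ((T.pull e M i n).hom δ)) spec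
  simp only [ModuleCat.hom_comp, LinearMap.comp_apply] at e1
  refine Eq.trans ?_ e1.symm
  congr 1
  have hpc1 := T.push_comp g.hom (ι.resLE U W (le_of_eq hW)) M i n i n i1 n1
    (hi_of_hom g i) (hn_of_hom g n) hi2 hn2
    (by rw [hrcP]; exact hi) (by rw [hrcP]; exact hn)
  have hpc2 := T.push_comp e.hom (g.hom ≫ ι.resLE U W (le_of_eq hW)) M i n i n i1 n1
    (hi_of_hom e i) (hn_of_hom e n)
    (by rw [hrcP]; exact hi) (by rw [hrcP]; exact hn)
    (by rw [hrcT]; exact hi) (by rw [hrcT]; exact hn)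
  have e2 := congrArg (fun t => t.hom ((T.pull e M i n).hom δ)) hpc2
  simp only [ModuleCat.hom_comp, LinearMap.comp_apply] at e2
  rw [← e2, pull_push_iso T e (eQinv (X.ptSub (ι z)) Z q (piece Z W z) hcl)
    (eQinv_eQ (X.ptSub (ι z)) Z q (piece Z W z) hcl) M i n _ _ δ]
  have e3 := congrArg (fun t => t.hom δ) hpc1
  simp only [ModuleCat.hom_comp, LinearMap.comp_apply] at e3
  exact e3

/-- the residue datum at the image of a generic point of a closed subscheme, computed on a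
piece of the subscheme -/
theorem res_piece_cl (T : PreTheory V R A) (X Z : Obj V) [IsReduced Z.scheme]
    (ι : Z.scheme ⟶ X.scheme) [IsClosedImmersion ι] (j : ℕ) (Q : T.ResData X j)
    (M : A.Cat) (i n i' n' : ℤ) (hi : i' = i + 1 - 2 * ((j : ℤ) + 1))
    (hn : n' = n - ((j : ℤ) + 1))
    (W : Z.scheme.Opens) (hdW : WeilCoh.dim (W : Scheme.{u}) = WeilCoh.dim Z.scheme)
    (hWp : W ≤ pureLocus Z)
    (U : X.scheme.Opens) (hdU : WeilCoh.dim (U : Scheme.{u}) = WeilCoh.dim X.scheme)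
    (hW : W = ι ⁻¹ᵁ U)
    (Uo : X.scheme.Opens) (hUo : ContainsFj X j Uo) (hle : Uo ≤ U)
    (hset : (Uo : Set X.scheme) = (U : Set X.scheme) ∩ (Set.range ι)ᶜ)
    (hd : WeilCoh.dim (Uo : Scheme.{u}) = WeilCoh.dim (U : Scheme.{u}))
    (z : Z.scheme) (hz : WeilCoh.codim Z.scheme z = 0) (hzW : z ∈ W)
    (q : (X.ptSub (ι z)).scheme ⟶ Z.scheme) [IsClosedImmersion q]
    (hq : q ≫ ι = X.ptSubι (ι z)) (hxc : WeilCoh.codim X.scheme (ι z) = j + 1)
    (hiD : i' = i + 1 - 2 * (decompCl X Z ι U W hW Uo hle hset hd).codim)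
    (hnD : n' = n - (decompCl X Z ι U W hW Uo hle hset hd).codim)
    (β : T.gp (X.res Uo) M i n) :
    (Q.cpt ⟨ι z, hxc⟩ M i n i' n' hi hn).hom
      (((T.fjι X j i n (mkIdx X j Uo hUo)).app M).hom β) =
    ((T.ptι X (ι z) i' n' (qIdx X Z ι z q hq (piece Z W z) ⟨hzW, self_mem_pureOpen Z z⟩)).app
      M).hom
      ((T.pull (eQ (X.ptSub (ι z)) Z q (piece Z W z)
        (piece_subset_range_q X Z ι z hz q hq W)) M i' n').hom
        ((T.pull (pieceHom Z W hWp z hz hzW hdW) M i' n').hom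
          ((T.res (decompCl X Z ι U W hW Uo hle hset hd) M i n i' n' hiD hnD).hom β))) := by
  have hcl := piece_subset_range_q X Z ι z hz q hq W
  let Wi : ptIdx X (ι z) := qIdx X Z ι z q hq (piece Z W z) ⟨hzW, self_mem_pureOpen Z z⟩
  let e := eQ (X.ptSub (ι z)) Z q (piece Z W z) hcl
  let g := pieceHom Z W hWp z hz hzW hdW
  let D : Decomp (X.res U) := decompCl X Z ι U W hW Uo hle hset hd
  have hg : (e ≫ g : (X.ptSub (ι z)).res Wi.1 ⟶ D.Z).hom ≫ D.i ≫ (X.resι U hdU).hom =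
      Wi.1.ι ≫ X.ptSubι (ι z) := by
    have hle' : piece Z W z ≤ W := inf_le_left
    change ((q ∣_ (piece Z W z)) ≫ Z.scheme.homOfLE hle') ≫ ι.resLE U W (le_of_eq hW) ≫ U.ι = _
    rw [Scheme.Hom.resLE_comp_ι, Category.assoc, ← Category.assoc _ W.ι,
      Scheme.homOfLE_ι, ← Category.assoc, morphismRestrict_ι, Category.assoc, hq]
  have hh : (𝟙 (X.res Uo) : X.res Uo ⟶ D.U).hom ≫ D.j.hom ≫ (X.resι U hdU).hom = Uo.ι := by
    change 𝟙 _ ≫ X.scheme.homOfLE hle ≫ U.ι = _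
    rw [Category.id_comp, Scheme.homOfLE_ι]
  have spec := Q.cpt_spec ⟨ι z, hxc⟩ M i n i' n' hi hn (X.resι U hdU) D Wi (e ≫ g) hg
    (mkIdx X j Uo hUo) (𝟙 _) hh hiD hnD
  have e1 := congrArg (fun t => t.hom β) spec
  simp only [ModuleCat.hom_comp, LinearMap.comp_apply] at e1
  rw [pull_id_apply] at e1
  refine e1.trans ?_
  congr 1
  exact (pull_comp_apply' T e g (e ≫ g) rfl M i' n' _).symm

end keyPQ

section sums
variable {V : ObjectProperty Scheme.{u}} [IsConstructible V] {R : Type u} [CommRing R]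
  {A : Coefs R}

/-- restriction to a piece of a sum of push-forwards from the pieces -/
theorem pull_sum_push (T : PreTheory V R A) (Z : Obj V) (M : A.Cat) (i n : ℤ)
    (W : Z.scheme.Opens) (hWF : ContainsFj Z 0 W) (hWp : W ≤ pureLocus Z) [Fintype (Z.cdPt 0)]
    (δ : ∀ z : Z.cdPt 0, T.gp (Z.res (piece Z W z.1)) M i n) (z₀ : Z.cdPt 0) :
    (T.pull (pieceHom Z W hWp z₀.1 z₀.2 (hWF z₀.1 (le_of_eq z₀.2))
      (dim_eq_of_containsFj Z 0 W hWF)) M i n).hom
      (∑ z : Z.cdPt 0, (T.push (pieceHom Z W hWp z.1 z.2 (hWF z.1 (le_of_eq z.2))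
        (dim_eq_of_containsFj Z 0 W hWF)).hom M i n i n
        (hi_of_hom (pieceHom Z W hWp z.1 z.2 (hWF z.1 (le_of_eq z.2))
          (dim_eq_of_containsFj Z 0 W hWF)) i)
        (hn_of_hom (pieceHom Z W hWp z.1 z.2 (hWF z.1 (le_of_eq z.2))
          (dim_eq_of_containsFj Z 0 W hWF)) n)).hom (δ z)) = δ z₀ := by
  rw [map_sum, Finset.sum_eq_single z₀]
  · exact push_pull_self' T _ M i n _ _ (δ z₀)
  · intro z _ hne
    have hne' : z.1 ≠ z₀.1 := fun h => hne (Subtype.ext h)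
    exact pull_push_piece_ne T Z M i n W (dim_eq_of_containsFj Z 0 W hWF) hWp z.1 z₀.1 z.2 z₀.2
      (hWF z.1 (le_of_eq z.2)) (hWF z₀.1 (le_of_eq z₀.2)) hne' _ _ (δ z)
  · intro h
    exact absurd (Finset.mem_univ z₀) h

/-- additivity over the finite type of the points of codimension 0 -/
theorem additivity' (T : PreTheory V R A) (Z : Obj V) (M : A.Cat) (i n : ℤ)
    (W : Z.scheme.Opens) (hWF : ContainsFj Z 0 W) (hWp : W ≤ pureLocus Z) [Fintype (Z.cdPt 0)]
    (ρ : T.gp (Z.res W) M i n) :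
    ρ = ∑ z : Z.cdPt 0, (T.push (pieceHom Z W hWp z.1 z.2 (hWF z.1 (le_of_eq z.2))
        (dim_eq_of_containsFj Z 0 W hWF)).hom M i n i n
        (hi_of_hom (pieceHom Z W hWp z.1 z.2 (hWF z.1 (le_of_eq z.2))
          (dim_eq_of_containsFj Z 0 W hWF)) i)
        (hn_of_hom (pieceHom Z W hWp z.1 z.2 (hWF z.1 (le_of_eq z.2))
          (dim_eq_of_containsFj Z 0 W hWF)) n)).hom
        ((T.pull (pieceHom Z W hWp z.1 z.2 (hWF z.1 (le_of_eq z.2))
          (dim_eq_of_containsFj Z 0 W hWF)) M i n).hom ρ) := by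
  rw [← sub_eq_zero]
  refine joint_inj T Z M n _ i W (dim_eq_of_containsFj Z 0 W hWF) hWp le_rfl _ ?_
  intro η₀ hη₀ hη₀O
  rw [map_sub, sub_eq_zero]
  exact (pull_sum_push T Z M i n W hWF hWp
    (fun z => (T.pull (pieceHom Z W hWp z.1 z.2 (hWF z.1 (le_of_eq z.2))
      (dim_eq_of_containsFj Z 0 W hWF)) M i n).hom ρ) ⟨η₀, hη₀⟩).symm

/-- the total push-forward of a family supported on the image of an injective map from a finite
type -/
theorem tot_eq_sum_of_support (T : PreTheory V R A) (X : Obj V) (k : ℕ) (P : T.PushData X k)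
    (M : A.Cat) (i n i' n' : ℤ) (hi : i' = i + 2 * (k : ℤ)) (hn : n' = n + (k : ℤ))
    {I : Type u} [Fintype I] (f : I → X.cdPt k) (hf : Function.Injective f)
    (ξ : T.ptSum X k M i n) (hsupp : ∀ x : X.cdPt k, (∀ a : I, f a ≠ x) → ξ x = 0) :
    (P.tot M i n i' n' hi hn).hom ξ =
      ∑ a : I, (P.cpt (f a) M i n i' n' hi hn).hom (ξ (f a)) := by
  classical
  have hξ : ξ = ∑ a : I, DirectSum.of (fun y : X.cdPt k => T.ptGp X y.1 M i n) (f a) (ξ (f a)) := by
    refine DFinsupp.ext (fun x => ?_)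
    rw [DFinsupp.finsetSum_apply]
    by_cases hx : ∃ a₀ : I, f a₀ = x
    · obtain ⟨a₀, rfl⟩ := hx
      rw [Finset.sum_eq_single a₀]
      · exact (DirectSum.of_eq_same (β := fun y : X.cdPt k => T.ptGp X y.1 M i n) (f a₀)
          (ξ (f a₀))).symm
      · intro a _ hne
        exact DirectSum.of_eq_of_ne _ _ _ (fun h => hne (hf h.symm))
      · intro h
        exact absurd (Finset.mem_univ a₀) h
    · push_neg at hx
      rw [hsupp x hx]
      symm
      apply Finset.sum_eq_zero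
      intro a _
      exact DirectSum.of_eq_of_ne _ _ _ (fun h => hx a h.symm)
  conv_lhs => rw [hξ]
  rw [map_sum]
  refine Finset.sum_congr rfl (fun a _ => ?_)
  have h1 := PreTheory.PushData.tot_lof P M i n i' n' hi hn (f a) (ξ (f a))
  rw [DirectSum.lof_eq_of] at h1
  exact h1

end sums

end Groth.Agent.Helper17.BM
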