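import Groth.Agent.Lib.Helper17.BM11

/-!
# Borel–Moore theories: exactness of `H(F_jX) → ⊕ H(x) → H(F_{j+1}X)`
-/

set_option autoImplicit false
universe u
open AlgebraicGeometry CategoryTheory CategoryTheory.Limits Opposite BMCoh TopologicalSpace
open Topology Order Set

namespace Groth.Agent.Helper17.BM
open Groth.Agent.Helper23.BMLib1 Groth.Agent.Helper23.BMLib2

section ctx
variable {V : ObjectProperty Scheme.{u}} [IsConstructible V]

/-- the inclusion of the reduced complement -/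
noncomputable abbrev complι (X : Obj V) (Uo : X.scheme.Opens) :
    (complObj X Uo).scheme ⟶ X.scheme := (complIdeal X.scheme Uo).subschemeι

theorem complι_not_mem (X : Obj V) (Uo : X.scheme.Opens) (z : (complObj X Uo).scheme) :
    complι X Uo z ∉ Uo := by
  have : complι X Uo z ∈ Set.range (complι X Uo) := ⟨z, rfl⟩
  rw [range_complι] at this
  exact this

theorem codim_complι (X : Obj V) (j : ℕ) (Uo : X.scheme.Opens)
    (hdimZ : WeilCoh.dim (complObj X Uo).scheme + (j + 1) = WeilCoh.dim X.scheme)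
    (z : (complObj X Uo).cdPt 0) : WeilCoh.codim X.scheme (complι X Uo z.1) = j + 1 := by
  rw [codim_closedImmersion X (complObj X Uo) (complι X Uo) (j + 1) hdimZ z.1, z.2]

/-- the point of codimension `j + 1` of `X` attached to a generic point of the complement -/
noncomputable abbrev xOf (X : Obj V) (j : ℕ) (Uo : X.scheme.Opens)
    (hdimZ : WeilCoh.dim (complObj X Uo).scheme + (j + 1) = WeilCoh.dim X.scheme)
    (z : (complObj X Uo).cdPt 0) : X.cdPt (j + 1) :=
  ⟨complι X Uo z.1, codim_complι X j Uo hdimZ z⟩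

theorem xOf_injective (X : Obj V) (j : ℕ) (Uo : X.scheme.Opens)
    (hdimZ : WeilCoh.dim (complObj X Uo).scheme + (j + 1) = WeilCoh.dim X.scheme) :
    Function.Injective (xOf X j Uo hdimZ) := by
  intro z z' h
  apply Subtype.ext
  apply (complι X Uo).isClosedEmbedding.injective
  exact congrArg (fun t : X.cdPt (j + 1) => t.1) h

theorem exists_xOf (X : Obj V) (j : ℕ) (Uo : X.scheme.Opens)
    (hdimZ : WeilCoh.dim (complObj X Uo).scheme + (j + 1) = WeilCoh.dim X.scheme)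
    (x : X.cdPt (j + 1)) (hx : x.1 ∉ Uo) : ∃ z, xOf X j Uo hdimZ z = x := by
  have : x.1 ∈ Set.range (complι X Uo) := by
    rw [range_complι]
    exact hx
  obtain ⟨z, hz⟩ := this
  have hc := codim_closedImmersion X (complObj X Uo) (complι X Uo) (j + 1) hdimZ z
  rw [hz, x.2] at hc
  exact ⟨⟨z, by omega⟩, Subtype.ext hz⟩

/-- the big open of `X` cut out by an open of the reduced complement -/
noncomputable abbrev bigU (X : Obj V) (Uo : X.scheme.Opens) (W : (complObj X Uo).scheme.Opens) :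
    X.scheme.Opens := ⊤ ⊓ bigOpenG (complι X Uo) W

theorem le_bigU (X : Obj V) (Uo : X.scheme.Opens) (W : (complObj X Uo).scheme.Opens) :
    Uo ≤ bigU X Uo W := by
  intro y hy
  refine ⟨trivial, not_mem_range_mem_bigOpenG (complι X Uo) W y ?_⟩
  rw [range_complι]
  exact fun h => h hy

theorem preimage_bigU (X : Obj V) (Uo : X.scheme.Opens) (W : (complObj X Uo).scheme.Opens) :
    W = (complι X Uo) ⁻¹ᵁ (bigU X Uo W) :=
  preimage_inf_bigOpenG (complι X Uo) ⊤ ((complι X Uo) ⁻¹ᵁ ⊤) W rfl (fun _ _ => trivial)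

theorem set_bigU (X : Obj V) (Uo U : X.scheme.Opens) (hle : Uo ≤ U) :
    (Uo : Set X.scheme) = (U : Set X.scheme) ∩ (Set.range (complι X Uo))ᶜ := by
  rw [range_complι, compl_compl]
  exact (Set.inter_eq_right.2 hle).symm

end ctx

section parta
variable {V : ObjectProperty Scheme.{u}} [IsConstructible V] {R : Type u} [CommRing R]
  {A : Coefs R}

theorem comp28_core (T : PreTheory V R A) (X : Obj V) (j : ℕ) (Q : T.ResData X j)
    (P : T.PushData X (j + 1)) (M : A.Cat) (i n i' n' : ℤ)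
    (hi : i' = i + 1 - 2 * ((j : ℤ) + 1)) (hn : n' = n - ((j : ℤ) + 1))
    (hi2 : i + 1 = i' + 2 * ((j + 1 : ℕ) : ℤ)) (hn2 : n = n' + ((j + 1 : ℕ) : ℤ))
    (Uo : X.scheme.Opens) (hUo : ContainsFj X j Uo)
    (hdimZ : WeilCoh.dim (complObj X Uo).scheme + (j + 1) = WeilCoh.dim X.scheme)
    [Fintype ((complObj X Uo).cdPt 0)]
    (β : T.gp (X.res Uo) M i n) :
    (P.tot M i' n' (i + 1) n hi2 hn2).hom
      ((Q.tot M i n i' n' hi hn).hom (((T.fjι X j i n (mkIdx X j Uo hUo)).app M).hom β)) = 0 := by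
  classical
  have hWF := containsF0_pureLocus (complObj X Uo)
  have hWp : pureLocus (complObj X Uo) ≤ pureLocus (complObj X Uo) := le_rfl
  have hdW := dim_eq_of_containsFj (complObj X Uo) 0 _ hWF
  have hU : ContainsFj X (j + 1) (bigU X Uo (pureLocus (complObj X Uo))) :=
    containsFj_inf_bigOpenG X (complObj X Uo) (complι X Uo) (j + 1) 0 hdimZ ⊤
      (fun _ _ => trivial) (pureLocus (complObj X Uo)) hWF
  have hdU := dim_eq_of_containsFj X (j + 1) _ hU
  have hdUo := dim_eq_of_containsFj X j Uo hUo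
  have hW := preimage_bigU X Uo (pureLocus (complObj X Uo))
  have hle := le_bigU X Uo (pureLocus (complObj X Uo))
  have hset := set_bigU X Uo (bigU X Uo (pureLocus (complObj X Uo))) hle
  have hd : WeilCoh.dim (Uo : Scheme.{u}) =
      WeilCoh.dim (bigU X Uo (pureLocus (complObj X Uo)) : Scheme.{u}) := hdUo.trans hdU.symm
  have hrc : relCodim ((complObj X Uo).res (pureLocus (complObj X Uo))).scheme
      (X.res (bigU X Uo (pureLocus (complObj X Uo)))).scheme = ((j + 1 : ℕ) : ℤ) :=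
    relCodim_cl X (complObj X Uo) (j + 1) 0 hdimZ _ hdU _ hWF
  have hcod : (decompCl X (complObj X Uo) (complι X Uo) (bigU X Uo (pureLocus (complObj X Uo)))
      (pureLocus (complObj X Uo)) hW Uo hle hset hd).codim = ((j + 1 : ℕ) : ℤ) := hrc
  have hiD : i' = i + 1 - 2 * (decompCl X (complObj X Uo) (complι X Uo)
      (bigU X Uo (pureLocus (complObj X Uo))) (pureLocus (complObj X Uo)) hW Uo hle hset
      hd).codim := by
    rw [hcod]; push_cast; exact hi
  have hnD : n' = n - (decompCl X (complObj X Uo) (complι X Uo)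
      (bigU X Uo (pureLocus (complObj X Uo))) (pureLocus (complObj X Uo)) hW Uo hle hset
      hd).codim := by
    rw [hcod]; push_cast; exact hn
  have hi3 : i + 1 = i' + 2 * relCodim ((complObj X Uo).res (pureLocus (complObj X Uo))).scheme
      (X.res (bigU X Uo (pureLocus (complObj X Uo)))).scheme := by rw [hrc]; exact hi2
  have hn3 : n = n' + relCodim ((complObj X Uo).res (pureLocus (complObj X Uo))).scheme
      (X.res (bigU X Uo (pureLocus (complObj X Uo)))).scheme := by rw [hrc]; exact hn2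
  have hex := T.exact_res_push (decompCl X (complObj X Uo) (complι X Uo)
    (bigU X Uo (pureLocus (complObj X Uo))) (pureLocus (complObj X Uo)) hW Uo hle hset hd)
    M i n i' n' hiD hnD hi3 hn3
  have hpush0 := (hex _).2 ⟨β, rfl⟩
  -- the support
  have hsupp : ∀ x : X.cdPt (j + 1), (∀ z, xOf X j Uo hdimZ z ≠ x) →
      ((Q.tot M i n i' n' hi hn).hom (((T.fjι X j i n (mkIdx X j Uo hUo)).app M).hom β)) x = 0 := by
    intro x hx
    have hxU : x.1 ∈ Uo := by
      by_contra hxU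
      obtain ⟨z, hz⟩ := exists_xOf X j Uo hdimZ x hxU
      exact hx z hz
    exact cpt_eq_zero_of_mem T X j Q x (mkIdx X j Uo hUo) hxU M i n i' n' hi hn β
  rw [tot_eq_sum_of_support T X (j + 1) P M i' n' (i + 1) n hi2 hn2 (xOf X j Uo hdimZ)
    (xOf_injective X j Uo hdimZ) _ hsupp]
  -- the terms
  have hadd := additivity' T (complObj X Uo) M i' n' (pureLocus (complObj X Uo)) hWF hWp
    ((T.res (decompCl X (complObj X Uo) (complι X Uo) (bigU X Uo (pureLocus (complObj X Uo)))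
      (pureLocus (complObj X Uo)) hW Uo hle hset hd) M i n i' n' hiD hnD).hom β)
  haveI hDi : IsClosedImmersion (decompCl X (complObj X Uo) (complι X Uo)
      (bigU X Uo (pureLocus (complObj X Uo))) (pureLocus (complObj X Uo)) hW Uo hle hset hd).i :=
    (decompCl X (complObj X Uo) (complι X Uo) (bigU X Uo (pureLocus (complObj X Uo)))
      (pureLocus (complObj X Uo)) hW Uo hle hset hd).closedImm
  have h1 := congrArg (fun t => ((T.fjι X (j + 1) (i + 1) n
    (mkIdx X (j + 1) (bigU X Uo (pureLocus (complObj X Uo))) hU)).app M).hom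
    ((T.push (decompCl X (complObj X Uo) (complι X Uo) (bigU X Uo (pureLocus (complObj X Uo)))
      (pureLocus (complObj X Uo)) hW Uo hle hset hd).i M i' n' (i + 1) n hi3 hn3).hom t)) hadd
  simp only [map_sum] at h1
  rw [hpush0, map_zero] at h1
  refine Eq.trans ?_ h1.symm
  refine Finset.sum_congr rfl (fun z _ => ?_)
  have hQ := res_piece_cl T X (complObj X Uo) (complι X Uo) j Q M i n i' n' hi hn
    (pureLocus (complObj X Uo)) hdW hWp (bigU X Uo (pureLocus (complObj X Uo))) hdU hW Uo hUo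
    hle hset hd z.1 z.2 (hWF z.1 (le_of_eq z.2))
    (qMap X Uo (complι X Uo z.1) (complι_not_mem X Uo z.1))
    (qMap_ι X Uo (complι X Uo z.1) (complι_not_mem X Uo z.1)) (codim_complι X j Uo hdimZ z)
    hiD hnD β
  have hP := cpt_piece_cl T X (complObj X Uo) (complι X Uo) j P hdimZ M i' n' (i + 1) n hi2 hn2
    (pureLocus (complObj X Uo)) hWF hWp (bigU X Uo (pureLocus (complObj X Uo))) hU hW
    z.1 z.2 (hWF z.1 (le_of_eq z.2))
    (qMap X Uo (complι X Uo z.1) (complι_not_mem X Uo z.1))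
    (qMap_ι X Uo (complι X Uo z.1) (complι_not_mem X Uo z.1)) (codim_complι X j Uo hdimZ z)
    hi3 hn3
    ((T.pull (pieceHom (complObj X Uo) (pureLocus (complObj X Uo)) hWp z.1 z.2
      (hWF z.1 (le_of_eq z.2)) hdW) M i' n').hom
      ((T.res (decompCl X (complObj X Uo) (complι X Uo) (bigU X Uo (pureLocus (complObj X Uo)))
        (pureLocus (complObj X Uo)) hW Uo hle hset hd) M i n i' n' hiD hnD).hom β))
  refine Eq.trans ?_ hP.symm
  exact congrArg _ hQ

end parta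

section partb
variable {V : ObjectProperty Scheme.{u}} [IsConstructible V] {R : Type u} [CommRing R]
  {A : Coefs R}

theorem mem_closure_of_q (X : Obj V) (Uo : X.scheme.Opens) (z : (complObj X Uo).scheme)
    (w : (X.ptSub ((complι X Uo) z)).scheme) :
    (qMap X Uo ((complι X Uo) z) (complι_not_mem X Uo z)) w ∈ closure ({z} : Set (complObj X Uo).scheme) := by
  have h1 : (complι X Uo) ((qMap X Uo ((complι X Uo) z) (complι_not_mem X Uo z)) w) ∈
      closure ({(complι X Uo) z} : Set X.scheme) := by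
    rw [q_apply X (complObj X Uo) (complι X Uo) z _ (qMap_ι X Uo ((complι X Uo) z) (complι_not_mem X Uo z)), ← range_ptSubι]
    exact ⟨w, rfl⟩
  have h2 : closure ({(complι X Uo) z} : Set X.scheme) = (complι X Uo) '' closure ({z} : Set (complObj X Uo).scheme) := by
    rw [← (complι X Uo).isClosedEmbedding.closure_image_eq, Set.image_singleton]
  rw [h2] at h1
  obtain ⟨z', hz', hz''⟩ := h1
  rw [← (complι X Uo).isClosedEmbedding.injective hz'']
  exact hz'

theorem ker28_core (T : PreTheory V R A) (X : Obj V) (j : ℕ) (Q : T.ResData X j)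
    (P : T.PushData X (j + 1)) (M : A.Cat) (i n i' n' : ℤ)
    (hi : i' = i + 1 - 2 * ((j : ℤ) + 1)) (hn : n' = n - ((j : ℤ) + 1))
    (hi2 : i + 1 = i' + 2 * ((j + 1 : ℕ) : ℤ)) (hn2 : n = n' + ((j + 1 : ℕ) : ℤ))
    (Uo : X.scheme.Opens) (hUo : ContainsFj X j Uo)
    (hdimZ : WeilCoh.dim (complObj X Uo).scheme + (j + 1) = WeilCoh.dim X.scheme)
    [Fintype ((complObj X Uo).cdPt 0)]
    (ξ : T.ptSum X (j + 1) M i' n') (hsuppξ : ∀ x : X.cdPt (j + 1), x.1 ∈ Uo → ξ x = 0)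
    (hξ : (P.tot M i' n' (i + 1) n hi2 hn2).hom ξ = 0) :
    ∃ y : T.fjGp X j M i n, (Q.tot M i n i' n' hi hn).hom y = ξ := by
  classical
  -- representatives
  have rep : ∀ z : (complObj X Uo).cdPt 0, ∃ (W : ptIdx X ((complι X Uo) z.1))
      (γ : T.gp ((X.ptSub ((complι X Uo) z.1)).res W.1) M i' n'),
      ((T.ptι X ((complι X Uo) z.1) i' n' W).app M).hom γ = ξ (xOf X j Uo hdimZ z) := fun z =>
    ocolim_exists_rep T (X.ptSub ((complι X Uo) z.1))
      (fun U => (U : Set (X.ptSub ((complι X Uo) z.1)).scheme).Nonempty) i' n' M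
      (idx_directed X ((complι X Uo) z.1)) (ξ (xOf X j Uo hdimZ z))
  choose Wf γf hrep using rep
  -- a nice open of the closed subscheme
  let W : (complObj X Uo).scheme.Opens :=
    ⟨(pureLocus (complObj X Uo) : Set (complObj X Uo).scheme) ∩
      (⋃ z : (complObj X Uo).cdPt 0, (qMap X Uo ((complι X Uo) z.1) (complι_not_mem X Uo z.1)) ''
        (((Wf z).1 : Set (X.ptSub ((complι X Uo) z.1)).scheme)ᶜ))ᶜ,
      (pureLocus (complObj X Uo)).isOpen.inter (isClosed_iUnion_of_finite (fun z : (complObj X Uo).cdPt 0 =>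
        (qMap X Uo ((complι X Uo) z.1) (complι_not_mem X Uo z.1)).isClosedEmbedding.isClosedMap _
          (Wf z).1.isOpen.isClosed_compl)).isOpen_compl⟩
  have hmemW : ∀ y : (complObj X Uo).scheme, y ∈ W ↔ y ∈ pureLocus (complObj X Uo) ∧
      ∀ z : (complObj X Uo).cdPt 0, y ∈ bigOpenG (qMap X Uo ((complι X Uo) z.1) (complι_not_mem X Uo z.1)) (Wf z).1 := by
    intro y
    change y ∈ (pureLocus (complObj X Uo) : Set (complObj X Uo).scheme) ∩
      (⋃ z : (complObj X Uo).cdPt 0, (qMap X Uo ((complι X Uo) z.1) (complι_not_mem X Uo z.1)) ''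
        (((Wf z).1 : Set (X.ptSub ((complι X Uo) z.1)).scheme)ᶜ))ᶜ ↔ _
    rw [Set.mem_inter_iff, Set.mem_compl_iff, Set.mem_iUnion, not_exists]
    rfl
  have hWp : W ≤ pureLocus (complObj X Uo) := fun y hy => ((hmemW y).1 hy).1
  have hWF : ContainsFj (complObj X Uo) 0 W := by
    intro y hy
    refine (hmemW y).2 ⟨containsF0_pureLocus (complObj X Uo) y hy, fun z => ?_⟩
    rw [mem_bigOpenG]
    intro w hw
    have hycl : y ∈ closure ({z.1} : Set (complObj X Uo).scheme) := by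
      rw [← hw]
      exact mem_closure_of_q X Uo z.1 w
    have hyz : y = z.1 := eq_of_codim_zero_of_mem_closure (complObj X Uo) y z.1 (Nat.le_zero.1 hy) hycl
    have hwgen : w = ptGen X ((complι X Uo) z.1) := by
      apply (qMap X Uo ((complι X Uo) z.1) (complι_not_mem X Uo z.1)).isClosedEmbedding.injective
      rw [hw, hyz, q_ptGen X (complObj X Uo) (complι X Uo) z.1 _ (qMap_ι X Uo ((complι X Uo) z.1) (complι_not_mem X Uo z.1))]
    rw [hwgen]
    exact ptGen_mem_of_nonempty X ((complι X Uo) z.1) (Wf z).1 (Wf z).2.1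
  have hdW := dim_eq_of_containsFj (complObj X Uo) 0 W hWF
  have hzW : ∀ z : (complObj X Uo).cdPt 0, z.1 ∈ W := fun z => hWF z.1 (le_of_eq z.2)
  have hW'le : ∀ z : (complObj X Uo).cdPt 0,
      (qIdx X (complObj X Uo) (complι X Uo) z.1 (qMap X Uo ((complι X Uo) z.1) (complι_not_mem X Uo z.1))
        (qMap_ι X Uo ((complι X Uo) z.1) (complι_not_mem X Uo z.1)) (piece (complObj X Uo) W z.1)
        ⟨hzW z, self_mem_pureOpen (complObj X Uo) z.1⟩).1 ≤ (Wf z).1 := by
    intro z w hw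
    have h1 : (qMap X Uo ((complι X Uo) z.1) (complι_not_mem X Uo z.1)) w ∈ W := hw.1
    have h2 := ((hmemW _).1 h1).2 z
    rw [mem_bigOpenG] at h2
    exact h2 w rfl
  have hγ' : ∀ z : (complObj X Uo).cdPt 0, ((T.ptι X ((complι X Uo) z.1) i' n'
      (qIdx X (complObj X Uo) (complι X Uo) z.1 (qMap X Uo ((complι X Uo) z.1) (complι_not_mem X Uo z.1))
        (qMap_ι X Uo ((complι X Uo) z.1) (complι_not_mem X Uo z.1)) (piece (complObj X Uo) W z.1)
        ⟨hzW z, self_mem_pureOpen (complObj X Uo) z.1⟩)).app M).hom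
      ((T.pull (idxRes (X.ptSub ((complι X Uo) z.1))
        (fun U => (U : Set (X.ptSub ((complι X Uo) z.1)).scheme).Nonempty)
        (U' := qIdx X (complObj X Uo) (complι X Uo) z.1 (qMap X Uo ((complι X Uo) z.1) (complι_not_mem X Uo z.1))
          (qMap_ι X Uo ((complι X Uo) z.1) (complι_not_mem X Uo z.1)) (piece (complObj X Uo) W z.1)
          ⟨hzW z, self_mem_pureOpen (complObj X Uo) z.1⟩) (U := Wf z) (hW'le z)) M i' n').hom (γf z)) =
      ξ (xOf X j Uo hdimZ z) := fun z =>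
    (ocolimι_res T (X.ptSub ((complι X Uo) z.1)) (fun U => (U : Set (X.ptSub ((complι X Uo) z.1)).scheme).Nonempty)
      i' n' M (hW'le z) (γf z)).symm.trans (hrep z)
  -- classes on the pieces
  let δ : ∀ z : (complObj X Uo).cdPt 0, T.gp ((complObj X Uo).res (piece (complObj X Uo) W z.1)) M i' n' := fun z =>
    (T.push (eQ (X.ptSub ((complι X Uo) z.1)) (complObj X Uo) (qMap X Uo ((complι X Uo) z.1) (complι_not_mem X Uo z.1))
      (piece (complObj X Uo) W z.1) (piece_subset_range_q X (complObj X Uo) (complι X Uo) z.1 z.2 _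
        (qMap_ι X Uo ((complι X Uo) z.1) (complι_not_mem X Uo z.1)) W)).hom M i' n' i' n'
      (hi_of_hom (eQ (X.ptSub ((complι X Uo) z.1)) (complObj X Uo) (qMap X Uo ((complι X Uo) z.1) (complι_not_mem X Uo z.1))
        (piece (complObj X Uo) W z.1) (piece_subset_range_q X (complObj X Uo) (complι X Uo) z.1 z.2 _
          (qMap_ι X Uo ((complι X Uo) z.1) (complι_not_mem X Uo z.1)) W)) i')
      (hn_of_hom (eQ (X.ptSub ((complι X Uo) z.1)) (complObj X Uo) (qMap X Uo ((complι X Uo) z.1) (complι_not_mem X Uo z.1))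
        (piece (complObj X Uo) W z.1) (piece_subset_range_q X (complObj X Uo) (complι X Uo) z.1 z.2 _
          (qMap_ι X Uo ((complι X Uo) z.1) (complι_not_mem X Uo z.1)) W)) n')).hom
      ((T.pull (idxRes (X.ptSub ((complι X Uo) z.1))
        (fun U => (U : Set (X.ptSub ((complι X Uo) z.1)).scheme).Nonempty)
        (U' := qIdx X (complObj X Uo) (complι X Uo) z.1 (qMap X Uo ((complι X Uo) z.1) (complι_not_mem X Uo z.1))
          (qMap_ι X Uo ((complι X Uo) z.1) (complι_not_mem X Uo z.1)) (piece (complObj X Uo) W z.1)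
          ⟨hzW z, self_mem_pureOpen (complObj X Uo) z.1⟩) (U := Wf z) (hW'le z)) M i' n').hom (γf z))
  have hδ : ∀ z : (complObj X Uo).cdPt 0,
      (T.pull (eQ (X.ptSub ((complι X Uo) z.1)) (complObj X Uo) (qMap X Uo ((complι X Uo) z.1) (complι_not_mem X Uo z.1))
        (piece (complObj X Uo) W z.1) (piece_subset_range_q X (complObj X Uo) (complι X Uo) z.1 z.2 _
          (qMap_ι X Uo ((complι X Uo) z.1) (complι_not_mem X Uo z.1)) W)) M i' n').hom (δ z) =
      (T.pull (idxRes (X.ptSub ((complι X Uo) z.1))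
        (fun U => (U : Set (X.ptSub ((complι X Uo) z.1)).scheme).Nonempty)
        (U' := qIdx X (complObj X Uo) (complι X Uo) z.1 (qMap X Uo ((complι X Uo) z.1) (complι_not_mem X Uo z.1))
          (qMap_ι X Uo ((complι X Uo) z.1) (complι_not_mem X Uo z.1)) (piece (complObj X Uo) W z.1)
          ⟨hzW z, self_mem_pureOpen (complObj X Uo) z.1⟩) (U := Wf z) (hW'le z)) M i' n').hom (γf z) :=
    fun z => push_pull_self' T _ M i' n' _ _ _
  let γ : T.gp ((complObj X Uo).res W) M i' n' :=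
    ∑ z : (complObj X Uo).cdPt 0, (T.push (pieceHom (complObj X Uo) W hWp z.1 z.2 (hWF z.1 (le_of_eq z.2))
        (dim_eq_of_containsFj (complObj X Uo) 0 W hWF)).hom M i' n' i' n'
        (hi_of_hom (pieceHom (complObj X Uo) W hWp z.1 z.2 (hWF z.1 (le_of_eq z.2))
          (dim_eq_of_containsFj (complObj X Uo) 0 W hWF)) i')
        (hn_of_hom (pieceHom (complObj X Uo) W hWp z.1 z.2 (hWF z.1 (le_of_eq z.2))
          (dim_eq_of_containsFj (complObj X Uo) 0 W hWF)) n')).hom (δ z)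
  -- the big open and the decomposition
  have hU : ContainsFj X (j + 1) (bigU X Uo W) :=
    containsFj_inf_bigOpenG X (complObj X Uo) (complι X Uo) (j + 1) 0 hdimZ ⊤ (fun _ _ => trivial) W hWF
  have hdU := dim_eq_of_containsFj X (j + 1) _ hU
  have hdUo := dim_eq_of_containsFj X j Uo hUo
  have hW := preimage_bigU X Uo W
  have hle := le_bigU X Uo W
  have hrc : relCodim ((complObj X Uo).res W).scheme (X.res (bigU X Uo W)).scheme = ((j + 1 : ℕ) : ℤ) :=
    relCodim_cl X (complObj X Uo) (j + 1) 0 hdimZ _ hdU _ hWF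
  have hi3 : i + 1 = i' + 2 * relCodim ((complObj X Uo).res W).scheme (X.res (bigU X Uo W)).scheme := by
    rw [hrc]; exact hi2
  have hn3 : n = n' + relCodim ((complObj X Uo).res W).scheme (X.res (bigU X Uo W)).scheme := by
    rw [hrc]; exact hn2
  haveI : IsClosedImmersion ((complι X Uo).resLE (bigU X Uo W) W (le_of_eq hW)) :=
    isClosedImmersion_resLE _ _ _ hW
  -- the total push-forward of `ξ`
  have hcpt : ∀ z : (complObj X Uo).cdPt 0,
      (P.cpt (xOf X j Uo hdimZ z) M i' n' (i + 1) n hi2 hn2).hom (ξ (xOf X j Uo hdimZ z)) =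
      ((T.fjι X (j + 1) (i + 1) n (mkIdx X (j + 1) (bigU X Uo W) hU)).app M).hom
        ((T.push ((complι X Uo).resLE (bigU X Uo W) W (le_of_eq hW)) M i' n' (i + 1) n hi3 hn3).hom
          ((T.push (pieceHom (complObj X Uo) W hWp z.1 z.2 (hWF z.1 (le_of_eq z.2))
            (dim_eq_of_containsFj (complObj X Uo) 0 W hWF)).hom M i' n' i' n'
            (hi_of_hom (pieceHom (complObj X Uo) W hWp z.1 z.2 (hWF z.1 (le_of_eq z.2))
              (dim_eq_of_containsFj (complObj X Uo) 0 W hWF)) i')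
            (hn_of_hom (pieceHom (complObj X Uo) W hWp z.1 z.2 (hWF z.1 (le_of_eq z.2))
              (dim_eq_of_containsFj (complObj X Uo) 0 W hWF)) n')).hom (δ z))) := by
    intro z
    rw [← hγ' z, ← hδ z]
    exact (cpt_piece_cl T X (complObj X Uo) (complι X Uo) j P hdimZ M i' n' (i + 1) n hi2 hn2 W hWF hWp
      (bigU X Uo W) hU hW z.1 z.2 (hWF z.1 (le_of_eq z.2))
      (qMap X Uo ((complι X Uo) z.1) (complι_not_mem X Uo z.1))
      (qMap_ι X Uo ((complι X Uo) z.1) (complι_not_mem X Uo z.1)) (codim_complι X j Uo hdimZ z)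
      hi3 hn3 (δ z)).symm
  have hsupp : ∀ x : X.cdPt (j + 1), (∀ z, xOf X j Uo hdimZ z ≠ x) → ξ x = 0 := by
    intro x hx
    apply hsuppξ
    by_contra hxU
    obtain ⟨z, hz⟩ := exists_xOf X j Uo hdimZ x hxU
    exact hx z hz
  have htot : (P.tot M i' n' (i + 1) n hi2 hn2).hom ξ =
      ((T.fjι X (j + 1) (i + 1) n (mkIdx X (j + 1) (bigU X Uo W) hU)).app M).hom
        ((T.push ((complι X Uo).resLE (bigU X Uo W) W (le_of_eq hW)) M i' n' (i + 1) n hi3 hn3).hom γ) := by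
    rw [tot_eq_sum_of_support T X (j + 1) P M i' n' (i + 1) n hi2 hn2 (xOf X j Uo hdimZ)
      (xOf_injective X j Uo hdimZ) ξ hsupp, map_sum, map_sum]
    exact Finset.sum_congr rfl (fun z _ => hcpt z)
  rw [htot] at hξ
  obtain ⟨U₁, hle₁, hz₁⟩ := ocolim_eq_zero T X (ContainsFj X (j + 1)) (i + 1) n M
    (fj_directed X (j + 1)) (mkIdx X (j + 1) (bigU X Uo W) hU) _ hξ
  -- base change to `U₁`
  have hW₁F : ContainsFj (complObj X Uo) 0 ((complι X Uo) ⁻¹ᵁ U₁.1) :=
    containsFj_preimage X (complObj X Uo) (complι X Uo) (j + 1) 0 hdimZ U₁.1 U₁.2.1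
  have hW₁W : (complι X Uo) ⁻¹ᵁ U₁.1 ≤ W := by
    intro y hy
    have : y ∈ (complι X Uo) ⁻¹ᵁ (bigU X Uo W) := hle₁ hy
    rw [← hW] at this
    exact this
  have hdW₁ := dim_eq_of_containsFj (complObj X Uo) 0 _ hW₁F
  have hW₁p : (complι X Uo) ⁻¹ᵁ U₁.1 ≤ pureLocus (complObj X Uo) := hW₁W.trans hWp
  haveI : IsClosedImmersion ((complι X Uo).resLE U₁.1 ((complι X Uo) ⁻¹ᵁ U₁.1) (le_of_eq rfl)) :=
    isClosedImmersion_resLE _ _ _ rfl
  have hrc₁ : relCodim ((complObj X Uo).res ((complι X Uo) ⁻¹ᵁ U₁.1)).scheme (X.res U₁.1).scheme = ((j + 1 : ℕ) : ℤ) :=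
    relCodim_cl X (complObj X Uo) (j + 1) 0 hdimZ _ U₁.2.2 _ hW₁F
  have hi4 : i + 1 = i' + 2 * relCodim ((complObj X Uo).res ((complι X Uo) ⁻¹ᵁ U₁.1)).scheme (X.res U₁.1).scheme := by
    rw [hrc₁]; exact hi2
  have hn4 : n = n' + relCodim ((complObj X Uo).res ((complι X Uo) ⁻¹ᵁ U₁.1)).scheme (X.res U₁.1).scheme := by
    rw [hrc₁]; exact hn2
  have hpb : IsPullback ((complObj X Uo).resLE hW₁W (hdW₁.trans hdW.symm)).hom
      ((complι X Uo).resLE U₁.1 ((complι X Uo) ⁻¹ᵁ U₁.1) (le_of_eq rfl)) ((complι X Uo).resLE (bigU X Uo W) W (le_of_eq hW))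
      (X.resLE hle₁ (U₁.2.2.trans hdU.symm)).hom :=
    isPullback_resLE (complι X Uo) hle₁ ((complι X Uo) ⁻¹ᵁ U₁.1) W hW₁W rfl (le_of_eq hW)
  have hbc := T.push_pull ((complι X Uo).resLE (bigU X Uo W) W (le_of_eq hW))
    ((complι X Uo).resLE U₁.1 ((complι X Uo) ⁻¹ᵁ U₁.1) (le_of_eq rfl)) (X.resLE hle₁ (U₁.2.2.trans hdU.symm))
    ((complObj X Uo).resLE hW₁W (hdW₁.trans hdW.symm)) hpb M i' n' (i + 1) n hi3 hn3 hi4 hn4
  have hbc' := congrArg (fun t => t.hom γ) hbc
  simp only [ModuleCat.hom_comp, LinearMap.comp_apply] at hbc'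
  have hz₂ : (T.push ((complι X Uo).resLE U₁.1 ((complι X Uo) ⁻¹ᵁ U₁.1) (le_of_eq rfl)) M i' n' (i + 1) n hi4 hn4).hom
      ((T.pull ((complObj X Uo).resLE hW₁W (hdW₁.trans hdW.symm)) M i' n').hom γ) = 0 :=
    hbc'.symm.trans hz₁
  -- the decomposition of `U₁`
  have hUo₁ : ContainsFj X j (U₁.1 ⊓ Uo) := fun y hy =>
    ⟨U₁.2.1 y (hy.trans (Nat.le_succ j)), hUo y hy⟩
  have hdUo₁ := dim_eq_of_containsFj X j _ hUo₁
  have hle₂ : U₁.1 ⊓ Uo ≤ U₁.1 := inf_le_left
  have hset₁ : ((U₁.1 ⊓ Uo : X.scheme.Opens) : Set X.scheme) =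
      (U₁.1 : Set X.scheme) ∩ (Set.range (complι X Uo))ᶜ := by
    rw [range_complι, compl_compl]
    rfl
  have hd₁ : WeilCoh.dim ((U₁.1 ⊓ Uo : X.scheme.Opens) : Scheme.{u}) =
      WeilCoh.dim (U₁.1 : Scheme.{u}) := hdUo₁.trans U₁.2.2.symm
  have hcod₁ : (decompCl X (complObj X Uo) (complι X Uo) U₁.1 ((complι X Uo) ⁻¹ᵁ U₁.1) rfl (U₁.1 ⊓ Uo) hle₂ hset₁ hd₁).codim =
      ((j + 1 : ℕ) : ℤ) := hrc₁
  have hiD : i' = i + 1 - 2 * (decompCl X (complObj X Uo) (complι X Uo) U₁.1 ((complι X Uo) ⁻¹ᵁ U₁.1) rfl (U₁.1 ⊓ Uo) hle₂ hset₁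
      hd₁).codim := by
    rw [hcod₁]; push_cast; exact hi
  have hnD : n' = n - (decompCl X (complObj X Uo) (complι X Uo) U₁.1 ((complι X Uo) ⁻¹ᵁ U₁.1) rfl (U₁.1 ⊓ Uo) hle₂ hset₁
      hd₁).codim := by
    rw [hcod₁]; push_cast; exact hn
  have hex := T.exact_res_push (decompCl X (complObj X Uo) (complι X Uo) U₁.1 ((complι X Uo) ⁻¹ᵁ U₁.1) rfl (U₁.1 ⊓ Uo) hle₂ hset₁
    hd₁) M i n i' n' hiD hnD hi4 hn4
  obtain ⟨β, hβ⟩ := (hex _).1 hz₂
  refine ⟨((T.fjι X j i n (mkIdx X j (U₁.1 ⊓ Uo) hUo₁)).app M).hom β, ?_⟩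
  refine DFinsupp.ext (fun x => ?_)
  by_cases hx : x.1 ∈ Uo
  · rw [hsuppξ x hx]
    exact cpt_eq_zero_of_mem T X j Q x (mkIdx X j (U₁.1 ⊓ Uo) hUo₁)
      ⟨U₁.2.1 x.1 (le_of_eq x.2), hx⟩ M i n i' n' hi hn β
  · obtain ⟨z, rfl⟩ := exists_xOf X j Uo hdimZ x hx
    have hzW₁ : z.1 ∈ (complι X Uo) ⁻¹ᵁ U₁.1 := hW₁F z.1 (le_of_eq z.2)
    have hQ := res_piece_cl T X (complObj X Uo) (complι X Uo) j Q M i n i' n' hi hn ((complι X Uo) ⁻¹ᵁ U₁.1) hdW₁ hW₁p U₁.1 U₁.2.2
      rfl (U₁.1 ⊓ Uo) hUo₁ hle₂ hset₁ hd₁ z.1 z.2 hzW₁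
      (qMap X Uo ((complι X Uo) z.1) (complι_not_mem X Uo z.1))
      (qMap_ι X Uo ((complι X Uo) z.1) (complι_not_mem X Uo z.1)) (codim_complι X j Uo hdimZ z) hiD hnD β
    refine hQ.trans ?_
    rw [hβ]
    -- compare the pieces in `W₁` and in `W`
    have hle₃ : piece (complObj X Uo) ((complι X Uo) ⁻¹ᵁ U₁.1) z.1 ≤ piece (complObj X Uo) W z.1 := fun y hy => ⟨hW₁W hy.1, hy.2⟩
    have hd₃ : WeilCoh.dim (piece (complObj X Uo) ((complι X Uo) ⁻¹ᵁ U₁.1) z.1 : Scheme.{u}) =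
        WeilCoh.dim (piece (complObj X Uo) W z.1 : Scheme.{u}) :=
      (dim_piece (complObj X Uo) _ z.1 z.2 hzW₁).trans (dim_piece (complObj X Uo) W z.1 z.2 (hzW z)).symm
    have hle₄ : piece (complObj X Uo) ((complι X Uo) ⁻¹ᵁ U₁.1) z.1 ≤ W := inf_le_left.trans hW₁W
    have hd₄ : WeilCoh.dim (piece (complObj X Uo) ((complι X Uo) ⁻¹ᵁ U₁.1) z.1 : Scheme.{u}) =
        WeilCoh.dim (W : Scheme.{u}) := (dim_piece (complObj X Uo) _ z.1 z.2 hzW₁).trans hdW.symm
    have e1 := pull_comp_apply' T (pieceHom (complObj X Uo) ((complι X Uo) ⁻¹ᵁ U₁.1) hW₁p z.1 z.2 hzW₁ hdW₁)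
      ((complObj X Uo).resLE hW₁W (hdW₁.trans hdW.symm)) ((complObj X Uo).resLE hle₄ hd₄) (resLE_comp (complObj X Uo) _ _ _ _)
      M i' n' γ
    have e2 := pull_comp_apply' T ((complObj X Uo).resLE hle₃ hd₃)
      (pieceHom (complObj X Uo) W hWp z.1 z.2 (hWF z.1 (le_of_eq z.2)) (dim_eq_of_containsFj (complObj X Uo) 0 W hWF))
      ((complObj X Uo).resLE hle₄ hd₄) (resLE_comp (complObj X Uo) _ _ _ _) M i' n' γ
    have e3 := pull_sum_push T (complObj X Uo) M i' n' W hWF hWp δ z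
    rw [e1, ← e2, e3]
    -- naturality of the comparison isomorphisms
    have hpre : (qMap X Uo ((complι X Uo) z.1) (complι_not_mem X Uo z.1)) ⁻¹ᵁ
        (piece (complObj X Uo) ((complι X Uo) ⁻¹ᵁ U₁.1) z.1) ≤
        (qMap X Uo ((complι X Uo) z.1) (complι_not_mem X Uo z.1)) ⁻¹ᵁ (piece (complObj X Uo) W z.1) :=
      fun _ hx => hle₃ hx
    have hd' : WeilCoh.dim (((qMap X Uo ((complι X Uo) z.1) (complι_not_mem X Uo z.1)) ⁻¹ᵁ
        (piece (complObj X Uo) ((complι X Uo) ⁻¹ᵁ U₁.1) z.1) : (X.ptSub ((complι X Uo) z.1)).scheme.Opens) : Scheme.{u}) =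
        WeilCoh.dim (((qMap X Uo ((complι X Uo) z.1) (complι_not_mem X Uo z.1)) ⁻¹ᵁ
          (piece (complObj X Uo) W z.1) : (X.ptSub ((complι X Uo) z.1)).scheme.Opens) : Scheme.{u}) :=
      (qIdx X (complObj X Uo) (complι X Uo) z.1 (qMap X Uo ((complι X Uo) z.1) (complι_not_mem X Uo z.1))
        (qMap_ι X Uo ((complι X Uo) z.1) (complι_not_mem X Uo z.1)) (piece (complObj X Uo) ((complι X Uo) ⁻¹ᵁ U₁.1) z.1)
        ⟨hzW₁, self_mem_pureOpen (complObj X Uo) z.1⟩).2.2.trans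
      (qIdx X (complObj X Uo) (complι X Uo) z.1 (qMap X Uo ((complι X Uo) z.1) (complι_not_mem X Uo z.1))
        (qMap_ι X Uo ((complι X Uo) z.1) (complι_not_mem X Uo z.1)) (piece (complObj X Uo) W z.1)
        ⟨hzW z, self_mem_pureOpen (complObj X Uo) z.1⟩).2.2.symm
    have hnat := eQ_natural (X.ptSub ((complι X Uo) z.1)) (complObj X Uo) (qMap X Uo ((complι X Uo) z.1) (complι_not_mem X Uo z.1))
      (piece (complObj X Uo) W z.1) (piece (complObj X Uo) ((complι X Uo) ⁻¹ᵁ U₁.1) z.1) hle₃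
      (piece_subset_range_q X (complObj X Uo) (complι X Uo) z.1 z.2 _ (qMap_ι X Uo ((complι X Uo) z.1) (complι_not_mem X Uo z.1)) W)
      hd₃ hd'
    have e4 := pull_comp_apply' T ((X.ptSub ((complι X Uo) z.1)).resLE hpre hd')
      (eQ (X.ptSub ((complι X Uo) z.1)) (complObj X Uo) (qMap X Uo ((complι X Uo) z.1) (complι_not_mem X Uo z.1))
        (piece (complObj X Uo) W z.1) (piece_subset_range_q X (complObj X Uo) (complι X Uo) z.1 z.2 _
          (qMap_ι X Uo ((complι X Uo) z.1) (complι_not_mem X Uo z.1)) W)) _ hnat M i' n' (δ z)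
    have e5 := pull_comp_apply' T
      (eQ (X.ptSub ((complι X Uo) z.1)) (complObj X Uo) (qMap X Uo ((complι X Uo) z.1) (complι_not_mem X Uo z.1))
        (piece (complObj X Uo) ((complι X Uo) ⁻¹ᵁ U₁.1) z.1) (subset_trans (fun _ hx => hle₃ hx)
          (piece_subset_range_q X (complObj X Uo) (complι X Uo) z.1 z.2 _
            (qMap_ι X Uo ((complι X Uo) z.1) (complι_not_mem X Uo z.1)) W)))
      ((complObj X Uo).resLE hle₃ hd₃) _ rfl M i' n' (δ z)
    rw [e5, ← e4, hδ z]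
    rw [← hγ' z]
    exact (ocolimι_res T (X.ptSub ((complι X Uo) z.1))
      (fun U => (U : Set (X.ptSub ((complι X Uo) z.1)).scheme).Nonempty) i' n' M
      (U' := qIdx X (complObj X Uo) (complι X Uo) z.1 (qMap X Uo ((complι X Uo) z.1) (complι_not_mem X Uo z.1))
        (qMap_ι X Uo ((complι X Uo) z.1) (complι_not_mem X Uo z.1)) (piece (complObj X Uo) ((complι X Uo) ⁻¹ᵁ U₁.1) z.1)
        ⟨hzW₁, self_mem_pureOpen (complObj X Uo) z.1⟩)
      (U := qIdx X (complObj X Uo) (complι X Uo) z.1 (qMap X Uo ((complι X Uo) z.1) (complι_not_mem X Uo z.1))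
        (qMap_ι X Uo ((complι X Uo) z.1) (complι_not_mem X Uo z.1)) (piece (complObj X Uo) W z.1)
        ⟨hzW z, self_mem_pureOpen (complObj X Uo) z.1⟩) hpre _).symm

end partb

section main28
variable {V : ObjectProperty Scheme.{u}} [IsConstructible V] {R : Type u} [CommRing R]
  {A : Coefs R}

theorem comp28 (T : PreTheory V R A) (X : Obj V) (j : ℕ) (Q : T.ResData X j)
    (P : T.PushData X (j + 1)) (M : A.Cat) (i n i' n' : ℤ)
    (hi : i' = i + 1 - 2 * ((j : ℤ) + 1)) (hn : n' = n - ((j : ℤ) + 1))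
    (hi2 : i + 1 = i' + 2 * ((j + 1 : ℕ) : ℤ)) (hn2 : n = n' + ((j + 1 : ℕ) : ℤ))
    (y : T.fjGp X j M i n) :
    (P.tot M i' n' (i + 1) n hi2 hn2).hom ((Q.tot M i n i' n' hi hn).hom y) = 0 := by
  classical
  obtain ⟨Uo, β, rfl⟩ := ocolim_exists_rep T X (ContainsFj X j) i n M (fj_directed X j) y
  by_cases hbig : ContainsFj X (j + 1) Uo.1
  · have : (Q.tot M i n i' n' hi hn).hom (((T.fjι X j i n Uo).app M).hom β) = 0 := by
      refine DFinsupp.ext (fun x => ?_)
      exact cpt_eq_zero_of_mem T X j Q x Uo (hbig x.1 (le_of_eq x.2)) M i n i' n' hi hn β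
    rw [this, map_zero]
  · unfold ContainsFj at hbig
    push_neg at hbig
    obtain ⟨x₀, hx₀c, hx₀U⟩ := hbig
    have hx₀cod : WeilCoh.codim X.scheme x₀ = j + 1 := by
      by_contra hne
      exact hx₀U (Uo.2.1 x₀ (by omega))
    have hdimZ := dim_complObj_add X j Uo.1 Uo.2.1 x₀ hx₀cod hx₀U
    haveI : Finite ((complObj X Uo.1).cdPt 0) := (finite_codim_zero (complObj X Uo.1)).to_subtype
    haveI : Fintype ((complObj X Uo.1).cdPt 0) := Fintype.ofFinite _
    exact comp28_core T X j Q P M i n i' n' hi hn hi2 hn2 Uo.1 Uo.2.1 hdimZ β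

theorem main15928 (T : PreTheory V R A) (X : Obj V) (j : ℕ) (Q : T.ResData X j)
    (P : T.PushData X (j + 1)) (M : A.Cat) (i n i' n' : ℤ)
    (hi : i' = i + 1 - 2 * ((j : ℤ) + 1)) (hn : n' = n - ((j : ℤ) + 1))
    (hi2 : i + 1 = i' + 2 * ((j + 1 : ℕ) : ℤ)) (hn2 : n = n' + ((j + 1 : ℕ) : ℤ)) :
    Function.Exact (Q.tot M i n i' n' hi hn).hom (P.tot M i' n' (i + 1) n hi2 hn2).hom := by
  classical
  intro ξ
  constructor
  · intro hξ
    by_cases hne : ∃ x : X.cdPt (j + 1), ξ x ≠ 0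
    swap
    · push_neg at hne
      refine ⟨0, ?_⟩
      rw [map_zero]
      exact (DFinsupp.ext (fun x => hne x)).symm
    obtain ⟨x₀, hx₀⟩ := hne
    have hfin : {x : X.cdPt (j + 1) | ξ x ≠ 0}.Finite :=
      DFinsupp.finite_support (ξ : Π₀ x : X.cdPt (j + 1), T.ptGp X x.1 M i' n')
    let Uo : X.scheme.Opens :=
      ⟨(⋃ x ∈ {x : X.cdPt (j + 1) | ξ x ≠ 0}, closure ({x.1} : Set X.scheme))ᶜ,
        (hfin.isClosed_biUnion (fun x _ => isClosed_closure)).isOpen_compl⟩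
    have hmemUo : ∀ y : X.scheme, y ∈ Uo ↔
        ∀ x : X.cdPt (j + 1), ξ x ≠ 0 → y ∉ closure ({x.1} : Set X.scheme) := by
      intro y
      change y ∈ (⋃ x ∈ {x : X.cdPt (j + 1) | ξ x ≠ 0}, closure ({x.1} : Set X.scheme))ᶜ ↔ _
      simp only [Set.mem_compl_iff, Set.mem_iUnion, Set.mem_ofPred_eq, not_exists]
    have hUo : ContainsFj X j Uo := by
      intro y hy
      rw [hmemUo]
      intro x _ hycl
      have := codim_mono X hycl
      rw [x.2] at this
      omega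
    have hx₀U : x₀.1 ∉ Uo := by
      rw [hmemUo]
      push_neg
      exact ⟨x₀, hx₀, subset_closure rfl⟩
    have hdimZ := dim_complObj_add X j Uo hUo x₀.1 x₀.2 hx₀U
    haveI : Finite ((complObj X Uo).cdPt 0) := (finite_codim_zero (complObj X Uo)).to_subtype
    haveI : Fintype ((complObj X Uo).cdPt 0) := Fintype.ofFinite _
    have hsuppξ : ∀ x : X.cdPt (j + 1), x.1 ∈ Uo → ξ x = 0 := by
      intro x hx
      by_contra hne
      exact (hmemUo _).1 hx x hne (subset_closure rfl)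
    exact ker28_core T X j Q P M i n i' n' hi hn hi2 hn2 Uo hUo hdimZ ξ hsuppξ hξ
  · rintro ⟨y, rfl⟩
    exact comp28 T X j Q P M i n i' n' hi hn hi2 hn2 y

end main28

end Groth.Agent.Helper17.BM
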