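import Groth.Agent.Lib.Helper17.BM12
import Groth.Prelude.Def_BMCoh4

/-!
# Borel–Moore theories: push-forward data between groups of points are unique
-/

set_option autoImplicit false
universe u
open AlgebraicGeometry CategoryTheory CategoryTheory.Limits Opposite BMCoh TopologicalSpace
open Topology Order Set

namespace Groth.Agent.Helper17.BM
open Groth.Agent.Helper23.BMLib1 Groth.Agent.Helper23.BMLib2

section redlift

theorem ker_radical_of_isReduced {A X : Scheme.{u}} [IsReduced A] (g : A ⟶ X) [QuasiCompact g] :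
    g.ker.radical = g.ker := by
  apply le_antisymm _ (Scheme.IdealSheafData.le_radical _)
  rw [Scheme.IdealSheafData.le_def]
  intro U
  rw [Scheme.IdealSheafData.radical_ideal, Scheme.Hom.ker_apply]
  intro s hs
  obtain ⟨k, hk⟩ := hs
  rw [RingHom.mem_ker] at hk ⊢
  rw [map_pow] at hk
  exact IsReduced.eq_zero _ ⟨k, hk⟩


theorem vanishingIdeal_le_ker_of_isReduced {A X : Scheme.{u}} [IsReduced A] (g : A ⟶ X)
    [QuasiCompact g] (C : Closeds X) (hC : Set.range g ⊆ (C : Set X)) :
    Scheme.IdealSheafData.vanishingIdeal C ≤ g.ker := by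
  rw [← ker_radical_of_isReduced g, ← Scheme.IdealSheafData.vanishingIdeal_support]
  apply Scheme.IdealSheafData.vanishingIdeal_antimono
  rw [← SetLike.coe_subset_coe, Scheme.Hom.support_ker]
  exact closure_minimal hC C.isClosed

variable {V : ObjectProperty Scheme.{u}} [IsConstructible V]

/-- a morphism carrying `y` to `x` induces a morphism of the reduced closures -/
noncomputable def redLift {Y X : Obj V} (φ : Y.scheme ⟶ X.scheme) [QuasiCompact φ] (y : Y.scheme)
    (x : X.scheme) (h : φ y = x) : (Y.ptSub y).scheme ⟶ (X.ptSub x).scheme :=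
  IsClosedImmersion.lift (X.ptSubι x) (Y.ptSubι y ≫ φ) (by
    rw [Scheme.IdealSheafData.ker_subschemeι]
    apply vanishingIdeal_le_ker_of_isReduced
    rintro _ ⟨w, rfl⟩
    change φ ((Y.ptSubι y) w) ∈ closure ({x} : Set X.scheme)
    have hw : (Y.ptSubι y) w ∈ closure ({y} : Set Y.scheme) := by
      rw [← range_ptSubι]
      exact ⟨w, rfl⟩
    have := image_closure_subset_closure_image φ.continuous (s := {y}) ⟨_, hw, rfl⟩
    rwa [Set.image_singleton, h] at this)

theorem redLift_ι {Y X : Obj V} (φ : Y.scheme ⟶ X.scheme) [QuasiCompact φ] (y : Y.scheme)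
    (x : X.scheme) (h : φ y = x) :
    redLift φ y x h ≫ X.ptSubι x = Y.ptSubι y ≫ φ :=
  IsClosedImmersion.lift_fac _ _ _

theorem redLift_ptGen {Y X : Obj V} (φ : Y.scheme ⟶ X.scheme) [QuasiCompact φ] (y : Y.scheme)
    (x : X.scheme) (h : φ y = x) : (redLift φ y x h) (ptGen Y y) = ptGen X x := by
  apply (X.ptSubι x).isClosedEmbedding.injective
  have := congrArg (fun t => t.base (ptGen Y y)) (redLift_ι φ y x h)
  refine Eq.trans this ?_
  change φ ((Y.ptSubι y) (ptGen Y y)) = _
  rw [ptSubι_ptGen, ptSubι_ptGen, h]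

instance {Y X : Obj V} (φ : Y.scheme ⟶ X.scheme) [IsProper φ] (y : Y.scheme)
    (x : X.scheme) (h : φ y = x) : IsProper (redLift φ y x h) := by
  haveI : IsProper (redLift φ y x h ≫ X.ptSubι x) := by
    rw [redLift_ι]
    infer_instance
  exact IsProper.of_comp (redLift φ y x h) (X.ptSubι x)

end redlift

section lemA
variable {V : ObjectProperty Scheme.{u}} [IsConstructible V]

/-- along a closed map the dimension of the closure of a point does not increase -/
theorem pdim_le_of_isClosedMap (Y X : Obj V) (f : Y.scheme → X.scheme) (hf : Continuous f)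
    (hcl : IsClosedMap f) : ∀ (d : ℕ) (z : Y.scheme) (ξ : X.scheme), f z = ξ →
      WeilCoh.pdim X.scheme ξ = d → d ≤ WeilCoh.pdim Y.scheme z := by
  intro d
  induction d with
  | zero => intro _ _ _ _; exact Nat.zero_le _
  | succ d ih =>
    intro z ξ hz hξ
    -- a point of the closure of `ξ` with closure of dimension `d`
    haveI : Nonempty (X.ptSub ξ).scheme := ⟨ptGen X ξ⟩
    obtain ⟨t', ht'⟩ := exists_pdim_eq (X.ptSub ξ) d (by rw [dim_ptSub, hξ]; omega)
    have htd : WeilCoh.pdim X.scheme ((X.ptSubι ξ) t') = d := by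
      rw [← pdim_closedImmersion (X.ptSubι ξ) t']
      exact ht'
    have htcl : (X.ptSubι ξ) t' ∈ closure ({ξ} : Set X.scheme) := by
      rw [← range_ptSubι]
      exact ⟨t', rfl⟩
    -- lift the specialisation
    have himg : closure ({ξ} : Set X.scheme) ⊆ f '' closure ({z} : Set Y.scheme) := by
      apply closure_minimal _ (hcl _ isClosed_closure)
      rw [Set.singleton_subset_iff]
      exact ⟨z, subset_closure rfl, hz⟩
    obtain ⟨s, hs, hfs⟩ := himg htcl
    have h1 := ih s _ hfs htd
    have hzs : z ∉ closure ({s} : Set Y.scheme) := by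
      intro hzs
      have h2 : f z ∈ closure ({f s} : Set X.scheme) := by
        have := image_closure_subset_closure_image hf (s := {s}) ⟨z, hzs, rfl⟩
        rwa [Set.image_singleton] at this
      rw [hz, hfs] at h2
      have heq := eq_of_mem_closure_of_mem_closure X htcl h2
      rw [heq, hξ] at htd
      omega
    have h3 := pdim_lt Y hs hzs
    omega

/-- the generic point of the reduced closure has the dimension of the closure -/
theorem pdim_ptGen (X : Obj V) (x : X.scheme) :
    WeilCoh.pdim (X.ptSub x).scheme (ptGen X x) = WeilCoh.dim (X.ptSub x).scheme := by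
  rw [pdim_closedImmersion (X.ptSubι x) (ptGen X x), ptSubι_ptGen, dim_ptSub]

/-- a point of the reduced closure other than the generic point has smaller dimension -/
theorem pdim_lt_of_ne_ptGen (Y : Obj V) (y : Y.scheme) (z : (Y.ptSub y).scheme)
    (hz : z ≠ ptGen Y y) :
    WeilCoh.pdim (Y.ptSub y).scheme z < WeilCoh.dim (Y.ptSub y).scheme := by
  rw [pdim_closedImmersion (Y.ptSubι y) z, dim_ptSub]
  have hcl : (Y.ptSubι y) z ∈ closure ({y} : Set Y.scheme) := by
    rw [← range_ptSubι]
    exact ⟨z, rfl⟩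
  apply pdim_lt Y hcl
  intro h'
  apply hz
  apply (Y.ptSubι y).isClosedEmbedding.injective
  rw [ptSubι_ptGen]
  exact eq_of_mem_closure_of_mem_closure Y hcl h'

/-- shrinking: every nonempty open of the closure of `y` contains the preimage of a nonempty
open of the closure of `x`, on which `φ` restricts to a proper morphism -/
theorem exists_small {Y X : Obj V} (φ : Y.scheme ⟶ X.scheme) [IsProper φ] (y : Y.scheme)
    (x : X.scheme) (h : φ y = x)
    (hcd : relCodim (Y.ptSub y).scheme (X.ptSub x).scheme = 0) (W : ptIdx Y y) :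
    ∃ (W₀ : ptIdx Y y) (W'₀ : ptIdx X x) (_ : W₀.1 ≤ W.1)
      (f : ((Y.ptSub y).res W₀.1).scheme ⟶ ((X.ptSub x).res W'₀.1).scheme) (_ : IsProper f),
      f ≫ W'₀.1.ι ≫ X.ptSubι x = W₀.1.ι ≫ Y.ptSubι y ≫ φ := by
  have hcl : IsClosedMap (redLift φ y x h) := (redLift φ y x h).isClosedMap
  have hBcl : IsClosed ((redLift φ y x h) '' ((W.1 : Set (Y.ptSub y).scheme)ᶜ)) :=
    hcl _ W.1.isOpen.isClosed_compl
  have hgen : ptGen X x ∉ (redLift φ y x h) '' ((W.1 : Set (Y.ptSub y).scheme)ᶜ) := by
    rintro ⟨z, hzW, hz⟩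
    have h1 := pdim_le_of_isClosedMap (Y.ptSub y) (X.ptSub x) (redLift φ y x h)
      (redLift φ y x h).continuous hcl _ z (ptGen X x) hz (pdim_ptGen X x)
    have hne : z ≠ ptGen Y y := by
      intro hzz
      apply hzW
      rw [hzz]
      exact ptGen_mem_of_nonempty Y y W.1 W.2.1
    have h2 := pdim_lt_of_ne_ptGen Y y z hne
    unfold relCodim at hcd
    omega
  let W'₀ : (X.ptSub x).scheme.Opens :=
    ⟨((redLift φ y x h) '' ((W.1 : Set (Y.ptSub y).scheme)ᶜ))ᶜ, hBcl.isOpen_compl⟩
  have hgen' : ptGen X x ∈ W'₀ := hgen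
  have hgenY : ptGen Y y ∈ (redLift φ y x h) ⁻¹ᵁ W'₀ := by
    change (redLift φ y x h) (ptGen Y y) ∈ W'₀
    rw [redLift_ptGen]
    exact hgen'
  refine ⟨⟨(redLift φ y x h) ⁻¹ᵁ W'₀, ⟨ptGen Y y, hgenY⟩,
      IsConstructible.dim_open (Y.ptSub y).mem inferInstance _ ⟨ptGen Y y, hgenY⟩⟩,
    ⟨W'₀, ⟨ptGen X x, hgen'⟩,
      IsConstructible.dim_open (X.ptSub x).mem inferInstance _ ⟨ptGen X x, hgen'⟩⟩, ?_,
    (redLift φ y x h) ∣_ W'₀, inferInstance, ?_⟩
  · intro z hz
    by_contra hzW
    exact hz ⟨z, hzW, rfl⟩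
  · change ((redLift φ y x h) ∣_ W'₀) ≫ W'₀.ι ≫ X.ptSubι x =
      ((redLift φ y x h) ⁻¹ᵁ W'₀).ι ≫ Y.ptSubι y ≫ φ
    rw [← Category.assoc, morphismRestrict_ι, Category.assoc, redLift_ι]

end lemA

section main
variable {V : ObjectProperty Scheme.{u}} [IsConstructible V] {R : Type u} [CommRing R]
  {A : Coefs R}

theorem main16096 (T : PreTheory V R A) (Y X : Obj V) (φ : Y.scheme ⟶ X.scheme) [IsProper φ]
    (y : Y.scheme) (x : X.scheme) : Subsingleton (T.PtPush φ y x) := by
  constructor
  intro L L'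
  have key : L.cpt = L'.cpt := by
    funext M i n
    apply ptGp_hom_ext
    intro W
    obtain ⟨W₀, W'₀, hle, f, hf, hcompat⟩ := exists_small φ y x L.maps_pt L.codim_eq W
    have hrc : relCodim ((Y.ptSub y).res W₀.1).scheme ((X.ptSub x).res W'₀.1).scheme = 0 := by
      have h0 := L.codim_eq
      unfold relCodim at h0 ⊢
      change ((WeilCoh.dim (W'₀.1 : Scheme.{u}) : ℕ) : ℤ) -
        ((WeilCoh.dim (W₀.1 : Scheme.{u}) : ℕ) : ℤ) = 0
      rw [W₀.2.2, W'₀.2.2]
      exact h0
    have h1 := L.cpt_spec M i n W₀ W'₀ f hcompat (by rw [hrc]; ring) (by rw [hrc]; ring)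
    have h2 := L'.cpt_spec M i n W₀ W'₀ f hcompat (by rw [hrc]; ring) (by rw [hrc]; ring)
    apply ModuleCat.hom_ext
    apply LinearMap.ext
    intro β
    have e := ocolimι_res T (Y.ptSub y) (fun U => (U : Set (Y.ptSub y).scheme).Nonempty) i n M
      (U' := W₀) (U := W) hle β
    change (L.cpt M i n).hom (((T.ptι Y y i n W).app M).hom β) =
      (L'.cpt M i n).hom (((T.ptι Y y i n W).app M).hom β)
    have e1 := congrArg (fun t => t.hom ((T.pull (idxRes (Y.ptSub y)
      (fun U => (U : Set (Y.ptSub y).scheme).Nonempty) hle) M i n).hom β)) h1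
    have e2 := congrArg (fun t => t.hom ((T.pull (idxRes (Y.ptSub y)
      (fun U => (U : Set (Y.ptSub y).scheme).Nonempty) hle) M i n).hom β)) h2
    simp only [ModuleCat.hom_comp, LinearMap.comp_apply] at e1 e2
    refine Eq.trans (congrArg _ e) ?_
    refine Eq.trans e1 ?_
    refine Eq.trans e2.symm ?_
    exact (congrArg _ e).symm
  cases L
  cases L'
  simp only at key
  subst key
  rfl

end main

end Groth.Agent.Helper17.BM
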