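import Groth.Agent.Lib.Helper17.BM13
import Groth.Prelude.Def_Curv2
import Mathlib.AlgebraicGeometry.SpreadingOut

/-!
# Borel–Moore theories: the push-forward datum along a normalisation map is bijective
-/

set_option autoImplicit false
universe u
open AlgebraicGeometry CategoryTheory CategoryTheory.Limits Opposite BMCoh TopologicalSpace
open Topology Order Set

namespace Groth.Agent.Helper17.BM
open Groth.Agent.Helper23.BMLib1 Groth.Agent.Helper23.BMLib2

section birat

/-- a morphism with a section over an open `U` whose image is dense, separated and with reduced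
source, is an isomorphism over `U` -/
theorem isIso_morphismRestrict_of_section {Yn Z : Scheme.{u}} (ν : Yn ⟶ Z) [IsSeparated ν]
    [IsReduced Yn] (U : Z.Opens) (σ : U.toScheme ⟶ Yn) (hσ : σ ≫ ν = U.ι)
    (hd : DenseRange σ) : IsIso (ν ∣_ U) := by
  have hrange : Set.range σ ⊆ Set.range (ν ⁻¹ᵁ U).ι := by
    rintro _ ⟨t, rfl⟩
    rw [Scheme.Opens.range_ι]
    change ν (σ t) ∈ U
    have := congrArg (fun g => g.base t) hσ
    change ν (σ t) = U.ι t at this
    rw [this]
    exact t.2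
  let σ' : U.toScheme ⟶ (ν ⁻¹ᵁ U).toScheme := IsOpenImmersion.lift (ν ⁻¹ᵁ U).ι σ hrange
  have hσ' : σ' ≫ (ν ⁻¹ᵁ U).ι = σ := IsOpenImmersion.lift_fac _ _ _
  have hsec : σ' ≫ (ν ∣_ U) = 𝟙 _ := by
    rw [← cancel_mono U.ι, Category.assoc, morphismRestrict_ι, ← Category.assoc, hσ', hσ,
      Category.id_comp]
  haveI : IsClosedImmersion (σ' ≫ (ν ∣_ U)) := by rw [hsec]; infer_instance
  haveI : IsClosedImmersion σ' := IsClosedImmersion.of_comp σ' (ν ∣_ U)
  have hdense : DenseRange σ' := by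
    have h1 : Set.range σ' = (ν ⁻¹ᵁ U).ι ⁻¹' Set.range σ := by
      ext t
      constructor
      · rintro ⟨s, rfl⟩
        refine ⟨s, ?_⟩
        have := congrArg (fun g => g.base s) hσ'
        exact this.symm
      · rintro ⟨s, hs⟩
        refine ⟨s, ?_⟩
        apply (ν ⁻¹ᵁ U).ι.isOpenEmbedding.injective
        have := congrArg (fun g => g.base s) hσ'
        exact this.trans hs
    change Dense (Set.range σ')
    rw [h1]
    exact Dense.preimage hd (ν ⁻¹ᵁ U).ι.isOpenEmbedding.isOpenMap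
  haveI : Surjective σ' := by
    constructor
    rw [← Set.range_eq_univ]
    have hcl : IsClosed (Set.range σ') := σ'.isClosedEmbedding.isClosed_range
    rw [← hcl.closure_eq]
    exact hdense.closure_eq
  haveI : IsIso σ' := isIso_of_isClosedImmersion_of_surjective σ'
  have : ν ∣_ U = inv σ' := by
    rw [← cancel_epi σ', hsec, IsIso.hom_inv_id]
  rw [this]
  infer_instance

/-- the normalisation of an integral scheme, when locally of finite type, is an isomorphism over
an open neighbourhood of the generic point -/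
theorem exists_isIso_normalization (Z : Scheme.{u}) [IsIntegral Z]
    [QuasiCompact (Z.fromSpecStalk (genericPoint Z))]
    [QuasiSeparated (Z.fromSpecStalk (genericPoint Z))]
    [LocallyOfFiniteType (Curv2.normalizationι Z)] :
    ∃ U : Z.Opens, genericPoint Z ∈ U ∧ IsIso (Curv2.normalizationι Z ∣_ U) := by
  have hfac : (Z.fromSpecStalk (genericPoint Z)).toNormalization ≫ Curv2.normalizationι Z =
      Z.fromSpecStalk (genericPoint Z) ≫ 𝟙 Z := by
    rw [Category.comp_id]
    exact Scheme.Hom.toNormalization_fromNormalization _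
  obtain ⟨U, hxU, σ, h1, h2⟩ := spread_out_of_isGermInjective' (𝟙 Z) (Curv2.normalizationι Z)
    (Z.fromSpecStalk (genericPoint Z)).toNormalization hfac
  refine ⟨U, hxU, ?_⟩
  rw [Category.comp_id] at h2
  haveI : IsIntegralHom (Curv2.normalizationι Z) := by
    change @IsIntegralHom (Z.fromSpecStalk (genericPoint Z)).normalization Z
      (Z.fromSpecStalk (genericPoint Z)).fromNormalization
    infer_instance
  haveI : IsReduced (Curv2.normalization Z) := by
    change IsReduced (Z.fromSpecStalk (genericPoint Z)).normalization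
    infer_instance
  apply isIso_morphismRestrict_of_section (Curv2.normalizationι Z) U σ h2
  have hdom : DenseRange (Z.fromSpecStalk (genericPoint Z)).toNormalization :=
    Scheme.Hom.denseRange _
  apply hdom.mono
  rw [h1]
  rintro _ ⟨t, rfl⟩
  exact ⟨_, rfl⟩

/-- an isomorphism over an open stays one over smaller opens -/
theorem isIso_morphismRestrict_of_le {Y Z : Scheme.{u}} (f : Y ⟶ Z) {U' U : Z.Opens} (h : U' ≤ U)
    [IsIso (f ∣_ U)] : IsIso (f ∣_ U') := by
  have hpb := isPullback_resLE f h (f ⁻¹ᵁ U') (f ⁻¹ᵁ U) (f.preimage_mono h) rfl le_rfl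
  rw [Scheme.Hom.resLE_eq_morphismRestrict, Scheme.Hom.resLE_eq_morphismRestrict] at hpb
  have hU : IsIso (f ∣_ U) := inferInstance
  exact (MorphismProperty.isomorphisms Scheme.{u}).of_isPullback hpb hU

end birat

theorem isPullback_morphismRestrict_of_le {Y Z : Scheme.{u}} (f : Y ⟶ Z) {U' U : Z.Opens}
    (h : U' ≤ U) :
    IsPullback (Y.homOfLE (f.preimage_mono h)) (f ∣_ U') (f ∣_ U) (Z.homOfLE h) := by
  have hpb := isPullback_resLE f h (f ⁻¹ᵁ U') (f ⁻¹ᵁ U) (f.preimage_mono h) rfl le_rfl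
  rw [Scheme.Hom.resLE_eq_morphismRestrict, Scheme.Hom.resLE_eq_morphismRestrict] at hpb
  exact hpb

section small
variable {V : ObjectProperty Scheme.{u}} [IsConstructible V]

/-- index of the closure of `x` attached to an open containing its generic point -/
noncomputable abbrev gIdx (X : Obj V) (x : X.scheme) (W' : (X.ptSub x).scheme.Opens)
    (hW' : ptGen X x ∈ W') : ptIdx X x :=
  ⟨W', ⟨ptGen X x, hW'⟩,
    IsConstructible.dim_open (X.ptSub x).mem inferInstance _ ⟨ptGen X x, hW'⟩⟩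

theorem ptGen_preimage {Y X : Obj V} (φ : Y.scheme ⟶ X.scheme) [QuasiCompact φ] (y : Y.scheme)
    (x : X.scheme) (h : φ y = x) (W' : (X.ptSub x).scheme.Opens) (hW' : ptGen X x ∈ W') :
    ptGen Y y ∈ (redLift φ y x h) ⁻¹ᵁ W' := by
  change (redLift φ y x h) (ptGen Y y) ∈ W'
  rw [redLift_ptGen]
  exact hW'

theorem exists_small' {Y X : Obj V} (φ : Y.scheme ⟶ X.scheme) [IsProper φ] (y : Y.scheme)
    (x : X.scheme) (h : φ y = x)
    (hcd : relCodim (Y.ptSub y).scheme (X.ptSub x).scheme = 0) (W : ptIdx Y y) :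
    ∃ W' : (X.ptSub x).scheme.Opens, ptGen X x ∈ W' ∧ (redLift φ y x h) ⁻¹ᵁ W' ≤ W.1 := by
  have hcl : IsClosedMap (redLift φ y x h) := (redLift φ y x h).isClosedMap
  have hBcl : IsClosed ((redLift φ y x h) '' ((W.1 : Set (Y.ptSub y).scheme)ᶜ)) :=
    hcl _ W.1.isOpen.isClosed_compl
  have hgen : ptGen X x ∉ (redLift φ y x h) '' ((W.1 : Set (Y.ptSub y).scheme)ᶜ) := by
    rintro ⟨z, hzW, hz⟩
    have h1 := pdim_le_of_isClosedMap (Y.ptSub y) (X.ptSub x) (redLift φ y x h)
      (redLift φ y x h).continuous hcl _ z (ptGen X x) hz (pdim_ptGen X x)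
    have hne : z ≠ ptGen Y y := by
      intro hzz
      apply hzW
      rw [hzz]
      exact ptGen_mem_of_nonempty Y y W.1 W.2.1
    have h2 := pdim_lt_of_ne_ptGen Y y z hne
    unfold relCodim at hcd
    omega
  refine ⟨⟨((redLift φ y x h) '' ((W.1 : Set (Y.ptSub y).scheme)ᶜ))ᶜ, hBcl.isOpen_compl⟩,
    hgen, ?_⟩
  intro z hz
  by_contra hzW
  exact hz ⟨z, hzW, rfl⟩

theorem relCodim_restrict {Y X : Obj V} (φ : Y.scheme ⟶ X.scheme) [QuasiCompact φ] (y : Y.scheme)
    (x : X.scheme) (h : φ y = x)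
    (hcd : relCodim (Y.ptSub y).scheme (X.ptSub x).scheme = 0)
    (W' : (X.ptSub x).scheme.Opens) (hW' : ptGen X x ∈ W') :
    relCodim ((Y.ptSub y).res ((redLift φ y x h) ⁻¹ᵁ W')).scheme
      ((X.ptSub x).res W').scheme = 0 := by
  unfold relCodim at hcd ⊢
  change ((WeilCoh.dim (W' : Scheme.{u}) : ℕ) : ℤ) -
    ((WeilCoh.dim (((redLift φ y x h) ⁻¹ᵁ W' : (Y.ptSub y).scheme.Opens) : Scheme.{u}) : ℕ) : ℤ) = 0
  rw [(gIdx X x W' hW').2.2, (gIdx Y y _ (ptGen_preimage φ y x h W' hW')).2.2]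
  exact hcd

end small

section bij
variable {V : ObjectProperty Scheme.{u}} [IsConstructible V] {R : Type u} [CommRing R]
  {A : Coefs R}

theorem push_congr (T : PreTheory V R A) {X Y : Obj V} {f g : X.scheme ⟶ Y.scheme} [IsProper f]
    [IsProper g] (h : f = g) (M : A.Cat) (i n i' n' : ℤ)
    (hi : i' = i + 2 * relCodim X.scheme Y.scheme) (hn : n' = n + relCodim X.scheme Y.scheme) :
    T.push f M i n i' n' hi hn = T.push g M i n i' n' hi hn := by
  subst h
  rfl

theorem push_bijective_of_isIso (T : PreTheory V R A) {X Y : Obj V} (f : X.scheme ⟶ Y.scheme)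
    [IsIso f] (M : A.Cat) (i n : ℤ) (hi : i = i + 2 * relCodim X.scheme Y.scheme)
    (hn : n = n + relCodim X.scheme Y.scheme) :
    Function.Bijective (T.push f M i n i n hi hn).hom := by
  have h0 : relCodim X.scheme Y.scheme = 0 := by omega
  have h0' : relCodim Y.scheme X.scheme = 0 := by
    unfold relCodim at h0 ⊢
    omega
  have hXX : relCodim X.scheme X.scheme = 0 := by
    unfold relCodim
    omega
  have hYY : relCodim Y.scheme Y.scheme = 0 := by
    unfold relCodim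
    omega
  have hi2 : i = i + 2 * relCodim Y.scheme X.scheme := by rw [h0']; ring
  have hn2 : n = n + relCodim Y.scheme X.scheme := by rw [h0']; ring
  have e1 : T.push f M i n i n hi hn ≫ T.push (inv f) M i n i n hi2 hn2 = 𝟙 _ := by
    rw [T.push_comp f (inv f) M i n i n i n hi hn hi2 hn2 (by rw [hXX]; ring) (by rw [hXX]; ring),
      push_congr T (IsIso.hom_inv_id f) M i n i n _ _]
    exact T.push_id X M i n _ _
  have e2 : T.push (inv f) M i n i n hi2 hn2 ≫ T.push f M i n i n hi hn = 𝟙 _ := by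
    rw [T.push_comp (inv f) f M i n i n i n hi2 hn2 hi hn (by rw [hYY]; ring) (by rw [hYY]; ring),
      push_congr T (IsIso.inv_hom_id f) M i n i n _ _]
    exact T.push_id Y M i n _ _
  rw [Function.bijective_iff_has_inverse]
  refine ⟨(T.push (inv f) M i n i n hi2 hn2).hom, ?_, ?_⟩
  · intro a
    have := congrArg (fun t => t.hom a) e1
    simpa only [ModuleCat.hom_comp, LinearMap.comp_apply, ModuleCat.hom_id, LinearMap.id_apply]
      using this
  · intro a
    have := congrArg (fun t => t.hom a) e2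
    simpa only [ModuleCat.hom_comp, LinearMap.comp_apply, ModuleCat.hom_id, LinearMap.id_apply]
      using this

/-- the determining condition, through the preimage of an open of the closure of `x` -/
theorem cpt_spec_restrict (T : PreTheory V R A) {Y X : Obj V} (φ : Y.scheme ⟶ X.scheme)
    [IsProper φ] (y : Y.scheme) (x : X.scheme) (L : T.PtPush φ y x)
    (W' : (X.ptSub x).scheme.Opens) (hW' : ptGen X x ∈ W') (M : A.Cat) (i n : ℤ)
    (hi' : i = i + 2 * relCodim ((Y.ptSub y).res ((redLift φ y x L.maps_pt) ⁻¹ᵁ W')).scheme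
      ((X.ptSub x).res W').scheme)
    (hn' : n = n + relCodim ((Y.ptSub y).res ((redLift φ y x L.maps_pt) ⁻¹ᵁ W')).scheme
      ((X.ptSub x).res W').scheme) :
    (T.ptι Y y i n (gIdx Y y ((redLift φ y x L.maps_pt) ⁻¹ᵁ W')
        (ptGen_preimage φ y x L.maps_pt W' hW'))).app M ≫ L.cpt M i n =
      T.push (X := (Y.ptSub y).res ((redLift φ y x L.maps_pt) ⁻¹ᵁ W'))
        (Y := (X.ptSub x).res W') ((redLift φ y x L.maps_pt) ∣_ W') M i n i n hi' hn' ≫
        (T.ptι X x i n (gIdx X x W' hW')).app M := by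
  apply L.cpt_spec M i n (gIdx Y y ((redLift φ y x L.maps_pt) ⁻¹ᵁ W')
        (ptGen_preimage φ y x L.maps_pt W' hW')) (gIdx X x W' hW')
    ((redLift φ y x L.maps_pt) ∣_ W')
  change ((redLift φ y x L.maps_pt) ∣_ W') ≫ W'.ι ≫ X.ptSubι x =
    ((redLift φ y x L.maps_pt) ⁻¹ᵁ W').ι ≫ Y.ptSubι y ≫ φ
  rw [← Category.assoc, morphismRestrict_ι, Category.assoc, redLift_ι]

/-- if `φ` is an isomorphism between small opens of the two closures, the datum is bijective -/
theorem cpt_bijective_of_birational (T : PreTheory V R A) {Y X : Obj V} (φ : Y.scheme ⟶ X.scheme)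
    [IsProper φ] (y : Y.scheme) (x : X.scheme) (L : T.PtPush φ y x)
    (U : (X.ptSub x).scheme.Opens) (hU : ptGen X x ∈ U)
    (hiso : ∀ U' : (X.ptSub x).scheme.Opens, U' ≤ U → IsIso ((redLift φ y x L.maps_pt) ∣_ U'))
    (M : A.Cat) (i n : ℤ) : Function.Bijective (L.cpt M i n).hom := by
  have hrc : ∀ (W' : (X.ptSub x).scheme.Opens) (hW' : ptGen X x ∈ W'),
      relCodim ((Y.ptSub y).res ((redLift φ y x L.maps_pt) ⁻¹ᵁ W')).scheme ((X.ptSub x).res W').scheme = 0 :=
    fun W' hW' => relCodim_restrict φ y x L.maps_pt L.codim_eq W' hW'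
  constructor
  · -- injectivity
    rw [injective_iff_map_eq_zero]
    intro a ha
    obtain ⟨W, β, rfl⟩ := ocolim_exists_rep T (Y.ptSub y)
      (fun U => (U : Set (Y.ptSub y).scheme).Nonempty) i n M (idx_directed Y y) a
    obtain ⟨W'₀, hW'₀, hle₀⟩ := exists_small' φ y x L.maps_pt L.codim_eq W
    have hW'₁ : ptGen X x ∈ W'₀ ⊓ U := ⟨hW'₀, hU⟩
    have hle₁ : (redLift φ y x L.maps_pt) ⁻¹ᵁ (W'₀ ⊓ U) ≤ W.1 :=
      le_trans ((redLift φ y x L.maps_pt).preimage_mono inf_le_left) hle₀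
    have e := ocolimι_res T (Y.ptSub y) (fun U => (U : Set (Y.ptSub y).scheme).Nonempty) i n M
      (U' := gIdx Y y ((redLift φ y x L.maps_pt) ⁻¹ᵁ (W'₀ ⊓ U)) (ptGen_preimage φ y x L.maps_pt _ hW'₁)) (U := W) hle₁ β
    have s := congrArg (fun t => t.hom ((T.pull (idxRes (Y.ptSub y)
      (fun U => (U : Set (Y.ptSub y).scheme).Nonempty)
      (U' := gIdx Y y ((redLift φ y x L.maps_pt) ⁻¹ᵁ (W'₀ ⊓ U)) (ptGen_preimage φ y x L.maps_pt _ hW'₁)) (U := W) hle₁)
      M i n).hom β)) (cpt_spec_restrict T φ y x L (W'₀ ⊓ U) hW'₁ M i n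
        (by rw [hrc _ hW'₁]; ring) (by rw [hrc _ hW'₁]; ring))
    simp only [ModuleCat.hom_comp, LinearMap.comp_apply] at s
    have h0 := (s.symm.trans (congrArg _ e.symm)).trans ha
    obtain ⟨W'₂, hle₂, hz⟩ := ocolim_eq_zero T (X.ptSub x)
      (fun U => (U : Set (X.ptSub x).scheme).Nonempty) i n M (idx_directed X x)
      (gIdx X x (W'₀ ⊓ U) hW'₁) _ h0
    have hW'₂ : ptGen X x ∈ W'₂.1 := ptGen_mem_of_nonempty X x W'₂.1 W'₂.2.1
    have hle₂' : W'₂.1 ≤ W'₀ ⊓ U := hle₂
    have hpb := isPullback_morphismRestrict_of_le (redLift φ y x L.maps_pt) hle₂'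
    have hdY : WeilCoh.dim (((redLift φ y x L.maps_pt) ⁻¹ᵁ W'₂.1 : (Y.ptSub y).scheme.Opens) : Scheme.{u}) =
        WeilCoh.dim (((redLift φ y x L.maps_pt) ⁻¹ᵁ (W'₀ ⊓ U) : (Y.ptSub y).scheme.Opens) : Scheme.{u}) :=
      (gIdx Y y _ (ptGen_preimage φ y x L.maps_pt _ hW'₂)).2.2.trans
        (gIdx Y y _ (ptGen_preimage φ y x L.maps_pt _ hW'₁)).2.2.symm
    have hdX : WeilCoh.dim (W'₂.1 : Scheme.{u}) =
        WeilCoh.dim ((W'₀ ⊓ U : (X.ptSub x).scheme.Opens) : Scheme.{u}) :=
      W'₂.2.2.trans (gIdx X x _ hW'₁).2.2.symm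
    have hpb' : IsPullback ((Y.ptSub y).resLE ((redLift φ y x L.maps_pt).preimage_mono hle₂') hdY).hom
        ((redLift φ y x L.maps_pt) ∣_ W'₂.1) ((redLift φ y x L.maps_pt) ∣_ (W'₀ ⊓ U)) ((X.ptSub x).resLE hle₂' hdX).hom := hpb
    have hbc := T.push_pull (X := (Y.ptSub y).res ((redLift φ y x L.maps_pt) ⁻¹ᵁ (W'₀ ⊓ U)))
      (Y := (X.ptSub x).res (W'₀ ⊓ U)) (X' := (Y.ptSub y).res ((redLift φ y x L.maps_pt) ⁻¹ᵁ W'₂.1))
      (Y' := (X.ptSub x).res W'₂.1) ((redLift φ y x L.maps_pt) ∣_ (W'₀ ⊓ U)) ((redLift φ y x L.maps_pt) ∣_ W'₂.1)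
      ((X.ptSub x).resLE hle₂' hdX) ((Y.ptSub y).resLE ((redLift φ y x L.maps_pt).preimage_mono hle₂') hdY) hpb'
      M i n i n (by rw [hrc _ hW'₁]; ring) (by rw [hrc _ hW'₁]; ring)
      (by rw [hrc _ hW'₂]; ring) (by rw [hrc _ hW'₂]; ring)
    have hbc' := congrArg (fun t => t.hom ((T.pull (idxRes (Y.ptSub y)
      (fun U => (U : Set (Y.ptSub y).scheme).Nonempty)
      (U' := gIdx Y y ((redLift φ y x L.maps_pt) ⁻¹ᵁ (W'₀ ⊓ U)) (ptGen_preimage φ y x L.maps_pt _ hW'₁)) (U := W) hle₁)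
      M i n).hom β)) hbc
    simp only [ModuleCat.hom_comp, LinearMap.comp_apply] at hbc'
    haveI : IsIso ((redLift φ y x L.maps_pt) ∣_ W'₂.1) := hiso W'₂.1 (le_trans hle₂' inf_le_right)
    have hinj := (push_bijective_of_isIso T (X := (Y.ptSub y).res ((redLift φ y x L.maps_pt) ⁻¹ᵁ W'₂.1))
      (Y := (X.ptSub x).res W'₂.1) ((redLift φ y x L.maps_pt) ∣_ W'₂.1) M i n
      (by rw [hrc _ hW'₂]; ring) (by rw [hrc _ hW'₂]; ring)).1
    have hz2 : (((T.H i n).map ((Y.ptSub y).resLE ((redLift φ y x L.maps_pt).preimage_mono hle₂') hdY).op).app M).hom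
        ((T.pull (idxRes (Y.ptSub y) (fun U => (U : Set (Y.ptSub y).scheme).Nonempty)
        (U' := gIdx Y y ((redLift φ y x L.maps_pt) ⁻¹ᵁ (W'₀ ⊓ U)) (ptGen_preimage φ y x L.maps_pt _ hW'₁)) (U := W) hle₁)
        M i n).hom β) = 0 := by
      apply hinj
      rw [map_zero]
      refine hbc'.symm.trans ?_
      exact hz
    have e2 := ocolimι_res T (Y.ptSub y) (fun U => (U : Set (Y.ptSub y).scheme).Nonempty) i n M
      (U' := gIdx Y y ((redLift φ y x L.maps_pt) ⁻¹ᵁ W'₂.1) (ptGen_preimage φ y x L.maps_pt _ hW'₂))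
      (U := gIdx Y y ((redLift φ y x L.maps_pt) ⁻¹ᵁ (W'₀ ⊓ U)) (ptGen_preimage φ y x L.maps_pt _ hW'₁))
      ((redLift φ y x L.maps_pt).preimage_mono hle₂')
      ((T.pull (idxRes (Y.ptSub y) (fun U => (U : Set (Y.ptSub y).scheme).Nonempty)
        (U' := gIdx Y y ((redLift φ y x L.maps_pt) ⁻¹ᵁ (W'₀ ⊓ U)) (ptGen_preimage φ y x L.maps_pt _ hW'₁)) (U := W) hle₁)
        M i n).hom β)
    refine e.trans (e2.trans ?_)
    refine (congrArg _ hz2).trans ?_
    exact map_zero _
  · -- surjectivity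
    intro b
    obtain ⟨W', β', rfl⟩ := ocolim_exists_rep T (X.ptSub x)
      (fun U => (U : Set (X.ptSub x).scheme).Nonempty) i n M (idx_directed X x) b
    have hW'' : ptGen X x ∈ W'.1 ⊓ U := ⟨ptGen_mem_of_nonempty X x W'.1 W'.2.1, hU⟩
    have e := ocolimι_res T (X.ptSub x) (fun U => (U : Set (X.ptSub x).scheme).Nonempty) i n M
      (U' := gIdx X x (W'.1 ⊓ U) hW'') (U := W') inf_le_left β'
    haveI : IsIso ((redLift φ y x L.maps_pt) ∣_ (W'.1 ⊓ U)) := hiso (W'.1 ⊓ U) inf_le_right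
    obtain ⟨γ, hγ⟩ := (push_bijective_of_isIso T (X := (Y.ptSub y).res ((redLift φ y x L.maps_pt) ⁻¹ᵁ (W'.1 ⊓ U)))
      (Y := (X.ptSub x).res (W'.1 ⊓ U)) ((redLift φ y x L.maps_pt) ∣_ (W'.1 ⊓ U)) M i n
      (by rw [hrc _ hW'']; ring) (by rw [hrc _ hW'']; ring)).2
      ((T.pull (idxRes (X.ptSub x) (fun U => (U : Set (X.ptSub x).scheme).Nonempty)
        (U' := gIdx X x (W'.1 ⊓ U) hW'') (U := W') inf_le_left) M i n).hom β')
    refine ⟨((T.ptι Y y i n (gIdx Y y ((redLift φ y x L.maps_pt) ⁻¹ᵁ (W'.1 ⊓ U))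
      (ptGen_preimage φ y x L.maps_pt _ hW''))).app M).hom γ, ?_⟩
    have s := congrArg (fun t => t.hom γ) (cpt_spec_restrict T φ y x L (W'.1 ⊓ U) hW'' M i n
        (by rw [hrc _ hW'']; ring) (by rw [hrc _ hW'']; ring))
    simp only [ModuleCat.hom_comp, LinearMap.comp_apply] at s
    refine s.trans ?_
    refine (congrArg _ hγ).trans ?_
    exact e.symm

end bij

section norm
variable {V : ObjectProperty Scheme.{u}} [IsConstructible V] {R : Type u} [CommRing R]
  {A : Coefs R}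

/-- the reduced closure of the generic point of an integral object is the object -/
theorem isIso_ptSubι_genericPoint (Y : Obj V) [IsIntegral Y.scheme] :
    IsIso (Y.ptSubι (genericPoint Y.scheme)) := by
  haveI : Surjective (Y.ptSubι (genericPoint Y.scheme)) := by
    constructor
    rw [← Set.range_eq_univ, range_ptSubι]
    exact (genericPoint_spec Y.scheme).def
  exact isIso_of_isClosedImmersion_of_surjective _

theorem main16095 (T : PreTheory V R A) (X : Obj V) (w : X.scheme)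
    [IsIntegral (X.ptSub w).scheme]
    [QuasiCompact ((X.ptSub w).scheme.fromSpecStalk (genericPoint (X.ptSub w).scheme))]
    [QuasiSeparated ((X.ptSub w).scheme.fromSpecStalk (genericPoint (X.ptSub w).scheme))]
    (Y : Obj V) [IsIntegral Y.scheme] (e : Y.scheme ≅ Curv2.normalization (X.ptSub w).scheme)
    (φ : Y.scheme ⟶ X.scheme) [IsProper φ]
    (hφ : φ = e.hom ≫ Curv2.normalizationι (X.ptSub w).scheme ≫ X.ptSubι w)
    (L : T.PtPush φ (genericPoint Y.scheme) w) (M : A.Cat) (i n : ℤ) :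
    Function.Bijective (L.cpt M i n).hom := by
  haveI : LocallyOfFiniteType (Curv2.normalizationι (X.ptSub w).scheme) := by
    haveI h1 : LocallyOfFiniteType
        ((e.hom ≫ Curv2.normalizationι (X.ptSub w).scheme) ≫ X.ptSubι w) := by
      rw [Category.assoc, ← hφ]
      infer_instance
    haveI h2 : LocallyOfFiniteType (e.hom ≫ Curv2.normalizationι (X.ptSub w).scheme) :=
      locallyOfFiniteType_of_comp _ (X.ptSubι w)
    have h3 : Curv2.normalizationι (X.ptSub w).scheme =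
        e.inv ≫ (e.hom ≫ Curv2.normalizationι (X.ptSub w).scheme) := by
      rw [Iso.inv_hom_id_assoc]
    rw [h3]
    infer_instance
  obtain ⟨U, hU, hUiso⟩ := exists_isIso_normalization (X.ptSub w).scheme
  have hfac0 : redLift φ (genericPoint Y.scheme) w L.maps_pt =
      (Y.ptSubι (genericPoint Y.scheme) ≫ e.hom) ≫ Curv2.normalizationι (X.ptSub w).scheme := by
    rw [← cancel_mono (X.ptSubι w), redLift_ι, hφ]
    simp only [Category.assoc]
  haveI := isIso_ptSubι_genericPoint Y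
  apply cpt_bijective_of_birational T φ (genericPoint Y.scheme) w L U
    (ptGen_mem_of_nonempty X w U ⟨_, hU⟩)
  intro U' hU'
  rw [hfac0, morphismRestrict_comp]
  haveI h5 : IsIso (Curv2.normalizationι (X.ptSub w).scheme ∣_ U') :=
    isIso_morphismRestrict_of_le _ hU'
  haveI h6 : IsIso (Y.ptSubι (genericPoint Y.scheme) ≫ e.hom) := inferInstance
  have key : ∀ {A B : Scheme.{u}} (g : A ⟶ B) [IsIso g] (V : B.Opens), IsIso (g ∣_ V) :=
    fun g _ V => inferInstance
  haveI h7 : IsIso ((Y.ptSubι (genericPoint Y.scheme) ≫ e.hom) ∣_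
      (Curv2.normalizationι (X.ptSub w).scheme ⁻¹ᵁ U')) := key _ _
  exact IsIso.comp_isIso' h7 h5

end norm

end Groth.Agent.Helper17.BM
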