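import Groth.Agent.Lib.Helper17.BM14

/-!
# Borel–Moore theories: residues and proper push-forward, with reduced closed parts
-/

set_option autoImplicit false
universe u
open AlgebraicGeometry CategoryTheory CategoryTheory.Limits Opposite BMCoh TopologicalSpace
open Topology Order Set

namespace Groth.Agent.Helper17.BM
open Groth.Agent.Helper23.BMLib1 Groth.Agent.Helper23.BMLib2

section dimhomeo

/-- a surjective closed immersion does not change the dimension -/
theorem dim_eq_of_surjective_closedImmersion {A B : Scheme.{u}} (k : A ⟶ B) [IsClosedImmersion k]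
    [Surjective k] : WeilCoh.dim A = WeilCoh.dim B := by
  unfold WeilCoh.dim
  apply natDim_congr
  have hhom : IsHomeomorph k :=
    isHomeomorph_iff_isEmbedding_surjective.2 ⟨k.isClosedEmbedding.isEmbedding, k.surjective⟩
  exact IsHomeomorph.topologicalKrullDim_eq _ hhom

end dimhomeo

section respush
variable {V : ObjectProperty Scheme.{u}} [IsConstructible V] {R : Type u} [CommRing R]
  {A : Coefs R}

/-- residues commute with proper push-forward when the closed part upstairs is only
set-theoretically the preimage, for a theory whose residues do not see nilpotents -/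
theorem res_push_of_red (T : PreTheory V R A)
    (hred : ∀ (S : Obj V) (D D'' : Decomp S) (gU : D''.U ⟶ D.U)
      (k : D''.Z.scheme ⟶ D.Z.scheme) [IsClosedImmersion k] [AlgebraicGeometry.Surjective k],
      gU ≫ D.j = D''.j → k ≫ D.i = D''.i →
      ∀ (M : A.Cat) (i n i' n' : ℤ) (hi : i' = i + 1 - 2 * D.codim) (hn : n' = n - D.codim)
        (hi'' : i' = i + 1 - 2 * D''.codim) (hn'' : n' = n - D''.codim)
        (hk : i' = i' + 2 * relCodim D''.Z.scheme D.Z.scheme)
        (hk' : n' = n' + relCodim D''.Z.scheme D.Z.scheme),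
      T.pull gU M i n ≫ T.res D'' M i n i' n' hi'' hn'' ≫ T.push k M i' n' i' n' hk hk' =
        T.res D M i n i' n' hi hn)
    {Xs Ys : Obj V} (DX : Decomp Xs) (DY : Decomp Ys) (f : Ys.scheme ⟶ Xs.scheme) [IsProper f]
    (m : DY.Z.scheme ⟶ DX.Z.scheme) [IsProper m] (fU : DY.U.scheme ⟶ DX.U.scheme) [IsProper fU]
    (hm : DY.i ≫ f = m ≫ DX.i) (hrange : Set.range DY.i = f ⁻¹' Set.range DX.i)
    (hU : IsPullback DY.j.hom fU f DX.j.hom)
    (M : A.Cat) (i n a b c d e k : ℤ)
    (ha : a = i + 1 - 2 * DY.codim) (hb : b = n - DY.codim)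
    (hc : c = i + 2 * relCodim DY.U.scheme DX.U.scheme)
    (hd : d = n + relCodim DY.U.scheme DX.U.scheme)
    (he : e = a + 2 * relCodim DY.Z.scheme DX.Z.scheme)
    (hk : k = b + relCodim DY.Z.scheme DX.Z.scheme)
    (he' : e = c + 1 - 2 * DX.codim) (hk' : k = d - DX.codim) :
    T.res DY M i n a b ha hb ≫ T.push m M a b e k he hk =
      T.push fU M i n c d hc hd ≫ T.res DX M c d e k he' hk' := by
  -- the scheme-theoretic preimage of the closed part
  let Zs : Obj V := ⟨pullback f DX.i,
    IsConstructible.of_isClosedImmersion (pullback.fst f DX.i) Ys.mem⟩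
  let Ds : Decomp Ys :=
    { Z := Zs
      U := DY.U
      i := pullback.fst f DX.i
      closedImm := inferInstance
      j := DY.j
      range_eq := by rw [DY.range_eq, hrange, Scheme.Pullback.range_fst] }
  let kk : DY.Z.scheme ⟶ Zs.scheme := pullback.lift DY.i m hm
  have hk1 : kk ≫ pullback.fst f DX.i = DY.i := pullback.lift_fst _ _ _
  have hk2 : kk ≫ pullback.snd f DX.i = m := pullback.lift_snd _ _ _
  haveI : IsClosedImmersion (kk ≫ pullback.fst f DX.i) := by rw [hk1]; infer_instance
  haveI hkcl : IsClosedImmersion kk := IsClosedImmersion.of_comp kk (pullback.fst f DX.i)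
  haveI hksurj : Surjective kk := by
    constructor
    intro p
    have hp : (pullback.fst f DX.i) p ∈ Set.range DY.i := by
      rw [hrange, ← Scheme.Pullback.range_fst]
      exact ⟨p, rfl⟩
    obtain ⟨z, hz⟩ := hp
    refine ⟨z, ?_⟩
    apply (pullback.fst f DX.i).isClosedEmbedding.injective
    have := congrArg (fun t => t.base z) hk1
    exact this.trans hz
  have hdim : WeilCoh.dim DY.Z.scheme = WeilCoh.dim Zs.scheme :=
    dim_eq_of_surjective_closedImmersion kk
  have hcodim : Ds.codim = DY.codim := by
    change relCodim Zs.scheme Ys.scheme = relCodim DY.Z.scheme Ys.scheme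
    unfold relCodim
    rw [hdim]
  have hrZ : relCodim Zs.scheme DX.Z.scheme = relCodim DY.Z.scheme DX.Z.scheme := by
    unfold relCodim
    rw [hdim]
  have hrk : relCodim DY.Z.scheme Zs.scheme = 0 := by
    unfold relCodim
    rw [hdim]
    ring
  have h1 := T.res_push DX Ds f (pullback.snd f DX.i) fU (IsPullback.of_hasPullback f DX.i) hU
    M i n a b c d e k (by rw [hcodim]; exact ha) (by rw [hcodim]; exact hb) hc hd
    (by rw [hrZ]; exact he) (by rw [hrZ]; exact hk) he' hk'
  have h2 := hred Ys Ds DY (𝟙 DY.U) kk (Category.id_comp _) hk1 M i n a b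
    (by rw [hcodim]; exact ha) (by rw [hcodim]; exact hb) ha hb
    (by rw [hrk]; ring) (by rw [hrk]; ring)
  have h3 := T.push_comp kk (pullback.snd f DX.i) M a b a b e k
    (by rw [hrk]; ring) (by rw [hrk]; ring) (by rw [hrZ]; exact he) (by rw [hrZ]; exact hk) he hk
  rw [push_congr T hk2 M a b e k he hk] at h3
  rw [← h3, ← h1, ← h2, pull_id, Category.id_comp, Category.assoc]

end respush

end Groth.Agent.Helper17.BM
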