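import Groth.Agent.Lib.Helper17.BM15

/-!
# Borel–Moore theories: the first differential and push-forward along a proper morphism
-/

set_option autoImplicit false
universe u
open AlgebraicGeometry CategoryTheory CategoryTheory.Limits Opposite BMCoh TopologicalSpace
open Topology Order Set

namespace Groth.Agent.Helper17.BM
open Groth.Agent.Helper23.BMLib1 Groth.Agent.Helper23.BMLib2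

section cllift
variable {V : ObjectProperty Scheme.{u}} [IsConstructible V]

/-- a morphism from a reduced scheme with image in the closure of `x` factors through the reduced
closure -/
noncomputable def clLift {B : Scheme.{u}} [IsReduced B] (X : Obj V) (x : X.scheme)
    (g : B ⟶ X.scheme) [QuasiCompact g]
    (hg : Set.range g ⊆ closure ({x} : Set X.scheme)) : B ⟶ (X.ptSub x).scheme :=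
  IsClosedImmersion.lift (X.ptSubι x) g (by
    rw [Scheme.IdealSheafData.ker_subschemeι]
    exact vanishingIdeal_le_ker_of_isReduced g ⟨closure ({x} : Set X.scheme), isClosed_closure⟩ hg)

theorem clLift_ι {B : Scheme.{u}} [IsReduced B] (X : Obj V) (x : X.scheme)
    (g : B ⟶ X.scheme) [QuasiCompact g]
    (hg : Set.range g ⊆ closure ({x} : Set X.scheme)) : clLift X x g hg ≫ X.ptSubι x = g :=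
  IsClosedImmersion.lift_fac _ _ _

theorem clLift_apply {B : Scheme.{u}} [IsReduced B] (X : Obj V) (x : X.scheme)
    (g : B ⟶ X.scheme) [QuasiCompact g]
    (hg : Set.range g ⊆ closure ({x} : Set X.scheme)) (b : B) :
    (X.ptSubι x) ((clLift X x g hg) b) = g b :=
  congrArg (fun t => t.base b) (clLift_ι X x g hg)

instance {B : Scheme.{u}} [IsReduced B] (X : Obj V) (x : X.scheme)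
    (g : B ⟶ X.scheme) [IsProper g]
    (hg : Set.range g ⊆ closure ({x} : Set X.scheme)) : IsProper (clLift X x g hg) := by
  haveI : IsProper (clLift X x g hg ≫ X.ptSubι x) := by
    rw [clLift_ι]
    infer_instance
  exact IsProper.of_comp (clLift X x g hg) (X.ptSubι x)

theorem isProper_resLE {Y X : Scheme.{u}} (g : Y ⟶ X) [IsProper g]
    (U : X.Opens) (W : Y.Opens) (h : W = g ⁻¹ᵁ U) :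
    IsProper (g.resLE U W (le_of_eq h)) := by
  subst h
  rw [Scheme.Hom.resLE_eq_morphismRestrict]
  infer_instance

theorem resLE_apply {Y X : Scheme.{u}} (g : Y ⟶ X) (U : X.Opens) (W : Y.Opens)
    (h : W ≤ g ⁻¹ᵁ U) (p : ↥W) : ((g.resLE U W h) p).1 = g p.1 :=
  congrArg (fun t => t.base p) (Scheme.Hom.resLE_comp_ι g h)

/-- the image of the reduced preimage of the closure of `x` lies in that closure -/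
theorem range_comp_subset (X : Obj V) (x : X.scheme) (Y : Obj V) (φ : Y.scheme ⟶ X.scheme) :
    Set.range (complι Y (φ ⁻¹ᵁ (complCl X x)) ≫ φ) ⊆ closure ({x} : Set X.scheme) := by
  rintro _ ⟨z, rfl⟩
  have h := complι_not_mem Y (φ ⁻¹ᵁ (complCl X x)) z
  by_contra hc
  exact h hc

theorem range_complι_preimage (X : Obj V) (x : X.scheme) (Y : Obj V) (φ : Y.scheme ⟶ X.scheme)
    (y : Y.scheme) :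
    y ∈ Set.range (complι Y (φ ⁻¹ᵁ (complCl X x))) ↔ φ y ∈ closure ({x} : Set X.scheme) := by
  rw [range_complι]
  change ¬ (φ y ∈ (closure ({x} : Set X.scheme))ᶜ) ↔ _
  rw [Set.mem_compl_iff, not_not]

end cllift

section piecepush
variable {V : ObjectProperty Scheme.{u}} [IsConstructible V] {R : Type u} [CommRing R]
  {A : Coefs R}

theorem relCodim_trans (B C D : Scheme.{u}) : relCodim B D = relCodim B C + relCodim C D := by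
  unfold relCodim
  ring

set_option maxHeartbeats 1600000 in
/-- the push-forward to the closure of `x` of a class on a piece of the reduced preimage, in terms
of the push-forward datum at the generic point of the piece -/
theorem piece_push (T : PreTheory V R A) (X : Obj V) (x : X.scheme) (Y : Obj V)
    (φ : Y.scheme ⟶ X.scheme) [IsProper φ] (S : X.scheme.Opens) (hxS : x ∈ S)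
    (z : (complObj Y (φ ⁻¹ᵁ (complCl X x))).scheme) (hz : WeilCoh.codim (complObj Y (φ ⁻¹ᵁ (complCl X x))).scheme z = 0) (Gz : T.PtPush φ ((complι Y (φ ⁻¹ᵁ (complCl X x))) z) x)
    (hwbp : ((complι Y (φ ⁻¹ᵁ (complCl X x))) ⁻¹ᵁ (φ ⁻¹ᵁ S)) ≤ pureLocus (complObj Y (φ ⁻¹ᵁ (complCl X x)))) (hzW : z ∈ ((complι Y (φ ⁻¹ᵁ (complCl X x))) ⁻¹ᵁ (φ ⁻¹ᵁ S)))
    (hdwb : WeilCoh.dim (((complι Y (φ ⁻¹ᵁ (complCl X x))) ⁻¹ᵁ (φ ⁻¹ᵁ S)) : Scheme.{u}) = WeilCoh.dim (complObj Y (φ ⁻¹ᵁ (complCl X x))).scheme)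
    (hmbeq : ((complι Y (φ ⁻¹ᵁ (complCl X x))) ⁻¹ᵁ (φ ⁻¹ᵁ S)) = (clLift X x ((complι Y (φ ⁻¹ᵁ (complCl X x))) ≫ φ) (range_comp_subset X x Y φ)) ⁻¹ᵁ ((X.ptSubι x) ⁻¹ᵁ S))
    [hmP : IsProper ((clLift X x ((complι Y (φ ⁻¹ᵁ (complCl X x))) ≫ φ) (range_comp_subset X x Y φ)).resLE ((X.ptSubι x) ⁻¹ᵁ S) ((complι Y (φ ⁻¹ᵁ (complCl X x))) ⁻¹ᵁ (φ ⁻¹ᵁ S)) (le_of_eq hmbeq))]
    (hrZ : relCodim ((complObj Y (φ ⁻¹ᵁ (complCl X x))).res ((complι Y (φ ⁻¹ᵁ (complCl X x))) ⁻¹ᵁ (φ ⁻¹ᵁ S))).scheme ((X.ptSub x).res ((X.ptSubι x) ⁻¹ᵁ S)).scheme = 0)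
    (M : A.Cat) (i₂ n₂ : ℤ)
    (hiZ : i₂ = i₂ + 2 * relCodim ((complObj Y (φ ⁻¹ᵁ (complCl X x))).res ((complι Y (φ ⁻¹ᵁ (complCl X x))) ⁻¹ᵁ (φ ⁻¹ᵁ S))).scheme ((X.ptSub x).res ((X.ptSubι x) ⁻¹ᵁ S)).scheme)
    (hnZ : n₂ = n₂ + relCodim ((complObj Y (φ ⁻¹ᵁ (complCl X x))).res ((complι Y (φ ⁻¹ᵁ (complCl X x))) ⁻¹ᵁ (φ ⁻¹ᵁ S))).scheme ((X.ptSub x).res ((X.ptSubι x) ⁻¹ᵁ S)).scheme)
    (hq : qMap Y (φ ⁻¹ᵁ (complCl X x)) ((complι Y (φ ⁻¹ᵁ (complCl X x))) z) (complι_not_mem Y (φ ⁻¹ᵁ (complCl X x)) z) ≫ (complι Y (φ ⁻¹ᵁ (complCl X x))) = Y.ptSubι ((complι Y (φ ⁻¹ᵁ (complCl X x))) z))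
    (ρz : T.gp ((complObj Y (φ ⁻¹ᵁ (complCl X x))).res (piece (complObj Y (φ ⁻¹ᵁ (complCl X x))) ((complι Y (φ ⁻¹ᵁ (complCl X x))) ⁻¹ᵁ (φ ⁻¹ᵁ S)) z)) M i₂ n₂) :
    ((T.ptι X x i₂ n₂ (ptIdxOf X x S hxS)).app M).hom
      ((T.push (X := (complObj Y (φ ⁻¹ᵁ (complCl X x))).res ((complι Y (φ ⁻¹ᵁ (complCl X x))) ⁻¹ᵁ (φ ⁻¹ᵁ S))) (Y := (X.ptSub x).res ((X.ptSubι x) ⁻¹ᵁ S))
        ((clLift X x ((complι Y (φ ⁻¹ᵁ (complCl X x))) ≫ φ) (range_comp_subset X x Y φ)).resLE ((X.ptSubι x) ⁻¹ᵁ S) ((complι Y (φ ⁻¹ᵁ (complCl X x))) ⁻¹ᵁ (φ ⁻¹ᵁ S)) (le_of_eq hmbeq)) M i₂ n₂ i₂ n₂ hiZ hnZ).hom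
        ((T.push (pieceHom (complObj Y (φ ⁻¹ᵁ (complCl X x))) ((complι Y (φ ⁻¹ᵁ (complCl X x))) ⁻¹ᵁ (φ ⁻¹ᵁ S)) hwbp z hz hzW hdwb).hom M i₂ n₂ i₂ n₂
          (hi_of_hom (pieceHom (complObj Y (φ ⁻¹ᵁ (complCl X x))) ((complι Y (φ ⁻¹ᵁ (complCl X x))) ⁻¹ᵁ (φ ⁻¹ᵁ S)) hwbp z hz hzW hdwb) i₂)
          (hn_of_hom (pieceHom (complObj Y (φ ⁻¹ᵁ (complCl X x))) ((complι Y (φ ⁻¹ᵁ (complCl X x))) ⁻¹ᵁ (φ ⁻¹ᵁ S)) hwbp z hz hzW hdwb) n₂)).hom ρz)) =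
      (Gz.cpt M i₂ n₂).hom
        (((T.ptι Y ((complι Y (φ ⁻¹ᵁ (complCl X x))) z) i₂ n₂ (qIdx Y (complObj Y (φ ⁻¹ᵁ (complCl X x))) (complι Y (φ ⁻¹ᵁ (complCl X x))) z
          (qMap Y (φ ⁻¹ᵁ (complCl X x)) ((complι Y (φ ⁻¹ᵁ (complCl X x))) z) (complι_not_mem Y (φ ⁻¹ᵁ (complCl X x)) z)) hq (piece (complObj Y (φ ⁻¹ᵁ (complCl X x))) ((complι Y (φ ⁻¹ᵁ (complCl X x))) ⁻¹ᵁ (φ ⁻¹ᵁ S)) z)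
          ⟨hzW, self_mem_pureOpen (complObj Y (φ ⁻¹ᵁ (complCl X x))) z⟩)).app M).hom
          ((T.pull (eQ (Y.ptSub ((complι Y (φ ⁻¹ᵁ (complCl X x))) z)) (complObj Y (φ ⁻¹ᵁ (complCl X x)))
            (qMap Y (φ ⁻¹ᵁ (complCl X x)) ((complι Y (φ ⁻¹ᵁ (complCl X x))) z) (complι_not_mem Y (φ ⁻¹ᵁ (complCl X x)) z)) (piece (complObj Y (φ ⁻¹ᵁ (complCl X x))) ((complι Y (φ ⁻¹ᵁ (complCl X x))) ⁻¹ᵁ (φ ⁻¹ᵁ S)) z)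
            (piece_subset_range_q Y (complObj Y (φ ⁻¹ᵁ (complCl X x))) (complι Y (φ ⁻¹ᵁ (complCl X x))) z hz
              (qMap Y (φ ⁻¹ᵁ (complCl X x)) ((complι Y (φ ⁻¹ᵁ (complCl X x))) z) (complι_not_mem Y (φ ⁻¹ᵁ (complCl X x)) z)) hq ((complι Y (φ ⁻¹ᵁ (complCl X x))) ⁻¹ᵁ (φ ⁻¹ᵁ S)))) M i₂ n₂).hom ρz)) := by
  -- dimensions
  have hrP : relCodim ((complObj Y (φ ⁻¹ᵁ (complCl X x))).res (piece (complObj Y (φ ⁻¹ᵁ (complCl X x))) ((complι Y (φ ⁻¹ᵁ (complCl X x))) ⁻¹ᵁ (φ ⁻¹ᵁ S)) z)).scheme ((complObj Y (φ ⁻¹ᵁ (complCl X x))).res ((complι Y (φ ⁻¹ᵁ (complCl X x))) ⁻¹ᵁ (φ ⁻¹ᵁ S))).scheme = 0 :=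
    relCodim_eq_zero' (pieceHom (complObj Y (φ ⁻¹ᵁ (complCl X x))) ((complι Y (φ ⁻¹ᵁ (complCl X x))) ⁻¹ᵁ (φ ⁻¹ᵁ S)) hwbp z hz hzW hdwb)
  have hrPX : relCodim ((complObj Y (φ ⁻¹ᵁ (complCl X x))).res (piece (complObj Y (φ ⁻¹ᵁ (complCl X x))) ((complι Y (φ ⁻¹ᵁ (complCl X x))) ⁻¹ᵁ (φ ⁻¹ᵁ S)) z)).scheme
      ((X.ptSub x).res ((X.ptSubι x) ⁻¹ᵁ S)).scheme = 0 := by
    rw [relCodim_trans _ ((complObj Y (φ ⁻¹ᵁ (complCl X x))).res ((complι Y (φ ⁻¹ᵁ (complCl X x))) ⁻¹ᵁ (φ ⁻¹ᵁ S))).scheme _, hrP, hrZ]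
    ring
  have hrE : relCodim ((Y.ptSub ((complι Y (φ ⁻¹ᵁ (complCl X x))) z)).res ((qMap Y (φ ⁻¹ᵁ (complCl X x)) ((complι Y (φ ⁻¹ᵁ (complCl X x))) z)
      (complι_not_mem Y (φ ⁻¹ᵁ (complCl X x)) z)) ⁻¹ᵁ (piece (complObj Y (φ ⁻¹ᵁ (complCl X x))) ((complι Y (φ ⁻¹ᵁ (complCl X x))) ⁻¹ᵁ (φ ⁻¹ᵁ S)) z))).scheme
      ((complObj Y (φ ⁻¹ᵁ (complCl X x))).res (piece (complObj Y (φ ⁻¹ᵁ (complCl X x))) ((complι Y (φ ⁻¹ᵁ (complCl X x))) ⁻¹ᵁ (φ ⁻¹ᵁ S)) z)).scheme = 0 :=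
    relCodim_eq_zero' (eQ (Y.ptSub ((complι Y (φ ⁻¹ᵁ (complCl X x))) z)) (complObj Y (φ ⁻¹ᵁ (complCl X x)))
      (qMap Y (φ ⁻¹ᵁ (complCl X x)) ((complι Y (φ ⁻¹ᵁ (complCl X x))) z) (complι_not_mem Y (φ ⁻¹ᵁ (complCl X x)) z)) (piece (complObj Y (φ ⁻¹ᵁ (complCl X x))) ((complι Y (φ ⁻¹ᵁ (complCl X x))) ⁻¹ᵁ (φ ⁻¹ᵁ S)) z)
      (piece_subset_range_q Y (complObj Y (φ ⁻¹ᵁ (complCl X x))) (complι Y (φ ⁻¹ᵁ (complCl X x))) z hz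
        (qMap Y (φ ⁻¹ᵁ (complCl X x)) ((complι Y (φ ⁻¹ᵁ (complCl X x))) z) (complι_not_mem Y (φ ⁻¹ᵁ (complCl X x)) z)) hq ((complι Y (φ ⁻¹ᵁ (complCl X x))) ⁻¹ᵁ (φ ⁻¹ᵁ S))))
  have hrG : relCodim ((Y.ptSub ((complι Y (φ ⁻¹ᵁ (complCl X x))) z)).res ((qMap Y (φ ⁻¹ᵁ (complCl X x)) ((complι Y (φ ⁻¹ᵁ (complCl X x))) z)
      (complι_not_mem Y (φ ⁻¹ᵁ (complCl X x)) z)) ⁻¹ᵁ (piece (complObj Y (φ ⁻¹ᵁ (complCl X x))) ((complι Y (φ ⁻¹ᵁ (complCl X x))) ⁻¹ᵁ (φ ⁻¹ᵁ S)) z))).scheme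
      ((X.ptSub x).res ((X.ptSubι x) ⁻¹ᵁ S)).scheme = 0 := by
    rw [relCodim_trans _ ((complObj Y (φ ⁻¹ᵁ (complCl X x))).res (piece (complObj Y (φ ⁻¹ᵁ (complCl X x))) ((complι Y (φ ⁻¹ᵁ (complCl X x))) ⁻¹ᵁ (φ ⁻¹ᵁ S)) z)).scheme _, hrE, hrPX]
    ring
  have hiP : i₂ = i₂ + 2 * relCodim ((complObj Y (φ ⁻¹ᵁ (complCl X x))).res (piece (complObj Y (φ ⁻¹ᵁ (complCl X x))) ((complι Y (φ ⁻¹ᵁ (complCl X x))) ⁻¹ᵁ (φ ⁻¹ᵁ S)) z)).scheme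
      ((complObj Y (φ ⁻¹ᵁ (complCl X x))).res ((complι Y (φ ⁻¹ᵁ (complCl X x))) ⁻¹ᵁ (φ ⁻¹ᵁ S))).scheme := by rw [hrP]; ring
  have hnP : n₂ = n₂ + relCodim ((complObj Y (φ ⁻¹ᵁ (complCl X x))).res (piece (complObj Y (φ ⁻¹ᵁ (complCl X x))) ((complι Y (φ ⁻¹ᵁ (complCl X x))) ⁻¹ᵁ (φ ⁻¹ᵁ S)) z)).scheme
      ((complObj Y (φ ⁻¹ᵁ (complCl X x))).res ((complι Y (φ ⁻¹ᵁ (complCl X x))) ⁻¹ᵁ (φ ⁻¹ᵁ S))).scheme := by rw [hrP]; ring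
  have hiPX : i₂ = i₂ + 2 * relCodim ((complObj Y (φ ⁻¹ᵁ (complCl X x))).res (piece (complObj Y (φ ⁻¹ᵁ (complCl X x))) ((complι Y (φ ⁻¹ᵁ (complCl X x))) ⁻¹ᵁ (φ ⁻¹ᵁ S)) z)).scheme
      ((X.ptSub x).res ((X.ptSubι x) ⁻¹ᵁ S)).scheme := by rw [hrPX]; ring
  have hnPX : n₂ = n₂ + relCodim ((complObj Y (φ ⁻¹ᵁ (complCl X x))).res (piece (complObj Y (φ ⁻¹ᵁ (complCl X x))) ((complι Y (φ ⁻¹ᵁ (complCl X x))) ⁻¹ᵁ (φ ⁻¹ᵁ S)) z)).scheme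
      ((X.ptSub x).res ((X.ptSubι x) ⁻¹ᵁ S)).scheme := by rw [hrPX]; ring
  have hiE : i₂ = i₂ + 2 * relCodim ((Y.ptSub ((complι Y (φ ⁻¹ᵁ (complCl X x))) z)).res ((qMap Y (φ ⁻¹ᵁ (complCl X x)) ((complι Y (φ ⁻¹ᵁ (complCl X x))) z)
      (complι_not_mem Y (φ ⁻¹ᵁ (complCl X x)) z)) ⁻¹ᵁ (piece (complObj Y (φ ⁻¹ᵁ (complCl X x))) ((complι Y (φ ⁻¹ᵁ (complCl X x))) ⁻¹ᵁ (φ ⁻¹ᵁ S)) z))).scheme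
      ((complObj Y (φ ⁻¹ᵁ (complCl X x))).res (piece (complObj Y (φ ⁻¹ᵁ (complCl X x))) ((complι Y (φ ⁻¹ᵁ (complCl X x))) ⁻¹ᵁ (φ ⁻¹ᵁ S)) z)).scheme := by rw [hrE]; ring
  have hnE : n₂ = n₂ + relCodim ((Y.ptSub ((complι Y (φ ⁻¹ᵁ (complCl X x))) z)).res ((qMap Y (φ ⁻¹ᵁ (complCl X x)) ((complι Y (φ ⁻¹ᵁ (complCl X x))) z)
      (complι_not_mem Y (φ ⁻¹ᵁ (complCl X x)) z)) ⁻¹ᵁ (piece (complObj Y (φ ⁻¹ᵁ (complCl X x))) ((complι Y (φ ⁻¹ᵁ (complCl X x))) ⁻¹ᵁ (φ ⁻¹ᵁ S)) z))).scheme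
      ((complObj Y (φ ⁻¹ᵁ (complCl X x))).res (piece (complObj Y (φ ⁻¹ᵁ (complCl X x))) ((complι Y (φ ⁻¹ᵁ (complCl X x))) ⁻¹ᵁ (φ ⁻¹ᵁ S)) z)).scheme := by rw [hrE]; ring
  have hiG : i₂ = i₂ + 2 * relCodim ((Y.ptSub ((complι Y (φ ⁻¹ᵁ (complCl X x))) z)).res ((qMap Y (φ ⁻¹ᵁ (complCl X x)) ((complι Y (φ ⁻¹ᵁ (complCl X x))) z)
      (complι_not_mem Y (φ ⁻¹ᵁ (complCl X x)) z)) ⁻¹ᵁ (piece (complObj Y (φ ⁻¹ᵁ (complCl X x))) ((complι Y (φ ⁻¹ᵁ (complCl X x))) ⁻¹ᵁ (φ ⁻¹ᵁ S)) z))).scheme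
      ((X.ptSub x).res ((X.ptSubι x) ⁻¹ᵁ S)).scheme := by rw [hrG]; ring
  have hnG : n₂ = n₂ + relCodim ((Y.ptSub ((complι Y (φ ⁻¹ᵁ (complCl X x))) z)).res ((qMap Y (φ ⁻¹ᵁ (complCl X x)) ((complι Y (φ ⁻¹ᵁ (complCl X x))) z)
      (complι_not_mem Y (φ ⁻¹ᵁ (complCl X x)) z)) ⁻¹ᵁ (piece (complObj Y (φ ⁻¹ᵁ (complCl X x))) ((complι Y (φ ⁻¹ᵁ (complCl X x))) ⁻¹ᵁ (φ ⁻¹ᵁ S)) z))).scheme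
      ((X.ptSub x).res ((X.ptSubι x) ⁻¹ᵁ S)).scheme := by rw [hrG]; ring
  -- the proper morphism from the piece of the closure of the point upstairs
  haveI hP1 : IsProper ((pieceHom (complObj Y (φ ⁻¹ᵁ (complCl X x))) ((complι Y (φ ⁻¹ᵁ (complCl X x))) ⁻¹ᵁ (φ ⁻¹ᵁ S)) hwbp z hz hzW hdwb).hom ≫
      (clLift X x ((complι Y (φ ⁻¹ᵁ (complCl X x))) ≫ φ) (range_comp_subset X x Y φ)).resLE ((X.ptSubι x) ⁻¹ᵁ S) ((complι Y (φ ⁻¹ᵁ (complCl X x))) ⁻¹ᵁ (φ ⁻¹ᵁ S)) (le_of_eq hmbeq)) := inferInstance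
  haveI hP2 : IsProper ((eQ (Y.ptSub ((complι Y (φ ⁻¹ᵁ (complCl X x))) z)) (complObj Y (φ ⁻¹ᵁ (complCl X x)))
      (qMap Y (φ ⁻¹ᵁ (complCl X x)) ((complι Y (φ ⁻¹ᵁ (complCl X x))) z) (complι_not_mem Y (φ ⁻¹ᵁ (complCl X x)) z)) (piece (complObj Y (φ ⁻¹ᵁ (complCl X x))) ((complι Y (φ ⁻¹ᵁ (complCl X x))) ⁻¹ᵁ (φ ⁻¹ᵁ S)) z)
      (piece_subset_range_q Y (complObj Y (φ ⁻¹ᵁ (complCl X x))) (complι Y (φ ⁻¹ᵁ (complCl X x))) z hz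
        (qMap Y (φ ⁻¹ᵁ (complCl X x)) ((complι Y (φ ⁻¹ᵁ (complCl X x))) z) (complι_not_mem Y (φ ⁻¹ᵁ (complCl X x)) z)) hq ((complι Y (φ ⁻¹ᵁ (complCl X x))) ⁻¹ᵁ (φ ⁻¹ᵁ S)))).hom ≫
      (pieceHom (complObj Y (φ ⁻¹ᵁ (complCl X x))) ((complι Y (φ ⁻¹ᵁ (complCl X x))) ⁻¹ᵁ (φ ⁻¹ᵁ S)) hwbp z hz hzW hdwb).hom ≫
      (clLift X x ((complι Y (φ ⁻¹ᵁ (complCl X x))) ≫ φ) (range_comp_subset X x Y φ)).resLE ((X.ptSubι x) ⁻¹ᵁ S) ((complι Y (φ ⁻¹ᵁ (complCl X x))) ⁻¹ᵁ (φ ⁻¹ᵁ S)) (le_of_eq hmbeq)) := inferInstance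
  have hcompat : ((eQ (Y.ptSub ((complι Y (φ ⁻¹ᵁ (complCl X x))) z)) (complObj Y (φ ⁻¹ᵁ (complCl X x)))
      (qMap Y (φ ⁻¹ᵁ (complCl X x)) ((complι Y (φ ⁻¹ᵁ (complCl X x))) z) (complι_not_mem Y (φ ⁻¹ᵁ (complCl X x)) z)) (piece (complObj Y (φ ⁻¹ᵁ (complCl X x))) ((complι Y (φ ⁻¹ᵁ (complCl X x))) ⁻¹ᵁ (φ ⁻¹ᵁ S)) z)
      (piece_subset_range_q Y (complObj Y (φ ⁻¹ᵁ (complCl X x))) (complι Y (φ ⁻¹ᵁ (complCl X x))) z hz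
        (qMap Y (φ ⁻¹ᵁ (complCl X x)) ((complι Y (φ ⁻¹ᵁ (complCl X x))) z) (complι_not_mem Y (φ ⁻¹ᵁ (complCl X x)) z)) hq ((complι Y (φ ⁻¹ᵁ (complCl X x))) ⁻¹ᵁ (φ ⁻¹ᵁ S)))).hom ≫
      (pieceHom (complObj Y (φ ⁻¹ᵁ (complCl X x))) ((complι Y (φ ⁻¹ᵁ (complCl X x))) ⁻¹ᵁ (φ ⁻¹ᵁ S)) hwbp z hz hzW hdwb).hom ≫
      (clLift X x ((complι Y (φ ⁻¹ᵁ (complCl X x))) ≫ φ) (range_comp_subset X x Y φ)).resLE ((X.ptSubι x) ⁻¹ᵁ S) ((complι Y (φ ⁻¹ᵁ (complCl X x))) ⁻¹ᵁ (φ ⁻¹ᵁ S)) (le_of_eq hmbeq)) ≫ ((X.ptSubι x) ⁻¹ᵁ S).ι ≫ (X.ptSubι x) =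
      ((qMap Y (φ ⁻¹ᵁ (complCl X x)) ((complι Y (φ ⁻¹ᵁ (complCl X x))) z) (complι_not_mem Y (φ ⁻¹ᵁ (complCl X x)) z)) ⁻¹ᵁ (piece (complObj Y (φ ⁻¹ᵁ (complCl X x))) ((complι Y (φ ⁻¹ᵁ (complCl X x))) ⁻¹ᵁ (φ ⁻¹ᵁ S)) z)).ι ≫
        Y.ptSubι ((complι Y (φ ⁻¹ᵁ (complCl X x))) z) ≫ φ := by
    have hle' : piece (complObj Y (φ ⁻¹ᵁ (complCl X x))) ((complι Y (φ ⁻¹ᵁ (complCl X x))) ⁻¹ᵁ (φ ⁻¹ᵁ S)) z ≤ ((complι Y (φ ⁻¹ᵁ (complCl X x))) ⁻¹ᵁ (φ ⁻¹ᵁ S)) := inf_le_left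
    change (((qMap Y (φ ⁻¹ᵁ (complCl X x)) ((complι Y (φ ⁻¹ᵁ (complCl X x))) z) (complι_not_mem Y (φ ⁻¹ᵁ (complCl X x)) z)) ∣_ (piece (complObj Y (φ ⁻¹ᵁ (complCl X x))) ((complι Y (φ ⁻¹ᵁ (complCl X x))) ⁻¹ᵁ (φ ⁻¹ᵁ S)) z)) ≫
      (complObj Y (φ ⁻¹ᵁ (complCl X x))).scheme.homOfLE hle' ≫ (clLift X x ((complι Y (φ ⁻¹ᵁ (complCl X x))) ≫ φ) (range_comp_subset X x Y φ)).resLE ((X.ptSubι x) ⁻¹ᵁ S) ((complι Y (φ ⁻¹ᵁ (complCl X x))) ⁻¹ᵁ (φ ⁻¹ᵁ S)) (le_of_eq hmbeq)) ≫ ((X.ptSubι x) ⁻¹ᵁ S).ι ≫ (X.ptSubι x) = _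
    simp only [Category.assoc]
    rw [Scheme.Hom.resLE_comp_ι_assoc, clLift_ι, Scheme.homOfLE_ι_assoc,
      morphismRestrict_ι_assoc, ← Category.assoc (qMap Y (φ ⁻¹ᵁ (complCl X x)) ((complι Y (φ ⁻¹ᵁ (complCl X x))) z)
        (complι_not_mem Y (φ ⁻¹ᵁ (complCl X x)) z)), hq]
  have hG := Gz.cpt_spec M i₂ n₂ (qIdx Y (complObj Y (φ ⁻¹ᵁ (complCl X x))) (complι Y (φ ⁻¹ᵁ (complCl X x))) z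
      (qMap Y (φ ⁻¹ᵁ (complCl X x)) ((complι Y (φ ⁻¹ᵁ (complCl X x))) z) (complι_not_mem Y (φ ⁻¹ᵁ (complCl X x)) z)) hq (piece (complObj Y (φ ⁻¹ᵁ (complCl X x))) ((complι Y (φ ⁻¹ᵁ (complCl X x))) ⁻¹ᵁ (φ ⁻¹ᵁ S)) z)
      ⟨hzW, self_mem_pureOpen (complObj Y (φ ⁻¹ᵁ (complCl X x))) z⟩) (ptIdxOf X x S hxS)
    ((eQ (Y.ptSub ((complι Y (φ ⁻¹ᵁ (complCl X x))) z)) (complObj Y (φ ⁻¹ᵁ (complCl X x)))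
      (qMap Y (φ ⁻¹ᵁ (complCl X x)) ((complι Y (φ ⁻¹ᵁ (complCl X x))) z) (complι_not_mem Y (φ ⁻¹ᵁ (complCl X x)) z)) (piece (complObj Y (φ ⁻¹ᵁ (complCl X x))) ((complι Y (φ ⁻¹ᵁ (complCl X x))) ⁻¹ᵁ (φ ⁻¹ᵁ S)) z)
      (piece_subset_range_q Y (complObj Y (φ ⁻¹ᵁ (complCl X x))) (complι Y (φ ⁻¹ᵁ (complCl X x))) z hz
        (qMap Y (φ ⁻¹ᵁ (complCl X x)) ((complι Y (φ ⁻¹ᵁ (complCl X x))) z) (complι_not_mem Y (φ ⁻¹ᵁ (complCl X x)) z)) hq ((complι Y (φ ⁻¹ᵁ (complCl X x))) ⁻¹ᵁ (φ ⁻¹ᵁ S)))).hom ≫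
      (pieceHom (complObj Y (φ ⁻¹ᵁ (complCl X x))) ((complι Y (φ ⁻¹ᵁ (complCl X x))) ⁻¹ᵁ (φ ⁻¹ᵁ S)) hwbp z hz hzW hdwb).hom ≫
      (clLift X x ((complι Y (φ ⁻¹ᵁ (complCl X x))) ≫ φ) (range_comp_subset X x Y φ)).resLE ((X.ptSubι x) ⁻¹ᵁ S) ((complι Y (φ ⁻¹ᵁ (complCl X x))) ⁻¹ᵁ (φ ⁻¹ᵁ S)) (le_of_eq hmbeq)) hcompat hiG hnG
  have hG' := congrArg (fun t => t.hom ((T.pull (eQ (Y.ptSub ((complι Y (φ ⁻¹ᵁ (complCl X x))) z)) (complObj Y (φ ⁻¹ᵁ (complCl X x)))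
          (qMap Y (φ ⁻¹ᵁ (complCl X x)) ((complι Y (φ ⁻¹ᵁ (complCl X x))) z) (complι_not_mem Y (φ ⁻¹ᵁ (complCl X x)) z)) (piece (complObj Y (φ ⁻¹ᵁ (complCl X x))) ((complι Y (φ ⁻¹ᵁ (complCl X x))) ⁻¹ᵁ (φ ⁻¹ᵁ S)) z)
          (piece_subset_range_q Y (complObj Y (φ ⁻¹ᵁ (complCl X x))) (complι Y (φ ⁻¹ᵁ (complCl X x))) z hz
            (qMap Y (φ ⁻¹ᵁ (complCl X x)) ((complι Y (φ ⁻¹ᵁ (complCl X x))) z) (complι_not_mem Y (φ ⁻¹ᵁ (complCl X x)) z)) hq ((complι Y (φ ⁻¹ᵁ (complCl X x))) ⁻¹ᵁ (φ ⁻¹ᵁ S)))) M i₂ n₂).hom ρz)) hG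
  simp only [ModuleCat.hom_comp, LinearMap.comp_apply] at hG'
  refine Eq.trans ?_ hG'.symm
  congr 1
  have hc1 := T.push_comp (X := (Y.ptSub ((complι Y (φ ⁻¹ᵁ (complCl X x))) z)).res ((qMap Y (φ ⁻¹ᵁ (complCl X x)) ((complι Y (φ ⁻¹ᵁ (complCl X x))) z)
      (complι_not_mem Y (φ ⁻¹ᵁ (complCl X x)) z)) ⁻¹ᵁ (piece (complObj Y (φ ⁻¹ᵁ (complCl X x))) ((complι Y (φ ⁻¹ᵁ (complCl X x))) ⁻¹ᵁ (φ ⁻¹ᵁ S)) z)))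
    (Y := (complObj Y (φ ⁻¹ᵁ (complCl X x))).res (piece (complObj Y (φ ⁻¹ᵁ (complCl X x))) ((complι Y (φ ⁻¹ᵁ (complCl X x))) ⁻¹ᵁ (φ ⁻¹ᵁ S)) z)) (Z := (X.ptSub x).res ((X.ptSubι x) ⁻¹ᵁ S))
    (eQ (Y.ptSub ((complι Y (φ ⁻¹ᵁ (complCl X x))) z)) (complObj Y (φ ⁻¹ᵁ (complCl X x)))
      (qMap Y (φ ⁻¹ᵁ (complCl X x)) ((complι Y (φ ⁻¹ᵁ (complCl X x))) z) (complι_not_mem Y (φ ⁻¹ᵁ (complCl X x)) z)) (piece (complObj Y (φ ⁻¹ᵁ (complCl X x))) ((complι Y (φ ⁻¹ᵁ (complCl X x))) ⁻¹ᵁ (φ ⁻¹ᵁ S)) z)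
      (piece_subset_range_q Y (complObj Y (φ ⁻¹ᵁ (complCl X x))) (complι Y (φ ⁻¹ᵁ (complCl X x))) z hz
        (qMap Y (φ ⁻¹ᵁ (complCl X x)) ((complι Y (φ ⁻¹ᵁ (complCl X x))) z) (complι_not_mem Y (φ ⁻¹ᵁ (complCl X x)) z)) hq ((complι Y (φ ⁻¹ᵁ (complCl X x))) ⁻¹ᵁ (φ ⁻¹ᵁ S)))).hom
    ((pieceHom (complObj Y (φ ⁻¹ᵁ (complCl X x))) ((complι Y (φ ⁻¹ᵁ (complCl X x))) ⁻¹ᵁ (φ ⁻¹ᵁ S)) hwbp z hz hzW hdwb).hom ≫ (clLift X x ((complι Y (φ ⁻¹ᵁ (complCl X x))) ≫ φ) (range_comp_subset X x Y φ)).resLE ((X.ptSubι x) ⁻¹ᵁ S) ((complι Y (φ ⁻¹ᵁ (complCl X x))) ⁻¹ᵁ (φ ⁻¹ᵁ S)) (le_of_eq hmbeq))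
    M i₂ n₂ i₂ n₂ i₂ n₂ hiE hnE hiPX hnPX hiG hnG
  have hc2 := T.push_comp (X := (complObj Y (φ ⁻¹ᵁ (complCl X x))).res (piece (complObj Y (φ ⁻¹ᵁ (complCl X x))) ((complι Y (φ ⁻¹ᵁ (complCl X x))) ⁻¹ᵁ (φ ⁻¹ᵁ S)) z)) (Y := (complObj Y (φ ⁻¹ᵁ (complCl X x))).res ((complι Y (φ ⁻¹ᵁ (complCl X x))) ⁻¹ᵁ (φ ⁻¹ᵁ S)))
    (Z := (X.ptSub x).res ((X.ptSubι x) ⁻¹ᵁ S)) (pieceHom (complObj Y (φ ⁻¹ᵁ (complCl X x))) ((complι Y (φ ⁻¹ᵁ (complCl X x))) ⁻¹ᵁ (φ ⁻¹ᵁ S)) hwbp z hz hzW hdwb).hom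
    ((clLift X x ((complι Y (φ ⁻¹ᵁ (complCl X x))) ≫ φ) (range_comp_subset X x Y φ)).resLE ((X.ptSubι x) ⁻¹ᵁ S) ((complι Y (φ ⁻¹ᵁ (complCl X x))) ⁻¹ᵁ (φ ⁻¹ᵁ S)) (le_of_eq hmbeq)) M i₂ n₂ i₂ n₂ i₂ n₂ hiP hnP hiZ hnZ hiPX hnPX
  have c1 := congrArg (fun t => t.hom ((T.pull (eQ (Y.ptSub ((complι Y (φ ⁻¹ᵁ (complCl X x))) z)) (complObj Y (φ ⁻¹ᵁ (complCl X x)))
          (qMap Y (φ ⁻¹ᵁ (complCl X x)) ((complι Y (φ ⁻¹ᵁ (complCl X x))) z) (complι_not_mem Y (φ ⁻¹ᵁ (complCl X x)) z)) (piece (complObj Y (φ ⁻¹ᵁ (complCl X x))) ((complι Y (φ ⁻¹ᵁ (complCl X x))) ⁻¹ᵁ (φ ⁻¹ᵁ S)) z)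
          (piece_subset_range_q Y (complObj Y (φ ⁻¹ᵁ (complCl X x))) (complι Y (φ ⁻¹ᵁ (complCl X x))) z hz
            (qMap Y (φ ⁻¹ᵁ (complCl X x)) ((complι Y (φ ⁻¹ᵁ (complCl X x))) z) (complι_not_mem Y (φ ⁻¹ᵁ (complCl X x)) z)) hq ((complι Y (φ ⁻¹ᵁ (complCl X x))) ⁻¹ᵁ (φ ⁻¹ᵁ S)))) M i₂ n₂).hom ρz)) hc1
  have c2 := congrArg (fun t => t.hom ρz) hc2
  simp only [ModuleCat.hom_comp, LinearMap.comp_apply] at c1 c2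
  refine Eq.trans ?_ c1
  rw [pull_push_iso T (eQ (Y.ptSub ((complι Y (φ ⁻¹ᵁ (complCl X x))) z)) (complObj Y (φ ⁻¹ᵁ (complCl X x)))
      (qMap Y (φ ⁻¹ᵁ (complCl X x)) ((complι Y (φ ⁻¹ᵁ (complCl X x))) z) (complι_not_mem Y (φ ⁻¹ᵁ (complCl X x)) z)) (piece (complObj Y (φ ⁻¹ᵁ (complCl X x))) ((complι Y (φ ⁻¹ᵁ (complCl X x))) ⁻¹ᵁ (φ ⁻¹ᵁ S)) z)
      (piece_subset_range_q Y (complObj Y (φ ⁻¹ᵁ (complCl X x))) (complι Y (φ ⁻¹ᵁ (complCl X x))) z hz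
        (qMap Y (φ ⁻¹ᵁ (complCl X x)) ((complι Y (φ ⁻¹ᵁ (complCl X x))) z) (complι_not_mem Y (φ ⁻¹ᵁ (complCl X x)) z)) hq ((complι Y (φ ⁻¹ᵁ (complCl X x))) ⁻¹ᵁ (φ ⁻¹ᵁ S))))
    (eQinv (Y.ptSub ((complι Y (φ ⁻¹ᵁ (complCl X x))) z)) (complObj Y (φ ⁻¹ᵁ (complCl X x)))
      (qMap Y (φ ⁻¹ᵁ (complCl X x)) ((complι Y (φ ⁻¹ᵁ (complCl X x))) z) (complι_not_mem Y (φ ⁻¹ᵁ (complCl X x)) z)) (piece (complObj Y (φ ⁻¹ᵁ (complCl X x))) ((complι Y (φ ⁻¹ᵁ (complCl X x))) ⁻¹ᵁ (φ ⁻¹ᵁ S)) z)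
      (piece_subset_range_q Y (complObj Y (φ ⁻¹ᵁ (complCl X x))) (complι Y (φ ⁻¹ᵁ (complCl X x))) z hz
        (qMap Y (φ ⁻¹ᵁ (complCl X x)) ((complι Y (φ ⁻¹ᵁ (complCl X x))) z) (complι_not_mem Y (φ ⁻¹ᵁ (complCl X x)) z)) hq ((complι Y (φ ⁻¹ᵁ (complCl X x))) ⁻¹ᵁ (φ ⁻¹ᵁ S))))
    (eQinv_eQ (Y.ptSub ((complι Y (φ ⁻¹ᵁ (complCl X x))) z)) (complObj Y (φ ⁻¹ᵁ (complCl X x)))
      (qMap Y (φ ⁻¹ᵁ (complCl X x)) ((complι Y (φ ⁻¹ᵁ (complCl X x))) z) (complι_not_mem Y (φ ⁻¹ᵁ (complCl X x)) z)) (piece (complObj Y (φ ⁻¹ᵁ (complCl X x))) ((complι Y (φ ⁻¹ᵁ (complCl X x))) ⁻¹ᵁ (φ ⁻¹ᵁ S)) z)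
      (piece_subset_range_q Y (complObj Y (φ ⁻¹ᵁ (complCl X x))) (complι Y (φ ⁻¹ᵁ (complCl X x))) z hz
        (qMap Y (φ ⁻¹ᵁ (complCl X x)) ((complι Y (φ ⁻¹ᵁ (complCl X x))) z) (complι_not_mem Y (φ ⁻¹ᵁ (complCl X x)) z)) hq ((complι Y (φ ⁻¹ᵁ (complCl X x))) ⁻¹ᵁ (φ ⁻¹ᵁ S)))) M i₂ n₂ hiE hnE ρz]
  exact c2

end piecepush

section core
variable {V : ObjectProperty Scheme.{u}} [IsConstructible V] {R : Type u} [CommRing R]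
  {A : Coefs R}

set_option maxHeartbeats 1600000 in
/-- the main computation: the residue at `x` of the push-forward of a class of the generic point
of `Y`, in terms of the residues at the points of `Y` above `x` -/
theorem core16097 (T : PreTheory V R A)
    (hred : ∀ (S : Obj V) (D D'' : Decomp S) (gU : D''.U ⟶ D.U)
      (k : D''.Z.scheme ⟶ D.Z.scheme) [IsClosedImmersion k] [AlgebraicGeometry.Surjective k],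
      gU ≫ D.j = D''.j → k ≫ D.i = D''.i →
      ∀ (M : A.Cat) (i n i' n' : ℤ) (hi : i' = i + 1 - 2 * D.codim) (hn : n' = n - D.codim)
        (hi'' : i' = i + 1 - 2 * D''.codim) (hn'' : n' = n - D''.codim)
        (hk : i' = i' + 2 * relCodim D''.Z.scheme D.Z.scheme)
        (hk' : n' = n' + relCodim D''.Z.scheme D.Z.scheme),
      T.pull gU M i n ≫ T.res D'' M i n i' n' hi'' hn'' ≫ T.push k M i' n' i' n' hk hk' =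
        T.res D M i n i' n' hi hn)
    (X : Obj V) (q : ℕ) (w : X.cdPt q) (x : X.cdPt (q + 1)) (Y : Obj V)
    (φ : Y.scheme ⟶ X.scheme) [IsProper φ] (η : Y.scheme)
    (hη : WeilCoh.codim Y.scheme η = 0)
    (hY0 : ∀ y : Y.scheme, WeilCoh.codim Y.scheme y = 0 → y = η)
    (P : T.PushData X q) (Q : T.ResData X q) (L : T.PtPush φ η w.1)
    (P' : T.PushData Y 0) (Q' : T.ResData Y 0)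
    (hdimY : WeilCoh.dim Y.scheme + q = WeilCoh.dim X.scheme)
    (hdimZb : WeilCoh.dim (complObj Y (φ ⁻¹ᵁ (complCl X x.1))).scheme + (0 + 1) = WeilCoh.dim Y.scheme)
    [Fintype ((complObj Y (φ ⁻¹ᵁ (complCl X x.1))).cdPt 0)]
    (G : ∀ z : (complObj Y (φ ⁻¹ᵁ (complCl X x.1))).cdPt 0, T.PtPush φ ((complι Y (φ ⁻¹ᵁ (complCl X x.1))) z.1) x.1)
    (S : X.scheme.Opens) (hS : ContainsFj X q S) (hxS : x.1 ∈ S)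
    (hSpure : ∀ z : (complObj Y (φ ⁻¹ᵁ (complCl X x.1))).scheme, φ ((complι Y (φ ⁻¹ᵁ (complCl X x.1))) z) ∈ S → z ∈ pureLocus (complObj Y (φ ⁻¹ᵁ (complCl X x.1))))
    (hSF : ∀ z : (complObj Y (φ ⁻¹ᵁ (complCl X x.1))).scheme, WeilCoh.codim (complObj Y (φ ⁻¹ᵁ (complCl X x.1))).scheme z = 0 → φ ((complι Y (φ ⁻¹ᵁ (complCl X x.1))) z) ∈ S)
    (M : A.Cat) (i n i₁ n₁ i₂ n₂ i₃ n₃ : ℤ)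
    (h1 : i₁ = i + 2 * (q : ℤ)) (h1' : n₁ = n + (q : ℤ))
    (h2 : i₂ = i₁ + 1 - 2 * ((q : ℤ) + 1)) (h2' : n₂ = n₁ - ((q : ℤ) + 1))
    (h3 : i₃ = i + 2 * ((0 : ℕ) : ℤ)) (h3' : n₃ = n + ((0 : ℕ) : ℤ))
    (h4 : i₂ = i₃ + 1 - 2 * (((0 : ℕ) : ℤ) + 1)) (h4' : n₂ = n₃ - (((0 : ℕ) : ℤ) + 1))
    (hgen : ptGen Y η ∈ ((redLift φ η w.1 L.maps_pt) ⁻¹ᵁ ((X.ptSubι w.1) ⁻¹ᵁ (S ⊓ complCl X x.1))))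
    (α₁ : T.gp ((Y.ptSub η).res ((redLift φ η w.1 L.maps_pt) ⁻¹ᵁ ((X.ptSubι w.1) ⁻¹ᵁ (S ⊓ complCl X x.1)))) M i n) :
    (Q.cpt x M i₁ n₁ i₂ n₂ h2 h2').hom ((P.cpt w M i n i₁ n₁ h1 h1').hom ((L.cpt M i n).hom
      (((T.ptι Y η i n (gIdx Y η ((redLift φ η w.1 L.maps_pt) ⁻¹ᵁ ((X.ptSubι w.1) ⁻¹ᵁ (S ⊓ complCl X x.1))) hgen)).app M).hom α₁))) =
    ∑ z : (complObj Y (φ ⁻¹ᵁ (complCl X x.1))).cdPt 0, ((G z).cpt M i₂ n₂).hom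
      ((Q'.cpt (xOf Y 0 (φ ⁻¹ᵁ (complCl X x.1)) hdimZb z) M i₃ n₃ i₂ n₂ h4 h4').hom
        ((P'.cpt ⟨η, hη⟩ M i n i₃ n₃ h3 h3').hom
          (((T.ptι Y η i n (gIdx Y η ((redLift φ η w.1 L.maps_pt) ⁻¹ᵁ ((X.ptSubι w.1) ⁻¹ᵁ (S ⊓ complCl X x.1))) hgen)).app M).hom α₁))) := by
  classical
  -- basic facts on the opens of `X`
  have hu1F : ContainsFj X q (S ⊓ complCl X x.1) := containsFj_diff_closure' X q x.1 x.2 S (S ⊓ complCl X x.1) hS rfl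
  have hdS : WeilCoh.dim (S : Scheme.{u}) = WeilCoh.dim X.scheme := dim_eq_of_containsFj X q S hS
  have hdu1 : WeilCoh.dim (((S ⊓ complCl X x.1) : X.scheme.Opens) : Scheme.{u}) = WeilCoh.dim X.scheme :=
    dim_eq_of_containsFj X q (S ⊓ complCl X x.1) hu1F
  have hwu1 : w.1 ∈ (S ⊓ complCl X x.1) := hu1F w.1 (le_of_eq w.2)
  have hgenw : ptGen X w.1 ∈ ((X.ptSubι w.1) ⁻¹ᵁ (S ⊓ complCl X x.1)) := by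
    change (X.ptSubι w.1) (ptGen X w.1) ∈ (S ⊓ complCl X x.1)
    rw [ptSubι_ptGen]
    exact hwu1
  have hφη : φ η = w.1 := L.maps_pt
  -- opens of `Y`
  have hytF : ContainsFj Y 0 (φ ⁻¹ᵁ (S ⊓ complCl X x.1)) := by
    intro y hy
    rw [hY0 y (Nat.le_zero.1 hy)]
    change φ η ∈ (S ⊓ complCl X x.1)
    rw [hφη]
    exact hwu1
  have hyoF : ContainsFj Y 0 (φ ⁻¹ᵁ S) := by
    intro y hy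
    exact (hytF y hy).1
  have hdyt : WeilCoh.dim ((φ ⁻¹ᵁ (S ⊓ complCl X x.1)) : Scheme.{u}) = WeilCoh.dim Y.scheme :=
    dim_eq_of_containsFj Y 0 (φ ⁻¹ᵁ (S ⊓ complCl X x.1)) hytF
  have hdyo : WeilCoh.dim ((φ ⁻¹ᵁ S) : Scheme.{u}) = WeilCoh.dim Y.scheme :=
    dim_eq_of_containsFj Y 0 (φ ⁻¹ᵁ S) hyoF
  have hleY : (φ ⁻¹ᵁ (S ⊓ complCl X x.1)) ≤ (φ ⁻¹ᵁ S) := φ.preimage_mono inf_le_left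
  have hsetY : (((φ ⁻¹ᵁ (S ⊓ complCl X x.1)) : Y.scheme.Opens) : Set Y.scheme) =
      (((φ ⁻¹ᵁ S) : Y.scheme.Opens) : Set Y.scheme) ∩ (Set.range (complι Y (φ ⁻¹ᵁ (complCl X x.1))))ᶜ := by
    rw [range_complι, compl_compl]
    rfl
  -- the closed part upstairs
  have hwbF : ContainsFj (complObj Y (φ ⁻¹ᵁ (complCl X x.1))) 0 ((complι Y (φ ⁻¹ᵁ (complCl X x.1))) ⁻¹ᵁ (φ ⁻¹ᵁ S)) := by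
    intro z hz
    exact hSF z (Nat.le_zero.1 hz)
  have hwbp : ((complι Y (φ ⁻¹ᵁ (complCl X x.1))) ⁻¹ᵁ (φ ⁻¹ᵁ S)) ≤ pureLocus (complObj Y (φ ⁻¹ᵁ (complCl X x.1))) := fun z hz => hSpure z hz
  have hdwb : WeilCoh.dim (((complι Y (φ ⁻¹ᵁ (complCl X x.1))) ⁻¹ᵁ (φ ⁻¹ᵁ S)) : Scheme.{u}) = WeilCoh.dim (complObj Y (φ ⁻¹ᵁ (complCl X x.1))).scheme :=
    dim_eq_of_containsFj (complObj Y (φ ⁻¹ᵁ (complCl X x.1))) 0 ((complι Y (φ ⁻¹ᵁ (complCl X x.1))) ⁻¹ᵁ (φ ⁻¹ᵁ S)) hwbF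
  -- dimensions
  have hpx : WeilCoh.pdim X.scheme x.1 + (q + 1) = WeilCoh.dim X.scheme := by
    have h1 := x.2
    have h2 := pdim_le_dim X x.1
    unfold WeilCoh.codim at h1
    omega
  have hdwx : WeilCoh.dim (((X.ptSubι x.1) ⁻¹ᵁ S) : Scheme.{u}) = WeilCoh.pdim X.scheme x.1 := by
    rw [(ptIdxOf X x.1 S hxS).2.2, dim_ptSub]
  have hpη : WeilCoh.pdim Y.scheme η = WeilCoh.dim Y.scheme := by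
    have h2 := pdim_le_dim Y η
    unfold WeilCoh.codim at hη
    omega
  have hdw1 : WeilCoh.dim (((redLift φ η w.1 L.maps_pt) ⁻¹ᵁ ((X.ptSubι w.1) ⁻¹ᵁ (S ⊓ complCl X x.1))) : Scheme.{u}) = WeilCoh.dim Y.scheme := by
    rw [(gIdx Y η ((redLift φ η w.1 L.maps_pt) ⁻¹ᵁ ((X.ptSubι w.1) ⁻¹ᵁ (S ⊓ complCl X x.1))) hgen).2.2, dim_ptSub, hpη]
  -- the morphisms
  haveI hfP : IsProper (φ.resLE S (φ ⁻¹ᵁ S) le_rfl) := isProper_resLE φ S (φ ⁻¹ᵁ S) rfl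
  haveI hfUP : IsProper (φ.resLE (S ⊓ complCl X x.1) (φ ⁻¹ᵁ (S ⊓ complCl X x.1)) le_rfl) := isProper_resLE φ (S ⊓ complCl X x.1) (φ ⁻¹ᵁ (S ⊓ complCl X x.1)) rfl
  have hmbeq : ((complι Y (φ ⁻¹ᵁ (complCl X x.1))) ⁻¹ᵁ (φ ⁻¹ᵁ S)) = (clLift X x.1 ((complι Y (φ ⁻¹ᵁ (complCl X x.1))) ≫ φ) (range_comp_subset X x.1 Y φ)) ⁻¹ᵁ ((X.ptSubι x.1) ⁻¹ᵁ S) := by
    ext z
    change φ ((complι Y (φ ⁻¹ᵁ (complCl X x.1))) z) ∈ S ↔ (X.ptSubι x.1) ((clLift X x.1 ((complι Y (φ ⁻¹ᵁ (complCl X x.1))) ≫ φ) (range_comp_subset X x.1 Y φ)) z) ∈ S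
    rw [clLift_apply]
    rfl
  haveI hmP : IsProper ((clLift X x.1 ((complι Y (φ ⁻¹ᵁ (complCl X x.1))) ≫ φ) (range_comp_subset X x.1 Y φ)).resLE ((X.ptSubι x.1) ⁻¹ᵁ S) ((complι Y (φ ⁻¹ᵁ (complCl X x.1))) ⁻¹ᵁ (φ ⁻¹ᵁ S)) (le_of_eq hmbeq)) := isProper_resLE (clLift X x.1 ((complι Y (φ ⁻¹ᵁ (complCl X x.1))) ≫ φ) (range_comp_subset X x.1 Y φ)) ((X.ptSubι x.1) ⁻¹ᵁ S) ((complι Y (φ ⁻¹ᵁ (complCl X x.1))) ⁻¹ᵁ (φ ⁻¹ᵁ S)) hmbeq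
  -- the two decompositions
  have hcX : (decompPt X x.1 S ((X.ptSubι x.1) ⁻¹ᵁ S) rfl (S ⊓ complCl X x.1) inf_le_left rfl (hdu1.trans hdS.symm)).codim =
      (q : ℤ) + 1 :=
    codim_decompPt X q x S (ptIdxOf X x.1 S hxS) rfl (S ⊓ complCl X x.1) inf_le_left rfl (hdu1.trans hdS.symm) hdS
  have hcY : (decompCl Y (complObj Y (φ ⁻¹ᵁ (complCl X x.1))) (complι Y (φ ⁻¹ᵁ (complCl X x.1))) (φ ⁻¹ᵁ S) ((complι Y (φ ⁻¹ᵁ (complCl X x.1))) ⁻¹ᵁ (φ ⁻¹ᵁ S)) rfl (φ ⁻¹ᵁ (S ⊓ complCl X x.1)) hleY hsetY (hdyt.trans hdyo.symm)).codim =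
      ((0 + 1 : ℕ) : ℤ) :=
    relCodim_cl Y (complObj Y (φ ⁻¹ᵁ (complCl X x.1))) (0 + 1) 0 hdimZb (φ ⁻¹ᵁ S) hdyo ((complι Y (φ ⁻¹ᵁ (complCl X x.1))) ⁻¹ᵁ (φ ⁻¹ᵁ S)) hwbF
  have hrU : relCodim (Y.res (φ ⁻¹ᵁ (S ⊓ complCl X x.1))).scheme (X.res (S ⊓ complCl X x.1)).scheme = (q : ℤ) := by
    unfold relCodim
    change ((WeilCoh.dim (((S ⊓ complCl X x.1) : X.scheme.Opens) : Scheme.{u}) : ℕ) : ℤ) - ((WeilCoh.dim ((φ ⁻¹ᵁ (S ⊓ complCl X x.1)) : Scheme.{u}) : ℕ) : ℤ) = q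
    rw [hdu1, hdyt]
    omega
  have hrZ : relCodim ((complObj Y (φ ⁻¹ᵁ (complCl X x.1))).res ((complι Y (φ ⁻¹ᵁ (complCl X x.1))) ⁻¹ᵁ (φ ⁻¹ᵁ S))).scheme ((X.ptSub x.1).res ((X.ptSubι x.1) ⁻¹ᵁ S)).scheme = 0 := by
    unfold relCodim
    change ((WeilCoh.dim (((X.ptSubι x.1) ⁻¹ᵁ S) : Scheme.{u}) : ℕ) : ℤ) - ((WeilCoh.dim (((complι Y (φ ⁻¹ᵁ (complCl X x.1))) ⁻¹ᵁ (φ ⁻¹ᵁ S)) : Scheme.{u}) : ℕ) : ℤ) = 0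
    rw [hdwx, hdwb]
    omega
  -- the compatibility of the residues with the push-forward
  have hm : (decompCl Y (complObj Y (φ ⁻¹ᵁ (complCl X x.1))) (complι Y (φ ⁻¹ᵁ (complCl X x.1))) (φ ⁻¹ᵁ S) ((complι Y (φ ⁻¹ᵁ (complCl X x.1))) ⁻¹ᵁ (φ ⁻¹ᵁ S)) rfl (φ ⁻¹ᵁ (S ⊓ complCl X x.1)) hleY hsetY (hdyt.trans hdyo.symm)).i ≫
      φ.resLE S (φ ⁻¹ᵁ S) le_rfl = (clLift X x.1 ((complι Y (φ ⁻¹ᵁ (complCl X x.1))) ≫ φ) (range_comp_subset X x.1 Y φ)).resLE ((X.ptSubι x.1) ⁻¹ᵁ S) ((complι Y (φ ⁻¹ᵁ (complCl X x.1))) ⁻¹ᵁ (φ ⁻¹ᵁ S)) (le_of_eq hmbeq) ≫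
      (decompPt X x.1 S ((X.ptSubι x.1) ⁻¹ᵁ S) rfl (S ⊓ complCl X x.1) inf_le_left rfl (hdu1.trans hdS.symm)).i := by
    change (complι Y (φ ⁻¹ᵁ (complCl X x.1))).resLE (φ ⁻¹ᵁ S) ((complι Y (φ ⁻¹ᵁ (complCl X x.1))) ⁻¹ᵁ (φ ⁻¹ᵁ S)) (le_of_eq rfl) ≫ φ.resLE S (φ ⁻¹ᵁ S) le_rfl =
      (clLift X x.1 ((complι Y (φ ⁻¹ᵁ (complCl X x.1))) ≫ φ) (range_comp_subset X x.1 Y φ)).resLE ((X.ptSubι x.1) ⁻¹ᵁ S) ((complι Y (φ ⁻¹ᵁ (complCl X x.1))) ⁻¹ᵁ (φ ⁻¹ᵁ S)) (le_of_eq hmbeq) ≫ (X.ptSubι x.1).resLE S ((X.ptSubι x.1) ⁻¹ᵁ S) (le_of_eq rfl)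
    rw [← cancel_mono S.ι, Category.assoc, Category.assoc, Scheme.Hom.resLE_comp_ι,
      Scheme.Hom.resLE_comp_ι, ← Category.assoc, ← Category.assoc, Scheme.Hom.resLE_comp_ι,
      Scheme.Hom.resLE_comp_ι, Category.assoc, Category.assoc, clLift_ι]
  have hrange : Set.range (decompCl Y (complObj Y (φ ⁻¹ᵁ (complCl X x.1))) (complι Y (φ ⁻¹ᵁ (complCl X x.1))) (φ ⁻¹ᵁ S) ((complι Y (φ ⁻¹ᵁ (complCl X x.1))) ⁻¹ᵁ (φ ⁻¹ᵁ S)) rfl (φ ⁻¹ᵁ (S ⊓ complCl X x.1)) hleY hsetY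
      (hdyt.trans hdyo.symm)).i = (φ.resLE S (φ ⁻¹ᵁ S) le_rfl) ⁻¹' Set.range
      (decompPt X x.1 S ((X.ptSubι x.1) ⁻¹ᵁ S) rfl (S ⊓ complCl X x.1) inf_le_left rfl (hdu1.trans hdS.symm)).i := by
    change Set.range ((complι Y (φ ⁻¹ᵁ (complCl X x.1))).resLE (φ ⁻¹ᵁ S) ((complι Y (φ ⁻¹ᵁ (complCl X x.1))) ⁻¹ᵁ (φ ⁻¹ᵁ S)) (le_of_eq rfl)) = (φ.resLE S (φ ⁻¹ᵁ S) le_rfl) ⁻¹'
      Set.range ((X.ptSubι x.1).resLE S ((X.ptSubι x.1) ⁻¹ᵁ S) (le_of_eq rfl))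
    rw [range_resLE_cl (complι Y (φ ⁻¹ᵁ (complCl X x.1))) (φ ⁻¹ᵁ S) ((complι Y (φ ⁻¹ᵁ (complCl X x.1))) ⁻¹ᵁ (φ ⁻¹ᵁ S)) rfl, range_resLE_cl (X.ptSubι x.1) S ((X.ptSubι x.1) ⁻¹ᵁ S) rfl]
    ext p
    change (p.1 : Y.scheme) ∈ Set.range (complι Y (φ ⁻¹ᵁ (complCl X x.1))) ↔
      (((φ.resLE S (φ ⁻¹ᵁ S) le_rfl) p).1 : X.scheme) ∈ Set.range (X.ptSubι x.1)
    rw [resLE_apply, range_ptSubι, range_complι_preimage]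
  have hpbU : IsPullback (decompCl Y (complObj Y (φ ⁻¹ᵁ (complCl X x.1))) (complι Y (φ ⁻¹ᵁ (complCl X x.1))) (φ ⁻¹ᵁ S) ((complι Y (φ ⁻¹ᵁ (complCl X x.1))) ⁻¹ᵁ (φ ⁻¹ᵁ S)) rfl (φ ⁻¹ᵁ (S ⊓ complCl X x.1)) hleY hsetY
      (hdyt.trans hdyo.symm)).j.hom (φ.resLE (S ⊓ complCl X x.1) (φ ⁻¹ᵁ (S ⊓ complCl X x.1)) le_rfl) (φ.resLE S (φ ⁻¹ᵁ S) le_rfl)
      (decompPt X x.1 S ((X.ptSubι x.1) ⁻¹ᵁ S) rfl (S ⊓ complCl X x.1) inf_le_left rfl (hdu1.trans hdS.symm)).j.hom :=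
    isPullback_resLE φ (inf_le_left : (S ⊓ complCl X x.1) ≤ S) (φ ⁻¹ᵁ (S ⊓ complCl X x.1)) (φ ⁻¹ᵁ S) hleY rfl le_rfl
  have KI := res_push_of_red T hred
    (decompPt X x.1 S ((X.ptSubι x.1) ⁻¹ᵁ S) rfl (S ⊓ complCl X x.1) inf_le_left rfl (hdu1.trans hdS.symm))
    (decompCl Y (complObj Y (φ ⁻¹ᵁ (complCl X x.1))) (complι Y (φ ⁻¹ᵁ (complCl X x.1))) (φ ⁻¹ᵁ S) ((complι Y (φ ⁻¹ᵁ (complCl X x.1))) ⁻¹ᵁ (φ ⁻¹ᵁ S)) rfl (φ ⁻¹ᵁ (S ⊓ complCl X x.1)) hleY hsetY (hdyt.trans hdyo.symm))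
    (φ.resLE S (φ ⁻¹ᵁ S) le_rfl) ((clLift X x.1 ((complι Y (φ ⁻¹ᵁ (complCl X x.1))) ≫ φ) (range_comp_subset X x.1 Y φ)).resLE ((X.ptSubι x.1) ⁻¹ᵁ S) ((complι Y (φ ⁻¹ᵁ (complCl X x.1))) ⁻¹ᵁ (φ ⁻¹ᵁ S)) (le_of_eq hmbeq)) (φ.resLE (S ⊓ complCl X x.1) (φ ⁻¹ᵁ (S ⊓ complCl X x.1)) le_rfl)
    hm hrange hpbU M i₃ n₃ i₂ n₂ i₁ n₁ i₂ n₂
    (by rw [hcY]; push_cast; omega) (by rw [hcY]; push_cast; omega)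
    (by rw [hrU]; omega) (by rw [hrU]; omega)
    (by rw [hrZ]; ring) (by rw [hrZ]; ring)
    (by rw [hcX]; omega) (by rw [hcX]; omega)
  -- Step 1: the push-forward datum of `Y` at its generic point
  have hκeq : ((redLift φ η w.1 L.maps_pt) ⁻¹ᵁ ((X.ptSubι w.1) ⁻¹ᵁ (S ⊓ complCl X x.1))) = (Y.ptSubι η) ⁻¹ᵁ (φ ⁻¹ᵁ (S ⊓ complCl X x.1)) := by
    ext p
    change (X.ptSubι w.1) ((redLift φ η w.1 L.maps_pt) p) ∈ (S ⊓ complCl X x.1) ↔ φ ((Y.ptSubι η) p) ∈ (S ⊓ complCl X x.1)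
    have hp := congrArg (fun t => t.base p) (redLift_ι φ η w.1 L.maps_pt)
    change (X.ptSubι w.1) ((redLift φ η w.1 L.maps_pt) p) = φ ((Y.ptSubι η) p) at hp
    rw [hp]
  haveI hκcl : IsClosedImmersion ((Y.ptSubι η).resLE (φ ⁻¹ᵁ (S ⊓ complCl X x.1)) ((redLift φ η w.1 L.maps_pt) ⁻¹ᵁ ((X.ptSubι w.1) ⁻¹ᵁ (S ⊓ complCl X x.1))) (le_of_eq hκeq)) :=
    isClosedImmersion_resLE (Y.ptSubι η) (φ ⁻¹ᵁ (S ⊓ complCl X x.1)) ((redLift φ η w.1 L.maps_pt) ⁻¹ᵁ ((X.ptSubι w.1) ⁻¹ᵁ (S ⊓ complCl X x.1))) hκeq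
  have hr1 : relCodim ((Y.ptSub η).res ((redLift φ η w.1 L.maps_pt) ⁻¹ᵁ ((X.ptSubι w.1) ⁻¹ᵁ (S ⊓ complCl X x.1)))).scheme (Y.res (φ ⁻¹ᵁ (S ⊓ complCl X x.1))).scheme = ((0 : ℕ) : ℤ) :=
    relCodim_pt Y 0 ⟨η, hη⟩ (gIdx Y η ((redLift φ η w.1 L.maps_pt) ⁻¹ᵁ ((X.ptSubι w.1) ⁻¹ᵁ (S ⊓ complCl X x.1))) hgen) (φ ⁻¹ᵁ (S ⊓ complCl X x.1)) hdyt
  have hi1 : i₃ = i + 2 * relCodim ((Y.ptSub η).res ((redLift φ η w.1 L.maps_pt) ⁻¹ᵁ ((X.ptSubι w.1) ⁻¹ᵁ (S ⊓ complCl X x.1)))).scheme (Y.res (φ ⁻¹ᵁ (S ⊓ complCl X x.1))).scheme := by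
    rw [hr1]; exact h3
  have hn1 : n₃ = n + relCodim ((Y.ptSub η).res ((redLift φ η w.1 L.maps_pt) ⁻¹ᵁ ((X.ptSubι w.1) ⁻¹ᵁ (S ⊓ complCl X x.1)))).scheme (Y.res (φ ⁻¹ᵁ (S ⊓ complCl X x.1))).scheme := by
    rw [hr1]; exact h3'
  have e1 := P'.cpt_spec ⟨η, hη⟩ M i n i₃ n₃ h3 h3' (mkIdx Y 0 (φ ⁻¹ᵁ (S ⊓ complCl X x.1)) hytF) (gIdx Y η ((redLift φ η w.1 L.maps_pt) ⁻¹ᵁ ((X.ptSubι w.1) ⁻¹ᵁ (S ⊓ complCl X x.1))) hgen)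
    ((Y.ptSubι η).resLE (φ ⁻¹ᵁ (S ⊓ complCl X x.1)) ((redLift φ η w.1 L.maps_pt) ⁻¹ᵁ ((X.ptSubι w.1) ⁻¹ᵁ (S ⊓ complCl X x.1))) (le_of_eq hκeq)) (Scheme.Hom.resLE_comp_ι _ _) hi1 hn1
  have e1' := congrArg (fun t => t.hom α₁) e1
  simp only [ModuleCat.hom_comp, LinearMap.comp_apply] at e1'
  -- Step 2: the datum `L`
  have hr2 := relCodim_restrict φ η w.1 L.maps_pt L.codim_eq ((X.ptSubι w.1) ⁻¹ᵁ (S ⊓ complCl X x.1)) hgenw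
  have hi2 : i = i + 2 * relCodim ((Y.ptSub η).res ((redLift φ η w.1 L.maps_pt) ⁻¹ᵁ ((X.ptSubι w.1) ⁻¹ᵁ (S ⊓ complCl X x.1)))).scheme
      ((X.ptSub w.1).res ((X.ptSubι w.1) ⁻¹ᵁ (S ⊓ complCl X x.1))).scheme := by rw [hr2]; ring
  have hn2 : n = n + relCodim ((Y.ptSub η).res ((redLift φ η w.1 L.maps_pt) ⁻¹ᵁ ((X.ptSubι w.1) ⁻¹ᵁ (S ⊓ complCl X x.1)))).scheme
      ((X.ptSub w.1).res ((X.ptSubι w.1) ⁻¹ᵁ (S ⊓ complCl X x.1))).scheme := by rw [hr2]; ring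
  have e2 := cpt_spec_restrict T φ η w.1 L ((X.ptSubι w.1) ⁻¹ᵁ (S ⊓ complCl X x.1)) hgenw M i n hi2 hn2
  have e2' := congrArg (fun t => t.hom α₁) e2
  simp only [ModuleCat.hom_comp, LinearMap.comp_apply] at e2'
  -- Step 3: the push-forward datum of `X` at `w`
  haveI hιwcl : IsClosedImmersion ((X.ptSubι w.1).resLE (S ⊓ complCl X x.1) ((X.ptSubι w.1) ⁻¹ᵁ (S ⊓ complCl X x.1)) le_rfl) :=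
    isClosedImmersion_resLE (X.ptSubι w.1) (S ⊓ complCl X x.1) ((X.ptSubι w.1) ⁻¹ᵁ (S ⊓ complCl X x.1)) rfl
  have hr3 : relCodim ((X.ptSub w.1).res ((X.ptSubι w.1) ⁻¹ᵁ (S ⊓ complCl X x.1))).scheme (X.res (S ⊓ complCl X x.1)).scheme = (q : ℤ) :=
    relCodim_pt X q w (gIdx X w.1 ((X.ptSubι w.1) ⁻¹ᵁ (S ⊓ complCl X x.1)) hgenw) (S ⊓ complCl X x.1) hdu1
  have hi3 : i₁ = i + 2 * relCodim ((X.ptSub w.1).res ((X.ptSubι w.1) ⁻¹ᵁ (S ⊓ complCl X x.1))).scheme (X.res (S ⊓ complCl X x.1)).scheme := by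
    rw [hr3]; exact h1
  have hn3 : n₁ = n + relCodim ((X.ptSub w.1).res ((X.ptSubι w.1) ⁻¹ᵁ (S ⊓ complCl X x.1))).scheme (X.res (S ⊓ complCl X x.1)).scheme := by
    rw [hr3]; exact h1'
  have e3 := P.cpt_spec w M i n i₁ n₁ h1 h1' (mkIdx X q (S ⊓ complCl X x.1) hu1F) (gIdx X w.1 ((X.ptSubι w.1) ⁻¹ᵁ (S ⊓ complCl X x.1)) hgenw)
    ((X.ptSubι w.1).resLE (S ⊓ complCl X x.1) ((X.ptSubι w.1) ⁻¹ᵁ (S ⊓ complCl X x.1)) le_rfl) (Scheme.Hom.resLE_comp_ι _ _) hi3 hn3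
  have e3' := congrArg (fun t => t.hom ((T.push (X := (Y.ptSub η).res ((redLift φ η w.1 L.maps_pt) ⁻¹ᵁ ((X.ptSubι w.1) ⁻¹ᵁ (S ⊓ complCl X x.1))))
    (Y := (X.ptSub w.1).res ((X.ptSubι w.1) ⁻¹ᵁ (S ⊓ complCl X x.1))) ((redLift φ η w.1 L.maps_pt) ∣_ ((X.ptSubι w.1) ⁻¹ᵁ (S ⊓ complCl X x.1))) M i n i n hi2 hn2).hom α₁)) e3
  simp only [ModuleCat.hom_comp, LinearMap.comp_apply] at e3'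
  -- Step 4: the two factorisations of the map to `U₁`
  have hrT : relCodim ((Y.ptSub η).res ((redLift φ η w.1 L.maps_pt) ⁻¹ᵁ ((X.ptSubι w.1) ⁻¹ᵁ (S ⊓ complCl X x.1)))).scheme (X.res (S ⊓ complCl X x.1)).scheme = (q : ℤ) := by
    unfold relCodim
    change ((WeilCoh.dim (((S ⊓ complCl X x.1) : X.scheme.Opens) : Scheme.{u}) : ℕ) : ℤ) -
      ((WeilCoh.dim (((redLift φ η w.1 L.maps_pt) ⁻¹ᵁ ((X.ptSubι w.1) ⁻¹ᵁ (S ⊓ complCl X x.1))) : Scheme.{u}) : ℕ) : ℤ) = q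
    rw [hdu1, hdw1]
    omega
  have hiT : i₁ = i + 2 * relCodim ((Y.ptSub η).res ((redLift φ η w.1 L.maps_pt) ⁻¹ᵁ ((X.ptSubι w.1) ⁻¹ᵁ (S ⊓ complCl X x.1)))).scheme (X.res (S ⊓ complCl X x.1)).scheme := by
    rw [hrT]; exact h1
  have hnT : n₁ = n + relCodim ((Y.ptSub η).res ((redLift φ η w.1 L.maps_pt) ⁻¹ᵁ ((X.ptSubι w.1) ⁻¹ᵁ (S ⊓ complCl X x.1)))).scheme (X.res (S ⊓ complCl X x.1)).scheme := by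
    rw [hrT]; exact h1'
  have hiU : i₁ = i₃ + 2 * relCodim (Y.res (φ ⁻¹ᵁ (S ⊓ complCl X x.1))).scheme (X.res (S ⊓ complCl X x.1)).scheme := by
    rw [hrU]; omega
  have hnU : n₁ = n₃ + relCodim (Y.res (φ ⁻¹ᵁ (S ⊓ complCl X x.1))).scheme (X.res (S ⊓ complCl X x.1)).scheme := by
    rw [hrU]; omega
  have hA := T.push_comp (X := (Y.ptSub η).res ((redLift φ η w.1 L.maps_pt) ⁻¹ᵁ ((X.ptSubι w.1) ⁻¹ᵁ (S ⊓ complCl X x.1)))) (Y := (X.ptSub w.1).res ((X.ptSubι w.1) ⁻¹ᵁ (S ⊓ complCl X x.1)))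
    (Z := X.res (S ⊓ complCl X x.1)) ((redLift φ η w.1 L.maps_pt) ∣_ ((X.ptSubι w.1) ⁻¹ᵁ (S ⊓ complCl X x.1))) ((X.ptSubι w.1).resLE (S ⊓ complCl X x.1) ((X.ptSubι w.1) ⁻¹ᵁ (S ⊓ complCl X x.1)) le_rfl) M i n i n i₁ n₁
    hi2 hn2 hi3 hn3 hiT hnT
  have hB := T.push_comp (X := (Y.ptSub η).res ((redLift φ η w.1 L.maps_pt) ⁻¹ᵁ ((X.ptSubι w.1) ⁻¹ᵁ (S ⊓ complCl X x.1)))) (Y := Y.res (φ ⁻¹ᵁ (S ⊓ complCl X x.1)))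
    (Z := X.res (S ⊓ complCl X x.1)) ((Y.ptSubι η).resLE (φ ⁻¹ᵁ (S ⊓ complCl X x.1)) ((redLift φ η w.1 L.maps_pt) ⁻¹ᵁ ((X.ptSubι w.1) ⁻¹ᵁ (S ⊓ complCl X x.1))) (le_of_eq hκeq)) (φ.resLE (S ⊓ complCl X x.1) (φ ⁻¹ᵁ (S ⊓ complCl X x.1)) le_rfl)
    M i n i₃ n₃ i₁ n₁ hi1 hn1 hiU hnU hiT hnT
  have hC : ((redLift φ η w.1 L.maps_pt) ∣_ ((X.ptSubι w.1) ⁻¹ᵁ (S ⊓ complCl X x.1))) ≫ (X.ptSubι w.1).resLE (S ⊓ complCl X x.1) ((X.ptSubι w.1) ⁻¹ᵁ (S ⊓ complCl X x.1)) le_rfl =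
      (Y.ptSubι η).resLE (φ ⁻¹ᵁ (S ⊓ complCl X x.1)) ((redLift φ η w.1 L.maps_pt) ⁻¹ᵁ ((X.ptSubι w.1) ⁻¹ᵁ (S ⊓ complCl X x.1))) (le_of_eq hκeq) ≫ φ.resLE (S ⊓ complCl X x.1) (φ ⁻¹ᵁ (S ⊓ complCl X x.1)) le_rfl := by
    rw [← cancel_mono ((S ⊓ complCl X x.1) : X.scheme.Opens).ι, Category.assoc, Category.assoc,
      Scheme.Hom.resLE_comp_ι, Scheme.Hom.resLE_comp_ι, ← Category.assoc, ← Category.assoc,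
      morphismRestrict_ι, Scheme.Hom.resLE_comp_ι, Category.assoc, Category.assoc, redLift_ι]
  have hABC : (T.push (X := (X.ptSub w.1).res ((X.ptSubι w.1) ⁻¹ᵁ (S ⊓ complCl X x.1))) (Y := X.res (S ⊓ complCl X x.1))
      ((X.ptSubι w.1).resLE (S ⊓ complCl X x.1) ((X.ptSubι w.1) ⁻¹ᵁ (S ⊓ complCl X x.1)) le_rfl) M i n i₁ n₁ hi3 hn3).hom
      ((T.push (X := (Y.ptSub η).res ((redLift φ η w.1 L.maps_pt) ⁻¹ᵁ ((X.ptSubι w.1) ⁻¹ᵁ (S ⊓ complCl X x.1)))) (Y := (X.ptSub w.1).res ((X.ptSubι w.1) ⁻¹ᵁ (S ⊓ complCl X x.1)))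
        ((redLift φ η w.1 L.maps_pt) ∣_ ((X.ptSubι w.1) ⁻¹ᵁ (S ⊓ complCl X x.1))) M i n i n hi2 hn2).hom α₁) =
      (T.push (X := Y.res (φ ⁻¹ᵁ (S ⊓ complCl X x.1))) (Y := X.res (S ⊓ complCl X x.1)) (φ.resLE (S ⊓ complCl X x.1) (φ ⁻¹ᵁ (S ⊓ complCl X x.1)) le_rfl)
        M i₃ n₃ i₁ n₁ hiU hnU).hom
      ((T.push (X := (Y.ptSub η).res ((redLift φ η w.1 L.maps_pt) ⁻¹ᵁ ((X.ptSubι w.1) ⁻¹ᵁ (S ⊓ complCl X x.1)))) (Y := Y.res (φ ⁻¹ᵁ (S ⊓ complCl X x.1)))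
        ((Y.ptSubι η).resLE (φ ⁻¹ᵁ (S ⊓ complCl X x.1)) ((redLift φ η w.1 L.maps_pt) ⁻¹ᵁ ((X.ptSubι w.1) ⁻¹ᵁ (S ⊓ complCl X x.1))) (le_of_eq hκeq)) M i n i₃ n₃ hi1 hn1).hom α₁) := by
    have a1 := congrArg (fun t => t.hom α₁) hA
    have b1 := congrArg (fun t => t.hom α₁) hB
    simp only [ModuleCat.hom_comp, LinearMap.comp_apply] at a1 b1
    refine a1.trans (Eq.trans ?_ b1.symm)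
    exact congrArg (fun t => t.hom α₁) (push_congr T (X := (Y.ptSub η).res ((redLift φ η w.1 L.maps_pt) ⁻¹ᵁ ((X.ptSubι w.1) ⁻¹ᵁ (S ⊓ complCl X x.1))))
      (Y := X.res (S ⊓ complCl X x.1)) hC M i n i₁ n₁ hiT hnT)
  -- abstract the class upstairs
  obtain ⟨αt, hαt⟩ : ∃ αt : T.gp (Y.res (φ ⁻¹ᵁ (S ⊓ complCl X x.1))) M i₃ n₃, αt =
      (T.push (X := (Y.ptSub η).res ((redLift φ η w.1 L.maps_pt) ⁻¹ᵁ ((X.ptSubι w.1) ⁻¹ᵁ (S ⊓ complCl X x.1)))) (Y := Y.res (φ ⁻¹ᵁ (S ⊓ complCl X x.1)))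
        ((Y.ptSubι η).resLE (φ ⁻¹ᵁ (S ⊓ complCl X x.1)) ((redLift φ η w.1 L.maps_pt) ⁻¹ᵁ ((X.ptSubι w.1) ⁻¹ᵁ (S ⊓ complCl X x.1))) (le_of_eq hκeq)) M i n i₃ n₃ hi1 hn1).hom α₁ := ⟨_, rfl⟩
  rw [← hαt] at hABC e1'
  -- Step 5: the residue datum of `X` at `x`
  have hiDX : i₂ = i₁ + 1 - 2 * (decompPt X x.1 S ((X.ptSubι x.1) ⁻¹ᵁ S) rfl (S ⊓ complCl X x.1) inf_le_left rfl
      (hdu1.trans hdS.symm)).codim := by rw [hcX]; exact h2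
  have hnDX : n₂ = n₁ - (decompPt X x.1 S ((X.ptSubι x.1) ⁻¹ᵁ S) rfl (S ⊓ complCl X x.1) inf_le_left rfl
      (hdu1.trans hdS.symm)).codim := by rw [hcX]; exact h2'
  have e5 := cpt_decompPt T X q Q x S (ptIdxOf X x.1 S hxS) rfl (S ⊓ complCl X x.1) inf_le_left rfl hu1F hdS
    M i₁ n₁ i₂ n₂ h2 h2' (hdu1.trans hdS.symm) hiDX hnDX
    ((T.push (X := Y.res (φ ⁻¹ᵁ (S ⊓ complCl X x.1))) (Y := X.res (S ⊓ complCl X x.1)) (φ.resLE (S ⊓ complCl X x.1) (φ ⁻¹ᵁ (S ⊓ complCl X x.1)) le_rfl)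
        M i₃ n₃ i₁ n₁ hiU hnU).hom αt)
  -- the key identity on the class
  have hiDY : i₂ = i₃ + 1 - 2 * (decompCl Y (complObj Y (φ ⁻¹ᵁ (complCl X x.1))) (complι Y (φ ⁻¹ᵁ (complCl X x.1))) (φ ⁻¹ᵁ S) ((complι Y (φ ⁻¹ᵁ (complCl X x.1))) ⁻¹ᵁ (φ ⁻¹ᵁ S)) rfl (φ ⁻¹ᵁ (S ⊓ complCl X x.1)) hleY hsetY
      (hdyt.trans hdyo.symm)).codim := by rw [hcY]; push_cast; omega
  have hnDY : n₂ = n₃ - (decompCl Y (complObj Y (φ ⁻¹ᵁ (complCl X x.1))) (complι Y (φ ⁻¹ᵁ (complCl X x.1))) (φ ⁻¹ᵁ S) ((complι Y (φ ⁻¹ᵁ (complCl X x.1))) ⁻¹ᵁ (φ ⁻¹ᵁ S)) rfl (φ ⁻¹ᵁ (S ⊓ complCl X x.1)) hleY hsetY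
      (hdyt.trans hdyo.symm)).codim := by rw [hcY]; push_cast; omega
  have hiZ : i₂ = i₂ + 2 * relCodim ((complObj Y (φ ⁻¹ᵁ (complCl X x.1))).res ((complι Y (φ ⁻¹ᵁ (complCl X x.1))) ⁻¹ᵁ (φ ⁻¹ᵁ S))).scheme ((X.ptSub x.1).res ((X.ptSubι x.1) ⁻¹ᵁ S)).scheme := by
    rw [hrZ]; ring
  have hnZ : n₂ = n₂ + relCodim ((complObj Y (φ ⁻¹ᵁ (complCl X x.1))).res ((complι Y (φ ⁻¹ᵁ (complCl X x.1))) ⁻¹ᵁ (φ ⁻¹ᵁ S))).scheme ((X.ptSub x.1).res ((X.ptSubι x.1) ⁻¹ᵁ S)).scheme := by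
    rw [hrZ]; ring
  have KI' := congrArg (fun t => t.hom αt) KI
  simp only [ModuleCat.hom_comp, LinearMap.comp_apply] at KI'
  obtain ⟨ρ, hρ⟩ : ∃ ρ : T.gp ((complObj Y (φ ⁻¹ᵁ (complCl X x.1))).res ((complι Y (φ ⁻¹ᵁ (complCl X x.1))) ⁻¹ᵁ (φ ⁻¹ᵁ S))) M i₂ n₂, ρ =
      (T.res (decompCl Y (complObj Y (φ ⁻¹ᵁ (complCl X x.1))) (complι Y (φ ⁻¹ᵁ (complCl X x.1))) (φ ⁻¹ᵁ S) ((complι Y (φ ⁻¹ᵁ (complCl X x.1))) ⁻¹ᵁ (φ ⁻¹ᵁ S)) rfl (φ ⁻¹ᵁ (S ⊓ complCl X x.1)) hleY hsetY (hdyt.trans hdyo.symm))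
        M i₃ n₃ i₂ n₂ hiDY hnDY).hom αt := ⟨_, rfl⟩
  -- the left-hand side
  have hLHS : (Q.cpt x M i₁ n₁ i₂ n₂ h2 h2').hom ((P.cpt w M i n i₁ n₁ h1 h1').hom
      ((L.cpt M i n).hom (((T.ptι Y η i n (gIdx Y η ((redLift φ η w.1 L.maps_pt) ⁻¹ᵁ ((X.ptSubι w.1) ⁻¹ᵁ (S ⊓ complCl X x.1))) hgen)).app M).hom α₁))) =
      ((T.ptι X x.1 i₂ n₂ (ptIdxOf X x.1 S hxS)).app M).hom
        ((T.push (X := (complObj Y (φ ⁻¹ᵁ (complCl X x.1))).res ((complι Y (φ ⁻¹ᵁ (complCl X x.1))) ⁻¹ᵁ (φ ⁻¹ᵁ S))) (Y := (X.ptSub x.1).res ((X.ptSubι x.1) ⁻¹ᵁ S))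
          ((clLift X x.1 ((complι Y (φ ⁻¹ᵁ (complCl X x.1))) ≫ φ) (range_comp_subset X x.1 Y φ)).resLE ((X.ptSubι x.1) ⁻¹ᵁ S) ((complι Y (φ ⁻¹ᵁ (complCl X x.1))) ⁻¹ᵁ (φ ⁻¹ᵁ S)) (le_of_eq hmbeq)) M i₂ n₂ i₂ n₂ hiZ hnZ).hom ρ) := by
    refine (congrArg (fun t => (Q.cpt x M i₁ n₁ i₂ n₂ h2 h2').hom
      ((P.cpt w M i n i₁ n₁ h1 h1').hom t)) e2').trans ?_
    refine (congrArg (fun t => (Q.cpt x M i₁ n₁ i₂ n₂ h2 h2').hom t) e3').trans ?_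
    refine (congrArg (fun t => (Q.cpt x M i₁ n₁ i₂ n₂ h2 h2').hom
      (((T.fjι X q i₁ n₁ (mkIdx X q (S ⊓ complCl X x.1) hu1F)).app M).hom t)) hABC).trans ?_
    refine e5.trans ?_
    rw [hρ]
    exact congrArg _ KI'.symm
  rw [hLHS]
  -- additivity on the closed part upstairs
  have hadd := additivity' T (complObj Y (φ ⁻¹ᵁ (complCl X x.1))) M i₂ n₂ ((complι Y (φ ⁻¹ᵁ (complCl X x.1))) ⁻¹ᵁ (φ ⁻¹ᵁ S)) hwbF hwbp ρ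
  have hadd' := congrArg (fun t => ((T.ptι X x.1 i₂ n₂ (ptIdxOf X x.1 S hxS)).app M).hom
        ((T.push (X := (complObj Y (φ ⁻¹ᵁ (complCl X x.1))).res ((complι Y (φ ⁻¹ᵁ (complCl X x.1))) ⁻¹ᵁ (φ ⁻¹ᵁ S))) (Y := (X.ptSub x.1).res ((X.ptSubι x.1) ⁻¹ᵁ S))
          ((clLift X x.1 ((complι Y (φ ⁻¹ᵁ (complCl X x.1))) ≫ φ) (range_comp_subset X x.1 Y φ)).resLE ((X.ptSubι x.1) ⁻¹ᵁ S) ((complι Y (φ ⁻¹ᵁ (complCl X x.1))) ⁻¹ᵁ (φ ⁻¹ᵁ S)) (le_of_eq hmbeq)) M i₂ n₂ i₂ n₂ hiZ hnZ).hom t)) hadd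
  simp only [map_sum] at hadd'
  refine hadd'.trans ?_
  refine Finset.sum_congr rfl (fun z _ => ?_)
  -- the point of `Y` attached to `z`
  have hzW : z.1 ∈ ((complι Y (φ ⁻¹ᵁ (complCl X x.1))) ⁻¹ᵁ (φ ⁻¹ᵁ S)) := hwbF z.1 (le_of_eq z.2)
  have hq := qMap_ι Y (φ ⁻¹ᵁ (complCl X x.1)) ((complι Y (φ ⁻¹ᵁ (complCl X x.1))) z.1) (complι_not_mem Y (φ ⁻¹ᵁ (complCl X x.1)) z.1)
  have hQ := res_piece_cl T Y (complObj Y (φ ⁻¹ᵁ (complCl X x.1))) (complι Y (φ ⁻¹ᵁ (complCl X x.1))) 0 Q' M i₃ n₃ i₂ n₂ h4 h4' ((complι Y (φ ⁻¹ᵁ (complCl X x.1))) ⁻¹ᵁ (φ ⁻¹ᵁ S)) hdwb hwbp (φ ⁻¹ᵁ S) hdyo rfl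
    (φ ⁻¹ᵁ (S ⊓ complCl X x.1)) hytF hleY hsetY (hdyt.trans hdyo.symm) z.1 z.2 hzW
    (qMap Y (φ ⁻¹ᵁ (complCl X x.1)) ((complι Y (φ ⁻¹ᵁ (complCl X x.1))) z.1) (complι_not_mem Y (φ ⁻¹ᵁ (complCl X x.1)) z.1)) hq (codim_complι Y 0 (φ ⁻¹ᵁ (complCl X x.1)) hdimZb z)
    hiDY hnDY αt
  rw [← hρ] at hQ
  rw [e1']
  refine Eq.trans ?_ (congrArg (fun t => ((G z).cpt M i₂ n₂).hom t) hQ.symm)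
  obtain ⟨ρz, hρz⟩ : ∃ ρz : T.gp ((complObj Y (φ ⁻¹ᵁ (complCl X x.1))).res (piece (complObj Y (φ ⁻¹ᵁ (complCl X x.1))) ((complι Y (φ ⁻¹ᵁ (complCl X x.1))) ⁻¹ᵁ (φ ⁻¹ᵁ S)) z.1)) M i₂ n₂, ρz =
      (T.pull (pieceHom (complObj Y (φ ⁻¹ᵁ (complCl X x.1))) ((complι Y (φ ⁻¹ᵁ (complCl X x.1))) ⁻¹ᵁ (φ ⁻¹ᵁ S)) hwbp z.1 z.2 hzW hdwb) M i₂ n₂).hom ρ := ⟨_, rfl⟩
  have hgoal := piece_push T X x.1 Y φ S hxS z.1 z.2 (G z) hwbp hzW hdwb hmbeq hrZ M i₂ n₂ hiZ hnZ hq ρz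
  rw [hρz] at hgoal
  exact hgoal

end core

end Groth.Agent.Helper17.BM
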