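import Groth.Agent.Lib.Helper17.BM16

/-!
# Borel–Moore theories: the first differential and push-forward along a proper morphism (assembly)
-/

set_option autoImplicit false
universe u
open AlgebraicGeometry CategoryTheory CategoryTheory.Limits Opposite BMCoh TopologicalSpace
open Topology Order Set

namespace Groth.Agent.Helper17.BM
open Groth.Agent.Helper23.BMLib1 Groth.Agent.Helper23.BMLib2

section famtot
variable {V : ObjectProperty Scheme.{u}} [IsConstructible V] {R : Type u} [CommRing R]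
  {A : Coefs R}

open Classical in
theorem lof_cpt_apply (T : PreTheory V R A) {Y X : Obj V} (φ : Y.scheme ⟶ X.scheme) [IsProper φ]
    {j k : ℕ} (t : Y.cdPt j → X.cdPt k) (F : ∀ y : Y.cdPt j, T.PtPush φ y.1 (t y).1)
    (M : A.Cat) (i n : ℤ) (y : Y.cdPt j) (x : X.cdPt k) (h : t y = x)
    (G' : T.PtPush φ y.1 x.1) (v : T.ptGp Y y.1 M i n) :
    (DirectSum.lof R (X.cdPt k) (fun z : X.cdPt k => T.ptGp X z.1 M i n) (t y)
      (((F y).cpt M i n).hom v)) x = (G'.cpt M i n).hom v := by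
  subst h
  haveI := main16096 T Y X φ y.1 (t y).1
  rw [Subsingleton.elim G' (F y)]
  exact DirectSum.lof_apply R (t y) _

open Classical in
/-- a component of the sum of push-forward data, as a sum over the fibre -/
theorem famTot_component (T : PreTheory V R A) {Y X : Obj V} (φ : Y.scheme ⟶ X.scheme)
    [IsProper φ] {j k : ℕ} (t : Y.cdPt j → X.cdPt k)
    (F : ∀ y : Y.cdPt j, T.PtPush φ y.1 (t y).1) (M : A.Cat) (i n : ℤ) (x : X.cdPt k)
    {I : Type u} [Fintype I] (g : I → Y.cdPt j) (hg : Function.Injective g)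
    (htg : ∀ a, t (g a) = x) (hsurj : ∀ y, t y = x → ∃ a, g a = y)
    (G : ∀ a, T.PtPush φ (g a).1 x.1) (b : T.ptSum Y j M i n) :
    ((PreTheory.PtPush.famTot t F M i n).hom b) x =
      ∑ a, ((G a).cpt M i n).hom (b (g a)) := by
  have key : (DirectSum.component R (X.cdPt k) (fun z : X.cdPt k => T.ptGp X z.1 M i n) x).comp
      (PreTheory.PtPush.famTot t F M i n).hom =
      ∑ a, ((G a).cpt M i n).hom.comp
        (DirectSum.component R (Y.cdPt j) (fun y : Y.cdPt j => T.ptGp Y y.1 M i n) (g a)) := by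
    apply DirectSum.linearMap_ext
    intro y
    apply LinearMap.ext
    intro v
    rw [LinearMap.comp_apply, LinearMap.comp_apply, LinearMap.comp_apply, LinearMap.sum_apply]
    rw [PreTheory.PtPush.famTot_lof]
    by_cases h : t y = x
    · obtain ⟨a₀, rfl⟩ := hsurj y h
      rw [← DirectSum.apply_eq_component, lof_cpt_apply T φ t F M i n (g a₀) x h (G a₀) v,
        Finset.sum_eq_single a₀]
      · rw [LinearMap.comp_apply, DirectSum.component.lof_self]
      · intro a _ hne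
        rw [LinearMap.comp_apply, ← DirectSum.apply_eq_component, DirectSum.lof_eq_of,
          DirectSum.of_eq_of_ne _ _ _ (fun hh => hne (hg hh)), map_zero]
      · intro hh
        exact absurd (Finset.mem_univ a₀) hh
    · rw [← DirectSum.apply_eq_component, DirectSum.lof_eq_of,
        DirectSum.of_eq_of_ne _ _ _ (fun hh => h hh.symm)]
      symm
      apply Finset.sum_eq_zero
      intro a _
      rw [LinearMap.comp_apply, ← DirectSum.apply_eq_component, DirectSum.lof_eq_of,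
        DirectSum.of_eq_of_ne _ _ _ (fun hh => h ((congrArg t hh).symm.trans (htg a))), map_zero]
  have := LinearMap.congr_fun key b
  rw [LinearMap.comp_apply, LinearMap.sum_apply] at this
  exact this

end famtot

section caseA
variable {V : ObjectProperty Scheme.{u}} [IsConstructible V] {R : Type u} [CommRing R]
  {A : Coefs R}

/-- the residue at a point outside the closure of `w` of a class pushed forward from `w` is
zero -/
theorem res_cpt_eq_zero_of_not_mem (T : PreTheory V R A) (X : Obj V) (q : ℕ) (w : X.cdPt q)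
    (x : X.cdPt (q + 1)) (hx : x.1 ∉ closure ({w.1} : Set X.scheme))
    (P : T.PushData X q) (Q : T.ResData X q) (M : A.Cat) (i n i₁ n₁ i₂ n₂ : ℤ)
    (h1 : i₁ = i + 2 * (q : ℤ)) (h1' : n₁ = n + (q : ℤ))
    (h2 : i₂ = i₁ + 1 - 2 * ((q : ℤ) + 1)) (h2' : n₂ = n₁ - ((q : ℤ) + 1))
    (a₁ : T.ptGp X w.1 M i n) :
    (Q.cpt x M i₁ n₁ i₂ n₂ h2 h2').hom ((P.cpt w M i n i₁ n₁ h1 h1').hom a₁) = 0 := by
  obtain ⟨W', α', rfl⟩ := ocolim_exists_rep T (X.ptSub w.1)
    (fun U => (U : Set (X.ptSub w.1).scheme).Nonempty) i n M (idx_directed X w.1) a₁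
  have hU : ContainsFj X q (bigOpen X w.1 W'.1) := containsFj_bigOpen X q w W'
  have hrc := relCodim_pt X q w W' (bigOpen X w.1 W'.1) (dim_eq_of_containsFj X q _ hU)
  have spec := P.cpt_spec w M i n i₁ n₁ h1 h1' (mkIdx X q (bigOpen X w.1 W'.1) hU) W'
    (toBig X w.1 W'.1) (toBig_ι X w.1 W'.1) (by rw [hrc]; exact h1) (by rw [hrc]; exact h1')
  have e1 := congrArg (fun t => t.hom α') spec
  simp only [ModuleCat.hom_comp, LinearMap.comp_apply] at e1
  refine (congrArg _ e1).trans ?_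
  apply cpt_eq_zero_of_mem T X q Q x (mkIdx X q (bigOpen X w.1 W'.1) hU)
  change x.1 ∈ bigOpen X w.1 W'.1
  rw [mem_bigOpen]
  intro z hz
  exfalso
  apply hx
  rw [← range_ptSubι]
  exact ⟨z, hz⟩

end caseA

section geom
variable {V : ObjectProperty Scheme.{u}} [IsConstructible V]

theorem eq_ptGen_of_codim_zero (X : Obj V) (w : X.scheme) (z : (X.ptSub w).scheme)
    (hz : WeilCoh.codim (X.ptSub w).scheme z = 0) : z = ptGen X w := by
  by_contra hne
  have h1 := pdim_lt_of_ne_ptGen X w z hne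
  unfold WeilCoh.codim at hz
  omega

/-- an open of `X` around a point `x` of codimension one in the closure of `w`, meeting that
closure, away from the closure of `x`, inside a given open -/
theorem exists_open_x (X : Obj V) (q : ℕ) (w : X.cdPt q) (x : X.cdPt (q + 1))
    (hx : x.1 ∈ closure ({w.1} : Set X.scheme)) (Wa : (X.ptSub w.1).scheme.Opens)
    (hgen : ptGen X w.1 ∈ Wa) :
    ∃ S₁ : X.scheme.Opens, ContainsFj X q S₁ ∧ x.1 ∈ S₁ ∧
      ∀ z : (X.ptSub w.1).scheme, (X.ptSubι w.1) z ∈ S₁ →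
        (X.ptSubι w.1) z ∉ closure ({x.1} : Set X.scheme) → z ∈ Wa := by
  have hdimZ : WeilCoh.dim (X.ptSub w.1).scheme + q = WeilCoh.dim X.scheme := by
    rw [dim_ptSub]
    have h1 := w.2
    have h2 := pdim_le_dim X w.1
    unfold WeilCoh.codim at h1
    omega
  have hwx : w.1 ∉ closure ({x.1} : Set X.scheme) := by
    intro h
    have := codim_mono X h
    rw [x.2, w.2] at this
    omega
  obtain ⟨xZ, hxZ⟩ : x.1 ∈ Set.range (X.ptSubι w.1) := by
    rw [range_ptSubι]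
    exact hx
  have hxZW : xZ ∉ Wa ⊓ (X.ptSubι w.1) ⁻¹ᵁ (complCl X x.1) := by
    rintro ⟨-, h2⟩
    have h3 : (X.ptSubι w.1) xZ ∈ complCl X x.1 := h2
    rw [hxZ] at h3
    exact h3 (subset_closure rfl)
  have hcxZ : WeilCoh.codim (X.ptSub w.1).scheme xZ = 0 + 1 := by
    have := codim_closedImmersion X (X.ptSub w.1) (X.ptSubι w.1) q hdimZ xZ
    rw [hxZ, x.2] at this
    omega
  have hWbF : ContainsFj (X.ptSub w.1) 0 (Wa ⊓ (X.ptSubι w.1) ⁻¹ᵁ (complCl X x.1)) := by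
    intro z hz
    rw [eq_ptGen_of_codim_zero X w.1 z (Nat.le_zero.1 hz)]
    refine ⟨hgen, ?_⟩
    change (X.ptSubι w.1) (ptGen X w.1) ∈ complCl X x.1
    rw [ptSubι_ptGen]
    exact hwx
  have hdimBo := dim_complObj_add (X.ptSub w.1) 0 _ hWbF xZ hcxZ hxZW
  obtain ⟨xB, hxB⟩ : xZ ∈ Set.range
      (complι (X.ptSub w.1) (Wa ⊓ (X.ptSubι w.1) ⁻¹ᵁ (complCl X x.1))) := by
    rw [range_complι]
    exact hxZW
  have hcxB : WeilCoh.codim (complObj (X.ptSub w.1)
      (Wa ⊓ (X.ptSubι w.1) ⁻¹ᵁ (complCl X x.1))).scheme xB = 0 := by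
    have := codim_closedImmersion (X.ptSub w.1) (complObj (X.ptSub w.1)
      (Wa ⊓ (X.ptSubι w.1) ⁻¹ᵁ (complCl X x.1)))
      (complι (X.ptSub w.1) (Wa ⊓ (X.ptSubι w.1) ⁻¹ᵁ (complCl X x.1))) (0 + 1) hdimBo xB
    rw [hxB, hcxZ] at this
    omega
  refine ⟨bigOpenG (complι (X.ptSub w.1) (Wa ⊓ (X.ptSubι w.1) ⁻¹ᵁ (complCl X x.1)) ≫
    X.ptSubι w.1) (pureOpen (complObj (X.ptSub w.1)
      (Wa ⊓ (X.ptSubι w.1) ⁻¹ᵁ (complCl X x.1))) xB), ?_, ?_, ?_⟩
  · intro y hy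
    rw [mem_bigOpenG]
    intro b hb
    exfalso
    have h1 : (X.ptSubι w.1) ((complι (X.ptSub w.1)
      (Wa ⊓ (X.ptSubι w.1) ⁻¹ᵁ (complCl X x.1))) b) = y := hb
    have h2 := codim_closedImmersion X (X.ptSub w.1) (X.ptSubι w.1) q hdimZ
      ((complι (X.ptSub w.1) (Wa ⊓ (X.ptSubι w.1) ⁻¹ᵁ (complCl X x.1))) b)
    rw [h1] at h2
    have h3 : WeilCoh.codim (X.ptSub w.1).scheme ((complι (X.ptSub w.1)
      (Wa ⊓ (X.ptSubι w.1) ⁻¹ᵁ (complCl X x.1))) b) = 0 := by omega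
    exact complι_not_mem (X.ptSub w.1) _ b (hWbF _ (le_of_eq h3))
  · rw [mem_bigOpenG]
    intro b hb
    have h1 : (X.ptSubι w.1) ((complι (X.ptSub w.1)
      (Wa ⊓ (X.ptSubι w.1) ⁻¹ᵁ (complCl X x.1))) b) = x.1 := hb
    have h2 : (complι (X.ptSub w.1) (Wa ⊓ (X.ptSubι w.1) ⁻¹ᵁ (complCl X x.1))) b = xZ :=
      (X.ptSubι w.1).isClosedEmbedding.injective (h1.trans hxZ.symm)
    have h3 : b = xB :=
      (complι (X.ptSub w.1) (Wa ⊓ (X.ptSubι w.1) ⁻¹ᵁ
        (complCl X x.1))).isClosedEmbedding.injective (h2.trans hxB.symm)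
    rw [h3]
    exact self_mem_pureOpen _ xB
  · intro z hzS hzx
    by_contra hzW
    have hzWb : z ∉ Wa ⊓ (X.ptSubι w.1) ⁻¹ᵁ (complCl X x.1) := fun h => hzW h.1
    obtain ⟨b, hb⟩ : z ∈ Set.range
        (complι (X.ptSub w.1) (Wa ⊓ (X.ptSubι w.1) ⁻¹ᵁ (complCl X x.1))) := by
      rw [range_complι]
      exact hzWb
    rw [mem_bigOpenG] at hzS
    have e1 : (complι (X.ptSub w.1) (Wa ⊓ (X.ptSubι w.1) ⁻¹ᵁ (complCl X x.1)) ≫
        X.ptSubι w.1) b = (X.ptSubι w.1) z := by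
      change (X.ptSubι w.1) ((complι (X.ptSub w.1)
        (Wa ⊓ (X.ptSubι w.1) ⁻¹ᵁ (complCl X x.1))) b) = _
      rw [hb]
    have e2 : (complι (X.ptSub w.1) (Wa ⊓ (X.ptSubι w.1) ⁻¹ᵁ (complCl X x.1)) ≫
        X.ptSubι w.1) xB = x.1 := by
      change (X.ptSubι w.1) ((complι (X.ptSub w.1)
        (Wa ⊓ (X.ptSubι w.1) ⁻¹ᵁ (complCl X x.1))) xB) = _
      rw [hxB, hxZ]
    have hbP := hzS b e1
    have hbcl := pureOpen_subset_closure _ xB hcxB b hbP
    apply hzx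
    have := image_closure_subset_closure_image
      (complι (X.ptSub w.1) (Wa ⊓ (X.ptSubι w.1) ⁻¹ᵁ (complCl X x.1)) ≫
        X.ptSubι w.1).continuous (s := {xB}) ⟨b, hbcl, rfl⟩
    rw [Set.image_singleton, e1, e2] at this
    exact this

/-- a point of `Y` above a point of codimension `q + 1` in the image has codimension one -/
theorem codim_eq_one_of_map_eq (X : Obj V) (q : ℕ) (w : X.cdPt q) (x : X.cdPt (q + 1))
    (Y : Obj V) (φ : Y.scheme ⟶ X.scheme) [IsProper φ] (η : Y.scheme)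
    (hY0 : ∀ y : Y.scheme, WeilCoh.codim Y.scheme y = 0 → y = η) (hφη : φ η = w.1)
    (hdimY : WeilCoh.dim Y.scheme + q = WeilCoh.dim X.scheme) (y' : Y.scheme)
    (hy' : φ y' = x.1) : WeilCoh.codim Y.scheme y' = 0 + 1 := by
  have h1 := pdim_le_of_isClosedMap Y X φ φ.continuous φ.isClosedMap _ y' x.1 hy' rfl
  have h2 := pdim_le_dim Y y'
  have h3 := pdim_le_dim X x.1
  have hne : WeilCoh.codim Y.scheme y' ≠ 0 := by
    intro h0
    have h4 := hY0 y' h0
    rw [h4, hφη] at hy'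
    have hc := x.2
    rw [← hy', w.2] at hc
    omega
  have hcx := x.2
  unfold WeilCoh.codim at hne hcx ⊢
  omega

/-- the generic points of the reduced preimage of the closure of `x` lie over `x` -/
theorem map_eq_of_codim_zero (X : Obj V) (q : ℕ) (x : X.cdPt (q + 1))
    (Y : Obj V) (φ : Y.scheme ⟶ X.scheme)
    (hdimY : WeilCoh.dim Y.scheme + q = WeilCoh.dim X.scheme)
    (hdimZb : WeilCoh.dim (complObj Y (φ ⁻¹ᵁ (complCl X x.1))).scheme + (0 + 1) =
      WeilCoh.dim Y.scheme)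
    (hpd : ∀ y : Y.scheme, WeilCoh.codim Y.scheme y = 0 + 1 →
      WeilCoh.pdim X.scheme (φ y) = WeilCoh.pdim Y.scheme y)
    (z : (complObj Y (φ ⁻¹ᵁ (complCl X x.1))).scheme)
    (hz : WeilCoh.codim (complObj Y (φ ⁻¹ᵁ (complCl X x.1))).scheme z = 0) :
    φ (complι Y (φ ⁻¹ᵁ (complCl X x.1)) z) = x.1 := by
  have hc := codim_closedImmersion Y (complObj Y (φ ⁻¹ᵁ (complCl X x.1)))
    (complι Y (φ ⁻¹ᵁ (complCl X x.1))) (0 + 1) hdimZb z
  rw [hz] at hc
  have h1 := hpd _ hc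
  have h2 := pdim_le_dim Y (complι Y (φ ⁻¹ᵁ (complCl X x.1)) z)
  have h3 := pdim_le_dim X x.1
  have hcx := x.2
  have hcl : φ (complι Y (φ ⁻¹ᵁ (complCl X x.1)) z) ∈ closure ({x.1} : Set X.scheme) := by
    have h := complι_not_mem Y (φ ⁻¹ᵁ (complCl X x.1)) z
    by_contra hc'
    exact h hc'
  by_contra hne
  have h4 := pdim_lt X hcl (fun h' => hne (eq_of_mem_closure_of_mem_closure X hcl h'))
  unfold WeilCoh.codim at hc hcx
  omega

/-- an open of `X` around `x` whose preimage meets the reduced preimage of the closure of `x`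
inside its pure locus -/
theorem exists_open_y (X : Obj V) (q : ℕ) (x : X.cdPt (q + 1))
    (Y : Obj V) (φ : Y.scheme ⟶ X.scheme) [IsProper φ]
    (hdimZb : WeilCoh.dim (complObj Y (φ ⁻¹ᵁ (complCl X x.1))).scheme + (0 + 1) =
      WeilCoh.dim Y.scheme)
    (hc1 : ∀ y' : Y.scheme, φ y' = x.1 → WeilCoh.codim Y.scheme y' = 0 + 1) :
    ∃ S₂ : X.scheme.Opens, ContainsFj X q S₂ ∧ x.1 ∈ S₂ ∧
      ∀ z : (complObj Y (φ ⁻¹ᵁ (complCl X x.1))).scheme,
        φ (complι Y (φ ⁻¹ᵁ (complCl X x.1)) z) ∈ S₂ →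
        z ∈ pureLocus (complObj Y (φ ⁻¹ᵁ (complCl X x.1))) := by
  have hcm : IsClosedMap (complι Y (φ ⁻¹ᵁ (complCl X x.1)) ≫ φ) :=
    (complι Y (φ ⁻¹ᵁ (complCl X x.1)) ≫ φ).isClosedMap
  refine ⟨⟨((complι Y (φ ⁻¹ᵁ (complCl X x.1)) ≫ φ) ''
    ((pureLocus (complObj Y (φ ⁻¹ᵁ (complCl X x.1))) :
      Set (complObj Y (φ ⁻¹ᵁ (complCl X x.1))).scheme)ᶜ))ᶜ,
    (hcm _ (pureLocus (complObj Y (φ ⁻¹ᵁ (complCl X x.1)))).isOpen.isClosed_compl).isOpen_compl⟩,
    ?_, ?_, ?_⟩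
  · intro y hy
    rintro ⟨z, -, hz⟩
    have hcl : φ (complι Y (φ ⁻¹ᵁ (complCl X x.1)) z) ∈ closure ({x.1} : Set X.scheme) := by
      have h := complι_not_mem Y (φ ⁻¹ᵁ (complCl X x.1)) z
      by_contra hc'
      exact h hc'
    have hz' : φ (complι Y (φ ⁻¹ᵁ (complCl X x.1)) z) = y := hz
    rw [hz'] at hcl
    have := codim_mono X hcl
    rw [x.2] at this
    omega
  · rintro ⟨z, hzp, hz⟩
    apply hzp
    have hz' : φ (complι Y (φ ⁻¹ᵁ (complCl X x.1)) z) = x.1 := hz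
    have h1 := hc1 _ hz'
    have hc := codim_closedImmersion Y (complObj Y (φ ⁻¹ᵁ (complCl X x.1)))
      (complι Y (φ ⁻¹ᵁ (complCl X x.1))) (0 + 1) hdimZb z
    exact containsF0_pureLocus _ z (by omega)
  · intro z hz
    by_contra hzp
    exact hz ⟨z, hzp, rfl⟩

end geom

section main
variable {V : ObjectProperty Scheme.{u}} [IsConstructible V] {R : Type u} [CommRing R]
  {A : Coefs R}

set_option maxHeartbeats 1600000 in
theorem main16097 (T : PreTheory V R A)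
    (hred : ∀ (S : Obj V) (D D'' : Decomp S) (gU : D''.U ⟶ D.U)
      (k : D''.Z.scheme ⟶ D.Z.scheme) [IsClosedImmersion k] [AlgebraicGeometry.Surjective k],
      gU ≫ D.j = D''.j → k ≫ D.i = D''.i →
      ∀ (M : A.Cat) (i n i' n' : ℤ) (hi : i' = i + 1 - 2 * D.codim) (hn : n' = n - D.codim)
        (hi'' : i' = i + 1 - 2 * D''.codim) (hn'' : n' = n - D''.codim)
        (hk : i' = i' + 2 * relCodim D''.Z.scheme D.Z.scheme)
        (hk' : n' = n' + relCodim D''.Z.scheme D.Z.scheme),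
      T.pull gU M i n ≫ T.res D'' M i n i' n' hi'' hn'' ≫ T.push k M i' n' i' n' hk hk' =
        T.res D M i n i' n' hi hn)
    (X : Obj V) (q : ℕ) (w : X.cdPt q) (Y : Obj V) [IsIntegral Y.scheme]
    (φ : Y.scheme ⟶ X.scheme) [IsProper φ]
    (hη : WeilCoh.codim Y.scheme (genericPoint Y.scheme) = 0)
    (P : T.PushData X q) (Q : T.ResData X q) (L : T.PtPush φ (genericPoint Y.scheme) w.1)
    (P' : T.PushData Y 0) (Q' : T.ResData Y 0) (t : Y.cdPt 1 → X.cdPt (q + 1))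
    (F : ∀ y : Y.cdPt 1, T.PtPush φ y.1 (t y).1)
    (M : A.Cat) (i n i₁ n₁ i₂ n₂ i₃ n₃ : ℤ)
    (h1 : i₁ = i + 2 * (q : ℤ)) (h1' : n₁ = n + (q : ℤ))
    (h2 : i₂ = i₁ + 1 - 2 * ((q : ℤ) + 1)) (h2' : n₂ = n₁ - ((q : ℤ) + 1))
    (h3 : i₃ = i + 2 * ((0 : ℕ) : ℤ)) (h3' : n₃ = n + ((0 : ℕ) : ℤ))
    (h4 : i₂ = i₃ + 1 - 2 * (((0 : ℕ) : ℤ) + 1)) (h4' : n₂ = n₃ - (((0 : ℕ) : ℤ) + 1))
    (a : T.ptGp Y (genericPoint Y.scheme) M i n) :
    (Q.tot M i₁ n₁ i₂ n₂ h2 h2').hom ((P.cpt w M i n i₁ n₁ h1 h1').hom ((L.cpt M i n).hom a)) =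
      (BMCoh.PreTheory.PtPush.famTot t F M i₂ n₂).hom
        ((Q'.tot M i₃ n₃ i₂ n₂ h4 h4').hom
          ((P'.cpt ⟨genericPoint Y.scheme, hη⟩ M i n i₃ n₃ h3 h3').hom a)) := by
  classical
  refine DFinsupp.ext (fun x => ?_)
  change (Q.cpt x M i₁ n₁ i₂ n₂ h2 h2').hom
    ((P.cpt w M i n i₁ n₁ h1 h1').hom ((L.cpt M i n).hom a)) = _
  have hY0 : ∀ y : Y.scheme, WeilCoh.codim Y.scheme y = 0 → y = genericPoint Y.scheme :=
    fun y hy => eq_of_codim_zero_of_mem_closure Y y (genericPoint Y.scheme) hy (by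
      rw [(genericPoint_spec Y.scheme).def]
      trivial)
  have hφη : φ (genericPoint Y.scheme) = w.1 := L.maps_pt
  have hdimY : WeilCoh.dim Y.scheme + q = WeilCoh.dim X.scheme := by
    have h0 := L.codim_eq
    unfold relCodim at h0
    rw [dim_ptSub, dim_ptSub] at h0
    have hw := w.2
    have hw2 := pdim_le_dim X w.1
    have hw3 := pdim_le_dim Y (genericPoint Y.scheme)
    have hη' := hη
    unfold WeilCoh.codim at hw hη'
    omega
  have hmapcl : ∀ y : Y.scheme, φ y ∈ closure ({w.1} : Set X.scheme) := by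
    intro y
    have hy : y ∈ closure ({genericPoint Y.scheme} : Set Y.scheme) := by
      rw [(genericPoint_spec Y.scheme).def]
      trivial
    have := image_closure_subset_closure_image φ.continuous
      (s := {genericPoint Y.scheme}) ⟨y, hy, rfl⟩
    rwa [Set.image_singleton, hφη] at this
  by_cases hx : x.1 ∈ closure ({w.1} : Set X.scheme)
  · -- the main case
    obtain ⟨W, α, rfl⟩ := ocolim_exists_rep T (Y.ptSub (genericPoint Y.scheme))
      (fun U => (U : Set (Y.ptSub (genericPoint Y.scheme)).scheme).Nonempty) i n M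
      (idx_directed Y (genericPoint Y.scheme)) a
    obtain ⟨Wa, hWa, hWale⟩ := exists_small' φ (genericPoint Y.scheme) w.1 L.maps_pt L.codim_eq W
    -- a point over `x`
    obtain ⟨y', hy'⟩ : ∃ y' : Y.scheme, φ y' = x.1 := by
      have hcl : IsClosed (Set.range φ) := φ.isClosedMap.isClosed_range
      have hsub : closure ({w.1} : Set X.scheme) ⊆ Set.range φ := by
        apply closure_minimal _ hcl
        rw [Set.singleton_subset_iff]
        exact ⟨genericPoint Y.scheme, hφη⟩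
      exact hsub hx
    have hc1 : ∀ y' : Y.scheme, φ y' = x.1 → WeilCoh.codim Y.scheme y' = 0 + 1 :=
      fun y' hy' => codim_eq_one_of_map_eq X q w x Y φ (genericPoint Y.scheme) hY0 hφη hdimY y' hy'
    have hwx : w.1 ∉ closure ({x.1} : Set X.scheme) := by
      intro h
      have := codim_mono X h
      rw [x.2, w.2] at this
      omega
    have hUCF : ContainsFj Y 0 (φ ⁻¹ᵁ (complCl X x.1)) := by
      intro y hy
      rw [hY0 y (Nat.le_zero.1 hy)]
      change φ (genericPoint Y.scheme) ∈ complCl X x.1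
      rw [hφη]
      exact hwx
    have hy'UC : y' ∉ φ ⁻¹ᵁ (complCl X x.1) := by
      intro h
      have h' : φ y' ∈ complCl X x.1 := h
      rw [hy'] at h'
      exact h' (subset_closure rfl)
    have hdimZb := dim_complObj_add Y 0 (φ ⁻¹ᵁ (complCl X x.1)) hUCF y' (hc1 y' hy') hy'UC
    haveI : Finite ((complObj Y (φ ⁻¹ᵁ (complCl X x.1))).cdPt 0) :=
      (finite_codim_zero (complObj Y (φ ⁻¹ᵁ (complCl X x.1)))).to_subtype
    haveI : Fintype ((complObj Y (φ ⁻¹ᵁ (complCl X x.1))).cdPt 0) := Fintype.ofFinite _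
    have hpd : ∀ y : Y.scheme, WeilCoh.codim Y.scheme y = 0 + 1 →
        WeilCoh.pdim X.scheme (φ y) = WeilCoh.pdim Y.scheme y := by
      intro y hy
      have h0 : relCodim (Y.ptSub y).scheme (X.ptSub (t ⟨y, hy⟩).1).scheme = 0 :=
        (F ⟨y, hy⟩).codim_eq
      have hm : φ y = (t ⟨y, hy⟩).1 := (F ⟨y, hy⟩).maps_pt
      unfold relCodim at h0
      rw [dim_ptSub, dim_ptSub] at h0
      rw [hm]
      omega
    have hfib := map_eq_of_codim_zero X q x Y φ hdimY hdimZb hpd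
    obtain ⟨S₁, hS₁F, hxS₁, hS₁W⟩ := exists_open_x X q w x hx Wa hWa
    obtain ⟨S₂, hS₂F, hxS₂, hS₂p⟩ := exists_open_y X q x Y φ hdimZb hc1
    have hS : ContainsFj X q (S₁ ⊓ S₂) := fun y hy => ⟨hS₁F y hy, hS₂F y hy⟩
    have hgenw : ptGen X w.1 ∈ (X.ptSubι w.1) ⁻¹ᵁ ((S₁ ⊓ S₂) ⊓ complCl X x.1) := by
      change (X.ptSubι w.1) (ptGen X w.1) ∈ (S₁ ⊓ S₂) ⊓ complCl X x.1
      rw [ptSubι_ptGen]
      exact ⟨hS w.1 (le_of_eq w.2), hwx⟩
    have hgen := ptGen_preimage φ (genericPoint Y.scheme) w.1 L.maps_pt _ hgenw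
    have hle : (redLift φ (genericPoint Y.scheme) w.1 L.maps_pt) ⁻¹ᵁ
        ((X.ptSubι w.1) ⁻¹ᵁ ((S₁ ⊓ S₂) ⊓ complCl X x.1)) ≤ W.1 := by
      intro p hp
      apply hWale
      have hp' : (X.ptSubι w.1) ((redLift φ (genericPoint Y.scheme) w.1 L.maps_pt) p) ∈
          (S₁ ⊓ S₂) ⊓ complCl X x.1 := hp
      exact hS₁W _ hp'.1.1 hp'.2
    have e := ocolimι_res T (Y.ptSub (genericPoint Y.scheme))
      (fun U => (U : Set (Y.ptSub (genericPoint Y.scheme)).scheme).Nonempty) i n M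
      (U' := gIdx Y (genericPoint Y.scheme) _ hgen) (U := W) hle α
    obtain ⟨α₁, hα₁⟩ : ∃ α₁ : T.gp ((Y.ptSub (genericPoint Y.scheme)).res
        ((redLift φ (genericPoint Y.scheme) w.1 L.maps_pt) ⁻¹ᵁ
          ((X.ptSubι w.1) ⁻¹ᵁ ((S₁ ⊓ S₂) ⊓ complCl X x.1)))) M i n, α₁ =
        (T.pull (idxRes (Y.ptSub (genericPoint Y.scheme))
          (fun U => (U : Set (Y.ptSub (genericPoint Y.scheme)).scheme).Nonempty)
          (U' := gIdx Y (genericPoint Y.scheme) _ hgen) (U := W) hle) M i n).hom α := ⟨_, rfl⟩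
    rw [← hα₁] at e
    rw [e]
    have htg : ∀ z : (complObj Y (φ ⁻¹ᵁ (complCl X x.1))).cdPt 0,
        t (xOf Y 0 (φ ⁻¹ᵁ (complCl X x.1)) hdimZb z) = x := fun z =>
      Subtype.ext (((F (xOf Y 0 (φ ⁻¹ᵁ (complCl X x.1)) hdimZb z)).maps_pt).symm.trans
        (hfib z.1 z.2))
    have hcore := core16097 T hred X q w x Y φ (genericPoint Y.scheme) hη hY0 P Q L P' Q' hdimY
      hdimZb (fun z => Eq.mp (congrArg (fun x' : X.cdPt (q + 1) =>
        T.PtPush φ (complι Y (φ ⁻¹ᵁ (complCl X x.1)) z.1) x'.1) (htg z))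
        (F (xOf Y 0 (φ ⁻¹ᵁ (complCl X x.1)) hdimZb z)))
      (S₁ ⊓ S₂) hS ⟨hxS₁, hxS₂⟩ (fun z hz => hS₂p z hz.2)
      (fun z hz => by rw [hfib z hz]; exact ⟨hxS₁, hxS₂⟩)
      M i n i₁ n₁ i₂ n₂ i₃ n₃ h1 h1' h2 h2' h3 h3' h4 h4' hgen α₁
    refine hcore.trans ?_
    have hfam := famTot_component T φ t F M i₂ n₂ x
      (xOf Y 0 (φ ⁻¹ᵁ (complCl X x.1)) hdimZb)
      (xOf_injective Y 0 (φ ⁻¹ᵁ (complCl X x.1)) hdimZb) htg
      (fun y hy => exists_xOf Y 0 (φ ⁻¹ᵁ (complCl X x.1)) hdimZb y (by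
        intro h
        have h' : φ y.1 ∈ complCl X x.1 := h
        have hm : φ y.1 = (t y).1 := (F y).maps_pt
        rw [hm, hy] at h'
        exact h' (subset_closure rfl)))
      (fun z => Eq.mp (congrArg (fun x' : X.cdPt (q + 1) =>
        T.PtPush φ (complι Y (φ ⁻¹ᵁ (complCl X x.1)) z.1) x'.1) (htg z))
        (F (xOf Y 0 (φ ⁻¹ᵁ (complCl X x.1)) hdimZb z)))
    exact (hfam ((Q'.tot M i₃ n₃ i₂ n₂ h4 h4').hom
      ((P'.cpt ⟨genericPoint Y.scheme, hη⟩ M i n i₃ n₃ h3 h3').hom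
        (((T.ptι Y (genericPoint Y.scheme) i n
          (gIdx Y (genericPoint Y.scheme) _ hgen)).app M).hom α₁)))).symm
  · -- the point is not in the closure of `w`
    rw [res_cpt_eq_zero_of_not_mem T X q w x hx P Q M i n i₁ n₁ i₂ n₂ h1 h1' h2 h2']
    have hfam := famTot_component T φ t F M i₂ n₂ x (I := PEmpty.{u + 1})
      (fun e => e.elim) (fun e => e.elim) (fun e => e.elim)
      (fun y hy => by
        exfalso
        apply hx
        have hm : φ y.1 = (t y).1 := (F y).maps_pt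
        rw [← hy, ← hm]
        exact hmapcl y.1)
      (fun e => e.elim)
    refine Eq.trans ?_ (hfam _).symm
    rw [Finset.univ_eq_empty, Finset.sum_empty]

end main

end Groth.Agent.Helper17.BM
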