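import Groth.Agent.Lib.Helper17.BM13

/-!
# Borel–Moore theories: vanishing of `H(F_jX)` from vanishing at the points of `X` only, and the
bijection from `ker ∂ι / im ∂ι` onto the refined unramified group in the top degree
-/

set_option autoImplicit false
universe u
open AlgebraicGeometry CategoryTheory CategoryTheory.Limits Opposite BMCoh TopologicalSpace
open Topology Order Set

namespace Groth.Agent.Helper17.BM
open Groth.Agent.Helper23.BMLib1 Groth.Agent.Helper23.BMLib2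

section clpt
variable {V : ObjectProperty Scheme.{u}} [IsConstructible V] {R : Type u} [CommRing R]
  {A : Coefs R}

instance isClosedImmersion_redLift {Z X : Obj V} (ι : Z.scheme ⟶ X.scheme) [IsClosedImmersion ι]
    (z : Z.scheme) (x : X.scheme) (h : ι z = x) : IsClosedImmersion (redLift ι z x h) := by
  haveI : IsClosedImmersion (redLift ι z x h ≫ X.ptSubι x) := by
    rw [redLift_ι]
    infer_instance
  exact IsClosedImmersion.of_comp (redLift ι z x h) (X.ptSubι x)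

theorem range_redLift_cl {Z X : Obj V} (ι : Z.scheme ⟶ X.scheme) [IsClosedImmersion ι]
    (z : Z.scheme) : Set.range (redLift ι z (ι z) rfl) = Set.univ := by
  rw [Set.eq_univ_iff_forall]
  intro w
  have hw : (X.ptSubι (ι z)) w ∈ closure ({ι z} : Set X.scheme) := by
    rw [← range_ptSubι]
    exact ⟨w, rfl⟩
  rw [← Set.image_singleton, ι.isClosedEmbedding.closure_image_eq] at hw
  obtain ⟨z', hz', hz'w⟩ := hw
  rw [← range_ptSubι] at hz'
  obtain ⟨w', rfl⟩ := hz'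
  refine ⟨w', ?_⟩
  apply (X.ptSubι (ι z)).isClosedEmbedding.injective
  have := congrArg (fun t => t.base w') (redLift_ι ι z (ι z) rfl)
  refine Eq.trans this ?_
  exact hz'w

theorem eQ_eQinv (Y Z : Obj V) [IsReduced Z.scheme] (q : Y.scheme ⟶ Z.scheme)
    [IsClosedImmersion q] (O : Z.scheme.Opens) (hO : (O : Set Z.scheme) ⊆ Set.range q) :
    eQ Y Z q O hO ≫ eQinv Y Z q O hO = 𝟙 _ := by
  haveI := isIso_restrict_q Y Z q O hO
  apply BMCoh.Hom.ext
  change (q ∣_ O) ≫ inv (q ∣_ O) = 𝟙 _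
  simp

/-- the group of a point of a closed subscheme vanishes when the group of its image does -/
theorem ptGp_isZero_of_closedImmersion (T : PreTheory V R A) (X Z : Obj V)
    (ι : Z.scheme ⟶ X.scheme) [IsClosedImmersion ι] (z : Z.scheme) (M : A.Cat) (i n : ℤ)
    (hz : IsZero (T.ptGp X (ι z) M i n)) : IsZero (T.ptGp Z z M i n) := by
  rw [ModuleCat.isZero_iff_subsingleton]
  suffices h0 : ∀ y : T.ptGp Z z M i n, y = 0 from ⟨fun a b => by rw [h0 a, h0 b]⟩
  intro y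
  obtain ⟨W', β, rfl⟩ := ocolim_exists_rep T (Z.ptSub z)
    (fun U => (U : Set (Z.ptSub z).scheme).Nonempty) i n M (idx_directed Z z) y
  have hcl : IsClosedMap (redLift ι z (ι z) rfl) := (redLift ι z (ι z) rfl).isClosedMap
  have hsurj : Function.Surjective (redLift ι z (ι z) rfl) := by
    rw [← Set.range_eq_univ]
    exact range_redLift_cl ι z
  have hinj : Function.Injective (redLift ι z (ι z) rfl) :=
    (redLift ι z (ι z) rfl).isClosedEmbedding.injective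
  -- the open of the closure of `ι z` corresponding to `W'`
  let O : (X.ptSub (ι z)).scheme.Opens :=
    ⟨((redLift ι z (ι z) rfl) '' ((W'.1 : Set (Z.ptSub z).scheme)ᶜ))ᶜ,
      (hcl _ W'.1.isOpen.isClosed_compl).isOpen_compl⟩
  have hpre : (redLift ι z (ι z) rfl) ⁻¹ᵁ O = W'.1 := by
    ext w
    change (redLift ι z (ι z) rfl) w ∉ (redLift ι z (ι z) rfl) '' ((W'.1 : Set _)ᶜ) ↔ w ∈ W'.1
    constructor
    · intro hw
      by_contra hwW
      exact hw ⟨w, hwW, rfl⟩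
    · rintro hw ⟨w₂, hw₂, he⟩
      exact hw₂ (hinj he ▸ hw)
  have hOne : ((O : (X.ptSub (ι z)).scheme.Opens) : Set (X.ptSub (ι z)).scheme).Nonempty := by
    obtain ⟨w, hw⟩ := W'.2.1
    refine ⟨(redLift ι z (ι z) rfl) w, ?_⟩
    have : w ∈ (redLift ι z (ι z) rfl) ⁻¹ᵁ O := by rw [hpre]; exact hw
    exact this
  have hO : (O : Set (X.ptSub (ι z)).scheme) ⊆ Set.range (redLift ι z (ι z) rfl) := by
    rw [range_redLift_cl]
    exact Set.subset_univ _
  let jO : Idx (X.ptSub (ι z)) (fun U => (U : Set (X.ptSub (ι z)).scheme).Nonempty) :=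
    ⟨O, hOne, IsConstructible.dim_open (X.ptSub (ι z)).mem inferInstance _ hOne⟩
  have hneW : (((redLift ι z (ι z) rfl) ⁻¹ᵁ O : (Z.ptSub z).scheme.Opens) :
      Set (Z.ptSub z).scheme).Nonempty := by rw [hpre]; exact W'.2.1
  let W₁ : Idx (Z.ptSub z) (fun U => (U : Set (Z.ptSub z).scheme).Nonempty) :=
    ⟨(redLift ι z (ι z) rfl) ⁻¹ᵁ O, hneW,
      IsConstructible.dim_open (Z.ptSub z).mem inferInstance _ hneW⟩
  have hle₁ : W₁.1 ≤ W'.1 := le_of_eq hpre
  rw [ocolimι_res T (Z.ptSub z) _ i n M hle₁ β]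
  obtain ⟨β₁, hβ₁⟩ : ∃ β₁ : T.gp ((Z.ptSub z).res W₁.1) M i n,
      β₁ = (T.pull (idxRes (Z.ptSub z) _ hle₁) M i n).hom β := ⟨_, rfl⟩
  rw [← hβ₁]
  let β₂ : T.gp ((X.ptSub (ι z)).res O) M i n :=
    (T.pull (eQinv (Z.ptSub z) (X.ptSub (ι z)) (redLift ι z (ι z) rfl) O hO) M i n).hom β₁
  obtain ⟨k, hk, hk0⟩ := exists_pull_eq_zero T (X.ptSub (ι z)) _ (idx_directed X (ι z)) i n M
    hz jO β₂
  have hnek : (((redLift ι z (ι z) rfl) ⁻¹ᵁ k.1 : (Z.ptSub z).scheme.Opens) :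
      Set (Z.ptSub z).scheme).Nonempty := by
    obtain ⟨w, hw⟩ := k.2.1
    obtain ⟨w', rfl⟩ := hsurj w
    exact ⟨w', hw⟩
  let W₂ : Idx (Z.ptSub z) (fun U => (U : Set (Z.ptSub z).scheme).Nonempty) :=
    ⟨(redLift ι z (ι z) rfl) ⁻¹ᵁ k.1, hnek,
      IsConstructible.dim_open (Z.ptSub z).mem inferInstance _ hnek⟩
  have hle₂ : W₂.1 ≤ W₁.1 := fun _ hx => hk hx
  rw [ocolimι_res T (Z.ptSub z) _ i n M hle₂ β₁]
  have hkO : (k.1 : Set (X.ptSub (ι z)).scheme) ⊆ Set.range (redLift ι z (ι z) rfl) := by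
    rw [range_redLift_cl]
    exact Set.subset_univ _
  have hnat := eQ_natural (Z.ptSub z) (X.ptSub (ι z)) (redLift ι z (ι z) rfl) O k.1 hk hO
    (k.2.2.trans jO.2.2.symm) (W₂.2.2.trans W₁.2.2.symm)
  have hβ₁' : β₁ = (T.pull (eQ (Z.ptSub z) (X.ptSub (ι z)) (redLift ι z (ι z) rfl) O hO)
      M i n).hom β₂ := by
    change β₁ = (T.pull (eQ (Z.ptSub z) (X.ptSub (ι z)) (redLift ι z (ι z) rfl) O hO) M i n).hom
      ((T.pull (eQinv (Z.ptSub z) (X.ptSub (ι z)) (redLift ι z (ι z) rfl) O hO) M i n).hom β₁)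
    rw [← pull_comp_apply, eQ_eQinv, pull_id]
    rfl
  have hzero : (T.pull (idxRes (Z.ptSub z) _ hle₂) M i n).hom β₁ = 0 := by
    rw [hβ₁']
    change (T.pull ((Z.ptSub z).resLE hle₂ (W₂.2.2.trans W₁.2.2.symm)) M i n).hom _ = 0
    rw [← pull_comp_apply, hnat, pull_comp_apply]
    change (T.pull (eQ (Z.ptSub z) (X.ptSub (ι z)) (redLift ι z (ι z) rfl) k.1 hkO) M i n).hom
      ((T.pull ((X.ptSub (ι z)).resLE hk (k.2.2.trans jO.2.2.symm)) M i n).hom β₂) = 0
    rw [hk0, map_zero]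
  rw [hzero, map_zero]

end clpt

section van
variable {V : ObjectProperty Scheme.{u}} [IsConstructible V] {R : Type u} [CommRing R]
  {A : Coefs R}

/-- `van_aux` with the vanishing hypothesis only at the points of the ambient object -/
theorem van_aux' (T : PreTheory V R A) (M : A.Cat) (c : ℕ) (X₀ : Obj V)
    (hc : ∀ (y : X₀.scheme) (i n : ℤ), (WeilCoh.pdim X₀.scheme y : ℤ) + c < i →
      IsZero (T.ptGp X₀ y M i n))
    (C : Closeds X₀.scheme) :
    ∀ (Z : Obj V) [IsReduced Z.scheme] (ι : Z.scheme ⟶ X₀.scheme) [IsClosedImmersion ι],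
      Set.range ι = (C : Set X₀.scheme) → ∀ (j : ℕ) (i n : ℤ),
        (WeilCoh.dim Z.scheme : ℤ) + j + c < i →
        ∀ (U : Idx Z (ContainsFj Z j)) (β : T.gp (Z.res U.1) M i n),
          ∃ (U' : Idx Z (ContainsFj Z j)) (hle : U'.1 ≤ U.1),
            (T.pull (idxRes Z (ContainsFj Z j) hle) M i n).hom β = 0 := by
  haveI : NoetherianSpace X₀.scheme := inferInstance
  induction C using WellFoundedLT.induction with
  | ind C ih =>
  intro Z _ ι _ hr j i n hi U β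
  by_cases hemp : IsEmpty Z.scheme
  · haveI : IsEmpty (Z.res U.1).scheme := ⟨fun p => hemp.false p.1⟩
    refine ⟨U, le_rfl, ?_⟩
    haveI := ModuleCat.subsingleton_of_isZero (isZero_of_isEmpty T (Z.res U.1) M i n)
    exact Subsingleton.elim _ _
  rw [not_isEmpty_iff] at hemp
  obtain ⟨i0, rfl⟩ : ∃ i0, i = i0 + 1 := ⟨i - 1, by ring⟩
  obtain ⟨η, o, ho, hηo, hocl, hdim⟩ := exists_generic_top Z.scheme (finDim_obj Z)
  have hpη : WeilCoh.pdim Z.scheme η = WeilCoh.dim Z.scheme := by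
    unfold WeilCoh.pdim WeilCoh.dim
    exact natDim_congr hdim
  have hηU : η ∈ U.1 := U.2.1 η (by unfold WeilCoh.codim; omega)
  let W : Z.scheme.Opens := ⟨o, ho⟩ ⊓ U.1
  have hηW : η ∈ W := ⟨hηo, hηU⟩
  have hWcl : (W : Set Z.scheme) ⊆ closure ({η} : Set Z.scheme) := fun y hy => hocl hy.1
  have hdW : WeilCoh.dim (W : Scheme.{u}) = WeilCoh.dim Z.scheme := by
    rw [dim_open_of_subset_closure Z η W hηW hWcl]
    exact hpη
  have hWU : W ≤ U.1 := inf_le_right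
  have hzη : IsZero (T.ptGp Z η M (i0 + 1) n) := by
    apply ptGp_isZero_of_closedImmersion T X₀ Z ι η M (i0 + 1) n
    apply hc
    rw [← pdim_closedImmersion ι η, hpη]
    omega
  obtain ⟨W', hleW, hdW', hηW', hzW⟩ := generic_vanishing' T Z η W hηW hWcl M (i0 + 1) n
    hzη
    ((T.pull (Z.resLE hWU (hdW.trans U.2.2.symm)) M (i0 + 1) n).hom β)
  have hdW'Z : WeilCoh.dim (W' : Scheme.{u}) = WeilCoh.dim Z.scheme := hdW'.trans hdW
  have hW'U : W' ≤ U.1 := hleW.trans hWU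
  have hβW' : (T.pull (Z.resLE hW'U (hdW'Z.trans U.2.2.symm)) M (i0 + 1) n).hom β = 0 := by
    refine (pull_comp_apply' T (Z.resLE hleW hdW') (Z.resLE hWU (hdW.trans U.2.2.symm)) _
      (resLE_comp Z _ _ _ _) M (i0 + 1) n β).symm.trans hzW
  -- the closed complement
  let ι' : (complObj Z W').scheme ⟶ Z.scheme := (complIdeal Z.scheme W').subschemeι
  haveI : IsClosedImmersion ι' :=
    inferInstanceAs (IsClosedImmersion (complIdeal Z.scheme W').subschemeι)
  have hrange' : Set.range ι' = (W' : Set Z.scheme)ᶜ := range_complι Z.scheme W'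
  have hdle : WeilCoh.dim (complObj Z W').scheme ≤ WeilCoh.dim Z.scheme :=
    dim_le_of_closedImmersion ι' (finDim_obj Z)
  obtain ⟨e₀, he₀⟩ : ∃ e₀ : ℕ, WeilCoh.dim (complObj Z W').scheme + e₀ = WeilCoh.dim Z.scheme :=
    ⟨_, Nat.add_sub_cancel' hdle⟩
  by_cases he : e₀ ≤ j
  · have hjeq : e₀ + (j - e₀) = j := by omega
    have hUF : ContainsFj Z (e₀ + (j - e₀)) U.1 := containsFj_mono Z (le_of_eq hjeq) U.1 U.2.1
    have hlt : (⟨Set.range (ι' ≫ ι), (ι' ≫ ι).isClosedEmbedding.isClosed_range⟩ :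
        Closeds X₀.scheme) < C := by
      rw [← SetLike.coe_ssubset_coe]
      change Set.range (ι' ≫ ι) ⊂ (C : Set X₀.scheme)
      rw [← hr]
      constructor
      · rintro _ ⟨x, rfl⟩
        exact ⟨ι' x, by simp⟩
      · intro hsub
        obtain ⟨z, hz'⟩ := hsub ⟨η, rfl⟩
        have h1 : ι (ι' z) = ι η := by rw [← hz']; simp
        have h2 : ι' z = η := ι.isEmbedding.injective h1
        have h3 : η ∈ Set.range ι' := ⟨z, h2⟩
        rw [hrange'] at h3
        exact h3 hηW'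
    have hvan := ih _ hlt (complObj Z W') (ι' ≫ ι) rfl (j - e₀) (i0 + 1 - 2 * (e₀ : ℤ))
      (n - (e₀ : ℤ)) (by
        have h1 : ((WeilCoh.dim (complObj Z W').scheme : ℕ) : ℤ) + (e₀ : ℤ) =
            (WeilCoh.dim Z.scheme : ℤ) := by exact_mod_cast he₀
        have h2 : (((j - e₀ : ℕ)) : ℤ) = (j : ℤ) - (e₀ : ℤ) := Nat.cast_sub he
        omega)
    obtain ⟨U₃, hle₃, hF₃, hd₃, hz₃⟩ := inj_core' T Z (complObj Z W') ι' M e₀ (j - e₀)
      (i0 + 1 - 2 * (e₀ : ℤ)) (n - (e₀ : ℤ)) i0 n (by ring) (by ring) he₀ hvan W' U.1 hrange'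
      hUF hW'U (hdW'Z.trans U.2.2.symm) β hβW'
    have hF₃' : ContainsFj Z j U₃ := containsFj_mono Z (le_of_eq hjeq.symm) U₃ hF₃
    exact ⟨⟨U₃, hF₃', hd₃.trans U.2.2⟩, hle₃, hz₃⟩
  · have hFW' : ContainsFj Z j W' := by
      intro y hy
      by_contra hyW'
      have : y ∈ Set.range ι' := by rw [hrange']; exact hyW'
      obtain ⟨z, rfl⟩ := this
      rw [codim_closedImmersion Z (complObj Z W') ι' e₀ he₀ z] at hy
      omega
    exact ⟨⟨W', hFW', hdW'Z⟩, hW'U, hβW'⟩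

theorem main15885' (T : PreTheory V R A) (M : A.Cat) (c : ℕ)
    (X : Obj V) [IsReduced X.scheme]
    (hc : ∀ (y : X.scheme) (i n : ℤ), (WeilCoh.pdim X.scheme y : ℤ) + c < i →
      IsZero (T.ptGp X y M i n))
    (j : ℕ) (i n : ℤ)
    (hi : (WeilCoh.dim X.scheme : ℤ) + j + c < i) : IsZero (T.fjGp X j M i n) := by
  rw [ModuleCat.isZero_iff_subsingleton]
  suffices h0 : ∀ y : T.fjGp X j M i n, y = 0 from ⟨fun a b => by rw [h0 a, h0 b]⟩
  intro y
  obtain ⟨U, β, rfl⟩ := ocolim_exists_rep T X (ContainsFj X j) i n M (fj_directed X j) y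
  obtain ⟨U', hle, hz⟩ := van_aux' T M c X hc ⊤ X (𝟙 _) (by simp) j i n hi U β
  rw [ocolimι_res T X (ContainsFj X j) i n M hle β, hz, map_zero]

end van

section main
variable {V : ObjectProperty Scheme.{u}} [IsConstructible V] {R : Type u} [CommRing R]
  {A : Coefs R}

theorem main15933 (T : PreTheory V R A) (X : Obj V) [IsReduced X.scheme] (M : A.Cat) (c : ℕ)
    (hc : ∀ (y : X.scheme) (k l : ℤ), (WeilCoh.pdim X.scheme y : ℤ) + c < k →
      IsZero (T.ptGp X y M k l))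
    (q : ℕ) (P₀ : T.PushData X q) (Q₀ : T.ResData X q) (P₁ : T.PushData X (q + 1))
    (Q₁ : T.ResData X (q + 1)) (e m a n e' m' b k a₀ n₀ : ℤ)
    (hd : e + ((q + 1 : ℕ) : ℤ) = (WeilCoh.dim X.scheme : ℤ) + c)
    (ha : a = e + 2 * ((q + 1 : ℕ) : ℤ)) (hn : n = m + ((q + 1 : ℕ) : ℤ))
    (he' : e' = a + 1 - 2 * (((q + 1 : ℕ) : ℤ) + 1)) (hm' : m' = n - (((q + 1 : ℕ) : ℤ) + 1))
    (hb : a₀ = b + 2 * (q : ℤ)) (hk : n₀ = k + (q : ℤ))
    (he : e = a₀ + 1 - 2 * ((q : ℤ) + 1)) (hm : m = n₀ - ((q : ℤ) + 1)) :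
    (∀ α : T.fjGp X (q + 1) M a n, α ∈ T.nr X (q + 1) a n M →
      ∃ ξ : T.ptSum X (q + 1) M e m,
        (Q₁.tot M a n e' m' he' hm').hom ((P₁.tot M e m a n ha hn).hom ξ) = 0 ∧
        (P₁.tot M e m a n ha hn).hom ξ = α) ∧
    (∀ ξ : T.ptSum X (q + 1) M e m,
      (Q₁.tot M a n e' m' he' hm').hom ((P₁.tot M e m a n ha hn).hom ξ) = 0 →
      (P₁.tot M e m a n ha hn).hom ξ = 0 →
      ∃ ζ : T.ptSum X q M b k,
        (Q₀.tot M a₀ n₀ e m he hm).hom ((P₀.tot M b k a₀ n₀ hb hk).hom ζ) = ξ) := by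
  constructor
  · intro α hα
    -- `α` restricts to zero on `F_q` since that group vanishes
    have hzero : IsZero (T.fjGp X q M a n) := by
      apply main15885' T M c X hc q a n
      push_cast at hd ha ⊢
      omega
    haveI := ModuleCat.subsingleton_of_isZero hzero
    have hres : ((T.fjRes X (Nat.le_succ q) a n).app M).hom α = 0 := Subsingleton.elim _ _
    obtain ⟨ξ, hξ⟩ := ((main15929 T X q P₁ M e m a n ha hn) α).1 hres
    refine ⟨ξ, ?_, hξ⟩
    rw [hξ]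
    obtain ⟨γ, hγ⟩ := hα
    exact ((main15927 T X (q + 1) Q₁ M a n e' m' he' hm') α).2 ⟨γ, hγ⟩
  · intro ξ _ hξ0
    have hi2 : a₀ + 1 = e + 2 * ((q + 1 : ℕ) : ℤ) := by push_cast; omega
    have hn2 : n₀ = m + ((q + 1 : ℕ) : ℤ) := by push_cast; omega
    obtain rfl : a = a₀ + 1 := by rw [ha, hi2]
    obtain rfl : n₀ = n := by rw [hn, hn2]
    obtain ⟨β, hβ⟩ := ((main15928 T X q Q₀ P₁ M a₀ n₀ e m he hm hi2 hn2) ξ).1 hξ0
    -- `β` comes from the points of codimension `q`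
    have hβζ : ∃ ζ : T.ptSum X q M b k, (P₀.tot M b k a₀ n₀ hb hk).hom ζ = β := by
      cases q with
      | zero =>
        exact (main15930 T X P₀ M b k a₀ n₀ hb hk).2 β
      | succ p =>
        have hzero : IsZero (T.fjGp X p M a₀ n₀) := by
          apply main15885' T M c X hc p a₀ n₀
          push_cast at hd he ⊢
          omega
        haveI := ModuleCat.subsingleton_of_isZero hzero
        have hres : ((T.fjRes X (Nat.le_succ p) a₀ n₀).app M).hom β = 0 := Subsingleton.elim _ _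
        exact ((main15929 T X p P₀ M b k a₀ n₀ hb hk) β).1 hres
    obtain ⟨ζ, hζ⟩ := hβζ
    exact ⟨ζ, by rw [hζ]; exact hβ⟩

end main

end Groth.Agent.Helper17.BM
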