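import Groth.Agent.Lib.Helper17.BM1

/-!
# Borel–Moore theories: elements of the open-system colimits
-/

set_option autoImplicit false
universe u
open AlgebraicGeometry CategoryTheory CategoryTheory.Limits Opposite BMCoh TopologicalSpace
open Topology Order Set

namespace Groth.Agent.Helper17.BM
open Groth.Agent.Helper23.BMLib1 Groth.Agent.Helper23.BMLib2

section colim
variable {V : ObjectProperty Scheme.{u}} [IsConstructible V] {R : Type u} [CommRing R]
  {A : Coefs R} (T : PreTheory V R A) (X : Obj V) (P : X.scheme.Opens → Prop) (i n : ℤ) (M : A.Cat)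

/-- the evaluated colimit cocone -/
noncomputable def evCocone : Cocone (((idxDiag X P).op ⋙ T.H i n) ⋙ (evaluation _ _).obj M) :=
  ((evaluation _ _).obj M).mapCocone (colimit.cocone ((idxDiag X P).op ⋙ T.H i n))

noncomputable def evIsColimit : IsColimit (evCocone T X P i n M) :=
  isColimitOfPreserves ((evaluation _ _).obj M) (colimit.isColimit ((idxDiag X P).op ⋙ T.H i n))

/-- restriction between members of an index family -/
noncomputable abbrev idxRes {U' U : Idx X P} (h : U'.1 ≤ U.1) : X.res U'.1 ⟶ X.res U.1 :=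
  X.resLE h (U'.2.2.trans U.2.2.symm)

theorem ocolimι_res {U' U : Idx X P} (h : U'.1 ≤ U.1) (β : T.gp (X.res U.1) M i n) :
    ((T.ocolimι X P i n U).app M).hom β =
      ((T.ocolimι X P i n U').app M).hom ((T.pull (idxRes X P h) M i n).hom β) := by
  have hw := colimit.w ((idxDiag X P).op ⋙ T.H i n) (homOfLE h : U' ⟶ U).op
  have := congrArg (fun t => (t.app M).hom β) hw
  simp only [NatTrans.comp_app, ModuleCat.hom_comp, LinearMap.comp_apply] at this
  exact this.symm

variable (hdir : ∀ U U' : Idx X P, ∃ U'' : Idx X P, U''.1 ≤ U.1 ∧ U''.1 ≤ U'.1)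
include hdir

theorem ocolim_exists_rep [Nonempty (Idx X P)] (y : (T.ocolim X P i n).obj M) :
    ∃ (U : Idx X P) (β : T.gp (X.res U.1) M i n), ((T.ocolimι X P i n U).app M).hom β = y := by
  haveI : IsDirected (Idx X P) (· ≥ ·) := ⟨fun a b => by
    obtain ⟨c, h1, h2⟩ := hdir a b
    exact ⟨c, h1, h2⟩⟩
  obtain ⟨k, β, hβ⟩ := Concrete.isColimit_exists_rep _ (evIsColimit T X P i n M) y
  exact ⟨k.unop, β, hβ⟩

theorem ocolim_eq_zero (U : Idx X P) (β : T.gp (X.res U.1) M i n)
    (h0 : ((T.ocolimι X P i n U).app M).hom β = 0) :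
    ∃ (U' : Idx X P) (hle : U'.1 ≤ U.1), (T.pull (idxRes X P hle) M i n).hom β = 0 := by
  haveI : Nonempty (Idx X P) := ⟨U⟩
  haveI : IsDirected (Idx X P) (· ≥ ·) := ⟨fun a b => by
    obtain ⟨c, h1, h2⟩ := hdir a b
    exact ⟨c, h1, h2⟩⟩
  have h : (evCocone T X P i n M).ι.app (op U) β =
      (evCocone T X P i n M).ι.app (op U) (0 : T.gp (X.res U.1) M i n) := by
    refine Eq.trans h0 ?_
    exact (map_zero _).symm
  obtain ⟨k, f, g, hfg⟩ := Concrete.isColimit_exists_of_rep_eq _ (evIsColimit T X P i n M) β 0 h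
  refine ⟨k.unop, f.unop.le, ?_⟩
  exact hfg.trans (map_zero _)

end colim

section maps
variable {V : ObjectProperty Scheme.{u}} [IsConstructible V] {R : Type u} [CommRing R]
  {A : Coefs R} (T : PreTheory V R A) (X : Obj V)

theorem ocolimMap_ι {P Q : X.scheme.Opens → Prop} (h : ∀ U, P U → Q U) (i n : ℤ) (M : A.Cat)
    (U : Idx X P) (β : T.gp (X.res U.1) M i n) :
    ((T.ocolimMap X h i n).app M).hom (((T.ocolimι X P i n U).app M).hom β) =
      ((T.ocolimι X Q i n ⟨U.1, h _ U.2.1, U.2.2⟩).app M).hom β := by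
  have hw := colimit.ι_pre ((idxDiag X Q).op ⋙ T.H i n) (idxIncl X h).op (op U)
  have := congrArg (fun t => (t.app M).hom β) hw
  simp only [NatTrans.comp_app, ModuleCat.hom_comp, LinearMap.comp_apply] at this
  exact this

theorem fj_directed (j : ℕ) : ∀ U U' : Idx X (ContainsFj X j),
    ∃ U'' : Idx X (ContainsFj X j), U''.1 ≤ U.1 ∧ U''.1 ≤ U'.1 := by
  intro U U'
  exact ⟨mkIdx X j (U.1 ⊓ U'.1) (fun y hy => ⟨U.2.1 y hy, U'.2.1 y hy⟩), inf_le_left, inf_le_right⟩

instance (j : ℕ) : Nonempty (Idx X (ContainsFj X j)) :=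
  ⟨mkIdx X j ⊤ (fun _ _ => trivial)⟩

end maps

end Groth.Agent.Helper17.BM
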