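import Groth.Agent.Lib.Helper17.BM2

/-!
# Borel–Moore theories: peeling one component; exactness at `F_{j+1}`
-/

set_option autoImplicit false
universe u
open AlgebraicGeometry CategoryTheory CategoryTheory.Limits Opposite BMCoh TopologicalSpace
open Topology Order Set

namespace Groth.Agent.Helper17.BM
open Groth.Agent.Helper23.BMLib1 Groth.Agent.Helper23.BMLib2

section step
variable {V : ObjectProperty Scheme.{u}} [IsConstructible V]

theorem closure_disjoint_of_not_mem (X : Obj V) (U' : X.scheme.Opens) (x : X.scheme)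
    (hx : x ∉ U') (y : X.scheme) (hy : y ∈ closure ({x} : Set X.scheme)) : y ∉ U' := by
  intro hyU
  obtain ⟨z, hz, hz'⟩ := mem_closure_iff.1 hy U' U'.isOpen hyU
  rw [Set.mem_singleton_iff.1 hz'] at hz
  exact hx hz

/-- peel off the component of `x` -/
theorem exists_step (X : Obj V) (j : ℕ) (U' U : X.scheme.Opens) (hU' : ContainsFj X j U')
    (hle : U' ≤ U) (x : X.scheme) (hx : WeilCoh.codim X.scheme x = j + 1) (hxU : x ∈ U)
    (hxU' : x ∉ U') :
    ∃ U'' : X.scheme.Opens, U' ≤ U'' ∧ U'' ≤ U ∧ x ∈ U'' ∧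
      (U' : Set X.scheme) = (U'' : Set X.scheme) ∩ (closure ({x} : Set X.scheme))ᶜ := by
  obtain ⟨S, hSf, hSc, hSi, hSU⟩ := NoetherianSpace.exists_finite_set_isClosed_irreducible
    (U'.isOpen.isClosed_compl)
  have hBc : IsClosed (⋃ t ∈ {t ∈ S | x ∉ t}, (t : Set X.scheme)) :=
    (hSf.subset (Set.sep_subset _ _)).isClosed_biUnion (fun t ht => hSc t ht.1)
  let Bo : X.scheme.Opens := ⟨(⋃ t ∈ {t ∈ S | x ∉ t}, (t : Set X.scheme))ᶜ, hBc.isOpen_compl⟩
  have hmemBo : ∀ y : X.scheme, y ∈ Bo ↔ ∀ t ∈ S, x ∉ t → y ∉ t := by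
    intro y
    change y ∈ (⋃ t ∈ {t ∈ S | x ∉ t}, (t : Set X.scheme))ᶜ ↔ _
    simp only [Set.mem_compl_iff, Set.mem_iUnion, Set.mem_setOf_eq, not_exists]
    constructor
    · intro h t ht hxt hyt
      exact h t ⟨ht, hxt⟩ hyt
    · intro h t ht hyt
      exact h t ht.1 ht.2 hyt
  have hSsub : ∀ t ∈ S, ∀ y ∈ t, y ∉ U' := by
    intro t ht y hy hyU
    have : y ∈ ((U' : Set X.scheme))ᶜ := by
      rw [hSU]
      exact ⟨t, ht, hy⟩
    exact this hyU
  refine ⟨U ⊓ Bo, ?_, inf_le_left, ⟨hxU, (hmemBo x).2 (fun t _ hxt => hxt)⟩, ?_⟩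
  · intro y hy
    refine ⟨hle hy, (hmemBo y).2 (fun t ht _ hyt => hSsub t ht y hyt hy)⟩
  · ext y
    constructor
    · intro hy
      refine ⟨⟨hle hy, (hmemBo y).2 (fun t ht _ hyt => hSsub t ht y hyt hy)⟩, ?_⟩
      intro hycl
      exact closure_disjoint_of_not_mem X U' x hxU' y hycl hy
    · rintro ⟨⟨-, hyB⟩, hycl⟩
      by_contra hyU'
      have : y ∈ ((U' : Set X.scheme))ᶜ := hyU'
      rw [hSU] at this
      obtain ⟨t, ht, hyt⟩ := this
      have hxt : x ∈ t := by
        by_contra hxt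
        exact (hmemBo y).1 hyB t ht hxt hyt
      -- `t` is the closure of its generic point
      have hti := hSi t ht
      have htc := hSc t ht
      have hη : closure ({hti.genericPoint} : Set X.scheme) = t := hti.closure_genericPoint htc
      have hηt : hti.genericPoint ∈ t := hη.subset (subset_closure rfl)
      have hηU : hti.genericPoint ∉ U' := hSsub t ht _ hηt
      have hcod : j < WeilCoh.codim X.scheme hti.genericPoint := by
        by_contra hlt
        exact hηU (hU' _ (not_lt.1 hlt))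
      have hxη : x ∈ closure ({hti.genericPoint} : Set X.scheme) := by
        rw [hη]
        exact hxt
      by_cases hne : x = hti.genericPoint
      · apply hycl
        rw [hne, hη]
        exact hyt
      · have := codim_lt_of_ne X hxη hne
        omega

end step

section decomp
variable {V : ObjectProperty Scheme.{u}} [IsConstructible V]

theorem resLE_comp (X : Obj V) {U₁ U₂ U₃ : X.scheme.Opens} (h₁ : U₁ ≤ U₂) (h₂ : U₂ ≤ U₃)
    (hd₁ : WeilCoh.dim (U₁ : Scheme.{u}) = WeilCoh.dim (U₂ : Scheme.{u}))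
    (hd₂ : WeilCoh.dim (U₂ : Scheme.{u}) = WeilCoh.dim (U₃ : Scheme.{u})) :
    X.resLE h₁ hd₁ ≫ X.resLE h₂ hd₂ = X.resLE (h₁.trans h₂) (hd₁.trans hd₂) :=
  BMCoh.Hom.ext (Scheme.homOfLE_homOfLE X.scheme h₁ h₂)

theorem range_homOfLE (X : Scheme.{u}) {O' O : X.Opens} (h : O' ≤ O) :
    Set.range (X.homOfLE h) = {p : ↥O | (p.1 : X) ∈ O'} := by
  ext p
  constructor
  · rintro ⟨q, rfl⟩
    change (X.homOfLE h q).1 ∈ O'
    rw [Scheme.homOfLE_apply]
    exact q.2
  · intro hp
    refine ⟨⟨p.1, hp⟩, ?_⟩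
    apply Subtype.ext
    rw [Scheme.homOfLE_apply]

theorem range_resLE_ptSubι (X : Obj V) (x : X.scheme) (O : X.scheme.Opens)
    (W : (X.ptSub x).scheme.Opens) (hW : W = (X.ptSubι x) ⁻¹ᵁ O) :
    Set.range ((X.ptSubι x).resLE O W (le_of_eq hW)) =
      {p : ↥O | (p.1 : X.scheme) ∈ closure ({x} : Set X.scheme)} := by
  have hfac := Scheme.Hom.resLE_comp_ι (X.ptSubι x) (le_of_eq hW)
  have hpt : ∀ w : ↥W, (((X.ptSubι x).resLE O W (le_of_eq hW)) w).1 = (X.ptSubι x) w.1 := by
    intro w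
    have := congrArg (fun t => t.base w) hfac
    exact this
  ext p
  constructor
  · rintro ⟨w, rfl⟩
    change (((X.ptSubι x).resLE O W (le_of_eq hW)) w).1 ∈ closure ({x} : Set X.scheme)
    rw [hpt, ← range_ptSubι]
    exact ⟨w.1, rfl⟩
  · intro hp
    have hp' : p.1 ∈ Set.range (X.ptSubι x) := by
      rw [range_ptSubι]
      exact hp
    obtain ⟨z, hz⟩ := hp'
    have hzW : z ∈ W := by
      rw [hW]
      change (X.ptSubι x) z ∈ O
      rw [hz]
      exact p.2
    refine ⟨⟨z, hzW⟩, ?_⟩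
    apply Subtype.ext
    rw [hpt]
    exact hz

/-- the decomposition of an open `O` into `O ∩ closure x` (reduced) and the rest -/
noncomputable abbrev decompPt (X : Obj V) (x : X.scheme) (O : X.scheme.Opens)
    (W : (X.ptSub x).scheme.Opens) (hW : W = (X.ptSubι x) ⁻¹ᵁ O) (O' : X.scheme.Opens)
    (hle : O' ≤ O)
    (hO' : (O' : Set X.scheme) = (O : Set X.scheme) ∩ (closure ({x} : Set X.scheme))ᶜ)
    (hd : WeilCoh.dim (O' : Scheme.{u}) = WeilCoh.dim (O : Scheme.{u})) : Decomp (X.res O) where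
  Z := (X.ptSub x).res W
  U := X.res O'
  i := (X.ptSubι x).resLE O W (le_of_eq hW)
  closedImm := isClosedImmersion_resLE _ _ _ hW
  j := X.resLE hle hd
  range_eq := by
    change Set.range (X.scheme.homOfLE hle) = _
    rw [range_homOfLE, range_resLE_ptSubι X x O W hW]
    ext p
    change (p.1 : X.scheme) ∈ O' ↔ ¬ ((p.1 : X.scheme) ∈ closure ({x} : Set X.scheme))
    constructor
    · intro hp
      have : p.1 ∈ (O' : Set X.scheme) := hp
      rw [hO'] at this
      exact this.2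
    · intro hp
      have : p.1 ∈ (O' : Set X.scheme) := by
        rw [hO']
        exact ⟨p.2, hp⟩
      exact this

end decomp

end Groth.Agent.Helper17.BM
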