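import Groth.Agent.Lib.Helper17.BM3

/-!
# Borel–Moore theories: exactness of `⊕ H(x) → H(F_{j+1}X) → H(F_jX)`
-/

set_option autoImplicit false
universe u
open AlgebraicGeometry CategoryTheory CategoryTheory.Limits Opposite BMCoh TopologicalSpace
open Topology Order Set

namespace Groth.Agent.Helper17.BM
open Groth.Agent.Helper23.BMLib1 Groth.Agent.Helper23.BMLib2

section main29
variable {V : ObjectProperty Scheme.{u}} [IsConstructible V] {R : Type u} [CommRing R]
  {A : Coefs R}

/-- the index of the point `x` cut out by an open `O ∋ x` -/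
noncomputable abbrev ptIdxOf (X : Obj V) (x : X.scheme) (O : X.scheme.Opens) (hx : x ∈ O) :
    ptIdx X x :=
  ⟨(X.ptSubι x) ⁻¹ᵁ O,
    ⟨ptGen X x, by change (X.ptSubι x) (ptGen X x) ∈ O; rw [ptSubι_ptGen]; exact hx⟩,
    IsConstructible.dim_open (X.ptSub x).mem inferInstance _
      ⟨ptGen X x, by change (X.ptSubι x) (ptGen X x) ∈ O; rw [ptSubι_ptGen]; exact hx⟩⟩

instance (X : Obj V) (x : X.scheme) : Nonempty (ptIdx X x) :=
  ⟨ptIdxOf X x ⊤ trivial⟩

theorem containsFj_diff_closure (X : Obj V) (j : ℕ) (x : X.scheme)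
    (hx : WeilCoh.codim X.scheme x = j + 1) (O O' : X.scheme.Opens)
    (hO : ContainsFj X (j + 1) O)
    (hO' : (O' : Set X.scheme) = (O : Set X.scheme) ∩ (closure ({x} : Set X.scheme))ᶜ) :
    ContainsFj X j O' := by
  intro y hy
  have : y ∈ (O' : Set X.scheme) := by
    rw [hO']
    refine ⟨hO y (by omega), ?_⟩
    intro hycl
    have := codim_mono X hycl
    omega
  exact this

/-- push-forward from a piece of the closure of `x` followed by restriction to the complement
of that closure vanishes -/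
theorem pull_push_eq_zero (T : PreTheory V R A) (X : Obj V) (j : ℕ) (x : X.cdPt (j + 1))
    (W : ptIdx X x.1) (O : X.scheme.Opens) (hW : W.1 = (X.ptSubι x.1) ⁻¹ᵁ O)
    (hO : ContainsFj X (j + 1) O) (O' : X.scheme.Opens) (hle : O' ≤ O)
    (hO' : (O' : Set X.scheme) = (O : Set X.scheme) ∩ (closure ({x.1} : Set X.scheme))ᶜ)
    (hd : WeilCoh.dim (O' : Scheme.{u}) = WeilCoh.dim (O : Scheme.{u}))
    (M : A.Cat) (i n i0 n' : ℤ)
    (hi : i0 + 1 = i + 2 * relCodim ((X.ptSub x.1).res W.1).scheme (X.res O).scheme)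
    (hn : n' = n + relCodim ((X.ptSub x.1).res W.1).scheme (X.res O).scheme)
    (α : T.gp ((X.ptSub x.1).res W.1) M i n) :
    haveI : IsClosedImmersion ((X.ptSubι x.1).resLE O W.1 (le_of_eq hW)) :=
      isClosedImmersion_resLE _ _ _ hW
    (T.pull (X.resLE hle hd) M (i0 + 1) n').hom
      ((T.push ((X.ptSubι x.1).resLE O W.1 (le_of_eq hW)) M i n (i0 + 1) n' hi hn).hom α) = 0 := by
  haveI : IsClosedImmersion ((X.ptSubι x.1).resLE O W.1 (le_of_eq hW)) :=
    isClosedImmersion_resLE _ _ _ hW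
  let D : Decomp (X.res O) := decompPt X x.1 O W.1 hW O' hle hO' hd
  have hex := T.exact_push_pull D M i0 n' i n hi hn
  exact (hex _).2 ⟨α, rfl⟩

end main29

section main29b
variable {V : ObjectProperty Scheme.{u}} [IsConstructible V] {R : Type u} [CommRing R]
  {A : Coefs R}

theorem resLE_comp_homOfLE (X : Obj V) (x : X.scheme) {O₁ O₂ : X.scheme.Opens} (h : O₁ ≤ O₂)
    (W : (X.ptSub x).scheme.Opens) (h₁ : W ≤ (X.ptSubι x) ⁻¹ᵁ O₁) (h₂ : W ≤ (X.ptSubι x) ⁻¹ᵁ O₂) :
    (X.ptSubι x).resLE O₁ W h₁ ≫ X.scheme.homOfLE h = (X.ptSubι x).resLE O₂ W h₂ := by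
  rw [← cancel_mono O₂.ι, Category.assoc, Scheme.homOfLE_ι, Scheme.Hom.resLE_comp_ι,
    Scheme.Hom.resLE_comp_ι]

/-- the composite `⊕ H(x) → H(F_{j+1}X) → H(F_jX)` vanishes on each summand -/
theorem fjRes_cpt_eq_zero (T : PreTheory V R A) (X : Obj V) (j : ℕ) (P : T.PushData X (j + 1))
    (M : A.Cat) (i n i0 n' : ℤ) (hi : i0 + 1 = i + 2 * ((j + 1 : ℕ) : ℤ))
    (hn : n' = n + ((j + 1 : ℕ) : ℤ)) (x : X.cdPt (j + 1)) (a : T.ptGp X x.1 M i n) :
    ((T.fjRes X (Nat.le_succ j) (i0 + 1) n').app M).hom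
      ((P.cpt x M i n (i0 + 1) n' hi hn).hom a) = 0 := by
  obtain ⟨W, α, rfl⟩ := ocolim_exists_rep T (X.ptSub x.1)
    (fun U => (U : Set (X.ptSub x.1).scheme).Nonempty) i n M (idx_directed X x.1) a
  let O := bigOpen X x.1 W.1
  have hO : ContainsFj X (j + 1) O := containsFj_bigOpen X (j + 1) x W
  let U : Idx X (ContainsFj X (j + 1)) := mkIdx X (j + 1) O hO
  have hrc := relCodim_pt X (j + 1) x W O U.2.2
  have spec := P.cpt_spec x M i n (i0 + 1) n' hi hn U W (toBig X x.1 W.1) (toBig_ι X x.1 W.1)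
    (by rw [hrc]; exact hi) (by rw [hrc]; exact hn)
  have e1 := congrArg (fun t => t.hom α) spec
  simp only [ModuleCat.hom_comp, LinearMap.comp_apply] at e1
  refine (congrArg _ e1).trans ?_
  refine (ocolimMap_ι T X (containsFj_mono X (Nat.le_succ j)) (i0 + 1) n' M U _).trans ?_
  let O' : X.scheme.Opens := O ⊓ ⟨(closure ({x.1} : Set X.scheme))ᶜ, isClosed_closure.isOpen_compl⟩
  have hO'set : (O' : Set X.scheme) = (O : Set X.scheme) ∩ (closure ({x.1} : Set X.scheme))ᶜ := rfl
  have hFj' : ContainsFj X j O' := containsFj_diff_closure X j x.1 x.2 O O' hO hO'set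
  let U' : Idx X (ContainsFj X j) := mkIdx X j O' hFj'
  refine (ocolimι_res T X (ContainsFj X j) (i0 + 1) n' M (U' := U')
    (U := ⟨U.1, containsFj_mono X (Nat.le_succ j) _ U.2.1, U.2.2⟩) inf_le_left _).trans ?_
  have hz := pull_push_eq_zero T X j x W O (preimage_bigOpen X x.1 W.1).symm hO O' inf_le_left
    hO'set (U'.2.2.trans U.2.2.symm) M i n i0 n' (by rw [hrc]; exact hi) (by rw [hrc]; exact hn) α
  refine (congrArg _ hz).trans ?_
  exact map_zero _

end main29b

section main29c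
variable {V : ObjectProperty Scheme.{u}} [IsConstructible V] {R : Type u} [CommRing R]
  {A : Coefs R}

theorem pull_comp_apply' (T : PreTheory V R A) {X₁ X₂ X₃ : Obj V} (f : X₁ ⟶ X₂) (g : X₂ ⟶ X₃)
    (h : X₁ ⟶ X₃) (hh : f ≫ g = h) (M : A.Cat) (i n : ℤ) (β : T.gp X₃ M i n) :
    (T.pull f M i n).hom ((T.pull g M i n).hom β) = (T.pull h M i n).hom β := by
  subst hh
  exact (pull_comp_apply T f g M i n β).symm

/-- the inductive claim: a class on `U ⊇ F_{j+1}` dying on `U' ⊇ F_j` comes from the points -/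
theorem claim29 (T : PreTheory V R A) (X : Obj V) (j : ℕ) (P : T.PushData X (j + 1))
    (M : A.Cat) (i n i0 n' : ℤ) (hi : i0 + 1 = i + 2 * ((j + 1 : ℕ) : ℤ))
    (hn : n' = n + ((j + 1 : ℕ) : ℤ)) :
    ∀ U' : X.scheme.Opens, ContainsFj X j U' → ∀ (U : X.scheme.Opens)
      (hU : ContainsFj X (j + 1) U) (hle : U' ≤ U)
      (hd : WeilCoh.dim (U' : Scheme.{u}) = WeilCoh.dim (U : Scheme.{u}))
      (β : T.gp (X.res U) M (i0 + 1) n'),
      (T.pull (X.resLE hle hd) M (i0 + 1) n').hom β = 0 →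
      ((T.fjι X (j + 1) (i0 + 1) n' (mkIdx X (j + 1) U hU)).app M).hom β ∈
        LinearMap.range (P.tot M i n (i0 + 1) n' hi hn).hom := by
  classical
  intro U'
  induction U' using WellFoundedGT.induction with
  | ind U' ih =>
    intro hU' U hU hle hd β hβ
    by_cases hbig : ContainsFj X (j + 1) U'
    · -- the class already dies on an open containing `F_{j+1}`
      have e := ocolimι_res T X (ContainsFj X (j + 1)) (i0 + 1) n' M
        (U' := mkIdx X (j + 1) U' hbig) (U := mkIdx X (j + 1) U hU) hle β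
      rw [e]
      have : (T.pull (idxRes X (ContainsFj X (j + 1)) (U' := mkIdx X (j + 1) U' hbig)
          (U := mkIdx X (j + 1) U hU) hle) M (i0 + 1) n').hom β = 0 := hβ
      rw [this, map_zero]
      exact Submodule.zero_mem _
    · -- peel off a point of codimension `j + 1`
      unfold ContainsFj at hbig
      push_neg at hbig
      obtain ⟨x, hxc, hxU'⟩ := hbig
      have hxcod : WeilCoh.codim X.scheme x = j + 1 := by
        by_contra hne
        exact hxU' (hU' x (by omega))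
      have hxU : x ∈ U := hU x hxc
      obtain ⟨U'', hU'U'', hU''U, hxU'', hset⟩ := exists_step X j U' U hU' hle x hxcod hxU hxU'
      have hFU'' : ContainsFj X j U'' := fun y hy => hU'U'' (hU' y hy)
      have hdU'' : WeilCoh.dim (U'' : Scheme.{u}) = WeilCoh.dim X.scheme :=
        dim_eq_of_containsFj X j U'' hFU''
      have hdU' : WeilCoh.dim (U' : Scheme.{u}) = WeilCoh.dim X.scheme :=
        dim_eq_of_containsFj X j U' hU'
      have hdU : WeilCoh.dim (U : Scheme.{u}) = WeilCoh.dim X.scheme :=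
        dim_eq_of_containsFj X (j + 1) U hU
      let xp : X.cdPt (j + 1) := ⟨x, hxcod⟩
      let Wi : ptIdx X x := ptIdxOf X x U'' hxU''
      let D : Decomp (X.res U'') := decompPt X x U'' Wi.1 rfl U' hU'U'' hset (hdU'.trans hdU''.symm)
      -- the class restricted to `U''`
      let β'' : T.gp (X.res U'') M (i0 + 1) n' :=
        (T.pull (X.resLE hU''U (hdU''.trans hdU.symm)) M (i0 + 1) n').hom β
      have hβ'' : (T.pull D.j M (i0 + 1) n').hom β'' = 0 := by
        refine (pull_comp_apply' T _ _ (X.resLE hle hd) (resLE_comp X hU'U'' hU''U _ _) M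
          (i0 + 1) n' β).trans hβ
      have hrc : relCodim ((X.ptSub x).res Wi.1).scheme (X.res U'').scheme = ((j + 1 : ℕ) : ℤ) :=
        relCodim_pt X (j + 1) xp Wi U'' hdU''
      have hex := T.exact_push_pull D M i0 n' i n (by rw [hrc]; exact hi) (by rw [hrc]; exact hn)
      obtain ⟨γ, hγ⟩ := (hex β'').1 hβ''
      -- the second open
      let U₂ : X.scheme.Opens := U ⊓ bigOpen X x Wi.1
      have hU₂ : ContainsFj X (j + 1) U₂ := fun y hy =>
        ⟨hU y hy, containsFj_bigOpen X (j + 1) xp Wi y hy⟩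
      have hdU₂ : WeilCoh.dim (U₂ : Scheme.{u}) = WeilCoh.dim X.scheme :=
        dim_eq_of_containsFj X (j + 1) U₂ hU₂
      have hU''U₂ : U'' ≤ U₂ := by
        intro y hy
        refine ⟨hU''U hy, ?_⟩
        rw [SetLike.mem_coe, mem_bigOpen]
        intro z hz
        change (X.ptSubι x) z ∈ U''
        rw [hz]
        exact hy
      have hW₂ : Wi.1 = (X.ptSubι x) ⁻¹ᵁ U₂ := by
        ext z
        constructor
        · intro hz
          exact hU''U₂ hz
        · intro hz
          have h2 : (X.ptSubι x) z ∈ bigOpen X x Wi.1 := hz.2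
          rw [mem_bigOpen] at h2
          exact h2 z rfl
      haveI : IsClosedImmersion ((X.ptSubι x).resLE U₂ Wi.1 (le_of_eq hW₂)) :=
        isClosedImmersion_resLE _ _ _ hW₂
      have hrc₂ : relCodim ((X.ptSub x).res Wi.1).scheme (X.res U₂).scheme = ((j + 1 : ℕ) : ℤ) :=
        relCodim_pt X (j + 1) xp Wi U₂ hdU₂
      have hi₂ : i0 + 1 = i + 2 * relCodim ((X.ptSub x).res Wi.1).scheme (X.res U₂).scheme := by
        rw [hrc₂]; exact hi
      have hn₂ : n' = n + relCodim ((X.ptSub x).res Wi.1).scheme (X.res U₂).scheme := by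
        rw [hrc₂]; exact hn
      let pγ : T.gp (X.res U₂) M (i0 + 1) n' :=
        (T.push ((X.ptSubι x).resLE U₂ Wi.1 (le_of_eq hW₂)) M i n (i0 + 1) n' hi₂ hn₂).hom γ
      let βU₂ : T.gp (X.res U₂) M (i0 + 1) n' :=
        (T.pull (X.resLE (inf_le_left : U₂ ≤ U) (hdU₂.trans hdU.symm)) M (i0 + 1) n').hom β
      -- base change
      have hpb : IsPullback (𝟙 ((X.ptSub x).res Wi.1) : (X.ptSub x).res Wi.1 ⟶ _).hom D.i
          ((X.ptSubι x).resLE U₂ Wi.1 (le_of_eq hW₂))
          (X.resLE hU''U₂ (hdU''.trans hdU₂.symm)).hom := by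
        haveI : IsIso (𝟙 ((X.ptSub x).res Wi.1) : (X.ptSub x).res Wi.1 ⟶ _).hom :=
          inferInstanceAs (IsIso (𝟙 ((X.ptSub x).res Wi.1).scheme))
        apply IsPullback.of_horiz_isIso_mono
        constructor
        change 𝟙 _ ≫ _ = (X.ptSubι x).resLE U'' Wi.1 _ ≫ X.scheme.homOfLE hU''U₂
        rw [Category.id_comp, resLE_comp_homOfLE]
      haveI hDi : IsClosedImmersion D.i := D.closedImm
      haveI hDp : IsProper D.i := inferInstance
      have hbc := T.push_pull ((X.ptSubι x).resLE U₂ Wi.1 (le_of_eq hW₂)) D.i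
        (X.resLE hU''U₂ (hdU''.trans hdU₂.symm)) (𝟙 ((X.ptSub x).res Wi.1)) hpb M i n (i0 + 1) n'
        hi₂ hn₂ (by rw [hrc]; exact hi) (by rw [hrc]; exact hn)
      have hbc' := congrArg (fun t => t.hom γ) hbc
      simp only [ModuleCat.hom_comp, LinearMap.comp_apply] at hbc'
      have hpullid : (((T.H i n).map (𝟙 ((X.ptSub x).res Wi.1)).op).app M).hom γ = γ := by
        have := pull_id T ((X.ptSub x).res Wi.1) M i n
        exact congrArg (fun t => t.hom γ) this
      rw [hpullid, hγ] at hbc'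
      -- the difference dies on `U''`
      have hdiff : (T.pull (X.resLE hU''U₂ (hdU''.trans hdU₂.symm)) M (i0 + 1) n').hom
          (βU₂ - pγ) = 0 := by
        rw [map_sub]
        have h1 : (T.pull (X.resLE hU''U₂ (hdU''.trans hdU₂.symm)) M (i0 + 1) n').hom βU₂ = β'' :=
          pull_comp_apply' T _ _ _ (resLE_comp X hU''U₂ inf_le_left _ _) M (i0 + 1) n' β
        rw [h1]
        exact sub_eq_zero.2 hbc'.symm
      have hlt : U' < U'' := by
        refine lt_of_le_of_ne hU'U'' ?_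
        intro heq
        exact hxU' (heq ▸ hxU'')
      have ih' := ih U'' hlt hFU'' U₂ hU₂ hU''U₂ (hdU''.trans hdU₂.symm) (βU₂ - pγ) hdiff
      -- assemble
      have e := ocolimι_res T X (ContainsFj X (j + 1)) (i0 + 1) n' M
        (U' := mkIdx X (j + 1) U₂ hU₂) (U := mkIdx X (j + 1) U hU) inf_le_left β
      rw [e]
      have hsplit : (T.pull (idxRes X (ContainsFj X (j + 1)) (U' := mkIdx X (j + 1) U₂ hU₂)
          (U := mkIdx X (j + 1) U hU) inf_le_left) M (i0 + 1) n').hom β = (βU₂ - pγ) + pγ := by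
        rw [sub_add_cancel]
      rw [hsplit, map_add]
      refine Submodule.add_mem _ ih' ?_
      -- the push-forward term
      have spec := P.cpt_spec xp M i n (i0 + 1) n' hi hn (mkIdx X (j + 1) U₂ hU₂) Wi
        ((X.ptSubι x).resLE U₂ Wi.1 (le_of_eq hW₂)) (Scheme.Hom.resLE_comp_ι _ _) hi₂ hn₂
      have e1 := congrArg (fun t => t.hom γ) spec
      simp only [ModuleCat.hom_comp, LinearMap.comp_apply] at e1
      refine ⟨DirectSum.lof R (X.cdPt (j + 1)) (fun y : X.cdPt (j + 1) => T.ptGp X y.1 M i n) xp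
        (((T.ptι X x i n Wi).app M).hom γ), ?_⟩
      rw [PreTheory.PushData.tot_lof]
      exact e1

end main29c

section main29d
variable {V : ObjectProperty Scheme.{u}} [IsConstructible V] {R : Type u} [CommRing R]
  {A : Coefs R}

theorem main15929 (T : PreTheory V R A) (X : Obj V) (j : ℕ) (P : T.PushData X (j + 1))
    (M : A.Cat) (i n i' n' : ℤ) (hi : i' = i + 2 * ((j + 1 : ℕ) : ℤ))
    (hn : n' = n + ((j + 1 : ℕ) : ℤ)) :
    Function.Exact (P.tot M i n i' n' hi hn).hom
      ((T.fjRes X (Nat.le_succ j) i' n').app M).hom := by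
  classical
  obtain ⟨i0, rfl⟩ : ∃ i0, i' = i0 + 1 := ⟨i' - 1, by ring⟩
  intro y
  constructor
  · intro hy
    obtain ⟨U, β, rfl⟩ := ocolim_exists_rep T X (ContainsFj X (j + 1)) (i0 + 1) n' M
      (fj_directed X (j + 1)) y
    have hy' := (ocolimMap_ι T X (containsFj_mono X (Nat.le_succ j)) (i0 + 1) n' M U β).symm.trans hy
    obtain ⟨U', hle, hz⟩ := ocolim_eq_zero T X (ContainsFj X j) (i0 + 1) n' M (fj_directed X j)
      (⟨U.1, containsFj_mono X (Nat.le_succ j) _ U.2.1, U.2.2⟩ : Idx X (ContainsFj X j)) β hy'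
    exact claim29 T X j P M i n i0 n' hi hn U'.1 U'.2.1 U.1 U.2.1 hle (U'.2.2.trans U.2.2.symm) β hz
  · rintro ⟨ξ, rfl⟩
    induction ξ using DirectSum.induction_on with
    | zero => rw [map_zero, map_zero]
    | of x a =>
      have h1 := PreTheory.PushData.tot_lof P M i n (i0 + 1) n' hi hn x a
      rw [DirectSum.lof_eq_of] at h1
      rw [h1]
      exact fjRes_cpt_eq_zero T X j P M i n i0 n' hi hn x a
    | add ξ η hξ hη => rw [map_add, map_add, hξ, hη, add_zero]

end main29d

end Groth.Agent.Helper17.BM
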