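import Groth.Agent.Lib.Helper17.BM4

/-!
# Borel–Moore theories: residue data; exactness of `H(F_{j+1}X) → H(F_jX) → ⊕ H(x)`
-/

set_option autoImplicit false
universe u
open AlgebraicGeometry CategoryTheory CategoryTheory.Limits Opposite BMCoh TopologicalSpace
open Topology Order Set

namespace Groth.Agent.Helper17.BM
open Groth.Agent.Helper23.BMLib1 Groth.Agent.Helper23.BMLib2

section res
variable {V : ObjectProperty Scheme.{u}} [IsConstructible V] {R : Type u} [CommRing R]
  {A : Coefs R}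

theorem pull_id_apply (T : PreTheory V R A) (Y : Obj V) (M : A.Cat) (i n : ℤ)
    (β : T.gp Y M i n) : (T.pull (𝟙 Y) M i n).hom β = β :=
  congrArg (fun t => t.hom β) (pull_id T Y M i n)

theorem codim_decompPt (X : Obj V) (j : ℕ) (x : X.cdPt (j + 1)) (O : X.scheme.Opens)
    (W : ptIdx X x.1) (hW : W.1 = (X.ptSubι x.1) ⁻¹ᵁ O) (O' : X.scheme.Opens) (hle : O' ≤ O)
    (hset : (O' : Set X.scheme) = (O : Set X.scheme) ∩ (closure ({x.1} : Set X.scheme))ᶜ)
    (hd : WeilCoh.dim (O' : Scheme.{u}) = WeilCoh.dim (O : Scheme.{u}))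
    (hdO : WeilCoh.dim (O : Scheme.{u}) = WeilCoh.dim X.scheme) :
    (decompPt X x.1 O W.1 hW O' hle hset hd).codim = (j : ℤ) + 1 := by
  have := relCodim_pt X (j + 1) x W O hdO
  change relCodim ((X.ptSub x.1).res W.1).scheme (X.res O).scheme = (j : ℤ) + 1
  rw [this]
  push_cast
  ring

/-- the residue datum is computed by the residue map of the decomposition attached to a point -/
theorem cpt_decompPt (T : PreTheory V R A) (X : Obj V) (j : ℕ) (Q : T.ResData X j)
    (x : X.cdPt (j + 1)) (O : X.scheme.Opens)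
    (W : ptIdx X x.1) (hW : W.1 = (X.ptSubι x.1) ⁻¹ᵁ O) (O' : X.scheme.Opens) (hle : O' ≤ O)
    (hset : (O' : Set X.scheme) = (O : Set X.scheme) ∩ (closure ({x.1} : Set X.scheme))ᶜ)
    (hO' : ContainsFj X j O')
    (hdO : WeilCoh.dim (O : Scheme.{u}) = WeilCoh.dim X.scheme)
    (M : A.Cat) (i n i' n' : ℤ) (hi : i' = i + 1 - 2 * ((j : ℤ) + 1)) (hn : n' = n - ((j : ℤ) + 1))
    (hd : WeilCoh.dim (O' : Scheme.{u}) = WeilCoh.dim (O : Scheme.{u}))
    (hiD : i' = i + 1 - 2 * (decompPt X x.1 O W.1 hW O' hle hset hd).codim)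
    (hnD : n' = n - (decompPt X x.1 O W.1 hW O' hle hset hd).codim)
    (β : T.gp (X.res O') M i n) :
    (Q.cpt x M i n i' n' hi hn).hom (((T.fjι X j i n (mkIdx X j O' hO')).app M).hom β) =
      ((T.ptι X x.1 i' n' W).app M).hom
        ((T.res (decompPt X x.1 O W.1 hW O' hle hset hd) M i n i' n' hiD hnD).hom β) := by
  let D : Decomp (X.res O) := decompPt X x.1 O W.1 hW O' hle hset hd
  have hg : (𝟙 ((X.ptSub x.1).res W.1) : (X.ptSub x.1).res W.1 ⟶ D.Z).hom ≫ D.i ≫
      (X.resι O hdO).hom = W.1.ι ≫ X.ptSubι x.1 := by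
    change 𝟙 _ ≫ (X.ptSubι x.1).resLE O W.1 (le_of_eq hW) ≫ O.ι = _
    rw [Category.id_comp, Scheme.Hom.resLE_comp_ι]
  have hh : (𝟙 (X.res O') : X.res O' ⟶ D.U).hom ≫ D.j.hom ≫ (X.resι O hdO).hom = O'.ι := by
    change 𝟙 _ ≫ X.scheme.homOfLE hle ≫ O.ι = _
    rw [Category.id_comp, Scheme.homOfLE_ι]
  have spec := Q.cpt_spec x M i n i' n' hi hn (X.resι O hdO) D W (𝟙 _) hg (mkIdx X j O' hO')
    (𝟙 _) hh hiD hnD
  have e1 := congrArg (fun t => t.hom β) spec
  simp only [ModuleCat.hom_comp, LinearMap.comp_apply] at e1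
  rw [pull_id_apply, pull_id_apply] at e1
  exact e1

end res

section res2
variable {V : ObjectProperty Scheme.{u}} [IsConstructible V] {R : Type u} [CommRing R]
  {A : Coefs R}

/-- the open complement of the closure of a point -/
def complCl (X : Obj V) (x : X.scheme) : X.scheme.Opens :=
  ⟨(closure ({x} : Set X.scheme))ᶜ, isClosed_closure.isOpen_compl⟩

theorem containsFj_diff_closure' (X : Obj V) (j : ℕ) (x : X.scheme)
    (hx : WeilCoh.codim X.scheme x = j + 1) (O O' : X.scheme.Opens)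
    (hO : ContainsFj X j O)
    (hO' : (O' : Set X.scheme) = (O : Set X.scheme) ∩ (closure ({x} : Set X.scheme))ᶜ) :
    ContainsFj X j O' := by
  intro y hy
  have : y ∈ (O' : Set X.scheme) := by
    rw [hO']
    refine ⟨hO y hy, ?_⟩
    intro hycl
    have := codim_mono X hycl
    omega
  exact this

/-- residues of classes defined near the point vanish -/
theorem cpt_eq_zero_of_mem (T : PreTheory V R A) (X : Obj V) (j : ℕ) (Q : T.ResData X j)
    (x : X.cdPt (j + 1)) (U : Idx X (ContainsFj X j)) (hxU : x.1 ∈ U.1)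
    (M : A.Cat) (i n i' n' : ℤ) (hi : i' = i + 1 - 2 * ((j : ℤ) + 1)) (hn : n' = n - ((j : ℤ) + 1))
    (β : T.gp (X.res U.1) M i n) :
    (Q.cpt x M i n i' n' hi hn).hom (((T.fjι X j i n U).app M).hom β) = 0 := by
  let O' : X.scheme.Opens := U.1 ⊓ complCl X x.1
  have hset : (O' : Set X.scheme) = (U.1 : Set X.scheme) ∩ (closure ({x.1} : Set X.scheme))ᶜ := rfl
  have hO' : ContainsFj X j O' := containsFj_diff_closure' X j x.1 x.2 U.1 O' U.2.1 hset
  have hd : WeilCoh.dim (O' : Scheme.{u}) = WeilCoh.dim (U.1 : Scheme.{u}) :=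
    (dim_eq_of_containsFj X j O' hO').trans U.2.2.symm
  let W : ptIdx X x.1 := ptIdxOf X x.1 U.1 hxU
  have hcod := codim_decompPt X j x U.1 W rfl O' inf_le_left hset hd U.2.2
  have e := ocolimι_res T X (ContainsFj X j) i n M (U' := mkIdx X j O' hO') (U := U) inf_le_left β
  rw [e]
  have hc := cpt_decompPt T X j Q x U.1 W rfl O' inf_le_left hset hO' U.2.2 M i n i' n' hi hn hd
    (by rw [hcod]; exact hi) (by rw [hcod]; exact hn)
    ((T.pull (idxRes X (ContainsFj X j) (U' := mkIdx X j O' hO') (U := U) inf_le_left) M i n).hom β)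
  rw [hc]
  have hex := T.exact_pull_res (decompPt X x.1 U.1 W.1 rfl O' inf_le_left hset hd) M i n i' n'
    (by rw [hcod]; exact hi) (by rw [hcod]; exact hn)
  have hz := (hex _).2 ⟨β, rfl⟩
  refine (congrArg _ hz).trans ?_
  exact map_zero _

end res2

section res3
variable {V : ObjectProperty Scheme.{u}} [IsConstructible V] {R : Type u} [CommRing R]
  {A : Coefs R}

theorem ptSub_resLE_comp (X : Obj V) (x : X.scheme) {O₁ O₂ : X.scheme.Opens} (h : O₁ ≤ O₂)
    (W₁ W₂ : (X.ptSub x).scheme.Opens) (hW : W₁ ≤ W₂)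
    (h₁ : W₁ ≤ (X.ptSubι x) ⁻¹ᵁ O₁) (h₂ : W₂ ≤ (X.ptSubι x) ⁻¹ᵁ O₂) :
    (X.ptSub x).scheme.homOfLE hW ≫ (X.ptSubι x).resLE O₂ W₂ h₂ =
      (X.ptSubι x).resLE O₁ W₁ h₁ ≫ X.scheme.homOfLE h := by
  rw [← cancel_mono O₂.ι, Category.assoc, Category.assoc, Scheme.homOfLE_ι,
    Scheme.Hom.resLE_comp_ι, Scheme.Hom.resLE_comp_ι, ← Category.assoc, Scheme.homOfLE_ι]

/-- the inductive claim: a class on `U ⊇ F_j` with vanishing residues extends over `F_{j+1}` -/
theorem claim27 (T : PreTheory V R A) (X : Obj V) (j : ℕ) (Q : T.ResData X j)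
    (M : A.Cat) (i n i' n' : ℤ) (hi : i' = i + 1 - 2 * ((j : ℤ) + 1))
    (hn : n' = n - ((j : ℤ) + 1)) :
    ∀ U : X.scheme.Opens, ∀ (hU : ContainsFj X j U) (β : T.gp (X.res U) M i n),
      (∀ x : X.cdPt (j + 1), (Q.cpt x M i n i' n' hi hn).hom
        (((T.fjι X j i n (mkIdx X j U hU)).app M).hom β) = 0) →
      ((T.fjι X j i n (mkIdx X j U hU)).app M).hom β ∈
        LinearMap.range ((T.fjRes X (Nat.le_succ j) i n).app M).hom := by
  classical
  intro U
  induction U using WellFoundedGT.induction with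
  | ind U ih =>
    intro hU β hβ
    by_cases hbig : ContainsFj X (j + 1) U
    · exact ⟨((T.fjι X (j + 1) i n (mkIdx X (j + 1) U hbig)).app M).hom β,
        ocolimMap_ι T X (containsFj_mono X (Nat.le_succ j)) i n M (mkIdx X (j + 1) U hbig) β⟩
    · unfold ContainsFj at hbig
      push_neg at hbig
      obtain ⟨x, hxc, hxU⟩ := hbig
      have hxcod : WeilCoh.codim X.scheme x = j + 1 := by
        by_contra hne
        exact hxU (hU x (by omega))
      obtain ⟨U'', hUU'', -, hxU'', hset⟩ :=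
        exists_step X j U ⊤ hU le_top x hxcod trivial hxU
      have hFU'' : ContainsFj X j U'' := fun y hy => hUU'' (hU y hy)
      have hdU'' : WeilCoh.dim (U'' : Scheme.{u}) = WeilCoh.dim X.scheme :=
        dim_eq_of_containsFj X j U'' hFU''
      have hdU : WeilCoh.dim (U : Scheme.{u}) = WeilCoh.dim X.scheme :=
        dim_eq_of_containsFj X j U hU
      let xp : X.cdPt (j + 1) := ⟨x, hxcod⟩
      let Wi : ptIdx X x := ptIdxOf X x U'' hxU''
      have hcod := codim_decompPt X j xp U'' Wi rfl U hUU'' hset (hdU.trans hdU''.symm) hdU''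
      have hc := cpt_decompPt T X j Q xp U'' Wi rfl U hUU'' hset hU hdU'' M i n i' n' hi hn
        (hdU.trans hdU''.symm) (by rw [hcod]; exact hi) (by rw [hcod]; exact hn) β
      rw [hβ xp] at hc
      obtain ⟨W', hle, hz⟩ := ocolim_eq_zero T (X.ptSub x)
        (fun U => (U : Set (X.ptSub x).scheme).Nonempty) i' n' M (idx_directed X x) Wi _ hc.symm
      -- the smaller open
      let U₃ : X.scheme.Opens := U'' ⊓ bigOpen X x W'.1
      have hnotcl : ∀ y, y ∈ U → y ∉ closure ({x} : Set X.scheme) := by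
        intro y hy
        have : y ∈ (U : Set X.scheme) := hy
        rw [hset] at this
        exact this.2
      have hUU₃ : U ≤ U₃ := by
        intro y hy
        refine ⟨hUU'' hy, ?_⟩
        rw [SetLike.mem_coe, mem_bigOpen]
        intro z hz'
        exfalso
        apply hnotcl y hy
        rw [← range_ptSubι, ← hz']
        exact ⟨z, rfl⟩
      have hxU₃ : x ∈ U₃ := by
        refine ⟨hxU'', ?_⟩
        rw [SetLike.mem_coe, mem_bigOpen]
        intro z hz'
        have : z = ptGen X x := by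
          apply (X.ptSubι x).isClosedEmbedding.injective
          rw [hz', ptSubι_ptGen]
        rw [this]
        exact ptGen_mem_of_nonempty X x W'.1 W'.2.1
      have hset₃ : (U : Set X.scheme) =
          (U₃ : Set X.scheme) ∩ (closure ({x} : Set X.scheme))ᶜ := by
        ext y
        constructor
        · intro hy
          exact ⟨hUU₃ hy, hnotcl y hy⟩
        · rintro ⟨hy, hycl⟩
          have : y ∈ (U'' : Set X.scheme) ∩ (closure ({x} : Set X.scheme))ᶜ := ⟨hy.1, hycl⟩
          rw [← hset] at this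
          exact this
      have hW₃ : W'.1 = (X.ptSubι x) ⁻¹ᵁ U₃ := by
        ext z
        constructor
        · intro hz'
          refine ⟨hle hz', ?_⟩
          rw [SetLike.mem_coe, mem_bigOpen]
          intro z' hz''
          have : z' = z := (X.ptSubι x).isClosedEmbedding.injective hz''
          rw [this]
          exact hz'
        · intro hz'
          have h2 : (X.ptSubι x) z ∈ bigOpen X x W'.1 := hz'.2
          rw [mem_bigOpen] at h2
          exact h2 z rfl
      have hFU₃ : ContainsFj X j U₃ := fun y hy => hUU₃ (hU y hy)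
      have hdU₃ : WeilCoh.dim (U₃ : Scheme.{u}) = WeilCoh.dim X.scheme :=
        dim_eq_of_containsFj X j U₃ hFU₃
      have hcod₃ := codim_decompPt X j xp U₃ W' hW₃ U hUU₃ hset₃ (hdU.trans hdU₃.symm) hdU₃
      have hU₃U'' : U₃ ≤ U'' := inf_le_left
      -- functoriality of the residue
      have hrp := T.res_pull (decompPt X x U'' Wi.1 rfl U hUU'' hset (hdU.trans hdU''.symm))
        (decompPt X x U₃ W'.1 hW₃ U hUU₃ hset₃ (hdU.trans hdU₃.symm))
        (X.resLE hU₃U'' (hdU₃.trans hdU''.symm))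
        ((X.ptSub x).resLE hle (W'.2.2.trans Wi.2.2.symm)) (𝟙 (X.res U))
        (by
          change (X.ptSub x).scheme.homOfLE hle ≫ (X.ptSubι x).resLE U'' Wi.1 _ =
            (X.ptSubι x).resLE U₃ W'.1 _ ≫ X.scheme.homOfLE hU₃U''
          exact ptSub_resLE_comp X x hU₃U'' W'.1 Wi.1 hle _ _)
        (by
          rw [Category.id_comp]
          exact (resLE_comp X hUU₃ hU₃U'' _ _).symm)
        M i n i' n' (by rw [hcod]; exact hi) (by rw [hcod]; exact hn)
        (by rw [hcod₃]; exact hi) (by rw [hcod₃]; exact hn)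
      have hrp' := congrArg (fun t => t.hom β) hrp
      simp only [ModuleCat.hom_comp, LinearMap.comp_apply] at hrp'
      rw [pull_id_apply] at hrp'
      have hres₃ : (T.res (decompPt X x U₃ W'.1 hW₃ U hUU₃ hset₃ (hdU.trans hdU₃.symm)) M i n i' n'
          (by rw [hcod₃]; exact hi) (by rw [hcod₃]; exact hn)).hom β = 0 := hrp'.symm.trans hz
      have hex := T.exact_pull_res (decompPt X x U₃ W'.1 hW₃ U hUU₃ hset₃ (hdU.trans hdU₃.symm))
        M i n i' n' (by rw [hcod₃]; exact hi) (by rw [hcod₃]; exact hn)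
      obtain ⟨β', hβ'⟩ := (hex β).1 hres₃
      have e := ocolimι_res T X (ContainsFj X j) i n M (U' := mkIdx X j U hU)
        (U := mkIdx X j U₃ hFU₃) hUU₃ β'
      have e' : ((T.fjι X j i n (mkIdx X j U₃ hFU₃)).app M).hom β' =
          ((T.fjι X j i n (mkIdx X j U hU)).app M).hom β := by
        refine e.trans ?_
        exact congrArg _ hβ'
      have hlt : U < U₃ := by
        refine lt_of_le_of_ne hUU₃ ?_
        intro heq
        exact hxU (heq ▸ hxU₃)
      have ih' := ih U₃ hlt hFU₃ β' (by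
        intro x'
        rw [e']
        exact hβ x')
      rw [e'] at ih'
      exact ih'

end res3

section res4
variable {V : ObjectProperty Scheme.{u}} [IsConstructible V] {R : Type u} [CommRing R]
  {A : Coefs R}

theorem main15927 (T : PreTheory V R A) (X : Obj V) (j : ℕ) (Q : T.ResData X j) (M : A.Cat)
    (i n i' n' : ℤ) (hi : i' = i + 1 - 2 * ((j : ℤ) + 1)) (hn : n' = n - ((j : ℤ) + 1)) :
    Function.Exact ((T.fjRes X (Nat.le_succ j) i n).app M).hom (Q.tot M i n i' n' hi hn).hom := by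
  intro y
  constructor
  · intro hy
    obtain ⟨U, β, rfl⟩ := ocolim_exists_rep T X (ContainsFj X j) i n M (fj_directed X j) y
    refine claim27 T X j Q M i n i' n' hi hn U.1 U.2.1 β ?_
    intro x
    have := DFunLike.congr_fun hy x
    exact this
  · rintro ⟨b, rfl⟩
    obtain ⟨U, β, rfl⟩ := ocolim_exists_rep T X (ContainsFj X (j + 1)) i n M
      (fj_directed X (j + 1)) b
    rw [ocolimMap_ι]
    refine DFinsupp.ext fun x => ?_
    exact cpt_eq_zero_of_mem T X j Q x
      ⟨U.1, containsFj_mono X (Nat.le_succ j) _ U.2.1, U.2.2⟩ (U.2.1 x.1 (le_of_eq x.2))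
      M i n i' n' hi hn β

/-- the components `(T.fjι U).app M` are jointly epimorphic -/
theorem fjGp_hom_ext (T : PreTheory V R A) (X : Obj V) (j : ℕ) (M : A.Cat) (i n : ℤ)
    {N : ModuleCat.{u} R} (a b : T.fjGp X j M i n ⟶ N)
    (h : ∀ (U : Idx X (ContainsFj X j)) (β : T.gp (X.res U.1) M i n),
      a.hom (((T.fjι X j i n U).app M).hom β) = b.hom (((T.fjι X j i n U).app M).hom β)) :
    a = b := by
  apply (evIsColimit T X (ContainsFj X j) i n M).hom_ext
  intro U
  apply ModuleCat.hom_ext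
  apply LinearMap.ext
  intro β
  exact h U.unop β

theorem main15932 (T : PreTheory V R A) (X : Obj V) (j : ℕ) : Subsingleton (T.ResData X j) := by
  constructor
  intro Q Q'
  have key : Q.cpt = Q'.cpt := by
    funext x M i n i' n' hi hn
    apply fjGp_hom_ext
    intro U β
    by_cases hxU : x.1 ∈ U.1
    · rw [cpt_eq_zero_of_mem T X j Q x U hxU, cpt_eq_zero_of_mem T X j Q' x U hxU]
    · obtain ⟨U'', hUU'', -, hxU'', hset⟩ :=
        exists_step X j U.1 ⊤ U.2.1 le_top x.1 x.2 trivial hxU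
      have hFU'' : ContainsFj X j U'' := fun y hy => hUU'' (U.2.1 y hy)
      have hdU'' : WeilCoh.dim (U'' : Scheme.{u}) = WeilCoh.dim X.scheme :=
        dim_eq_of_containsFj X j U'' hFU''
      let Wi : ptIdx X x.1 := ptIdxOf X x.1 U'' hxU''
      have hcod := codim_decompPt X j x U'' Wi rfl U.1 hUU'' hset (U.2.2.trans hdU''.symm) hdU''
      have hc := cpt_decompPt T X j Q x U'' Wi rfl U.1 hUU'' hset U.2.1 hdU'' M i n i' n' hi hn
        (U.2.2.trans hdU''.symm) (by rw [hcod]; exact hi) (by rw [hcod]; exact hn) β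
      have hc' := cpt_decompPt T X j Q' x U'' Wi rfl U.1 hUU'' hset U.2.1 hdU'' M i n i' n' hi hn
        (U.2.2.trans hdU''.symm) (by rw [hcod]; exact hi) (by rw [hcod]; exact hn) β
      exact hc.trans hc'.symm
  cases Q
  cases Q'
  simp only at key
  subst key
  rfl

end res4

end Groth.Agent.Helper17.BM
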