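import Groth.Agent.Lib.Helper17.BM5

/-!
# Borel–Moore theories: bijectivity of `H(F_{j+1}X) → H(F_jX)` when the groups of the points vanish
-/

set_option autoImplicit false
universe u
open AlgebraicGeometry CategoryTheory CategoryTheory.Limits Opposite BMCoh TopologicalSpace
open Topology Order Set

namespace Groth.Agent.Helper17.BM
open Groth.Agent.Helper23.BMLib1 Groth.Agent.Helper23.BMLib2

section bc

/-- base change square for the restriction of a morphism to nested opens -/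
theorem isPullback_resLE {Z X : Scheme.{u}} (f : Z ⟶ X) {O₁ O₂ : X.Opens} (h : O₁ ≤ O₂)
    (W₁ W₂ : Z.Opens) (hW : W₁ ≤ W₂) (h₁ : W₁ = f ⁻¹ᵁ O₁) (h₂ : W₂ ≤ f ⁻¹ᵁ O₂) :
    IsPullback (Z.homOfLE hW) (f.resLE O₁ W₁ (le_of_eq h₁)) (f.resLE O₂ W₂ h₂)
      (X.homOfLE h) := by
  refine (IsOpenImmersion.isPullback (f.resLE O₁ W₁ (le_of_eq h₁)) (Z.homOfLE hW) (X.homOfLE h)
    (f.resLE O₂ W₂ h₂) ?_ ?_).flip
  · rw [← cancel_mono O₂.ι, Category.assoc, Category.assoc, Scheme.homOfLE_ι,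
      Scheme.Hom.resLE_comp_ι, Scheme.Hom.resLE_comp_ι, ← Category.assoc, Scheme.homOfLE_ι]
  · rw [Scheme.opensRange_homOfLE, Scheme.opensRange_homOfLE, ← Scheme.Hom.comp_preimage,
      Scheme.Hom.resLE_comp_ι, Scheme.Hom.comp_preimage, h₁]

end bc

section zero
variable {V : ObjectProperty Scheme.{u}} [IsConstructible V] {R : Type u} [CommRing R]
  {A : Coefs R}

theorem preimage_inf_bigOpen (X : Obj V) (x : X.scheme) (O : X.scheme.Opens)
    (W W' : (X.ptSub x).scheme.Opens) (hW : W = (X.ptSubι x) ⁻¹ᵁ O) (hle : W' ≤ W) :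
    W' = (X.ptSubι x) ⁻¹ᵁ (O ⊓ bigOpen X x W') := by
  ext z
  constructor
  · intro hz'
    refine ⟨?_, ?_⟩
    · have : z ∈ W := hle hz'
      rw [hW] at this
      exact this
    · rw [SetLike.mem_coe, mem_bigOpen]
      intro z' hz''
      have : z' = z := (X.ptSubι x).isClosedEmbedding.injective hz''
      rw [this]
      exact hz'
  · intro hz'
    have h2 : (X.ptSubι x) z ∈ bigOpen X x W' := hz'.2
    rw [mem_bigOpen] at h2
    exact h2 z rfl

/-- if the group of the point `x` vanishes, push-forwards from pieces of its closure die in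
`H(F_{j+1}X)` -/
theorem fjι_push_eq_zero (T : PreTheory V R A) (X : Obj V) (j : ℕ) (x : X.cdPt (j + 1))
    (M : A.Cat) (i n i0 n' : ℤ) (hi : i0 + 1 = i + 2 * ((j + 1 : ℕ) : ℤ))
    (hn : n' = n + ((j + 1 : ℕ) : ℤ))
    (h0 : IsZero (T.ptGp X x.1 M i n))
    (U₂ : X.scheme.Opens) (hU₂ : ContainsFj X (j + 1) U₂) (Wi : ptIdx X x.1)
    (hW₂ : Wi.1 = (X.ptSubι x.1) ⁻¹ᵁ U₂)
    (hi₂ : i0 + 1 = i + 2 * relCodim ((X.ptSub x.1).res Wi.1).scheme (X.res U₂).scheme)
    (hn₂ : n' = n + relCodim ((X.ptSub x.1).res Wi.1).scheme (X.res U₂).scheme)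
    (γ : T.gp ((X.ptSub x.1).res Wi.1) M i n) :
    haveI : IsClosedImmersion ((X.ptSubι x.1).resLE U₂ Wi.1 (le_of_eq hW₂)) :=
      isClosedImmersion_resLE _ _ _ hW₂
    ((T.fjι X (j + 1) (i0 + 1) n' (mkIdx X (j + 1) U₂ hU₂)).app M).hom
      ((T.push ((X.ptSubι x.1).resLE U₂ Wi.1 (le_of_eq hW₂)) M i n (i0 + 1) n' hi₂ hn₂).hom γ)
        = 0 := by
  haveI : IsClosedImmersion ((X.ptSubι x.1).resLE U₂ Wi.1 (le_of_eq hW₂)) :=
    isClosedImmersion_resLE _ _ _ hW₂
  have hz0 : ((T.ptι X x.1 i n Wi).app M).hom γ = 0 := by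
    haveI := ModuleCat.subsingleton_of_isZero h0
    exact Subsingleton.elim _ _
  obtain ⟨W', hle, hz⟩ := ocolim_eq_zero T (X.ptSub x.1)
    (fun U => (U : Set (X.ptSub x.1).scheme).Nonempty) i n M (idx_directed X x.1) Wi γ hz0
  let U₃ : X.scheme.Opens := U₂ ⊓ bigOpen X x.1 W'.1
  have hU₃ : ContainsFj X (j + 1) U₃ := fun y hy =>
    ⟨hU₂ y hy, containsFj_bigOpen X (j + 1) x W' y hy⟩
  have hW₃ : W'.1 = (X.ptSubι x.1) ⁻¹ᵁ U₃ := preimage_inf_bigOpen X x.1 U₂ Wi.1 W'.1 hW₂ hle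
  have hdU₂ : WeilCoh.dim (U₂ : Scheme.{u}) = WeilCoh.dim X.scheme :=
    dim_eq_of_containsFj X (j + 1) U₂ hU₂
  have hdU₃ : WeilCoh.dim (U₃ : Scheme.{u}) = WeilCoh.dim X.scheme :=
    dim_eq_of_containsFj X (j + 1) U₃ hU₃
  have hU₃U₂ : U₃ ≤ U₂ := inf_le_left
  haveI : IsClosedImmersion ((X.ptSubι x.1).resLE U₃ W'.1 (le_of_eq hW₃)) :=
    isClosedImmersion_resLE _ _ _ hW₃
  have hrc₃ : relCodim ((X.ptSub x.1).res W'.1).scheme (X.res U₃).scheme = ((j + 1 : ℕ) : ℤ) :=
    relCodim_pt X (j + 1) x W' U₃ hdU₃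
  have hpb : IsPullback ((X.ptSub x.1).resLE hle (W'.2.2.trans Wi.2.2.symm)).hom
      ((X.ptSubι x.1).resLE U₃ W'.1 (le_of_eq hW₃))
      ((X.ptSubι x.1).resLE U₂ Wi.1 (le_of_eq hW₂))
      (X.resLE hU₃U₂ (hdU₃.trans hdU₂.symm)).hom :=
    isPullback_resLE (X.ptSubι x.1) hU₃U₂ W'.1 Wi.1 hle hW₃ (le_of_eq hW₂)
  have hbc := T.push_pull ((X.ptSubι x.1).resLE U₂ Wi.1 (le_of_eq hW₂))
    ((X.ptSubι x.1).resLE U₃ W'.1 (le_of_eq hW₃))
    (X.resLE hU₃U₂ (hdU₃.trans hdU₂.symm))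
    ((X.ptSub x.1).resLE hle (W'.2.2.trans Wi.2.2.symm)) hpb M i n (i0 + 1) n'
    hi₂ hn₂ (by rw [hrc₃]; exact hi) (by rw [hrc₃]; exact hn)
  have hbc' := congrArg (fun t => t.hom γ) hbc
  simp only [ModuleCat.hom_comp, LinearMap.comp_apply] at hbc'
  have e := ocolimι_res T X (ContainsFj X (j + 1)) (i0 + 1) n' M
    (U' := mkIdx X (j + 1) U₃ hU₃) (U := mkIdx X (j + 1) U₂ hU₂) hU₃U₂
    ((T.push ((X.ptSubι x.1).resLE U₂ Wi.1 (le_of_eq hW₂)) M i n (i0 + 1) n' hi₂ hn₂).hom γ)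
  refine e.trans ?_
  have hzz : (T.pull (idxRes X (ContainsFj X (j + 1)) (U' := mkIdx X (j + 1) U₃ hU₃)
      (U := mkIdx X (j + 1) U₂ hU₂) hU₃U₂) M (i0 + 1) n').hom
      ((T.push ((X.ptSubι x.1).resLE U₂ Wi.1 (le_of_eq hW₂)) M i n (i0 + 1) n' hi₂ hn₂).hom γ)
      = 0 := by
    refine hbc'.trans ?_
    have hz' : (((T.H i n).map ((X.ptSub x.1).resLE hle (W'.2.2.trans Wi.2.2.symm)).op).app M).hom γ
        = 0 := hz
    rw [hz', map_zero]
  rw [hzz, map_zero]

end zero

section claims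
variable {V : ObjectProperty Scheme.{u}} [IsConstructible V] {R : Type u} [CommRing R]
  {A : Coefs R}

/-- a class on `U ⊇ F_{j+1}` dying on `U' ⊇ F_j` dies in `H(F_{j+1}X)`, when the groups of the
points of codimension `j + 1` vanish -/
theorem claim29z (T : PreTheory V R A) (X : Obj V) (j : ℕ)
    (M : A.Cat) (i n i0 n' : ℤ) (hi : i0 + 1 = i + 2 * ((j + 1 : ℕ) : ℤ))
    (hn : n' = n + ((j + 1 : ℕ) : ℤ))
    (h0 : ∀ x : X.scheme, WeilCoh.codim X.scheme x = j + 1 → IsZero (T.ptGp X x M i n)) :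
    ∀ U' : X.scheme.Opens, ContainsFj X j U' → ∀ (U : X.scheme.Opens)
      (hU : ContainsFj X (j + 1) U) (hle : U' ≤ U)
      (hd : WeilCoh.dim (U' : Scheme.{u}) = WeilCoh.dim (U : Scheme.{u}))
      (β : T.gp (X.res U) M (i0 + 1) n'),
      (T.pull (X.resLE hle hd) M (i0 + 1) n').hom β = 0 →
      ((T.fjι X (j + 1) (i0 + 1) n' (mkIdx X (j + 1) U hU)).app M).hom β = 0 := by
  classical
  intro U'
  induction U' using WellFoundedGT.induction with
  | ind U' ih =>
    intro hU' U hU hle hd β hβ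
    by_cases hbig : ContainsFj X (j + 1) U'
    · have e := ocolimι_res T X (ContainsFj X (j + 1)) (i0 + 1) n' M
        (U' := mkIdx X (j + 1) U' hbig) (U := mkIdx X (j + 1) U hU) hle β
      rw [e]
      have : (T.pull (idxRes X (ContainsFj X (j + 1)) (U' := mkIdx X (j + 1) U' hbig)
          (U := mkIdx X (j + 1) U hU) hle) M (i0 + 1) n').hom β = 0 := hβ
      rw [this, map_zero]
    · unfold ContainsFj at hbig
      push_neg at hbig
      obtain ⟨x, hxc, hxU'⟩ := hbig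
      have hxcod : WeilCoh.codim X.scheme x = j + 1 := by
        by_contra hne
        exact hxU' (hU' x (by omega))
      have hxU : x ∈ U := hU x hxc
      obtain ⟨U'', hU'U'', hU''U, hxU'', hset⟩ := exists_step X j U' U hU' hle x hxcod hxU hxU'
      have hFU'' : ContainsFj X j U'' := fun y hy => hU'U'' (hU' y hy)
      have hdU'' : WeilCoh.dim (U'' : Scheme.{u}) = WeilCoh.dim X.scheme :=
        dim_eq_of_containsFj X j U'' hFU''
      have hdU' : WeilCoh.dim (U' : Scheme.{u}) = WeilCoh.dim X.scheme :=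
        dim_eq_of_containsFj X j U' hU'
      have hdU : WeilCoh.dim (U : Scheme.{u}) = WeilCoh.dim X.scheme :=
        dim_eq_of_containsFj X (j + 1) U hU
      let xp : X.cdPt (j + 1) := ⟨x, hxcod⟩
      let Wi : ptIdx X x := ptIdxOf X x U'' hxU''
      let D : Decomp (X.res U'') := decompPt X x U'' Wi.1 rfl U' hU'U'' hset (hdU'.trans hdU''.symm)
      let β'' : T.gp (X.res U'') M (i0 + 1) n' :=
        (T.pull (X.resLE hU''U (hdU''.trans hdU.symm)) M (i0 + 1) n').hom β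
      have hβ'' : (T.pull D.j M (i0 + 1) n').hom β'' = 0 := by
        refine (pull_comp_apply' T _ _ (X.resLE hle hd) (resLE_comp X hU'U'' hU''U _ _) M
          (i0 + 1) n' β).trans hβ
      have hrc : relCodim ((X.ptSub x).res Wi.1).scheme (X.res U'').scheme = ((j + 1 : ℕ) : ℤ) :=
        relCodim_pt X (j + 1) xp Wi U'' hdU''
      have hex := T.exact_push_pull D M i0 n' i n (by rw [hrc]; exact hi) (by rw [hrc]; exact hn)
      obtain ⟨γ, hγ⟩ := (hex β'').1 hβ''
      let U₂ : X.scheme.Opens := U ⊓ bigOpen X x Wi.1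
      have hU₂ : ContainsFj X (j + 1) U₂ := fun y hy =>
        ⟨hU y hy, containsFj_bigOpen X (j + 1) xp Wi y hy⟩
      have hdU₂ : WeilCoh.dim (U₂ : Scheme.{u}) = WeilCoh.dim X.scheme :=
        dim_eq_of_containsFj X (j + 1) U₂ hU₂
      have hU''U₂ : U'' ≤ U₂ := by
        intro y hy
        refine ⟨hU''U hy, ?_⟩
        rw [SetLike.mem_coe, mem_bigOpen]
        intro z hz
        change (X.ptSubι x) z ∈ U''
        rw [hz]
        exact hy
      have hW₂ : Wi.1 = (X.ptSubι x) ⁻¹ᵁ U₂ := by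
        ext z
        constructor
        · intro hz
          exact hU''U₂ hz
        · intro hz
          have h2 : (X.ptSubι x) z ∈ bigOpen X x Wi.1 := hz.2
          rw [mem_bigOpen] at h2
          exact h2 z rfl
      haveI : IsClosedImmersion ((X.ptSubι x).resLE U₂ Wi.1 (le_of_eq hW₂)) :=
        isClosedImmersion_resLE _ _ _ hW₂
      have hrc₂ : relCodim ((X.ptSub x).res Wi.1).scheme (X.res U₂).scheme = ((j + 1 : ℕ) : ℤ) :=
        relCodim_pt X (j + 1) xp Wi U₂ hdU₂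
      have hi₂ : i0 + 1 = i + 2 * relCodim ((X.ptSub x).res Wi.1).scheme (X.res U₂).scheme := by
        rw [hrc₂]; exact hi
      have hn₂ : n' = n + relCodim ((X.ptSub x).res Wi.1).scheme (X.res U₂).scheme := by
        rw [hrc₂]; exact hn
      let pγ : T.gp (X.res U₂) M (i0 + 1) n' :=
        (T.push ((X.ptSubι x).resLE U₂ Wi.1 (le_of_eq hW₂)) M i n (i0 + 1) n' hi₂ hn₂).hom γ
      let βU₂ : T.gp (X.res U₂) M (i0 + 1) n' :=
        (T.pull (X.resLE (inf_le_left : U₂ ≤ U) (hdU₂.trans hdU.symm)) M (i0 + 1) n').hom β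
      have hpb : IsPullback (𝟙 ((X.ptSub x).res Wi.1) : (X.ptSub x).res Wi.1 ⟶ _).hom D.i
          ((X.ptSubι x).resLE U₂ Wi.1 (le_of_eq hW₂))
          (X.resLE hU''U₂ (hdU''.trans hdU₂.symm)).hom := by
        haveI : IsIso (𝟙 ((X.ptSub x).res Wi.1) : (X.ptSub x).res Wi.1 ⟶ _).hom :=
          inferInstanceAs (IsIso (𝟙 ((X.ptSub x).res Wi.1).scheme))
        apply IsPullback.of_horiz_isIso_mono
        constructor
        change 𝟙 _ ≫ _ = (X.ptSubι x).resLE U'' Wi.1 _ ≫ X.scheme.homOfLE hU''U₂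
        rw [Category.id_comp, resLE_comp_homOfLE]
      haveI hDi : IsClosedImmersion D.i := D.closedImm
      haveI hDp : IsProper D.i := inferInstance
      have hbc := T.push_pull ((X.ptSubι x).resLE U₂ Wi.1 (le_of_eq hW₂)) D.i
        (X.resLE hU''U₂ (hdU''.trans hdU₂.symm)) (𝟙 ((X.ptSub x).res Wi.1)) hpb M i n (i0 + 1) n'
        hi₂ hn₂ (by rw [hrc]; exact hi) (by rw [hrc]; exact hn)
      have hbc' := congrArg (fun t => t.hom γ) hbc
      simp only [ModuleCat.hom_comp, LinearMap.comp_apply] at hbc'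
      have hpullid : (((T.H i n).map (𝟙 ((X.ptSub x).res Wi.1)).op).app M).hom γ = γ := by
        have := pull_id T ((X.ptSub x).res Wi.1) M i n
        exact congrArg (fun t => t.hom γ) this
      rw [hpullid, hγ] at hbc'
      have hdiff : (T.pull (X.resLE hU''U₂ (hdU''.trans hdU₂.symm)) M (i0 + 1) n').hom
          (βU₂ - pγ) = 0 := by
        rw [map_sub]
        have h1 : (T.pull (X.resLE hU''U₂ (hdU''.trans hdU₂.symm)) M (i0 + 1) n').hom βU₂ = β'' :=
          pull_comp_apply' T _ _ _ (resLE_comp X hU''U₂ inf_le_left _ _) M (i0 + 1) n' β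
        rw [h1]
        exact sub_eq_zero.2 hbc'.symm
      have hlt : U' < U'' := by
        refine lt_of_le_of_ne hU'U'' ?_
        intro heq
        exact hxU' (heq ▸ hxU'')
      have ih' := ih U'' hlt hFU'' U₂ hU₂ hU''U₂ (hdU''.trans hdU₂.symm) (βU₂ - pγ) hdiff
      have e := ocolimι_res T X (ContainsFj X (j + 1)) (i0 + 1) n' M
        (U' := mkIdx X (j + 1) U₂ hU₂) (U := mkIdx X (j + 1) U hU) inf_le_left β
      rw [e]
      have hsplit : (T.pull (idxRes X (ContainsFj X (j + 1)) (U' := mkIdx X (j + 1) U₂ hU₂)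
          (U := mkIdx X (j + 1) U hU) inf_le_left) M (i0 + 1) n').hom β = (βU₂ - pγ) + pγ := by
        rw [sub_add_cancel]
      rw [hsplit, map_add, ih', zero_add]
      exact fjι_push_eq_zero T X j xp M i n i0 n' hi hn (h0 x hxcod) U₂ hU₂ Wi hW₂ hi₂ hn₂ γ

/-- a class on `U ⊇ F_j` extends over `F_{j+1}`, when the groups of the points of codimension
`j + 1` vanish -/
theorem claim27z (T : PreTheory V R A) (X : Obj V) (j : ℕ)
    (M : A.Cat) (i n i' n' : ℤ) (hi : i' = i + 1 - 2 * ((j : ℤ) + 1))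
    (hn : n' = n - ((j : ℤ) + 1))
    (h1 : ∀ x : X.scheme, WeilCoh.codim X.scheme x = j + 1 → IsZero (T.ptGp X x M i' n')) :
    ∀ U : X.scheme.Opens, ∀ (hU : ContainsFj X j U) (β : T.gp (X.res U) M i n),
      ((T.fjι X j i n (mkIdx X j U hU)).app M).hom β ∈
        LinearMap.range ((T.fjRes X (Nat.le_succ j) i n).app M).hom := by
  classical
  intro U
  induction U using WellFoundedGT.induction with
  | ind U ih =>
    intro hU β
    by_cases hbig : ContainsFj X (j + 1) U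
    · exact ⟨((T.fjι X (j + 1) i n (mkIdx X (j + 1) U hbig)).app M).hom β,
        ocolimMap_ι T X (containsFj_mono X (Nat.le_succ j)) i n M (mkIdx X (j + 1) U hbig) β⟩
    · unfold ContainsFj at hbig
      push_neg at hbig
      obtain ⟨x, hxc, hxU⟩ := hbig
      have hxcod : WeilCoh.codim X.scheme x = j + 1 := by
        by_contra hne
        exact hxU (hU x (by omega))
      obtain ⟨U'', hUU'', -, hxU'', hset⟩ :=
        exists_step X j U ⊤ hU le_top x hxcod trivial hxU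
      have hFU'' : ContainsFj X j U'' := fun y hy => hUU'' (hU y hy)
      have hdU'' : WeilCoh.dim (U'' : Scheme.{u}) = WeilCoh.dim X.scheme :=
        dim_eq_of_containsFj X j U'' hFU''
      have hdU : WeilCoh.dim (U : Scheme.{u}) = WeilCoh.dim X.scheme :=
        dim_eq_of_containsFj X j U hU
      let xp : X.cdPt (j + 1) := ⟨x, hxcod⟩
      let Wi : ptIdx X x := ptIdxOf X x U'' hxU''
      have hcod := codim_decompPt X j xp U'' Wi rfl U hUU'' hset (hdU.trans hdU''.symm) hdU''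
      have hc : ((T.ptι X x i' n' Wi).app M).hom
          ((T.res (decompPt X x U'' Wi.1 rfl U hUU'' hset (hdU.trans hdU''.symm)) M i n i' n'
            (by rw [hcod]; exact hi) (by rw [hcod]; exact hn)).hom β) = 0 := by
        haveI := ModuleCat.subsingleton_of_isZero (h1 x hxcod)
        exact Subsingleton.elim _ _
      obtain ⟨W', hle, hz⟩ := ocolim_eq_zero T (X.ptSub x)
        (fun U => (U : Set (X.ptSub x).scheme).Nonempty) i' n' M (idx_directed X x) Wi _ hc
      let U₃ : X.scheme.Opens := U'' ⊓ bigOpen X x W'.1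
      have hnotcl : ∀ y, y ∈ U → y ∉ closure ({x} : Set X.scheme) := by
        intro y hy
        have : y ∈ (U : Set X.scheme) := hy
        rw [hset] at this
        exact this.2
      have hUU₃ : U ≤ U₃ := by
        intro y hy
        refine ⟨hUU'' hy, ?_⟩
        rw [SetLike.mem_coe, mem_bigOpen]
        intro z hz'
        exfalso
        apply hnotcl y hy
        rw [← range_ptSubι, ← hz']
        exact ⟨z, rfl⟩
      have hxU₃ : x ∈ U₃ := by
        refine ⟨hxU'', ?_⟩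
        rw [SetLike.mem_coe, mem_bigOpen]
        intro z hz'
        have : z = ptGen X x := by
          apply (X.ptSubι x).isClosedEmbedding.injective
          rw [hz', ptSubι_ptGen]
        rw [this]
        exact ptGen_mem_of_nonempty X x W'.1 W'.2.1
      have hset₃ : (U : Set X.scheme) =
          (U₃ : Set X.scheme) ∩ (closure ({x} : Set X.scheme))ᶜ := by
        ext y
        constructor
        · intro hy
          exact ⟨hUU₃ hy, hnotcl y hy⟩
        · rintro ⟨hy, hycl⟩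
          have : y ∈ (U'' : Set X.scheme) ∩ (closure ({x} : Set X.scheme))ᶜ := ⟨hy.1, hycl⟩
          rw [← hset] at this
          exact this
      have hW₃ : W'.1 = (X.ptSubι x) ⁻¹ᵁ U₃ :=
        preimage_inf_bigOpen X x U'' Wi.1 W'.1 rfl hle
      have hFU₃ : ContainsFj X j U₃ := fun y hy => hUU₃ (hU y hy)
      have hdU₃ : WeilCoh.dim (U₃ : Scheme.{u}) = WeilCoh.dim X.scheme :=
        dim_eq_of_containsFj X j U₃ hFU₃
      have hcod₃ := codim_decompPt X j xp U₃ W' hW₃ U hUU₃ hset₃ (hdU.trans hdU₃.symm) hdU₃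
      have hU₃U'' : U₃ ≤ U'' := inf_le_left
      have hrp := T.res_pull (decompPt X x U'' Wi.1 rfl U hUU'' hset (hdU.trans hdU''.symm))
        (decompPt X x U₃ W'.1 hW₃ U hUU₃ hset₃ (hdU.trans hdU₃.symm))
        (X.resLE hU₃U'' (hdU₃.trans hdU''.symm))
        ((X.ptSub x).resLE hle (W'.2.2.trans Wi.2.2.symm)) (𝟙 (X.res U))
        (by
          change (X.ptSub x).scheme.homOfLE hle ≫ (X.ptSubι x).resLE U'' Wi.1 _ =
            (X.ptSubι x).resLE U₃ W'.1 _ ≫ X.scheme.homOfLE hU₃U''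
          exact ptSub_resLE_comp X x hU₃U'' W'.1 Wi.1 hle _ _)
        (by
          rw [Category.id_comp]
          exact (resLE_comp X hUU₃ hU₃U'' _ _).symm)
        M i n i' n' (by rw [hcod]; exact hi) (by rw [hcod]; exact hn)
        (by rw [hcod₃]; exact hi) (by rw [hcod₃]; exact hn)
      have hrp' := congrArg (fun t => t.hom β) hrp
      simp only [ModuleCat.hom_comp, LinearMap.comp_apply] at hrp'
      rw [pull_id_apply] at hrp'
      have hres₃ : (T.res (decompPt X x U₃ W'.1 hW₃ U hUU₃ hset₃ (hdU.trans hdU₃.symm)) M i n i' n'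
          (by rw [hcod₃]; exact hi) (by rw [hcod₃]; exact hn)).hom β = 0 := hrp'.symm.trans hz
      have hex := T.exact_pull_res (decompPt X x U₃ W'.1 hW₃ U hUU₃ hset₃ (hdU.trans hdU₃.symm))
        M i n i' n' (by rw [hcod₃]; exact hi) (by rw [hcod₃]; exact hn)
      obtain ⟨β', hβ'⟩ := (hex β).1 hres₃
      have e := ocolimι_res T X (ContainsFj X j) i n M (U' := mkIdx X j U hU)
        (U := mkIdx X j U₃ hFU₃) hUU₃ β'
      have e' : ((T.fjι X j i n (mkIdx X j U₃ hFU₃)).app M).hom β' =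
          ((T.fjι X j i n (mkIdx X j U hU)).app M).hom β := by
        refine e.trans ?_
        exact congrArg _ hβ'
      have hlt : U < U₃ := by
        refine lt_of_le_of_ne hUU₃ ?_
        intro heq
        exact hxU (heq ▸ hxU₃)
      have ih' := ih U₃ hlt hFU₃ β'
      rw [e'] at ih'
      exact ih'

theorem main15886 (T : PreTheory V R A) (X : Obj V) (M : A.Cat) (j : ℕ) (i n : ℤ)
    (h0 : ∀ x : X.scheme, WeilCoh.codim X.scheme x = j + 1 →
      IsZero (T.ptGp X x M (i - 2 * ((j : ℤ) + 1)) (n - ((j : ℤ) + 1))))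
    (h1 : ∀ x : X.scheme, WeilCoh.codim X.scheme x = j + 1 →
      IsZero (T.ptGp X x M (i + 1 - 2 * ((j : ℤ) + 1)) (n - ((j : ℤ) + 1)))) :
    Function.Bijective ((T.fjRes X (Nat.le_succ j) i n).app M).hom := by
  obtain ⟨i0, rfl⟩ : ∃ i0, i = i0 + 1 := ⟨i - 1, by ring⟩
  constructor
  · rw [injective_iff_map_eq_zero]
    intro y hy
    obtain ⟨U, β, rfl⟩ := ocolim_exists_rep T X (ContainsFj X (j + 1)) (i0 + 1) n M
      (fj_directed X (j + 1)) y
    have hy' := (ocolimMap_ι T X (containsFj_mono X (Nat.le_succ j)) (i0 + 1) n M U β).symm.trans hy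
    obtain ⟨U', hle, hz⟩ := ocolim_eq_zero T X (ContainsFj X j) (i0 + 1) n M (fj_directed X j)
      (⟨U.1, containsFj_mono X (Nat.le_succ j) _ U.2.1, U.2.2⟩ : Idx X (ContainsFj X j)) β hy'
    exact claim29z T X j M (i0 + 1 - 2 * ((j : ℤ) + 1)) (n - ((j : ℤ) + 1)) i0 n
      (by push_cast; ring) (by push_cast; ring) h0 U'.1 U'.2.1 U.1 U.2.1 hle
      (U'.2.2.trans U.2.2.symm) β hz
  · intro y
    obtain ⟨U, β, rfl⟩ := ocolim_exists_rep T X (ContainsFj X j) (i0 + 1) n M (fj_directed X j) y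
    exact claim27z T X j M (i0 + 1) n (i0 + 1 + 1 - 2 * ((j : ℤ) + 1)) (n - ((j : ℤ) + 1))
      rfl rfl h1 U.1 U.2.1 β

end claims

end Groth.Agent.Helper17.BM
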