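import Groth.Agent.Lib.Helper17.BM6

/-!
# Borel–Moore theories: closed subschemes of pure codimension; points of each codimension
-/

set_option autoImplicit false
universe u
open AlgebraicGeometry CategoryTheory CategoryTheory.Limits Opposite BMCoh TopologicalSpace
open Topology Order Set

namespace Groth.Agent.Helper17.BM
open Groth.Agent.Helper23.BMLib1 Groth.Agent.Helper23.BMLib2

section chain

theorem nat_squeeze (q : ℕ → ℕ) (d : ℕ) (hmono : ∀ a, a < d → q a < q (a + 1)) (htop : q d ≤ d) :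
    ∀ k, k ≤ d → q k = k := by
  have lower : ∀ k, k ≤ d → k ≤ q k := by
    intro k
    induction k with
    | zero => intro _; exact Nat.zero_le _
    | succ k ih =>
      intro hk
      have h1 := ih (by omega)
      have h2 := hmono k (by omega)
      omega
  have upper : ∀ t, t ≤ d → q (d - t) + t ≤ q d := by
    intro t
    induction t with
    | zero => intro _; simp
    | succ t ih =>
      intro ht
      have h1 := ih (by omega)
      have h2 := hmono (d - (t + 1)) (by omega)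
      have h3 : d - (t + 1) + 1 = d - t := by omega
      rw [h3] at h2
      omega
  intro k hk
  have h1 := lower k hk
  have h2 := upper (d - k) (by omega)
  have h3 : d - (d - k) = k := by omega
  rw [h3] at h2
  omega

variable {V : ObjectProperty Scheme.{u}} [IsConstructible V]

theorem natDim_irreducibleCloseds_lt (X : Obj V) (s t : IrreducibleCloseds X.scheme) (h : s < t) :
    WeilCoh.natDim ↥(s : Set X.scheme) < WeilCoh.natDim ↥(t : Set X.scheme) := by
  have hs : closure ({s.isIrreducible.genericPoint} : Set X.scheme) = s :=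
    s.isIrreducible.closure_genericPoint s.isClosed
  have ht : closure ({t.isIrreducible.genericPoint} : Set X.scheme) = t :=
    t.isIrreducible.closure_genericPoint t.isClosed
  have hsm : s.isIrreducible.genericPoint ∈ (s : Set X.scheme) := hs.subset (subset_closure rfl)
  have htm : t.isIrreducible.genericPoint ∈ (t : Set X.scheme) := ht.subset (subset_closure rfl)
  have h1 : s.isIrreducible.genericPoint ∈
      closure ({t.isIrreducible.genericPoint} : Set X.scheme) := by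
    rw [ht]
    exact h.le hsm
  have h2 : t.isIrreducible.genericPoint ∉
      closure ({s.isIrreducible.genericPoint} : Set X.scheme) := by
    rw [hs]
    intro hmem
    have hts : (t : Set X.scheme) ⊆ s := by
      rw [← ht]
      exact closure_minimal (Set.singleton_subset_iff.2 hmem) s.isClosed
    exact (not_le_of_gt h) hts
  have key := natDim_closure_lt (finDim_obj X) h1 h2
  have e1 : WeilCoh.natDim ↥(closure ({s.isIrreducible.genericPoint} : Set X.scheme)) =
      WeilCoh.natDim ↥(s : Set X.scheme) :=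
    congrArg (fun S : Set X.scheme => WeilCoh.natDim ↥S) hs
  have e2 : WeilCoh.natDim ↥(closure ({t.isIrreducible.genericPoint} : Set X.scheme)) =
      WeilCoh.natDim ↥(t : Set X.scheme) :=
    congrArg (fun S : Set X.scheme => WeilCoh.natDim ↥S) ht
  rw [e1, e2] at key
  exact key

/-- a nonempty object has points whose closures have any prescribed dimension `≤ dim X` -/
theorem exists_pdim_eq (X : Obj V) [Nonempty X.scheme] (k : ℕ) (hk : k ≤ WeilCoh.dim X.scheme) :
    ∃ x : X.scheme, WeilCoh.pdim X.scheme x = k := by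
  obtain ⟨d, hd⟩ := exists_nat_dim (finDim_obj X)
  have hdd : WeilCoh.dim X.scheme = d := natDim_of_eq hd
  rw [hdd] at hk
  obtain ⟨l, hl⟩ := Order.le_krullDim_iff.1
    (le_of_eq hd.symm : (d : WithBot ℕ∞) ≤ krullDim (IrreducibleCloseds X.scheme))
  let q : ℕ → ℕ := fun a => if h : a < l.length + 1 then
    WeilCoh.natDim ↥((l ⟨a, h⟩ : IrreducibleCloseds X.scheme) : Set X.scheme) else 0
  have hq : ∀ a (h : a < l.length + 1), q a =
      WeilCoh.natDim ↥((l ⟨a, h⟩ : IrreducibleCloseds X.scheme) : Set X.scheme) := by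
    intro a h
    exact dif_pos h
  have hmono : ∀ a, a < d → q a < q (a + 1) := by
    intro a ha
    have h1 : a < l.length + 1 := by omega
    have h2 : a + 1 < l.length + 1 := by omega
    rw [hq a h1, hq (a + 1) h2]
    apply natDim_irreducibleCloseds_lt
    have := l.step ⟨a, by omega⟩
    exact this
  have htop : q d ≤ d := by
    rw [hq d (by omega)]
    refine le_trans (natDim_mono (topologicalKrullDim_subspace_le _ _) (finDim_obj X)) ?_
    exact le_of_eq hdd
  have hqk := nat_squeeze q d hmono htop k hk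
  rw [hq k (by omega)] at hqk
  refine ⟨(l ⟨k, by omega⟩).isIrreducible.genericPoint, ?_⟩
  unfold WeilCoh.pdim
  refine Eq.trans ?_ hqk
  exact congrArg (fun S : Set X.scheme => WeilCoh.natDim ↥S)
    ((l ⟨k, by omega⟩).isIrreducible.closure_genericPoint (l ⟨k, by omega⟩).isClosed)

theorem exists_codim_eq (X : Obj V) [Nonempty X.scheme] (c : ℕ) (hc : c ≤ WeilCoh.dim X.scheme) :
    ∃ x : X.scheme, WeilCoh.codim X.scheme x = c := by
  obtain ⟨x, hx⟩ := exists_pdim_eq X (WeilCoh.dim X.scheme - c) (by omega)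
  refine ⟨x, ?_⟩
  unfold WeilCoh.codim
  omega

theorem codim_le_dim (X : Obj V) (x : X.scheme) :
    WeilCoh.codim X.scheme x ≤ WeilCoh.dim X.scheme := by
  unfold WeilCoh.codim
  omega

end chain

section closedsub
variable {V : ObjectProperty Scheme.{u}} [IsConstructible V]

theorem pdim_closedImmersion {Z Y : Scheme.{u}} (f : Z ⟶ Y) [IsClosedImmersion f] (z : Z) :
    WeilCoh.pdim Z z = WeilCoh.pdim Y (f z) := by
  unfold WeilCoh.pdim
  apply natDim_congr
  have himg : closure ({f z} : Set Y) = f '' closure ({z} : Set Z) := by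
    rw [← f.isClosedEmbedding.closure_image_eq, Set.image_singleton]
  have h1 := IsHomeomorph.topologicalKrullDim_eq _
    (f.isEmbedding.homeomorphImage (closure ({z} : Set Z))).isHomeomorph
  rw [h1]
  exact congrArg (fun S : Set Y => topologicalKrullDim ↥S) himg.symm

/-- the big open attached to an open `W` of a closed subscheme -/
def bigOpenG {Z X : Scheme.{u}} (f : Z ⟶ X) [IsClosedImmersion f] (W : Z.Opens) : X.Opens :=
  ⟨(f '' ((W : Set Z)ᶜ))ᶜ,
    (f.isClosedEmbedding.isClosedMap _ W.isOpen.isClosed_compl).isOpen_compl⟩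

theorem mem_bigOpenG {Z X : Scheme.{u}} (f : Z ⟶ X) [IsClosedImmersion f] (W : Z.Opens) (y : X) :
    y ∈ bigOpenG f W ↔ ∀ z : Z, f z = y → z ∈ W := by
  change y ∈ (f '' ((W : Set Z)ᶜ))ᶜ ↔ _
  rw [Set.mem_compl_iff, Set.mem_image]
  constructor
  · intro h z hz
    by_contra hzW
    exact h ⟨z, hzW, hz⟩
  · rintro h ⟨z, hzW, hz⟩
    exact hzW (h z hz)

theorem not_mem_range_mem_bigOpenG {Z X : Scheme.{u}} (f : Z ⟶ X) [IsClosedImmersion f]
    (W : Z.Opens) (y : X) (hy : y ∉ Set.range f) : y ∈ bigOpenG f W := by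
  rw [mem_bigOpenG]
  intro z hz
  exact absurd ⟨z, hz⟩ hy

theorem preimage_inf_bigOpenG {Z X : Scheme.{u}} (f : Z ⟶ X) [IsClosedImmersion f]
    (O : X.Opens) (W W' : Z.Opens) (hW : W = f ⁻¹ᵁ O) (hle : W' ≤ W) :
    W' = f ⁻¹ᵁ (O ⊓ bigOpenG f W') := by
  ext z
  constructor
  · intro hz'
    refine ⟨?_, ?_⟩
    · have : z ∈ W := hle hz'
      rw [hW] at this
      exact this
    · rw [SetLike.mem_coe, mem_bigOpenG]
      intro z' hz''
      have : z' = z := f.isClosedEmbedding.injective hz''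
      rw [this]
      exact hz'
  · intro hz'
    have h2 : f z ∈ bigOpenG f W' := hz'.2
    rw [mem_bigOpenG] at h2
    exact h2 z rfl

theorem range_resLE_cl {Z X : Scheme.{u}} (f : Z ⟶ X) (O : X.Opens)
    (W : Z.Opens) (hW : W = f ⁻¹ᵁ O) :
    Set.range (f.resLE O W (le_of_eq hW)) = {p : ↥O | (p.1 : X) ∈ Set.range f} := by
  have hfac := Scheme.Hom.resLE_comp_ι f (le_of_eq hW)
  have hpt : ∀ w : ↥W, ((f.resLE O W (le_of_eq hW)) w).1 = f w.1 := by
    intro w
    have := congrArg (fun t => t.base w) hfac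
    exact this
  ext p
  constructor
  · rintro ⟨w, rfl⟩
    change ((f.resLE O W (le_of_eq hW)) w).1 ∈ Set.range f
    rw [hpt]
    exact ⟨w.1, rfl⟩
  · rintro ⟨z, hz⟩
    have hzW : z ∈ W := by
      rw [hW]
      change f z ∈ O
      rw [hz]
      exact p.2
    refine ⟨⟨z, hzW⟩, ?_⟩
    apply Subtype.ext
    rw [hpt]
    exact hz

/-- the decomposition of an open `O` of `X` into its intersection with a closed subscheme and
the rest -/
noncomputable abbrev decompCl (X Z : Obj V) (f : Z.scheme ⟶ X.scheme) [IsClosedImmersion f]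
    (O : X.scheme.Opens) (W : Z.scheme.Opens) (hW : W = f ⁻¹ᵁ O) (O' : X.scheme.Opens)
    (hle : O' ≤ O)
    (hO' : (O' : Set X.scheme) = (O : Set X.scheme) ∩ (Set.range f)ᶜ)
    (hd : WeilCoh.dim (O' : Scheme.{u}) = WeilCoh.dim (O : Scheme.{u})) : Decomp (X.res O) where
  Z := Z.res W
  U := X.res O'
  i := f.resLE O W (le_of_eq hW)
  closedImm := isClosedImmersion_resLE _ _ _ hW
  j := X.resLE hle hd
  range_eq := by
    change Set.range (X.scheme.homOfLE hle) = _
    rw [range_homOfLE, range_resLE_cl f O W hW]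
    ext p
    change (p.1 : X.scheme) ∈ O' ↔ ¬ ((p.1 : X.scheme) ∈ Set.range f)
    constructor
    · intro hp
      have : p.1 ∈ (O' : Set X.scheme) := hp
      rw [hO'] at this
      exact this.2
    · intro hp
      have : p.1 ∈ (O' : Set X.scheme) := by
        rw [hO']
        exact ⟨p.2, hp⟩
      exact this

theorem codim_closedImmersion (X Z : Obj V) (f : Z.scheme ⟶ X.scheme) [IsClosedImmersion f]
    (c : ℕ) (hdim : WeilCoh.dim Z.scheme + c = WeilCoh.dim X.scheme) (z : Z.scheme) :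
    WeilCoh.codim X.scheme (f z) = c + WeilCoh.codim Z.scheme z := by
  have h1 := pdim_closedImmersion f z
  have h2 := pdim_le_dim Z z
  unfold WeilCoh.codim
  omega

theorem containsFj_preimage (X Z : Obj V) (f : Z.scheme ⟶ X.scheme) [IsClosedImmersion f]
    (c m : ℕ) (hdim : WeilCoh.dim Z.scheme + c = WeilCoh.dim X.scheme) (U : X.scheme.Opens)
    (hU : ContainsFj X (c + m) U) : ContainsFj Z m (f ⁻¹ᵁ U) := by
  intro z hz
  change f z ∈ U
  apply hU
  rw [codim_closedImmersion X Z f c hdim z]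
  omega

theorem containsFj_inf_bigOpenG (X Z : Obj V) (f : Z.scheme ⟶ X.scheme) [IsClosedImmersion f]
    (c m : ℕ) (hdim : WeilCoh.dim Z.scheme + c = WeilCoh.dim X.scheme) (U : X.scheme.Opens)
    (hU : ContainsFj X (c + m) U) (W' : Z.scheme.Opens) (hW' : ContainsFj Z m W') :
    ContainsFj X (c + m) (U ⊓ bigOpenG f W') := by
  intro y hy
  refine ⟨hU y hy, ?_⟩
  rw [SetLike.mem_coe, mem_bigOpenG]
  intro z hz
  apply hW'
  rw [← hz, codim_closedImmersion X Z f c hdim z] at hy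
  omega

theorem relCodim_cl (X Z : Obj V) (c m : ℕ)
    (hdim : WeilCoh.dim Z.scheme + c = WeilCoh.dim X.scheme) (O : X.scheme.Opens)
    (hO : WeilCoh.dim (O : Scheme.{u}) = WeilCoh.dim X.scheme) (W : Z.scheme.Opens)
    (hW : ContainsFj Z m W) :
    relCodim (Z.res W).scheme (X.res O).scheme = (c : ℤ) := by
  unfold relCodim
  change ((WeilCoh.dim (O : Scheme.{u}) : ℕ) : ℤ) - ((WeilCoh.dim (W : Scheme.{u}) : ℕ) : ℤ) = c
  rw [hO, dim_eq_of_containsFj Z m W hW]
  omega

/-- the reduced complement of an open `⊇ F_j` missing a point of codimension `j + 1` has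
codimension exactly `j + 1` -/
theorem dim_complObj_add (X : Obj V) (j : ℕ) (U : X.scheme.Opens) (hU : ContainsFj X j U)
    (x₀ : X.scheme) (hx₀ : WeilCoh.codim X.scheme x₀ = j + 1) (hx₀U : x₀ ∉ U) :
    WeilCoh.dim (complObj X U).scheme + (j + 1) = WeilCoh.dim X.scheme := by
  let ι := (complIdeal X.scheme U).subschemeι
  have hx₀r : x₀ ∈ Set.range ι := by
    rw [range_complι]
    exact hx₀U
  obtain ⟨z₀, hz₀⟩ := hx₀r
  haveI : Nonempty (complObj X U).scheme := ⟨z₀⟩
  have h1 := dim_compl_add_le X U (j + 1) (fun x hx => by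
    by_contra hlt
    exact hx (hU x (by omega)))
  have h2 : WeilCoh.pdim (complObj X U).scheme z₀ = WeilCoh.pdim X.scheme x₀ := by
    rw [← hz₀]
    exact pdim_closedImmersion ι z₀
  have h3 := pdim_le_dim (complObj X U) z₀
  have h4 := pdim_le_dim X x₀
  unfold WeilCoh.codim at hx₀
  omega

end closedsub

section core
variable {V : ObjectProperty Scheme.{u}} [IsConstructible V] {R : Type u} [CommRing R]
  {A : Coefs R}

theorem resLE_comp_gen {Z X : Scheme.{u}} (f : Z ⟶ X) {O₁ O₂ : X.Opens} (h : O₁ ≤ O₂)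
    (W₁ W₂ : Z.Opens) (hW : W₁ ≤ W₂) (h₁ : W₁ ≤ f ⁻¹ᵁ O₁) (h₂ : W₂ ≤ f ⁻¹ᵁ O₂) :
    Z.homOfLE hW ≫ f.resLE O₂ W₂ h₂ = f.resLE O₁ W₁ h₁ ≫ X.homOfLE h := by
  rw [← cancel_mono O₂.ι, Category.assoc, Category.assoc, Scheme.homOfLE_ι,
    Scheme.Hom.resLE_comp_ι, Scheme.Hom.resLE_comp_ι, ← Category.assoc, Scheme.homOfLE_ι]

/-- a class on `U ⊇ F_{c+m}X` dying on the complement `U₀` of a closed subscheme `Z` of
codimension `c` dies in `H(F_{c+m}X)`, if `H(F_mZ)` vanishes -/
theorem inj_core (T : PreTheory V R A) (X Z : Obj V) (ι : Z.scheme ⟶ X.scheme)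
    [IsClosedImmersion ι] (M : A.Cat) (c m : ℕ) (i n i0 n' : ℤ)
    (hi : i0 + 1 = i + 2 * (c : ℤ)) (hn : n' = n + (c : ℤ))
    (hdimZ : WeilCoh.dim Z.scheme + c = WeilCoh.dim X.scheme)
    (hzero : IsZero (T.fjGp Z m M i n))
    (U₀ U : X.scheme.Opens) (hrange : Set.range ι = (U₀ : Set X.scheme)ᶜ)
    (hU : ContainsFj X (c + m) U) (hU₀U : U₀ ≤ U)
    (hdU₀ : WeilCoh.dim (U₀ : Scheme.{u}) = WeilCoh.dim (U : Scheme.{u}))
    (β : T.gp (X.res U) M (i0 + 1) n')
    (hβ : (T.pull (X.resLE hU₀U hdU₀) M (i0 + 1) n').hom β = 0) :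
    ((T.fjι X (c + m) (i0 + 1) n' (mkIdx X (c + m) U hU)).app M).hom β = 0 := by
  have hdU : WeilCoh.dim (U : Scheme.{u}) = WeilCoh.dim X.scheme :=
    dim_eq_of_containsFj X (c + m) U hU
  let W : Z.scheme.Opens := ι ⁻¹ᵁ U
  have hWF : ContainsFj Z m W := containsFj_preimage X Z ι c m hdimZ U hU
  have hsetD : (U₀ : Set X.scheme) = (U : Set X.scheme) ∩ (Set.range ι)ᶜ := by
    rw [hrange, compl_compl]
    exact (Set.inter_eq_right.2 hU₀U).symm
  let D : Decomp (X.res U) := decompCl X Z ι U W rfl U₀ hU₀U hsetD hdU₀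
  have hrc : relCodim (Z.res W).scheme (X.res U).scheme = (c : ℤ) :=
    relCodim_cl X Z c m hdimZ U hdU W hWF
  have hex := T.exact_push_pull D M i0 n' i n (by rw [hrc]; exact hi) (by rw [hrc]; exact hn)
  obtain ⟨γ, hγ⟩ := (hex β).1 hβ
  have hz0 : ((T.fjι Z m i n (mkIdx Z m W hWF)).app M).hom γ = 0 := by
    haveI := ModuleCat.subsingleton_of_isZero hzero
    exact Subsingleton.elim _ _
  obtain ⟨W', hleW, hzW⟩ := ocolim_eq_zero T Z (ContainsFj Z m) i n M (fj_directed Z m)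
    (mkIdx Z m W hWF) γ hz0
  let U₃ : X.scheme.Opens := U ⊓ bigOpenG ι W'.1
  have hU₃ : ContainsFj X (c + m) U₃ :=
    containsFj_inf_bigOpenG X Z ι c m hdimZ U hU W'.1 W'.2.1
  have hW₃ : W'.1 = ι ⁻¹ᵁ U₃ := preimage_inf_bigOpenG ι U W W'.1 rfl hleW
  have hdU₃ : WeilCoh.dim (U₃ : Scheme.{u}) = WeilCoh.dim X.scheme :=
    dim_eq_of_containsFj X (c + m) U₃ hU₃
  have hU₃U : U₃ ≤ U := inf_le_left
  haveI : IsClosedImmersion (ι.resLE U W (le_of_eq rfl)) := isClosedImmersion_resLE _ _ _ rfl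
  haveI : IsClosedImmersion (ι.resLE U₃ W'.1 (le_of_eq hW₃)) :=
    isClosedImmersion_resLE _ _ _ hW₃
  have hrc₃ : relCodim (Z.res W'.1).scheme (X.res U₃).scheme = (c : ℤ) :=
    relCodim_cl X Z c m hdimZ U₃ hdU₃ W'.1 W'.2.1
  have hpb : IsPullback (Z.resLE hleW (W'.2.2.trans (mkIdx Z m W hWF).2.2.symm)).hom
      (ι.resLE U₃ W'.1 (le_of_eq hW₃)) (ι.resLE U W (le_of_eq rfl))
      (X.resLE hU₃U (hdU₃.trans hdU.symm)).hom :=
    isPullback_resLE ι hU₃U W'.1 W hleW hW₃ (le_of_eq rfl)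
  have hbc := T.push_pull (ι.resLE U W (le_of_eq rfl)) (ι.resLE U₃ W'.1 (le_of_eq hW₃))
    (X.resLE hU₃U (hdU₃.trans hdU.symm))
    (Z.resLE hleW (W'.2.2.trans (mkIdx Z m W hWF).2.2.symm)) hpb M i n (i0 + 1) n'
    (by rw [hrc]; exact hi) (by rw [hrc]; exact hn)
    (by rw [hrc₃]; exact hi) (by rw [hrc₃]; exact hn)
  have hbc' := congrArg (fun t => t.hom γ) hbc
  simp only [ModuleCat.hom_comp, LinearMap.comp_apply] at hbc'
  have e := ocolimι_res T X (ContainsFj X (c + m)) (i0 + 1) n' M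
    (U' := mkIdx X (c + m) U₃ hU₃) (U := mkIdx X (c + m) U hU) hU₃U β
  refine e.trans ?_
  have hzz : (T.pull (idxRes X (ContainsFj X (c + m)) (U' := mkIdx X (c + m) U₃ hU₃)
      (U := mkIdx X (c + m) U hU) hU₃U) M (i0 + 1) n').hom β = 0 := by
    refine (congrArg _ hγ.symm).trans ?_
    refine hbc'.trans ?_
    have hz' : (((T.H i n).map
        (Z.resLE hleW (W'.2.2.trans (mkIdx Z m W hWF).2.2.symm)).op).app M).hom γ = 0 := hzW
    rw [hz', map_zero]
  rw [hzz, map_zero]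

/-- a class on the complement `U₀ ⊇ F_jX` of a closed subscheme `Z` of codimension `c` extends
over `F_{c+m}X`, if `H(F_mZ)` vanishes -/
theorem surj_core (T : PreTheory V R A) (X Z : Obj V) (ι : Z.scheme ⟶ X.scheme)
    [IsClosedImmersion ι] (M : A.Cat) (c m j : ℕ) (hjk : j ≤ c + m) (i n i' n' : ℤ)
    (hi : i' = i + 1 - 2 * (c : ℤ)) (hn : n' = n - (c : ℤ))
    (hdimZ : WeilCoh.dim Z.scheme + c = WeilCoh.dim X.scheme)
    (hzero : IsZero (T.fjGp Z m M i' n'))
    (U₀ : X.scheme.Opens) (hrange : Set.range ι = (U₀ : Set X.scheme)ᶜ)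
    (hU₀ : ContainsFj X j U₀) (β₀ : T.gp (X.res U₀) M i n) :
    ((T.fjι X j i n (mkIdx X j U₀ hU₀)).app M).hom β₀ ∈
      LinearMap.range ((T.fjRes X hjk i n).app M).hom := by
  have hdU₀ : WeilCoh.dim (U₀ : Scheme.{u}) = WeilCoh.dim X.scheme :=
    dim_eq_of_containsFj X j U₀ hU₀
  let Wt : Z.scheme.Opens := ι ⁻¹ᵁ ⊤
  have hWtF : ContainsFj Z m Wt := fun z _ => trivial
  have htopF : ContainsFj X (c + m) ⊤ := fun _ _ => trivial
  have hsetD : (U₀ : Set X.scheme) =
      ((⊤ : X.scheme.Opens) : Set X.scheme) ∩ (Set.range ι)ᶜ := by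
    rw [hrange, compl_compl]
    simp
  have hdtop : WeilCoh.dim ((⊤ : X.scheme.Opens) : Scheme.{u}) = WeilCoh.dim X.scheme :=
    dim_top X.scheme
  have hcod : (decompCl X Z ι ⊤ Wt rfl U₀ le_top hsetD (hdU₀.trans hdtop.symm)).codim =
      (c : ℤ) := relCodim_cl X Z c m hdimZ ⊤ hdtop Wt hWtF
  have hz0 : ((T.fjι Z m i' n' (mkIdx Z m Wt hWtF)).app M).hom
      ((T.res (decompCl X Z ι ⊤ Wt rfl U₀ le_top hsetD (hdU₀.trans hdtop.symm)) M i n i' n'
        (by rw [hcod]; exact hi) (by rw [hcod]; exact hn)).hom β₀) = 0 := by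
    haveI := ModuleCat.subsingleton_of_isZero hzero
    exact Subsingleton.elim _ _
  obtain ⟨W', hleW, hzW⟩ := ocolim_eq_zero T Z (ContainsFj Z m) i' n' M (fj_directed Z m)
    (mkIdx Z m Wt hWtF) _ hz0
  let U₃ : X.scheme.Opens := ⊤ ⊓ bigOpenG ι W'.1
  have hU₃ : ContainsFj X (c + m) U₃ :=
    containsFj_inf_bigOpenG X Z ι c m hdimZ ⊤ htopF W'.1 W'.2.1
  have hW₃ : W'.1 = ι ⁻¹ᵁ U₃ := preimage_inf_bigOpenG ι ⊤ Wt W'.1 rfl hleW
  have hU₀U₃ : U₀ ≤ U₃ := by
    intro y hy
    refine ⟨trivial, not_mem_range_mem_bigOpenG ι W'.1 y ?_⟩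
    rw [hrange]
    exact fun h => h hy
  have hdU₃ : WeilCoh.dim (U₃ : Scheme.{u}) = WeilCoh.dim X.scheme :=
    dim_eq_of_containsFj X (c + m) U₃ hU₃
  have hset₃ : (U₀ : Set X.scheme) = (U₃ : Set X.scheme) ∩ (Set.range ι)ᶜ := by
    rw [hrange, compl_compl]
    exact (Set.inter_eq_right.2 hU₀U₃).symm
  have hcod₃ : (decompCl X Z ι U₃ W'.1 hW₃ U₀ hU₀U₃ hset₃ (hdU₀.trans hdU₃.symm)).codim =
      (c : ℤ) := relCodim_cl X Z c m hdimZ U₃ hdU₃ W'.1 W'.2.1
  have hU₃top : U₃ ≤ ⊤ := le_top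
  have hrp := T.res_pull (decompCl X Z ι ⊤ Wt rfl U₀ le_top hsetD (hdU₀.trans hdtop.symm))
    (decompCl X Z ι U₃ W'.1 hW₃ U₀ hU₀U₃ hset₃ (hdU₀.trans hdU₃.symm))
    (X.resLE hU₃top (hdU₃.trans hdtop.symm))
    (Z.resLE hleW (W'.2.2.trans (mkIdx Z m Wt hWtF).2.2.symm)) (𝟙 (X.res U₀))
    (by
      change Z.scheme.homOfLE hleW ≫ ι.resLE ⊤ Wt _ =
        ι.resLE U₃ W'.1 _ ≫ X.scheme.homOfLE hU₃top
      exact resLE_comp_gen ι hU₃top W'.1 Wt hleW _ _)
    (by
      rw [Category.id_comp]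
      exact (resLE_comp X hU₀U₃ hU₃top _ _).symm)
    M i n i' n' (by rw [hcod]; exact hi) (by rw [hcod]; exact hn)
    (by rw [hcod₃]; exact hi) (by rw [hcod₃]; exact hn)
  have hrp' := congrArg (fun t => t.hom β₀) hrp
  simp only [ModuleCat.hom_comp, LinearMap.comp_apply] at hrp'
  rw [pull_id_apply] at hrp'
  have hres₃ : (T.res (decompCl X Z ι U₃ W'.1 hW₃ U₀ hU₀U₃ hset₃ (hdU₀.trans hdU₃.symm))
      M i n i' n' (by rw [hcod₃]; exact hi) (by rw [hcod₃]; exact hn)).hom β₀ = 0 :=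
    hrp'.symm.trans hzW
  have hex := T.exact_pull_res (decompCl X Z ι U₃ W'.1 hW₃ U₀ hU₀U₃ hset₃ (hdU₀.trans hdU₃.symm))
    M i n i' n' (by rw [hcod₃]; exact hi) (by rw [hcod₃]; exact hn)
  obtain ⟨β', hβ'⟩ := (hex β₀).1 hres₃
  refine ⟨((T.fjι X (c + m) i n (mkIdx X (c + m) U₃ hU₃)).app M).hom β', ?_⟩
  refine (ocolimMap_ι T X (containsFj_mono X hjk) i n M (mkIdx X (c + m) U₃ hU₃) β').trans ?_
  have e := ocolimι_res T X (ContainsFj X j) i n M (U' := mkIdx X j U₀ hU₀)
    (U := ⟨U₃, containsFj_mono X hjk _ hU₃, hdU₃⟩) hU₀U₃ β'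
  refine e.trans ?_
  exact congrArg _ hβ'

/-- when every point has codimension at most `j`, the groups of `F_kX`, `k ≥ j`, agree -/
theorem bij_of_all_codim_le (T : PreTheory V R A) (X : Obj V) (M : A.Cat) (j k : ℕ)
    (hjk : j ≤ k) (i n : ℤ) (hall : ∀ x : X.scheme, WeilCoh.codim X.scheme x ≤ j) :
    Function.Bijective ((T.fjRes X hjk i n).app M).hom := by
  have hup : ∀ U : X.scheme.Opens, ContainsFj X j U → ContainsFj X k U :=
    fun U hU y _ => hU y (hall y)
  constructor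
  · rw [injective_iff_map_eq_zero]
    intro y hy
    obtain ⟨U, β, rfl⟩ := ocolim_exists_rep T X (ContainsFj X k) i n M (fj_directed X k) y
    have hy' := (ocolimMap_ι T X (containsFj_mono X hjk) i n M U β).symm.trans hy
    obtain ⟨U', hle, hz⟩ := ocolim_eq_zero T X (ContainsFj X j) i n M (fj_directed X j)
      (⟨U.1, containsFj_mono X hjk _ U.2.1, U.2.2⟩ : Idx X (ContainsFj X j)) β hy'
    have e := ocolimι_res T X (ContainsFj X k) i n M
      (U' := (⟨U'.1, hup _ U'.2.1, U'.2.2⟩ : Idx X (ContainsFj X k))) (U := U) hle β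
    refine e.trans ?_
    have hz' : (T.pull (idxRes X (ContainsFj X k)
        (U' := (⟨U'.1, hup _ U'.2.1, U'.2.2⟩ : Idx X (ContainsFj X k))) (U := U) hle) M i n).hom β
        = 0 := hz
    rw [hz', map_zero]
  · intro y
    obtain ⟨U, β, rfl⟩ := ocolim_exists_rep T X (ContainsFj X j) i n M (fj_directed X j) y
    exact ⟨((T.fjι X k i n ⟨U.1, hup _ U.2.1, U.2.2⟩).app M).hom β,
      ocolimMap_ι T X (containsFj_mono X hjk) i n M ⟨U.1, hup _ U.2.1, U.2.2⟩ β⟩

end core

section main87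
variable {V : ObjectProperty Scheme.{u}} [IsConstructible V] {R : Type u} [CommRing R]
  {A : Coefs R}

theorem main15887 (T : PreTheory V R A) (X : Obj V) (M : A.Cat) (j m : ℕ) (i n : ℤ)
    (hZ : ∀ (Z : Obj V) (ι : Z.scheme ⟶ X.scheme) [IsClosedImmersion ι] [IsReduced Z.scheme],
      WeilCoh.dim Z.scheme + (j + 1) = WeilCoh.dim X.scheme →
      IsZero (T.fjGp Z m M (i - 2 * ((j : ℤ) + 1)) (n - ((j : ℤ) + 1))) ∧
      IsZero (T.fjGp Z m M (i + 1 - 2 * ((j : ℤ) + 1)) (n - ((j : ℤ) + 1)))) :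
    Function.Bijective
      ((T.fjRes X ((Nat.le_succ j).trans (Nat.le_add_right (j + 1) m)) i n).app M).hom := by
  by_cases hx₀ : ∃ x₀ : X.scheme, WeilCoh.codim X.scheme x₀ = j + 1
  · obtain ⟨x₀, hx₀⟩ := hx₀
    obtain ⟨i0, rfl⟩ : ∃ i0, i = i0 + 1 := ⟨i - 1, by ring⟩
    -- shrink an open `⊇ F_j` away from the closure of `x₀`
    have shrink : ∀ U' : X.scheme.Opens, ContainsFj X j U' →
        ContainsFj X j (U' ⊓ complCl X x₀) ∧ x₀ ∉ U' ⊓ complCl X x₀ := by
      intro U' hU'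
      refine ⟨containsFj_diff_closure' X j x₀ hx₀ U' _ hU' rfl, ?_⟩
      intro h
      exact h.2 (subset_closure rfl)
    constructor
    · rw [injective_iff_map_eq_zero]
      intro y hy
      obtain ⟨U, β, rfl⟩ := ocolim_exists_rep T X (ContainsFj X (j + 1 + m)) (i0 + 1) n M
        (fj_directed X (j + 1 + m)) y
      have hy' := (ocolimMap_ι T X (containsFj_mono X
        ((Nat.le_succ j).trans (Nat.le_add_right (j + 1) m))) (i0 + 1) n M U β).symm.trans hy
      obtain ⟨U', hle, hz⟩ := ocolim_eq_zero T X (ContainsFj X j) (i0 + 1) n M (fj_directed X j)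
        (⟨U.1, containsFj_mono X ((Nat.le_succ j).trans (Nat.le_add_right (j + 1) m)) _ U.2.1,
          U.2.2⟩ : Idx X (ContainsFj X j)) β hy'
      obtain ⟨hU₀, hx₀U₀⟩ := shrink U'.1 U'.2.1
      have hdU₀ : WeilCoh.dim ((U'.1 ⊓ complCl X x₀ : X.scheme.Opens) : Scheme.{u}) =
          WeilCoh.dim X.scheme := dim_eq_of_containsFj X j _ hU₀
      have hdimZ := dim_complObj_add X j (U'.1 ⊓ complCl X x₀) hU₀ x₀ hx₀ hx₀U₀
      have hU₀U' : U'.1 ⊓ complCl X x₀ ≤ U'.1 := inf_le_left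
      have hβ₀ : (T.pull (X.resLE (hU₀U'.trans hle) (hdU₀.trans U.2.2.symm)) M (i0 + 1) n).hom β
          = 0 := by
        refine (pull_comp_apply' T (X.resLE hU₀U' (hdU₀.trans U'.2.2.symm))
          (X.resLE hle (U'.2.2.trans U.2.2.symm)) _ (resLE_comp X _ _ _ _) M (i0 + 1) n β).symm.trans
          ?_
        have hz' : (T.pull (X.resLE hle (U'.2.2.trans U.2.2.symm)) M (i0 + 1) n).hom β = 0 := hz
        rw [hz', map_zero]
      exact inj_core T X (complObj X (U'.1 ⊓ complCl X x₀))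
        (complIdeal X.scheme (U'.1 ⊓ complCl X x₀)).subschemeι M (j + 1) m
        (i0 + 1 - 2 * ((j : ℤ) + 1)) (n - ((j : ℤ) + 1)) i0 n
        (by push_cast; ring) (by push_cast; ring) hdimZ
        (hZ _ (complIdeal X.scheme (U'.1 ⊓ complCl X x₀)).subschemeι hdimZ).1
        (U'.1 ⊓ complCl X x₀) U.1 (range_complι X.scheme _) U.2.1 (hU₀U'.trans hle)
        (hdU₀.trans U.2.2.symm) β hβ₀
    · intro y
      obtain ⟨U', β, rfl⟩ := ocolim_exists_rep T X (ContainsFj X j) (i0 + 1) n M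
        (fj_directed X j) y
      obtain ⟨hU₀, hx₀U₀⟩ := shrink U'.1 U'.2.1
      have hdimZ := dim_complObj_add X j (U'.1 ⊓ complCl X x₀) hU₀ x₀ hx₀ hx₀U₀
      have e0 := ocolimι_res T X (ContainsFj X j) (i0 + 1) n M
        (U' := mkIdx X j (U'.1 ⊓ complCl X x₀) hU₀) (U := U') inf_le_left β
      rw [e0]
      exact surj_core T X (complObj X (U'.1 ⊓ complCl X x₀))
        (complIdeal X.scheme (U'.1 ⊓ complCl X x₀)).subschemeι M (j + 1) m j
        ((Nat.le_succ j).trans (Nat.le_add_right (j + 1) m)) (i0 + 1) n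
        (i0 + 1 + 1 - 2 * ((j : ℤ) + 1)) (n - ((j : ℤ) + 1))
        (by push_cast; ring) (by push_cast; ring) hdimZ
        (hZ _ (complIdeal X.scheme (U'.1 ⊓ complCl X x₀)).subschemeι hdimZ).2
        (U'.1 ⊓ complCl X x₀) (range_complι X.scheme _) hU₀ _
  · have hall : ∀ x : X.scheme, WeilCoh.codim X.scheme x ≤ j := by
      intro x
      by_contra hlt
      haveI : Nonempty X.scheme := ⟨x⟩
      have h1 := codim_le_dim X x
      obtain ⟨x₀, h⟩ := exists_codim_eq X (j + 1) (by omega)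
      exact hx₀ ⟨x₀, h⟩
    exact bij_of_all_codim_le T X M j (j + 1 + m) _ i n hall

end main87

end Groth.Agent.Helper17.BM
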