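import Groth.Agent.Lib.Helper17.BM7

/-!
# Borel–Moore theories: vanishing of `H(F_jX)` in high degrees from vanishing at the points
-/

set_option autoImplicit false
universe u
open AlgebraicGeometry CategoryTheory CategoryTheory.Limits Opposite BMCoh TopologicalSpace
open Topology Order Set

namespace Groth.Agent.Helper17.BM
open Groth.Agent.Helper23.BMLib1 Groth.Agent.Helper23.BMLib2

section gv
variable {V : ObjectProperty Scheme.{u}} [IsConstructible V] {R : Type u} [CommRing R]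
  {A : Coefs R}

/-- a class on an open of the closure of `η` (in a reduced object) dies near `η` when the group
of the point `η` vanishes (after Helper23's `generic_vanishing`) -/
theorem generic_vanishing' (T : PreTheory V R A) (Y : Obj V) [IsReduced Y.scheme] (η : Y.scheme)
    (W : Y.scheme.Opens) (hη : η ∈ W)
    (hW : (W : Set Y.scheme) ⊆ closure ({η} : Set Y.scheme)) (M : A.Cat) (m n : ℤ)
    (hzero : IsZero (T.ptGp Y η M m n))
    (α : T.gp (Y.res W) M m n) :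
    ∃ (W' : Y.scheme.Opens) (hle : W' ≤ W)
      (hd : WeilCoh.dim (W' : Scheme.{u}) = WeilCoh.dim (W : Scheme.{u})),
      η ∈ W' ∧ (T.pull (Y.resLE hle hd) M m n).hom α = 0 := by
  have hgen : ptGen Y η ∈ (Y.ptSubι η) ⁻¹ᵁ W := by
    change (Y.ptSubι η) (ptGen Y η) ∈ W
    rw [ptSubι_ptGen]; exact hη
  let j₀ : Idx (Y.ptSub η) (fun U => (U : Set (Y.ptSub η).scheme).Nonempty) :=
    ⟨(Y.ptSubι η) ⁻¹ᵁ W, ⟨ptGen Y η, hgen⟩,
      IsConstructible.dim_open (Y.ptSub η).mem inferInstance _ ⟨ptGen Y η, hgen⟩⟩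
  let β : T.gp ((Y.ptSub η).res j₀.1) M m n := (T.pull (eW Y η W hW) M m n).hom α
  obtain ⟨k, hk, hk0⟩ := exists_pull_eq_zero T (Y.ptSub η) _ (idx_directed Y η) m n M
    hzero j₀ β
  obtain ⟨W₀, hW₀, hW₀'⟩ := (Y.ptSubι η).isEmbedding.isInducing.isOpen_iff.1 k.1.isOpen
  let W' : Y.scheme.Opens := ⟨W₀, hW₀⟩ ⊓ W
  have hgen' : ptGen Y η ∈ k.1 := ptGen_mem_of_nonempty Y η k.1 k.2.1
  have hηW' : η ∈ W' := by
    refine ⟨?_, hη⟩
    have : ptGen Y η ∈ (Y.ptSubι η) ⁻¹' W₀ := by rw [hW₀']; exact hgen'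
    have h2 : (Y.ptSubι η) (ptGen Y η) ∈ W₀ := this
    rwa [ptSubι_ptGen] at h2
  have hle : W' ≤ W := inf_le_right
  have hW'cl : (W' : Set Y.scheme) ⊆ closure {η} := subset_trans (fun _ hx => hle hx) hW
  have hd : WeilCoh.dim (W' : Scheme.{u}) = WeilCoh.dim (W : Scheme.{u}) := by
    rw [dim_open_of_subset_closure Y η W' hηW' hW'cl, dim_open_of_subset_closure Y η W hη hW]
  have hlek : (Y.ptSubι η) ⁻¹ᵁ W' ≤ k.1 := by
    intro x hx
    have : x ∈ (Y.ptSubι η) ⁻¹' W₀ := hx.1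
    rw [hW₀'] at this
    exact this
  refine ⟨W', hle, hd, hηW', ?_⟩
  have hinj : Function.Injective (T.pull (eW Y η W' hW'cl) M m n).hom := by
    apply Function.LeftInverse.injective (g := (T.pull (eWinv Y η W' hW'cl) M m n).hom)
    intro x
    rw [← pull_comp_apply, eWinv_eW, pull_id]
    rfl
  apply hinj
  rw [map_zero, ← pull_comp_apply]
  have hd' : WeilCoh.dim (((Y.ptSubι η) ⁻¹ᵁ W' : (Y.ptSub η).scheme.Opens) : Scheme.{u}) =
      WeilCoh.dim (((Y.ptSubι η) ⁻¹ᵁ W : (Y.ptSub η).scheme.Opens) : Scheme.{u}) := by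
    rw [(eW Y η W' hW'cl).dim_eq, (eW Y η W hW).dim_eq]
    exact hd
  rw [← eW_natural Y η W W' hle hW hd hd', pull_comp_apply]
  have hdk : WeilCoh.dim (((Y.ptSubι η) ⁻¹ᵁ W' : (Y.ptSub η).scheme.Opens) : Scheme.{u}) =
      WeilCoh.dim ((k.1 : (Y.ptSub η).scheme.Opens) : Scheme.{u}) :=
    hd'.trans (j₀.2.2.trans k.2.2.symm)
  have hfac : (Y.ptSub η).resLE (show (Y.ptSubι η) ⁻¹ᵁ W' ≤ (Y.ptSubι η) ⁻¹ᵁ W from
        fun _ hx => hle hx) hd' =
      (Y.ptSub η).resLE hlek hdk ≫ (Y.ptSub η).resLE hk (k.2.2.trans j₀.2.2.symm) := by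
    apply BMCoh.Hom.ext
    exact (Scheme.homOfLE_homOfLE _ hlek hk).symm
  rw [hfac, pull_comp_apply]
  change (T.pull ((Y.ptSub η).resLE hlek hdk) M m n).hom
    ((T.pull ((Y.ptSub η).resLE hk (k.2.2.trans j₀.2.2.symm)) M m n).hom β) = 0
  rw [hk0, map_zero]

/-- variant of `inj_core`: classes on `F_mZ` die on smaller opens -/
theorem inj_core' (T : PreTheory V R A) (X Z : Obj V) (ι : Z.scheme ⟶ X.scheme)
    [IsClosedImmersion ι] (M : A.Cat) (c m : ℕ) (i n i0 n' : ℤ)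
    (hi : i0 + 1 = i + 2 * (c : ℤ)) (hn : n' = n + (c : ℤ))
    (hdimZ : WeilCoh.dim Z.scheme + c = WeilCoh.dim X.scheme)
    (hvan : ∀ (W : Idx Z (ContainsFj Z m)) (γ : T.gp (Z.res W.1) M i n),
      ∃ (W' : Idx Z (ContainsFj Z m)) (hle : W'.1 ≤ W.1),
        (T.pull (idxRes Z (ContainsFj Z m) hle) M i n).hom γ = 0)
    (U₀ U : X.scheme.Opens) (hrange : Set.range ι = (U₀ : Set X.scheme)ᶜ)
    (hU : ContainsFj X (c + m) U) (hU₀U : U₀ ≤ U)
    (hdU₀ : WeilCoh.dim (U₀ : Scheme.{u}) = WeilCoh.dim (U : Scheme.{u}))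
    (β : T.gp (X.res U) M (i0 + 1) n')
    (hβ : (T.pull (X.resLE hU₀U hdU₀) M (i0 + 1) n').hom β = 0) :
    ∃ (U₃ : X.scheme.Opens) (hle : U₃ ≤ U) (_ : ContainsFj X (c + m) U₃)
      (hd : WeilCoh.dim (U₃ : Scheme.{u}) = WeilCoh.dim (U : Scheme.{u})),
      (T.pull (X.resLE hle hd) M (i0 + 1) n').hom β = 0 := by
  have hdU : WeilCoh.dim (U : Scheme.{u}) = WeilCoh.dim X.scheme :=
    dim_eq_of_containsFj X (c + m) U hU
  let W : Z.scheme.Opens := ι ⁻¹ᵁ U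
  have hWF : ContainsFj Z m W := containsFj_preimage X Z ι c m hdimZ U hU
  have hsetD : (U₀ : Set X.scheme) = (U : Set X.scheme) ∩ (Set.range ι)ᶜ := by
    rw [hrange, compl_compl]
    exact (Set.inter_eq_right.2 hU₀U).symm
  let D : Decomp (X.res U) := decompCl X Z ι U W rfl U₀ hU₀U hsetD hdU₀
  have hrc : relCodim (Z.res W).scheme (X.res U).scheme = (c : ℤ) :=
    relCodim_cl X Z c m hdimZ U hdU W hWF
  have hex := T.exact_push_pull D M i0 n' i n (by rw [hrc]; exact hi) (by rw [hrc]; exact hn)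
  obtain ⟨γ, hγ⟩ := (hex β).1 hβ
  obtain ⟨W', hleW, hzW⟩ := hvan (mkIdx Z m W hWF) γ
  let U₃ : X.scheme.Opens := U ⊓ bigOpenG ι W'.1
  have hU₃ : ContainsFj X (c + m) U₃ :=
    containsFj_inf_bigOpenG X Z ι c m hdimZ U hU W'.1 W'.2.1
  have hW₃ : W'.1 = ι ⁻¹ᵁ U₃ := preimage_inf_bigOpenG ι U W W'.1 rfl hleW
  have hdU₃ : WeilCoh.dim (U₃ : Scheme.{u}) = WeilCoh.dim X.scheme :=
    dim_eq_of_containsFj X (c + m) U₃ hU₃
  have hU₃U : U₃ ≤ U := inf_le_left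
  haveI : IsClosedImmersion (ι.resLE U W (le_of_eq rfl)) := isClosedImmersion_resLE _ _ _ rfl
  haveI : IsClosedImmersion (ι.resLE U₃ W'.1 (le_of_eq hW₃)) :=
    isClosedImmersion_resLE _ _ _ hW₃
  have hrc₃ : relCodim (Z.res W'.1).scheme (X.res U₃).scheme = (c : ℤ) :=
    relCodim_cl X Z c m hdimZ U₃ hdU₃ W'.1 W'.2.1
  have hpb : IsPullback (Z.resLE hleW (W'.2.2.trans (mkIdx Z m W hWF).2.2.symm)).hom
      (ι.resLE U₃ W'.1 (le_of_eq hW₃)) (ι.resLE U W (le_of_eq rfl))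
      (X.resLE hU₃U (hdU₃.trans hdU.symm)).hom :=
    isPullback_resLE ι hU₃U W'.1 W hleW hW₃ (le_of_eq rfl)
  have hbc := T.push_pull (ι.resLE U W (le_of_eq rfl)) (ι.resLE U₃ W'.1 (le_of_eq hW₃))
    (X.resLE hU₃U (hdU₃.trans hdU.symm))
    (Z.resLE hleW (W'.2.2.trans (mkIdx Z m W hWF).2.2.symm)) hpb M i n (i0 + 1) n'
    (by rw [hrc]; exact hi) (by rw [hrc]; exact hn)
    (by rw [hrc₃]; exact hi) (by rw [hrc₃]; exact hn)
  have hbc' := congrArg (fun t => t.hom γ) hbc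
  simp only [ModuleCat.hom_comp, LinearMap.comp_apply] at hbc'
  refine ⟨U₃, hU₃U, hU₃, hdU₃.trans hdU.symm, ?_⟩
  refine (congrArg _ hγ.symm).trans ?_
  refine hbc'.trans ?_
  have hz' : (((T.H i n).map
      (Z.resLE hleW (W'.2.2.trans (mkIdx Z m W hWF).2.2.symm)).op).app M).hom γ = 0 := hzW
  rw [hz', map_zero]

end gv

section van
variable {V : ObjectProperty Scheme.{u}} [IsConstructible V] {R : Type u} [CommRing R]
  {A : Coefs R}

/-- Noetherian induction: classes of high degree on opens `⊇ F_jZ` die on smaller such opens -/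
theorem van_aux (T : PreTheory V R A) (M : A.Cat) (c : ℕ)
    (hc : ∀ (Y : Obj V) (y : Y.scheme) (i n : ℤ), (WeilCoh.pdim Y.scheme y : ℤ) + c < i →
      IsZero (T.ptGp Y y M i n))
    (X₀ : Obj V) (C : Closeds X₀.scheme) :
    ∀ (Z : Obj V) [IsReduced Z.scheme] (ι : Z.scheme ⟶ X₀.scheme) [IsClosedImmersion ι],
      Set.range ι = (C : Set X₀.scheme) → ∀ (j : ℕ) (i n : ℤ),
        (WeilCoh.dim Z.scheme : ℤ) + j + c < i →
        ∀ (U : Idx Z (ContainsFj Z j)) (β : T.gp (Z.res U.1) M i n),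
          ∃ (U' : Idx Z (ContainsFj Z j)) (hle : U'.1 ≤ U.1),
            (T.pull (idxRes Z (ContainsFj Z j) hle) M i n).hom β = 0 := by
  haveI : NoetherianSpace X₀.scheme := inferInstance
  induction C using WellFoundedLT.induction with
  | ind C ih =>
  intro Z _ ι _ hr j i n hi U β
  by_cases hemp : IsEmpty Z.scheme
  · haveI : IsEmpty (Z.res U.1).scheme := ⟨fun p => hemp.false p.1⟩
    refine ⟨U, le_rfl, ?_⟩
    haveI := ModuleCat.subsingleton_of_isZero (isZero_of_isEmpty T (Z.res U.1) M i n)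
    exact Subsingleton.elim _ _
  rw [not_isEmpty_iff] at hemp
  obtain ⟨i0, rfl⟩ : ∃ i0, i = i0 + 1 := ⟨i - 1, by ring⟩
  obtain ⟨η, o, ho, hηo, hocl, hdim⟩ := exists_generic_top Z.scheme (finDim_obj Z)
  have hpη : WeilCoh.pdim Z.scheme η = WeilCoh.dim Z.scheme := by
    unfold WeilCoh.pdim WeilCoh.dim
    exact natDim_congr hdim
  have hηU : η ∈ U.1 := U.2.1 η (by unfold WeilCoh.codim; omega)
  let W : Z.scheme.Opens := ⟨o, ho⟩ ⊓ U.1
  have hηW : η ∈ W := ⟨hηo, hηU⟩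
  have hWcl : (W : Set Z.scheme) ⊆ closure ({η} : Set Z.scheme) := fun y hy => hocl hy.1
  have hdW : WeilCoh.dim (W : Scheme.{u}) = WeilCoh.dim Z.scheme := by
    rw [dim_open_of_subset_closure Z η W hηW hWcl]
    exact hpη
  have hWU : W ≤ U.1 := inf_le_right
  obtain ⟨W', hleW, hdW', hηW', hzW⟩ := generic_vanishing' T Z η W hηW hWcl M (i0 + 1) n
    (hc Z η (i0 + 1) n (by rw [hpη]; omega))
    ((T.pull (Z.resLE hWU (hdW.trans U.2.2.symm)) M (i0 + 1) n).hom β)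
  have hdW'Z : WeilCoh.dim (W' : Scheme.{u}) = WeilCoh.dim Z.scheme := hdW'.trans hdW
  have hW'U : W' ≤ U.1 := hleW.trans hWU
  have hβW' : (T.pull (Z.resLE hW'U (hdW'Z.trans U.2.2.symm)) M (i0 + 1) n).hom β = 0 := by
    refine (pull_comp_apply' T (Z.resLE hleW hdW') (Z.resLE hWU (hdW.trans U.2.2.symm)) _
      (resLE_comp Z _ _ _ _) M (i0 + 1) n β).symm.trans hzW
  -- the closed complement
  let ι' : (complObj Z W').scheme ⟶ Z.scheme := (complIdeal Z.scheme W').subschemeι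
  haveI : IsClosedImmersion ι' :=
    inferInstanceAs (IsClosedImmersion (complIdeal Z.scheme W').subschemeι)
  have hrange' : Set.range ι' = (W' : Set Z.scheme)ᶜ := range_complι Z.scheme W'
  have hdle : WeilCoh.dim (complObj Z W').scheme ≤ WeilCoh.dim Z.scheme :=
    dim_le_of_closedImmersion ι' (finDim_obj Z)
  obtain ⟨e₀, he₀⟩ : ∃ e₀ : ℕ, WeilCoh.dim (complObj Z W').scheme + e₀ = WeilCoh.dim Z.scheme :=
    ⟨_, Nat.add_sub_cancel' hdle⟩
  by_cases he : e₀ ≤ j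
  · have hjeq : e₀ + (j - e₀) = j := by omega
    have hUF : ContainsFj Z (e₀ + (j - e₀)) U.1 := containsFj_mono Z (le_of_eq hjeq) U.1 U.2.1
    have hlt : (⟨Set.range (ι' ≫ ι), (ι' ≫ ι).isClosedEmbedding.isClosed_range⟩ :
        Closeds X₀.scheme) < C := by
      rw [← SetLike.coe_ssubset_coe]
      change Set.range (ι' ≫ ι) ⊂ (C : Set X₀.scheme)
      rw [← hr]
      constructor
      · rintro _ ⟨x, rfl⟩
        exact ⟨ι' x, by simp⟩
      · intro hsub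
        obtain ⟨z, hz'⟩ := hsub ⟨η, rfl⟩
        have h1 : ι (ι' z) = ι η := by rw [← hz']; simp
        have h2 : ι' z = η := ι.isEmbedding.injective h1
        have h3 : η ∈ Set.range ι' := ⟨z, h2⟩
        rw [hrange'] at h3
        exact h3 hηW'
    have hvan := ih _ hlt (complObj Z W') (ι' ≫ ι) rfl (j - e₀) (i0 + 1 - 2 * (e₀ : ℤ))
      (n - (e₀ : ℤ)) (by
        have h1 : ((WeilCoh.dim (complObj Z W').scheme : ℕ) : ℤ) + (e₀ : ℤ) =
            (WeilCoh.dim Z.scheme : ℤ) := by exact_mod_cast he₀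
        have h2 : (((j - e₀ : ℕ)) : ℤ) = (j : ℤ) - (e₀ : ℤ) := Nat.cast_sub he
        omega)
    obtain ⟨U₃, hle₃, hF₃, hd₃, hz₃⟩ := inj_core' T Z (complObj Z W') ι' M e₀ (j - e₀)
      (i0 + 1 - 2 * (e₀ : ℤ)) (n - (e₀ : ℤ)) i0 n (by ring) (by ring) he₀ hvan W' U.1 hrange'
      hUF hW'U (hdW'Z.trans U.2.2.symm) β hβW'
    have hF₃' : ContainsFj Z j U₃ := containsFj_mono Z (le_of_eq hjeq.symm) U₃ hF₃
    exact ⟨⟨U₃, hF₃', hd₃.trans U.2.2⟩, hle₃, hz₃⟩
  · have hFW' : ContainsFj Z j W' := by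
      intro y hy
      by_contra hyW'
      have : y ∈ Set.range ι' := by rw [hrange']; exact hyW'
      obtain ⟨z, rfl⟩ := this
      rw [codim_closedImmersion Z (complObj Z W') ι' e₀ he₀ z] at hy
      omega
    exact ⟨⟨W', hFW', hdW'Z⟩, hW'U, hβW'⟩

theorem main15885 (T : PreTheory V R A) (M : A.Cat) (c : ℕ)
    (hc : ∀ (Y : Obj V) (y : Y.scheme) (i n : ℤ), (WeilCoh.pdim Y.scheme y : ℤ) + c < i →
      IsZero (T.ptGp Y y M i n))
    (X : Obj V) [IsReduced X.scheme] (j : ℕ) (i n : ℤ)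
    (hi : (WeilCoh.dim X.scheme : ℤ) + j + c < i) : IsZero (T.fjGp X j M i n) := by
  rw [ModuleCat.isZero_iff_subsingleton]
  suffices h0 : ∀ y : T.fjGp X j M i n, y = 0 from ⟨fun a b => by rw [h0 a, h0 b]⟩
  intro y
  obtain ⟨U, β, rfl⟩ := ocolim_exists_rep T X (ContainsFj X j) i n M (fj_directed X j) y
  obtain ⟨U', hle, hz⟩ := van_aux T M c hc X ⊤ X (𝟙 _) (by simp) j i n hi U β
  rw [ocolimι_res T X (ContainsFj X j) i n M hle β, hz, map_zero]

end van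

end Groth.Agent.Helper17.BM
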