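import Groth.Agent.Lib.Helper17.BM8

/-!
# Borel–Moore theories: pure opens of the top-dimensional components; additivity
-/

set_option autoImplicit false
universe u
open AlgebraicGeometry CategoryTheory CategoryTheory.Limits Opposite BMCoh TopologicalSpace
open Topology Order Set

namespace Groth.Agent.Helper17.BM
open Groth.Agent.Helper23.BMLib1 Groth.Agent.Helper23.BMLib2

section pure
variable {V : ObjectProperty Scheme.{u}} [IsConstructible V]

/-- the irreducible component through a point of codimension 0 is its closure -/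
theorem eq_closure_of_mem_component (Z : Obj V) (η : Z.scheme)
    (hη : WeilCoh.codim Z.scheme η = 0) (t : Set Z.scheme)
    (ht : t ∈ irreducibleComponents Z.scheme) (hηt : η ∈ t) :
    t = closure ({η} : Set Z.scheme) := by
  have htc : IsClosed t := isClosed_of_mem_irreducibleComponents t ht
  have hti : IsIrreducible t := ht.1
  have hg : closure ({hti.genericPoint} : Set Z.scheme) = t := hti.closure_genericPoint htc
  have hmem : η ∈ closure ({hti.genericPoint} : Set Z.scheme) := by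
    rw [hg]
    exact hηt
  by_cases hne : η = hti.genericPoint
  · rw [hne, hg]
  · have := codim_lt_of_ne Z hmem hne
    omega

theorem closure_mem_irreducibleComponents (Z : Obj V) (η : Z.scheme)
    (hη : WeilCoh.codim Z.scheme η = 0) :
    closure ({η} : Set Z.scheme) ∈ irreducibleComponents Z.scheme := by
  have h := irreducibleComponent_mem_irreducibleComponents η
  rw [← eq_closure_of_mem_component Z η hη _ h mem_irreducibleComponent]
  exact h

theorem eq_of_codim_zero_of_mem_closure (Z : Obj V) (η η' : Z.scheme)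
    (hη : WeilCoh.codim Z.scheme η = 0) (h : η ∈ closure ({η'} : Set Z.scheme)) : η = η' := by
  by_contra hne
  have := codim_lt_of_ne Z h hne
  omega

/-- the points lying only on the component of `η` -/
def pureOpen (Z : Obj V) (η : Z.scheme) : Z.scheme.Opens :=
  ⟨(⋃ t ∈ {t ∈ irreducibleComponents Z.scheme | η ∉ t}, (t : Set Z.scheme))ᶜ,
    ((NoetherianSpace.finite_irreducibleComponents.subset (Set.sep_subset _ _)).isClosed_biUnion
      (fun t ht => isClosed_of_mem_irreducibleComponents t ht.1)).isOpen_compl⟩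

theorem mem_pureOpen (Z : Obj V) (η y : Z.scheme) :
    y ∈ pureOpen Z η ↔ ∀ t ∈ irreducibleComponents Z.scheme, η ∉ t → y ∉ t := by
  change y ∈ (⋃ t ∈ {t ∈ irreducibleComponents Z.scheme | η ∉ t}, (t : Set Z.scheme))ᶜ ↔ _
  simp only [Set.mem_compl_iff, Set.mem_iUnion, Set.mem_ofPred_eq, not_exists]
  constructor
  · intro h t ht hηt hyt
    exact h t ⟨ht, hηt⟩ hyt
  · intro h t ht hyt
    exact h t ht.1 ht.2 hyt

theorem self_mem_pureOpen (Z : Obj V) (η : Z.scheme) : η ∈ pureOpen Z η :=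
  (mem_pureOpen Z η η).2 (fun _ _ h => h)

theorem pureOpen_subset_closure (Z : Obj V) (η : Z.scheme)
    (hη : WeilCoh.codim Z.scheme η = 0) (y : Z.scheme) (hy : y ∈ pureOpen Z η) :
    y ∈ closure ({η} : Set Z.scheme) := by
  have ht := irreducibleComponent_mem_irreducibleComponents y
  have hηt : η ∈ irreducibleComponent y := by
    by_contra hηt
    exact (mem_pureOpen Z η y).1 hy _ ht hηt mem_irreducibleComponent
  rw [← eq_closure_of_mem_component Z η hη _ ht hηt]
  exact mem_irreducibleComponent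

theorem pureOpen_disjoint_closure (Z : Obj V) (η η' : Z.scheme)
    (hη : WeilCoh.codim Z.scheme η = 0) (hη' : WeilCoh.codim Z.scheme η' = 0) (hne : η ≠ η')
    (y : Z.scheme) (hy : y ∈ pureOpen Z η) : y ∉ closure ({η'} : Set Z.scheme) := by
  intro hycl
  have ht := closure_mem_irreducibleComponents Z η' hη'
  have hηt : η ∉ closure ({η'} : Set Z.scheme) := fun h =>
    hne (eq_of_codim_zero_of_mem_closure Z η η' hη h)
  exact (mem_pureOpen Z η y).1 hy _ ht hηt hycl

/-- the union of the pure opens of the points of codimension 0 -/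
def pureLocus (Z : Obj V) : Z.scheme.Opens := ⨆ η : Z.cdPt 0, pureOpen Z η.1

theorem mem_pureLocus (Z : Obj V) (y : Z.scheme) :
    y ∈ pureLocus Z ↔ ∃ η : Z.scheme, WeilCoh.codim Z.scheme η = 0 ∧ y ∈ pureOpen Z η := by
  unfold pureLocus
  rw [Opens.mem_iSup]
  constructor
  · rintro ⟨η, h⟩
    exact ⟨η.1, η.2, h⟩
  · rintro ⟨η, hη, h⟩
    exact ⟨⟨η, hη⟩, h⟩

theorem containsF0_pureLocus (Z : Obj V) : ContainsFj Z 0 (pureLocus Z) := by
  intro y hy
  exact (mem_pureLocus Z y).2 ⟨y, Nat.le_zero.1 hy, self_mem_pureOpen Z y⟩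

theorem finite_codim_zero (Z : Obj V) : {η : Z.scheme | WeilCoh.codim Z.scheme η = 0}.Finite := by
  have hfin : (irreducibleComponents Z.scheme).Finite :=
    NoetherianSpace.finite_irreducibleComponents
  refine Set.Finite.of_finite_image (f := fun η : Z.scheme => closure ({η} : Set Z.scheme))
    (hfin.subset ?_) ?_
  · rintro _ ⟨η, hη, rfl⟩
    exact closure_mem_irreducibleComponents Z η hη
  · intro η hη η' _ heq
    apply eq_of_codim_zero_of_mem_closure Z η η' hη
    have : closure ({η} : Set Z.scheme) = closure ({η'} : Set Z.scheme) := heq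
    rw [← this]
    exact subset_closure rfl

theorem mem_of_mem_closure_of_mem_open (Z : Obj V) (O : Z.scheme.Opens) (η y : Z.scheme)
    (hy : y ∈ closure ({η} : Set Z.scheme)) (hyO : y ∈ O) : η ∈ O := by
  obtain ⟨z, hz, hz'⟩ := mem_closure_iff.1 hy O O.isOpen hyO
  rw [Set.mem_singleton_iff.1 hz'] at hz
  exact hz

/-- an open containing a point of codimension 0 has the dimension of the whole -/
theorem dim_eq_of_mem_codim_zero (Z : Obj V) (O : Z.scheme.Opens) (η : Z.scheme)
    (hη : WeilCoh.codim Z.scheme η = 0) (hηO : η ∈ O) :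
    WeilCoh.dim (O : Scheme.{u}) = WeilCoh.dim Z.scheme := by
  have hp : WeilCoh.pdim Z.scheme η = WeilCoh.dim Z.scheme := by
    have := pdim_le_dim Z η
    unfold WeilCoh.codim at hη
    omega
  apply le_antisymm
  · exact natDim_mono (topologicalKrullDim_subspace_le _ _) (finDim_obj Z)
  · let W' : (Z.ptSub η).scheme.Opens := (Z.ptSubι η) ⁻¹ᵁ O
    have hne' : (W' : Set (Z.ptSub η).scheme).Nonempty := by
      refine ⟨ptGen Z η, ?_⟩
      change (Z.ptSubι η) (ptGen Z η) ∈ O
      rw [ptSubι_ptGen]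
      exact hηO
    have h1 : WeilCoh.dim (W' : Scheme.{u}) = WeilCoh.dim (Z.ptSub η).scheme :=
      IsConstructible.dim_open (Z.ptSub η).mem inferInstance W' hne'
    have h2 : WeilCoh.dim (W' : Scheme.{u}) ≤ WeilCoh.dim (O : Scheme.{u}) :=
      dim_le_of_closedImmersion ((Z.ptSubι η) ∣_ O)
        (lt_of_le_of_lt (topologicalKrullDim_subspace_le _ _) (finDim_obj Z))
    rw [← hp, ← dim_ptSub, ← h1]
    exact h2

/-- an open inside the pure locus without points of codimension 0 is empty -/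
theorem eq_bot_of_no_codim_zero (Z : Obj V) (O : Z.scheme.Opens) (hO : O ≤ pureLocus Z)
    (h : ∀ η : Z.scheme, WeilCoh.codim Z.scheme η = 0 → η ∉ O) (y : Z.scheme) : y ∉ O := by
  intro hy
  obtain ⟨η, hη, hyη⟩ := (mem_pureLocus Z y).1 (hO hy)
  exact h η hη (mem_of_mem_closure_of_mem_open Z O η y (pureOpen_subset_closure Z η hη y hyη) hy)

/-- in the pure locus, the piece of `η` is the part lying on the closure of `η` -/
theorem mem_pureOpen_iff_mem_closure (Z : Obj V) (η : Z.scheme)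
    (hη : WeilCoh.codim Z.scheme η = 0) (y : Z.scheme) (hy : y ∈ pureLocus Z) :
    y ∈ pureOpen Z η ↔ y ∈ closure ({η} : Set Z.scheme) := by
  constructor
  · exact pureOpen_subset_closure Z η hη y
  · intro hycl
    obtain ⟨η', hη', hyη'⟩ := (mem_pureLocus Z y).1 hy
    by_cases hne : η' = η
    · rw [← hne]
      exact hyη'
    · exact absurd hycl (pureOpen_disjoint_closure Z η' η hη' hη hne y hyη')

end pure

section opensdecomp
variable {V : ObjectProperty Scheme.{u}} [IsConstructible V] {R : Type u} [CommRing R]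
  {A : Coefs R}

theorem isClosedImmersion_homOfLE (X : Scheme.{u}) {O₁ O : X.Opens} (h₁ : O₁ ≤ O) (O' : X.Opens)
    (hset : (O₁ : Set X) = (O : Set X) ∩ (O' : Set X)ᶜ) : IsClosedImmersion (X.homOfLE h₁) := by
  apply IsClosedImmersion.of_isPreimmersion
  rw [range_homOfLE]
  have : {p : ↥O | (p.1 : X) ∈ O₁} = ((Subtype.val : ↥O → X) ⁻¹' (O' : Set X))ᶜ := by
    ext p
    change (p.1 : X) ∈ (O₁ : Set X) ↔ ¬ ((p.1 : X) ∈ (O' : Set X))
    rw [hset]
    constructor
    · intro hp
      exact hp.2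
    · intro hp
      exact ⟨p.2, hp⟩
  rw [this]
  exact (O'.isOpen.preimage continuous_subtype_val).isClosed_compl

/-- the decomposition of an open into a clopen part and the complementary open -/
noncomputable abbrev decompOpens (Z : Obj V) (O O₁ O' : Z.scheme.Opens) (h₁ : O₁ ≤ O)
    (h' : O' ≤ O) (hset : (O₁ : Set Z.scheme) = (O : Set Z.scheme) ∩ (O' : Set Z.scheme)ᶜ)
    (hd : WeilCoh.dim (O' : Scheme.{u}) = WeilCoh.dim (O : Scheme.{u})) : Decomp (Z.res O) where
  Z := Z.res O₁
  U := Z.res O'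
  i := Z.scheme.homOfLE h₁
  closedImm := isClosedImmersion_homOfLE Z.scheme h₁ O' hset
  j := Z.resLE h' hd
  range_eq := by
    change Set.range (Z.scheme.homOfLE h') = (Set.range (Z.scheme.homOfLE h₁))ᶜ
    rw [range_homOfLE, range_homOfLE]
    ext p
    change (p.1 : Z.scheme) ∈ (O' : Set Z.scheme) ↔ ¬ ((p.1 : Z.scheme) ∈ (O₁ : Set Z.scheme))
    rw [hset]
    constructor
    · intro hp hq
      exact hq.2 hp
    · intro hp
      by_contra hq
      exact hp ⟨p.2, hq⟩

theorem relCodim_eq_zero' {X W : Obj V} (f : X ⟶ W) : relCodim X.scheme W.scheme = 0 := by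
  unfold relCodim
  rw [f.dim_eq]
  ring

/-- push then pull along the same closed-open immersion is the identity -/
theorem push_pull_self' (T : PreTheory V R A) {Y W : Obj V} (iY : Y ⟶ W) [IsProper iY.hom]
    (M : A.Cat) (i n : ℤ)
    (hi : i = i + 2 * relCodim Y.scheme W.scheme) (hn : n = n + relCodim Y.scheme W.scheme)
    (γ : T.gp Y M i n) :
    (T.pull iY M i n).hom ((T.push iY.hom M i n i n hi hn).hom γ) = γ := by
  haveI : Mono iY.hom := inferInstance
  have hpb : IsPullback (𝟙 Y : Y ⟶ Y).hom (𝟙 Y.scheme) iY.hom iY.hom :=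
    IsKernelPair.id_of_mono iY.hom
  have h0 : relCodim Y.scheme Y.scheme = 0 := by unfold relCodim; ring
  have := T.push_pull iY.hom (𝟙 Y.scheme) iY (𝟙 Y) hpb M i n i n hi hn
    (by rw [h0]; ring) (by rw [h0]; ring)
  have h2 := congrArg (fun t => t.hom γ) this
  simp only [ModuleCat.hom_comp, LinearMap.comp_apply] at h2
  refine h2.trans ?_
  rw [T.push_id]
  exact pull_id_apply T Y M i n γ

/-- pull then push along an isomorphism is the identity -/
theorem pull_push_iso (T : PreTheory V R A) {Y W : Obj V} (e : Y ⟶ W) (e' : W ⟶ Y)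
    (h₂ : e' ≫ e = 𝟙 W) [IsProper e.hom]
    (M : A.Cat) (i n : ℤ)
    (hi : i = i + 2 * relCodim Y.scheme W.scheme) (hn : n = n + relCodim Y.scheme W.scheme)
    (δ : T.gp W M i n) :
    (T.push e.hom M i n i n hi hn).hom ((T.pull e M i n).hom δ) = δ := by
  have hinj : Function.Injective (T.pull e M i n).hom := by
    apply Function.LeftInverse.injective (g := (T.pull e' M i n).hom)
    intro x
    rw [pull_comp_apply' T e' e (𝟙 W) h₂ M i n x]
    exact pull_id_apply T W M i n x
  apply hinj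
  exact push_pull_self' T e M i n hi hn _

theorem pull_eq_zero_of_le_of_le (T : PreTheory V R A) (Z : Obj V) {O₁ O : Z.scheme.Opens}
    (h₁ : O₁ ≤ O) (h₂ : O ≤ O₁)
    (hd : WeilCoh.dim (O₁ : Scheme.{u}) = WeilCoh.dim (O : Scheme.{u})) (M : A.Cat) (i n : ℤ)
    (δ : T.gp (Z.res O) M i n) (hz : (T.pull (Z.resLE h₁ hd) M i n).hom δ = 0) : δ = 0 := by
  have h := pull_comp_apply' T (Z.resLE h₂ hd.symm) (Z.resLE h₁ hd) (𝟙 (Z.res O))
    ((resLE_comp Z h₂ h₁ _ _).trans (BMCoh.Hom.ext (Scheme.homOfLE_rfl _ _))) M i n δ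
  rw [hz, map_zero, pull_id_apply] at h
  exact h.symm

end opensdecomp

section pieces
variable {V : ObjectProperty Scheme.{u}} [IsConstructible V] {R : Type u} [CommRing R]
  {A : Coefs R}

/-- the piece of an open on the component of `η` -/
abbrev piece (Z : Obj V) (O : Z.scheme.Opens) (η : Z.scheme) : Z.scheme.Opens :=
  O ⊓ pureOpen Z η

/-- the part of an open away from the component of `η` -/
abbrev rest (Z : Obj V) (O : Z.scheme.Opens) (η : Z.scheme) : Z.scheme.Opens :=
  O ⊓ complCl Z η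

theorem mem_rest (Z : Obj V) (O : Z.scheme.Opens) (η y : Z.scheme) :
    y ∈ rest Z O η ↔ y ∈ O ∧ y ∉ closure ({η} : Set Z.scheme) := Iff.rfl

theorem piece_set (Z : Obj V) (O : Z.scheme.Opens) (hO : O ≤ pureLocus Z) (η : Z.scheme)
    (hη : WeilCoh.codim Z.scheme η = 0) :
    (piece Z O η : Set Z.scheme) = (O : Set Z.scheme) ∩ (rest Z O η : Set Z.scheme)ᶜ := by
  ext y
  constructor
  · rintro ⟨hyO, hyp⟩
    refine ⟨hyO, ?_⟩
    intro hyr
    exact ((mem_rest Z O η y).1 hyr).2 (pureOpen_subset_closure Z η hη y hyp)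
  · rintro ⟨hyO, hyr⟩
    refine ⟨hyO, ?_⟩
    apply (mem_pureOpen_iff_mem_closure Z η hη y (hO hyO)).2
    by_contra hycl
    exact hyr ((mem_rest Z O η y).2 ⟨hyO, hycl⟩)

theorem dim_piece (Z : Obj V) (O : Z.scheme.Opens) (η : Z.scheme)
    (hη : WeilCoh.codim Z.scheme η = 0) (hηO : η ∈ O) :
    WeilCoh.dim (piece Z O η : Scheme.{u}) = WeilCoh.dim Z.scheme :=
  dim_eq_of_mem_codim_zero Z _ η hη ⟨hηO, self_mem_pureOpen Z η⟩

theorem piece_le_rest (Z : Obj V) (O : Z.scheme.Opens) (η η' : Z.scheme)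
    (hη : WeilCoh.codim Z.scheme η = 0) (hη' : WeilCoh.codim Z.scheme η' = 0) (hne : η ≠ η') :
    piece Z O η' ≤ rest Z O η := by
  intro y hy
  exact ⟨hy.1, pureOpen_disjoint_closure Z η' η hη' hη (fun h => hne h.symm) y hy.2⟩

/-- the inclusion of a piece, as a morphism of objects -/
noncomputable def pieceHom (Z : Obj V) (O : Z.scheme.Opens) (_hO : O ≤ pureLocus Z) (η : Z.scheme)
    (hη : WeilCoh.codim Z.scheme η = 0) (hηO : η ∈ O)
    (hdO : WeilCoh.dim (O : Scheme.{u}) = WeilCoh.dim Z.scheme) :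
    Z.res (piece Z O η) ⟶ Z.res O :=
  Z.resLE inf_le_left ((dim_piece Z O η hη hηO).trans hdO.symm)

instance isClosedImmersion_pieceHom (Z : Obj V) (O : Z.scheme.Opens) (hO : O ≤ pureLocus Z)
    (η : Z.scheme) (hη : WeilCoh.codim Z.scheme η = 0) (hηO : η ∈ O)
    (hdO : WeilCoh.dim (O : Scheme.{u}) = WeilCoh.dim Z.scheme) :
    IsClosedImmersion (pieceHom Z O hO η hη hηO hdO).hom :=
  isClosedImmersion_homOfLE Z.scheme inf_le_left (rest Z O η) (piece_set Z O hO η hη)

theorem hi_of_hom {X W : Obj V} (f : X ⟶ W) (i : ℤ) :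
    i = i + 2 * relCodim X.scheme W.scheme := by
  rw [relCodim_eq_zero' f]; ring

theorem hn_of_hom {X W : Obj V} (f : X ⟶ W) (n : ℤ) :
    n = n + relCodim X.scheme W.scheme := by
  rw [relCodim_eq_zero' f]; ring

theorem gp_eq_zero_of_no_codim_zero (T : PreTheory V R A) (Z : Obj V) (O : Z.scheme.Opens)
    (hO : O ≤ pureLocus Z) (hno : ∀ η : Z.scheme, WeilCoh.codim Z.scheme η = 0 → η ∉ O)
    (M : A.Cat) (i n : ℤ) (δ : T.gp (Z.res O) M i n) : δ = 0 := by
  haveI : IsEmpty (Z.res O).scheme := ⟨fun p => eq_bot_of_no_codim_zero Z O hO hno p.1 p.2⟩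
  haveI := ModuleCat.subsingleton_of_isZero (isZero_of_isEmpty T (Z.res O) M i n)
  exact Subsingleton.elim _ _

/-- a class on an open of the pure locus vanishing on all pieces vanishes -/
theorem joint_inj (T : PreTheory V R A) (Z : Obj V) (M : A.Cat) (n : ℤ) :
    ∀ (k : ℕ) (i : ℤ) (O : Z.scheme.Opens)
      (hdO : WeilCoh.dim (O : Scheme.{u}) = WeilCoh.dim Z.scheme) (hO : O ≤ pureLocus Z),
      Set.ncard {η : Z.scheme | WeilCoh.codim Z.scheme η = 0 ∧ η ∈ O} ≤ k →
      ∀ δ : T.gp (Z.res O) M i n,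
        (∀ (η : Z.scheme) (hη : WeilCoh.codim Z.scheme η = 0) (hηO : η ∈ O),
          (T.pull (pieceHom Z O hO η hη hηO hdO) M i n).hom δ = 0) → δ = 0 := by
  intro k
  induction k with
  | zero =>
    intro i O hdO hO hcard δ hδ
    have hfin : {η : Z.scheme | WeilCoh.codim Z.scheme η = 0 ∧ η ∈ O}.Finite :=
      (finite_codim_zero Z).subset (fun η h => h.1)
    have hempty := (Set.ncard_eq_zero hfin).1 (Nat.le_zero.1 hcard)
    refine gp_eq_zero_of_no_codim_zero T Z O hO ?_ M i n δ
    intro η hη hηO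
    have : η ∈ ({η : Z.scheme | WeilCoh.codim Z.scheme η = 0 ∧ η ∈ O} : Set Z.scheme) :=
      ⟨hη, hηO⟩
    rw [hempty] at this
    exact this
  | succ k ih =>
    intro i O hdO hO hcard δ hδ
    by_cases hE : ∃ η : Z.scheme, WeilCoh.codim Z.scheme η = 0 ∧ η ∈ O
    swap
    · push_neg at hE
      exact gp_eq_zero_of_no_codim_zero T Z O hO (fun η hη hηO => hE η hη hηO) M i n δ
    obtain ⟨η, hη, hηO⟩ := hE
    have hδη := hδ η hη hηO
    by_cases hE' : ∃ η' : Z.scheme, WeilCoh.codim Z.scheme η' = 0 ∧ η' ∈ rest Z O η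
    · obtain ⟨η', hη', hη'O'⟩ := hE'
      obtain ⟨i0, rfl⟩ : ∃ i0, i = i0 + 1 := ⟨i - 1, by ring⟩
      have hdO' : WeilCoh.dim (rest Z O η : Scheme.{u}) = WeilCoh.dim Z.scheme :=
        dim_eq_of_mem_codim_zero Z _ η' hη' hη'O'
      have hfin : {η : Z.scheme | WeilCoh.codim Z.scheme η = 0 ∧ η ∈ O}.Finite :=
        (finite_codim_zero Z).subset (fun η h => h.1)
      have hsub : {η'' : Z.scheme | WeilCoh.codim Z.scheme η'' = 0 ∧ η'' ∈ rest Z O η} ⊂
          {η'' : Z.scheme | WeilCoh.codim Z.scheme η'' = 0 ∧ η'' ∈ O} := by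
        constructor
        · intro η'' h
          exact ⟨h.1, h.2.1⟩
        · intro hcon
          have h1 := hcon ⟨hη, hηO⟩
          exact ((mem_rest Z O η η).1 h1.2).2 (subset_closure rfl)
      have hlt := Set.ncard_lt_ncard hsub hfin
      have hrestO : rest Z O η ≤ O := inf_le_left
      have hδ' : (T.pull (Z.resLE hrestO (hdO'.trans hdO.symm)) M (i0 + 1) n).hom δ = 0 := by
        apply ih (i0 + 1) (rest Z O η) hdO' (hrestO.trans hO) (by omega)
        intro η'' hη'' hη''O'
        have hη''O : η'' ∈ O := hη''O'.1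
        have hle1 : piece Z (rest Z O η) η'' ≤ O := inf_le_left.trans hrestO
        have hle2 : piece Z (rest Z O η) η'' ≤ piece Z O η'' := fun y hy => ⟨hy.1.1, hy.2⟩
        have hd1 : WeilCoh.dim (piece Z (rest Z O η) η'' : Scheme.{u}) =
            WeilCoh.dim (O : Scheme.{u}) :=
          (dim_piece Z (rest Z O η) η'' hη'' hη''O').trans hdO.symm
        have e1 := pull_comp_apply' T
          (pieceHom Z (rest Z O η) (hrestO.trans hO) η'' hη'' hη''O' hdO')
          (Z.resLE hrestO (hdO'.trans hdO.symm)) (Z.resLE hle1 hd1)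
          (resLE_comp Z _ _ _ _) M (i0 + 1) n δ
        have e2 := pull_comp_apply' T
          (Z.resLE hle2 ((dim_piece Z (rest Z O η) η'' hη'' hη''O').trans
            (dim_piece Z O η'' hη'' hη''O).symm))
          (pieceHom Z O hO η'' hη'' hη''O hdO) (Z.resLE hle1 hd1)
          (resLE_comp Z _ _ _ _) M (i0 + 1) n δ
        rw [e1, ← e2, hδ η'' hη'' hη''O, map_zero]
      have hrc : relCodim (Z.res (piece Z O η)).scheme (Z.res O).scheme = 0 :=
        relCodim_eq_zero' (pieceHom Z O hO η hη hηO hdO)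
      have hex := T.exact_push_pull (decompOpens Z O (piece Z O η) (rest Z O η) inf_le_left
        hrestO (piece_set Z O hO η hη) (hdO'.trans hdO.symm)) M i0 n (i0 + 1) n
        (by rw [hrc]; ring) (by rw [hrc]; ring)
      obtain ⟨γ, hγ⟩ := (hex δ).1 hδ'
      have hs := push_pull_self' T (pieceHom Z O hO η hη hηO hdO) M (i0 + 1) n
        (by rw [hrc]; ring) (by rw [hrc]; ring) γ
      have hγ0 : γ = 0 := by
        rw [← hs]
        refine Eq.trans (congrArg _ ?_) hδη
        exact hγ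
      rw [← hγ, hγ0, map_zero]
    · push_neg at hE'
      have hle : O ≤ piece Z O η := by
        intro y hy
        refine ⟨hy, ?_⟩
        by_contra hyp
        have hycl : y ∉ closure ({η} : Set Z.scheme) := fun h =>
          hyp ((mem_pureOpen_iff_mem_closure Z η hη y (hO hy)).2 h)
        exact eq_bot_of_no_codim_zero Z (rest Z O η) (inf_le_left.trans hO)
          (fun η' hη' h => hE' η' hη' h) y ⟨hy, hycl⟩
      exact pull_eq_zero_of_le_of_le T Z inf_le_left hle _ M i n δ hδη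

/-- push-forward from one piece restricts to zero on another piece -/
theorem pull_push_piece_ne (T : PreTheory V R A) (Z : Obj V) (M : A.Cat) (i n : ℤ)
    (O : Z.scheme.Opens) (hdO : WeilCoh.dim (O : Scheme.{u}) = WeilCoh.dim Z.scheme)
    (hO : O ≤ pureLocus Z) (η η' : Z.scheme) (hη : WeilCoh.codim Z.scheme η = 0)
    (hη' : WeilCoh.codim Z.scheme η' = 0) (hηO : η ∈ O) (hη'O : η' ∈ O) (hne : η ≠ η')
    (hi : i = i + 2 * relCodim (Z.res (piece Z O η)).scheme (Z.res O).scheme)
    (hn : n = n + relCodim (Z.res (piece Z O η)).scheme (Z.res O).scheme)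
    (γ : T.gp (Z.res (piece Z O η)) M i n) :
    (T.pull (pieceHom Z O hO η' hη' hη'O hdO) M i n).hom
      ((T.push (pieceHom Z O hO η hη hηO hdO).hom M i n i n hi hn).hom γ) = 0 := by
  obtain ⟨i0, rfl⟩ : ∃ i0, i = i0 + 1 := ⟨i - 1, by ring⟩
  have hη'r : η' ∈ rest Z O η :=
    ⟨hη'O, fun h => hne (eq_of_codim_zero_of_mem_closure Z η' η hη' h).symm⟩
  have hdO' : WeilCoh.dim (rest Z O η : Scheme.{u}) = WeilCoh.dim Z.scheme :=
    dim_eq_of_mem_codim_zero Z _ η' hη' hη'r
  have hrestO : rest Z O η ≤ O := inf_le_left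
  have hex := T.exact_push_pull (decompOpens Z O (piece Z O η) (rest Z O η) inf_le_left
    hrestO (piece_set Z O hO η hη) (hdO'.trans hdO.symm)) M i0 n (i0 + 1) n hi hn
  have hz : (T.pull (Z.resLE hrestO (hdO'.trans hdO.symm)) M (i0 + 1) n).hom
      ((T.push (pieceHom Z O hO η hη hηO hdO).hom M (i0 + 1) n (i0 + 1) n hi hn).hom γ) = 0 :=
    (hex _).2 ⟨γ, rfl⟩
  have e := pull_comp_apply' T
    (Z.resLE (piece_le_rest Z O η η' hη hη' hne)
      ((dim_piece Z O η' hη' hη'O).trans hdO'.symm))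
    (Z.resLE hrestO (hdO'.trans hdO.symm)) (pieceHom Z O hO η' hη' hη'O hdO)
    (resLE_comp Z _ _ _ _) M (i0 + 1) n
    ((T.push (pieceHom Z O hO η hη hηO hdO).hom M (i0 + 1) n (i0 + 1) n hi hn).hom γ)
  rw [← e, hz, map_zero]

end pieces

section additivity
variable {V : ObjectProperty Scheme.{u}} [IsConstructible V] {R : Type u} [CommRing R]
  {A : Coefs R}

/-- the component of a class along the piece of `η` (zero unless `η` is a point of codimension 0
of the open) -/
noncomputable def pieceTerm (T : PreTheory V R A) (Z : Obj V) (M : A.Cat) (i n : ℤ)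
    (O : Z.scheme.Opens) (hdO : WeilCoh.dim (O : Scheme.{u}) = WeilCoh.dim Z.scheme)
    (hO : O ≤ pureLocus Z) (ρ : T.gp (Z.res O) M i n) (η : Z.scheme) : T.gp (Z.res O) M i n := by
  classical
  exact if h : WeilCoh.codim Z.scheme η = 0 ∧ η ∈ O then
    (T.push (pieceHom Z O hO η h.1 h.2 hdO).hom M i n i n
      (hi_of_hom (pieceHom Z O hO η h.1 h.2 hdO) i)
      (hn_of_hom (pieceHom Z O hO η h.1 h.2 hdO) n)).hom
      ((T.pull (pieceHom Z O hO η h.1 h.2 hdO) M i n).hom ρ)
  else 0

theorem pieceTerm_pos (T : PreTheory V R A) (Z : Obj V) (M : A.Cat) (i n : ℤ)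
    (O : Z.scheme.Opens) (hdO : WeilCoh.dim (O : Scheme.{u}) = WeilCoh.dim Z.scheme)
    (hO : O ≤ pureLocus Z) (ρ : T.gp (Z.res O) M i n) (η : Z.scheme)
    (hη : WeilCoh.codim Z.scheme η = 0) (hηO : η ∈ O) :
    pieceTerm T Z M i n O hdO hO ρ η =
      (T.push (pieceHom Z O hO η hη hηO hdO).hom M i n i n
        (hi_of_hom (pieceHom Z O hO η hη hηO hdO) i)
        (hn_of_hom (pieceHom Z O hO η hη hηO hdO) n)).hom
        ((T.pull (pieceHom Z O hO η hη hηO hdO) M i n).hom ρ) := by
  unfold pieceTerm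
  exact dif_pos ⟨hη, hηO⟩

/-- additivity: a class on an open of the pure locus is the sum of its components -/
theorem additivity (T : PreTheory V R A) (Z : Obj V) (M : A.Cat) (i n : ℤ)
    (O : Z.scheme.Opens) (hdO : WeilCoh.dim (O : Scheme.{u}) = WeilCoh.dim Z.scheme)
    (hO : O ≤ pureLocus Z) (ρ : T.gp (Z.res O) M i n)
    (hfin : {η : Z.scheme | WeilCoh.codim Z.scheme η = 0 ∧ η ∈ O}.Finite) :
    ρ = ∑ η ∈ hfin.toFinset, pieceTerm T Z M i n O hdO hO ρ η := by
  rw [← sub_eq_zero]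
  refine joint_inj T Z M n _ i O hdO hO le_rfl _ ?_
  intro η₀ hη₀ hη₀O
  rw [map_sub, map_sum, sub_eq_zero]
  have hmem : η₀ ∈ hfin.toFinset := (Set.Finite.mem_toFinset hfin).2 ⟨hη₀, hη₀O⟩
  rw [Finset.sum_eq_single η₀]
  · rw [pieceTerm_pos T Z M i n O hdO hO ρ η₀ hη₀ hη₀O]
    exact (push_pull_self' T (pieceHom Z O hO η₀ hη₀ hη₀O hdO) M i n _ _ _).symm
  · intro η hη hne
    obtain ⟨hη1, hη2⟩ := (Set.Finite.mem_toFinset hfin).1 hη
    rw [pieceTerm_pos T Z M i n O hdO hO ρ η hη1 hη2]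
    exact pull_push_piece_ne T Z M i n O hdO hO η η₀ hη1 hη₀ hη2 hη₀O hne _ _ _
  · intro h
    exact absurd hmem h

end additivity

end Groth.Agent.Helper17.BM
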