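import Mathlib
import Groth.Prelude.Def_W4bk5brsh7111920

/-!
Helper17: connectedness dimension of Noetherian topological spaces.
-/

namespace Groth.Agent.Helper17.CD

open TopologicalSpace Set

universe u

variable {T : Type u} [TopologicalSpace T]

theorem dim_mono {S S' : Set T} (h : S ⊆ S') :
    topologicalKrullDim ↥S ≤ topologicalKrullDim ↥S' :=
  (Topology.IsEmbedding.inclusion h).isInducing.topologicalKrullDim_le

theorem connDim_le_of {Z : Set T} (hZ : IsClosed Z) (hn : ¬ IsConnected Zᶜ) :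
    LocCoh.connDim T ≤ topologicalKrullDim ↥Z :=
  iInf_le_of_le Z (iInf_le _ ⟨hZ, hn⟩)

theorem not_isConnected_compl_inter {S₁ S₂ : Set T} (h₁ : IsClosed S₁) (h₂ : IsClosed S₂)
    (hU : S₁ ∪ S₂ = univ) (hn₁ : S₁ ≠ univ) (hn₂ : S₂ ≠ univ) :
    ¬ IsConnected (S₁ ∩ S₂)ᶜ := by
  rintro ⟨_, hpre⟩
  have hu : IsOpen S₂ᶜ := h₂.isOpen_compl
  have hv : IsOpen S₁ᶜ := h₁.isOpen_compl
  obtain ⟨x, hx⟩ : (S₂ᶜ).Nonempty := Set.nonempty_compl.2 hn₂
  obtain ⟨y, hy⟩ : (S₁ᶜ).Nonempty := Set.nonempty_compl.2 hn₁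
  have hsub : (S₁ ∩ S₂)ᶜ ⊆ S₂ᶜ ∪ S₁ᶜ := by
    rw [Set.compl_inter, Set.union_comm]
  have h1 : ((S₁ ∩ S₂)ᶜ ∩ S₂ᶜ).Nonempty := ⟨x, fun h => hx h.2, hx⟩
  have h2 : ((S₁ ∩ S₂)ᶜ ∩ S₁ᶜ).Nonempty := ⟨y, fun h => hy h.1, hy⟩
  obtain ⟨z, _, hz2, hz1⟩ := hpre _ _ hu hv hsub h1 h2
  have hz : z ∈ S₁ ∪ S₂ := hU ▸ Set.mem_univ z
  rcases hz with h | h
  · exact hz1 h
  · exact hz2 h

section Noeth

variable [NoetherianSpace T]

theorem isClosed_sUnion_of_subset {A : Set (Set T)} (hA : A ⊆ irreducibleComponents T) :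
    IsClosed (⋃₀ A) := by
  rw [Set.sUnion_eq_biUnion]
  exact (NoetherianSpace.finite_irreducibleComponents.subset hA).isClosed_biUnion
    (fun W hW => isClosed_of_mem_irreducibleComponents W (hA hW))

/-- the connectedness dimension is at most the dimension of any irreducible component; more
precisely at most the dimension of its intersection with the union of the others when it is not
the whole space. -/
theorem connDim_le_inter {W : Set T} (hW : W ∈ irreducibleComponents T) (hne : W ≠ univ) :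
    LocCoh.connDim T ≤ topologicalKrullDim ↥(W ∩ ⋃₀ (irreducibleComponents T \ {W})) := by
  have hWc : IsClosed W := isClosed_of_mem_irreducibleComponents W hW
  have hSc : IsClosed (⋃₀ (irreducibleComponents T \ {W})) :=
    isClosed_sUnion_of_subset Set.sdiff_subset
  have hU : W ∪ ⋃₀ (irreducibleComponents T \ {W}) = univ := by
    rw [← Set.sUnion_singleton W, ← Set.sUnion_union, Set.sUnion_singleton,
      Set.union_sdiff_cancel (Set.singleton_subset_iff.2 hW), sUnion_irreducibleComponents]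
  have hS : ⋃₀ (irreducibleComponents T \ {W}) ≠ univ := by
    intro h
    have h1 := mem_of_subset_sUnion_irreducibleComponents W hW _
      (NoetherianSpace.finite_irreducibleComponents.subset Set.sdiff_subset) Set.sdiff_subset
      (h ▸ Set.subset_univ W)
    exact h1.2 rfl
  exact connDim_le_of (hWc.inter hSc) (not_isConnected_compl_inter hWc hSc hU hne hS)

theorem connDim_le_component {W : Set T} (hW : W ∈ irreducibleComponents T) :
    LocCoh.connDim T ≤ topologicalKrullDim ↥W := by
  by_cases hne : W = univ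
  · subst hne
    refine connDim_le_of isClosed_univ ?_
    rw [Set.compl_univ]
    exact fun h => h.nonempty.ne_empty rfl
  · exact (connDim_le_inter hW hne).trans (dim_mono Set.inter_subset_left)

end Noeth

end Groth.Agent.Helper17.CD
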