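import Groth.Prelude.Def_W4bk5brsh16IT
import Mathlib

/-!
# Helper17: explicit description of the ideal transform `D_I(M) = colim_n Hom(I^n, M)`
(`LocCoh.DT`, `LocCoh.idealTransform`, `LocCoh.toDT` of `Def_W4bk5brsh16IT`).

* `cls I M n f` : the class of `f : I^n →ₗ M` in `D_I(M)` (linear in `f`);
* `cls_surjective` : every element is a class;
* `cls_restrict` : restricting `f` to `I^m` (`n ≤ m`) does not change the class;
* `cls_eq_zero_iff` : a class vanishes iff some restriction vanishes;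
* `map_cls`, `toDT_eq_cls`, `smul_cls_of_mem`.
-/

set_option autoImplicit false
universe u
open CategoryTheory CategoryTheory.Limits Opposite
open LocCoh

namespace Groth.Agent.Helper17

variable {R : Type u} [CommRing R]

/-- The class in `D_I(M)` of a linear map `f : I^n → M`. -/
noncomputable def cls (I : Ideal R) (M : Type u) [AddCommGroup M] [Module R M] (n : ℕ) :
    (↥(I ^ n) →ₗ[R] M) →ₗ[R] LocCoh.DT I M :=
  ((colimit.ι (transformDiagram I) (op (op n))).app (ModuleCat.of R M)).hom ∘ₗ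
    (ModuleCat.homLinearEquiv (S := R) (M := ModuleCat.of R ↥(I ^ n)) (N := ModuleCat.of R M)).symm.toLinearMap

instance : PreservesFilteredColimitsOfSize.{0, 0} (forget (ModuleCat.{u} R)) :=
  preservesSmallestFilteredColimits_of_preservesFilteredColimits _

instance (I : Ideal R) (X : ModuleCat.{u} R) :
    PreservesColimit (transformDiagram I ⋙ (evaluation _ _).obj X) (forget (ModuleCat.{u} R)) := inferInstance

/-- inclusion `I^m → I^n` for `n ≤ m`. -/
def incl (I : Ideal R) {n m : ℕ} (h : n ≤ m) : ↥(I ^ m) →ₗ[R] ↥(I ^ n) :=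
  Submodule.inclusion (Ideal.pow_le_pow_right h)

@[simp] theorem incl_apply_coe (I : Ideal R) {n m : ℕ} (h : n ≤ m) (x : ↥(I ^ m)) :
    ((incl I h x : ↥(I ^ n)) : R) = (x : R) := rfl

theorem transformDiagram_map_apply (I : Ideal R) (X : ModuleCat.{u} R) {n m : ℕ} (h : n ≤ m)
    (y : ModuleCat.of R ↥(I ^ n) ⟶ X) :
    (((transformDiagram I).map (homOfLE h).op.op).app X).hom y = ModuleCat.ofHom (incl I h) ≫ y := by
  rfl

theorem cls_surjective (I : Ideal R) (M : Type u) [AddCommGroup M] [Module R M] (x : LocCoh.DT I M) :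
    ∃ (n : ℕ) (f : ↥(I ^ n) →ₗ[R] M), cls I M n f = x := by
  let X := ModuleCat.of R M
  let D := transformDiagram I
  let e := colimitObjIsoColimitCompEvaluation D X
  obtain ⟨j, y, hy⟩ := Concrete.colimit_exists_rep (D ⋙ (evaluation _ _).obj X) (e.hom.hom x)
  refine ⟨j.unop.unop, ModuleCat.homLinearEquiv (S := R) y, ?_⟩
  have h1 : (colimit.ι D j).app X = colimit.ι (D ⋙ (evaluation _ _).obj X) j ≫ e.inv :=
    (colimitObjIsoColimitCompEvaluation_ι_inv D j X).symm
  change ((colimit.ι D j).app X).hom ((ModuleCat.homLinearEquiv (S := R)).symm (ModuleCat.homLinearEquiv (S := R) y)) = x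
  rw [LinearEquiv.symm_apply_apply, h1]
  change e.inv.hom ((colimit.ι (D ⋙ (evaluation _ _).obj X) j).hom y) = x
  have hy' : (colimit.ι (D ⋙ (evaluation _ _).obj X) j).hom y = e.hom.hom x := hy
  rw [hy']
  change (e.hom ≫ e.inv).hom x = x
  rw [Iso.hom_inv_id]
  rfl

theorem cls_restrict (I : Ideal R) (M : Type u) [AddCommGroup M] [Module R M] {n m : ℕ} (h : n ≤ m)
    (f : ↥(I ^ n) →ₗ[R] M) : cls I M m (f ∘ₗ incl I h) = cls I M n f := by
  have hw := colimit.w (transformDiagram I) ((homOfLE h).op.op)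
  have hw' := congrArg (fun t => (t.app (ModuleCat.of R M)).hom
    ((ModuleCat.homLinearEquiv (S := R)).symm f)) hw
  simp only [NatTrans.comp_app, ModuleCat.hom_comp, LinearMap.comp_apply] at hw'
  rw [transformDiagram_map_apply] at hw'
  exact hw'

theorem exists_restrict_eq_zero_of_cls_eq_zero (I : Ideal R) (M : Type u) [AddCommGroup M] [Module R M] {n : ℕ}
    (f : ↥(I ^ n) →ₗ[R] M) (hf : cls I M n f = 0) : ∃ (m : ℕ) (h : n ≤ m), f ∘ₗ incl I h = 0 := by
  let X := ModuleCat.of R M
  let D := transformDiagram I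
  let e := colimitObjIsoColimitCompEvaluation D X
  let j : ℕᵒᵖᵒᵖ := op (op n)
  let y : ToType ((D ⋙ (evaluation _ _).obj X).obj j) := (ModuleCat.homLinearEquiv (S := R)).symm f
  have h1 : (colimit.ι D j).app X = colimit.ι (D ⋙ (evaluation _ _).obj X) j ≫ e.inv :=
    (colimitObjIsoColimitCompEvaluation_ι_inv D j X).symm
  have h2 : (colimit.ι (D ⋙ (evaluation _ _).obj X) j).hom y =
      (colimit.ι (D ⋙ (evaluation _ _).obj X) j).hom 0 := by
    rw [map_zero]
    have : e.inv.hom ((colimit.ι (D ⋙ (evaluation _ _).obj X) j).hom y) = 0 := by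
      have hf' : ((colimit.ι D j).app X).hom y = 0 := hf
      rw [h1] at hf'
      exact hf'
    have inj : Function.Injective e.inv.hom := by
      intro a b hab
      have := congrArg e.hom.hom hab
      change (e.inv ≫ e.hom).hom a = (e.inv ≫ e.hom).hom b at this
      rw [Iso.inv_hom_id] at this
      exact this
    exact inj (by rw [this, map_zero])
  obtain ⟨k, φ, ψ, hk⟩ := (Concrete.colimit_rep_eq_iff_exists (D ⋙ (evaluation _ _).obj X) y 0).mp h2
  have hle : n ≤ k.unop.unop := leOfHom φ.unop.unop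
  refine ⟨k.unop.unop, hle, ?_⟩
  have hφ : φ = (homOfLE hle).op.op := Subsingleton.elim _ _
  have hk' : ((D.map φ).app X).hom y = ((D.map ψ).app X).hom 0 := hk
  rw [map_zero, hφ, transformDiagram_map_apply] at hk'
  have h3 := congrArg (fun g => ModuleCat.Hom.hom g) hk'
  exact h3

theorem cls_eq_zero_iff (I : Ideal R) (M : Type u) [AddCommGroup M] [Module R M] {n : ℕ}
    (f : ↥(I ^ n) →ₗ[R] M) : cls I M n f = 0 ↔ ∃ (m : ℕ) (h : n ≤ m), f ∘ₗ incl I h = 0 := by
  constructor
  · exact exists_restrict_eq_zero_of_cls_eq_zero I M f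
  · rintro ⟨m, h, hm⟩
    rw [← cls_restrict I M h f, hm, map_zero]

/-- Two classes can be brought to a common index. -/
theorem cls_eq_cls_iff (I : Ideal R) (M : Type u) [AddCommGroup M] [Module R M] {n n' : ℕ}
    (f : ↥(I ^ n) →ₗ[R] M) (f' : ↥(I ^ n') →ₗ[R] M) :
    cls I M n f = cls I M n' f' ↔
      ∃ (m : ℕ) (h : n ≤ m) (h' : n' ≤ m), f ∘ₗ incl I h = f' ∘ₗ incl I h' := by
  constructor
  · intro hff
    have h1 : cls I M (max n n') (f ∘ₗ incl I (le_max_left n n') - f' ∘ₗ incl I (le_max_right n n')) = 0 := by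
      rw [map_sub, cls_restrict, cls_restrict, hff, sub_self]
    obtain ⟨m, h, hm⟩ := exists_restrict_eq_zero_of_cls_eq_zero I M _ h1
    refine ⟨m, (le_max_left n n').trans h, (le_max_right n n').trans h, ?_⟩
    rw [LinearMap.sub_comp, sub_eq_zero] at hm
    exact hm
  · rintro ⟨m, h, h', hm⟩
    rw [← cls_restrict I M h f, ← cls_restrict I M h' f', hm]

theorem map_cls (I : Ideal R) {M N : Type u} [AddCommGroup M] [Module R M] [AddCommGroup N] [Module R N]
    (g : M →ₗ[R] N) {n : ℕ} (f : ↥(I ^ n) →ₗ[R] M) :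
    ((LocCoh.idealTransform I).map (ModuleCat.ofHom g)).hom (cls I M n f) = cls I N n (g ∘ₗ f) := by
  have hnat := (colimit.ι (transformDiagram I) (op (op n))).naturality (ModuleCat.ofHom g)
  have h := congrArg (fun t => t.hom ((ModuleCat.homLinearEquiv (S := R)).symm f)) hnat
  simp only [ModuleCat.hom_comp, LinearMap.comp_apply] at h
  exact h.symm

theorem toDT_eq_cls_zero (I : Ideal R) (M : Type u) [AddCommGroup M] [Module R M] (x : M) :
    LocCoh.toDT I M x = cls I M 0 (LinearMap.toSpanSingleton R M x ∘ₗ (I ^ 0).subtype) := by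
  rfl

theorem toDT_eq_cls (I : Ideal R) (M : Type u) [AddCommGroup M] [Module R M] (x : M) (n : ℕ) :
    LocCoh.toDT I M x = cls I M n (LinearMap.toSpanSingleton R M x ∘ₗ (I ^ n).subtype) := by
  rw [toDT_eq_cls_zero, ← cls_restrict I M (Nat.zero_le n)]
  rfl

theorem smul_cls_of_mem (I : Ideal R) (M : Type u) [AddCommGroup M] [Module R M] {n : ℕ}
    (f : ↥(I ^ n) →ₗ[R] M) (a : R) (ha : a ∈ I ^ n) :
    a • cls I M n f = LocCoh.toDT I M (f ⟨a, ha⟩) := by
  rw [toDT_eq_cls I M _ n, ← map_smul]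
  congr 1
  ext y
  simp only [LinearMap.smul_apply, LinearMap.comp_apply, Submodule.subtype_apply,
    LinearMap.toSpanSingleton_apply]
  rw [← map_smul, ← map_smul]
  congr 1
  ext
  simp [mul_comm]

end Groth.Agent.Helper17
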