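import Groth.Agent.Lib.Helper17.DT6

/-!
# Helper17: comparison maps of ideal transforms
-/

set_option autoImplicit false
universe u
open CategoryTheory CategoryTheory.Limits Opposite
open LocCoh

namespace Groth.Agent.Helper17

variable {R : Type u} [CommRing R]

def inclLE {I J : Ideal R} (h : I ≤ J) (n : ℕ) : ↥(I ^ n) →ₗ[R] ↥(J ^ n) :=
  Submodule.inclusion (Ideal.pow_right_mono h n)

@[simp] theorem inclLE_apply_coe {I J : Ideal R} (h : I ≤ J) (n : ℕ) (x : ↥(I ^ n)) :
    ((inclLE h n x : ↥(J ^ n)) : R) = (x : R) := rfl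

theorem DTmapOfLE_cls {I J : Ideal R} (h : I ≤ J) (M : Type u) [AddCommGroup M] [Module R M] (n : ℕ)
    (f : ↥(J ^ n) →ₗ[R] M) :
    ((LocCoh.DTmapOfLE h).app (ModuleCat.of R M)).hom (cls J M n f) = cls I M n (f ∘ₗ inclLE h n) := by
  have h1 := ι_colimMap (Functor.whiskerRight (NatTrans.op (Functor.whiskerRight (powLE h) idealModFunctor))
    (linearCoyoneda R (ModuleCat.{u} R))) (op (op n))
  have h2 := congrArg (fun t => (t.app (ModuleCat.of R M)).hom
    ((ModuleCat.homLinearEquiv (S := R)).symm f)) h1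
  exact h2

theorem toDT_DT_eq [IsNoetherianRing R] (I : Ideal R) (M : Type u) [AddCommGroup M] [Module R M] :
    LocCoh.toDT I (LocCoh.DT I M) = ((LocCoh.idealTransform I).map (ModuleCat.ofHom (LocCoh.toDT I M))).hom := by
  refine eq_of_comp_eq_of_coker_torsion I (LocCoh.toDT I M) (isPowerTorsion_coker_toDT I M) _ _ ?_
  ext x
  simp only [LinearMap.comp_apply]
  rw [map_toDT]

theorem toDT_DT_bijective [IsNoetherianRing R] (I : Ideal R) (M : Type u) [AddCommGroup M] [Module R M] :
    Function.Bijective (LocCoh.toDT I (LocCoh.DT I M)) := by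
  rw [toDT_DT_eq]
  exact map_toDT_bijective I M

end Groth.Agent.Helper17
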