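import Mathlib
import Groth.Agent.Lib.Helper26.ExtCechH0a

/-!
# helper17: functoriality of the mapping cocone
-/

open CategoryTheory Limits HomologicalComplex CochainComplex HomComplex

namespace Groth.Agent.Helper17.CE
open Groth.Agent.Helper26.ExtCechH0a

variable {C : Type*} [Category C] [Preadditive C] {K₁ L₁ K₂ L₂ : CochainComplex C ℤ}
  (φ₁ : K₁ ⟶ L₁) (φ₂ : K₂ ⟶ L₂) [HasHomotopyCofiber φ₁] [HasHomotopyCofiber φ₂]
  (a : K₁ ⟶ K₂) (b : L₁ ⟶ L₂) (comm : φ₁ ≫ b = a ≫ φ₂)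

/-- the map of mapping cocones induced by a commutative square -/
noncomputable def coconeMap : mappingCocone φ₁ ⟶ mappingCocone φ₂ :=
  mappingCocone.lift φ₂ (mappingCocone.fst φ₁ ≫ a)
    ((mappingCocone.snd φ₁).comp (Cochain.ofHom b) (add_zero (-1))) (by
      rw [δ_comp_ofHom, δ_snd, Category.assoc, ← comm]
      simp [Cochain.ofHom_comp])

@[reassoc]
theorem coconeMap_fst :
    coconeMap φ₁ φ₂ a b comm ≫ mappingCocone.fst φ₂ = mappingCocone.fst φ₁ ≫ a :=
  mappingCocone.lift_fst _ _ _ _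

@[reassoc]
theorem coconeMap_f_fst_f (p : ℤ) :
    (coconeMap φ₁ φ₂ a b comm).f p ≫ (mappingCocone.fst φ₂).f p =
      (mappingCocone.fst φ₁).f p ≫ a.f p := by
  have := congrArg (fun g => g.f p) (coconeMap_fst φ₁ φ₂ a b comm)
  simpa using this

@[reassoc]
theorem coconeMap_f_snd_v (p q : ℤ) (hpq : p + (-1) = q) :
    (coconeMap φ₁ φ₂ a b comm).f p ≫ (mappingCocone.snd φ₂).v p q hpq =
      (mappingCocone.snd φ₁).v p q hpq ≫ b.f q := by
  unfold coconeMap
  rw [mappingCocone.lift_f_snd_v]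
  simp

end Groth.Agent.Helper17.CE
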