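import Groth.Agent.Lib.Helper17.CE1

/-!
# helper17: degreewise short exact sequences of complexes of modules; mapping cocones
-/

open CategoryTheory Limits HomologicalComplex CochainComplex HomComplex
universe u

namespace Groth.Agent.Helper17.CE

variable {R : Type u} [CommRing R]

/-- degreewise short exact -/
structure DSE {A B C : CochainComplex (ModuleCat.{u} R) ℤ} (u : A ⟶ B) (v : B ⟶ C) : Prop where
  inj : ∀ n, Function.Injective (u.f n).hom
  surj : ∀ n, Function.Surjective (v.f n).hom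
  zero : ∀ n (x : A.X n), (v.f n).hom ((u.f n).hom x) = 0
  exact : ∀ n (y : B.X n), (v.f n).hom y = 0 → ∃ x : A.X n, (u.f n).hom x = y

theorem DSE.comp_eq_zero {A B C : CochainComplex (ModuleCat.{u} R) ℤ} {u : A ⟶ B} {v : B ⟶ C}
    (h : DSE u v) : u ≫ v = 0 := by
  ext n x
  exact h.zero n x

theorem DSE.shortExact {A B C : CochainComplex (ModuleCat.{u} R) ℤ} {u : A ⟶ B} {v : B ⟶ C}
    (h : DSE u v) : (ShortComplex.mk u v h.comp_eq_zero).ShortExact := by
  apply HomologicalComplex.shortExact_of_degreewise_shortExact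
  intro n
  refine { exact := ?_, mono_f := ?_, epi_g := ?_ }
  · rw [ShortComplex.moduleCat_exact_iff]
    intro y hy
    exact h.exact n y hy
  · rw [ModuleCat.mono_iff_injective]
    exact h.inj n
  · rw [ModuleCat.epi_iff_surjective]
    exact h.surj n

section cocone

variable {K L : CochainComplex (ModuleCat.{u} R) ℤ} (ψ : K ⟶ L)

theorem cocone_ext (n m : ℤ) (hnm : n + -1 = m) (z z' : (mappingCocone ψ).X n)
    (h1 : ((mappingCocone.fst ψ).f n).hom z = ((mappingCocone.fst ψ).f n).hom z')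
    (h2 : ((mappingCocone.snd ψ).v n m hnm).hom z = ((mappingCocone.snd ψ).v n m hnm).hom z') :
    z = z' := by
  have e1 := congrArg (fun g => g.hom z) (mappingCocone.id_X ψ n m hnm)
  have e2 := congrArg (fun g => g.hom z') (mappingCocone.id_X ψ n m hnm)
  simp only [ModuleCat.hom_add, ModuleCat.hom_comp, LinearMap.add_apply,
    LinearMap.comp_apply, ModuleCat.hom_id, LinearMap.id_apply] at e1 e2
  rw [← e1, ← e2, h1, h2]

theorem cocone_exists (n m : ℤ) (hnm : n + -1 = m) (k : K.X n) (l : L.X m) :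
    ∃ z : (mappingCocone ψ).X n, ((mappingCocone.fst ψ).f n).hom z = k ∧
      ((mappingCocone.snd ψ).v n m hnm).hom z = l := by
  have hmn : m + 1 = n := by omega
  refine ⟨((mappingCocone.inl ψ).v n n (add_zero n)).hom k +
    ((mappingCocone.inr ψ).1.v m n hmn).hom l, ?_, ?_⟩
  · have e1 := congrArg (fun g => g.hom k) (mappingCocone.inl_v_fst_f ψ n)
    have e2 := congrArg (fun g => g.hom l) (mappingCocone.inr_v_fst_f ψ m n hmn)
    simp only [ModuleCat.hom_comp, LinearMap.comp_apply, ModuleCat.hom_id, LinearMap.id_apply,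
      ModuleCat.hom_zero, LinearMap.zero_apply] at e1 e2
    rw [map_add, e1, e2, add_zero]
  · have e1 := congrArg (fun g => g.hom k) (mappingCocone.inl_v_snd_v ψ n m hnm)
    have e2 := congrArg (fun g => g.hom l) (mappingCocone.inr_v_snd_v ψ m n hmn)
    simp only [ModuleCat.hom_comp, LinearMap.comp_apply, ModuleCat.hom_id, LinearMap.id_apply,
      ModuleCat.hom_zero, LinearMap.zero_apply] at e1 e2
    rw [map_add, e1, e2, zero_add]

end cocone

section coconeDSE

variable {K₁ L₁ K₂ L₂ K₃ L₃ : CochainComplex (ModuleCat.{u} R) ℤ}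
  (φ₁ : K₁ ⟶ L₁) (φ₂ : K₂ ⟶ L₂) (φ₃ : K₃ ⟶ L₃)
  (a : K₁ ⟶ K₂) (b : L₁ ⟶ L₂) (comm : φ₁ ≫ b = a ≫ φ₂)
  (a' : K₂ ⟶ K₃) (b' : L₂ ⟶ L₃) (comm' : φ₂ ≫ b' = a' ≫ φ₃)

theorem fst_coconeMap_apply (n : ℤ) (z : (mappingCocone φ₁).X n) :
    ((mappingCocone.fst φ₂).f n).hom (((coconeMap φ₁ φ₂ a b comm).f n).hom z) =
      (a.f n).hom (((mappingCocone.fst φ₁).f n).hom z) :=
  congrArg (fun g => g.hom z) (coconeMap_f_fst_f φ₁ φ₂ a b comm n)

theorem snd_coconeMap_apply (n m : ℤ) (hnm : n + -1 = m) (z : (mappingCocone φ₁).X n) :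
    ((mappingCocone.snd φ₂).v n m hnm).hom (((coconeMap φ₁ φ₂ a b comm).f n).hom z) =
      (b.f m).hom (((mappingCocone.snd φ₁).v n m hnm).hom z) :=
  congrArg (fun g => g.hom z) (coconeMap_f_snd_v φ₁ φ₂ a b comm n m hnm)

theorem DSE.cocone (ha : DSE a a') (hb : DSE b b') :
    DSE (coconeMap φ₁ φ₂ a b comm) (coconeMap φ₂ φ₃ a' b' comm') where
  inj n := by
    rw [injective_iff_map_eq_zero]
    intro z hz
    have h1 := fst_coconeMap_apply φ₁ φ₂ a b comm n z
    have h2 := snd_coconeMap_apply φ₁ φ₂ a b comm n (n - 1) (by omega) z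
    rw [hz, map_zero] at h1 h2
    apply cocone_ext φ₁ n (n - 1) (by omega)
    · rw [map_zero]
      exact ha.inj n (by rw [← h1, map_zero])
    · rw [map_zero]
      exact hb.inj (n - 1) (by rw [← h2, map_zero])
  surj n := by
    intro w
    obtain ⟨k, hk⟩ := ha.surj n (((mappingCocone.fst φ₃).f n).hom w)
    obtain ⟨l, hl⟩ := hb.surj (n - 1) (((mappingCocone.snd φ₃).v n (n - 1) (by omega)).hom w)
    obtain ⟨z, hz1, hz2⟩ := cocone_exists φ₂ n (n - 1) (by omega) k l
    refine ⟨z, ?_⟩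
    apply cocone_ext φ₃ n (n - 1) (by omega)
    · rw [fst_coconeMap_apply, hz1, hk]
    · rw [snd_coconeMap_apply, hz2, hl]
  zero n z := by
    apply cocone_ext φ₃ n (n - 1) (by omega)
    · rw [fst_coconeMap_apply, fst_coconeMap_apply, ha.zero, map_zero]
    · rw [snd_coconeMap_apply, snd_coconeMap_apply, hb.zero, map_zero]
  exact n y hy := by
    have h1 := fst_coconeMap_apply φ₂ φ₃ a' b' comm' n y
    have h2 := snd_coconeMap_apply φ₂ φ₃ a' b' comm' n (n - 1) (by omega) y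
    rw [hy, map_zero] at h1 h2
    obtain ⟨k, hk⟩ := ha.exact n _ h1.symm
    obtain ⟨l, hl⟩ := hb.exact (n - 1) _ h2.symm
    obtain ⟨z, hz1, hz2⟩ := cocone_exists φ₁ n (n - 1) (by omega) k l
    refine ⟨z, ?_⟩
    apply cocone_ext φ₂ n (n - 1) (by omega)
    · rw [fst_coconeMap_apply, hz1, hk]
    · rw [snd_coconeMap_apply, hz2, hl]

end coconeDSE

end Groth.Agent.Helper17.CE
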