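import Groth.Agent.Lib.Helper17.CE2
import Groth.Prelude.Def_DerCA

/-!
# helper17: functoriality and exactness of the extended Čech complex
-/

open CategoryTheory Limits HomologicalComplex CochainComplex HomComplex
universe u

namespace Groth.Agent.Helper17.CE
open DerCA

variable {R : Type u} [CommRing R]

theorem locCxUnit_naturality (S : Submonoid R) {K L : DRing.Cx R} (a : K ⟶ L) :
    locCxUnit S K ≫ (locCx S).map a = a ≫ locCxUnit S L := by
  ext n : 1
  exact ((locUnit S).naturality (a.f n)).symm

/-- functoriality of the extended Čech complex in the module -/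
noncomputable def cechMap {M N : ModuleCat.{u} R} (g : M ⟶ N) :
    (fs : List R) → (extCech M fs ⟶ extCech N fs)
  | [] => (HomologicalComplex.single (ModuleCat.{u} R) (ComplexShape.up ℤ) 0).map g
  | f :: fs => coconeMap (locCxUnit (Submonoid.powers f) (extCech M fs))
      (locCxUnit (Submonoid.powers f) (extCech N fs)) (cechMap g fs)
      ((locCx (Submonoid.powers f)).map (cechMap g fs)) (locCxUnit_naturality _ _)

theorem DSE.single {M₁ M₂ M₃ : ModuleCat.{u} R} (u : M₁ ⟶ M₂) (v : M₂ ⟶ M₃)
    (hu : Function.Injective u.hom) (hv : Function.Surjective v.hom)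
    (hex : Function.Exact u.hom v.hom) :
    DSE ((HomologicalComplex.single (ModuleCat.{u} R) (ComplexShape.up ℤ) 0).map u)
      ((HomologicalComplex.single (ModuleCat.{u} R) (ComplexShape.up ℤ) 0).map v) := by
  have key : ∀ n : ℤ, n ≠ 0 → ∀ (A : ModuleCat.{u} R)
      (x : ((HomologicalComplex.single (ModuleCat.{u} R) (ComplexShape.up ℤ) 0).obj A).X n),
      x = 0 := by
    intro n hn A x
    have := ModuleCat.subsingleton_of_isZero
      (HomologicalComplex.isZero_single_obj_X (ComplexShape.up ℤ) 0 A n hn)
    exact Subsingleton.elim _ _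
  have h0 : ∀ {A B : ModuleCat.{u} R} (w : A ⟶ B)
      (x : ((HomologicalComplex.single (ModuleCat.{u} R) (ComplexShape.up ℤ) 0).obj A).X 0),
      (((HomologicalComplex.single (ModuleCat.{u} R) (ComplexShape.up ℤ) 0).map w).f 0).hom x =
        (HomologicalComplex.singleObjXSelf (ComplexShape.up ℤ) 0 B).inv.hom
          (w.hom ((HomologicalComplex.singleObjXSelf (ComplexShape.up ℤ) 0 A).hom.hom x)) := by
    intro A B w x
    rw [HomologicalComplex.single_map_f_self]
    rfl
  have hinv : ∀ (A : ModuleCat.{u} R),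
      Function.Injective (HomologicalComplex.singleObjXSelf (ComplexShape.up ℤ) 0 A).inv.hom :=
    fun A => ((ModuleCat.mono_iff_injective _).1 inferInstance)
  have hhom : ∀ (A : ModuleCat.{u} R),
      Function.Injective (HomologicalComplex.singleObjXSelf (ComplexShape.up ℤ) 0 A).hom.hom :=
    fun A => ((ModuleCat.mono_iff_injective _).1 inferInstance)
  have hinvs : ∀ (A : ModuleCat.{u} R),
      Function.Surjective (HomologicalComplex.singleObjXSelf (ComplexShape.up ℤ) 0 A).inv.hom :=
    fun A => ((ModuleCat.epi_iff_surjective _).1 inferInstance)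
  have hhoms : ∀ (A : ModuleCat.{u} R),
      Function.Surjective (HomologicalComplex.singleObjXSelf (ComplexShape.up ℤ) 0 A).hom.hom :=
    fun A => ((ModuleCat.epi_iff_surjective _).1 inferInstance)
  refine ⟨fun n => ?_, fun n => ?_, fun n x => ?_, fun n y hy => ?_⟩
  · by_cases hn : n = 0
    · subst hn
      intro x y hxy
      rw [h0, h0] at hxy
      exact hhom _ (hu (hinv _ hxy))
    · intro x y _
      rw [key n hn _ x, key n hn _ y]
  · by_cases hn : n = 0
    · subst hn
      intro y
      obtain ⟨y', rfl⟩ := hinvs _ y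
      obtain ⟨x', rfl⟩ := hv y'
      obtain ⟨x, rfl⟩ := hhoms _ x'
      exact ⟨x, h0 v x⟩
    · intro y
      exact ⟨0, by rw [key n hn _ y, map_zero]⟩
  · by_cases hn : n = 0
    · subst hn
      rw [h0, h0]
      have h1 : (HomologicalComplex.singleObjXSelf (ComplexShape.up ℤ) 0 M₂).hom.hom
          ((HomologicalComplex.singleObjXSelf (ComplexShape.up ℤ) 0 M₂).inv.hom
            (u.hom ((HomologicalComplex.singleObjXSelf (ComplexShape.up ℤ) 0 M₁).hom.hom x))) =
          u.hom ((HomologicalComplex.singleObjXSelf (ComplexShape.up ℤ) 0 M₁).hom.hom x) := by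
        have := (HomologicalComplex.singleObjXSelf (ComplexShape.up ℤ) 0 M₂).inv_hom_id
        exact congrArg (fun g => g.hom
          (u.hom ((HomologicalComplex.singleObjXSelf (ComplexShape.up ℤ) 0 M₁).hom.hom x))) this
      rw [h1, hex.apply_apply_eq_zero, map_zero]
    · exact key n hn _ _
  · by_cases hn : n = 0
    · subst hn
      rw [h0] at hy
      have hy' := hinv _ (hy.trans (map_zero _).symm)
      obtain ⟨x', hx'⟩ := (hex _).1 hy'
      obtain ⟨x, rfl⟩ := hhoms _ x'
      refine ⟨x, ?_⟩
      rw [h0, hx']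
      have := (HomologicalComplex.singleObjXSelf (ComplexShape.up ℤ) 0 M₂).hom_inv_id
      exact congrArg (fun g => g.hom y) this
    · exact ⟨0, by rw [key n hn _ y, map_zero]⟩

theorem DSE.locCx (S : Submonoid R) {A B C : DRing.Cx R} {u : A ⟶ B} {v : B ⟶ C} (h : DSE u v) :
    DSE ((locCx S).map u) ((locCx S).map v) := by
  have hex : ∀ n, Function.Exact (u.f n).hom (v.f n).hom := by
    intro n y
    constructor
    · intro hy
      obtain ⟨x, hx⟩ := h.exact n y hy
      exact ⟨x, hx⟩
    · rintro ⟨x, rfl⟩
      exact h.zero n x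
  refine ⟨fun n => ?_, fun n => ?_, fun n x => ?_, fun n y hy => ?_⟩
  · show Function.Injective (IsLocalizedModule.map S (LocalizedModule.mkLinearMap S (A.X n))
      (LocalizedModule.mkLinearMap S (B.X n)) (u.f n).hom)
    exact IsLocalizedModule.map_injective S _ _ _ (h.inj n)
  · show Function.Surjective (IsLocalizedModule.map S (LocalizedModule.mkLinearMap S (B.X n))
      (LocalizedModule.mkLinearMap S (C.X n)) (v.f n).hom)
    exact IsLocalizedModule.map_surjective S _ _ _ (h.surj n)
  · exact (IsLocalizedModule.map_exact S (LocalizedModule.mkLinearMap S (A.X n))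
      (LocalizedModule.mkLinearMap S (B.X n)) (LocalizedModule.mkLinearMap S (C.X n))
      _ _ (hex n)).apply_apply_eq_zero x
  · obtain ⟨x, hx⟩ := ((IsLocalizedModule.map_exact S (LocalizedModule.mkLinearMap S (A.X n))
      (LocalizedModule.mkLinearMap S (B.X n)) (LocalizedModule.mkLinearMap S (C.X n))
      _ _ (hex n)) y).1 hy
    exact ⟨x, hx⟩

theorem DSE.cech {M₁ M₂ M₃ : ModuleCat.{u} R} (u : M₁ ⟶ M₂) (v : M₂ ⟶ M₃)
    (hu : Function.Injective u.hom) (hv : Function.Surjective v.hom)
    (hex : Function.Exact u.hom v.hom) : ∀ fs : List R, DSE (cechMap u fs) (cechMap v fs)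
  | [] => DSE.single u v hu hv hex
  | f :: fs => DSE.cocone _ _ _ _ _ _ _ _ _ (DSE.cech u v hu hv hex fs)
      (DSE.locCx (Submonoid.powers f) (DSE.cech u v hu hv hex fs))

end Groth.Agent.Helper17.CE
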