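import Groth.Agent.Lib.Helper17.CE3
import Groth.Agent.Lib.Helper26.ExtCechH0b
import Groth.Agent.Lib.Helper8.LCTors

/-!
# helper17: natural identification `H^0(Č(fs; M)) ≃ Γ_I(M)`
-/

open CategoryTheory Limits HomologicalComplex CochainComplex HomComplex
universe u

namespace Groth.Agent.Helper17.CE
open DerCA Groth.Agent.Helper26.ExtCechH0b Groth.Agent.Helper8.LC

variable {R : Type u} [CommRing R]

section general

variable {ι : Type*} {c : ComplexShape ι} (K : HomologicalComplex (ModuleCat.{u} R) c)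

theorem exists_cycle' (i j : ι) (hij : c.next i = j) (x : K.X i) (hx : (K.d i j).hom x = 0) :
    ∃ z : K.cycles i, (K.iCycles i).hom z = x := by
  let k : ModuleCat.of R R ⟶ K.X i := ModuleCat.ofHom (LinearMap.toSpanSingleton R _ x)
  have hk : k ≫ K.d i j = 0 := by
    ext
    simp [k, hx]
  refine ⟨(K.liftCycles k j hij hk).hom (1 : R), ?_⟩
  have := K.liftCycles_i k j hij hk
  have h2 : ((K.liftCycles k j hij hk ≫ K.iCycles i).hom (1 : R)) = k.hom 1 := by
    rw [this]
  rw [ModuleCat.hom_comp, LinearMap.comp_apply] at h2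
  rw [h2]
  simp [k]

theorem iCycles_injective' (i : ι) : Function.Injective (K.iCycles i).hom :=
  (ModuleCat.mono_iff_injective _).1 inferInstance

theorem homologyπ_surjective' (i : ι) : Function.Surjective (K.homologyπ i).hom :=
  (ModuleCat.epi_iff_surjective _).1 inferInstance

theorem iCycles_toCycles' (i j : ι) (y : K.X i) :
    (K.iCycles j).hom ((K.toCycles i j).hom y) = (K.d i j).hom y := by
  have := K.toCycles_i i j
  exact congrArg (fun f => f.hom y) this

theorem iCycles_d_apply (i j : ι) (z : K.cycles i) : (K.d i j).hom ((K.iCycles i).hom z) = 0 := by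
  have := K.iCycles_d i j
  exact congrArg (fun f => f.hom z) this

theorem homologyπ_eq_zero_iff' (i j : ι) (hi : c.prev j = i) (z : K.cycles j) :
    (K.homologyπ j).hom z = 0 ↔ ∃ y : K.X i, (K.toCycles i j).hom y = z := by
  have hex : (ShortComplex.mk (K.toCycles i j) (K.homologyπ j)
      (K.toCycles_comp_homologyπ i j)).Exact :=
    ShortComplex.exact_of_g_is_cokernel _ (K.homologyIsCokernel i j hi)
  rw [ShortComplex.moduleCat_exact_iff] at hex
  constructor
  · intro h
    obtain ⟨y, hy⟩ := hex z h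
    exact ⟨y, hy⟩
  · rintro ⟨y, rfl⟩
    have := K.toCycles_comp_homologyπ i j
    exact congrArg (fun f => f.hom y) this

variable {K} {L : HomologicalComplex (ModuleCat.{u} R) c}

theorem iCycles_cyclesMap' (φ : K ⟶ L) (i : ι) (z : K.cycles i) :
    (L.iCycles i).hom ((HomologicalComplex.cyclesMap φ i).hom z) =
      (φ.f i).hom ((K.iCycles i).hom z) := by
  have := HomologicalComplex.cyclesMap_i φ i
  exact congrArg (fun f => f.hom z) this

theorem homologyMap_π' (φ : K ⟶ L) (i : ι) (z : K.cycles i) :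
    (HomologicalComplex.homologyMap φ i).hom ((K.homologyπ i).hom z) =
      (L.homologyπ i).hom ((HomologicalComplex.cyclesMap φ i).hom z) := by
  have := HomologicalComplex.homologyπ_naturality φ i
  exact congrArg (fun f => f.hom z) this

end general

theorem e_natural {M N : ModuleCat.{u} R} (g : M ⟶ N) :
    ∀ (fs : List R) (x : (extCech M fs).X 0),
      (H0Data.extCech N fs).e (((cechMap g fs).f 0).hom x) = g.hom ((H0Data.extCech M fs).e x)
  | [], x => by
    change (HomologicalComplex.singleObjXSelf (ComplexShape.up ℤ) 0 N).hom.hom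
      ((((HomologicalComplex.single (ModuleCat.{u} R) (ComplexShape.up ℤ) 0).map g).f 0).hom x) =
      g.hom ((HomologicalComplex.singleObjXSelf (ComplexShape.up ℤ) 0 M).hom.hom x)
    rw [HomologicalComplex.single_map_f_self]
    have := (HomologicalComplex.singleObjXSelf (ComplexShape.up ℤ) 0 N).inv_hom_id
    exact congrArg (fun h => h.hom
      (g.hom ((HomologicalComplex.singleObjXSelf (ComplexShape.up ℤ) 0 M).hom.hom x))) this
  | f :: fs, x => by
    change (H0Data.extCech N fs).e
      (((mappingCocone.fst (locCxUnit (Submonoid.powers f) (extCech N fs))).f 0).hom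
      (((coconeMap (locCxUnit (Submonoid.powers f) (extCech M fs))
        (locCxUnit (Submonoid.powers f) (extCech N fs)) (cechMap g fs)
        ((locCx (Submonoid.powers f)).map (cechMap g fs)) (locCxUnit_naturality _ _)).f 0).hom x)) =
      g.hom ((H0Data.extCech M fs).e
        (((mappingCocone.fst (locCxUnit (Submonoid.powers f) (extCech M fs))).f 0).hom x))
    rw [fst_coconeMap_apply, e_natural g fs]

variable (fs : List R) (M : ModuleCat.{u} R)

/-- the ideal generated by the list -/
abbrev Ifs : Ideal R := Ideal.span {x : R | x ∈ fs}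

theorem e_mem_gam (x : (extCech M fs).X 0) (hx : ((extCech M fs).d 0 1).hom x = 0) :
    (H0Data.extCech M fs).e x ∈ gam (Ifs fs) M :=
  (torsion_iff fs _).1 (((H0Data.extCech M fs).ker_iff x).1 hx)

theorem d_eq_zero_of_mem_gam (x : (extCech M fs).X 0)
    (hx : (H0Data.extCech M fs).e x ∈ gam (Ifs fs) M) : ((extCech M fs).d 0 1).hom x = 0 :=
  ((H0Data.extCech M fs).ker_iff x).2 ((torsion_iff fs _).2 hx)

/-- the map on cycles -/
noncomputable def cyc0 : (extCech M fs).cycles 0 →ₗ[R] gam (Ifs fs) M :=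
  LinearMap.codRestrict (gam (Ifs fs) M)
    ((H0Data.extCech M fs).e.toLinearMap ∘ₗ ((extCech M fs).iCycles 0).hom)
    (fun z => e_mem_gam fs M _ (iCycles_d_apply _ 0 1 z))

theorem cyc0_val (z : (extCech M fs).cycles 0) :
    (cyc0 fs M z : M) = (H0Data.extCech M fs).e (((extCech M fs).iCycles 0).hom z) := rfl

theorem toCycles_cyc0 :
    (extCech M fs).toCycles (-1) 0 ≫ ModuleCat.ofHom (cyc0 fs M) = 0 := by
  ext y
  have := ModuleCat.subsingleton_of_isZero ((H0Data.extCech M fs).zero_neg (-1) (by omega))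
  have hy : y = 0 := Subsingleton.elim _ _
  rw [hy, map_zero, map_zero]

/-- `H^0(Č) → Γ_I(M)` -/
noncomputable def h0Hom : extCechH fs M 0 ⟶ ModuleCat.of R (gam (Ifs fs) M) :=
  ((extCech M fs).homologyIsCokernel (-1) 0 (by simp)).desc
    (CokernelCofork.ofπ (ModuleCat.ofHom (cyc0 fs M)) (toCycles_cyc0 fs M))

theorem h0Hom_π (z : (extCech M fs).cycles 0) :
    (h0Hom fs M).hom (((extCech M fs).homologyπ 0).hom z) = cyc0 fs M z := by
  have := ((extCech M fs).homologyIsCokernel (-1) 0 (by simp)).fac
    (CokernelCofork.ofπ (ModuleCat.ofHom (cyc0 fs M)) (toCycles_cyc0 fs M))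
    WalkingParallelPair.one
  exact congrArg (fun f => f.hom z) this

theorem h0Hom_bijective : Function.Bijective (h0Hom fs M).hom := by
  constructor
  · rw [injective_iff_map_eq_zero]
    intro h hh
    obtain ⟨z, rfl⟩ := homologyπ_surjective' (extCech M fs) 0 h
    rw [h0Hom_π] at hh
    have h1 : (cyc0 fs M z : M) = 0 := by rw [hh]; rfl
    rw [cyc0_val] at h1
    have h2 : ((extCech M fs).iCycles 0).hom z = 0 :=
      (H0Data.extCech M fs).e.injective (h1.trans (map_zero _).symm)
    have h3 : z = 0 := iCycles_injective' _ 0 (h2.trans (map_zero _).symm)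
    rw [h3, map_zero]
  · rintro ⟨m, hm⟩
    obtain ⟨z, hz⟩ := exists_cycle' (extCech M fs) 0 1 (by simp)
      ((H0Data.extCech M fs).e.symm m) (d_eq_zero_of_mem_gam fs M _ (by
        rw [LinearEquiv.apply_symm_apply]; exact hm))
    refine ⟨((extCech M fs).homologyπ 0).hom z, ?_⟩
    rw [h0Hom_π]
    apply Subtype.ext
    rw [cyc0_val, hz, LinearEquiv.apply_symm_apply]

/-- `H^0(Č(fs; M)) ≃ Γ_I(M)` -/
noncomputable def h0Equiv : extCechH fs M 0 ≃ₗ[R] gam (Ifs fs) M :=
  LinearEquiv.ofBijective (h0Hom fs M).hom (h0Hom_bijective fs M)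

variable {M} {N : ModuleCat.{u} R}

theorem h0Equiv_naturality (g : M ⟶ N) (x : extCechH fs M 0) :
    (h0Equiv fs N ((HomologicalComplex.homologyMap (cechMap g fs) 0).hom x) : N) =
      g.hom (h0Equiv fs M x : M) := by
  obtain ⟨z, rfl⟩ := homologyπ_surjective' (extCech M fs) 0 x
  rw [homologyMap_π']
  change ((h0Hom fs N).hom _ : N) = g.hom ((h0Hom fs M).hom _ : M)
  rw [h0Hom_π, h0Hom_π, cyc0_val, cyc0_val, iCycles_cyclesMap', e_natural]

end Groth.Agent.Helper17.CE
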