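import Groth.Agent.Lib.Helper17.DT5

/-!
# Helper17: universal property of the ideal transform
-/

set_option autoImplicit false
universe u
open CategoryTheory CategoryTheory.Limits Opposite
open LocCoh

namespace Groth.Agent.Helper17

variable {R : Type u} [CommRing R]

theorem map_toDT (I : Ideal R) {M N : Type u} [AddCommGroup M] [Module R M] [AddCommGroup N] [Module R N]
    (g : M →ₗ[R] N) (x : M) :
    ((LocCoh.idealTransform I).map (ModuleCat.ofHom g)).hom (LocCoh.toDT I M x) = LocCoh.toDT I N (g x) := by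
  rw [toDT_eq_cls_zero, map_cls, toDT_eq_cls_zero]
  congr 1
  ext y
  simp

theorem torsionSub_DT_eq_bot [IsNoetherianRing R] (I : Ideal R) (K : Type u) [AddCommGroup K] [Module R K] :
    DRing.torsionSub I (LocCoh.DT I K) = ⊥ := by
  rw [eq_bot_iff]
  rintro x ⟨m, hm⟩
  obtain ⟨n, f, rfl⟩ := cls_surjective I K x
  have h1 : ∀ y : ↥(I ^ (n + m)), (f ∘ₗ incl I (Nat.le_add_right n m)) y ∈ DRing.torsionSub I K := by
    rintro ⟨a, ha⟩
    rw [← ker_toDT, LinearMap.mem_ker]
    have han : a ∈ I ^ n := Ideal.pow_le_pow_right (Nat.le_add_right n m) ha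
    have ham : a ∈ I ^ m := Ideal.pow_le_pow_right (Nat.le_add_left m n) ha
    have h2 := smul_cls_of_mem I K f a han
    rw [hm a ham] at h2
    exact h2.symm
  obtain ⟨k, hk⟩ := exists_restrict_eq_zero_of_forall_mem_torsionSub I _ h1
  rw [Submodule.mem_bot, ← cls_restrict I K (Nat.le_add_right n m) f,
    ← cls_restrict I K (Nat.le_add_right (n + m) k), hk, map_zero]

theorem eq_of_comp_eq_of_coker_torsion [IsNoetherianRing R] (I : Ideal R)
    {M M' K : Type u} [AddCommGroup M] [Module R M] [AddCommGroup M'] [Module R M']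
    [AddCommGroup K] [Module R K] (e : M →ₗ[R] M')
    (hcoker : LocCoh.IsPowerTorsion I (M' ⧸ LinearMap.range e))
    (φ₁ φ₂ : M' →ₗ[R] LocCoh.DT I K) (h : φ₁ ∘ₗ e = φ₂ ∘ₗ e) : φ₁ = φ₂ := by
  ext x'
  rw [← sub_eq_zero, ← Submodule.mem_bot R, ← torsionSub_DT_eq_bot I K]
  obtain ⟨n, hn⟩ := hcoker (Submodule.Quotient.mk x')
  refine ⟨n, fun a ha => ?_⟩
  have h1 := hn a ha
  rw [← Submodule.Quotient.mk_smul, Submodule.Quotient.mk_eq_zero] at h1
  obtain ⟨y, hy⟩ := h1
  rw [smul_sub, ← map_smul, ← map_smul, ← hy]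
  have h2 := LinearMap.congr_fun h y
  simp only [LinearMap.comp_apply] at h2
  rw [h2, sub_self]

noncomputable def extLift [IsNoetherianRing R] (I : Ideal R)
    {M M' K : Type u} [AddCommGroup M] [Module R M] [AddCommGroup M'] [Module R M']
    [AddCommGroup K] [Module R K] (e : M →ₗ[R] M') (hker : LinearMap.ker e ≤ DRing.torsionSub I M)
    (hcoker : LocCoh.IsPowerTorsion I (M' ⧸ LinearMap.range e)) (ψ : M →ₗ[R] K) :
    M' →ₗ[R] LocCoh.DT I K :=
  ((LocCoh.idealTransform I).map (ModuleCat.ofHom ψ)).hom ∘ₗ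
    (LinearEquiv.ofBijective ((LocCoh.idealTransform I).map (ModuleCat.ofHom e)).hom
      (map_bijective_of_ker_coker_torsion I e hker hcoker)).symm.toLinearMap ∘ₗ LocCoh.toDT I M'

theorem extLift_comp [IsNoetherianRing R] (I : Ideal R)
    {M M' K : Type u} [AddCommGroup M] [Module R M] [AddCommGroup M'] [Module R M']
    [AddCommGroup K] [Module R K] (e : M →ₗ[R] M') (hker : LinearMap.ker e ≤ DRing.torsionSub I M)
    (hcoker : LocCoh.IsPowerTorsion I (M' ⧸ LinearMap.range e)) (ψ : M →ₗ[R] K) :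
    extLift I e hker hcoker ψ ∘ₗ e = LocCoh.toDT I K ∘ₗ ψ := by
  ext x
  simp only [extLift, LinearMap.comp_apply, LinearEquiv.coe_coe]
  rw [← map_toDT I e x, LinearEquiv.ofBijective_symm_apply_apply, map_toDT]

theorem existsUnique_lift [IsNoetherianRing R] (I : Ideal R)
    {M M' K : Type u} [AddCommGroup M] [Module R M] [AddCommGroup M'] [Module R M']
    [AddCommGroup K] [Module R K] (e : M →ₗ[R] M') (hker : LinearMap.ker e ≤ DRing.torsionSub I M)
    (hcoker : LocCoh.IsPowerTorsion I (M' ⧸ LinearMap.range e)) (ψ : M →ₗ[R] K) :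
    ∃! ψ' : M' →ₗ[R] LocCoh.DT I K, ψ' ∘ₗ e = LocCoh.toDT I K ∘ₗ ψ := by
  refine ⟨extLift I e hker hcoker ψ, extLift_comp I e hker hcoker ψ, ?_⟩
  intro φ hφ
  exact eq_of_comp_eq_of_coker_torsion I e hcoker _ _ (hφ.trans (extLift_comp I e hker hcoker ψ).symm)

theorem lift_bijective [IsNoetherianRing R] (I : Ideal R)
    {M M' K : Type u} [AddCommGroup M] [Module R M] [AddCommGroup M'] [Module R M']
    [AddCommGroup K] [Module R K] (e : M →ₗ[R] M') (hker : LinearMap.ker e ≤ DRing.torsionSub I M)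
    (hcoker : LocCoh.IsPowerTorsion I (M' ⧸ LinearMap.range e)) (ψ : M →ₗ[R] K)
    (hψ : Function.Bijective ψ) (ψ' : M' →ₗ[R] LocCoh.DT I K)
    (hψ' : ψ' ∘ₗ e = LocCoh.toDT I K ∘ₗ ψ) (hη : Function.Bijective (LocCoh.toDT I M')) :
    Function.Bijective ψ' := by
  have h1 : ψ' = extLift I e hker hcoker ψ :=
    eq_of_comp_eq_of_coker_torsion I e hcoker _ _ (hψ'.trans (extLift_comp I e hker hcoker ψ).symm)
  rw [h1]
  have hDψ : Function.Bijective ((LocCoh.idealTransform I).map (ModuleCat.ofHom ψ)).hom := by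
    refine map_bijective_of_ker_coker_torsion I ψ ?_ ?_
    · rw [LinearMap.ker_eq_bot.mpr hψ.1]
      exact bot_le
    · intro q
      refine ⟨0, fun a _ => ?_⟩
      obtain ⟨x, rfl⟩ := Submodule.Quotient.mk_surjective _ q
      rw [← Submodule.Quotient.mk_smul, Submodule.Quotient.mk_eq_zero, LinearMap.range_eq_top.mpr hψ.2]
      exact Submodule.mem_top
  unfold extLift
  rw [LinearMap.coe_comp, LinearMap.coe_comp]
  exact hDψ.comp ((LinearEquiv.bijective _).comp hη)

end Groth.Agent.Helper17
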