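import Mathlib

/-!
Helper17: relations among a regular sequence have coefficients in the ideal; `Hom(J, P/J)` for a
complete intersection.
-/

namespace Groth.Agent.Helper17.CI

open RingTheory.Sequence

variable {P : Type*} [CommRing P]

theorem ofList_ofFn {n : ℕ} (f : Fin n → P) : Ideal.ofList (List.ofFn f) = Ideal.span (Set.range f) := by
  unfold Ideal.ofList
  congr 1
  ext x
  simp [List.mem_ofFn]

/-- relations among a weakly regular sequence have coefficients in the ideal it generates -/
theorem coeff_mem_of_sum_eq_zero : ∀ (n : ℕ) (f : Fin n → P),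
    IsWeaklyRegular P (List.ofFn f) → ∀ a : Fin n → P, ∑ i, a i * f i = 0 →
    ∀ i, a i ∈ Ideal.span (Set.range f) := by
  intro n
  induction n with
  | zero => intro f _ a _ i; exact i.elim0
  | succ n ih =>
    intro f hreg a ha
    rw [List.ofFn_succ', List.concat_eq_append, isWeaklyRegular_append_iff,
      isWeaklyRegular_singleton_iff, isSMulRegular_quotient_iff_mem_of_smul_mem] at hreg
    obtain ⟨hreg1, hreg2⟩ := hreg
    have hJ' : Ideal.ofList (List.ofFn fun i : Fin n => f i.castSucc) • (⊤ : Submodule P P) =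
        Ideal.span (Set.range fun i : Fin n => f i.castSucc) := by
      rw [ofList_ofFn, smul_eq_mul, Ideal.mul_top]
    rw [hJ'] at hreg2
    have hle : Ideal.span (Set.range fun i : Fin n => f i.castSucc) ≤ Ideal.span (Set.range f) := by
      apply Ideal.span_mono
      rintro _ ⟨i, rfl⟩
      exact ⟨i.castSucc, rfl⟩
    rw [Fin.sum_univ_castSucc] at ha
    have h1 : f (Fin.last n) • a (Fin.last n) ∈
        Ideal.span (Set.range fun i : Fin n => f i.castSucc) := by
      have h2 : f (Fin.last n) • a (Fin.last n) = -∑ i : Fin n, a i.castSucc * f i.castSucc := by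
        rw [smul_eq_mul]
        linear_combination ha
      rw [h2]
      apply neg_mem
      apply sum_mem
      intro i _
      exact Ideal.mul_mem_left _ _ (Ideal.subset_span ⟨i, rfl⟩)
    have h3 := hreg2 _ h1
    obtain ⟨c, hc⟩ := (Ideal.mem_span_range_iff_exists_fun).1 h3
    have h4 : ∑ i : Fin n, (a i.castSucc + c i * f (Fin.last n)) * f i.castSucc = 0 := by
      have h5 : ∑ i : Fin n, (a i.castSucc + c i * f (Fin.last n)) * f i.castSucc =
          ∑ i : Fin n, a i.castSucc * f i.castSucc + f (Fin.last n) * ∑ i : Fin n, c i * f i.castSucc := by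
        rw [Finset.mul_sum, ← Finset.sum_add_distrib]
        refine Finset.sum_congr rfl fun i _ => ?_
        ring
      rw [h5, hc]
      linear_combination ha
    have h6 := ih (fun i => f i.castSucc) hreg1 _ h4
    intro i
    refine Fin.lastCases ?_ (fun j => ?_) i
    · exact hle h3
    · have h7 : a j.castSucc = (a j.castSucc + c j * f (Fin.last n)) - c j * f (Fin.last n) := by ring
      rw [h7]
      exact sub_mem (hle (h6 j)) (Ideal.mul_mem_left _ _ (Ideal.subset_span ⟨Fin.last n, rfl⟩))

section Ev

variable {n : ℕ} (f : Fin n → P)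

/-- evaluation of a homomorphism `J → P/J` on the generators -/
def ev : (↥(Ideal.span (Set.range f)) →ₗ[P] (P ⧸ Ideal.span (Set.range f))) →ₗ[P]
    (Fin n → P ⧸ Ideal.span (Set.range f)) where
  toFun φ := fun i => φ ⟨f i, Ideal.subset_span (Set.mem_range_self i)⟩
  map_add' φ ψ := rfl
  map_smul' r φ := rfl

theorem ev_apply (φ : ↥(Ideal.span (Set.range f)) →ₗ[P] (P ⧸ Ideal.span (Set.range f))) (i : Fin n) :
    ev f φ i = φ ⟨f i, Ideal.subset_span (Set.mem_range_self i)⟩ := rfl

/-- the surjection `P^n → J` -/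
noncomputable def gen : (Fin n → P) →ₗ[P] ↥(Ideal.span (Set.range f)) :=
  (Fintype.linearCombination P f).codRestrict (Ideal.span (Set.range f)) (fun a => by
    have : Fintype.linearCombination P f a ∈ LinearMap.range (Fintype.linearCombination P f) :=
      ⟨a, rfl⟩
    rw [Fintype.range_linearCombination] at this
    exact this)

theorem gen_coe (a : Fin n → P) : ((gen f a : ↥(Ideal.span (Set.range f))) : P) = ∑ i, a i * f i := by
  simp [gen, Fintype.linearCombination_apply]

theorem gen_surjective : Function.Surjective (gen f) := by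
  rintro ⟨x, hx⟩
  have : x ∈ LinearMap.range (Fintype.linearCombination P f) := by
    rw [Fintype.range_linearCombination]
    exact hx
  obtain ⟨a, ha⟩ := this
  exact ⟨a, Subtype.ext ha⟩

theorem gen_eq_sum (a : Fin n → P) :
    gen f a = ∑ i, a i • (⟨f i, Ideal.subset_span (Set.mem_range_self i)⟩ :
      ↥(Ideal.span (Set.range f))) := by
  apply Subtype.ext
  rw [gen_coe, Submodule.coe_sum]
  rfl

theorem ev_injective : Function.Injective (ev f) := by
  rw [injective_iff_map_eq_zero]
  intro φ hφ
  apply LinearMap.ext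
  intro y
  obtain ⟨a, rfl⟩ := gen_surjective f y
  rw [gen_eq_sum, map_sum, LinearMap.zero_apply]
  refine Finset.sum_eq_zero fun i _ => ?_
  rw [map_smul]
  have := congrFun hφ i
  rw [ev_apply] at this
  rw [this, Pi.zero_apply, smul_zero]

theorem ev_surjective (hreg : IsWeaklyRegular P (List.ofFn f)) : Function.Surjective (ev f) := by
  intro b
  let ψ : (Fin n → P) →ₗ[P] (P ⧸ Ideal.span (Set.range f)) := Fintype.linearCombination P b
  have hle : LinearMap.ker (gen f) ≤ LinearMap.ker ψ := by
    intro a ha
    rw [LinearMap.mem_ker] at ha ⊢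
    have h1 : ∑ i, a i * f i = 0 := by
      rw [← gen_coe, ha]
      rfl
    have h2 := coeff_mem_of_sum_eq_zero n f hreg a h1
    simp only [ψ, Fintype.linearCombination_apply]
    refine Finset.sum_eq_zero fun i _ => ?_
    obtain ⟨x, hx⟩ := Ideal.Quotient.mk_surjective (b i)
    rw [← hx]
    change Ideal.Quotient.mk _ (a i * x) = 0
    exact Ideal.Quotient.eq_zero_iff_mem.2 (Ideal.mul_mem_right _ _ (h2 i))
  let e := LinearMap.quotKerEquivOfSurjective (gen f) (gen_surjective f)
  let φ : ↥(Ideal.span (Set.range f)) →ₗ[P] (P ⧸ Ideal.span (Set.range f)) :=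
    (Submodule.liftQ (LinearMap.ker (gen f)) ψ hle) ∘ₗ e.symm.toLinearMap
  have hφ : ∀ a, φ (gen f a) = ψ a := by
    intro a
    have h1 : e.symm (gen f a) = Submodule.Quotient.mk a := by
      rw [LinearEquiv.symm_apply_eq]
      rfl
    simp only [φ, LinearMap.comp_apply, LinearEquiv.coe_coe, h1, Submodule.liftQ_apply]
  refine ⟨φ, ?_⟩
  funext i
  rw [ev_apply]
  have h2 : (⟨f i, Ideal.subset_span (Set.mem_range_self i)⟩ : ↥(Ideal.span (Set.range f))) =
      gen f (Pi.single i 1) := by
    apply Subtype.ext
    rw [gen_coe]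
    simp [Pi.single_apply]
  rw [h2, hφ]
  simp [ψ, Fintype.linearCombination_apply, Pi.single_apply]

noncomputable def evEquiv (hreg : IsWeaklyRegular P (List.ofFn f)) :
    (↥(Ideal.span (Set.range f)) →ₗ[P] (P ⧸ Ideal.span (Set.range f))) ≃ₗ[P]
      (Fin n → P ⧸ Ideal.span (Set.range f)) :=
  LinearEquiv.ofBijective (ev f) ⟨ev_injective f, ev_surjective f hreg⟩

theorem evEquiv_apply (hreg : IsWeaklyRegular P (List.ofFn f))
    (φ : ↥(Ideal.span (Set.range f)) →ₗ[P] (P ⧸ Ideal.span (Set.range f))) (i : Fin n) :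
    evEquiv f hreg φ i = φ ⟨f i, Ideal.subset_span (Set.mem_range_self i)⟩ := rfl

end Ev

section Der

theorem derivation_eq_sum {R σ : Type*} [CommRing R] [Fintype σ] {M : Type*} [AddCommGroup M]
    [Module R M] [Module (MvPolynomial σ R) M] [IsScalarTower R (MvPolynomial σ R) M]
    (D : Derivation R (MvPolynomial σ R) M) (p : MvPolynomial σ R) :
    D p = ∑ j, MvPolynomial.pderiv j p • D (MvPolynomial.X j) := by
  classical
  induction p using MvPolynomial.induction_on with
  | C a =>
    rw [MvPolynomial.derivation_C]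
    symm
    refine Finset.sum_eq_zero fun j _ => ?_
    rw [MvPolynomial.pderiv_C, zero_smul]
  | add p q hp hq =>
    rw [map_add, hp, hq, ← Finset.sum_add_distrib]
    refine Finset.sum_congr rfl fun j _ => ?_
    rw [map_add, add_smul]
  | mul_X p i hp =>
    rw [Derivation.leibniz, hp]
    have h1 : ∀ j, MvPolynomial.pderiv j (p * MvPolynomial.X i) • D (MvPolynomial.X j) =
        (p * (Pi.single j 1 : σ → MvPolynomial σ R) i) • D (MvPolynomial.X j) +
          (MvPolynomial.X i : MvPolynomial σ R) • (MvPolynomial.pderiv j p • D (MvPolynomial.X j)) := by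
      intro j
      rw [Derivation.leibniz, MvPolynomial.pderiv_X, add_smul, smul_eq_mul, smul_eq_mul, smul_smul]
    simp only [h1]
    rw [Finset.sum_add_distrib, ← Finset.smul_sum]
    congr 1
    rw [Finset.sum_eq_single i]
    · rw [Pi.single_eq_same, mul_one]
    · intro j _ hj
      rw [Pi.single_eq_of_ne (Ne.symm hj), mul_zero, zero_smul]
    · intro h
      exact absurd (Finset.mem_univ i) h

variable {k : Type*} [CommRing k] {Q : Type*} [CommRing Q] [Algebra k Q] (J : Ideal Q)

/-- the restriction of a derivation `Q → Q/J` to `J` is `Q`-linear -/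
def derRestrict (D : Derivation k Q (Q ⧸ J)) : ↥J →ₗ[Q] Q ⧸ J where
  toFun a := D (a : Q)
  map_add' a b := by
    change D ((a : Q) + (b : Q)) = _
    rw [map_add]
  map_smul' r a := by
    change D (r * (a : Q)) = r • D (a : Q)
    rw [Derivation.leibniz]
    have h1 : (a : Q) • D r = 0 := by
      obtain ⟨y, hy⟩ := Ideal.Quotient.mk_surjective (D r)
      rw [← hy]
      change Ideal.Quotient.mk J ((a : Q) * y) = 0
      exact Ideal.Quotient.eq_zero_iff_mem.2 (Ideal.mul_mem_right _ _ a.2)
    rw [h1, add_zero]

theorem derRestrict_apply (D : Derivation k Q (Q ⧸ J)) (a : ↥J) : derRestrict J D a = D (a : Q) := rfl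

end Der

end Groth.Agent.Helper17.CI
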