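import Groth.Agent.Lib.Helper17.KC1
import Groth.Prelude.Def_ega3

/-!
# helper17: functoriality of `koszulTrans`; element calculus for mapping cones and cocones
-/

open CategoryTheory Limits HomologicalComplex CochainComplex HomComplex
universe u

namespace Groth.Agent.Helper17.KC

variable {A : Type u} [CommRing A]

section mapcongr

variable {K₁ L₁ K₂ L₂ : CochainComplex (ModuleCat.{u} A) ℤ} (φ₁ : K₁ ⟶ L₁) (φ₂ : K₂ ⟶ L₂)

theorem map_congr {a a' : K₁ ⟶ K₂} {b b' : L₁ ⟶ L₂} (ha : a = a') (hb : b = b')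
    (comm : φ₁ ≫ b = a ≫ φ₂) (comm' : φ₁ ≫ b' = a' ≫ φ₂) :
    mappingCone.map φ₁ φ₂ a b comm = mappingCone.map φ₁ φ₂ a' b' comm' := by
  subst ha hb
  rfl

end mapcongr

open CohIII

theorem koszulCx_cons (M : ModuleCat.{u} A) (f : A) (fs : List A) :
    koszulCx M (f :: fs) = mappingCone (f • 𝟙 (koszulCx M fs)) := rfl

theorem koszulTrans_nil (M : ModuleCat.{u} A) (n m : ℕ) (h : n ≤ m) :
    koszulTrans M n m h [] = 𝟙 _ := rfl

theorem koszulTrans_cons (M : ModuleCat.{u} A) (n m : ℕ) (h : n ≤ m) (f : A) (fs : List A) :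
    koszulTrans M n m h (f :: fs) =
      mappingCone.map (f ^ n • 𝟙 (koszulCx M (fs.map (· ^ n))))
        (f ^ m • 𝟙 (koszulCx M (fs.map (· ^ m)))) (koszulTrans M n m h fs)
        (f ^ (m - n) • koszulTrans M n m h fs) (by
          simp only [Linear.smul_comp, Linear.comp_smul, Category.id_comp, Category.comp_id, smul_smul,
            ← pow_add, Nat.sub_add_cancel h]) := rfl

theorem koszulTrans_trans (M : ModuleCat.{u} A) (n m k : ℕ) (h : n ≤ m) (h' : m ≤ k) :
    ∀ fs : List A, koszulTrans M n m h fs ≫ koszulTrans M m k h' fs = koszulTrans M n k (h.trans h') fs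
  | [] => by
    rw [koszulTrans_nil, koszulTrans_nil, koszulTrans_nil, Category.comp_id]
  | f :: fs => by
    have c1 : (f ^ n • 𝟙 (koszulCx M (fs.map (· ^ n)))) ≫ (f ^ (m - n) • koszulTrans M n m h fs) =
        koszulTrans M n m h fs ≫ (f ^ m • 𝟙 (koszulCx M (fs.map (· ^ m)))) := by
      simp only [Linear.smul_comp, Linear.comp_smul, Category.id_comp, Category.comp_id, smul_smul,
        ← pow_add, Nat.sub_add_cancel h]
    have c2 : (f ^ m • 𝟙 (koszulCx M (fs.map (· ^ m)))) ≫ (f ^ (k - m) • koszulTrans M m k h' fs) =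
        koszulTrans M m k h' fs ≫ (f ^ k • 𝟙 (koszulCx M (fs.map (· ^ k)))) := by
      simp only [Linear.smul_comp, Linear.comp_smul, Category.id_comp, Category.comp_id, smul_smul,
        ← pow_add, Nat.sub_add_cancel h']
    have key := mappingCone.map_comp (f ^ n • 𝟙 (koszulCx M (fs.map (· ^ n))))
      (f ^ m • 𝟙 (koszulCx M (fs.map (· ^ m)))) (f ^ k • 𝟙 (koszulCx M (fs.map (· ^ k))))
      (koszulTrans M n m h fs) (f ^ (m - n) • koszulTrans M n m h fs) c1
      (koszulTrans M m k h' fs) (f ^ (k - m) • koszulTrans M m k h' fs) c2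
    refine key.symm.trans ?_
    rw [koszulTrans_cons]
    apply map_congr
    · exact koszulTrans_trans M n m k h h' fs
    · rw [Linear.smul_comp, Linear.comp_smul, smul_smul, koszulTrans_trans M n m k h h' fs, ← pow_add]
      congr 2
      omega


/-! ### element calculus for the mapping cone -/
section cone

variable {K L : CochainComplex (ModuleCat.{u} A) ℤ} (ψ : K ⟶ L)

noncomputable def kfst (i j : ℤ) (h : i + 1 = j) : (mappingCone ψ).X i →ₗ[A] K.X j :=
  ((mappingCone.fst ψ).1.v i j h).hom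
noncomputable def ksnd (i : ℤ) : (mappingCone ψ).X i →ₗ[A] L.X i :=
  ((mappingCone.snd ψ).v i i (add_zero i)).hom
noncomputable def kinl (i j : ℤ) (h : i + 1 = j) : K.X j →ₗ[A] (mappingCone ψ).X i :=
  ((mappingCone.inl ψ).v j i (by omega)).hom
noncomputable def kinr (i : ℤ) : L.X i →ₗ[A] (mappingCone ψ).X i :=
  ((mappingCone.inr ψ).f i).hom

theorem kfst_kinl (i j : ℤ) (h : i + 1 = j) (x : K.X j) : kfst ψ i j h (kinl ψ i j h x) = x :=
  congrArg (fun g => g.hom x) (mappingCone.inl_v_fst_v ψ j i (by omega))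
theorem kfst_kinr (i j : ℤ) (h : i + 1 = j) (y : L.X i) : kfst ψ i j h (kinr ψ i y) = 0 :=
  congrArg (fun g => g.hom y) (mappingCone.inr_f_fst_v ψ i j h)
theorem ksnd_kinl (i j : ℤ) (h : i + 1 = j) (x : K.X j) : ksnd ψ i (kinl ψ i j h x) = 0 :=
  congrArg (fun g => g.hom x) (mappingCone.inl_v_snd_v ψ j i (by omega))
theorem ksnd_kinr (i : ℤ) (y : L.X i) : ksnd ψ i (kinr ψ i y) = y :=
  congrArg (fun g => g.hom y) (mappingCone.inr_f_snd_v ψ i)

theorem k_decomp (i j : ℤ) (h : i + 1 = j) (z : (mappingCone ψ).X i) :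
    kinl ψ i j h (kfst ψ i j h z) + kinr ψ i (ksnd ψ i z) = z :=
  congrArg (fun g => g.hom z) (mappingCone.id_X ψ i j h)

theorem k_ext (i j : ℤ) (h : i + 1 = j) (z : (mappingCone ψ).X i) (h1 : kfst ψ i j h z = 0)
    (h2 : ksnd ψ i z = 0) : z = 0 := by
  rw [← k_decomp ψ i j h z, h1, h2, map_zero, map_zero, add_zero]

theorem kfst_d (i j k : ℤ) (hij : i + 1 = j) (hjk : j + 1 = k) (z : (mappingCone ψ).X i) :
    kfst ψ j k hjk (((mappingCone ψ).d i j).hom z) = -(K.d j k).hom (kfst ψ i j hij z) :=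
  congrArg (fun g => g.hom z) (mappingCone.d_fst_v ψ i j k hij hjk)

theorem ksnd_d (i j : ℤ) (hij : i + 1 = j) (z : (mappingCone ψ).X i) :
    ksnd ψ j (((mappingCone ψ).d i j).hom z) =
      (ψ.f j).hom (kfst ψ i j hij z) + (L.d i j).hom (ksnd ψ i z) :=
  congrArg (fun g => g.hom z) (mappingCone.d_snd_v ψ i j hij)

end cone

section conemap

variable {K₁ L₁ K₂ L₂ : CochainComplex (ModuleCat.{u} A) ℤ} (φ₁ : K₁ ⟶ L₁) (φ₂ : K₂ ⟶ L₂)
  (a : K₁ ⟶ K₂) (b : L₁ ⟶ L₂) (comm : φ₁ ≫ b = a ≫ φ₂)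

theorem map_f_fst (i j : ℤ) (h : i + 1 = j) :
    (mappingCone.map φ₁ φ₂ a b comm).f i ≫ (mappingCone.fst φ₂).1.v i j h =
      (mappingCone.fst φ₁).1.v i j h ≫ a.f j := by
  simp [mappingCone.ext_from_iff _ j i h, mappingCone.map]

theorem map_f_snd (i : ℤ) :
    (mappingCone.map φ₁ φ₂ a b comm).f i ≫ (mappingCone.snd φ₂).v i i (add_zero i) =
      (mappingCone.snd φ₁).v i i (add_zero i) ≫ b.f i := by
  simp [mappingCone.ext_from_iff _ (i + 1) i rfl, mappingCone.map]

theorem kfst_map (i j : ℤ) (h : i + 1 = j) (z : (mappingCone φ₁).X i) :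
    kfst φ₂ i j h (((mappingCone.map φ₁ φ₂ a b comm).f i).hom z) = (a.f j).hom (kfst φ₁ i j h z) :=
  congrArg (fun g => g.hom z) (map_f_fst φ₁ φ₂ a b comm i j h)

theorem ksnd_map (i : ℤ) (z : (mappingCone φ₁).X i) :
    ksnd φ₂ i (((mappingCone.map φ₁ φ₂ a b comm).f i).hom z) = (b.f i).hom (ksnd φ₁ i z) :=
  congrArg (fun g => g.hom z) (map_f_snd φ₁ φ₂ a b comm i)

end conemap

/-! ### element calculus for the mapping cocone -/
section cocone

variable {K L : CochainComplex (ModuleCat.{u} A) ℤ} (φ : K ⟶ L)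

noncomputable def cfst (j : ℤ) : (mappingCocone φ).X j →ₗ[A] K.X j :=
  ((mappingCocone.fst φ).f j).hom
noncomputable def csnd (j q : ℤ) (h : q + 1 = j) : (mappingCocone φ).X j →ₗ[A] L.X q :=
  ((mappingCocone.snd φ).v j q (by omega)).hom
noncomputable def cinl (j : ℤ) : K.X j →ₗ[A] (mappingCocone φ).X j :=
  ((mappingCocone.inl φ).v j j (add_zero j)).hom
noncomputable def cinr (j q : ℤ) (h : q + 1 = j) : L.X q →ₗ[A] (mappingCocone φ).X j :=
  ((mappingCocone.inr φ).1.v q j h).hom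

theorem cfst_cinl (j : ℤ) (x : K.X j) : cfst φ j (cinl φ j x) = x :=
  congrArg (fun g => g.hom x) (mappingCocone.inl_v_fst_f φ j)
theorem csnd_cinl (j q : ℤ) (h : q + 1 = j) (x : K.X j) : csnd φ j q h (cinl φ j x) = 0 :=
  congrArg (fun g => g.hom x) (mappingCocone.inl_v_snd_v φ j q (by omega))
theorem cfst_cinr (j q : ℤ) (h : q + 1 = j) (y : L.X q) : cfst φ j (cinr φ j q h y) = 0 :=
  congrArg (fun g => g.hom y) (mappingCocone.inr_v_fst_f φ q j h)
theorem csnd_cinr (j q : ℤ) (h : q + 1 = j) (y : L.X q) : csnd φ j q h (cinr φ j q h y) = y :=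
  congrArg (fun g => g.hom y) (mappingCocone.inr_v_snd_v φ q j h)

theorem c_decomp (j q : ℤ) (h : q + 1 = j) (z : (mappingCocone φ).X j) :
    cinl φ j (cfst φ j z) + cinr φ j q h (csnd φ j q h z) = z :=
  congrArg (fun g => g.hom z) (mappingCocone.id_X φ j q (by omega))

theorem c_ext (j q : ℤ) (h : q + 1 = j) (z : (mappingCocone φ).X j) (h1 : cfst φ j z = 0)
    (h2 : csnd φ j q h z = 0) : z = 0 := by
  rw [← c_decomp φ j q h z, h1, h2, map_zero, map_zero, add_zero]

theorem c_ext' (j q : ℤ) (h : q + 1 = j) (z z' : (mappingCocone φ).X j)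
    (h1 : cfst φ j z = cfst φ j z') (h2 : csnd φ j q h z = csnd φ j q h z') : z = z' := by
  rw [← sub_eq_zero]
  apply c_ext φ j q h
  · rw [map_sub, h1, sub_self]
  · rw [map_sub, h2, sub_self]

theorem cfst_d (j j' : ℤ) (z : (mappingCocone φ).X j) :
    cfst φ j' (((mappingCocone φ).d j j').hom z) = (K.d j j').hom (cfst φ j z) :=
  congrArg (fun g => g.hom z) ((mappingCocone.fst φ).comm j j').symm

theorem csnd_d (q j j' : ℤ) (hq : q + 1 = j) (hj : j + 1 = j') (z : (mappingCocone φ).X j) :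
    csnd φ j' j hj (((mappingCocone φ).d j j').hom z) =
      -(φ.f j).hom (cfst φ j z) - (L.d q j).hom (csnd φ j q hq z) :=
  congrArg (fun g => g.hom z)
    (Groth.Agent.Helper26.ExtCechH0a.d_snd_v φ j j' q hj (by omega))

end cocone

end Groth.Agent.Helper17.KC
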