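import Groth.Agent.Lib.Helper17.CE4
import Groth.Agent.Lib.Helper17.KC2
import Groth.Agent.Lib.Helper11.CechTors

/-!
# helper17: the long exact sequence of extended Čech cohomology; torsion modules
-/

open CategoryTheory Limits HomologicalComplex CochainComplex HomComplex
universe u

namespace Groth.Agent.Helper17.CK

open DerCA Groth.Agent.Helper17.CE Groth.Agent.Helper17.KC Groth.Agent.Helper11.CechTors
  Groth.Agent.Helper26.ExtCechH0b Groth.Agent.Helper8.LC

variable {R : Type u} [CommRing R]

/-! ### power torsion modules -/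

theorem ptOn_extCech {g : R} (T : ModuleCat.{u} R) (h : PT g T) :
    ∀ (fs : List R) (n : ℤ), PT g ((extCech T fs).X n)
  | [], n => by
    by_cases hn : n = 0
    · subst hn
      exact PT.of_iso (HomologicalComplex.singleObjXSelf (ComplexShape.up ℤ) 0 T).symm h
    · intro x
      have : Subsingleton ((extCech T []).X n) := ModuleCat.subsingleton_of_isZero
        (HomologicalComplex.isZero_single_obj_X (ComplexShape.up ℤ) 0 T n hn)
      exact ⟨0, Subsingleton.elim _ _⟩
  | f :: fs, n => by
    change PT g ((mappingCocone (locCxUnit (Submonoid.powers f) (extCech T fs))).X n)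
    intro z
    obtain ⟨a, ha⟩ := ptOn_extCech T h fs n
      (cfst (locCxUnit (Submonoid.powers f) (extCech T fs)) n z)
    obtain ⟨b, hb⟩ : ∃ b : ℕ, g ^ b •
        csnd (locCxUnit (Submonoid.powers f) (extCech T fs)) n (n - 1) (by omega) z = 0 :=
      (ptOn_extCech T h fs (n - 1)).loc (Submonoid.powers f) _
    refine ⟨a + b, ?_⟩
    apply c_ext (locCxUnit (Submonoid.powers f) (extCech T fs)) n (n - 1) (by omega)
    · rw [map_smul, pow_add, mul_comm, mul_smul, ha, smul_zero]
    · rw [map_smul, pow_add, mul_smul, hb, smul_zero]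

theorem subsingleton_loc_of_pt {f : R} {N : ModuleCat.{u} R} (h : PT f N) :
    Subsingleton ((locFunctor (Submonoid.powers f)).obj N) := by
  have hz : ∀ x : LocalizedModule (Submonoid.powers f) N, x = 0 := by
    intro x
    induction x using LocalizedModule.induction_on with
    | h m s =>
      obtain ⟨n, hn⟩ := h m
      rw [← LocalizedModule.zero_mk s, LocalizedModule.mk_eq]
      refine ⟨⟨f ^ n, n, rfl⟩, ?_⟩
      rw [smul_zero, smul_zero, Submonoid.smul_def, Submonoid.smul_def, smul_comm]
      show (s : R) • (f ^ n • m) = 0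
      rw [hn, smul_zero]
  exact ⟨fun x y => (hz x).trans (hz y).symm⟩

theorem isIso_fst_of_pt {f : R} (K : DRing.Cx R) (h : ∀ n, PT f (K.X n)) :
    IsIso (mappingCocone.fst (locCxUnit (Submonoid.powers f) K)) := by
  have hb : ∀ n, Function.Bijective
      ((mappingCocone.fst (locCxUnit (Submonoid.powers f) K)).f n).hom := by
    intro n
    constructor
    · rw [injective_iff_map_eq_zero]
      intro z hz
      have : Subsingleton (((locCx (Submonoid.powers f)).obj K).X (n - 1)) :=
        subsingleton_loc_of_pt (h (n - 1))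
      exact c_ext (locCxUnit (Submonoid.powers f) K) n (n - 1) (by omega) z hz
        (Subsingleton.elim _ _)
    · intro x
      exact ⟨cinl _ n x, cfst_cinl _ n x⟩
  have : ∀ n, IsIso ((mappingCocone.fst (locCxUnit (Submonoid.powers f) K)).f n) := fun n =>
    (ConcreteCategory.isIso_iff_bijective _).2 (hb n)
  exact HomologicalComplex.Hom.isIso_of_components _

/-- the extended Čech cohomology of a torsion module vanishes outside degree `0` -/
theorem isZero_H_of_pt (T : ModuleCat.{u} R) :
    ∀ (fs : List R), (∀ f ∈ fs, PT f T) → ∀ p : ℤ, p ≠ 0 → IsZero (extCechH fs T p)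
  | [], _, p, hp => by
    have : ((HomologicalComplex.single (ModuleCat.{u} R) (ComplexShape.up ℤ) 0).obj T).ExactAt p :=
      HomologicalComplex.exactAt_single_obj _ _ _ _ hp
    exact (HomologicalComplex.exactAt_iff_isZero_homology _ _).1 this
  | f :: fs, h, p, hp => by
    have hK := fun n => ptOn_extCech T (h f List.mem_cons_self) fs n
    have hiso := isIso_fst_of_pt (extCech T fs) hK
    exact IsZero.of_iso (isZero_H_of_pt T fs (fun g hg => h g (List.mem_cons_of_mem _ hg)) p hp)
      ((HomologicalComplex.homologyFunctor (ModuleCat.{u} R) (ComplexShape.up ℤ) p).mapIso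
        (@asIso _ _ _ _ _ hiso))

/-! ### degree zero -/

theorem mem_gam_iff (fs : List R) (M : ModuleCat.{u} R) (m : M) :
    m ∈ gam (Ifs fs) M ↔ ∀ f ∈ fs, ∃ n : ℕ, f ^ n • m = 0 :=
  (torsion_iff fs m).symm

theorem subsingleton_H_zero (fs : List R) (M : ModuleCat.{u} R)
    (h : ∀ m : M, (∀ f ∈ fs, ∃ n : ℕ, f ^ n • m = 0) → m = 0) :
    Subsingleton (extCechH fs M 0) := by
  have : Subsingleton (gam (Ifs fs) M) :=
    ⟨fun x y => Subtype.ext ((h x ((mem_gam_iff fs M x).1 x.2)).trans
      (h y ((mem_gam_iff fs M y).1 y.2)).symm)⟩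
  exact (h0Equiv fs M).injective.subsingleton

/-- `H⁰` of a torsion module is the module itself -/
noncomputable def h0EquivTors (fs : List R) (T : ModuleCat.{u} R) (hT : ∀ f ∈ fs, PT f T) :
    extCechH fs T 0 ≃ₗ[R] T :=
  (h0Equiv fs T).trans (LinearEquiv.ofTop (gam (Ifs fs) T) (by
    rw [eq_top_iff]
    intro m _
    exact (mem_gam_iff fs T m).2 (fun f hf => hT f hf m)))

/-! ### the long exact sequence -/

section LES

variable (fs : List R) {A B C : ModuleCat.{u} R} (u : A ⟶ B) (v : B ⟶ C)
  (hu : Function.Injective u.hom) (hv : Function.Surjective v.hom)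
  (hex : Function.Exact u.hom v.hom)

/-- the short exact sequence of Čech complexes -/
noncomputable def ses : ShortComplex (CochainComplex (ModuleCat.{u} R) ℤ) :=
  ShortComplex.mk (cechMap u fs) (cechMap v fs) (DSE.cech u v hu hv hex fs).comp_eq_zero

theorem ses_shortExact : (ses fs u v hu hv hex).ShortExact := (DSE.cech u v hu hv hex fs).shortExact

/-- the induced map on cohomology -/
noncomputable abbrev Hm {X Y : ModuleCat.{u} R} (w : X ⟶ Y) (q : ℤ) :
    extCechH fs X q →ₗ[R] extCechH fs Y q :=
  (HomologicalComplex.homologyMap (cechMap w fs) q).hom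

/-- the connecting homomorphism -/
noncomputable def δ (q q' : ℤ) (h : q + 1 = q') : extCechH fs C q →ₗ[R] extCechH fs A q' :=
  ((ses_shortExact fs u v hu hv hex).δ q q' (by simpa using h)).hom

theorem exact₁ (q q' : ℤ) (h : q + 1 = q') :
    Function.Exact (δ fs u v hu hv hex q q' h) (Hm fs u q') :=
  (ShortComplex.ShortExact.moduleCat_exact_iff_function_exact _).1
    ((ses_shortExact fs u v hu hv hex).homology_exact₁ q q' (by simpa using h))

include hu hv hex in
theorem exact₂ (q : ℤ) : Function.Exact (Hm fs u q) (Hm fs v q) :=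
  (ShortComplex.ShortExact.moduleCat_exact_iff_function_exact _).1
    ((ses_shortExact fs u v hu hv hex).homology_exact₂ q)

theorem exact₃ (q q' : ℤ) (h : q + 1 = q') :
    Function.Exact (Hm fs v q) (δ fs u v hu hv hex q q' h) :=
  (ShortComplex.ShortExact.moduleCat_exact_iff_function_exact _).1
    ((ses_shortExact fs u v hu hv hex).homology_exact₃ q q' (by simpa using h))

include hu hv hex in
theorem subsingleton_mid (q : ℤ) (hA : Subsingleton (extCechH fs A q))
    (hC : Subsingleton (extCechH fs C q)) : Subsingleton (extCechH fs B q) := by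
  refine subsingleton_of_forall_eq 0 fun x => ?_
  obtain ⟨a, rfl⟩ := (exact₂ fs u v hu hv hex q x).1 (Subsingleton.elim _ _)
  rw [Subsingleton.elim a 0, map_zero]

include hu hv hex in
theorem subsingleton_left (q q' : ℤ) (h : q + 1 = q') (hC : Subsingleton (extCechH fs C q))
    (hB : Subsingleton (extCechH fs B q')) : Subsingleton (extCechH fs A q') := by
  refine subsingleton_of_forall_eq 0 fun x => ?_
  obtain ⟨c, rfl⟩ := (exact₁ fs u v hu hv hex q q' h x).1 (Subsingleton.elim _ _)
  rw [Subsingleton.elim c 0, map_zero]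

theorem δ_bijective (q q' : ℤ) (h : q + 1 = q') (hB : Subsingleton (extCechH fs B q))
    (hB' : Subsingleton (extCechH fs B q')) :
    Function.Bijective (δ fs u v hu hv hex q q' h) := by
  constructor
  · rw [injective_iff_map_eq_zero]
    intro c hc
    obtain ⟨b, rfl⟩ := (exact₃ fs u v hu hv hex q q' h c).1 hc
    rw [Subsingleton.elim b 0, map_zero]
  · intro a
    exact (exact₁ fs u v hu hv hex q q' h a).1 (Subsingleton.elim _ _)

include hu hv hex in
theorem Hm_v_bijective (q q' : ℤ) (h : q + 1 = q') (hA : Subsingleton (extCechH fs A q))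
    (hA' : Subsingleton (extCechH fs A q')) : Function.Bijective (Hm fs v q) := by
  constructor
  · rw [injective_iff_map_eq_zero]
    intro b hb
    obtain ⟨a, rfl⟩ := (exact₂ fs u v hu hv hex q b).1 hb
    rw [Subsingleton.elim a 0, map_zero]
  · intro c
    exact (exact₃ fs u v hu hv hex q q' h c).1 (Subsingleton.elim _ _)

end LES

end Groth.Agent.Helper17.CK
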