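import Groth.Agent.Lib.Helper17.CK1

/-!
# helper17: kernel and cokernel of a map to an `fs`-closed module are `H⁰` and `H¹` of the
extended Čech complex
-/

open CategoryTheory Limits HomologicalComplex CochainComplex HomComplex
universe u

namespace Groth.Agent.Helper17.CK

open DerCA Groth.Agent.Helper17.CE Groth.Agent.Helper17.KC Groth.Agent.Helper11.CechTors
  Groth.Agent.Helper26.ExtCechH0b Groth.Agent.Helper8.LC

variable {R : Type u} [CommRing R] (fs : List R) {M N : ModuleCat.{u} R} (ρ : M ⟶ N)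

theorem ker_eq_gam (h1 : ∀ m : M, ρ.hom m = 0 → ∀ f ∈ fs, ∃ n : ℕ, f ^ n • m = 0)
    (h3a : ∀ y : N, (∀ f ∈ fs, ∃ n : ℕ, f ^ n • y = 0) → y = 0) :
    LinearMap.ker ρ.hom = gam (Ifs fs) M := by
  ext m
  rw [LinearMap.mem_ker, mem_gam_iff]
  constructor
  · exact h1 m
  · intro hm
    apply h3a
    intro f hf
    obtain ⟨n, hn⟩ := hm f hf
    exact ⟨n, by rw [← map_smul, hn, map_zero]⟩

theorem nonempty_ker_equiv (h1 : ∀ m : M, ρ.hom m = 0 → ∀ f ∈ fs, ∃ n : ℕ, f ^ n • m = 0)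
    (h3a : ∀ y : N, (∀ f ∈ fs, ∃ n : ℕ, f ^ n • y = 0) → y = 0) :
    Nonempty (LinearMap.ker ρ.hom ≃ₗ[R] extCechH fs M 0) :=
  ⟨(LinearEquiv.ofEq _ _ (ker_eq_gam fs ρ h1 h3a)).trans (h0Equiv fs M).symm⟩

/-- the kernel -/
noncomputable abbrev Ke : ModuleCat.{u} R := ModuleCat.of R (LinearMap.ker ρ.hom)
/-- the image -/
noncomputable abbrev Im : ModuleCat.{u} R := ModuleCat.of R (LinearMap.range ρ.hom)
/-- the cokernel -/
noncomputable abbrev Co : ModuleCat.{u} R := ModuleCat.of R (N ⧸ LinearMap.range ρ.hom)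

noncomputable abbrev κ : Ke ρ ⟶ M := ModuleCat.ofHom (LinearMap.ker ρ.hom).subtype
noncomputable abbrev ρ' : M ⟶ Im ρ := ModuleCat.ofHom ρ.hom.rangeRestrict
noncomputable abbrev ι : Im ρ ⟶ N := ModuleCat.ofHom (LinearMap.range ρ.hom).subtype
noncomputable abbrev π : N ⟶ Co ρ := ModuleCat.ofHom (LinearMap.range ρ.hom).mkQ

theorem κ_inj : Function.Injective (κ ρ).hom := Subtype.val_injective
theorem ρ'_surj : Function.Surjective (ρ' ρ).hom := LinearMap.surjective_rangeRestrict _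
theorem exact_κ_ρ' : Function.Exact (κ ρ).hom (ρ' ρ).hom := by
  intro m
  constructor
  · intro hm
    have : ρ.hom m = 0 := congrArg Subtype.val hm
    exact ⟨⟨m, this⟩, rfl⟩
  · rintro ⟨k, rfl⟩
    exact Subtype.ext k.2
theorem ι_inj : Function.Injective (ι ρ).hom := Subtype.val_injective
theorem π_surj : Function.Surjective (π ρ).hom := Submodule.mkQ_surjective _
theorem exact_ι_π : Function.Exact (ι ρ).hom (π ρ).hom :=
  LinearMap.exact_subtype_mkQ _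

theorem pt_Ke (h1 : ∀ m : M, ρ.hom m = 0 → ∀ f ∈ fs, ∃ n : ℕ, f ^ n • m = 0) :
    ∀ f ∈ fs, PT f (Ke ρ) := by
  intro f hf k
  obtain ⟨n, hn⟩ := h1 k.1 k.2 f hf
  exact ⟨n, Subtype.ext hn⟩

theorem pt_Co (h2 : ∀ y : N, ∀ f ∈ fs, ∃ n : ℕ, ∃ m : M, ρ.hom m = f ^ n • y) :
    ∀ f ∈ fs, PT f (Co ρ) := by
  intro f hf q
  obtain ⟨y, rfl⟩ := Submodule.mkQ_surjective _ q
  obtain ⟨n, m, hm⟩ := h2 y f hf
  refine ⟨n, ?_⟩
  rw [← map_smul, ← hm]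
  exact (Submodule.Quotient.mk_eq_zero _).2 ⟨m, rfl⟩

theorem nonempty_coker_equiv (h1 : ∀ m : M, ρ.hom m = 0 → ∀ f ∈ fs, ∃ n : ℕ, f ^ n • m = 0)
    (h2 : ∀ y : N, ∀ f ∈ fs, ∃ n : ℕ, ∃ m : M, ρ.hom m = f ^ n • y)
    (h3a : ∀ y : N, (∀ f ∈ fs, ∃ n : ℕ, f ^ n • y = 0) → y = 0)
    (h3b : Subsingleton (extCechH fs N 1)) :
    Nonempty ((N ⧸ LinearMap.range ρ.hom) ≃ₗ[R] extCechH fs M 1) := by
  have e1 : extCechH fs (Co ρ) 0 ≃ₗ[R] (N ⧸ LinearMap.range ρ.hom) :=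
    h0EquivTors fs (Co ρ) (pt_Co fs ρ h2)
  have e2 : extCechH fs (Co ρ) 0 ≃ₗ[R] extCechH fs (Im ρ) 1 :=
    LinearEquiv.ofBijective (δ fs (ι ρ) (π ρ) (ι_inj ρ) (π_surj ρ) (exact_ι_π ρ) 0 1 rfl)
      (δ_bijective fs (ι ρ) (π ρ) (ι_inj ρ) (π_surj ρ) (exact_ι_π ρ) 0 1 rfl
        (subsingleton_H_zero fs N h3a) h3b)
  have hK1 : Subsingleton (extCechH fs (Ke ρ) 1) :=
    ModuleCat.subsingleton_of_isZero (isZero_H_of_pt (Ke ρ) fs (pt_Ke fs ρ h1) 1 (by omega))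
  have hK2 : Subsingleton (extCechH fs (Ke ρ) 2) :=
    ModuleCat.subsingleton_of_isZero (isZero_H_of_pt (Ke ρ) fs (pt_Ke fs ρ h1) 2 (by omega))
  have e3 : extCechH fs M 1 ≃ₗ[R] extCechH fs (Im ρ) 1 :=
    LinearEquiv.ofBijective (Hm fs (ρ' ρ) 1)
      (Hm_v_bijective fs (κ ρ) (ρ' ρ) (κ_inj ρ) (ρ'_surj ρ) (exact_κ_ρ' ρ) 1 2 rfl hK1 hK2)
  exact ⟨e1.symm.trans (e2.trans e3.symm)⟩

end Groth.Agent.Helper17.CK
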