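import Groth.Agent.Lib.Helper17.CK2
import Groth.Agent.Lib.Helper13.Qcqs

/-!
# helper17: sections of a quasi-coherent module over a union of basic opens
-/

open CategoryTheory Limits AlgebraicGeometry Opposite TopologicalSpace
universe u

namespace Groth.Agent.Helper17.CK

open DerCA Groth.Agent.Helper13.Qcqs Groth.Agent.Helper11.CechTors

variable {X : Scheme.{u}} (F : X.Modules)

/-- sections over `V` as a module over the global functions -/
noncomputable def secM (V : X.Opens) : ModuleCat.{u} Γ(X, ⊤) :=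
  @ModuleCat.of Γ(X, ⊤) _ Γ(F, V) _ (Module.compHom Γ(F, V) (resO (le_top : V ≤ ⊤)))

theorem secM_smul (V : X.Opens) (a : Γ(X, ⊤)) (t : Γ(F, V)) :
    (a • (show secM F V from t) : secM F V) = (resO (le_top : V ≤ ⊤) a • t : Γ(F, V)) := rfl

/-- restriction as a linear map -/
noncomputable def resL {V W : X.Opens} (h : W ≤ V) : secM F V ⟶ secM F W :=
  ModuleCat.ofHom (X := secM F V) (Y := secM F W)
    { toFun := res F h
      map_add' := map_add _
      map_smul' := fun a t => by
        show res F h (resO (le_top : V ≤ ⊤) a • (show Γ(F, V) from t)) =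
          resO (le_top : W ≤ ⊤) a • res F h (show Γ(F, V) from t)
        rw [res_smul, resO_resO] }

theorem resL_apply {V W : X.Opens} (h : W ≤ V) (t : Γ(F, V)) :
    (resL F h).hom t = res F h t := rfl

/-- restriction from the global sections -/
noncomputable def ρ₀ (U : X.Opens) : ModuleCat.of Γ(X, ⊤) (F.val.obj (op ⊤)) ⟶ secM F U :=
  ModuleCat.ofHom (X := F.val.obj (op ⊤)) (Y := secM F U)
    { toFun := res F (le_top : U ≤ ⊤)
      map_add' := map_add _
      map_smul' := fun a t => by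
        show res F (le_top : U ≤ ⊤) (a • (show Γ(F, ⊤) from t)) =
          resO (le_top : U ≤ ⊤) a • res F le_top (show Γ(F, ⊤) from t)
        exact res_smul F le_top a _ }

theorem ρ₀_apply (U : X.Opens) (t : Γ(F, ⊤)) : (ρ₀ F U).hom t = res F (le_top : U ≤ ⊤) t := rfl

theorem isUnit_resO (f : Γ(X, ⊤)) (S : X.Opens) (hS : S ≤ X.basicOpen f) :
    IsUnit (resO (le_top : S ≤ ⊤) f) := by
  have h1 : IsUnit (resO (le_top : X.basicOpen f ≤ ⊤) f) :=
    X.toRingedSpace.isUnit_res_basicOpen f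
  have h2 := h1.map (resO hS)
  rwa [resO_resO] at h2

theorem smul_bijective_of_le (f : Γ(X, ⊤)) (S : X.Opens) (hS : S ≤ X.basicOpen f) :
    Function.Bijective (fun m : secM F S => f • m) := by
  obtain ⟨v, hv⟩ := isUnit_resO f S hS
  show Function.Bijective (fun m : Γ(F, S) => resO (le_top : S ≤ ⊤) f • m)
  rw [← hv]
  exact MulAction.bijective v

theorem eq_zero_of_pow_smul_eq_zero (f : Γ(X, ⊤)) (S : X.Opens) (hS : S ≤ X.basicOpen f)
    (m : secM F S) (n : ℕ) (h : f ^ n • m = 0) : m = 0 := by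
  induction n with
  | zero => rwa [pow_zero, one_smul] at h
  | succ n ih =>
    apply ih
    apply (smul_bijective_of_le F f S hS).1
    show f • (f ^ n • m) = f • 0
    rw [smul_zero, ← mul_smul, ← pow_succ']
    exact h

section qcqs

variable [CompactSpace X] [QuasiSeparatedSpace X] [F.IsQuasicoherent]

theorem isCompact_top : IsCompact ((⊤ : X.Opens) : Set X) := by
  rw [Opens.coe_top]
  exact isCompact_univ

theorem h1 (U : X.Opens) (fs : List Γ(X, ⊤)) (hU : ∀ f ∈ fs, X.basicOpen f ≤ U)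
    (m : Γ(F, ⊤)) (hm : res F (le_top : U ≤ ⊤) m = 0) :
    ∀ f ∈ fs, ∃ n : ℕ, f ^ n • m = 0 := by
  intro f hf
  have h0 : res F (le_top : X.basicOpen f ≤ ⊤) m = 0 := by
    have := congrArg (res F (hU f hf)) hm
    rw [res_res, map_zero] at this
    exact this
  exact exists_pow_smul_eq_zero_of_isCompact F isCompact_top f (X.basicOpen f) rfl le_top m h0

theorem h2 (U : X.Opens) (hUc : IsCompact (U : Set X)) (fs : List Γ(X, ⊤))
    (hU : ∀ f ∈ fs, X.basicOpen f ≤ U) (y : Γ(F, U)) :
    ∀ f ∈ fs, ∃ n : ℕ, ∃ m : Γ(F, ⊤),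
      res F (le_top : U ≤ ⊤) m = resO (le_top : U ≤ ⊤) f ^ n • y := by
  intro f hf
  have hWU := hU f hf
  have hqs : IsQuasiSeparated ((⊤ : X.Opens) : Set X) := by
    rw [Opens.coe_top]
    exact isQuasiSeparated_univ
  obtain ⟨n, t, ht⟩ := exists_pow_smul_eq_res_of_qcqs F isCompact_top hqs f (X.basicOpen f) rfl
    le_top (res F hWU y)
  -- the difference vanishes on `D(f)`
  have hW : X.basicOpen f = X.basicOpen (resO (le_top : U ≤ ⊤) f) := by
    have := Scheme.basicOpen_res X f (homOfLE (le_top : U ≤ ⊤)).op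
    rw [resO_def, this]
    exact (inf_eq_right.2 hWU).symm
  have hz : res F hWU (resO (le_top : U ≤ ⊤) f ^ n • y - res F le_top t) = 0 := by
    rw [map_sub, res_pow_smul, res_res, resO_resO, ht, sub_self]
  obtain ⟨k, hk⟩ := exists_pow_smul_eq_zero_of_isCompact F hUc (resO (le_top : U ≤ ⊤) f)
    (X.basicOpen f) hW hWU _ hz
  refine ⟨k + n, f ^ k • t, ?_⟩
  rw [smul_sub, sub_eq_zero] at hk
  rw [res_pow_smul, ← hk, pow_add, mul_smul]

end qcqs

theorem h3a (fs : List Γ(X, ⊤))
    (y : secM F (⨆ i : Fin fs.length, X.basicOpen (fs.get i)))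
    (hy : ∀ f ∈ fs, ∃ n : ℕ, f ^ n • y = 0) : y = 0 := by
  refine TopCat.Sheaf.eq_of_locally_eq' ⟨F.presheaf, F.isSheaf⟩
    (fun i : Fin fs.length => X.basicOpen (fs.get i)) _
    (fun i => homOfLE (le_iSup (fun i : Fin fs.length => X.basicOpen (fs.get i)) i)) le_rfl
    (y : Γ(F, ⨆ i : Fin fs.length, X.basicOpen (fs.get i))) 0 (fun i => ?_)
  obtain ⟨n, hn⟩ := hy (fs.get i) (List.get_mem fs i)
  have h1 : (resL F (le_iSup (fun i : Fin fs.length => X.basicOpen (fs.get i)) i)).hom
      (fs.get i ^ n • y) = 0 := by rw [hn, map_zero]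
  rw [map_smul] at h1
  have h2 := eq_zero_of_pow_smul_eq_zero F (fs.get i) _ le_rfl _ n h1
  rw [map_zero]
  exact h2

end Groth.Agent.Helper17.CK
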