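import Groth.Agent.Lib.Helper17.KC4

/-!
# helper17: `colim_n H^{p-r}(K(f^n; M)) ≃ H^p(Č(f; M))` — the Koszul colimit is the extended Čech complex
-/

open CategoryTheory Limits HomologicalComplex CochainComplex HomComplex
universe u

namespace Groth.Agent.Helper17.KC
open DerCA CohIII

variable {A : Type u} [CommRing A] (M : ModuleCat.{u} A)

/-- the inductive step -/
noncomputable def ShSys.cons (f : A) {fs : List A} {r : ℤ}
    (D : ShSys (fun n => koszulCx M (fs.map (· ^ n))) (fun n m h => koszulTrans M n m h fs)
      (extCech M fs) r) :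
    ShSys (fun n => koszulCx M ((f :: fs).map (· ^ n)))
      (fun n m h => koszulTrans M n m h (f :: fs)) (extCech M (f :: fs)) (r + 1) where
  θ := θ1 f D
  comm := θ1_comm f D
  trans := θ1_trans f D
  surj := θ1_surj f D
  ker := θ1_ker f D

/-- the base case -/
noncomputable def ShSys.nil :
    ShSys (fun n => koszulCx M (([] : List A).map (· ^ n)))
      (fun n m h => koszulTrans M n m h []) (extCech M []) 0 where
  θ n i j hj := ((HomologicalComplex.XIsoOfEq (extCech M []) (show i = j by omega)).hom).hom
  comm n i j hj x := by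
    have h1 : (koszulCx M (([] : List A).map (· ^ n))).d i (i + 1) = 0 := rfl
    have h2 : (extCech M ([] : List A)).d j (j + 1) = 0 := rfl
    rw [h1, h2]
    simp
  trans n m h i j hj x := rfl
  surj i j hj y := by
    obtain rfl : i = j := by omega
    exact ⟨0, y, by simp; rfl⟩
  ker n i j hj x hx := by
    obtain rfl : i = j := by omega
    refine ⟨n, le_rfl, ?_⟩
    simp only [HomologicalComplex.XIsoOfEq_rfl, Iso.refl_hom, ModuleCat.hom_id] at hx
    exact hx

theorem nonempty_shSys : ∀ fs : List A,
    Nonempty (ShSys (fun n => koszulCx M (fs.map (· ^ n))) (fun n m h => koszulTrans M n m h fs)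
      (extCech M fs) (fs.length : ℤ))
  | [] => ⟨by
      have e : ((([] : List A).length : ℕ) : ℤ) = 0 := by simp
      rw [e]
      exact ShSys.nil M⟩
  | f :: fs => by
    obtain ⟨D⟩ := nonempty_shSys fs
    have e : (((f :: fs).length : ℕ) : ℤ) = (fs.length : ℤ) + 1 := by simp
    rw [e]
    exact ⟨ShSys.cons M f D⟩

/-- **Koszul colimit = extended Čech cohomology.** -/
theorem nonempty_koszulHLim_equiv (fs : List A) (p : ℕ) :
    Nonempty (koszulHLim fs M p ≃ₗ[A] extCechH fs M p) := by
  obtain ⟨D⟩ := nonempty_shSys M fs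
  exact ⟨D.limEquiv ((p : ℤ) - fs.length) p (by omega)⟩

end Groth.Agent.Helper17.KC
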