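import Groth.Agent.Lib.Helper17.CK3
import Groth.Agent.Lib.Helper17.KC5

/-!
# helper17: kernel and cokernel of restriction to a union of basic opens (S2442)
-/

open CategoryTheory Limits AlgebraicGeometry Opposite TopologicalSpace
universe u

namespace Groth.Agent.Helper17.CK

open DerCA Groth.Agent.Helper13.Qcqs Groth.Agent.Helper11.CechTors

variable {X : Scheme.{u}} (F : X.Modules) (fs : List Γ(X, ⊤))

section step

variable (S V : X.Opens)

/-- the difference map of the Mayer–Vietoris sequence -/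
noncomputable def diff : (secM F S × secM F V) →ₗ[Γ(X, ⊤)] secM F (S ⊓ V) :=
  (resL F (inf_le_left : S ⊓ V ≤ S)).hom.comp (LinearMap.fst _ _ _) -
    (resL F (inf_le_right : S ⊓ V ≤ V)).hom.comp (LinearMap.snd _ _ _)

theorem diff_apply (a : Γ(F, S)) (b : Γ(F, V)) :
    diff F S V (a, b) = res F (inf_le_left : S ⊓ V ≤ S) a - res F (inf_le_right : S ⊓ V ≤ V) b :=
  rfl

noncomputable abbrev Bm : ModuleCat.{u} Γ(X, ⊤) := ModuleCat.of Γ(X, ⊤) (secM F S × secM F V)
noncomputable abbrev Cm : ModuleCat.{u} Γ(X, ⊤) :=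
  ModuleCat.of Γ(X, ⊤) (LinearMap.range (diff F S V))
noncomputable abbrev um : secM F (S ⊔ V) ⟶ Bm F S V :=
  ModuleCat.ofHom (X := secM F (S ⊔ V)) (Y := secM F S × secM F V)
    (LinearMap.prod (resL F (le_sup_left : S ≤ S ⊔ V)).hom
      (resL F (le_sup_right : V ≤ S ⊔ V)).hom)
noncomputable abbrev vm : Bm F S V ⟶ Cm F S V := ModuleCat.ofHom (diff F S V).rangeRestrict

theorem um_inj : Function.Injective (um F S V).hom := by
  intro a b hab
  have h₁ : res F (le_sup_left : S ≤ S ⊔ V) a = res F le_sup_left b := congrArg Prod.fst hab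
  have h₂ : res F (le_sup_right : V ≤ S ⊔ V) a = res F le_sup_right b := congrArg Prod.snd hab
  exact eq_of_res_eq₂ F le_sup_left le_sup_right le_rfl a b h₁ h₂

theorem vm_surj : Function.Surjective (vm F S V).hom := LinearMap.surjective_rangeRestrict _

theorem exact_um_vm : Function.Exact (um F S V).hom (vm F S V).hom := by
  rintro ⟨a, b⟩
  constructor
  · intro h
    have h' : res F (inf_le_left : S ⊓ V ≤ S) a - res F (inf_le_right : S ⊓ V ≤ V) b = 0 :=
      congrArg Subtype.val h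
    obtain ⟨t, ht1, ht2⟩ := exists_glue₂ F S V a b (sub_eq_zero.1 h')
    exact ⟨t, Prod.ext ht1 ht2⟩
  · rintro ⟨t, ht⟩
    apply Subtype.ext
    have h1 : res F (le_sup_left : S ≤ S ⊔ V) t = a := congrArg Prod.fst ht
    have h2 : res F (le_sup_right : V ≤ S ⊔ V) t = b := congrArg Prod.snd ht
    show res F (inf_le_left : S ⊓ V ≤ S) a - res F (inf_le_right : S ⊓ V ≤ V) b = 0
    rw [← h1, ← h2, res_res, res_res, sub_self]

noncomputable abbrev i1 : secM F S ⟶ Bm F S V :=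
  ModuleCat.ofHom (X := secM F S) (Y := secM F S × secM F V)
    (LinearMap.inl Γ(X, ⊤) (secM F S) (secM F V))
noncomputable abbrev p2 : Bm F S V ⟶ secM F V :=
  ModuleCat.ofHom (X := secM F S × secM F V) (Y := secM F V)
    (LinearMap.snd Γ(X, ⊤) (secM F S) (secM F V))

theorem exact_i1_p2 : Function.Exact (i1 F S V).hom (p2 F S V).hom := by
  rintro ⟨a, b⟩
  constructor
  · intro h
    have hb : b = 0 := h
    exact ⟨a, by rw [hb]; rfl⟩
  · rintro ⟨a', ha'⟩
    have := congrArg Prod.snd ha'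
    exact this.symm

theorem step (f : Γ(X, ⊤)) (hf : f ∈ fs) (hS : S ≤ X.basicOpen f)
    (hV : Subsingleton (extCechH fs (secM F V) 1)) :
    Subsingleton (extCechH fs (secM F (S ⊔ V)) 1) := by
  have hS1 : Subsingleton (extCechH fs (secM F S) 1) :=
    ModuleCat.subsingleton_of_isZero (isZero_of_mem_span_bijective fs (secM F S) f
      (Ideal.subset_span hf) (smul_bijective_of_le F f S hS) 1)
  have hB1 : Subsingleton (extCechH fs (Bm F S V) 1) :=
    subsingleton_mid fs (i1 F S V) (p2 F S V) LinearMap.inl_injective LinearMap.snd_surjective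
      (exact_i1_p2 F S V) 1 hS1 hV
  have hC0 : Subsingleton (extCechH fs (Cm F S V) 0) := by
    refine subsingleton_H_zero fs (Cm F S V) (fun c hc => ?_)
    obtain ⟨n, hn⟩ := hc f hf
    have h1 : f ^ n • (c.1 : secM F (S ⊓ V)) = 0 := congrArg Subtype.val hn
    exact Subtype.ext (eq_zero_of_pow_smul_eq_zero F f (S ⊓ V) (inf_le_left.trans hS) c.1 n h1)
  exact subsingleton_left fs (um F S V) (vm F S V) (um_inj F S V) (vm_surj F S V)
    (exact_um_vm F S V) 0 1 rfl hC0 hB1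

end step

theorem base (W : X.Opens) (hW : W ≤ ⊥) : Subsingleton (extCechH fs (secM F W) 1) := by
  have := subsingleton_of_le_bot F hW
  have hpt : ∀ f ∈ fs, PT f (secM F W) :=
    fun f _ m => ⟨0, Subsingleton.elim (α := Γ(F, W)) _ _⟩
  exact ModuleCat.subsingleton_of_isZero (isZero_H_of_pt (secM F W) fs hpt 1 (by omega))

theorem h3b_aux : ∀ (l : List Γ(X, ⊤)), (∀ f ∈ l, f ∈ fs) → ∀ W : X.Opens,
    W = ⨆ f ∈ l, X.basicOpen f → Subsingleton (extCechH fs (secM F W) 1)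
  | [], _, W, hW => base F fs W (by rw [hW]; simp)
  | f :: l, hl, W, hW => by
    have h1 : W = X.basicOpen f ⊔ ⨆ g ∈ l, X.basicOpen g := by
      rw [hW]
      simp only [List.mem_cons, iSup_or, iSup_sup_eq, iSup_iSup_eq_left]
    subst h1
    exact step F fs _ _ f (hl f List.mem_cons_self) le_rfl
      (h3b_aux l (fun g hg => hl g (List.mem_cons_of_mem _ hg)) _ rfl)

theorem iSup_get_eq (g : Γ(X, ⊤) → X.Opens) (l : List Γ(X, ⊤)) :
    ⨆ i : Fin l.length, g (l.get i) = ⨆ f ∈ l, g f := by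
  apply le_antisymm
  · exact iSup_le fun i => le_iSup₂ (f := fun f (_ : f ∈ l) => g f) (l.get i) (List.get_mem l i)
  · refine iSup₂_le fun f hf => ?_
    obtain ⟨i, rfl⟩ := List.mem_iff_get.1 hf
    exact le_iSup (fun i : Fin l.length => g (l.get i)) i

theorem h3b : Subsingleton (extCechH fs
    (secM F (⨆ i : Fin fs.length, X.basicOpen (fs.get i))) 1) :=
  h3b_aux F fs fs (fun _ h => h) _ (iSup_get_eq (fun f => X.basicOpen f) fs)

theorem isCompact_U [CompactSpace X] :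
    IsCompact ((⨆ i : Fin fs.length, X.basicOpen (fs.get i) : X.Opens) : Set X) := by
  rw [Opens.coe_iSup]
  refine isCompact_iUnion fun i => isCompact_basicOpen X ?_ _
  rw [Opens.coe_top]
  exact isCompact_univ

theorem main2442 (X : Scheme.{u}) [CompactSpace X]
    [X.IsSeparated] (fs : List Γ(X, ⊤)) (F : X.Modules) [Coh.IsQCoh F] :
    Nonempty (((Coh.toAb F).obj.map (homOfLE (le_top : (⨆ i : Fin fs.length, X.basicOpen (fs.get i)) ≤ ⊤)).op).hom.ker ≃+ CohIII.koszulHLim fs (ModuleCat.of Γ(X, ⊤) (F.val.obj (op ⊤))) 0) ∧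
    Nonempty (↑((Coh.toAb F).obj.obj (op (⨆ i : Fin fs.length, X.basicOpen (fs.get i)))) ⧸
        ((Coh.toAb F).obj.map (homOfLE (le_top : (⨆ i : Fin fs.length, X.basicOpen (fs.get i)) ≤ ⊤)).op).hom.range ≃+ CohIII.koszulHLim fs (ModuleCat.of Γ(X, ⊤) (F.val.obj (op ⊤))) 1) := by
  have hQ : F.IsQuasicoherent := ‹Coh.IsQCoh F›
  have hU : ∀ f ∈ fs, X.basicOpen f ≤ ⨆ i : Fin fs.length, X.basicOpen (fs.get i) := by
    intro f hf
    obtain ⟨i, rfl⟩ := List.mem_iff_get.1 hf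
    exact le_iSup (fun i : Fin fs.length => X.basicOpen (fs.get i)) i
  have hh1 : ∀ m : ModuleCat.of Γ(X, ⊤) (F.val.obj (op ⊤)),
      (ρ₀ F (⨆ i : Fin fs.length, X.basicOpen (fs.get i))).hom m = 0 →
        ∀ f ∈ fs, ∃ n : ℕ, f ^ n • m = 0 :=
    fun m hm => h1 F _ fs hU m hm
  have hh2 : ∀ y : secM F (⨆ i : Fin fs.length, X.basicOpen (fs.get i)), ∀ f ∈ fs,
      ∃ n : ℕ, ∃ m : ModuleCat.of Γ(X, ⊤) (F.val.obj (op ⊤)),
        (ρ₀ F (⨆ i : Fin fs.length, X.basicOpen (fs.get i))).hom m = f ^ n • y := by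
    intro y f hf
    obtain ⟨n, m, hm⟩ := h2 F _ (isCompact_U fs) fs hU y f hf
    refine ⟨n, m, ?_⟩
    show res F (le_top : (⨆ i : Fin fs.length, X.basicOpen (fs.get i)) ≤ ⊤) m =
      resO (le_top : (⨆ i : Fin fs.length, X.basicOpen (fs.get i)) ≤ ⊤) (f ^ n) •
        (show Γ(F, ⨆ i : Fin fs.length, X.basicOpen (fs.get i)) from y)
    rw [map_pow]
    exact hm
  have hh3a := h3a F fs
  have hh3b := h3b F fs
  obtain ⟨e0⟩ := nonempty_ker_equiv fs (ρ₀ F _) hh1 hh3a
  obtain ⟨e1⟩ := nonempty_coker_equiv fs (ρ₀ F _) hh1 hh2 hh3a hh3b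
  obtain ⟨k0⟩ := Groth.Agent.Helper17.KC.nonempty_koszulHLim_equiv
    (M := ModuleCat.of Γ(X, ⊤) (F.val.obj (op ⊤))) fs 0
  obtain ⟨k1⟩ := Groth.Agent.Helper17.KC.nonempty_koszulHLim_equiv
    (M := ModuleCat.of Γ(X, ⊤) (F.val.obj (op ⊤))) fs 1
  constructor
  · refine ⟨AddEquiv.trans ?_ (e0.trans k0.symm).toAddEquiv⟩
    exact
      { toFun := fun x => ⟨x.1, x.2⟩
        invFun := fun x => ⟨x.1, x.2⟩
        left_inv := fun _ => rfl
        right_inv := fun _ => rfl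
        map_add' := fun _ _ => rfl }
  · refine ⟨AddEquiv.trans ?_ (e1.trans k1.symm).toAddEquiv⟩
    refine QuotientAddGroup.quotientAddEquivOfEq ?_
    exact AddSubgroup.ext fun x => ⟨fun ⟨m, hm⟩ => ⟨m, hm⟩, fun ⟨m, hm⟩ => ⟨m, hm⟩⟩

end Groth.Agent.Helper17.CK
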