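import Groth.Agent.Lib.Helper17.CK4

/-!
# helper17: sections of a quasi-coherent module over a union of basic opens, over a base ring
(`A →+* Γ(X, ⊤)`); used for S6033
-/

open CategoryTheory Limits AlgebraicGeometry Opposite TopologicalSpace
universe u

namespace Groth.Agent.Helper17.CL

open DerCA Groth.Agent.Helper13.Qcqs Groth.Agent.Helper11.CechTors Groth.Agent.Helper17.CK

variable {X : Scheme.{u}} (F : X.Modules) {A : Type u} [CommRing A] (φ : A →+* Γ(X, ⊤))

/-- sections over `V` as a module over the base ring `A` -/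
noncomputable def secA (V : X.Opens) : ModuleCat.{u} A :=
  @ModuleCat.of A _ Γ(F, V) _ (Module.compHom Γ(F, V) ((resO (le_top : V ≤ ⊤)).comp φ))

theorem secA_smul (V : X.Opens) (a : A) (t : Γ(F, V)) :
    (a • (show secA F φ V from t) : secA F φ V) =
      (resO (le_top : V ≤ ⊤) (φ a) • t : Γ(F, V)) := rfl

/-- restriction as a linear map -/
noncomputable def resLA {V W : X.Opens} (h : W ≤ V) : secA F φ V ⟶ secA F φ W :=
  ModuleCat.ofHom (X := secA F φ V) (Y := secA F φ W)
    { toFun := res F h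
      map_add' := map_add _
      map_smul' := fun a t => by
        show res F h (resO (le_top : V ≤ ⊤) (φ a) • (show Γ(F, V) from t)) =
          resO (le_top : W ≤ ⊤) (φ a) • res F h (show Γ(F, V) from t)
        rw [res_smul, resO_resO] }

theorem resLA_apply {V W : X.Opens} (h : W ≤ V) (t : Γ(F, V)) :
    (resLA F φ h).hom t = res F h t := rfl

theorem smul_bijective_of_leA (f : A) (S : X.Opens) (hS : S ≤ X.basicOpen (φ f)) :
    Function.Bijective (fun m : secA F φ S => f • m) :=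
  smul_bijective_of_le F (φ f) S hS

theorem eq_zero_of_pow_smul_eq_zeroA (f : A) (S : X.Opens) (hS : S ≤ X.basicOpen (φ f))
    (m : secA F φ S) (n : ℕ) (h : f ^ n • m = 0) : m = 0 := by
  refine eq_zero_of_pow_smul_eq_zero F (φ f) S hS (show secM F S from m) n ?_
  have h' : resO (le_top : S ≤ ⊤) (φ (f ^ n)) • (show Γ(F, S) from m) = 0 := h
  rw [map_pow] at h'
  exact h'

section step

variable (fs : List A) (S V : X.Opens)

/-- the difference map of the Mayer–Vietoris sequence -/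
noncomputable def diffA : (secA F φ S × secA F φ V) →ₗ[A] secA F φ (S ⊓ V) :=
  (resLA F φ (inf_le_left : S ⊓ V ≤ S)).hom.comp (LinearMap.fst _ _ _) -
    (resLA F φ (inf_le_right : S ⊓ V ≤ V)).hom.comp (LinearMap.snd _ _ _)

noncomputable abbrev BmA : ModuleCat.{u} A := ModuleCat.of A (secA F φ S × secA F φ V)
noncomputable abbrev CmA : ModuleCat.{u} A :=
  ModuleCat.of A (LinearMap.range (diffA F φ S V))
noncomputable abbrev umA : secA F φ (S ⊔ V) ⟶ BmA F φ S V :=
  ModuleCat.ofHom (X := secA F φ (S ⊔ V)) (Y := secA F φ S × secA F φ V)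
    (LinearMap.prod (resLA F φ (le_sup_left : S ≤ S ⊔ V)).hom
      (resLA F φ (le_sup_right : V ≤ S ⊔ V)).hom)
noncomputable abbrev vmA : BmA F φ S V ⟶ CmA F φ S V :=
  ModuleCat.ofHom (diffA F φ S V).rangeRestrict

theorem umA_inj : Function.Injective (umA F φ S V).hom := by
  intro a b hab
  have h₁ : res F (le_sup_left : S ≤ S ⊔ V) a = res F le_sup_left b := congrArg Prod.fst hab
  have h₂ : res F (le_sup_right : V ≤ S ⊔ V) a = res F le_sup_right b := congrArg Prod.snd hab
  exact eq_of_res_eq₂ F le_sup_left le_sup_right le_rfl a b h₁ h₂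

theorem vmA_surj : Function.Surjective (vmA F φ S V).hom := LinearMap.surjective_rangeRestrict _

theorem exact_umA_vmA : Function.Exact (umA F φ S V).hom (vmA F φ S V).hom := by
  rintro ⟨a, b⟩
  constructor
  · intro h
    have h' : res F (inf_le_left : S ⊓ V ≤ S) a - res F (inf_le_right : S ⊓ V ≤ V) b = 0 :=
      congrArg Subtype.val h
    obtain ⟨t, ht1, ht2⟩ := exists_glue₂ F S V a b (sub_eq_zero.1 h')
    exact ⟨t, Prod.ext ht1 ht2⟩
  · rintro ⟨t, ht⟩
    apply Subtype.ext
    have h1 : res F (le_sup_left : S ≤ S ⊔ V) t = a := congrArg Prod.fst ht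
    have h2 : res F (le_sup_right : V ≤ S ⊔ V) t = b := congrArg Prod.snd ht
    show res F (inf_le_left : S ⊓ V ≤ S) a - res F (inf_le_right : S ⊓ V ≤ V) b = 0
    rw [← h1, ← h2, res_res, res_res, sub_self]

noncomputable abbrev i1A : secA F φ S ⟶ BmA F φ S V :=
  ModuleCat.ofHom (X := secA F φ S) (Y := secA F φ S × secA F φ V)
    (LinearMap.inl A (secA F φ S) (secA F φ V))
noncomputable abbrev p2A : BmA F φ S V ⟶ secA F φ V :=
  ModuleCat.ofHom (X := secA F φ S × secA F φ V) (Y := secA F φ V)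
    (LinearMap.snd A (secA F φ S) (secA F φ V))

theorem exact_i1A_p2A : Function.Exact (i1A F φ S V).hom (p2A F φ S V).hom := by
  rintro ⟨a, b⟩
  constructor
  · intro h
    have hb : b = 0 := h
    exact ⟨a, by rw [hb]; rfl⟩
  · rintro ⟨a', ha'⟩
    have := congrArg Prod.snd ha'
    exact this.symm

theorem stepA (f : A) (hf : f ∈ fs) (hS : S ≤ X.basicOpen (φ f))
    (hV : Subsingleton (extCechH fs (secA F φ V) 1)) :
    Subsingleton (extCechH fs (secA F φ (S ⊔ V)) 1) := by
  have hS1 : Subsingleton (extCechH fs (secA F φ S) 1) :=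
    ModuleCat.subsingleton_of_isZero (isZero_of_mem_span_bijective fs (secA F φ S) f
      (Ideal.subset_span hf) (smul_bijective_of_leA F φ f S hS) 1)
  have hB1 : Subsingleton (extCechH fs (BmA F φ S V) 1) :=
    subsingleton_mid fs (i1A F φ S V) (p2A F φ S V) LinearMap.inl_injective
      LinearMap.snd_surjective (exact_i1A_p2A F φ S V) 1 hS1 hV
  have hC0 : Subsingleton (extCechH fs (CmA F φ S V) 0) := by
    refine subsingleton_H_zero fs (CmA F φ S V) (fun c hc => ?_)
    obtain ⟨n, hn⟩ := hc f hf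
    have h1 : f ^ n • (c.1 : secA F φ (S ⊓ V)) = 0 := congrArg Subtype.val hn
    exact Subtype.ext
      (eq_zero_of_pow_smul_eq_zeroA F φ f (S ⊓ V) (inf_le_left.trans hS) c.1 n h1)
  exact subsingleton_left fs (umA F φ S V) (vmA F φ S V) (umA_inj F φ S V) (vmA_surj F φ S V)
    (exact_umA_vmA F φ S V) 0 1 rfl hC0 hB1

end step

theorem baseA (fs : List A) (W : X.Opens) (hW : W ≤ ⊥) :
    Subsingleton (extCechH fs (secA F φ W) 1) := by
  have := subsingleton_of_le_bot F hW
  have hpt : ∀ f ∈ fs, PT f (secA F φ W) :=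
    fun f _ m => ⟨0, Subsingleton.elim (α := Γ(F, W)) _ _⟩
  exact ModuleCat.subsingleton_of_isZero (isZero_H_of_pt (secA F φ W) fs hpt 1 (by omega))

theorem h3b_auxA (fs : List A) : ∀ (l : List A), (∀ f ∈ l, f ∈ fs) → ∀ W : X.Opens,
    W = ⨆ f ∈ l, X.basicOpen (φ f) → Subsingleton (extCechH fs (secA F φ W) 1)
  | [], _, W, hW => baseA F φ fs W (by rw [hW]; simp)
  | f :: l, hl, W, hW => by
    have h1 : W = X.basicOpen (φ f) ⊔ ⨆ g ∈ l, X.basicOpen (φ g) := by
      rw [hW]
      simp only [List.mem_cons, iSup_or, iSup_sup_eq, iSup_iSup_eq_left]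
    subst h1
    exact stepA F φ fs _ _ f (hl f List.mem_cons_self) le_rfl
      (h3b_auxA fs l (fun g hg => hl g (List.mem_cons_of_mem _ hg)) _ rfl)

section coker

variable [CompactSpace X] [QuasiSeparatedSpace X] [F.IsQuasicoherent]

/-- restriction from the global sections to a finite union of basic opens is surjective iff
the first extended Čech cohomology of the module of global sections vanishes. -/
theorem surjective_iff (fs : List A) (U : X.Opens) (hU : U = ⨆ f ∈ fs, X.basicOpen (φ f))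
    (hUc : IsCompact (U : Set X)) (M₀ : ModuleCat.{u} A) (η : M₀ ⟶ secA F φ ⊤)
    (hη : Function.Bijective η.hom) :
    Function.Surjective (res F (le_top : U ≤ ⊤)) ↔ Subsingleton (extCechH fs M₀ 1) := by
  have hle : ∀ f ∈ fs, X.basicOpen (φ f) ≤ U := by
    intro f hf
    rw [hU]
    exact le_iSup₂ (f := fun f (_ : f ∈ fs) => X.basicOpen (φ f)) f hf
  have hle' : ∀ g ∈ fs.map φ, X.basicOpen g ≤ U := by
    intro g hg
    obtain ⟨f, hf, rfl⟩ := List.mem_map.1 hg
    exact hle f hf
  have hh1 : ∀ m : M₀, (η ≫ resLA F φ (le_top : U ≤ ⊤)).hom m = 0 →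
      ∀ f ∈ fs, ∃ n : ℕ, f ^ n • m = 0 := by
    intro m hm f hf
    have hm' : res F (le_top : U ≤ ⊤) (show Γ(F, ⊤) from η.hom m) = 0 := hm
    obtain ⟨n, hn⟩ := h1 F U (fs.map φ) hle' _ hm' (φ f) (List.mem_map_of_mem hf)
    refine ⟨n, hη.1 ?_⟩
    rw [map_smul, map_zero]
    show resO (le_top : (⊤ : X.Opens) ≤ ⊤) (φ (f ^ n)) • (show Γ(F, ⊤) from η.hom m) = 0
    rw [resO_self, map_pow]
    exact hn
  have hh2 : ∀ y : secA F φ U, ∀ f ∈ fs, ∃ n : ℕ, ∃ m : M₀,
      (η ≫ resLA F φ (le_top : U ≤ ⊤)).hom m = f ^ n • y := by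
    intro y f hf
    obtain ⟨n, t, ht⟩ := h2 F U hUc (fs.map φ) hle' (show Γ(F, U) from y) (φ f)
      (List.mem_map_of_mem hf)
    obtain ⟨m, hm⟩ := hη.2 (show secA F φ ⊤ from t)
    refine ⟨n, m, ?_⟩
    show res F (le_top : U ≤ ⊤) (show Γ(F, ⊤) from η.hom m) =
      resO (le_top : U ≤ ⊤) (φ (f ^ n)) • (show Γ(F, U) from y)
    rw [hm, map_pow, map_pow]
    exact ht
  have hh3a : ∀ y : secA F φ U, (∀ f ∈ fs, ∃ n : ℕ, f ^ n • y = 0) → y = 0 := by
    intro y hy
    refine TopCat.Sheaf.eq_of_locally_eq' ⟨F.presheaf, F.isSheaf⟩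
      (fun i : {f // f ∈ fs} => X.basicOpen (φ i.1)) U
      (fun i => homOfLE (hle i.1 i.2)) ?_ (show Γ(F, U) from y) 0 (fun i => ?_)
    · rw [hU]
      exact iSup₂_le fun f hf =>
        le_iSup (fun i : {f // f ∈ fs} => X.basicOpen (φ i.1)) ⟨f, hf⟩
    · obtain ⟨n, hn⟩ := hy i.1 i.2
      have e1 : (resLA F φ (hle i.1 i.2)).hom (i.1 ^ n • y) = 0 := by rw [hn, map_zero]
      rw [map_smul] at e1
      have e2 := eq_zero_of_pow_smul_eq_zeroA F φ i.1 _ le_rfl _ n e1
      rw [map_zero]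
      exact e2
  have hh3b := h3b_auxA F φ fs fs (fun _ h => h) U hU
  obtain ⟨e⟩ := nonempty_coker_equiv fs (η ≫ resLA F φ (le_top : U ≤ ⊤)) hh1 hh2 hh3a hh3b
  constructor
  · intro hs
    have htop : LinearMap.range (η ≫ resLA F φ (le_top : U ≤ ⊤)).hom = ⊤ := by
      rw [LinearMap.range_eq_top]
      intro y
      obtain ⟨t, ht⟩ := hs (show Γ(F, U) from y)
      obtain ⟨m, hm⟩ := hη.2 (show secA F φ ⊤ from t)
      refine ⟨m, ?_⟩
      show res F (le_top : U ≤ ⊤) (show Γ(F, ⊤) from η.hom m) = y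
      rw [hm]
      exact ht
    have : Subsingleton
        ((secA F φ U) ⧸ LinearMap.range (η ≫ resLA F φ (le_top : U ≤ ⊤)).hom) :=
      Submodule.Quotient.subsingleton_iff.2 htop
    exact e.symm.injective.subsingleton
  · intro hs y
    have : Subsingleton
        ((secA F φ U) ⧸ LinearMap.range (η ≫ resLA F φ (le_top : U ≤ ⊤)).hom) :=
      e.injective.subsingleton
    have htop := Submodule.Quotient.subsingleton_iff.1 this
    have hy : (show secA F φ U from y) ∈
        LinearMap.range (η ≫ resLA F φ (le_top : U ≤ ⊤)).hom := by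
      rw [htop]
      trivial
    obtain ⟨m, hm⟩ := hy
    exact ⟨η.hom m, hm⟩

end coker

end Groth.Agent.Helper17.CL
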