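import Groth.Agent.Lib.Helper17.CL1
import Groth.Prelude.Def_LocCohZ

/-!
# helper17: flasqueness of `M~` for injective `M` and Koszul cohomology (S6033)
-/

open CategoryTheory Limits AlgebraicGeometry Opposite TopologicalSpace
universe u

attribute [local instance] HasDerivedCategory.standard

namespace Groth.Agent.Helper17.CL

open DerCA Groth.Agent.Helper13.Qcqs Groth.Agent.Helper11.CechTors Groth.Agent.Helper17.CK

section higher

variable {R : Type u} [CommRing R]

theorem isZero_cocone {K L : DRing.Cx R} (ψ : K ⟶ L) (n : ℤ) (hL : IsZero (L.homology (n - 1)))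
    (hK : IsZero (K.homology n)) : IsZero ((CochainComplex.mappingCocone ψ).homology n) := by
  have hT := DerivedCategory.mappingCocone_triangle_distinguished ψ
  have hex := CochainComplex.homologyMap_exact₁_of_distTriang
    (CochainComplex.mappingCocone.triangle ψ) hT (n - 1) n (by omega)
  exact hex.isZero_X₂ (hL.eq_of_src _ _) (hK.eq_of_tgt _ _)

theorem isZero_locCx_homology (S : Submonoid R) (K : DRing.Cx R) (n : ℤ)
    (h : IsZero (K.homology n)) : IsZero (((locCx S).obj K).homology n) := by
  have b : ((locCx S).obj K).homology n ≅ (locFunctor S).obj (K.homology n) :=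
    (K.sc n).mapHomologyIso (locFunctor S)
  exact IsZero.of_iso ((locFunctor S).map_isZero h) b

/-- if `H¹` of the extended Čech complex of `M` vanishes for all lists then so do all the
higher cohomology modules -/
theorem higher (M : ModuleCat.{u} R) (h1 : ∀ fs : List R, IsZero (extCechH fs M 1)) :
    ∀ (fs : List R) (i : ℤ), 0 < i → IsZero (extCechH fs M i)
  | [], i, hi => by
    have : ((HomologicalComplex.single (ModuleCat.{u} R) (ComplexShape.up ℤ) 0).obj M).ExactAt i :=
      HomologicalComplex.exactAt_single_obj _ _ _ _ (by omega)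
    exact (HomologicalComplex.exactAt_iff_isZero_homology _ _).1 this
  | f :: fs, i, hi => by
    by_cases h : i = 1
    · subst h
      exact h1 (f :: fs)
    · have hi2 : 0 < i - 1 := by omega
      exact isZero_cocone (locCxUnit (Submonoid.powers f) (extCech M fs)) i
        (isZero_locCx_homology _ _ _ (higher M h1 fs (i - 1) hi2)) (higher M h1 fs i hi)

end higher

section flasque

variable {X : Scheme.{u}} (F : X.Modules)

theorem surj_of_flasque (h : TopCat.Sheaf.IsFlasque (Coh.toAb F)) (U : X.Opens) :
    Function.Surjective (res F (le_top : U ≤ ⊤)) := by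
  have h1 := h.epi (homOfLE (le_top : U ≤ ⊤)).op
  have h2 := (AddCommGrpCat.epi_iff_surjective _).1 h1
  intro y
  obtain ⟨t, ht⟩ := h2 y
  exact ⟨t, ht⟩

theorem flasque_of_surj (h : ∀ V : X.Opens, Function.Surjective (res F (le_top : V ≤ ⊤))) :
    TopCat.Sheaf.IsFlasque (Coh.toAb F) := by
  constructor
  intro U V i
  rw [AddCommGrpCat.epi_iff_surjective]
  intro y
  obtain ⟨t, ht⟩ := h V.unop y
  refine ⟨res F (le_top : U.unop ≤ ⊤) t, ?_⟩
  have hi : i = (homOfLE (leOfHom i.unop)).op := Subsingleton.elim _ _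
  rw [hi]
  show res F (leOfHom i.unop) (res F le_top t) = y
  rw [res_res]
  exact ht

end flasque

section spec

variable (A : Type u) [CommRing A] (M : Type u) [AddCommGroup M] [Module A M]

noncomputable abbrev φs : A →+* Γ(Spec (CommRingCat.of A), ⊤) :=
  (Scheme.ΓSpecIso (CommRingCat.of A)).inv.hom

noncomputable abbrev Fs : (Spec (CommRingCat.of A)).Modules :=
  tilde (R := CommRingCat.of A) (ModuleCat.of A M)

noncomputable def ηs : ModuleCat.of A M ⟶ secA (Fs A M) (φs A) ⊤ :=
  ModuleCat.ofHom (X := M) (Y := secA (Fs A M) (φs A) ⊤)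
    { toFun := (tilde.toOpen (R := CommRingCat.of A) (ModuleCat.of A M) ⊤).hom
      map_add' := map_add _
      map_smul' := fun a m =>
        (tilde.toOpen (R := CommRingCat.of A) (ModuleCat.of A M) ⊤).hom.map_smul a m }

theorem ηs_bijective : Function.Bijective (ηs A M).hom :=
  (ConcreteCategory.isIso_iff_bijective
    (tilde.toOpen (R := CommRingCat.of A) (ModuleCat.of A M) ⊤)).1
    (tilde.isIso_toOpen_top (R := CommRingCat.of A) (M := ModuleCat.of A M))

theorem surj_iff_spec [NoetherianSpace (PrimeSpectrum A)] (fs : List A)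
    (U : (Spec (CommRingCat.of A)).Opens)
    (hU : U = ⨆ f ∈ fs, (Spec (CommRingCat.of A)).basicOpen (φs A f)) :
    Function.Surjective (res (Fs A M) (le_top : U ≤ ⊤)) ↔
      Subsingleton (extCechH fs (ModuleCat.of A M) 1) :=
  surjective_iff (Fs A M) (φs A) fs U hU
    (@NoetherianSpace.isCompact _ _ (show NoetherianSpace (PrimeSpectrum A) from inferInstance) _)
    (ModuleCat.of A M) (ηs A M) (ηs_bijective A M)

end spec

theorem main6033 (A : Type u) [CommRing A]
    [NoetherianSpace (PrimeSpectrum A)] :
    ((∀ (M : Type u) [AddCommGroup M] [Module A M], Module.Injective A M →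
        TopCat.Sheaf.IsFlasque (Coh.toAb (AlgebraicGeometry.tilde (R := CommRingCat.of A) (ModuleCat.of A M)))) ↔
      ∀ (fs : List A) (M : Type u) [AddCommGroup M] [Module A M], Module.Injective A M →
        Subsingleton (CohIII.koszulHLim fs (ModuleCat.of A M) 1)) ∧
    ((∀ (M : Type u) [AddCommGroup M] [Module A M], Module.Injective A M →
        TopCat.Sheaf.IsFlasque (Coh.toAb (AlgebraicGeometry.tilde (R := CommRingCat.of A) (ModuleCat.of A M)))) →
      ∀ (fs : List A) (M : Type u) [AddCommGroup M] [Module A M], Module.Injective A M →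
        ∀ i : ℕ, 0 < i → Subsingleton (CohIII.koszulHLim fs (ModuleCat.of A M) i)) := by
  have II : (∀ (M : Type u) [AddCommGroup M] [Module A M], Module.Injective A M →
        TopCat.Sheaf.IsFlasque (Coh.toAb (AlgebraicGeometry.tilde (R := CommRingCat.of A) (ModuleCat.of A M)))) →
      ∀ (fs : List A) (M : Type u) [AddCommGroup M] [Module A M], Module.Injective A M →
        ∀ i : ℕ, 0 < i → Subsingleton (CohIII.koszulHLim fs (ModuleCat.of A M) i) := by
    intro hP fs M _ _ hM i hi
    obtain ⟨k⟩ := Groth.Agent.Helper17.KC.nonempty_koszulHLim_equiv (M := ModuleCat.of A M) fs i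
    have h1 : ∀ fs' : List A, IsZero (extCechH fs' (ModuleCat.of A M) 1) := by
      intro fs'
      have hs := surj_of_flasque (Fs A M) (hP M hM)
        (⨆ f ∈ fs', (Spec (CommRingCat.of A)).basicOpen (φs A f))
      have := (surj_iff_spec A M fs' _ rfl).1 hs
      exact ModuleCat.isZero_of_subsingleton _
    have hz := higher (ModuleCat.of A M) h1 fs (i : ℤ) (by exact_mod_cast hi)
    have := ModuleCat.subsingleton_of_isZero hz
    exact k.injective.subsingleton
  refine ⟨⟨fun hP fs M _ _ hM => II hP fs M hM 1 Nat.one_pos, ?_⟩, II⟩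
  intro hQ M _ _ hM
  apply flasque_of_surj
  intro V
  obtain ⟨s, hs, hVs⟩ := (isCompact_and_isOpen_iff_finite_and_eq_biUnion_basicOpen
    (X := Spec (CommRingCat.of A)) (U := (V : Set (Spec (CommRingCat.of A))))).1
      ⟨@NoetherianSpace.isCompact _ _
        (show NoetherianSpace (PrimeSpectrum A) from inferInstance) _, V.isOpen⟩
  let ψ : Γ(Spec (CommRingCat.of A), ⊤) →+* A := (Scheme.ΓSpecIso (CommRingCat.of A)).hom.hom
  have hφψ : ∀ g, φs A (ψ g) = g := fun g =>
    congrArg (fun h : Γ(Spec (CommRingCat.of A), ⊤) ⟶ Γ(Spec (CommRingCat.of A), ⊤) => h.hom g)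
      (Scheme.ΓSpecIso (CommRingCat.of A)).hom_inv_id
  have hV : V = ⨆ f ∈ hs.toFinset.toList.map ψ,
      (Spec (CommRingCat.of A)).basicOpen (φs A f) := by
    apply le_antisymm
    · intro x hx
      have hx' : x ∈ (V : Set (Spec (CommRingCat.of A))) := hx
      rw [hVs] at hx'
      obtain ⟨g, hg, hxg⟩ := Set.mem_iUnion₂.1 hx'
      simp only [Opens.mem_iSup]
      refine ⟨ψ g, List.mem_map_of_mem (by simpa using hg), ?_⟩
      rw [hφψ]
      exact hxg
    · refine iSup₂_le fun f hf => ?_
      obtain ⟨g, hg, rfl⟩ := List.mem_map.1 hf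
      rw [hφψ]
      intro x hx
      show x ∈ (V : Set (Spec (CommRingCat.of A)))
      rw [hVs]
      exact Set.mem_iUnion₂.2 ⟨g, by simpa using hg, hx⟩
  obtain ⟨k⟩ := Groth.Agent.Helper17.KC.nonempty_koszulHLim_equiv (M := ModuleCat.of A M)
    (hs.toFinset.toList.map ψ) 1
  have := hQ (hs.toFinset.toList.map ψ) M hM
  have h0 : Subsingleton (extCechH (hs.toFinset.toList.map ψ) (ModuleCat.of A M) 1) :=
    k.symm.injective.subsingleton
  exact (surj_iff_spec A M _ V hV).2 h0

end Groth.Agent.Helper17.CL
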