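import Mathlib

/-!
# Sections of constant sheaves: exactness
-/

open CategoryTheory Limits Opposite

namespace Groth.Agent.Helper17.CS

universe u

variable {C : Type u} [SmallCategory C] (J : GrothendieckTopology C)

section General

variable (A : Type (u + 1)) [LargeCategory A] {FA : A → A → Type u} {CA : A → Type u}
  [∀ X Y, FunLike (FA X Y) (CA X) (CA Y)] [ConcreteCategory A FA]
  [HasWeakSheafify J A] [J.PreservesSheafification (forget A)] [J.HasSheafCompose (forget A)]

/-- the sections functor of constant sheaves -/
noncomputable abbrev secFun (U : C) : A ⥤ A :=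
  constantSheaf J A ⋙ (sheafSections J A).obj (op U)

variable {A}

theorem surjective_sections_constantSheaf_map {X Y : A} (g : X ⟶ Y)
    (hg : Function.Surjective g) (U : C) :
    Function.Surjective (((constantSheaf J A).map g).hom.app (op U)) := by
  let e := constantCommuteCompose J (forget A)
  obtain ⟨σ, hσ⟩ := hg.hasRightInverse
  let σ' : (forget A).obj Y ⟶ (forget A).obj X := TypeCat.ofHom σ
  have hσ' : σ' ≫ (forget A).map g = 𝟙 _ := by
    ext y
    exact hσ y
  let s : (sheafCompose J (forget A)).obj ((constantSheaf J A).obj Y) ⟶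
      (sheafCompose J (forget A)).obj ((constantSheaf J A).obj X) :=
    e.hom.app Y ≫ (constantSheaf J (Type u)).map σ' ≫ e.inv.app X
  have hs : s ≫ (sheafCompose J (forget A)).map ((constantSheaf J A).map g) = 𝟙 _ := by
    have hn : (sheafCompose J (forget A)).map ((constantSheaf J A).map g) =
        e.hom.app X ≫ (constantSheaf J (Type u)).map ((forget A).map g) ≫ e.inv.app Y := by
      have hnat : (sheafCompose J (forget A)).map ((constantSheaf J A).map g) ≫ e.hom.app Y =
          e.hom.app X ≫ (constantSheaf J (Type u)).map ((forget A).map g) := e.hom.naturality g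
      rw [← Category.assoc, ← hnat, Category.assoc, Iso.hom_inv_id_app]
      exact (Category.comp_id _).symm
    rw [hn]
    change (e.hom.app Y ≫ (constantSheaf J (Type u)).map σ' ≫ e.inv.app X) ≫ _ = _
    simp only [Category.assoc, Iso.inv_hom_id_app_assoc]
    rw [← Functor.map_comp_assoc, hσ', CategoryTheory.Functor.map_id, Category.id_comp,
      Iso.hom_inv_id_app]
    rfl
  intro y
  refine ⟨s.hom.app (op U) y, ?_⟩
  have h1 := congrArg (fun φ => φ.hom.app (op U)) hs
  exact congrFun (congrArg (fun (φ : _ ⟶ _) => (φ : _ → _)) h1) y

end General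

section Ab

theorem preservesFiniteLimits_secFun_ab (U : C) :
    PreservesFiniteLimits (secFun J AddCommGrpCat.{u} U) := by
  have h1 : PreservesFiniteLimits (constantSheaf J AddCommGrpCat.{u}) := by
    unfold constantSheaf
    infer_instance
  have h2 : PreservesFiniteLimits ((sheafSections J AddCommGrpCat.{u}).obj (op U)) := by
    change PreservesFiniteLimits (sheafToPresheaf J _ ⋙ (evaluation _ _).obj (op U))
    infer_instance
  infer_instance

theorem main9097 (S : ShortComplex AddCommGrpCat.{u}) (hS : S.ShortExact) (U : C)
    [(constantSheaf J AddCommGrpCat.{u} ⋙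
      (sheafSections J AddCommGrpCat.{u}).obj (op U)).PreservesZeroMorphisms] :
    (S.map (constantSheaf J AddCommGrpCat.{u} ⋙
      (sheafSections J AddCommGrpCat.{u}).obj (op U))).ShortExact := by
  have hl := preservesFiniteLimits_secFun_ab J U
  have := hS.mono_f
  have := hS.epi_g
  have hsurj : Function.Surjective S.g := (AddCommGrpCat.epi_iff_surjective _).mp hS.epi_g
  have hex : (S.map (secFun J AddCommGrpCat.{u} U)).Exact :=
    hS.exact.map_of_mono_of_preservesKernel _ inferInstance inferInstance
  have hmono : Mono ((secFun J AddCommGrpCat.{u} U).map S.f) := inferInstance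
  have hepi : Epi ((secFun J AddCommGrpCat.{u} U).map S.g) :=
    (AddCommGrpCat.epi_iff_surjective _).mpr (surjective_sections_constantSheaf_map J S.g hsurj U)
  exact ShortComplex.ShortExact.mk' hex hmono hepi

end Ab

end Groth.Agent.Helper17.CS
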