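import Mathlib

/-!
# Helper17: algebra endomorphisms of a matrix algebra over a field are inner
-/

set_option autoImplicit false

namespace Groth.Agent.Helper17

open Matrix

theorem exists_conj_of_algHom_matrix (F : Type*) [Field F] (n : Type*) [Fintype n] [DecidableEq n]
    (φ : Matrix n n F →ₐ[F] Matrix n n F) :
    ∃ P : Matrix n n F, IsUnit P ∧ ∀ X, φ X = P * X * P⁻¹ := by
  classical
  rcases isEmpty_or_nonempty n with h | h
  · exact ⟨1, isUnit_one, fun X => Subsingleton.elim _ _⟩
  obtain ⟨i₀⟩ := h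
  have : Nonempty n := ⟨i₀⟩
  have hinj : Function.Injective φ := (φ : Matrix n n F →+* Matrix n n F).injective
  let E : n → Matrix n n F := fun j => Matrix.single j i₀ (1 : F)
  have hE0 : E i₀ ≠ 0 := by
    intro h0
    have := congrFun (congrFun h0 i₀) i₀
    simp [E] at this
  have hφE0 : φ (E i₀) ≠ 0 := fun h0 => hE0 (hinj (h0.trans (map_zero φ).symm))
  have hw : ∃ w : n → F, φ (E i₀) *ᵥ w ≠ 0 := by
    by_contra hcon
    push Not at hcon
    apply hφE0
    ext a b
    have := congrFun (hcon (Pi.single b 1)) a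
    simpa [Matrix.mulVec_single_one] using this
  obtain ⟨w, hw⟩ := hw
  set v₀ : n → F := φ (E i₀) *ᵥ w with hv₀
  let P : Matrix n n F := Matrix.of fun a j => (φ (E j) *ᵥ v₀) a
  have hXE : ∀ (X : Matrix n n F) (j : n), X * E j = ∑ b, X b j • E b := by
    intro X j
    ext a c
    simp only [E, Matrix.sum_apply, Matrix.smul_apply, Matrix.mul_apply, Matrix.single_apply, smul_eq_mul]
    by_cases hc : i₀ = c
    · simp [hc]
    · simp [hc]
  have key : ∀ X : Matrix n n F, φ X * P = P * X := by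
    intro X
    ext a j
    have h1 : (φ X * P) a j = (φ X *ᵥ (φ (E j) *ᵥ v₀)) a := by
      simp only [Matrix.mul_apply, Matrix.mulVec, dotProduct, P, Matrix.of_apply]
    rw [h1, Matrix.mulVec_mulVec, ← map_mul, hXE, map_sum, Matrix.sum_mulVec]
    simp only [map_smul, Matrix.smul_mulVec, Finset.sum_apply, Pi.smul_apply, smul_eq_mul,
      Matrix.mul_apply, P, Matrix.of_apply]
    exact Finset.sum_congr rfl fun b _ => mul_comm _ _
  have hEE : E i₀ * E i₀ = E i₀ := by
    simp only [E, Matrix.single_mul_single_same, mul_one]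
  have hPcol : P *ᵥ Pi.single i₀ 1 = v₀ := by
    have h2 : P *ᵥ Pi.single i₀ 1 = φ (E i₀) *ᵥ v₀ := by
      ext a
      simp [P]
    rw [h2, hv₀, Matrix.mulVec_mulVec, ← map_mul, hEE]
  have hdet : P.det ≠ 0 := by
    intro hd
    obtain ⟨v, hv0, hv⟩ := Matrix.exists_mulVec_eq_zero_iff.mpr hd
    obtain ⟨c, hc⟩ := Function.ne_iff.mp hv0
    have hall : ∀ u : n → F, P *ᵥ u = 0 := by
      intro u
      let Y : Matrix n n F := Matrix.of fun a b => u a * (if b = c then (v c)⁻¹ else 0)
      have hY : Y *ᵥ v = u := by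
        ext a
        simp only [Matrix.mulVec, dotProduct, Y, Matrix.of_apply]
        simp only [mul_ite, mul_zero, ite_mul, zero_mul, Finset.sum_ite_eq', Finset.mem_univ, if_true]
        rw [mul_assoc, inv_mul_cancel₀ hc, mul_one]
      rw [← hY, Matrix.mulVec_mulVec, ← key, ← Matrix.mulVec_mulVec, hv, Matrix.mulVec_zero]
    apply hw
    rw [← hPcol, hall]
  have hPu : IsUnit P.det := isUnit_iff_ne_zero.mpr hdet
  refine ⟨P, (Matrix.isUnit_iff_isUnit_det P).mpr hPu, fun X => ?_⟩
  rw [← key, Matrix.mul_assoc, Matrix.mul_nonsing_inv P hPu, Matrix.mul_one]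

end Groth.Agent.Helper17
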