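import Groth.Agent.Lib.Helper17.CSA1
import Groth.Agent.Lib.Helper17.SN1

/-!
# Helper17: a finite-dimensional central simple algebra is Azumaya; Skolem-Noether for its endomorphisms
-/

set_option autoImplicit false
open scoped TensorProduct

namespace Groth.Agent.Helper17

open MulOpposite

theorem mulLeftRight_bijective (K : Type*) [Field K] (A : Type*) [Ring A] [Algebra K A]
    [Algebra.IsCentral K A] [IsSimpleRing A] [FiniteDimensional K A] :
    Function.Bijective (AlgHom.mulLeftRight K A) := by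
  haveI : IsSimpleRing (A ⊗[K] Aᵐᵒᵖ) := isSimpleRing_tensor K A Aᵐᵒᵖ
  haveI : Nontrivial (Module.End K A) := inferInstance
  have hinj : Function.Injective (AlgHom.mulLeftRight K A) :=
    (AlgHom.mulLeftRight K A : A ⊗[K] Aᵐᵒᵖ →+* Module.End K A).injective
  have hfr : Module.finrank K (A ⊗[K] Aᵐᵒᵖ) = Module.finrank K (Module.End K A) := by
    rw [Module.finrank_tensorProduct, Module.finrank_linearMap,
      ← (MulOpposite.opLinearEquiv K : A ≃ₗ[K] Aᵐᵒᵖ).finrank_eq]
  exact ⟨hinj, (LinearMap.injective_iff_surjective_of_finrank_eq_finrank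
    (f := (AlgHom.mulLeftRight K A).toLinearMap) hfr).mp hinj⟩

/-- Skolem-Noether: every algebra endomorphism of a finite-dimensional central simple algebra is inner -/
theorem exists_conj_of_algHom_csa (K : Type*) [Field K] (A : Type*) [Ring A] [Algebra K A]
    [Algebra.IsCentral K A] [IsSimpleRing A] [FiniteDimensional K A] (ψ : A →ₐ[K] A) :
    ∃ u : Aˣ, ∀ a : A, ψ a = (u : A) * a * ((u⁻¹ : Aˣ) : A) := by
  classical
  let μ : (A ⊗[K] Aᵐᵒᵖ) ≃ₐ[K] Module.End K A :=
    AlgEquiv.ofBijective (AlgHom.mulLeftRight K A) (mulLeftRight_bijective K A)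
  have hμ : ∀ (a b x : A), μ (a ⊗ₜ[K] op b) x = a * x * b := fun a b x =>
    AlgHom.mulLeftRight_apply K A a (op b) x
  let Ψ : A ⊗[K] Aᵐᵒᵖ →ₐ[K] A ⊗[K] Aᵐᵒᵖ := Algebra.TensorProduct.map ψ (AlgHom.id K Aᵐᵒᵖ)
  let Φ : Module.End K A →ₐ[K] Module.End K A := (μ : _ →ₐ[K] _).comp (Ψ.comp (μ.symm : _ →ₐ[K] _))
  have hΦ : ∀ a b : A, Φ (μ (a ⊗ₜ[K] op b)) = μ (ψ a ⊗ₜ[K] op b) := by
    intro a b
    change μ (Ψ (μ.symm (μ (a ⊗ₜ[K] op b)))) = _
    rw [μ.symm_apply_apply]
    rfl
  let bs := Module.finBasis K A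
  let E : Module.End K A ≃ₐ[K] Matrix (Fin (Module.finrank K A)) (Fin (Module.finrank K A)) K :=
    algEquivMatrix bs
  let φ : Matrix (Fin (Module.finrank K A)) (Fin (Module.finrank K A)) K →ₐ[K]
      Matrix (Fin (Module.finrank K A)) (Fin (Module.finrank K A)) K :=
    (E : _ →ₐ[K] _).comp (Φ.comp (E.symm : _ →ₐ[K] _))
  obtain ⟨P, hP, hconj⟩ := exists_conj_of_algHom_matrix K (Fin (Module.finrank K A)) φ
  have hPdet : IsUnit P.det := (Matrix.isUnit_iff_isUnit_det P).mp hP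
  set p : Module.End K A := E.symm P with hp
  set q : Module.End K A := E.symm P⁻¹ with hq
  have hpq : p * q = 1 := by
    rw [hp, hq, ← map_mul, Matrix.mul_nonsing_inv P hPdet, map_one]
  have hqp : q * p = 1 := by
    rw [hp, hq, ← map_mul, Matrix.nonsing_inv_mul P hPdet, map_one]
  have hΦT : ∀ T : Module.End K A, Φ T = p * T * q := by
    intro T
    have h1 : φ (E T) = P * E T * P⁻¹ := hconj (E T)
    have h2 : φ (E T) = E (Φ T) := by
      change E (Φ (E.symm (E T))) = _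
      rw [E.symm_apply_apply]
    rw [h2] at h1
    have h3 := congrArg E.symm h1
    rw [E.symm_apply_apply, map_mul, map_mul, E.symm_apply_apply] at h3
    exact h3
  -- right multiplications commute with `p` and `q`
  have hR : ∀ b : A, p * μ (1 ⊗ₜ[K] op b) = μ (1 ⊗ₜ[K] op b) * p := by
    intro b
    have h1 := hΦ 1 b
    rw [map_one, hΦT] at h1
    have h2 : p * μ (1 ⊗ₜ[K] op b) * q * p = μ (1 ⊗ₜ[K] op b) * p := congrArg (fun T => T * p) h1
    rw [mul_assoc, hqp, mul_one] at h2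
    exact h2
  have hRq : ∀ b : A, q * μ (1 ⊗ₜ[K] op b) = μ (1 ⊗ₜ[K] op b) * q := by
    intro b
    have h1 : q * (p * μ (1 ⊗ₜ[K] op b)) * q = q * (μ (1 ⊗ₜ[K] op b) * p) * q :=
      congrArg (fun T => q * T * q) (hR b)
    rw [← mul_assoc, hqp, one_mul, mul_assoc, mul_assoc, hpq, mul_one] at h1
    exact h1.symm
  have hpx : ∀ x : A, p x = p 1 * x := by
    intro x
    have h1 := LinearMap.congr_fun (hR x) 1
    simp only [Module.End.mul_apply, hμ, one_mul] at h1
    exact h1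
  have hqx : ∀ x : A, q x = q 1 * x := by
    intro x
    have h1 := LinearMap.congr_fun (hRq x) 1
    simp only [Module.End.mul_apply, hμ, one_mul] at h1
    exact h1
  have huv : p 1 * q 1 = 1 := by
    rw [← hpx, ← Module.End.mul_apply, hpq, Module.End.one_apply]
  have hvu : q 1 * p 1 = 1 := by
    rw [← hqx, ← Module.End.mul_apply, hqp, Module.End.one_apply]
  refine ⟨⟨p 1, q 1, huv, hvu⟩, fun a => ?_⟩
  change ψ a = p 1 * a * q 1
  have h1 := hΦ a 1
  rw [hΦT] at h1
  have h2 : p * μ (a ⊗ₜ[K] op 1) * q * p = μ (ψ a ⊗ₜ[K] op 1) * p := congrArg (fun T => T * p) h1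
  rw [mul_assoc, hqp, mul_one] at h2
  have h3 := LinearMap.congr_fun h2 1
  simp only [Module.End.mul_apply, hμ, mul_one] at h3
  rw [hpx a] at h3
  rw [h3, mul_assoc, huv, mul_one]

end Groth.Agent.Helper17
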