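import Groth.Agent.Lib.Helper17.CSA2

/-!
# Helper17: Skolem-Noether over the centre of a finite-dimensional simple algebra
-/

set_option autoImplicit false
open scoped TensorProduct

namespace Groth.Agent.Helper17

/-- A ring endomorphism of a simple algebra, finite-dimensional over a field `k`, which fixes
the centre pointwise is inner. -/
theorem exists_conj_of_ringHom_fix_center (k : Type*) [Field k] (A : Type*) [Ring A] [Algebra k A]
    [IsSimpleRing A] [FiniteDimensional k A] (ψ : A →+* A)
    (hψ : ∀ z ∈ Subring.center A, ψ z = z) :
    ∃ u : Aˣ, ∀ a : A, ψ a = (u : A) * a * ((u⁻¹ : Aˣ) : A) := by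
  classical
  letI : Field (Subring.center A) := (IsSimpleRing.isField_center A).toField
  haveI : Algebra.IsCentral (Subring.center A) A := by
    constructor
    intro z hz
    rw [Algebra.mem_bot]
    have hz' : z ∈ Subring.center A := by
      rw [Subring.mem_center_iff]
      exact Subalgebra.mem_center_iff.mp hz
    exact ⟨⟨z, hz'⟩, rfl⟩
  haveI : Module.Finite (Subring.center A) A := by
    obtain ⟨G, hG⟩ := (Module.finite_def.mp (inferInstance : Module.Finite k A))
    refine ⟨⟨G, ?_⟩⟩
    rw [eq_top_iff]
    intro x hxtop
    clear hxtop
    have hx : x ∈ Submodule.span k (G : Set A) := by rw [hG]; exact Submodule.mem_top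
    induction hx using Submodule.span_induction with
    | mem y hy => exact Submodule.subset_span hy
    | zero => exact Submodule.zero_mem _
    | add y y' _ _ hy hy' => exact Submodule.add_mem _ hy hy'
    | smul c y _ hy =>
      have hc : algebraMap k A c ∈ Subring.center A := by
        rw [Subring.mem_center_iff]
        intro g
        exact (Algebra.commutes c g).symm
      have h1 : c • y = (⟨algebraMap k A c, hc⟩ : Subring.center A) • y := by
        rw [Algebra.smul_def]
        rfl
      rw [h1]
      exact Submodule.smul_mem _ _ hy
  let ψ' : A →ₐ[Subring.center A] A :=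
    { ψ with
      commutes' := fun z => hψ z.1 z.2 }
  obtain ⟨u, hu⟩ := exists_conj_of_algHom_csa (Subring.center A) A ψ'
  exact ⟨u, fun a => hu a⟩

end Groth.Agent.Helper17
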