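import Mathlib
import Groth.Agent.Lib.Helper23.CountDense2

set_option autoImplicit false
universe u
open CategoryTheory AlgebraicGeometry TopologicalSpace

namespace Groth.Agent.Helper17.CU

/-- a domain of finite type over an uncountable algebraically closed field has a maximal ideal
avoiding countably many given nonzero elements -/
theorem exists_maximal_avoiding (k : Type u) [Field k] [IsAlgClosed k] [Uncountable k]
    (D : Type u) [CommRing D] [IsDomain D] [Algebra k D] [Algebra.FiniteType k D]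
    (g : ℕ → D) (hg : ∀ n, g n ≠ 0) :
    ∃ m : Ideal D, m.IsMaximal ∧ ∀ n, g n ∉ m := by
  classical
  obtain ⟨t, ht⟩ := (Algebra.FiniteType.out : (⊤ : Subalgebra k D).FG)
  let ι : D →ₐ[k] FractionRing D := IsScalarTower.toAlgHom k D (FractionRing D)
  have hinj : Function.Injective ι := IsFractionRing.injective D (FractionRing D)
  let s : Set (FractionRing D) := (ι '' (↑t : Set D)) ∪ Set.range (fun n => (ι (g n))⁻¹)
  have hs : s.Countable := (t.countable_toSet.image _).union (Set.countable_range _)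
  have hrank : Module.rank k (Algebra.adjoin k s) ≤ Cardinal.aleph0 := by
    refine (Algebra.rank_adjoin_le s).trans ?_
    exact max_le (Cardinal.mk_le_aleph0_iff.2 hs.to_subtype) le_rfl
  have hD : ∀ d : D, ι d ∈ Algebra.adjoin k s := by
    intro d
    have h1 : d ∈ Algebra.adjoin k (↑t : Set D) := by rw [ht]; trivial
    have h2 : ι d ∈ (Algebra.adjoin k (↑t : Set D)).map ι := ⟨d, h1, rfl⟩
    rw [AlgHom.map_adjoin] at h2
    exact Algebra.adjoin_mono Set.subset_union_left h2
  let φ₀ : D →ₐ[k] Algebra.adjoin k s := ι.codRestrict (Algebra.adjoin k s) hD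
  haveI : Nontrivial (Algebra.adjoin k s) :=
    ⟨⟨0, 1, fun h => zero_ne_one (congrArg Subtype.val h)⟩⟩
  obtain ⟨M, hM⟩ := Ideal.exists_maximal (Algebra.adjoin k s)
  haveI := hM
  letI : Field ((Algebra.adjoin k s) ⧸ M) := Ideal.Quotient.field M
  let ψ : D →ₐ[k] ((Algebra.adjoin k s) ⧸ M) := (Ideal.Quotient.mkₐ k M).comp φ₀
  have hunit : ∀ n, ψ (g n) ≠ 0 := by
    intro n h0
    have hne : ι (g n) ≠ 0 := fun h => hg n (hinj (by rw [h, map_zero]))
    let v : Algebra.adjoin k s := ⟨(ι (g n))⁻¹, Algebra.subset_adjoin (Or.inr ⟨n, rfl⟩)⟩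
    have h1 : φ₀ (g n) * v = 1 := by
      apply Subtype.ext
      show ι (g n) * (ι (g n))⁻¹ = 1
      exact mul_inv_cancel₀ hne
    have h2 : ψ (g n) * Ideal.Quotient.mk M v = 1 := by
      show Ideal.Quotient.mk M (φ₀ (g n)) * Ideal.Quotient.mk M v = 1
      rw [← map_mul, h1, map_one]
    rw [h0, zero_mul] at h2
    exact zero_ne_one h2
  have hrankκ : Module.rank k ((Algebra.adjoin k s) ⧸ M) ≤ Cardinal.aleph0 :=
    (LinearMap.rank_le_of_surjective (Ideal.Quotient.mkₐ k M).toLinearMap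
      Ideal.Quotient.mk_surjective).trans hrank
  haveI : Algebra.IsAlgebraic k ((Algebra.adjoin k s) ⧸ M) := by
    refine ⟨fun x => ?_⟩
    by_contra hx
    have hx' : Transcendental k x := hx
    have h1 := hx'.linearIndependent_sub_inv.cardinal_le_rank
    have h2 : Cardinal.mk k ≤ Cardinal.aleph0 := h1.trans hrankκ
    exact not_countable (Cardinal.mk_le_aleph0_iff.1 h2)
  have hsurj : Function.Surjective (algebraMap k ((Algebra.adjoin k s) ⧸ M)) :=
    (IsAlgClosed.algebraMap_bijective_of_isIntegral).2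
  have hψ : Function.Surjective ψ := by
    intro y
    obtain ⟨c, rfl⟩ := hsurj y
    exact ⟨algebraMap k D c, ψ.commutes c⟩
  refine ⟨RingHom.ker ψ, RingHom.ker_isMaximal_of_surjective ψ hψ, fun n hn => hunit n ?_⟩
  exact (RingHom.mem_ker).1 hn

/-- an irreducible closed subset whose closed points lie in a countable union of closed sets lies
in one of them -/
theorem key_lemma (k : Type u) [Field k] [IsAlgClosed k] [Uncountable k] (X : Scheme.{u})
    (sX : X ⟶ Spec (CommRingCat.of k)) [LocallyOfFiniteType sX] [JacobsonSpace X]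
    (T : Set X) (hT : IsIrreducible T) (hTc : IsClosed T) (W : ℕ → Set X)
    (hW : ∀ n, IsClosed (W n))
    (h : ∀ x ∈ T, IsClosed ({x} : Set X) → ∃ n, x ∈ W n) : ∃ n, T ⊆ W n := by
  by_contra hcon
  push Not at hcon
  obtain ⟨x₀, hx₀⟩ := hT.nonempty
  obtain ⟨U, hU, hxU, -⟩ :=
    exists_isAffineOpen_mem_and_subset (X := X) (x := x₀) (U := ⊤) trivial
  have hft : (sX.appLE ⊤ U (by simp)).hom.FiniteType :=
    sX.finiteType_appLE (isAffineOpen_top _) hU _
  let φk : k →+* Γ(X, U) :=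
    (sX.appLE ⊤ U (by simp)).hom.comp (Scheme.ΓSpecIso (CommRingCat.of k)).inv.hom
  have hφk : φk.FiniteType := by
    refine RingHom.FiniteType.comp hft (RingHom.FiniteType.of_surjective _ ?_)
    exact ((ConcreteCategory.isIso_iff_bijective _).1 inferInstance).2
  letI := φk.toAlgebra
  haveI : Algebra.FiniteType k Γ(X, U) := hφk
  let f : PrimeSpectrum Γ(X, U) → X := fun y => hU.fromSpec y
  have hf : Topology.IsOpenEmbedding f := hU.fromSpec.isOpenEmbedding
  have hrange : Set.range f = (U : Set X) := hU.range_fromSpec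
  obtain ⟨y₀, hy₀⟩ : ∃ y, f y = x₀ := by
    have : x₀ ∈ Set.range f := by rw [hrange]; exact hxU
    exact this
  have hT'irr : IsIrreducible (f ⁻¹' T) :=
    ⟨⟨y₀, by show f y₀ ∈ T; rw [hy₀]; exact hx₀⟩, hT.isPreirreducible.preimage hf⟩
  have hT'cl : IsClosed (f ⁻¹' T) := hTc.preimage hf.continuous
  haveI hp : (PrimeSpectrum.vanishingIdeal (f ⁻¹' T)).IsPrime :=
    PrimeSpectrum.isIrreducible_iff_vanishingIdeal_isPrime.1 hT'irr
  have hT'eq : f ⁻¹' T =
      PrimeSpectrum.zeroLocus (PrimeSpectrum.vanishingIdeal (f ⁻¹' T) : Set Γ(X, U)) := by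
    rw [PrimeSpectrum.zeroLocus_vanishingIdeal_eq_closure, hT'cl.closure_eq]
  have hex : ∀ n, ∃ a : Γ(X, U), a ∈ PrimeSpectrum.vanishingIdeal (f ⁻¹' W n) ∧
      a ∉ PrimeSpectrum.vanishingIdeal (f ⁻¹' T) := by
    intro n
    by_contra hno
    push Not at hno
    apply hcon n
    have hWcl : IsClosed (f ⁻¹' W n) := (hW n).preimage hf.continuous
    have hWeq : f ⁻¹' W n =
        PrimeSpectrum.zeroLocus (PrimeSpectrum.vanishingIdeal (f ⁻¹' W n) : Set Γ(X, U)) := by
      rw [PrimeSpectrum.zeroLocus_vanishingIdeal_eq_closure, hWcl.closure_eq]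
    have h1 : f ⁻¹' T ⊆ f ⁻¹' W n := by
      rw [hT'eq, hWeq]
      exact PrimeSpectrum.zeroLocus_anti_mono (fun a ha => hno a ha)
    have h2 : T ⊆ closure (T ∩ (U : Set X)) :=
      subset_closure_inter_of_isPreirreducible_of_isOpen hT.isPreirreducible U.isOpen
        ⟨x₀, hx₀, hxU⟩
    refine h2.trans ((hW n).closure_subset_iff.2 ?_)
    rintro x ⟨hxT, hxU'⟩
    obtain ⟨y, rfl⟩ : x ∈ Set.range f := by rw [hrange]; exact hxU'
    exact h1 hxT
  choose g hgI hgp using hex
  haveI : Algebra.FiniteType k (Γ(X, U) ⧸ PrimeSpectrum.vanishingIdeal (f ⁻¹' T)) :=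
    Algebra.FiniteType.of_surjective
      (Ideal.Quotient.mkₐ k (PrimeSpectrum.vanishingIdeal (f ⁻¹' T)))
      (Ideal.Quotient.mkₐ_surjective k _)
  obtain ⟨m, hm, hgm⟩ := exists_maximal_avoiding k
    (Γ(X, U) ⧸ PrimeSpectrum.vanishingIdeal (f ⁻¹' T))
    (fun n => Ideal.Quotient.mk _ (g n))
    (fun n h0 => hgp n (Ideal.Quotient.eq_zero_iff_mem.1 h0))
  haveI hm' : (m.comap (Ideal.Quotient.mk (PrimeSpectrum.vanishingIdeal (f ⁻¹' T)))).IsMaximal :=
    Ideal.comap_isMaximal_of_surjective _ Ideal.Quotient.mk_surjective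
  let y : PrimeSpectrum Γ(X, U) :=
    ⟨m.comap (Ideal.Quotient.mk (PrimeSpectrum.vanishingIdeal (f ⁻¹' T))), hm'.isPrime⟩
  have hyT : y ∈ f ⁻¹' T := by
    rw [hT'eq, PrimeSpectrum.mem_zeroLocus]
    intro a ha
    show Ideal.Quotient.mk _ a ∈ m
    rw [Ideal.Quotient.eq_zero_iff_mem.2 ha]
    exact m.zero_mem
  have hycl : IsClosed ({y} : Set (PrimeSpectrum Γ(X, U))) :=
    (PrimeSpectrum.isClosed_singleton_iff_isMaximal y).2 hm'
  have hxcl : IsClosed ({f y} : Set X) := by
    apply isClosed_singleton_of_isLocallyClosed_singleton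
    rw [← Set.image_singleton]
    exact hycl.isLocallyClosed.image hf.isInducing hf.isOpen_range.isLocallyClosed
  obtain ⟨n, hn⟩ := h (f y) hyT hxcl
  have hmem : g n ∈ m.comap (Ideal.Quotient.mk (PrimeSpectrum.vanishingIdeal (f ⁻¹' T))) :=
    (PrimeSpectrum.mem_vanishingIdeal _ _).1 (hgI n) y hn
  exact hgm n hmem

end Groth.Agent.Helper17.CU
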