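import Groth.Agent.Lib.Helper17.CU1

set_option autoImplicit false
universe u
open CategoryTheory AlgebraicGeometry TopologicalSpace

namespace Groth.Agent.Helper17.CU

/-- the property defining the irredundant decomposition -/
def Sol (X : Scheme.{u}) (Z : ℕ → Closeds X) (S : Set (Closeds X)) : Prop :=
  S.Countable ∧ (∀ T ∈ S, IsIrreducible (T : Set X)) ∧
    IsAntichain (· ≤ ·) S ∧
    {x : X | IsClosed ({x} : Set X) ∧ ∃ T ∈ S, x ∈ T} =
      {x : X | IsClosed ({x} : Set X) ∧ ∃ n, x ∈ Z n}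

theorem main16917 (k : Type u) [Field k] [IsAlgClosed k]
    [Uncountable k] (X : Scheme.{u}) (sX : X ⟶ Spec (CommRingCat.of k)) [LocallyOfFiniteType sX]
    [QuasiCompact sX] (Z : ℕ → Closeds X) :
    ∃! S : Set (Closeds X), Sol X Z S := by
  classical
  haveI : CompactSpace X := (quasiCompact_iff_compactSpace sX).1 inferInstance
  haveI : IsLocallyNoetherian X := LocallyOfFiniteType.isLocallyNoetherian sX
  haveI : IsNoetherian X := {}
  haveI : JacobsonSpace X := LocallyOfFiniteType.jacobsonSpace sX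
  haveI : WellFoundedGT (IrreducibleCloseds X) :=
    Groth.Agent.Helper23.CountDense.wellFoundedGT_irreducibleCloseds X
  -- the key lemma for countable families
  have KL : ∀ (T : Closeds X), IsIrreducible (T : Set X) → ∀ 𝒲 : Set (Closeds X), 𝒲.Countable →
      (∀ x ∈ T, IsClosed ({x} : Set X) → ∃ W ∈ 𝒲, x ∈ W) → ∃ W ∈ 𝒲, T ≤ W := by
    intro T hT 𝒲 h𝒲 h
    have hne : 𝒲.Nonempty := by
      obtain ⟨x, hx, hxc⟩ := nonempty_inter_closedPoints hT.nonempty T.isClosed.isLocallyClosed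
      obtain ⟨W, hW, -⟩ := h x hx hxc
      exact ⟨W, hW⟩
    obtain ⟨e, he⟩ := h𝒲.exists_eq_range hne
    obtain ⟨n, hn⟩ := key_lemma k X sX (T : Set X) hT T.isClosed (fun n => (e n : Set X))
      (fun n => (e n).isClosed) (by
        intro x hx hxc
        obtain ⟨W, hW, hxW⟩ := h x hx hxc
        rw [he] at hW
        obtain ⟨n, rfl⟩ := hW
        exact ⟨n, hxW⟩)
    exact ⟨e n, by rw [he]; exact ⟨n, rfl⟩, hn⟩
  -- uniqueness core
  have hsub : ∀ S₁ S₂ : Set (Closeds X), Sol X Z S₁ → Sol X Z S₂ → S₁ ⊆ S₂ := by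
    rintro S₁ S₂ ⟨h1c, h1i, h1a, h1e⟩ ⟨h2c, h2i, h2a, h2e⟩ T hT
    have cover : ∀ (Sa Sb : Set (Closeds X)),
        {x : X | IsClosed ({x} : Set X) ∧ ∃ T ∈ Sa, x ∈ T} =
          {x : X | IsClosed ({x} : Set X) ∧ ∃ T ∈ Sb, x ∈ T} →
        ∀ T ∈ Sa, ∀ x ∈ T, IsClosed ({x} : Set X) → ∃ W ∈ Sb, x ∈ W := by
      intro Sa Sb he T hT x hx hxc
      have hmem : x ∈ {x : X | IsClosed ({x} : Set X) ∧ ∃ T ∈ Sa, x ∈ T} := ⟨hxc, T, hT, hx⟩
      rw [he] at hmem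
      exact hmem.2
    have e12 : {x : X | IsClosed ({x} : Set X) ∧ ∃ T ∈ S₁, x ∈ T} =
        {x : X | IsClosed ({x} : Set X) ∧ ∃ T ∈ S₂, x ∈ T} := h1e.trans h2e.symm
    obtain ⟨T', hT', hTT'⟩ := KL T (h1i T hT) S₂ h2c (cover S₁ S₂ e12 T hT)
    obtain ⟨T'', hT'', hT'T''⟩ := KL T' (h2i T' hT') S₁ h1c (cover S₂ S₁ e12.symm T' hT')
    have e1 : T = T'' := by
      by_contra hne
      exact h1a hT hT'' hne (hTT'.trans hT'T'')
    have e2 : T = T' := le_antisymm hTT' (by rw [e1]; exact hT'T'')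
    rw [e2]
    exact hT'
  -- existence
  choose F hFirr hFeq using fun n => NoetherianSpace.exists_finset_irreducible (Z n)
  have hmemZ : ∀ n (x : X), x ∈ Z n ↔ ∃ C ∈ F n, x ∈ C := by
    intro n x
    have h1 : (↑(Z n) : Set X) = ⋃ C ∈ F n, (C : Set X) := by
      rw [hFeq n, Closeds.coe_finset_sup, Finset.sup_set_eq_biUnion]
      rfl
    constructor
    · intro hx
      have hx' : x ∈ (↑(Z n) : Set X) := hx
      rw [h1] at hx'
      simpa using hx'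
    · rintro ⟨C, hC, hxC⟩
      show x ∈ (↑(Z n) : Set X)
      rw [h1]
      exact Set.mem_biUnion hC hxC
  have h𝒞c : (⋃ n, (↑(F n) : Set (Closeds X))).Countable :=
    Set.countable_iUnion (fun n => (F n).countable_toSet)
  have h𝒞irr : ∀ C ∈ (⋃ n, (↑(F n) : Set (Closeds X))), IsIrreducible (C : Set X) := by
    intro C hC
    obtain ⟨n, hn⟩ := Set.mem_iUnion.1 hC
    exact hFirr n ⟨C, hn⟩
  have hmax : ∀ C ∈ (⋃ n, (↑(F n) : Set (Closeds X))),
      ∃ m ∈ {C | C ∈ (⋃ n, (↑(F n) : Set (Closeds X))) ∧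
        ∀ C' ∈ (⋃ n, (↑(F n) : Set (Closeds X))), C ≤ C' → C' = C}, C ≤ m := by
    intro C hC
    have hY₀ : (⟨(C : Set X), h𝒞irr C hC, C.isClosed⟩ : IrreducibleCloseds X) ∈
        {Y : IrreducibleCloseds X | (⟨(Y : Set X), Y.isClosed⟩ : Closeds X) ∈
          (⋃ n, (↑(F n) : Set (Closeds X)))} := hC
    obtain ⟨m, hm𝒮, hYm, hmmax⟩ := Groth.Agent.Helper23.CountDense.exists_le_maximal_mem _ hY₀
    refine ⟨⟨(m : Set X), m.isClosed⟩, ⟨hm𝒮, ?_⟩, ?_⟩
    · intro C' hC' hle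
      have hY' : (⟨(C' : Set X), h𝒞irr C' hC', C'.isClosed⟩ : IrreducibleCloseds X) ∈
          {Y : IrreducibleCloseds X | (⟨(Y : Set X), Y.isClosed⟩ : Closeds X) ∈
            (⋃ n, (↑(F n) : Set (Closeds X)))} := hC'
      have hle' : m ≤ (⟨(C' : Set X), h𝒞irr C' hC', C'.isClosed⟩ : IrreducibleCloseds X) :=
        fun x hx => hle hx
      have heq := hmmax _ hY' hle'
      apply Closeds.ext
      show (C' : Set X) = (m : Set X)
      rw [← heq]
      rfl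
    · exact fun x hx => hYm hx
  refine ⟨{C | C ∈ (⋃ n, (↑(F n) : Set (Closeds X))) ∧
        ∀ C' ∈ (⋃ n, (↑(F n) : Set (Closeds X))), C ≤ C' → C' = C}, ?_, ?_⟩
  · refine ⟨h𝒞c.mono (fun C hC => hC.1), fun C hC => h𝒞irr C hC.1, ?_, ?_⟩
    · intro a ha b hb hab hle
      exact hab (ha.2 b hb.1 hle).symm
    · ext x
      constructor
      · rintro ⟨hxc, T, hT, hxT⟩
        obtain ⟨n, hn⟩ := Set.mem_iUnion.1 hT.1
        exact ⟨hxc, n, (hmemZ n x).2 ⟨T, hn, hxT⟩⟩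
      · rintro ⟨hxc, n, hxn⟩
        obtain ⟨C, hC, hxC⟩ := (hmemZ n x).1 hxn
        obtain ⟨m, hm, hCm⟩ := hmax C (Set.mem_iUnion.2 ⟨n, hC⟩)
        exact ⟨hxc, m, hm, hCm hxC⟩
  · intro S' hS'
    have hS : Sol X Z {C | C ∈ (⋃ n, (↑(F n) : Set (Closeds X))) ∧
        ∀ C' ∈ (⋃ n, (↑(F n) : Set (Closeds X))), C ≤ C' → C' = C} := by
      refine ⟨h𝒞c.mono (fun C hC => hC.1), fun C hC => h𝒞irr C hC.1, ?_, ?_⟩
      · intro a ha b hb hab hle
        exact hab (ha.2 b hb.1 hle).symm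
      · ext x
        constructor
        · rintro ⟨hxc, T, hT, hxT⟩
          obtain ⟨n, hn⟩ := Set.mem_iUnion.1 hT.1
          exact ⟨hxc, n, (hmemZ n x).2 ⟨T, hn, hxT⟩⟩
        · rintro ⟨hxc, n, hxn⟩
          obtain ⟨C, hC, hxC⟩ := (hmemZ n x).1 hxn
          obtain ⟨m, hm, hCm⟩ := hmax C (Set.mem_iUnion.2 ⟨n, hC⟩)
          exact ⟨hxc, m, hm, hCm hxC⟩
    exact Set.Subset.antisymm (hsub _ _ hS' hS) (hsub _ _ hS hS')

end Groth.Agent.Helper17.CU
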