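import Mathlib

set_option autoImplicit false
open TopologicalSpace

namespace Groth.Agent.Helper17.CU

/-- abstract form of the subgroup-variety argument: a group `G` of "rational points" mapping to a
Noetherian Jacobson space `X`, with continuous left/right translations compatible with `p`. -/
theorem abstract_main {X G : Type*} [TopologicalSpace X] [Group G]
    [NoetherianSpace X] [JacobsonSpace X] [WellFoundedGT (IrreducibleCloseds X)]
    (p : G → X) (P : G → Set X → Prop) (hP : ∀ x S, P x S ↔ p x ∈ S)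
    (r l : G → X → X)
    (r_cont : ∀ s, Continuous (r s)) (l_cont : ∀ d, Continuous (l d))
    (r_mul : ∀ s t a, r (s * t) a = r t (r s a)) (r_one : ∀ a, r 1 a = a)
    (p_r : ∀ x s, p (x * s) = r s (p x)) (p_l : ∀ d x, p (d * x) = l d (p x))
    (cp : ∀ a : X, IsClosed ({a} : Set X) → ∃ x, p x = a)
    (key : ∀ T : Set X, IsIrreducible T → IsClosed T → ∀ W : ℕ → Set X, (∀ n, IsClosed (W n)) →
        (∀ a ∈ T, IsClosed ({a} : Set X) → ∃ n, a ∈ W n) → ∃ n, T ⊆ W n)
    (K : Subgroup G) (Z : ℕ → Closeds X)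
    (hK : ∀ x, x ∈ K ↔ P x (⋃ n, (Z n : Set X))) :
    (∃! T : Closeds X,
      Maximal (fun T : Closeds X => IsIrreducible (T : Set X) ∧
        ∀ x : G, P x (T : Set X) → x ∈ K) T ∧ P 1 (T : Set X)) ∧
    ∀ T : Closeds X,
      Maximal (fun T : Closeds X => IsIrreducible (T : Set X) ∧
        ∀ x : G, P x (T : Set X) → x ∈ K) T →
      P 1 (T : Set X) →
      (∃ n, (T : Set X) ⊆ (Z n : Set X)) ∧
      ∀ x y : G, P x (T : Set X) → P y (T : Set X) → P (x * y⁻¹) (T : Set X) := by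
  classical
  have hPeq : P = fun x S => p x ∈ S := funext fun x => funext fun S => propext (hP x S)
  subst hPeq
  have hK' : ∀ x, x ∈ K ↔ p x ∈ ⋃ n, (Z n : Set X) := hK
  let Adm : Closeds X → Prop := fun T =>
    IsIrreducible (T : Set X) ∧ ∀ x : G, p x ∈ (T : Set X) → x ∈ K
  show (∃! T : Closeds X, Maximal Adm T ∧ p 1 ∈ (T : Set X)) ∧
    ∀ T : Closeds X, Maximal Adm T → p 1 ∈ (T : Set X) →
      (∃ n, (T : Set X) ⊆ (Z n : Set X)) ∧
      ∀ x y : G, p x ∈ (T : Set X) → p y ∈ (T : Set X) → p (x * y⁻¹) ∈ (T : Set X)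
  -- translations
  have r_inv1 : ∀ s a, r s⁻¹ (r s a) = a := by
    intro s a; rw [← r_mul, mul_inv_cancel, r_one]
  have r_inv2 : ∀ s a, r s (r s⁻¹ a) = a := by
    intro s a; rw [← r_mul, inv_mul_cancel, r_one]
  obtain ⟨tr, mem_tr⟩ : ∃ tr : Closeds X → G → Closeds X,
      ∀ T s a, a ∈ (tr T s : Set X) ↔ r s⁻¹ a ∈ (T : Set X) :=
    ⟨fun T s => ⟨r s⁻¹ ⁻¹' (T : Set X), T.isClosed.preimage (r_cont s⁻¹)⟩, fun T s a => Iff.rfl⟩
  have p_mem_tr : ∀ (T : Closeds X) (s x : G),
      p x ∈ (tr T s : Set X) ↔ p (x * s⁻¹) ∈ (T : Set X) := by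
    intro T s x
    rw [mem_tr, p_r]
  have tr_tr : ∀ (T : Closeds X) (s t : G), tr (tr T s) t = tr T (s * t) := by
    intro T s t
    apply Closeds.ext
    ext a
    rw [mem_tr, mem_tr, mem_tr, mul_inv_rev, r_mul]
  have tr_one : ∀ T : Closeds X, tr T 1 = T := by
    intro T
    apply Closeds.ext
    ext a
    rw [mem_tr, inv_one, r_one]
  have tr_mono : ∀ (T T' : Closeds X) (s : G), T ≤ T' → tr T s ≤ tr T' s := by
    intro T T' s h a ha
    have ha' : a ∈ (tr T s : Set X) := ha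
    rw [mem_tr] at ha'
    show a ∈ (tr T' s : Set X)
    rw [mem_tr]
    exact h ha'
  have tr_irr : ∀ (T : Closeds X) (s : G), IsIrreducible (T : Set X) →
      IsIrreducible (tr T s : Set X) := by
    intro T s hT
    have heq : (tr T s : Set X) = r s '' (T : Set X) := by
      ext a
      rw [mem_tr]
      constructor
      · intro h
        exact ⟨r s⁻¹ a, h, r_inv2 s a⟩
      · rintro ⟨b, hb, rfl⟩
        rw [r_inv1]
        exact hb
    rw [heq]
    exact hT.image (r s) (r_cont s).continuousOn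
  have adm_tr : ∀ (T : Closeds X) (s : G), s ∈ K → Adm T → Adm (tr T s) := by
    intro T s hs hT
    refine ⟨tr_irr T s hT.1, ?_⟩
    intro x hx
    rw [p_mem_tr] at hx
    have h1 : x * s⁻¹ ∈ K := hT.2 _ hx
    have h2 : x * s⁻¹ * s ∈ K := K.mul_mem h1 hs
    rwa [inv_mul_cancel_right] at h2
  have max_tr : ∀ (T : Closeds X) (s : G), s ∈ K → Maximal Adm T → Maximal Adm (tr T s) := by
    intro T s hs hT
    refine ⟨adm_tr T s hs hT.1, ?_⟩
    intro T' hT' hle
    have h1 : T ≤ tr T' s⁻¹ := by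
      have := tr_mono _ _ s⁻¹ hle
      rwa [tr_tr, mul_inv_cancel, tr_one] at this
    have h2 : tr T' s⁻¹ ≤ T := hT.2 (adm_tr T' s⁻¹ (K.inv_mem hs) hT') h1
    have h3 := tr_mono _ _ s h2
    rwa [tr_tr, inv_mul_cancel, tr_one] at h3
  -- admissible iff contained in some Z n
  have adm_sub : ∀ T : Closeds X, Adm T → ∃ n, (T : Set X) ⊆ (Z n : Set X) := by
    intro T hT
    refine key (T : Set X) hT.1 T.isClosed (fun n => (Z n : Set X)) (fun n => (Z n).isClosed) ?_
    intro a ha hac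
    obtain ⟨x, rfl⟩ := cp a hac
    have hx : x ∈ K := hT.2 x ha
    exact Set.mem_iUnion.1 ((hK' x).1 hx)
  have adm_of_sub : ∀ T : Closeds X, IsIrreducible (T : Set X) →
      (∃ n, (T : Set X) ⊆ (Z n : Set X)) → Adm T := by
    rintro T hT ⟨n, hn⟩
    exact ⟨hT, fun x hx => (hK' x).2 (Set.mem_iUnion.2 ⟨n, hn hx⟩)⟩
  -- countability of the maximal admissibles
  have hcount : {T : Closeds X | Maximal Adm T}.Countable := by
    choose F hFirr hFeq using fun n => NoetherianSpace.exists_finset_irreducible (Z n)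
    refine (Set.countable_iUnion (fun n => (F n).countable_toSet)).mono ?_
    intro T hT
    have hT' : Maximal Adm T := hT
    obtain ⟨n, hn⟩ := adm_sub T hT'.1
    have h1 : (↑(Z n) : Set X) = ⋃ C ∈ F n, (C : Set X) := by
      rw [hFeq n, Closeds.coe_finset_sup, Finset.sup_set_eq_biUnion]
      rfl
    obtain ⟨C, hC, hTC⟩ : ∃ C ∈ F n, (T : Set X) ⊆ (C : Set X) := by
      have h2 := (isIrreducible_iff_sUnion_isClosed.1 hT'.1.1)
        ((F n).image (fun C : Closeds X => (C : Set X)))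
        (by
          intro z hz
          obtain ⟨C, -, rfl⟩ := Finset.mem_image.1 hz
          exact C.isClosed)
        (by
          intro a ha
          have ha' := hn ha
          rw [h1] at ha'
          obtain ⟨C, hC, haC⟩ := Set.mem_iUnion₂.1 ha'
          exact Set.mem_sUnion.2 ⟨(C : Set X),
            Finset.mem_coe.2 (Finset.mem_image.2 ⟨C, hC, rfl⟩), haC⟩)
      obtain ⟨z, hz, hTz⟩ := h2
      obtain ⟨C, hC, rfl⟩ := Finset.mem_image.1 hz
      exact ⟨C, hC, hTz⟩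
    have hCsub : (C : Set X) ⊆ (Z n : Set X) := by
      intro a ha
      rw [h1]
      exact Set.mem_iUnion₂.2 ⟨C, hC, ha⟩
    have hCadm : Adm C := adm_of_sub C (hFirr n ⟨C, hC⟩) ⟨n, hCsub⟩
    have hCT : C ≤ T := hT'.2 hCadm hTC
    have hTeq : T = C := le_antisymm hTC hCT
    exact Set.mem_iUnion.2 ⟨n, by rw [hTeq]; exact hC⟩
  have enum : ∀ 𝒮 : Set (Closeds X), 𝒮 ⊆ {T | Maximal Adm T} → 𝒮.Nonempty →
      ∃ f : ℕ → Closeds X, 𝒮 = Set.range f :=
    fun 𝒮 h1 h2 => (hcount.mono h1).exists_eq_range h2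
  -- containment of closed sets tested on closed points
  have sub_of_closedPts : ∀ C T : Closeds X,
      (∀ a ∈ (C : Set X), IsClosed ({a} : Set X) → a ∈ (T : Set X)) → C ≤ T := by
    intro C T h
    have h1 : closure ((C : Set X) ∩ closedPoints X) = (C : Set X) :=
      closure_inter_closedPoints C.isClosed
    intro a ha
    have ha' : a ∈ closure ((C : Set X) ∩ closedPoints X) := by rw [h1]; exact ha
    exact (closure_minimal (fun b hb => h b hb.1 (mem_closedPoints_iff.1 hb.2)) T.isClosed) ha'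
  -- maximal admissibles above a given one
  have exists_max : ∀ T : Closeds X, Adm T → ∃ M : Closeds X, Maximal Adm M ∧ T ≤ M := by
    intro T hT
    let 𝒮 : Set (IrreducibleCloseds X) :=
      {Y | (T : Set X) ⊆ (Y : Set X) ∧ Adm ⟨(Y : Set X), Y.isClosed⟩}
    have hne : 𝒮.Nonempty := ⟨⟨(T : Set X), hT.1, T.isClosed⟩, fun a ha => ha, hT⟩
    obtain ⟨m, hm, hmin⟩ := (wellFounded_gt (α := IrreducibleCloseds X)).has_min 𝒮 hne
    refine ⟨⟨(m : Set X), m.isClosed⟩, ⟨hm.2, ?_⟩, hm.1⟩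
    intro T' hT' hle
    have hY' : (⟨(T' : Set X), hT'.1, T'.isClosed⟩ : IrreducibleCloseds X) ∈ 𝒮 :=
      ⟨fun a ha => hle (hm.1 ha), hT'⟩
    have hle' : m ≤ (⟨(T' : Set X), hT'.1, T'.isClosed⟩ : IrreducibleCloseds X) :=
      fun a ha => hle ha
    by_contra hnle
    refine hmin _ hY' (lt_of_le_not_ge hle' ?_)
    intro hge
    exact hnle (fun a ha => hge ha)
  -- existence of a maximal admissible through the unit
  have hex : ∃ T : Closeds X, Maximal Adm T ∧ p 1 ∈ (T : Set X) := by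
    have h1K : (1 : G) ∈ K := K.one_mem
    obtain ⟨n, hn⟩ := Set.mem_iUnion.1 ((hK' 1).1 h1K)
    have hT₀ : Adm ⟨closure {p 1}, isClosed_closure⟩ :=
      adm_of_sub ⟨closure {p 1}, isClosed_closure⟩
        (show IsIrreducible (closure {p 1}) from isIrreducible_singleton.closure)
        ⟨n, show closure {p 1} ⊆ (Z n : Set X) from
          closure_minimal (Set.singleton_subset_iff.2 hn) (Z n).isClosed⟩
    obtain ⟨M, hM, hle⟩ := exists_max _ hT₀
    exact ⟨M, hM, hle (show p 1 ∈ closure {p 1} from subset_closure (Set.mem_singleton _))⟩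
  -- the stabiliser property
  have stab : ∀ T : Closeds X, Maximal Adm T → p 1 ∈ (T : Set X) →
      ∀ s : G, p s ∈ (T : Set X) → tr T s = T := by
    intro T hT h1
    obtain ⟨f, hf⟩ := enum {T | Maximal Adm T} (fun _ h => h) ⟨T, hT⟩
    have hfmax : ∀ j, Maximal Adm (f j) := fun j => by
      have : f j ∈ {T | Maximal Adm T} := by rw [hf]; exact ⟨j, rfl⟩
      exact this
    have hfsurj : ∀ T', Maximal Adm T' → ∃ j, f j = T' := fun T' h => by
      have : T' ∈ {T | Maximal Adm T} := h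
      rw [hf] at this
      exact this
    let W : ℕ → Set X := fun j =>
      (T : Set X) ∩ ⋂ (d : G) (_ : p d ∈ (f j : Set X)), l d ⁻¹' (T : Set X)
    have hWc : ∀ j, IsClosed (W j) := fun j =>
      T.isClosed.inter (isClosed_iInter fun d => isClosed_iInter fun _ =>
        T.isClosed.preimage (l_cont d))
    obtain ⟨j, hj⟩ := key (T : Set X) hT.1.1 T.isClosed W hWc (by
      intro a ha hac
      obtain ⟨s, rfl⟩ := cp a hac
      have hsK : s ∈ K := hT.1.2 s ha
      obtain ⟨j, hj⟩ := hfsurj _ (max_tr T s⁻¹ (K.inv_mem hsK) hT)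
      refine ⟨j, ?_⟩
      show p s ∈ (T : Set X) ∩ ⋂ (d : G) (_ : p d ∈ (f j : Set X)), l d ⁻¹' (T : Set X)
      refine ⟨ha, ?_⟩
      refine Set.mem_iInter₂.2 ?_
      intro d hd
      rw [hj, p_mem_tr, inv_inv] at hd
      show l d (p s) ∈ (T : Set X)
      rw [← p_l]
      exact hd)
    have hstep : ∀ s : G, p s ∈ (T : Set X) → tr (f j) s = T := by
      intro s hs
      have hsK : s ∈ K := hT.1.2 s hs
      have hle : tr (f j) s ≤ T := by
        refine sub_of_closedPts _ _ ?_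
        intro a ha hac
        obtain ⟨x, rfl⟩ := cp a hac
        rw [p_mem_tr] at ha
        have h2 : p s ∈ (T : Set X) ∩ ⋂ (d : G) (_ : p d ∈ (f j : Set X)), l d ⁻¹' (T : Set X) :=
          hj hs
        have h3 := Set.mem_iInter₂.1 h2.2 (x * s⁻¹) ha
        have h4 : l (x * s⁻¹) (p s) ∈ (T : Set X) := h3
        rw [← p_l, inv_mul_cancel_right] at h4
        exact h4
      exact le_antisymm hle ((max_tr (f j) s hsK (hfmax j)).2 hT.1 hle)
    have hfj : f j = T := by
      have := hstep 1 h1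
      rwa [tr_one] at this
    intro s hs
    have := hstep s hs
    rw [hfj] at this
    exact this
  refine ⟨?_, ?_⟩
  · obtain ⟨T₂, hT₂, h12⟩ := hex
    refine ⟨T₂, ⟨hT₂, h12⟩, ?_⟩
    rintro T₁ ⟨hT₁, h11⟩
    obtain ⟨g, hg⟩ := enum {T' | ∃ t ∈ K, T' = tr T₂ t} (by
        rintro T' ⟨t, ht, rfl⟩
        exact max_tr T₂ t ht hT₂) ⟨T₂, 1, K.one_mem, (tr_one T₂).symm⟩
    have hg1 : ∀ t ∈ K, ∃ j, g j = tr T₂ t := fun t ht => by
      have : tr T₂ t ∈ Set.range g := by rw [← hg]; exact ⟨t, ht, rfl⟩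
      exact this
    have hg2 : ∀ j, ∃ t ∈ K, g j = tr T₂ t := fun j => by
      have : g j ∈ {T' | ∃ t ∈ K, T' = tr T₂ t} := by rw [hg]; exact ⟨j, rfl⟩
      exact this
    obtain ⟨j, hj⟩ := key (T₁ : Set X) hT₁.1.1 T₁.isClosed (fun j => (g j : Set X))
      (fun j => (g j).isClosed) (by
        intro a ha hac
        obtain ⟨t, rfl⟩ := cp a hac
        have htK : t ∈ K := hT₁.1.2 t ha
        obtain ⟨j, hj⟩ := hg1 t htK
        refine ⟨j, ?_⟩
        show p t ∈ (g j : Set X)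
        rw [hj, p_mem_tr, mul_inv_cancel]
        exact h12)
    obtain ⟨t₀, ht₀K, ht₀⟩ := hg2 j
    have hle : T₁ ≤ tr T₂ t₀ := by rw [← ht₀]; exact hj
    have heq : T₁ = tr T₂ t₀ := le_antisymm hle (hT₁.2 (adm_tr T₂ t₀ ht₀K hT₂.1) hle)
    have h3 : p (1 * t₀⁻¹) ∈ (T₂ : Set X) := by
      rw [← p_mem_tr, ← heq]; exact h11
    rw [one_mul] at h3
    have h4 : tr T₂ t₀⁻¹ = T₂ := stab T₂ hT₂ h12 t₀⁻¹ h3
    have h5 : tr (tr T₂ t₀⁻¹) t₀ = T₂ := by rw [tr_tr, inv_mul_cancel, tr_one]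
    rw [h4] at h5
    rw [heq, h5]
  · intro T hT h1
    refine ⟨adm_sub T hT.1, ?_⟩
    intro x y hx hy
    have h2 : tr T y = T := stab T hT h1 y hy
    rw [← p_mem_tr, h2]
    exact hx

end Groth.Agent.Helper17.CU
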