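import Mathlib
import Groth.Agent.Lib.Helper17.CU1
import Groth.Agent.Lib.Helper17.CU3

set_option autoImplicit false
universe u
open CategoryTheory MonoidalCategory CartesianMonoidalCategory MonObj GrpObj AlgebraicGeometry
open TopologicalSpace

namespace Groth.Agent.Helper17.CU

section Cat

variable {C : Type*} [Category C] [CartesianMonoidalCategory C] (A : C) [GrpObj A]

/-- right translation by a point -/
def rT (s : 𝟙_ C ⟶ A) : A ⟶ A := 𝟙 A * (toUnit A ≫ s)

/-- left translation by a point -/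
def lT (d : 𝟙_ C ⟶ A) : A ⟶ A := (toUnit A ≫ d) * 𝟙 A

theorem comp_rT (x s : 𝟙_ C ⟶ A) : x ≫ rT A s = x * s := by
  unfold rT
  rw [MonObj.comp_mul, Category.comp_id, ← Category.assoc,
    toUnit_unique (x ≫ toUnit A) (𝟙 _), Category.id_comp]

theorem comp_lT (d x : 𝟙_ C ⟶ A) : x ≫ lT A d = d * x := by
  unfold lT
  rw [MonObj.comp_mul, Category.comp_id, ← Category.assoc,
    toUnit_unique (x ≫ toUnit A) (𝟙 _), Category.id_comp]

theorem rT_comp (s t : 𝟙_ C ⟶ A) : rT A s ≫ rT A t = rT A (s * t) := by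
  unfold rT
  rw [MonObj.comp_mul, Category.comp_id, ← Category.assoc,
    toUnit_unique (_ ≫ toUnit A) (toUnit A), _root_.mul_assoc, ← MonObj.comp_mul]

theorem rT_one : rT A (1 : 𝟙_ C ⟶ A) = 𝟙 A := by
  unfold rT
  rw [MonObj.comp_one, _root_.mul_one]

end Cat

theorem main16918 (k : Type u)
    [Field k] [IsAlgClosed k] [Uncountable k] (A : Over (Spec (CommRingCat.of k))) [GrpObj A]
    [IsProper A.hom]
    (K : Subgroup (𝟙_ (Over (Spec (CommRingCat.of k))) ⟶ A))
    (Z : ℕ → TopologicalSpace.Closeds ↥A.left)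
    (hK : ∀ x : 𝟙_ (Over (Spec (CommRingCat.of k))) ⟶ A,
      x ∈ K ↔ Set.range ⇑x.left.base ⊆ ⋃ n, (Z n : Set ↥A.left)) :
    (∃! T : TopologicalSpace.Closeds ↥A.left,
      Maximal (fun T : TopologicalSpace.Closeds ↥A.left => IsIrreducible (T : Set ↥A.left) ∧
        ∀ x : 𝟙_ (Over (Spec (CommRingCat.of k))) ⟶ A, Set.range ⇑x.left.base ⊆ (T : Set ↥A.left) → x ∈ K) T ∧
      Set.range ⇑(1 : 𝟙_ (Over (Spec (CommRingCat.of k))) ⟶ A).left.base ⊆ (T : Set ↥A.left)) ∧
    ∀ T : TopologicalSpace.Closeds ↥A.left,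
      Maximal (fun T : TopologicalSpace.Closeds ↥A.left => IsIrreducible (T : Set ↥A.left) ∧
        ∀ x : 𝟙_ (Over (Spec (CommRingCat.of k))) ⟶ A, Set.range ⇑x.left.base ⊆ (T : Set ↥A.left) → x ∈ K) T →
      Set.range ⇑(1 : 𝟙_ (Over (Spec (CommRingCat.of k))) ⟶ A).left.base ⊆ (T : Set ↥A.left) →
      (∃ n, (T : Set ↥A.left) ⊆ (Z n : Set ↥A.left)) ∧
      ∀ x y : 𝟙_ (Over (Spec (CommRingCat.of k))) ⟶ A,
        Set.range ⇑x.left.base ⊆ (T : Set ↥A.left) → Set.range ⇑y.left.base ⊆ (T : Set ↥A.left) →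
        Set.range ⇑(x * y⁻¹).left.base ⊆ (T : Set ↥A.left) := by
  classical
  haveI : LocallyOfFiniteType A.hom := inferInstance
  haveI : CompactSpace A.left := (quasiCompact_iff_compactSpace A.hom).1 inferInstance
  haveI : IsLocallyNoetherian A.left := LocallyOfFiniteType.isLocallyNoetherian A.hom
  haveI : IsNoetherian A.left := {}
  haveI : JacobsonSpace A.left := LocallyOfFiniteType.jacobsonSpace A.hom
  haveI : WellFoundedGT (IrreducibleCloseds A.left) :=
    Groth.Agent.Helper23.CountDense.wellFoundedGT_irreducibleCloseds A.left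
  let o : Spec (CommRingCat.of k) := IsLocalRing.closedPoint k
  let p : (𝟙_ (Over (Spec (CommRingCat.of k))) ⟶ A) → A.left := fun x => x.left.base o
  have hP : ∀ (x : 𝟙_ (Over (Spec (CommRingCat.of k))) ⟶ A) (S : Set A.left),
      Set.range ⇑x.left.base ⊆ S ↔ p x ∈ S := by
    intro x S
    constructor
    · intro h
      exact h ⟨o, rfl⟩
    · rintro h _ ⟨y, rfl⟩
      have hy : y = o := @Subsingleton.elim (Spec (CommRingCat.of k)) _ y o
      rw [hy]
      exact h
  have p_comp : ∀ (x : 𝟙_ (Over (Spec (CommRingCat.of k))) ⟶ A) (f : A ⟶ A),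
      p (x ≫ f) = f.left.base (p x) := fun x f => rfl
  refine abstract_main p (fun x S => Set.range ⇑x.left.base ⊆ S) hP
    (fun s a => (rT A s).left.base a) (fun d a => (lT A d).left.base a)
    (fun s => (rT A s).left.continuous) (fun d => (lT A d).left.continuous)
    ?_ ?_ ?_ ?_ ?_ (key_lemma k A.left A.hom) K Z hK
  · intro s t a
    show (rT A (s * t)).left.base a = (rT A t).left.base ((rT A s).left.base a)
    rw [← rT_comp]
    rfl
  · intro a
    show (rT A 1).left.base a = a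
    rw [rT_one]
    rfl
  · intro x s
    show p (x * s) = (rT A s).left.base (p x)
    rw [← p_comp, comp_rT]
  · intro d x
    show p (d * x) = (lT A d).left.base (p x)
    rw [← p_comp, comp_lT]
  · intro a ha
    exact ⟨Over.homMk (pointOfClosedPoint A.hom a ha) (by simp),
      pointOfClosedPoint_apply A.hom a ha _⟩

end Groth.Agent.Helper17.CU
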