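import Mathlib

/-! Helper17 DA1: polynomial density lemmas for S7451 (orbits of elementary automorphisms of
affine space are Zariski dense unless all coordinates are algebraic over the prime field). -/

set_option autoImplicit false

namespace Groth.Agent.Helper17.DA1

open MvPolynomial

section poly

variable {K : Type*} [Field K] {n : ℕ}

theorem eq_zero_of_eval_seq (F : MvPolynomial (Fin n) K) (s : Fin n → ℕ → K)
    (hs : ∀ l, Function.Injective (s l))
    (h : ∀ a : Fin n → ℕ, eval (fun l => s l (a l)) F = 0) : F = 0 := by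
  classical
  let S : Fin n → Finset K := fun l => (Finset.range (F.totalDegree + 1)).image (s l)
  apply MvPolynomial.eq_zero_of_eval_zero_at_prod_finset F S
  · intro l
    have hc : (S l).card = F.totalDegree + 1 := by
      rw [Finset.card_image_of_injective _ (hs l), Finset.card_range]
    rw [hc]
    exact Nat.lt_succ_of_le (degreeOf_le_totalDegree F l)
  · intro x hx
    have hex : ∀ l, ∃ a, s l a = x l := by
      intro l
      obtain ⟨a, -, ha⟩ := Finset.mem_image.mp (hx l)
      exact ⟨a, ha⟩
    choose a ha using hex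
    have h1 := h a
    have h2 : (fun l => s l (a l)) = x := funext ha
    rw [h2] at h1
    exact h1

theorem eval_eq_zero_of_hyperplane (F : MvPolynomial (Fin n) K) (j : Fin n) (c : K)
    (s : Fin n → ℕ → K) (hs : ∀ l, Function.Injective (s l))
    (h : ∀ a : Fin n → ℕ, eval (Function.update (fun l => s l (a l)) j c) F = 0)
    (y : Fin n → K) (hy : y j = c) : eval y F = 0 := by
  classical
  let θ : Fin n → MvPolynomial (Fin n) K := Function.update X j (C c)
  have hG : ∀ z : Fin n → K, eval z (aeval θ F) = eval (Function.update z j c) F := by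
    intro z
    have h1 : (aeval z : MvPolynomial (Fin n) K →ₐ[K] K) (aeval θ F) =
        aeval (fun l => (aeval z : MvPolynomial (Fin n) K →ₐ[K] K) (θ l)) F :=
      comp_aeval_apply (f := θ) (φ := (aeval z : MvPolynomial (Fin n) K →ₐ[K] K)) (p := F)
    have h2 : (fun l => (aeval z : MvPolynomial (Fin n) K →ₐ[K] K) (θ l)) =
        Function.update z j c := by
      funext l
      by_cases hl : l = j
      · subst hl
        simp [θ]
      · simp [θ, Function.update_of_ne hl]
    rw [h2] at h1
    exact h1
  have hG0 : aeval θ F = 0 := by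
    apply eq_zero_of_eval_seq _ s hs
    intro a
    rw [hG]
    exact h a
  have h3 : eval y F = eval y (aeval θ F) := by
    rw [hG, ← hy, Function.update_eq_self]
  rw [h3, hG0, map_zero]

theorem coordwise {α : Type*} (Y : Set (Fin n → α)) (ζ : Fin n → α) (hζ : ζ ∈ Y)
    (T : Finset (Fin n)) (v : Fin n → α)
    (hstep : ∀ y ∈ Y, ∀ l ∈ T, y l = ζ l → (∀ l', l' ∉ T → y l' = ζ l') →
      Function.update y l (v l) ∈ Y) :
    (fun l => if l ∈ T then v l else ζ l) ∈ Y := by
  classical
  have key : ∀ T' : Finset (Fin n), T' ⊆ T → (fun l => if l ∈ T' then v l else ζ l) ∈ Y := by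
    intro T'
    induction T' using Finset.induction_on with
    | empty =>
      intro _
      simpa using hζ
    | insert i T' hi ih =>
      intro hsub
      have hiT : i ∈ T := hsub (Finset.mem_insert_self i T')
      have hT' : T' ⊆ T := fun l hl => hsub (Finset.mem_insert_of_mem hl)
      have hQ := ih hT'
      have h1 := hstep _ hQ i hiT (by simp [hi]) (by
        intro l' hl'
        have : l' ∉ T' := fun h => hl' (hT' h)
        simp [this])
      convert h1 using 1
      funext l
      by_cases hl : l = i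
      · subst hl
        simp
      · simp [Function.update_of_ne hl, Finset.mem_insert, hl]
  exact key T (Finset.Subset.refl T)

/-- the hypotheses on the set of points -/
structure Inv (Y : Set (Fin n → K)) (I : Set (MvPolynomial (Fin n) K)) : Prop where
  move : ∀ y ∈ Y, ∀ i j : Fin n, i ≠ j → ∀ d : ℕ, Function.update y i (y i + y j ^ d) ∈ Y
  mem_iff : ∀ y, y ∈ Y ↔ ∀ F ∈ I, eval y F = 0

variable {Y : Set (Fin n → K)} {I : Set (MvPolynomial (Fin n) K)}

theorem stepA (h : Inv Y I) (ζ : Fin n → K) (hζ : ζ ∈ Y) (j : Fin n)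
    (hj : Function.Injective (fun d : ℕ => ζ j ^ d)) (y : Fin n → K) (hy : y j = ζ j) :
    y ∈ Y := by
  classical
  rw [h.mem_iff]
  intro F hF
  refine eval_eq_zero_of_hyperplane F j (ζ j) (fun l a => ζ l + ζ j ^ a) ?_ ?_ y hy
  · intro l a b hab
    have hab' : ζ l + ζ j ^ a = ζ l + ζ j ^ b := hab
    exact hj (add_left_cancel hab')
  · intro a
    have hmem : (fun l => if l ∈ (Finset.univ.erase j) then ζ l + ζ j ^ (a l) else ζ l) ∈ Y := by
      apply coordwise Y ζ hζ (Finset.univ.erase j) (fun l => ζ l + ζ j ^ (a l))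
      intro y' hy' l hl hyl hout
      have hlj : l ≠ j := Finset.ne_of_mem_erase hl
      have hyj : y' j = ζ j := hout j (by simp)
      have := h.move y' hy' l j hlj (a l)
      rw [hyl, hyj] at this
      exact this
    have heq : (fun l => if l ∈ (Finset.univ.erase j) then ζ l + ζ j ^ (a l) else ζ l) =
        Function.update (fun l => ζ l + ζ j ^ (a l)) j (ζ j) := by
      funext l
      by_cases hl : l = j
      · subst hl; simp
      · simp [hl, Function.update_of_ne hl]
    rw [heq] at hmem
    exact (h.mem_iff _).mp hmem F hF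

theorem all_zero_of_injective_pow (hn : 2 ≤ n) (h : Inv Y I) (ξ : Fin n → K) (hξ : ξ ∈ Y)
    (j : Fin n) (hj : Function.Injective (fun d : ℕ => ξ j ^ d)) : ∀ F ∈ I, F = 0 := by
  classical
  haveI : Nontrivial (Fin n) := Fin.nontrivial_iff_two_le.mpr hn
  obtain ⟨i, hij⟩ := exists_ne j
  have hB1 : ∀ e : ℕ, 1 ≤ e → ∀ w : Fin n → K, w i = ξ j ^ e → w ∈ Y := by
    intro e he w hw
    rw [h.mem_iff]
    intro F hF
    have hce : Function.Injective (fun a : ℕ => (ξ j ^ e) ^ a) := by
      intro a b hab
      have hab' : ξ j ^ (e * a) = ξ j ^ (e * b) := by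
        rw [pow_mul, pow_mul]; exact hab
      have := hj hab'
      exact Nat.eq_of_mul_eq_mul_left (by omega) this
    refine eval_eq_zero_of_hyperplane F i (ξ j ^ e)
      (fun l => if l = j then fun a => ξ j + (ξ j ^ e) ^ a else fun a => ξ j ^ a) ?_ ?_ w hw
    · intro l
      beta_reduce
      by_cases hl : l = j
      · rw [if_pos hl]
        intro a b hab
        have hab' : ξ j + (ξ j ^ e) ^ a = ξ j + (ξ j ^ e) ^ b := hab
        exact hce (add_left_cancel hab')
      · rw [if_neg hl]
        exact hj
    · intro a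
      set P : Fin n → K := Function.update (fun l =>
        (if l = j then fun a => ξ j + (ξ j ^ e) ^ a else fun a => ξ j ^ a) (a l)) i (ξ j ^ e)
        with hP
      have hPi : P i = ξ j ^ e := by simp [hP]
      have hPj : P j = ξ j + (ξ j ^ e) ^ (a j) := by
        rw [hP, Function.update_of_ne (Ne.symm hij)]
        simp
      have hP0 : Function.update P j (ξ j) ∈ Y :=
        stepA h ξ hξ j hj _ (by simp)
      have := h.move _ hP0 j i (Ne.symm hij) (a j)
      have heq : Function.update (Function.update P j (ξ j)) j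
          (Function.update P j (ξ j) j + Function.update P j (ξ j) i ^ (a j)) = P := by
        rw [Function.update_idem, Function.update_self, Function.update_of_ne hij, hPi, ← hPj,
          Function.update_eq_self]
      rw [heq] at this
      exact (h.mem_iff _).mp this F hF
  intro F hF
  apply eq_zero_of_eval_seq F
    (fun l => if l = i then fun a => ξ j ^ (a + 1) else fun a => ξ j ^ a)
  · intro l
    beta_reduce
    by_cases hl : l = i
    · rw [if_pos hl]
      intro a b hab
      have hab' : ξ j ^ (a + 1) = ξ j ^ (b + 1) := hab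
      have := hj hab'
      omega
    · rw [if_neg hl]
      exact hj
  · intro a
    have : (fun l => (if l = i then fun a => ξ j ^ (a + 1) else fun a => ξ j ^ a) (a l)) ∈ Y :=
      hB1 (a i + 1) (by omega) _ (by simp)
    exact (h.mem_iff _).mp this F hF

theorem add_nat_mem (hn : 2 ≤ n) (h : Inv Y I) (y : Fin n → K) (hy : y ∈ Y) (i : Fin n) (c : ℕ) :
    Function.update y i (y i + c) ∈ Y := by
  haveI : Nontrivial (Fin n) := Fin.nontrivial_iff_two_le.mpr hn
  obtain ⟨j, hji⟩ := exists_ne i
  induction c with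
  | zero => simpa using hy
  | succ c ih =>
    have := h.move _ ih i j (Ne.symm hji) 0
    rw [Function.update_idem, Function.update_self, pow_zero] at this
    convert this using 2
    push_cast
    ring

theorem all_zero_of_charZero [CharZero K] (hn : 2 ≤ n) (h : Inv Y I) (ξ : Fin n → K)
    (hξ : ξ ∈ Y) : ∀ F ∈ I, F = 0 := by
  classical
  intro F hF
  apply eq_zero_of_eval_seq F (fun l a => ξ l + a)
  · intro l a b hab
    have hab' : ξ l + (a : K) = ξ l + (b : K) := hab
    exact Nat.cast_injective (add_left_cancel hab')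
  · intro a
    have hmem : (fun l => if l ∈ (Finset.univ : Finset (Fin n)) then ξ l + (a l : K) else ξ l)
        ∈ Y := by
      apply coordwise Y ξ hξ Finset.univ (fun l => ξ l + (a l : K))
      intro y' hy' l _ hyl _
      have := add_nat_mem hn h y' hy' l (a l)
      rw [hyl] at this
      exact this
    have heq : (fun l => if l ∈ (Finset.univ : Finset (Fin n)) then ξ l + (a l : K) else ξ l) =
        fun l => ξ l + (a l : K) := by
      funext l; simp
    rw [heq] at hmem
    exact (h.mem_iff _).mp hmem F hF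

theorem frob_of_pow_eq {p : ℕ} [Fact p.Prime] [CharP K p] (a : K) (d1 d2 : ℕ) (hlt : d1 < d2)
    (heq : a ^ d1 = a ^ d2) : ∃ m : ℕ, 0 < m ∧ a ^ (p ^ m) = a := by
  have hp : p.Prime := Fact.out
  by_cases ha0 : a = 0
  · refine ⟨1, one_pos, ?_⟩
    rw [ha0, zero_pow]
    exact pow_ne_zero _ hp.ne_zero
  set r := d2 - d1 with hrdef
  have hrpos : 0 < r := Nat.sub_pos_of_lt hlt
  have hr : a ^ r = 1 := by
    have h1 : a ^ d1 * a ^ r = a ^ d1 * 1 := by
      rw [← pow_add, hrdef, Nat.add_sub_cancel' hlt.le, mul_one, heq]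
    exact mul_left_cancel₀ (pow_ne_zero _ ha0) h1
  have hmod : ∀ t : ℕ, a ^ t = a ^ (t % r) := by
    intro t
    conv_lhs => rw [← Nat.div_add_mod t r]
    rw [pow_add, pow_mul, hr, one_pow, one_mul]
  have key : ∀ m1 m2 : ℕ, m1 < m2 → (p ^ m1) % r = (p ^ m2) % r →
      ∃ m : ℕ, 0 < m ∧ a ^ (p ^ m) = a := by
    intro m1 m2 hlt' hm'
    refine ⟨m2 - m1, Nat.sub_pos_of_lt hlt', ?_⟩
    have h2 : a ^ (p ^ m1) = a ^ (p ^ m2) := by rw [hmod (p ^ m1), hmod (p ^ m2), hm']
    have h3 : (a ^ (p ^ (m2 - m1))) ^ (p ^ m1) = a ^ (p ^ m1) := by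
      rw [← pow_mul, ← pow_add, Nat.sub_add_cancel hlt'.le]
      exact h2.symm
    have h4 : (a ^ (p ^ (m2 - m1)) - a) ^ (p ^ m1) = 0 := by
      rw [sub_pow_char_pow, h3, sub_self]
    exact sub_eq_zero.mp (pow_eq_zero_iff (pow_ne_zero _ hp.ne_zero) |>.mp h4)
  obtain ⟨m1, m2, hne, hm⟩ := Finite.exists_ne_map_eq_of_infinite
    (fun m : ℕ => (⟨(p ^ m) % r, Nat.mod_lt _ hrpos⟩ : Fin r))
  have hm' : (p ^ m1) % r = (p ^ m2) % r := congrArg Fin.val hm
  rcases lt_or_gt_of_ne hne with hlt' | hlt'
  · exact key m1 m2 hlt' hm'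
  · exact key m2 m1 hlt' hm'.symm

theorem pow_injective_of_not_frob {p : ℕ} [Fact p.Prime] [CharP K p] (a : K)
    (ha : ¬ ∃ m : ℕ, 0 < m ∧ a ^ (p ^ m) = a) : Function.Injective (fun d : ℕ => a ^ d) := by
  intro d1 d2 heq
  have heq' : a ^ d1 = a ^ d2 := heq
  by_contra hne
  apply ha
  rcases lt_or_gt_of_ne hne with hlt | hlt
  · exact frob_of_pow_eq a d1 d2 hlt heq'
  · exact frob_of_pow_eq a d2 d1 hlt heq'.symm

end poly

end Groth.Agent.Helper17.DA1
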