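import Groth.Agent.Lib.Helper17.DA1

/-! Helper17 DA2: open subschemes of affine space invariant under elementary automorphisms
(S7451). -/

set_option autoImplicit false
universe u

namespace Groth.Agent.Helper17.DA2

noncomputable section

open CategoryTheory AlgebraicGeometry MvPolynomial
open Groth.Agent.Helper17.DA1

variable {k : Type u} [Field k] {n : ℕ}

/-- the elementary automorphism `x_i ↦ x_i + x_j ^ d` as a ring hom -/
def tau (k : Type u) [Field k] (n : ℕ) (i j : Fin n) (d : ℕ) :
    MvPolynomial (Fin n) k →+* MvPolynomial (Fin n) k :=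
  (MvPolynomial.aeval (R := k)
    (Function.update MvPolynomial.X i (MvPolynomial.X i + MvPolynomial.X j ^ d) :
      Fin n → MvPolynomial (Fin n) k)).toRingHom

section pts

variable {K : Type u} [Field K]

/-- the point of `Spec k[x]` defined by a ring hom to a field -/
def pt (φ : MvPolynomial (Fin n) k →+* K) : PrimeSpectrum (MvPolynomial (Fin n) k) :=
  ⟨RingHom.ker φ, RingHom.ker_isPrime φ⟩

theorem comap_pt (τ : MvPolynomial (Fin n) k →+* MvPolynomial (Fin n) k)
    (φ : MvPolynomial (Fin n) k →+* K) :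
    PrimeSpectrum.comap τ (pt φ) = pt (φ.comp τ) := by
  apply PrimeSpectrum.ext
  show Ideal.comap τ (RingHom.ker φ) = RingHom.ker (φ.comp τ)
  exact RingHom.comap_ker φ τ

theorem eval_comp_tau (ψ : k →+* K) (y : Fin n → K) (i j : Fin n) (d : ℕ) :
    (eval₂Hom ψ y).comp (tau k n i j d) =
      eval₂Hom ψ (Function.update y i (y i + y j ^ d)) := by
  apply MvPolynomial.ringHom_ext
  · intro a
    have h1 : tau k n i j d (C a) = C a := by
      show (MvPolynomial.aeval (R := k) _) (C a) = C a
      rw [MvPolynomial.aeval_C]; rfl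
    rw [RingHom.comp_apply, h1]
    simp
  · intro l
    have h1 : tau k n i j d (X l) =
        (Function.update MvPolynomial.X i (MvPolynomial.X i + MvPolynomial.X j ^ d) :
          Fin n → MvPolynomial (Fin n) k) l := by
      show (MvPolynomial.aeval (R := k) _) (X l) = _
      rw [MvPolynomial.aeval_X]
    rw [RingHom.comp_apply, h1]
    by_cases hl : l = i
    · subst hl
      simp
    · simp [Function.update_of_ne hl]

end pts

variable (W : (Spec (CommRingCat.of (MvPolynomial (Fin n) k))).Opens)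

/-- the closed complement -/
def Zset : Set (PrimeSpectrum (MvPolynomial (Fin n) k)) :=
  (W : Set ↥(Spec (CommRingCat.of (MvPolynomial (Fin n) k))))ᶜ

/-- its vanishing ideal -/
def Iv : Ideal (MvPolynomial (Fin n) k) := PrimeSpectrum.vanishingIdeal (Zset W)

theorem Zset_eq : Zset W = PrimeSpectrum.zeroLocus (Iv W : Set (MvPolynomial (Fin n) k)) := by
  have hcl : IsClosed (Zset W) := by
    have : IsOpen (W : Set ↥(Spec (CommRingCat.of (MvPolynomial (Fin n) k)))) := W.isOpen
    exact this.isClosed_compl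
  rw [Iv, PrimeSpectrum.zeroLocus_vanishingIdeal_eq_closure, hcl.closure_eq]

theorem mem_Zset_comap_iff (τ : MvPolynomial (Fin n) k →+* MvPolynomial (Fin n) k)
    (hτ : (Spec.map (CommRingCat.ofHom τ)) ⁻¹ᵁ W = W)
    (q : PrimeSpectrum (MvPolynomial (Fin n) k)) :
    PrimeSpectrum.comap τ q ∈ Zset W ↔ q ∈ Zset W := by
  have h1 : (q ∈ ((Spec.map (CommRingCat.ofHom τ)) ⁻¹ᵁ W :
      (Spec (CommRingCat.of (MvPolynomial (Fin n) k))).Opens)) ↔ q ∈ W := by rw [hτ]
  have h2 : (q ∈ ((Spec.map (CommRingCat.ofHom τ)) ⁻¹ᵁ W :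
      (Spec (CommRingCat.of (MvPolynomial (Fin n) k))).Opens)) ↔
      PrimeSpectrum.comap τ q ∈ W := Iff.rfl
  show ¬ (PrimeSpectrum.comap τ q ∈ W) ↔ ¬ (q ∈ W)
  rw [← h2, h1]

section pts2

variable {K : Type u} [Field K]

/-- the `K`-points of the complement -/
def Yset (ψ : k →+* K) : Set (Fin n → K) := {y | pt (eval₂Hom ψ y) ∈ Zset W}

theorem inv_Yset
    (hinv : ∀ (i j : Fin n), i ≠ j → ∀ d : ℕ,
      (Spec.map (CommRingCat.ofHom (MvPolynomial.aeval (R := k)
        (Function.update MvPolynomial.X i (MvPolynomial.X i + MvPolynomial.X j ^ d) :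
          Fin n → MvPolynomial (Fin n) k)).toRingHom)) ⁻¹ᵁ W = W)
    (ψ : k →+* K) :
    Inv (Yset W ψ) ((fun f => MvPolynomial.map ψ f) '' (Iv W : Set (MvPolynomial (Fin n) k))) := by
  constructor
  · intro y hy i j hij d
    show pt (eval₂Hom ψ (Function.update y i (y i + y j ^ d))) ∈ Zset W
    rw [← eval_comp_tau, ← comap_pt]
    exact (mem_Zset_comap_iff W (tau k n i j d) (hinv i j hij d) _).mpr hy
  · intro y
    show pt (eval₂Hom ψ y) ∈ Zset W ↔ _
    rw [Zset_eq, PrimeSpectrum.mem_zeroLocus]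
    constructor
    · rintro h F ⟨f, hf, rfl⟩
      have : f ∈ RingHom.ker (eval₂Hom ψ y) := h hf
      rw [MvPolynomial.eval_map]
      exact this
    · intro h f hf
      have := h _ ⟨f, hf, rfl⟩
      rw [MvPolynomial.eval_map] at this
      exact this

end pts2

/-- the residue field point -/
theorem residue_point (x : PrimeSpectrum (MvPolynomial (Fin n) k)) :
    pt (eval₂Hom ((algebraMap (MvPolynomial (Fin n) k) x.asIdeal.ResidueField).comp C)
      (fun l => algebraMap (MvPolynomial (Fin n) k) x.asIdeal.ResidueField (X l))) = x := by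
  have h1 : eval₂Hom ((algebraMap (MvPolynomial (Fin n) k) x.asIdeal.ResidueField).comp C)
      (fun l => algebraMap (MvPolynomial (Fin n) k) x.asIdeal.ResidueField (X l)) =
      algebraMap (MvPolynomial (Fin n) k) x.asIdeal.ResidueField := by
    apply MvPolynomial.ringHom_ext
    · intro a; simp
    · intro l; simp
  rw [h1]
  apply PrimeSpectrum.ext
  show RingHom.ker (algebraMap (MvPolynomial (Fin n) k) x.asIdeal.ResidueField) = x.asIdeal
  exact Ideal.ker_algebraMap_residueField x.asIdeal

theorem exists_ne_zero_mem_Iv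
    (hW : (W : Set ↥(Spec (CommRingCat.of (MvPolynomial (Fin n) k)))).Nonempty) :
    ∃ f ∈ Iv W, f ≠ 0 := by
  by_contra hcon
  push_neg at hcon
  have hbot : Iv W = ⊥ := (Submodule.eq_bot_iff _).mpr hcon
  have hall : ∀ w' : PrimeSpectrum (MvPolynomial (Fin n) k), w' ∈ Zset W := by
    intro w'
    rw [Zset_eq, hbot, PrimeSpectrum.mem_zeroLocus]
    intro f hf
    have hf0 : f = 0 := (Submodule.mem_bot _).mp hf
    rw [hf0]
    exact Ideal.zero_mem _
  obtain ⟨w, hw⟩ := hW
  exact hall w hw

/-- core: a point of the complement gives the vanishing of all polynomials, unless its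
coordinates are algebraic over the prime field -/
theorem coords_algebraic (hn : 2 ≤ n)
    (hW : (W : Set ↥(Spec (CommRingCat.of (MvPolynomial (Fin n) k)))).Nonempty)
    (hinv : ∀ (i j : Fin n), i ≠ j → ∀ d : ℕ,
      (Spec.map (CommRingCat.ofHom (MvPolynomial.aeval (R := k)
        (Function.update MvPolynomial.X i (MvPolynomial.X i + MvPolynomial.X j ^ d) :
          Fin n → MvPolynomial (Fin n) k)).toRingHom)) ⁻¹ᵁ W = W)
    (p : ℕ) [Fact p.Prime] [CharP k p]
    (x : PrimeSpectrum (MvPolynomial (Fin n) k)) (hx : x ∈ Zset W) (i : Fin n) :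
    ∃ m : ℕ, 0 < m ∧
      (algebraMap (MvPolynomial (Fin n) k) x.asIdeal.ResidueField (X i)) ^ (p ^ m) =
        algebraMap (MvPolynomial (Fin n) k) x.asIdeal.ResidueField (X i) := by
  by_contra hcon
  set ψ : k →+* x.asIdeal.ResidueField :=
    (algebraMap (MvPolynomial (Fin n) k) x.asIdeal.ResidueField).comp C with hψ
  set ξ : Fin n → x.asIdeal.ResidueField :=
    fun l => algebraMap (MvPolynomial (Fin n) k) x.asIdeal.ResidueField (X l) with hξ
  haveI : CharP x.asIdeal.ResidueField p := charP_of_injective_ringHom ψ.injective p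
  have hinj : Function.Injective (fun d : ℕ => ξ i ^ d) :=
    pow_injective_of_not_frob (p := p) (ξ i) hcon
  have hmem : ξ ∈ Yset W ψ := by
    show pt (eval₂Hom ψ ξ) ∈ Zset W
    rw [residue_point x]
    exact hx
  obtain ⟨f, hfI, hf0⟩ := exists_ne_zero_mem_Iv W hW
  have := all_zero_of_injective_pow hn (inv_Yset W hinv ψ) ξ hmem i hinj _ ⟨f, hfI, rfl⟩
  have h0 : MvPolynomial.map ψ f = 0 := this
  apply hf0
  exact MvPolynomial.map_injective ψ ψ.injective (by rw [h0, map_zero])

theorem no_points_charZero (hn : 2 ≤ n)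
    (hW : (W : Set ↥(Spec (CommRingCat.of (MvPolynomial (Fin n) k)))).Nonempty)
    (hinv : ∀ (i j : Fin n), i ≠ j → ∀ d : ℕ,
      (Spec.map (CommRingCat.ofHom (MvPolynomial.aeval (R := k)
        (Function.update MvPolynomial.X i (MvPolynomial.X i + MvPolynomial.X j ^ d) :
          Fin n → MvPolynomial (Fin n) k)).toRingHom)) ⁻¹ᵁ W = W)
    [CharZero k]
    (x : PrimeSpectrum (MvPolynomial (Fin n) k)) (hx : x ∈ Zset W) : False := by
  set ψ : k →+* x.asIdeal.ResidueField :=
    (algebraMap (MvPolynomial (Fin n) k) x.asIdeal.ResidueField).comp C with hψ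
  set ξ : Fin n → x.asIdeal.ResidueField :=
    fun l => algebraMap (MvPolynomial (Fin n) k) x.asIdeal.ResidueField (X l) with hξ
  haveI : CharZero x.asIdeal.ResidueField := charZero_of_injective_ringHom ψ.injective
  have hmem : ξ ∈ Yset W ψ := by
    show pt (eval₂Hom ψ ξ) ∈ Zset W
    rw [residue_point x]
    exact hx
  obtain ⟨f, hfI, hf0⟩ := exists_ne_zero_mem_Iv W hW
  have := all_zero_of_charZero hn (inv_Yset W hinv ψ) ξ hmem _ ⟨f, hfI, rfl⟩
  have h0 : MvPolynomial.map ψ f = 0 := this
  apply hf0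
  exact MvPolynomial.map_injective ψ ψ.injective (by rw [h0, map_zero])

/-- a point all of whose coordinates are algebraic over the prime field is closed -/
theorem isMaximal_of_coords (p : ℕ) [Fact p.Prime]
    (x : PrimeSpectrum (MvPolynomial (Fin n) k))
    (hx : ∀ i : Fin n, ∃ m : ℕ, 0 < m ∧
      (algebraMap (MvPolynomial (Fin n) k) x.asIdeal.ResidueField (X i)) ^ (p ^ m) =
        algebraMap (MvPolynomial (Fin n) k) x.asIdeal.ResidueField (X i)) :
    x.asIdeal.IsMaximal := by
  have hp : p.Prime := Fact.out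
  have hX : ∀ i : Fin n, IsIntegral k (Ideal.Quotient.mk x.asIdeal (X i)) := by
    intro i
    obtain ⟨m, hm, he⟩ := hx i
    have hq : (Ideal.Quotient.mk x.asIdeal (X i)) ^ (p ^ m) = Ideal.Quotient.mk x.asIdeal (X i) := by
      rw [← map_pow, ← sub_eq_zero, ← map_sub, Ideal.Quotient.eq_zero_iff_mem,
        ← Ideal.algebraMap_residueField_eq_zero, map_sub, map_pow, he, sub_self]
    have h1 : 1 < p ^ m := Nat.one_lt_pow hm.ne' hp.one_lt
    refine ⟨Polynomial.X ^ (p ^ m) - Polynomial.X, Polynomial.monic_X_pow_sub ?_, ?_⟩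
    · rw [Polynomial.degree_X]
      exact_mod_cast h1
    · rw [Polynomial.eval₂_sub, Polynomial.eval₂_pow, Polynomial.eval₂_X, hq, sub_self]
  haveI : Algebra.IsIntegral k (MvPolynomial (Fin n) k ⧸ x.asIdeal) := by
    constructor
    intro z
    obtain ⟨f, rfl⟩ := Ideal.Quotient.mk_surjective z
    induction f using MvPolynomial.induction_on with
    | C a => exact isIntegral_algebraMap (x := a)
    | add f g hf hg => rw [map_add]; exact hf.add hg
    | mul_X f i hf => rw [map_mul]; exact hf.mul (hX i)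
  exact Ideal.Quotient.maximal_of_isField _
    (isField_of_isIntegral_of_isField' (R := k) (Field.toIsField k))

theorem finite_Zset (hmax : ∀ x ∈ Zset W, x.asIdeal.IsMaximal) : (Zset W).Finite := by
  have hdim : Ring.KrullDimLE 0 (MvPolynomial (Fin n) k ⧸ Iv W) := by
    rw [Ring.krullDimLE_zero_iff]
    intro q hq
    have hmem : (⟨Ideal.comap (Ideal.Quotient.mk (Iv W)) q, inferInstance⟩ :
        PrimeSpectrum (MvPolynomial (Fin n) k)) ∈ Zset W := by
      rw [Zset_eq, PrimeSpectrum.mem_zeroLocus]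
      intro f hf
      show Ideal.Quotient.mk (Iv W) f ∈ q
      rw [Ideal.Quotient.eq_zero_iff_mem.mpr hf]
      exact q.zero_mem
    have h1 := hmax _ hmem
    have h2 := Ideal.map_eq_top_or_isMaximal_of_surjective
      (f := Ideal.Quotient.mk (Iv W)) Ideal.Quotient.mk_surjective h1
    rw [Ideal.map_comap_of_surjective _ Ideal.Quotient.mk_surjective] at h2
    exact h2.resolve_left hq.ne_top
  haveI : IsArtinianRing (MvPolynomial (Fin n) k ⧸ Iv W) :=
    isArtinianRing_iff_krullDimLE_zero.mpr hdim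
  have hrange : Zset W = Set.range (PrimeSpectrum.comap (Ideal.Quotient.mk (Iv W))) := by
    rw [range_comap_of_surjective _ _ Ideal.Quotient.mk_surjective,
      Ideal.mk_ker, Zset_eq]
  rw [hrange]
  exact Set.finite_range _

theorem main7451 (k : Type u) [Field k] (n : ℕ) (hn : 2 ≤ n)
    (W : (Spec (CommRingCat.of (MvPolynomial (Fin n) k))).Opens)
    (hW : (W : Set ↥(Spec (CommRingCat.of (MvPolynomial (Fin n) k)))).Nonempty)
    (hinv : ∀ (i j : Fin n), i ≠ j → ∀ d : ℕ,
      (Spec.map (CommRingCat.ofHom (MvPolynomial.aeval (R := k)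
        (Function.update MvPolynomial.X i (MvPolynomial.X i + MvPolynomial.X j ^ d) :
          Fin n → MvPolynomial (Fin n) k)).toRingHom)) ⁻¹ᵁ W = W) :
    W = ⊤ ∨ ∃ p : ℕ, p.Prime ∧ CharP k p ∧ ((W : Set ↥(Spec (CommRingCat.of (MvPolynomial (Fin n) k))))ᶜ).Finite ∧
      ∀ x : ↥(Spec (CommRingCat.of (MvPolynomial (Fin n) k))),
        x ∉ (W : Set ↥(Spec (CommRingCat.of (MvPolynomial (Fin n) k)))) →
        IsClosed ({x} : Set ↥(Spec (CommRingCat.of (MvPolynomial (Fin n) k)))) ∧ ∀ i : Fin n, ∃ m : ℕ, 0 < m ∧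
          (algebraMap (MvPolynomial (Fin n) k) x.asIdeal.ResidueField (MvPolynomial.X i)) ^ (p ^ m) =
            algebraMap (MvPolynomial (Fin n) k) x.asIdeal.ResidueField (MvPolynomial.X i) := by
  by_cases hWtop : W = ⊤
  · exact Or.inl hWtop
  have hex : ∃ x0 : PrimeSpectrum (MvPolynomial (Fin n) k), x0 ∈ Zset W := by
    by_contra hcon
    push_neg at hcon
    apply hWtop
    rw [eq_top_iff]
    intro x _
    by_contra hx
    exact hcon x hx
  obtain ⟨x0, hx0⟩ := hex
  obtain ⟨p, hp⟩ := CharP.exists k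
  rcases CharP.char_is_prime_or_zero k p with hprime | hzero
  · right
    haveI : Fact p.Prime := ⟨hprime⟩
    have hpts : ∀ x ∈ Zset W, ∀ i : Fin n, ∃ m : ℕ, 0 < m ∧
        (algebraMap (MvPolynomial (Fin n) k) x.asIdeal.ResidueField (X i)) ^ (p ^ m) =
          algebraMap (MvPolynomial (Fin n) k) x.asIdeal.ResidueField (X i) :=
      fun x hx i => coords_algebraic W hn hW hinv p x hx i
    have hmax : ∀ x ∈ Zset W, x.asIdeal.IsMaximal :=
      fun x hx => isMaximal_of_coords p x (hpts x hx)
    refine ⟨p, hprime, hp, finite_Zset W hmax, ?_⟩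
    intro x hx
    refine ⟨?_, hpts x hx⟩
    exact (PrimeSpectrum.isClosed_singleton_iff_isMaximal x).mpr (hmax x hx)
  · exfalso
    subst hzero
    haveI : CharZero k := CharP.charP_to_charZero k
    exact no_points_charZero W hn hW hinv x0 hx0

end

end Groth.Agent.Helper17.DA2
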