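import Mathlib
import Groth.Prelude.Def_DefoConn
import Groth.Prelude.Def_DefoSh2
import Groth.Agent.Lib.Helper13.TensorMap

set_option autoImplicit false
universe u
open CategoryTheory CategoryTheory.Limits AlgebraicGeometry Opposite TopologicalSpace

namespace Groth.Agent.Helper17.DCN1

open Groth.Agent.Helper13

variable {X : Scheme.{u}}

section TM
variable {M M' N N' : X.Modules}

lemma tmul_eq (U : X.Opens) (m : Γ(M, U)) (n : Γ(N, U)) :
    Tensor.tmul M N m n = SecTwist.tmul M N U m n := rfl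

lemma tmul_add_left (U : X.Opens) (m m' : Γ(M, U)) (n : Γ(N, U)) :
    SecTwist.tmul M N U (m + m') n = SecTwist.tmul M N U m n + SecTwist.tmul M N U m' n :=
  Tensor.tmul_add_left M N m m' n

lemma tmul_zero_left (U : X.Opens) (n : Γ(N, U)) :
    SecTwist.tmul M N U (0 : Γ(M, U)) n = 0 := by
  have h := tmul_add_left (M := M) (N := N) U 0 0 n
  rw [add_zero] at h
  exact left_eq_add.mp h

lemma tmul_zero_right (U : X.Opens) (m : Γ(M, U)) :
    SecTwist.tmul M N U m (0 : Γ(N, U)) = 0 := by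
  have h := Tensor.tmul_add_right M N m 0 0
  rw [add_zero] at h
  exact left_eq_add.mp h

lemma tmul_smul_left (U : X.Opens) (r : Γ(X, U)) (m : Γ(M, U)) (n : Γ(N, U)) :
    SecTwist.tmul M N U (r • m) n = r • SecTwist.tmul M N U m n :=
  Tensor.tmul_smul_left M N r m n

lemma tensorMap_add (f f' : M ⟶ M') (g : N ⟶ N') :
    KoszTw.tensorMap (f + f') g = KoszTw.tensorMap f g + KoszTw.tensorMap f' g := by
  apply Tensor.hom_ext
  intro U m n
  rw [tmul_eq, KoszTw.tensorMap_tmul, Scheme.Modules.Hom.add_app, Scheme.Modules.Hom.add_app]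
  change SecTwist.tmul M' N' U (f.app U m + f'.app U m) _ =
    (KoszTw.tensorMap f g).app U (SecTwist.tmul M N U m n) + (KoszTw.tensorMap f' g).app U (SecTwist.tmul M N U m n)
  rw [tmul_add_left, KoszTw.tensorMap_tmul, KoszTw.tensorMap_tmul]
  rfl

lemma tensorMap_zero (g : N ⟶ N') :
    KoszTw.tensorMap (0 : M ⟶ M') g = 0 := by
  apply Tensor.hom_ext
  intro U m n
  rw [tmul_eq, KoszTw.tensorMap_tmul, Scheme.Modules.Hom.zero_app, Scheme.Modules.Hom.zero_app]
  exact tmul_zero_left U _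

lemma tensorMap_smulModΓ (r : Coh.Γtop X) :
    KoszTw.tensorMap (Formal.smulModΓ M r) (𝟙 N) = Formal.smulModΓ (CohB1.tensorMod M N) r := by
  apply Tensor.hom_ext
  intro U m n
  rw [tmul_eq, KoszTw.tensorMap_tmul, KLin.smulModΓ_app_apply, KLin.smulModΓ_app_apply, tmul_smul_left]
  rfl

end TM

end Groth.Agent.Helper17.DCN1
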