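import Mathlib

set_option autoImplicit false
universe u

namespace Groth.Agent.Helper17.DCN4

open DualNumber

variable {k : Type*} [Field k]

lemma eps_mul_eq_zero_iff (z : DualNumber k) : (ε : DualNumber k) * z = 0 ↔ z.fst = 0 := by
  constructor
  · intro h
    have := congrArg TrivSqZeroExt.snd h
    simpa using this
  · intro h
    apply TrivSqZeroExt.ext
    · simp
    · simp [h]

lemma eq_eps_mul_of_fst_eq_zero (z : DualNumber k) (h : z.fst = 0) :
    z = (ε : DualNumber k) * TrivSqZeroExt.inl z.snd := by
  apply TrivSqZeroExt.ext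
  · simp [h]
  · simp

theorem exists_eps_smul_of_eps_smul_eq_zero {M : Type*} [AddCommGroup M] [Module (DualNumber k) M]
    [Module.Flat (DualNumber k) M] (d : M) (h : (ε : DualNumber k) • d = 0) :
    ∃ d' : M, d = (ε : DualNumber k) • d' := by
  have h' : ∑ i : Unit, (fun _ : Unit => (ε : DualNumber k)) i • (fun _ : Unit => d) i = 0 := by
    simpa using h
  obtain ⟨n, a, y, hx, ha⟩ := Module.Flat.isTrivialRelation_of_sum_smul_eq_zero h'
  have ha' : ∀ j, (a () j).fst = 0 := by
    intro j
    have := ha j
    simp only [Finset.univ_unique, Finset.sum_singleton] at this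
    exact (eps_mul_eq_zero_iff _).mp this
  refine ⟨∑ j, (TrivSqZeroExt.inl (a () j).snd : DualNumber k) • y j, ?_⟩
  have hd : d = ∑ j, a () j • y j := hx ()
  rw [hd, Finset.smul_sum]
  refine Finset.sum_congr rfl fun j _ => ?_
  rw [smul_smul, ← eq_eps_mul_of_fst_eq_zero _ (ha' j)]

end Groth.Agent.Helper17.DCN4
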