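import Mathlib
import Groth.Agent.Lib.Helper17.DCN4

set_option autoImplicit false
universe u

namespace Groth.Agent.Helper17.DCN10

open DualNumber TensorProduct Groth.Agent.Helper17.DCN4

section Gen
variable {R : Type*} [CommRing R] {M : Type*} [AddCommGroup M] [Module R M]

theorem injective_of_generator (I : Ideal R) (g : R) (hg : g ∈ I)
    (hgen : ∀ a ∈ I, ∃ b : R, a = b * g)
    (hker : ∀ m : M, g • m = 0 → ∃ (g' : R) (m' : M), g' * g = 0 ∧ m = g' • m') :
    Function.Injective (TensorProduct.lift ((LinearMap.lsmul R M).comp I.subtype)) := by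
  have hform : ∀ t : I ⊗[R] M, ∃ m : M, t = (⟨g, hg⟩ : I) ⊗ₜ[R] m := by
    intro t
    induction t using TensorProduct.induction_on with
    | zero => exact ⟨0, (TensorProduct.tmul_zero _ _).symm⟩
    | tmul a m =>
      obtain ⟨b, hb⟩ := hgen a.1 a.2
      refine ⟨b • m, ?_⟩
      have : a = b • (⟨g, hg⟩ : I) := Subtype.ext hb
      rw [this, TensorProduct.smul_tmul]
    | add x y hx hy =>
      obtain ⟨m, rfl⟩ := hx
      obtain ⟨m', rfl⟩ := hy
      exact ⟨m + m', (TensorProduct.tmul_add _ _ _).symm⟩
  rw [injective_iff_map_eq_zero]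
  intro t ht
  obtain ⟨m, rfl⟩ := hform t
  have h1 : g • m = 0 := by simpa using ht
  obtain ⟨g', m', hg', rfl⟩ := hker m h1
  rw [← TensorProduct.smul_tmul]
  have : g' • (⟨g, hg⟩ : I) = 0 := Subtype.ext hg'
  rw [this, TensorProduct.zero_tmul]

end Gen

variable {k : Type*} [Field k]

theorem flat_of_eps {N : Type*} [AddCommGroup N] [Module (DualNumber k) N]
    (h : ∀ n : N, (ε : DualNumber k) • n = 0 → ∃ n' : N, n = (ε : DualNumber k) • n') :
    Module.Flat (DualNumber k) N := by
  rw [Module.Flat.iff_lift_lsmul_comp_subtype_injective]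
  intro I _
  by_cases hA : ∃ a ∈ I, TrivSqZeroExt.fst a ≠ 0
  · obtain ⟨a, haI, ha⟩ := hA
    have hu : IsUnit a := TrivSqZeroExt.isUnit_iff_isUnit_fst.mpr (isUnit_iff_ne_zero.mpr ha)
    have h1 : (1 : DualNumber k) ∈ I := by
      have := I.eq_top_of_isUnit_mem haI hu
      rw [this]; trivial
    refine injective_of_generator I 1 h1 (fun a _ => ⟨a, (mul_one a).symm⟩) ?_
    intro m hm
    exact ⟨0, 0, by simp, by simpa using hm⟩
  · push_neg at hA
    by_cases hε : (ε : DualNumber k) ∈ I
    · refine injective_of_generator I ε hε ?_ ?_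
      · intro a ha
        exact ⟨TrivSqZeroExt.inl (TrivSqZeroExt.snd a),
          (eq_eps_mul_of_fst_eq_zero a (hA a ha)).trans (mul_comm _ _)⟩
      · intro m hm
        obtain ⟨m', rfl⟩ := h m hm
        exact ⟨ε, m', by simp, rfl⟩
    · have h0 : ∀ a ∈ I, a = 0 := by
        intro a ha
        have hf := hA a ha
        by_contra hne
        have hs : TrivSqZeroExt.snd a ≠ 0 := by
          intro hs
          apply hne
          exact TrivSqZeroExt.ext hf hs
        apply hε
        have : (ε : DualNumber k) = TrivSqZeroExt.inl (TrivSqZeroExt.snd a)⁻¹ * a := by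
          apply TrivSqZeroExt.ext
          · simp [hf]
          · simp [hf, hs]
        rw [this]
        exact I.mul_mem_left _ ha
      refine injective_of_generator I 0 I.zero_mem (fun a ha => ⟨0, by rw [h0 a ha]; simp⟩) ?_
      intro m _
      exact ⟨1, m, by simp, (one_smul _ m).symm⟩

end Groth.Agent.Helper17.DCN10
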