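import Mathlib
import Groth.Prelude.Def_DefoConn
import Groth.Prelude.Def_DefoSh2
import Groth.Agent.Lib.Helper17.DCN4
import Groth.Agent.Lib.Helper5.StalkCx4
import Groth.Agent.Lib.Helper13.DualFinLocFree

set_option autoImplicit false
universe u
open CategoryTheory CategoryTheory.Limits AlgebraicGeometry Opposite TopologicalSpace ArtFun ArtFun.Art

namespace Groth.Agent.Helper17.DCN5

open DefoSh

variable {k : Type u} [Field k] {X : Scheme.{u}} [X.Over (Spec (CommRingCat.of k))] {E : X.Modules}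
  (D : DefoSh.Defo E (ArtFun.Art.dual k k)) (ι : E ⟶ D.sheaf)
  (hι : D.π ≫ ι = D.act (DualNumber.eps : DualNumber k))

include hι

section Stalk
variable (p : X)

lemma eps_apply (v : ↑(D.sheaf.presheaf.stalk p)) :
    RefHull.stalkMapₗ (D.act (DualNumber.eps : DualNumber k)) p v =
      RefHull.stalkMapₗ ι p (RefHull.stalkMapₗ D.π p v) := by
  rw [← hι, stalkMapₗ_comp_apply]

omit hι in
lemma pi_eps_apply (v : ↑(D.sheaf.presheaf.stalk p)) :
    RefHull.stalkMapₗ D.π p (RefHull.stalkMapₗ (D.act (DualNumber.eps : DualNumber k)) p v) = 0 := by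
  rw [← stalkMapₗ_comp_apply, D.act_π (DualNumber.eps : DualNumber k) rfl, stalkMapₗ_zero_apply]

lemma pi_iota_apply (e : ↑(E.presheaf.stalk p)) :
    RefHull.stalkMapₗ D.π p (RefHull.stalkMapₗ ι p e) = 0 := by
  obtain ⟨d, rfl⟩ := D.surj p e
  rw [← eps_apply D ι hι, pi_eps_apply]

lemma iota_injective : Function.Injective (RefHull.stalkMapₗ ι p) := by
  rw [injective_iff_map_eq_zero]
  intro e he
  obtain ⟨d, rfl⟩ := D.surj p e
  letI iM : Module (DualNumber k) ↑(D.sheaf.presheaf.stalk p) := D.stalkMod p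
  haveI : Module.Flat (DualNumber k) ↑(D.sheaf.presheaf.stalk p) := D.flat p
  have h0 : (DualNumber.eps : DualNumber k) • d = 0 := by
    change RefHull.stalkMapₗ (D.act (DualNumber.eps : DualNumber k)) p d = 0
    rw [eps_apply D ι hι, he]
  obtain ⟨d', rfl⟩ := Groth.Agent.Helper17.DCN4.exists_eps_smul_of_eps_smul_eq_zero d h0
  exact pi_eps_apply D p d'

lemma ker_pi_le (v : ↑(D.sheaf.presheaf.stalk p)) (hv : RefHull.stalkMapₗ D.π p v = 0) :
    ∃ e, RefHull.stalkMapₗ ι p e = v := by
  letI := D.stalkMod p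
  have hmem := D.ker_le p v hv
  refine Submodule.smul_induction_on (p := fun v => ∃ e, RefHull.stalkMapₗ ι p e = v) hmem ?_ ?_
  · intro a ha w _
    have ha0 : TrivSqZeroExt.fst (a : DualNumber k) = 0 := (Art.mem_maximalIdeal_iff _ a).mp ha
    have hae := Groth.Agent.Helper17.DCN4.eq_eps_mul_of_fst_eq_zero (a : DualNumber k) ha0
    refine ⟨RefHull.stalkMapₗ D.π p
      (RefHull.stalkMapₗ (D.act (TrivSqZeroExt.inl (TrivSqZeroExt.snd (a : DualNumber k)) : DualNumber k)) p w), ?_⟩
    rw [← eps_apply D ι hι, ← stalkMapₗ_comp_apply]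
    change _ = RefHull.stalkMapₗ (D.act a) p w
    have : D.act a = D.act (TrivSqZeroExt.inl (TrivSqZeroExt.snd (a : DualNumber k)) : DualNumber k) ≫
        D.act (DualNumber.eps : DualNumber k) := by
      refine (congrArg D.act hae).trans ?_
      exact (D.act.map_mul (DualNumber.eps : DualNumber k)
        (TrivSqZeroExt.inl (TrivSqZeroExt.snd (a : DualNumber k)) : DualNumber k)).trans (End.mul_def _ _)
    rw [this]
  · rintro x y ⟨e, rfl⟩ ⟨e', rfl⟩
    exact ⟨e + e', map_add _ _ _⟩

end Stalk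

section Sheaf

omit hι in
lemma sf_map_apply {M N : X.Modules} (φ : M ⟶ N) (x : X) (v : ↑(M.presheaf.stalk x)) :
    (DerSch.stalkFunctor X x).map φ v = RefHull.stalkMapₗ φ x v := rfl

omit hι in
lemma epi_pi : Epi D.π := by
  apply Groth.Agent.Helper5.StalkCx.epi_of_stalks
  intro x
  rw [ModuleCat.epi_iff_surjective]
  exact D.surj x

lemma iota_pi : ι ≫ D.π = 0 := by
  haveI := epi_pi D
  rw [← cancel_epi D.π, ← Category.assoc, hι, D.act_π (DualNumber.eps : DualNumber k) rfl, comp_zero]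

/-- the short complex `E ⟶ D.sheaf ⟶ E`. -/
noncomputable def sc : ShortComplex X.Modules := ShortComplex.mk ι D.π (iota_pi D ι hι)

lemma sc_shortExact : (sc D ι hι).ShortExact := by
  apply Groth.Agent.Helper5.StalkCx.shortExact_of_stalks
  intro x
  refine ShortComplex.ShortExact.mk' ?_ ?_ ?_
  · rw [ShortComplex.moduleCat_exact_iff]
    intro v hv
    obtain ⟨e, he⟩ := ker_pi_le D ι hι x v hv
    exact ⟨e, he⟩
  · rw [ModuleCat.mono_iff_injective]
    exact iota_injective D ι hι x
  · rw [ModuleCat.epi_iff_surjective]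
    exact D.surj x

end Sheaf

end Groth.Agent.Helper17.DCN5
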