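import Mathlib
import Groth.Agent.Lib.Helper17.DCN5
import Groth.Agent.Lib.Helper17.DCN10

set_option autoImplicit false
universe u
open CategoryTheory CategoryTheory.Limits AlgebraicGeometry Opposite TopologicalSpace ArtFun ArtFun.Art

namespace Groth.Agent.Helper17.DCN11

open DefoSh Groth.Agent.Helper17.DCN5

variable {X : Scheme.{u}}

theorem hom_eq_zero_of_stalks {M N : X.Modules} (φ : M ⟶ N)
    (h : ∀ (x : X) (v : ↑(M.presheaf.stalk x)), RefHull.stalkMapₗ φ x v = 0) : φ = 0 := by
  refine Scheme.Modules.hom_ext _ _ fun U => ?_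
  ext s
  change φ.app U s = 0
  refine TopCat.Presheaf.section_ext ⟨N.presheaf, N.isSheaf⟩ U _ _ ?_
  intro x hx
  have := h x (M.presheaf.germ U x hx s)
  rw [RefHull.stalkMapₗ_germ] at this
  rw [this]
  exact (map_zero _).symm

section Iota
variable {k : Type u} [Field k] [X.Over (Spec (CommRingCat.of k))] {E : X.Modules}
  (D : DefoSh.Defo E (ArtFun.Art.dual k k))

lemma act_comp_eps_of_mem (a : DualNumber k) (ha0 : TrivSqZeroExt.fst a = 0) :
    (D.act a : D.sheaf ⟶ D.sheaf) ≫ D.act (DualNumber.eps : DualNumber k) = 0 := by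
  have h0 : (DualNumber.eps : DualNumber k) * a = 0 :=
    (Groth.Agent.Helper17.DCN4.eps_mul_eq_zero_iff a).mpr ha0
  have h1 : D.act ((DualNumber.eps : DualNumber k) * a) = D.act (DualNumber.eps : DualNumber k) * D.act a :=
    map_mul D.act _ _
  have h2 : D.act ((DualNumber.eps : DualNumber k) * a) = 0 := by
    refine (congrArg D.act h0).trans (map_zero D.act)
  exact ((End.mul_def _ _).symm.trans h1.symm).trans h2

theorem exists_iota : ∃ i : E ⟶ D.sheaf, D.π ≫ i = D.act (DualNumber.eps : DualNumber k) := by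
  haveI := epi_pi D
  have hz : kernel.ι D.π ≫ (D.act (DualNumber.eps : DualNumber k) : D.sheaf ⟶ D.sheaf) = 0 := by
    apply hom_eq_zero_of_stalks
    intro x v
    rw [stalkMapₗ_comp_apply]
    have hv : RefHull.stalkMapₗ D.π x (RefHull.stalkMapₗ (kernel.ι D.π) x v) = 0 := by
      rw [← stalkMapₗ_comp_apply, kernel.condition, stalkMapₗ_zero_apply]
    letI := D.stalkMod x
    have hmem := D.ker_le x _ hv
    refine Submodule.smul_induction_on
      (p := fun w => RefHull.stalkMapₗ (D.act (DualNumber.eps : DualNumber k)) x w = 0) hmem ?_ ?_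
    · intro a ha w _
      change RefHull.stalkMapₗ (D.act (DualNumber.eps : DualNumber k)) x
        (RefHull.stalkMapₗ (D.act a) x w) = 0
      rw [← stalkMapₗ_comp_apply]
      have ha0 : TrivSqZeroExt.fst (a : DualNumber k) = 0 := (Art.mem_maximalIdeal_iff _ a).mp ha
      have := act_comp_eps_of_mem D a ha0
      rw [this, stalkMapₗ_zero_apply]
    · intro y z hy hz
      rw [map_add, hy, hz, add_zero]
  let hc := Abelian.epiIsCokernelOfKernel _ (kernelIsKernel D.π)
  exact ⟨hc.desc (CokernelCofork.ofπ _ hz), hc.fac (CokernelCofork.ofπ _ hz) WalkingParallelPair.one⟩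

end Iota

section OfExt
variable (k : Type u) [Field k] [X.Over (Spec (CommRingCat.of k))] {E M : X.Modules}
  (f : E ⟶ M) (g : M ⟶ E) (w : f ≫ g = 0)

/-- the endomorphism `g ≫ f` of the middle term. -/
noncomputable def epsEnd : End M := g ≫ f

include w in
lemma epsEnd_sq : epsEnd f g * epsEnd f g = 0 := by
  rw [End.mul_def]
  unfold epsEnd
  rw [Category.assoc, ← Category.assoc f, w, zero_comp, comp_zero]

/-- the action of the dual numbers on the middle term of an extension. -/
noncomputable def extAct : DualNumber k →ₐ[k] End M :=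
  DualNumber.lift ⟨(Algebra.ofId k (End M), epsEnd f g),
    epsEnd_sq f g w, fun a => (Algebra.commutes a (epsEnd f g)).symm⟩

lemma extAct_apply (z : DualNumber k) :
    extAct k f g w z = z.fst • (1 : End M) + z.snd • epsEnd f g := by
  change algebraMap k (End M) z.fst + (algebraMap k (End M) z.snd) * epsEnd f g = _
  rw [Algebra.algebraMap_eq_smul_one, Algebra.algebraMap_eq_smul_one, smul_mul_assoc, one_mul]

lemma extAct_hom (z : DualNumber k) :
    (extAct k f g w z : M ⟶ M) = z.fst • 𝟙 M + z.snd • (g ≫ f) :=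
  extAct_apply k f g w z

lemma extAct_eps : (extAct k f g w (DualNumber.eps : DualNumber k) : M ⟶ M) = g ≫ f := by
  rw [extAct_hom]
  change ((DualNumber.eps : DualNumber k).fst • 𝟙 M +
      (DualNumber.eps : DualNumber k).snd • (g ≫ f) : M ⟶ M) = _
  simp

lemma extAct_comp_g (z : DualNumber k) (hz : z.fst = 0) :
    (extAct k f g w z : M ⟶ M) ≫ g = 0 := by
  rw [extAct_hom, hz]
  change ((0 : k) • 𝟙 M + z.snd • (g ≫ f)) ≫ g = 0
  simp [Linear.smul_comp, w]

section Stalk
variable (hS : (ShortComplex.mk f g w).ShortExact) (p : X)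
include hS

omit [X.Over (Spec (CommRingCat.of k))] in
lemma stalk_g_surjective : Function.Surjective (RefHull.stalkMapₗ g p) :=
  (hS.map_of_exact (DerSch.stalkFunctor X p)).moduleCat_surjective_g

omit [X.Over (Spec (CommRingCat.of k))] in
lemma stalk_f_injective : Function.Injective (RefHull.stalkMapₗ f p) :=
  (hS.map_of_exact (DerSch.stalkFunctor X p)).moduleCat_injective_f

omit [X.Over (Spec (CommRingCat.of k))] in
lemma stalk_exact (v : ↑(M.presheaf.stalk p)) (hv : RefHull.stalkMapₗ g p v = 0) :
    ∃ e, RefHull.stalkMapₗ f p e = v :=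
  (ShortComplex.moduleCat_exact_iff _).mp (hS.map_of_exact (DerSch.stalkFunctor X p)).exact v hv

omit hS in
lemma eps_smul_eq (v : ↑(M.presheaf.stalk p)) :
    RefHull.stalkMapₗ (extAct k f g w (DualNumber.eps : DualNumber k)) p v =
      RefHull.stalkMapₗ f p (RefHull.stalkMapₗ g p v) := by
  rw [← stalkMapₗ_comp_apply]
  exact congrArg (fun φ : M ⟶ M => RefHull.stalkMapₗ φ p v) (extAct_eps k f g w)

end Stalk

/-- the first-order deformation attached to an extension of `E` by `E`. -/
noncomputable def defoOfExt (hS : (ShortComplex.mk f g w).ShortExact) :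
    DefoSh.Defo E (ArtFun.Art.dual k k) where
  sheaf := M
  act := extAct k f g w
  π := g
  act_π a ha := extAct_comp_g k f g w a ha
  surj p := stalk_g_surjective f g w hS p
  ker_le p v hv := by
    letI : Module (dual k k) ↑(M.presheaf.stalk p) :=
      stalkModule (A := dual k k) M (extAct k f g w).toRingHom p
    let ε : (dual k k) := (DualNumber.eps : DualNumber k)
    have hε : ε ∈ IsLocalRing.maximalIdeal (dual k k) := by
      rw [Art.mem_maximalIdeal_iff]
      rfl
    obtain ⟨e, rfl⟩ := stalk_exact f g w hS p v hv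
    obtain ⟨u, rfl⟩ := stalk_g_surjective f g w hS p e
    rw [← eps_smul_eq k f g w p u]
    exact Submodule.smul_mem_smul hε Submodule.mem_top
  flat p := by
    letI iM : Module (DualNumber k) ↑(M.presheaf.stalk p) :=
      stalkModule M (extAct k f g w).toRingHom p
    apply Groth.Agent.Helper17.DCN10.flat_of_eps
    intro n hn
    have hn' : RefHull.stalkMapₗ f p (RefHull.stalkMapₗ g p n) = 0 := by
      rw [← eps_smul_eq k f g w p n]
      exact hn
    have h0 : RefHull.stalkMapₗ g p n = 0 :=
      stalk_f_injective f g w hS p (hn'.trans (map_zero _).symm)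
    obtain ⟨e, rfl⟩ := stalk_exact f g w hS p n h0
    obtain ⟨u, rfl⟩ := stalk_g_surjective f g w hS p e
    exact ⟨u, (eps_smul_eq k f g w p u).symm⟩

end OfExt

end Groth.Agent.Helper17.DCN11
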