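import Mathlib
import Groth.Agent.Lib.Helper17.DCN1
import Groth.Agent.Lib.Helper5.StalkCx4

set_option autoImplicit false
universe u
open CategoryTheory CategoryTheory.Limits AlgebraicGeometry Opposite TopologicalSpace MonoidalCategory

namespace Groth.Agent.Helper17.DCN6

open Groth.Agent.Helper17.DCN1

section Alg
variable {R : Type u} [CommRing R]

/-- the short complex `S ⊗ N`. -/
noncomputable def scWhisker (S : ShortComplex (ModuleCat.{u} R)) (N : ModuleCat.{u} R) :
    ShortComplex (ModuleCat.{u} R) :=
  ShortComplex.mk (S.f ▷ N) (S.g ▷ N)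
    (by rw [← MonoidalCategory.comp_whiskerRight, S.zero, MonoidalPreadditive.zero_whiskerRight])

theorem shortExact_whiskerRight (S : ShortComplex (ModuleCat.{u} R)) (hS : S.ShortExact)
    [Module.Flat R S.X₃] (N : ModuleCat.{u} R) : (scWhisker S N).ShortExact := by
  have hinj : Function.Injective S.f.hom := hS.moduleCat_injective_f
  have hsurj : Function.Surjective S.g.hom := hS.moduleCat_surjective_g
  have hex : Function.Exact S.f.hom S.g.hom :=
    (ShortComplex.ShortExact.moduleCat_exact_iff_function_exact S).mp hS.exact
  refine ShortComplex.ShortExact.mk' ?_ ?_ ?_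
  · rw [ShortComplex.ShortExact.moduleCat_exact_iff_function_exact]
    exact rTensor_exact N hex hsurj
  · rw [ModuleCat.mono_iff_injective]
    exact (LinearMap.lTensor_inj_iff_rTensor_inj _ _).mp
      (LinearMap.lTensor_injective_of_exact_of_flat S.g.hom hsurj S.f.hom hinj hex N)
  · rw [ModuleCat.epi_iff_surjective]
    exact LinearMap.rTensor_surjective N hsurj

end Alg

section Sheaf
variable {X : Scheme.{u}}

/-- the short complex `S ⊗ N` of `O_X`-modules. -/
noncomputable def scTensor (S : ShortComplex X.Modules) (N : X.Modules) : ShortComplex X.Modules :=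
  ShortComplex.mk (KoszTw.tensorMap S.f (𝟙 N)) (KoszTw.tensorMap S.g (𝟙 N))
    (by rw [← KoszTw.tensorMap_comp, S.zero, tensorMap_zero])

open Groth.Agent.Helper5.StalkCx in
theorem scTensor_shortExact (S : ShortComplex X.Modules) (hS : S.ShortExact)
    (hflat : ∀ x : X, Module.Flat (X.presheaf.stalk x) (S.X₃.presheaf.stalk x)) (N : X.Modules) :
    (scTensor S N).ShortExact := by
  apply shortExact_of_stalks
  intro x
  have hSx : (S.map (DerSch.stalkFunctor X x)).ShortExact := hS.map_of_exact _
  haveI : Module.Flat (X.presheaf.stalk x) (S.map (DerSch.stalkFunctor X x)).X₃ := hflat x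
  have h2 := shortExact_whiskerRight _ hSx ((DerSch.stalkFunctor X x).obj N)
  have e : (scTensor S N).map (DerSch.stalkFunctor X x) ≅
      scWhisker (S.map (DerSch.stalkFunctor X x)) ((DerSch.stalkFunctor X x).obj N) :=
    ShortComplex.isoMk ((stalkBiComm x).μ S.X₁ N) ((stalkBiComm x).μ S.X₂ N) ((stalkBiComm x).μ S.X₃ N)
      (by
        have := (stalkBiComm x).nat_left S.f N
        rw [KoszTw.tensorBi_map_app] at this
        exact this.symm)
      (by
        have := (stalkBiComm x).nat_left S.g N
        rw [KoszTw.tensorBi_map_app] at this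
        exact this.symm)
  exact ShortComplex.shortExact_of_iso e.symm h2

end Sheaf

end Groth.Agent.Helper17.DCN6
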