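import Mathlib
import Groth.Agent.Lib.Helper17.DCN1

set_option autoImplicit false
universe u
open CategoryTheory CategoryTheory.Limits AlgebraicGeometry Opposite TopologicalSpace

namespace Groth.Agent.Helper17.DCN2

open Groth.Agent.Helper17.DCN1

variable {X : Scheme.{u}} {Ω' : X.Modules}

section Hor
variable {M M' : X.Modules}
  {c : Coh.toAb M ⟶ Coh.toAb (CohB1.tensorMod M Ω')} {c' : Coh.toAb M' ⟶ Coh.toAb (CohB1.tensorMod M' Ω')}

theorem isHorizontal_add {φ ψ : M ⟶ M'} (hφ : ConnSh.IsHorizontal c c' φ)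
    (hψ : ConnSh.IsHorizontal c c' ψ) : ConnSh.IsHorizontal c c' (φ + ψ) := by
  intro U e
  rw [tensorMap_add, Scheme.Modules.Hom.add_app, Scheme.Modules.Hom.add_app]
  change ConnSh.secApp c' U (φ.app U e + ψ.app U e) = (KoszTw.tensorMap φ (𝟙 Ω')).app U (ConnSh.secApp c U e) +
    (KoszTw.tensorMap ψ (𝟙 Ω')).app U (ConnSh.secApp c U e)
  refine ((ConnSh.secApp c' U).map_add _ _).trans ?_
  exact congrArg₂ (· + ·) (hφ U e) (hψ U e)

theorem isHorizontal_zero : ConnSh.IsHorizontal c c' (0 : M ⟶ M') := by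
  intro U e
  rw [tensorMap_zero, Scheme.Modules.Hom.zero_app, Scheme.Modules.Hom.zero_app]
  exact (ConnSh.secApp c' U).map_zero

end Hor

section Const
variable {k : Type u} [Field k] [X.Over (Spec (CommRingCat.of k))]
  (δ : OmegaSh.Der (X ↘ Spec (CommRingCat.of k)) Ω')

theorem der_res_toGlobal (U : X.Opens) (a : k) :
    δ.app U (X.presheaf.map (homOfLE (le_top : U ≤ ⊤)).op
      (Coh.toGlobal (X ↘ Spec (CommRingCat.of k)) a)) = 0 := by
  have h0 : δ.app ⊤ (Coh.toGlobal (X ↘ Spec (CommRingCat.of k)) a) = 0 :=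
    δ.d_app (X := op ⊤) ((Scheme.ΓSpecIso (CommRingCat.of k)).inv.hom a)
  have h1 := δ.d_map (X := op ⊤) (Y := op U) (homOfLE (le_top : U ≤ ⊤)).op
    (Coh.toGlobal (X ↘ Spec (CommRingCat.of k)) a)
  rw [OmegaSh.Der.app_apply]
  refine h1.trans ?_
  rw [← OmegaSh.Der.app_apply, h0]
  exact map_zero _

theorem tensorMap_smul {M M' : X.Modules} (a : k) (φ : M ⟶ M') :
    KoszTw.tensorMap (a • φ) (𝟙 Ω') = a • KoszTw.tensorMap φ (𝟙 Ω') := by
  rw [KLin.smul_def, KLin.smul_def]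
  have h := KoszTw.tensorMap_comp (Formal.smulMod k M a) φ (𝟙 Ω') (𝟙 Ω')
  rw [Category.comp_id] at h
  rw [h, Formal.smulMod, tensorMap_smulModΓ]
  rfl

theorem isHorizontal_smul {M M' : X.Modules}
    {c : Coh.toAb M ⟶ Coh.toAb (CohB1.tensorMod M Ω')} {c' : Coh.toAb M' ⟶ Coh.toAb (CohB1.tensorMod M' Ω')}
    (hc' : ConnSh.IsConn δ M' c') {φ : M ⟶ M'} (h : ConnSh.IsHorizontal c c' φ) (a : k) :
    ConnSh.IsHorizontal c c' (a • φ) := by
  intro U e
  rw [tensorMap_smul]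
  have e1 := KLin.smul_app_apply a φ U e
  have e2 := KLin.smul_app_apply a (KoszTw.tensorMap φ (𝟙 Ω')) U (ConnSh.secApp c U e)
  refine (congrArg (ConnSh.secApp c' U) e1).trans ?_
  refine (hc' U _ (φ.app U e)).trans ?_
  rw [der_res_toGlobal]
  refine Eq.trans ?_ e2.symm
  rw [h U e]
  refine (congrArg (_ + ·) (tmul_zero_right U _)).trans ?_
  exact add_zero _

end Const

end Groth.Agent.Helper17.DCN2
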