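import Mathlib
import Groth.Agent.Lib.Helper17.DCN2

set_option autoImplicit false
universe u
open CategoryTheory CategoryTheory.Limits AlgebraicGeometry Opposite TopologicalSpace

namespace Groth.Agent.Helper17.DCN7

open Groth.Agent.Helper17.DCN1 Groth.Agent.Helper17.DCN2

variable {X : Scheme.{u}} {Ω' : X.Modules}

section Lin
variable {M M' : X.Modules}

theorem secApp_add (c c' : Coh.toAb M ⟶ Coh.toAb M') (U : X.Opens) (e : M.val.obj (op U)) :
    ConnSh.secApp (c + c') U e = ConnSh.secApp c U e + ConnSh.secApp c' U e := rfl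

theorem secApp_sub (c c' : Coh.toAb M ⟶ Coh.toAb M') (U : X.Opens) (e : M.val.obj (op U)) :
    ConnSh.secApp (c - c') U e = ConnSh.secApp c U e - ConnSh.secApp c' U e := rfl

theorem secApp_map (ψ : M ⟶ M') (U : X.Opens) (e : M.val.obj (op U)) :
    ConnSh.secApp ((SheafOfModules.toSheaf X.ringCatSheaf).map ψ) U e = ψ.app U e := rfl

end Lin

section Diff
variable {S : Scheme.{u}} {f : X ⟶ S} (δ : OmegaSh.Der f Ω') {M : X.Modules}
  (c c' : Coh.toAb M ⟶ Coh.toAb (CohB1.tensorMod M Ω'))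

theorem sub_linear (hc : ConnSh.IsConn δ M c) (hc' : ConnSh.IsConn δ M c') (U : X.Opens) (t : Γ(X, U))
    (e : M.val.obj (op U)) :
    ConnSh.secApp (c - c') U (t • e) = t • ConnSh.secApp (c - c') U e := by
  rw [secApp_sub, secApp_sub, hc U t e, hc' U t e, smul_sub]
  abel

/-- the difference of two connections, as a morphism of modules. -/
noncomputable def diffHom (hc : ConnSh.IsConn δ M c) (hc' : ConnSh.IsConn δ M c') :
    M ⟶ CohB1.tensorMod M Ω' :=
  ⟨PresheafOfModules.homMk (c - c').hom (by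
    intro U s m
    exact sub_linear δ c c' hc hc' U.unop s m)⟩

theorem map_diffHom (hc : ConnSh.IsConn δ M c) (hc' : ConnSh.IsConn δ M c') :
    (SheafOfModules.toSheaf X.ringCatSheaf).map (diffHom δ c c' hc hc') = c - c' := rfl

theorem diffHom_app (hc : ConnSh.IsConn δ M c) (hc' : ConnSh.IsConn δ M c') (U : X.Opens)
    (e : M.val.obj (op U)) :
    (diffHom δ c c' hc hc').app U e = ConnSh.secApp c U e - ConnSh.secApp c' U e := rfl

theorem isConn_add_map (hc : ConnSh.IsConn δ M c) (ψ : M ⟶ CohB1.tensorMod M Ω') :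
    ConnSh.IsConn δ M (c + (SheafOfModules.toSheaf X.ringCatSheaf).map ψ) := by
  intro U t e
  rw [secApp_add, secApp_add, secApp_map, secApp_map, hc U t e]
  have h : ψ.app U (t • e) = t • ψ.app U e := Scheme.Modules.Hom.app_smul ψ t e
  rw [h, smul_add]
  abel

end Diff

section Hor
variable {M M' : X.Modules}
  {c : Coh.toAb M ⟶ Coh.toAb (CohB1.tensorMod M Ω')} {c' : Coh.toAb M' ⟶ Coh.toAb (CohB1.tensorMod M' Ω')}

theorem isHorizontal_add_map {g : M ⟶ M'} (h : ConnSh.IsHorizontal c c' g)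
    (ψ : M ⟶ CohB1.tensorMod M Ω') (ψ' : M' ⟶ CohB1.tensorMod M' Ω')
    (hcomm : g ≫ ψ' = ψ ≫ KoszTw.tensorMap g (𝟙 Ω')) :
    ConnSh.IsHorizontal (c + (SheafOfModules.toSheaf X.ringCatSheaf).map ψ)
      (c' + (SheafOfModules.toSheaf X.ringCatSheaf).map ψ') g := by
  intro U e
  rw [secApp_add, secApp_add, secApp_map, secApp_map, h U e]
  have h2 : ψ'.app U (g.app U e) = (KoszTw.tensorMap g (𝟙 Ω')).app U (ψ.app U e) :=
    congrArg (fun φ : M ⟶ CohB1.tensorMod M' Ω' => φ.app U e) hcomm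
  rw [h2]
  exact (map_add _ _ _).symm

theorem isHorizontal_add_map_left {g : M ⟶ M'} (h : ConnSh.IsHorizontal c c' g)
    (ψ : M ⟶ CohB1.tensorMod M Ω') (hz : ψ ≫ KoszTw.tensorMap g (𝟙 Ω') = 0) :
    ConnSh.IsHorizontal (c + (SheafOfModules.toSheaf X.ringCatSheaf).map ψ) c' g := by
  intro U e
  rw [secApp_add, secApp_map, h U e]
  have h2 : (KoszTw.tensorMap g (𝟙 Ω')).app U (ψ.app U e) = 0 :=
    congrArg (fun φ : M ⟶ CohB1.tensorMod M' Ω' => φ.app U e) hz
  refine Eq.trans ?_ (map_add _ _ _).symm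
  exact ((congrArg (_ + ·) h2).trans (add_zero _)).symm

end Hor

end Groth.Agent.Helper17.DCN7
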