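import Mathlib
import Groth.Agent.Lib.Helper17.DCN5
import Groth.Agent.Lib.Helper17.DCN6
import Groth.Agent.Lib.Helper17.DCN7

set_option autoImplicit false
universe u
open CategoryTheory CategoryTheory.Limits AlgebraicGeometry Opposite TopologicalSpace ArtFun ArtFun.Art

namespace Groth.Agent.Helper17.DCN8

open Groth.Agent.Helper17.DCN1 Groth.Agent.Helper17.DCN2 Groth.Agent.Helper17.DCN5
  Groth.Agent.Helper17.DCN6 Groth.Agent.Helper17.DCN7 DefoSh

variable {k : Type u} [Field k] {X : Scheme.{u}} [X.Over (Spec (CommRingCat.of k))] {Ω' : X.Modules}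
  (δ : OmegaSh.Der (X ↘ Spec (CommRingCat.of k)) Ω') {E : X.Modules}
  (nabla : Coh.toAb E ⟶ Coh.toAb (CohB1.tensorMod E Ω'))
  (D : DefoSh.Defo E (ArtFun.Art.dual k k)) (ι : E ⟶ D.sheaf)
  (hι : D.π ≫ ι = D.act (DualNumber.eps : DualNumber k))

include hι

lemma iota_eps : ι ≫ D.act (DualNumber.eps : DualNumber k) = 0 := by
  rw [← hι, ← Category.assoc, iota_pi D ι hι, zero_comp]

omit hι in
lemma act_eq (a : DualNumber k) :
    D.act a = TrivSqZeroExt.fst a • (1 : End D.sheaf) +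
      TrivSqZeroExt.snd a • D.act (DualNumber.eps : DualNumber k) := by
  have h1 : a = TrivSqZeroExt.fst a • (1 : DualNumber k) +
      TrivSqZeroExt.snd a • (DualNumber.eps : DualNumber k) := by
    apply TrivSqZeroExt.ext <;> simp
  have h2 := map_add D.act (TrivSqZeroExt.fst a • (1 : DualNumber k))
    (TrivSqZeroExt.snd a • (DualNumber.eps : DualNumber k))
  refine (congrArg D.act h1).trans (h2.trans ?_)
  have h3 := map_smul D.act (TrivSqZeroExt.fst a) (1 : DualNumber k)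
  have h4 := map_smul D.act (TrivSqZeroExt.snd a) (DualNumber.eps : DualNumber k)
  have h5 : D.act (1 : DualNumber k) = 1 := map_one D.act
  exact congrArg₂ (· + ·) (h3.trans (congrArg (TrivSqZeroExt.fst a • ·) h5)) h4

/-- the map `π ≫ φ ≫ (ι ⊗ 1)`. -/
noncomputable def psi (φ : E ⟶ CohB1.tensorMod E Ω') : D.sheaf ⟶ CohB1.tensorMod D.sheaf Ω' :=
  D.π ≫ φ ≫ KoszTw.tensorMap ι (𝟙 Ω')

lemma psi_tm_pi (φ : E ⟶ CohB1.tensorMod E Ω') :
    psi D ι φ ≫ KoszTw.tensorMap D.π (𝟙 Ω') = 0 := by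
  have h := KoszTw.tensorMap_comp ι D.π (𝟙 Ω') (𝟙 Ω')
  rw [Category.comp_id, iota_pi D ι hι, tensorMap_zero] at h
  rw [psi, Category.assoc, Category.assoc, ← h, comp_zero, comp_zero]

omit hι in
lemma eps_psi (φ : E ⟶ CohB1.tensorMod E Ω') :
    D.act (DualNumber.eps : DualNumber k) ≫ psi D ι φ = 0 := by
  rw [psi, ← Category.assoc, D.act_π (DualNumber.eps : DualNumber k) rfl, zero_comp]

lemma psi_tm_eps (φ : E ⟶ CohB1.tensorMod E Ω') :
    psi D ι φ ≫ KoszTw.tensorMap (D.act (DualNumber.eps : DualNumber k)) (𝟙 Ω') = 0 := by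
  have h := KoszTw.tensorMap_comp ι (D.act (DualNumber.eps : DualNumber k)) (𝟙 Ω') (𝟙 Ω')
  rw [Category.comp_id, iota_eps D ι hι, tensorMap_zero] at h
  rw [psi, Category.assoc, Category.assoc, ← h, comp_zero, comp_zero]

section Build
variable (c₀ : DefoSh.DefoConn δ nabla D)

lemma act_horizontal_add (φ : E ⟶ CohB1.tensorMod E Ω') (a : DualNumber k) :
    ConnSh.IsHorizontal (c₀.conn + (SheafOfModules.toSheaf X.ringCatSheaf).map (psi D ι φ))
      (c₀.conn + (SheafOfModules.toSheaf X.ringCatSheaf).map (psi D ι φ)) (D.act a) := by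
  have hconn := isConn_add_map δ c₀.conn c₀.isConn (psi D ι φ)
  have hε : ConnSh.IsHorizontal (c₀.conn + (SheafOfModules.toSheaf X.ringCatSheaf).map (psi D ι φ))
      (c₀.conn + (SheafOfModules.toSheaf X.ringCatSheaf).map (psi D ι φ))
      (D.act (DualNumber.eps : DualNumber k)) :=
    isHorizontal_add_map (c₀.act_horizontal (DualNumber.eps : DualNumber k)) _ _
      ((eps_psi D ι φ).trans (psi_tm_eps D ι hι φ).symm)
  rw [act_eq D a]
  exact isHorizontal_add (isHorizontal_smul δ hconn (DefoSh.isHorizontal_id _) _)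
    (isHorizontal_smul δ hconn hε _)

/-- the deformation `c₀ + π ≫ φ ≫ (ι ⊗ 1)` of the connection. -/
noncomputable def mkConn (φ : E ⟶ CohB1.tensorMod E Ω') : DefoSh.DefoConn δ nabla D where
  conn := c₀.conn + (SheafOfModules.toSheaf X.ringCatSheaf).map (psi D ι φ)
  isConn := isConn_add_map δ c₀.conn c₀.isConn (psi D ι φ)
  act_horizontal a := act_horizontal_add δ nabla D ι hι c₀ φ a
  π_horizontal := isHorizontal_add_map_left c₀.π_horizontal _ (psi_tm_pi D ι hι φ)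

lemma mkConn_conn (φ : E ⟶ CohB1.tensorMod E Ω') :
    (mkConn δ nabla D ι hι c₀ φ).conn - c₀.conn =
      (SheafOfModules.toSheaf X.ringCatSheaf).map (D.π ≫ φ ≫ KoszTw.tensorMap ι (𝟙 Ω')) := by
  change c₀.conn + _ - c₀.conn = _
  rw [add_sub_cancel_left]
  rfl

end Build

section Exist
variable (hE : FlatMod.IsFinLocFree E) (c₀ c : DefoSh.DefoConn δ nabla D)

omit hι in
lemma diff_tm_pi :
    diffHom δ c.conn c₀.conn c.isConn c₀.isConn ≫ KoszTw.tensorMap D.π (𝟙 Ω') = 0 := by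
  refine Scheme.Modules.hom_ext _ _ fun U => ?_
  ext e
  change (KoszTw.tensorMap D.π (𝟙 Ω')).app U
    ((diffHom δ c.conn c₀.conn c.isConn c₀.isConn).app U e) = 0
  rw [diffHom_app]
  refine (map_sub _ _ _).trans ?_
  rw [← c.π_horizontal U e, ← c₀.π_horizontal U e, sub_self]

omit hι in
lemma eps_diff :
    D.act (DualNumber.eps : DualNumber k) ≫ diffHom δ c.conn c₀.conn c.isConn c₀.isConn =
      diffHom δ c.conn c₀.conn c.isConn c₀.isConn ≫
        KoszTw.tensorMap (D.act (DualNumber.eps : DualNumber k)) (𝟙 Ω') := by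
  refine Scheme.Modules.hom_ext _ _ fun U => ?_
  ext e
  change (diffHom δ c.conn c₀.conn c.isConn c₀.isConn).app U
      ((D.act (DualNumber.eps : DualNumber k) : D.sheaf ⟶ D.sheaf).app U e) =
    (KoszTw.tensorMap (D.act (DualNumber.eps : DualNumber k)) (𝟙 Ω')).app U
      ((diffHom δ c.conn c₀.conn c.isConn c₀.isConn).app U e)
  rw [diffHom_app, diffHom_app, c.act_horizontal _ U e, c₀.act_horizontal _ U e]
  exact (map_sub _ _ _).symm

lemma iota_diff : ι ≫ diffHom δ c.conn c₀.conn c.isConn c₀.isConn = 0 := by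
  haveI := epi_pi D
  rw [← cancel_epi D.π, ← Category.assoc, hι, eps_diff, comp_zero, ← hι]
  have h := KoszTw.tensorMap_comp D.π ι (𝟙 Ω') (𝟙 Ω')
  rw [Category.comp_id] at h
  rw [h, ← Category.assoc, diff_tm_pi, zero_comp]

include hE in
theorem exists_phi : ∃ φ : E ⟶ CohB1.tensorMod E Ω',
    c.conn - c₀.conn =
      (SheafOfModules.toSheaf X.ringCatSheaf).map (D.π ≫ φ ≫ KoszTw.tensorMap ι (𝟙 Ω')) := by
  have hS := sc_shortExact D ι hι
  have hS' := scTensor_shortExact (sc D ι hι) hS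
    (fun x => Groth.Agent.Helper13.DualFinLocFree.flat_stalk E hE x) Ω'
  haveI := hS.epi_g
  haveI := hS'.mono_f
  let Ψ := diffHom δ c.conn c₀.conn c.isConn c₀.isConn
  let Ψ' : E ⟶ CohB1.tensorMod D.sheaf Ω' := hS.exact.desc Ψ (iota_diff δ nabla D ι hι c₀ c)
  have hΨ' : D.π ≫ Ψ' = Ψ := hS.exact.g_desc Ψ (iota_diff δ nabla D ι hι c₀ c)
  have hz : Ψ' ≫ KoszTw.tensorMap D.π (𝟙 Ω') = 0 := by
    haveI := epi_pi D
    rw [← cancel_epi D.π, ← Category.assoc, hΨ', comp_zero]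
    exact diff_tm_pi δ nabla D c₀ c
  let φ : E ⟶ CohB1.tensorMod E Ω' := hS'.exact.lift Ψ' hz
  have hφ : φ ≫ KoszTw.tensorMap ι (𝟙 Ω') = Ψ' := hS'.exact.lift_f Ψ' hz
  refine ⟨φ, ?_⟩
  have h : D.π ≫ φ ≫ KoszTw.tensorMap ι (𝟙 Ω') = Ψ := (congrArg (D.π ≫ ·) hφ).trans hΨ'
  exact (map_diffHom δ c.conn c₀.conn c.isConn c₀.isConn).symm.trans
    (congrArg (SheafOfModules.toSheaf X.ringCatSheaf).map h.symm)

include hE in
theorem phi_unique (φ φ' : E ⟶ CohB1.tensorMod E Ω')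
    (h : (SheafOfModules.toSheaf X.ringCatSheaf).map (D.π ≫ φ ≫ KoszTw.tensorMap ι (𝟙 Ω')) =
      (SheafOfModules.toSheaf X.ringCatSheaf).map (D.π ≫ φ' ≫ KoszTw.tensorMap ι (𝟙 Ω'))) :
    φ = φ' := by
  have hS := sc_shortExact D ι hι
  have hS' := scTensor_shortExact (sc D ι hι) hS
    (fun x => Groth.Agent.Helper13.DualFinLocFree.flat_stalk E hE x) Ω'
  haveI : Epi D.π := epi_pi D
  haveI : Mono (KoszTw.tensorMap ι (𝟙 Ω')) := hS'.mono_f
  have h1 := (SheafOfModules.toSheaf X.ringCatSheaf).map_injective h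
  have h2 := (cancel_epi D.π).mp h1
  exact (cancel_mono (KoszTw.tensorMap ι (𝟙 Ω'))).mp h2

omit hι in
theorem defoConn_ext (c c' : DefoSh.DefoConn δ nabla D) (h : c.conn = c'.conn) : c = c' := by
  cases c; cases c'
  cases h
  rfl

include hE in
theorem main17436 : ∃ Φ : DefoSh.DefoConn δ nabla D ≃ (E ⟶ CohB1.tensorMod E Ω'),
    ∀ c : DefoSh.DefoConn δ nabla D,
      c.conn - c₀.conn = (SheafOfModules.toSheaf X.ringCatSheaf).map
        (D.π ≫ Φ c ≫ KoszTw.tensorMap ι (𝟙 Ω')) := by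
  let F : DefoSh.DefoConn δ nabla D → (E ⟶ CohB1.tensorMod E Ω') := fun c =>
    (exists_phi δ nabla D ι hι hE c₀ c).choose
  have hF : ∀ c, c.conn - c₀.conn = (SheafOfModules.toSheaf X.ringCatSheaf).map
      (D.π ≫ F c ≫ KoszTw.tensorMap ι (𝟙 Ω')) := fun c =>
    (exists_phi δ nabla D ι hι hE c₀ c).choose_spec
  have hinj : Function.Injective F := by
    intro c c' hcc
    apply defoConn_ext
    have h1 := hF c
    have h2 := hF c'
    rw [hcc] at h1
    have := h1.trans h2.symm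
    exact sub_left_injective this
  have hsurj : Function.Surjective F := by
    intro φ
    refine ⟨mkConn δ nabla D ι hι c₀ φ, ?_⟩
    apply phi_unique D ι hι hE
    rw [← hF, mkConn_conn]
  exact ⟨Equiv.ofBijective F ⟨hinj, hsurj⟩, hF⟩

end Exist

end Groth.Agent.Helper17.DCN8
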