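import Mathlib
import Groth.Agent.Lib.Helper17.DCN8
import Groth.Agent.Lib.Helper17.DCN11
import Groth.Agent.Lib.Helper20.YonedaExt1

set_option autoImplicit false
universe u
open CategoryTheory CategoryTheory.Limits AlgebraicGeometry Opposite TopologicalSpace ArtFun ArtFun.Art

namespace Groth.Agent.Helper17.DCN12

open DefoSh Groth.Agent.Helper17.DCN5 Groth.Agent.Helper17.DCN8 Groth.Agent.Helper17.DCN11
open CategoryTheory.Abelian

variable {k : Type u} [Field k] {X : Scheme.{u}} [X.Over (Spec (CommRingCat.of k))] {E : X.Modules}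
  [HasExt.{u} X.Modules]

/-- the chosen multiplication-by-`ε` map `E ⟶ D.sheaf`. -/
noncomputable def iotaOf (D : DefoSh.Defo E (ArtFun.Art.dual k k)) : E ⟶ D.sheaf :=
  (exists_iota D).choose

omit [HasExt.{u} X.Modules] in
lemma iotaOf_spec (D : DefoSh.Defo E (ArtFun.Art.dual k k)) :
    D.π ≫ iotaOf D = D.act (DualNumber.eps : DualNumber k) := (exists_iota D).choose_spec

/-- the extension class of a first-order deformation. -/
noncomputable def extOf (D : DefoSh.Defo E (ArtFun.Art.dual k k)) : Ext E E 1 :=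
  (sc_shortExact D (iotaOf D) (iotaOf_spec D)).extClass

lemma extOf_eq (D : DefoSh.Defo E (ArtFun.Art.dual k k)) (i : E ⟶ D.sheaf)
    (hi : D.π ≫ i = D.act (DualNumber.eps : DualNumber k)) (h0 : i ≫ D.π = 0)
    (hS : (ShortComplex.mk i D.π h0).ShortExact) : extOf D = hS.extClass := by
  have hii : i = iotaOf D := by
    haveI := epi_pi D
    rw [← cancel_epi D.π, hi, iotaOf_spec]
  subst hii
  rfl

lemma extOf_iso (D D' : DefoSh.Defo E (ArtFun.Art.dual k k)) (e : DefoSh.Defo.Iso D D') :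
    extOf D = extOf D' := by
  have h₁ := sc_shortExact D (iotaOf D) (iotaOf_spec D)
  have h₂ := sc_shortExact D' (iotaOf D') (iotaOf_spec D')
  have hc : iotaOf D ≫ e.iso.hom = iotaOf D' := by
    haveI := epi_pi D
    rw [← cancel_epi D.π, ← Category.assoc, iotaOf_spec, e.act_hom, ← iotaOf_spec, ← Category.assoc,
      e.hom_π]
  let φ : sc D (iotaOf D) (iotaOf_spec D) ⟶ sc D' (iotaOf D') (iotaOf_spec D') :=
    { τ₁ := 𝟙 E
      τ₂ := e.iso.hom
      τ₃ := 𝟙 E
      comm₁₂ := by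
        change 𝟙 E ≫ iotaOf D' = iotaOf D ≫ e.iso.hom
        rw [Category.id_comp, hc]
      comm₂₃ := by
        change e.iso.hom ≫ D'.π = D.π ≫ 𝟙 E
        rw [Category.comp_id, e.hom_π] }
  have hn := ShortComplex.ShortExact.extClass_naturality h₁ h₂ φ
  have e1 : h₁.extClass.comp (Ext.mk₀ (𝟙 E)) (add_zero 1) = h₁.extClass := Ext.comp_mk₀_id _
  have e2 : (Ext.mk₀ (𝟙 E)).comp h₂.extClass (zero_add 1) = h₂.extClass := Ext.mk₀_id_comp _
  exact e1.symm.trans (hn.trans e2)

lemma iso_of_extOf_eq (D D' : DefoSh.Defo E (ArtFun.Art.dual k k)) (h : extOf D = extOf D') :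
    Nonempty (DefoSh.Defo.Iso D D') := by
  have h₁ := sc_shortExact D (iotaOf D) (iotaOf_spec D)
  have h₂ := sc_shortExact D' (iotaOf D') (iotaOf_spec D')
  obtain ⟨φ, hφ1, hφ2⟩ := Groth.Agent.Helper20.YonedaExt.exists_iso_of_extClass_eq
    (iotaOf D) D.π (iota_pi D (iotaOf D) (iotaOf_spec D)) h₁
    (iotaOf D') D'.π (iota_pi D' (iotaOf D') (iotaOf_spec D')) h₂ h
  have hε : (D.act (DualNumber.eps : DualNumber k) : D.sheaf ⟶ D.sheaf) ≫ φ.hom =
      φ.hom ≫ D'.act (DualNumber.eps : DualNumber k) := by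
    rw [← iotaOf_spec D, ← iotaOf_spec D', Category.assoc, hφ1, ← Category.assoc, hφ2]
  refine ⟨⟨φ, fun a => ?_, hφ2⟩⟩
  have ha : (D.act a : D.sheaf ⟶ D.sheaf) = TrivSqZeroExt.fst (a : DualNumber k) • 𝟙 D.sheaf +
      TrivSqZeroExt.snd (a : DualNumber k) •
        (show D.sheaf ⟶ D.sheaf from D.act (DualNumber.eps : DualNumber k)) := act_eq D a
  have ha' : (D'.act a : D'.sheaf ⟶ D'.sheaf) = TrivSqZeroExt.fst (a : DualNumber k) • 𝟙 D'.sheaf +
      TrivSqZeroExt.snd (a : DualNumber k) •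
        (show D'.sheaf ⟶ D'.sheaf from D'.act (DualNumber.eps : DualNumber k)) := act_eq D' a
  rw [ha, ha', Preadditive.add_comp, Preadditive.comp_add, Linear.smul_comp, Linear.smul_comp,
    Linear.comp_smul, Linear.comp_smul, Category.id_comp, Category.comp_id]
  congr 2

lemma extOf_defoOfExt {M : X.Modules} (f : E ⟶ M) (g : M ⟶ E) (w : f ≫ g = 0)
    (hS : (ShortComplex.mk f g w).ShortExact) : extOf (defoOfExt k f g w hS) = hS.extClass :=
  extOf_eq (defoOfExt k f g w hS) f (extAct_eps k f g w).symm w hS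

lemma extClass_eq_zero_of_retraction {C : Type*} [Category C] [Abelian C] [HasExt C]
    {S : ShortComplex C} (hS : S.ShortExact) (r : S.X₂ ⟶ S.X₁) (hr : S.f ≫ r = 𝟙 _) :
    hS.extClass = 0 := by
  have h1 : hS.extClass = hS.extClass.comp (Ext.mk₀ (𝟙 S.X₁)) (add_zero 1) := (Ext.comp_mk₀_id _).symm
  rw [h1, ← hr, ← Ext.mk₀_comp_mk₀]
  exact hS.extClass_comp_assoc (Ext.mk₀ r)

variable (k E) in
lemma extOf_trivDual : extOf (DefoSh.Defo.trivDual k E) = 0 := by
  have hi : (DefoSh.Defo.trivDual k E).π ≫ (biprod.inr : E ⟶ E ⊞ E) =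
      (DefoSh.Defo.trivDual k E).act (DualNumber.eps : DualNumber k) := (DefoSh.dualAct_eps E).symm
  have hS := sc_shortExact (DefoSh.Defo.trivDual k E) biprod.inr hi
  rw [extOf_eq (DefoSh.Defo.trivDual k E) biprod.inr hi
    (iota_pi (DefoSh.Defo.trivDual k E) biprod.inr hi) hS]
  exact extClass_eq_zero_of_retraction hS (biprod.snd : E ⊞ E ⟶ E) biprod.inr_snd

variable (k E) in
theorem main17435 : ∃ e : DefoSh.FirstOrder k E ≃ Ext E E 1,
    e (DefoSh.Defo.trivDual k E).cl = 0 ∧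
    ∀ (D : DefoSh.Defo E (ArtFun.Art.dual k k)) (i : E ⟶ D.sheaf)
      (_ : D.π ≫ i = D.act (DualNumber.eps : DualNumber k))
      (h0 : i ≫ D.π = 0) (hS : (ShortComplex.mk i D.π h0).ShortExact),
      e D.cl = hS.extClass := by
  let F : DefoSh.FirstOrder k E → Ext E E 1 :=
    Quotient.lift (fun D => extOf D) (fun D D' h => by
      obtain ⟨e⟩ := h
      exact extOf_iso D D' e)
  have hF : ∀ D : DefoSh.Defo E (ArtFun.Art.dual k k), F D.cl = extOf D := fun D => rfl
  have hinj : Function.Injective F := by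
    intro a b hab
    induction a using Quotient.inductionOn with | _ D => ?_
    induction b using Quotient.inductionOn with | _ D' => ?_
    exact Quotient.sound (iso_of_extOf_eq D D' hab)
  have hsurj : Function.Surjective F := by
    intro x
    obtain ⟨M, f, g, w, hS, hx⟩ := Groth.Agent.Helper20.YonedaExt.exists_shortExact_extClass_eq x
    exact ⟨(defoOfExt k f g w hS).cl, (hF _).trans ((extOf_defoOfExt f g w hS).trans hx)⟩
  refine ⟨Equiv.ofBijective F ⟨hinj, hsurj⟩, ?_, ?_⟩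
  · exact (hF _).trans (extOf_trivDual k E)
  · intro D i hi h0 hS
    exact (hF D).trans (extOf_eq D i hi h0 hS)

end Groth.Agent.Helper17.DCN12
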