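import Mathlib
import Groth.Prelude.Def_DefoSh2
import Groth.Agent.Lib.Helper17.DCN8
import Groth.Agent.Lib.Helper17.DCN11
import Groth.Agent.Lib.Helper13.LocalLift
import Groth.Agent.Lib.Helper13.RestrictLim

/-!
# Local triviality of first-order deformations of a finite locally free module
-/

set_option autoImplicit false
set_option maxHeartbeats 400000
universe u
open CategoryTheory CategoryTheory.Limits AlgebraicGeometry Opposite TopologicalSpace ArtFun ArtFun.Art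

namespace Groth.Agent.Helper17.DCN13

open DefoSh

section Restrict

variable {X : Scheme.{u}} (V : X.Opens)

/-- restriction to an open is additive. -/
instance additive_restrictFunctor : (Scheme.Modules.restrictFunctor V.ι).Additive := by
  haveI := preservesBinaryBiproducts_of_preservesBinaryCoproducts
    (Scheme.Modules.restrictFunctor V.ι)
  exact Functor.additive_of_preservesBinaryBiproducts _

/-- every morphism between restrictions commutes with multiplication by a global function. -/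
theorem restrict_smulModΓ_comm {M N : X.Modules} (r : Coh.Γtop X)
    (h : M.restrict V.ι ⟶ N.restrict V.ι) :
    (Scheme.Modules.restrictFunctor V.ι).map (Formal.smulModΓ M r) ≫ h =
      h ≫ (Scheme.Modules.restrictFunctor V.ι).map (Formal.smulModΓ N r) := by
  apply Scheme.Modules.hom_ext
  intro W
  ext m
  -- the function on `W`
  let t : Γ((V : Scheme.{u}), W) := (V.ι.appIso W).hom (Coh.resTop X (op (V.ι ''ᵁ W)) r)
  have ht : (V.ι.appIso W).inv t = Coh.resTop X (op (V.ι ''ᵁ W)) r := by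
    change ((V.ι.appIso W).hom ≫ (V.ι.appIso W).inv) _ = _
    rw [Iso.hom_inv_id]
    rfl
  have e1 : ∀ (P : X.Modules) (p : Γ(P.restrict V.ι, W)),
      ((Scheme.Modules.restrictFunctor V.ι).map (Formal.smulModΓ P r)).app W p = t • p := by
    intro P p
    have h2 : (t • p : Γ(P.restrict V.ι, W)) =
        ((V.ι.appIso W).inv t • (show Γ(P, V.ι ''ᵁ W) from p) : Γ(P, V.ι ''ᵁ W)) := rfl
    rw [h2, ht]
    rfl
  change h.app W (((Scheme.Modules.restrictFunctor V.ι).map (Formal.smulModΓ M r)).app W m) =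
    ((Scheme.Modules.restrictFunctor V.ι).map (Formal.smulModΓ N r)).app W (h.app W m)
  rw [e1, e1, Scheme.Modules.Hom.app_smul]

end Restrict

section Main

variable {k : Type u} [Field k] {X : Scheme.{u}} [X.Over (Spec (CommRingCat.of k))] {E : X.Modules}

open Groth.Agent.Helper13.RestrictLim in
theorem main17440 (hE : FlatMod.IsFinLocFree E) (D : DefoSh.Defo E (ArtFun.Art.dual k k)) (x : X) :
    ∃ (U : X.Opens) (e : D.sheaf.restrict U.ι ≅ (DefoSh.Defo.trivDual k E).sheaf.restrict U.ι),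
      x ∈ U ∧
      e.hom ≫ (Scheme.Modules.restrictFunctor U.ι).map (DefoSh.Defo.trivDual k E).π =
        (Scheme.Modules.restrictFunctor U.ι).map D.π ∧
      ∀ a : ArtFun.Art.dual k k, (Scheme.Modules.restrictFunctor U.ι).map (D.act a) ≫ e.hom =
        e.hom ≫ (Scheme.Modules.restrictFunctor U.ι).map ((DefoSh.Defo.trivDual k E).act a) := by
  haveI := DCN5.epi_pi D
  obtain ⟨ι, hι⟩ := DCN11.exists_iota D
  obtain ⟨V, s, hxV, hs⟩ := Groth.Agent.Helper13.LocalLift.exists_local_lift D.π (𝟙 E) hE x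
  let R := Scheme.Modules.restrictFunctor V.ι
  have hs' : s ≫ R.map D.π = 𝟙 (R.obj E) := by rw [hs]; exact R.map_id E
  have hSE := DCN5.sc_shortExact D ι hι
  have hSE' : ((DCN5.sc D ι hι).map R).ShortExact := hSE.map_of_exact R
  let σ := ShortComplex.Splitting.ofExactOfSection _ hSE'.exact s hs' hSE'.mono_f
  let r : R.obj D.sheaf ⟶ R.obj E := σ.r
  have hfr : R.map ι ≫ r = 𝟙 _ := σ.f_r
  have hsr : s ≫ r = 0 := σ.s_r
  have hid : r ≫ R.map ι + R.map D.π ≫ s = 𝟙 _ := σ.id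
  have hιπ : R.map ι ≫ R.map D.π = 0 := by
    rw [← R.map_comp, DCN5.iota_pi D ι hι, R.map_zero]
  -- the biproduct structure maps
  have b1 : R.map (biprod.inl : E ⟶ E ⊞ E) ≫ R.map (biprod.fst : E ⊞ E ⟶ E) = 𝟙 _ := by
    rw [← R.map_comp, biprod.inl_fst, R.map_id]
  have b2 : R.map (biprod.inl : E ⟶ E ⊞ E) ≫ R.map (biprod.snd : E ⊞ E ⟶ E) = 0 := by
    rw [← R.map_comp, biprod.inl_snd, R.map_zero]
  have b3 : R.map (biprod.inr : E ⟶ E ⊞ E) ≫ R.map (biprod.fst : E ⊞ E ⟶ E) = 0 := by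
    rw [← R.map_comp, biprod.inr_fst, R.map_zero]
  have b4 : R.map (biprod.inr : E ⟶ E ⊞ E) ≫ R.map (biprod.snd : E ⊞ E ⟶ E) = 𝟙 _ := by
    rw [← R.map_comp, biprod.inr_snd, R.map_id]
  have b5 : R.map (biprod.fst : E ⊞ E ⟶ E) ≫ R.map (biprod.inl : E ⟶ E ⊞ E) +
      R.map (biprod.snd : E ⊞ E ⟶ E) ≫ R.map (biprod.inr : E ⟶ E ⊞ E) = 𝟙 _ := by
    rw [← R.map_comp, ← R.map_comp, ← R.map_add, biprod.total, R.map_id]
  let eh : R.obj D.sheaf ⟶ R.obj (E ⊞ E) :=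
    R.map D.π ≫ R.map (biprod.inl : E ⟶ E ⊞ E) + r ≫ R.map (biprod.inr : E ⟶ E ⊞ E)
  let ei : R.obj (E ⊞ E) ⟶ R.obj D.sheaf :=
    R.map (biprod.fst : E ⊞ E ⟶ E) ≫ s + R.map (biprod.snd : E ⊞ E ⟶ E) ≫ R.map ι
  have h1 : eh ≫ ei = 𝟙 _ := by
    change (R.map D.π ≫ R.map (biprod.inl : E ⟶ E ⊞ E) + r ≫ R.map (biprod.inr : E ⟶ E ⊞ E)) ≫
      (R.map (biprod.fst : E ⊞ E ⟶ E) ≫ s + R.map (biprod.snd : E ⊞ E ⟶ E) ≫ R.map ι) = _
    simp only [Preadditive.add_comp, Preadditive.comp_add, Category.assoc,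
      reassoc_of% b1, reassoc_of% b2, reassoc_of% b3, reassoc_of% b4, zero_comp, comp_zero,
      add_zero, zero_add]
    rw [add_comm]
    exact hid
  have h2 : ei ≫ eh = 𝟙 _ := by
    change (R.map (biprod.fst : E ⊞ E ⟶ E) ≫ s + R.map (biprod.snd : E ⊞ E ⟶ E) ≫ R.map ι) ≫
      (R.map D.π ≫ R.map (biprod.inl : E ⟶ E ⊞ E) + r ≫ R.map (biprod.inr : E ⟶ E ⊞ E)) = _
    simp only [Preadditive.add_comp, Preadditive.comp_add, Category.assoc,
      reassoc_of% hs', reassoc_of% hsr, reassoc_of% hιπ, reassoc_of% hfr, zero_comp, comp_zero,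
      add_zero, zero_add]
    exact b5
  refine ⟨V, ⟨eh, ei, h1, h2⟩, hxV, ?_, ?_⟩
  · change (R.map D.π ≫ R.map (biprod.inl : E ⟶ E ⊞ E) + r ≫ R.map (biprod.inr : E ⟶ E ⊞ E)) ≫
      R.map (biprod.fst : E ⊞ E ⟶ E) = R.map D.π
    simp only [Preadditive.add_comp, Category.assoc, b1, b3, comp_zero, add_zero, Category.comp_id]
  · intro a
    have hN : ∀ c : k, R.map (c • 𝟙 D.sheaf) ≫ eh = eh ≫ R.map (c • 𝟙 (E ⊞ E)) := by
      intro c
      rw [KLin.smul_id, KLin.smul_id]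
      exact restrict_smulModΓ_comm V _ eh
    have hεc : R.map (D.π ≫ ι) ≫ eh =
        eh ≫ R.map ((biprod.fst : E ⊞ E ⟶ E) ≫ (biprod.inr : E ⟶ E ⊞ E)) := by
      change R.map (D.π ≫ ι) ≫
        (R.map D.π ≫ R.map (biprod.inl : E ⟶ E ⊞ E) + r ≫ R.map (biprod.inr : E ⟶ E ⊞ E)) =
        (R.map D.π ≫ R.map (biprod.inl : E ⟶ E ⊞ E) + r ≫ R.map (biprod.inr : E ⟶ E ⊞ E)) ≫
          R.map ((biprod.fst : E ⊞ E ⟶ E) ≫ (biprod.inr : E ⟶ E ⊞ E))
      simp only [R.map_comp, Preadditive.add_comp, Preadditive.comp_add, Category.assoc,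
        reassoc_of% hιπ, reassoc_of% hfr, reassoc_of% b1, reassoc_of% b3, zero_comp, comp_zero,
        add_zero, zero_add]
    have hD : (D.act a : D.sheaf ⟶ D.sheaf) =
        TrivSqZeroExt.fst a • 𝟙 D.sheaf + (TrivSqZeroExt.snd a • 𝟙 D.sheaf) ≫ (D.π ≫ ι) := by
      rw [Linear.smul_comp, Category.id_comp, hι]
      exact DCN8.act_eq D a
    have hT : (((DefoSh.Defo.trivDual k E).act a : End (E ⊞ E)) : E ⊞ E ⟶ E ⊞ E) =
        TrivSqZeroExt.fst a • 𝟙 (E ⊞ E) + (TrivSqZeroExt.snd a • 𝟙 (E ⊞ E)) ≫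
          ((biprod.fst : E ⊞ E ⟶ E) ≫ (biprod.inr : E ⟶ E ⊞ E)) := by
      rw [Linear.smul_comp, Category.id_comp]
      exact DefoSh.dualAct_hom (k := k) E a
    have P1 := hN (TrivSqZeroExt.fst a)
    have P2 : R.map ((TrivSqZeroExt.snd a • 𝟙 D.sheaf) ≫ (D.π ≫ ι)) ≫ eh =
        eh ≫ R.map ((TrivSqZeroExt.snd a • 𝟙 (E ⊞ E)) ≫
          ((biprod.fst : E ⊞ E ⟶ E) ≫ (biprod.inr : E ⟶ E ⊞ E))) := by
      rw [R.map_comp, R.map_comp (TrivSqZeroExt.snd a • 𝟙 (E ⊞ E)), Category.assoc, hεc,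
        ← Category.assoc, hN, Category.assoc]
    have hL : R.map (D.act a : D.sheaf ⟶ D.sheaf) =
        R.map (TrivSqZeroExt.fst a • 𝟙 D.sheaf) +
          R.map ((TrivSqZeroExt.snd a • 𝟙 D.sheaf) ≫ (D.π ≫ ι)) := by
      rw [hD]
      exact R.map_add
    have hRr : R.map (((DefoSh.Defo.trivDual k E).act a : End (E ⊞ E)) : E ⊞ E ⟶ E ⊞ E) =
        R.map (TrivSqZeroExt.fst a • 𝟙 (E ⊞ E)) +
          R.map ((TrivSqZeroExt.snd a • 𝟙 (E ⊞ E)) ≫
            ((biprod.fst : E ⊞ E ⟶ E) ≫ (biprod.inr : E ⟶ E ⊞ E))) := by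
      rw [hT]
      exact R.map_add
    have hfin : (R.map (TrivSqZeroExt.fst a • 𝟙 D.sheaf) +
          R.map ((TrivSqZeroExt.snd a • 𝟙 D.sheaf) ≫ (D.π ≫ ι))) ≫ eh =
        eh ≫ (R.map (TrivSqZeroExt.fst a • 𝟙 (E ⊞ E)) +
          R.map ((TrivSqZeroExt.snd a • 𝟙 (E ⊞ E)) ≫
            ((biprod.fst : E ⊞ E ⟶ E) ≫ (biprod.inr : E ⟶ E ⊞ E)))) := by
      exact (Preadditive.add_comp _ _ _ _ _ eh).trans
        ((congrArg₂ (· + ·) P1 P2).trans (Preadditive.comp_add _ _ _ eh _ _).symm)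
    exact (congrArg (· ≫ eh) hL).trans (hfin.trans (congrArg (eh ≫ ·) hRr).symm)

end Main

end Groth.Agent.Helper17.DCN13
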