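import Mathlib
import Groth.Agent.Lib.Helper17.DCN2

set_option autoImplicit false
universe u
open CategoryTheory CategoryTheory.Limits AlgebraicGeometry Opposite TopologicalSpace

namespace Groth.Agent.Helper17.DCN3

open Groth.Agent.Helper17.DCN1 Groth.Agent.Helper17.DCN2

variable {X : Scheme.{u}} {Ω' : X.Modules}

section Conn
variable (E : X.Modules) (nabla : Coh.toAb E ⟶ Coh.toAb (CohB1.tensorMod E Ω'))

/-- the connection `∇ ⊕ ∇` on `E ⊞ E`. -/
noncomputable def conn2 : Coh.toAb (E ⊞ E) ⟶ Coh.toAb (CohB1.tensorMod (E ⊞ E) Ω') :=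
  (SheafOfModules.toSheaf X.ringCatSheaf).map (biprod.fst : E ⊞ E ⟶ E) ≫ nabla ≫
      (SheafOfModules.toSheaf X.ringCatSheaf).map (KoszTw.tensorMap (biprod.inl : E ⟶ E ⊞ E) (𝟙 Ω')) +
    (SheafOfModules.toSheaf X.ringCatSheaf).map (biprod.snd : E ⊞ E ⟶ E) ≫ nabla ≫
      (SheafOfModules.toSheaf X.ringCatSheaf).map (KoszTw.tensorMap (biprod.inr : E ⟶ E ⊞ E) (𝟙 Ω'))

theorem secApp_conn2 (U : X.Opens) (x : (E ⊞ E).val.obj (op U)) :
    ConnSh.secApp (conn2 E nabla) U x =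
      (KoszTw.tensorMap (biprod.inl : E ⟶ E ⊞ E) (𝟙 Ω')).app U
          (ConnSh.secApp nabla U ((biprod.fst : E ⊞ E ⟶ E).app U x)) +
        (KoszTw.tensorMap (biprod.inr : E ⟶ E ⊞ E) (𝟙 Ω')).app U
          (ConnSh.secApp nabla U ((biprod.snd : E ⊞ E ⟶ E).app U x)) := rfl

theorem total_app (U : X.Opens) (x : (E ⊞ E).val.obj (op U)) :
    (biprod.inl : E ⟶ E ⊞ E).app U ((biprod.fst : E ⊞ E ⟶ E).app U x) +
      (biprod.inr : E ⟶ E ⊞ E).app U ((biprod.snd : E ⊞ E ⟶ E).app U x) = x := by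
  have h := congrArg (fun f : E ⊞ E ⟶ E ⊞ E => f.app U x) (biprod.total (X := E) (Y := E))
  exact h

theorem tm_inl_fst : KoszTw.tensorMap (biprod.inl : E ⟶ E ⊞ E) (𝟙 Ω') ≫
    KoszTw.tensorMap (biprod.fst : E ⊞ E ⟶ E) (𝟙 Ω') = 𝟙 _ := by
  rw [← KoszTw.tensorMap_comp, biprod.inl_fst, Category.comp_id, KoszTw.tensorMap_id]

theorem tm_inr_fst : KoszTw.tensorMap (biprod.inr : E ⟶ E ⊞ E) (𝟙 Ω') ≫
    KoszTw.tensorMap (biprod.fst : E ⊞ E ⟶ E) (𝟙 Ω') = 0 := by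
  rw [← KoszTw.tensorMap_comp, biprod.inr_fst, tensorMap_zero]

theorem tm_inl_snd : KoszTw.tensorMap (biprod.inl : E ⟶ E ⊞ E) (𝟙 Ω') ≫
    KoszTw.tensorMap (biprod.snd : E ⊞ E ⟶ E) (𝟙 Ω') = 0 := by
  rw [← KoszTw.tensorMap_comp, biprod.inl_snd, tensorMap_zero]

theorem tm_inr_snd : KoszTw.tensorMap (biprod.inr : E ⟶ E ⊞ E) (𝟙 Ω') ≫
    KoszTw.tensorMap (biprod.snd : E ⊞ E ⟶ E) (𝟙 Ω') = 𝟙 _ := by
  rw [← KoszTw.tensorMap_comp, biprod.inr_snd, Category.comp_id, KoszTw.tensorMap_id]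

theorem pi_horizontal : ConnSh.IsHorizontal (conn2 E nabla) nabla (biprod.fst : E ⊞ E ⟶ E) := by
  intro U x
  rw [secApp_conn2]
  refine Eq.trans ?_ (map_add _ _ _).symm
  have h1 := congrArg (fun f : CohB1.tensorMod E Ω' ⟶ CohB1.tensorMod E Ω' =>
    f.app U (ConnSh.secApp nabla U ((biprod.fst : E ⊞ E ⟶ E).app U x))) (tm_inl_fst (Ω' := Ω') E)
  have h2 := congrArg (fun f : CohB1.tensorMod E Ω' ⟶ CohB1.tensorMod E Ω' =>
    f.app U (ConnSh.secApp nabla U ((biprod.snd : E ⊞ E ⟶ E).app U x))) (tm_inr_fst (Ω' := Ω') E)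
  exact ((congrArg₂ (· + ·) h1 h2).trans (add_zero _)).symm

theorem snd_horizontal : ConnSh.IsHorizontal (conn2 E nabla) nabla (biprod.snd : E ⊞ E ⟶ E) := by
  intro U x
  rw [secApp_conn2]
  refine Eq.trans ?_ (map_add _ _ _).symm
  have h1 := congrArg (fun f : CohB1.tensorMod E Ω' ⟶ CohB1.tensorMod E Ω' =>
    f.app U (ConnSh.secApp nabla U ((biprod.fst : E ⊞ E ⟶ E).app U x))) (tm_inl_snd (Ω' := Ω') E)
  have h2 := congrArg (fun f : CohB1.tensorMod E Ω' ⟶ CohB1.tensorMod E Ω' =>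
    f.app U (ConnSh.secApp nabla U ((biprod.snd : E ⊞ E ⟶ E).app U x))) (tm_inr_snd (Ω' := Ω') E)
  exact ((congrArg₂ (· + ·) h1 h2).trans (zero_add _)).symm

theorem inl_horizontal : ConnSh.IsHorizontal nabla (conn2 E nabla) (biprod.inl : E ⟶ E ⊞ E) := by
  intro U x
  rw [secApp_conn2]
  have h1 := congrArg (fun f : E ⟶ E => f.app U x) (biprod.inl_fst (X := E) (Y := E))
  have h2 := congrArg (fun f : E ⟶ E => f.app U x) (biprod.inl_snd (X := E) (Y := E))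
  have h1' : (biprod.fst : E ⊞ E ⟶ E).app U ((biprod.inl : E ⟶ E ⊞ E).app U x) = x := h1
  have h2' : (biprod.snd : E ⊞ E ⟶ E).app U ((biprod.inl : E ⟶ E ⊞ E).app U x) = 0 := h2
  rw [h1', h2']
  refine (congrArg (_ + ·) ?_).trans (add_zero _)
  refine (congrArg _ (ConnSh.secApp nabla U).map_zero).trans ?_
  exact map_zero _

theorem inr_horizontal : ConnSh.IsHorizontal nabla (conn2 E nabla) (biprod.inr : E ⟶ E ⊞ E) := by
  intro U x
  rw [secApp_conn2]
  have h1 := congrArg (fun f : E ⟶ E => f.app U x) (biprod.inr_fst (X := E) (Y := E))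
  have h2 := congrArg (fun f : E ⟶ E => f.app U x) (biprod.inr_snd (X := E) (Y := E))
  have h1' : (biprod.fst : E ⊞ E ⟶ E).app U ((biprod.inr : E ⟶ E ⊞ E).app U x) = 0 := h1
  have h2' : (biprod.snd : E ⊞ E ⟶ E).app U ((biprod.inr : E ⟶ E ⊞ E).app U x) = x := h2
  rw [h1', h2']
  refine (congrArg (· + _) ?_).trans (zero_add _)
  refine (congrArg _ (ConnSh.secApp nabla U).map_zero).trans ?_
  exact map_zero _

theorem shift_horizontal : ConnSh.IsHorizontal (conn2 E nabla) (conn2 E nabla)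
    ((biprod.fst : E ⊞ E ⟶ E) ≫ biprod.inr) :=
  DefoSh.isHorizontal_comp (pi_horizontal E nabla) (inr_horizontal E nabla)

end Conn

section Main
variable {k : Type u} [Field k] [X.Over (Spec (CommRingCat.of k))]
  (δ : OmegaSh.Der (X ↘ Spec (CommRingCat.of k)) Ω') (E : X.Modules)
  (nabla : Coh.toAb E ⟶ Coh.toAb (CohB1.tensorMod E Ω'))

theorem isConn_conn2 (hn : ConnSh.IsConn δ E nabla) : ConnSh.IsConn δ (E ⊞ E) (conn2 E nabla) := by
  intro U t x
  rw [secApp_conn2, secApp_conn2]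
  have f1 : (biprod.fst : E ⊞ E ⟶ E).app U (t • x) = t • (biprod.fst : E ⊞ E ⟶ E).app U x :=
    Scheme.Modules.Hom.app_smul _ t x
  have f2 : (biprod.snd : E ⊞ E ⟶ E).app U (t • x) = t • (biprod.snd : E ⊞ E ⟶ E).app U x :=
    Scheme.Modules.Hom.app_smul _ t x
  have g : ∀ (p : E ⊞ E ⟶ E) (i : E ⟶ E ⊞ E), p.app U (t • x) = t • p.app U x →
      @Eq ((CohB1.tensorMod (E ⊞ E) Ω').val.obj (op U))
      ((KoszTw.tensorMap i (𝟙 Ω')).app U (ConnSh.secApp nabla U (p.app U (t • x))))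
        (@HAdd.hAdd ((CohB1.tensorMod (E ⊞ E) Ω').val.obj (op U)) ((CohB1.tensorMod (E ⊞ E) Ω').val.obj (op U))
          ((CohB1.tensorMod (E ⊞ E) Ω').val.obj (op U)) instHAdd
          (t • ((KoszTw.tensorMap i (𝟙 Ω')).app U (ConnSh.secApp nabla U (p.app U x)) :
            (CohB1.tensorMod (E ⊞ E) Ω').val.obj (op U)))
          (SecTwist.tmul (E ⊞ E) Ω' U (i.app U (p.app U x)) (δ.app U t))) := by
    intro p i hp
    refine (congrArg (fun y => (KoszTw.tensorMap i (𝟙 Ω')).app U (ConnSh.secApp nabla U y)) hp).trans ?_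
    refine (congrArg (fun y => (KoszTw.tensorMap i (𝟙 Ω')).app U y) (hn U t (p.app U x))).trans ?_
    refine (map_add _ _ _).trans ?_
    exact congrArg₂ (· + ·) (Scheme.Modules.Hom.app_smul _ t _)
            (KoszTw.tensorMap_tmul i (𝟙 Ω') U (p.app U x) (δ.app U t))
  rw [g _ _ f1, g _ _ f2]
  have hsum : SecTwist.tmul (E ⊞ E) Ω' U ((biprod.inl : E ⟶ E ⊞ E).app U ((biprod.fst : E ⊞ E ⟶ E).app U x))
        (δ.app U t) +
      SecTwist.tmul (E ⊞ E) Ω' U ((biprod.inr : E ⟶ E ⊞ E).app U ((biprod.snd : E ⊞ E ⟶ E).app U x))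
        (δ.app U t) = SecTwist.tmul (E ⊞ E) Ω' U x (δ.app U t) := by
    rw [← tmul_add_left]
    exact congrArg (fun y => SecTwist.tmul (E ⊞ E) Ω' U y (δ.app U t)) (total_app E U x)
  rw [← hsum]
  exact (add_add_add_comm _ _ _ _).trans (congrArg (· + _) (smul_add t _ _).symm)

theorem act_horizontal (hn : ConnSh.IsConn δ E nabla) (a : DualNumber k) :
    ConnSh.IsHorizontal (conn2 E nabla) (conn2 E nabla) (DefoSh.dualAct k E a : E ⊞ E ⟶ E ⊞ E) := by
  rw [DefoSh.dualAct_hom]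
  exact isHorizontal_add
    (isHorizontal_smul δ (isConn_conn2 δ E nabla hn) (DefoSh.isHorizontal_id _) _)
    (isHorizontal_smul δ (isConn_conn2 δ E nabla hn) (shift_horizontal E nabla) _)

/-- the deformation `∇ ⊕ ∇` of `∇` over the trivial first order deformation. -/
noncomputable def defoConn (hn : ConnSh.IsConn δ E nabla) :
    DefoSh.DefoConn δ nabla (DefoSh.Defo.trivDual k E) where
  conn := conn2 E nabla
  isConn := isConn_conn2 δ E nabla hn
  act_horizontal a := act_horizontal δ E nabla hn a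
  π_horizontal := pi_horizontal E nabla

theorem main17439 (hn : ConnSh.IsConn δ E nabla) :
    Nonempty (DefoSh.DefoConn δ nabla (DefoSh.Defo.trivDual k E)) :=
  ⟨defoConn δ E nabla hn⟩

end Main

end Groth.Agent.Helper17.DCN3
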