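import Mathlib
import Groth.Agent.Lib.Helper17.DCN8

set_option autoImplicit false
universe u
open CategoryTheory CategoryTheory.Limits AlgebraicGeometry Opposite TopologicalSpace ArtFun ArtFun.Art

namespace Groth.Agent.Helper17.DCN9

open Groth.Agent.Helper17.DCN1 Groth.Agent.Helper17.DCN2 Groth.Agent.Helper17.DCN5
  Groth.Agent.Helper17.DCN6 Groth.Agent.Helper17.DCN7 Groth.Agent.Helper17.DCN8 DefoSh

variable {X : Scheme.{u}} {Ω' : X.Modules}

section Hor
variable {M M' : X.Modules}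
  {c : Coh.toAb M ⟶ Coh.toAb (CohB1.tensorMod M Ω')} {c' : Coh.toAb M' ⟶ Coh.toAb (CohB1.tensorMod M' Ω')}

theorem isHorizontal_iff (g : M ⟶ M') : ConnSh.IsHorizontal c c' g ↔
    (SheafOfModules.toSheaf X.ringCatSheaf).map g ≫ c' =
      c ≫ (SheafOfModules.toSheaf X.ringCatSheaf).map (KoszTw.tensorMap g (𝟙 Ω')) := by
  constructor
  · intro h
    ext U e
    exact h U.unop e
  · intro h U e
    exact congrArg (fun f : Coh.toAb M ⟶ Coh.toAb (CohB1.tensorMod M' Ω') => f.hom.app (op U) e) h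

end Hor

section Abstract
universe v w
variable {C : Type w} [Category.{v} C] [Preadditive C] {A B A' B' : C}
  (P : A ⟶ B) (FS : B ⟶ B) (I : B ⟶ A) (c c' : A ⟶ A') (n : B ⟶ B')
  (TP : A' ⟶ B') (TS : B' ⟶ B') (TI : B' ⟶ A')

theorem star_abstract (ha : I ≫ c' = n ≫ TI) (hb : c ≫ TP = P ≫ n) :
    (𝟙 A + P ≫ FS ≫ I) ≫ c' - c ≫ (𝟙 A' + TP ≫ TS ≫ TI) =
      (c' - c) - P ≫ (n ≫ TS - FS ≫ n) ≫ TI := by
  simp only [Preadditive.add_comp, Preadditive.comp_add, Preadditive.sub_comp, Preadditive.comp_sub,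
    Category.id_comp, Category.comp_id, Category.assoc, ha]
  rw [← Category.assoc c TP, hb, Category.assoc]
  abel

end Abstract

variable {k : Type u} [Field k] [X.Over (Spec (CommRingCat.of k))]
  (δ : OmegaSh.Der (X ↘ Spec (CommRingCat.of k)) Ω') {E : X.Modules}
  (nabla : Coh.toAb E ⟶ Coh.toAb (CohB1.tensorMod E Ω'))
  (D : DefoSh.Defo E (ArtFun.Art.dual k k)) (ι : E ⟶ D.sheaf)
  (hι : D.π ≫ ι = D.act (DualNumber.eps : DualNumber k))

lemma epi_map_pi : Epi ((SheafOfModules.toSheaf X.ringCatSheaf).map D.π) := by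
  haveI := epi_pi D
  haveI : (SheafOfModules.toSheaf.{u} X.ringCatSheaf).PreservesEpimorphisms :=
    preservesEpimorphisms_of_preservesColimitsOfShape _
  exact @Functor.map_epi _ _ _ _ (SheafOfModules.toSheaf.{u} X.ringCatSheaf) _ _ _ D.π (epi_pi D)

include hι in
lemma iota_horizontal (c : DefoSh.DefoConn δ nabla D) :
    (SheafOfModules.toSheaf X.ringCatSheaf).map ι ≫ c.conn =
      nabla ≫ (SheafOfModules.toSheaf X.ringCatSheaf).map (KoszTw.tensorMap ι (𝟙 Ω')) := by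
  haveI := epi_map_pi D
  rw [← cancel_epi ((SheafOfModules.toSheaf X.ringCatSheaf).map D.π)]
  have h1 := (isHorizontal_iff _).mp (c.act_horizontal (DualNumber.eps : DualNumber k))
  have h2 := (isHorizontal_iff _).mp c.π_horizontal
  have h3 := KoszTw.tensorMap_comp D.π ι (𝟙 Ω') (𝟙 Ω')
  rw [Category.comp_id, hι] at h3
  have e1 : (SheafOfModules.toSheaf X.ringCatSheaf).map D.π ≫
      (SheafOfModules.toSheaf X.ringCatSheaf).map ι =
      (SheafOfModules.toSheaf X.ringCatSheaf).map (D.act (DualNumber.eps : DualNumber k)) :=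
    ((SheafOfModules.toSheaf X.ringCatSheaf).map_comp D.π ι).symm.trans
      (congrArg (SheafOfModules.toSheaf X.ringCatSheaf).map hι)
  have e2 : (SheafOfModules.toSheaf X.ringCatSheaf).map
      (KoszTw.tensorMap (D.act (DualNumber.eps : DualNumber k)) (𝟙 Ω')) =
      (SheafOfModules.toSheaf X.ringCatSheaf).map (KoszTw.tensorMap D.π (𝟙 Ω')) ≫
        (SheafOfModules.toSheaf X.ringCatSheaf).map (KoszTw.tensorMap ι (𝟙 Ω')) :=
    (congrArg (SheafOfModules.toSheaf X.ringCatSheaf).map h3).trans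
      ((SheafOfModules.toSheaf X.ringCatSheaf).map_comp _ _)
  rw [← Category.assoc, e1, h1, e2, ← Category.assoc, ← h2, Category.assoc]

section Star
variable (c c' : DefoSh.DefoConn δ nabla D) (S : E ⟶ E)

/-- the automorphism `1 + π ≫ S ≫ ι`. -/
noncomputable def gS : D.sheaf ⟶ D.sheaf := 𝟙 _ + D.π ≫ S ≫ ι

lemma map_gS : (SheafOfModules.toSheaf X.ringCatSheaf).map (gS D ι S) =
    𝟙 _ + (SheafOfModules.toSheaf X.ringCatSheaf).map D.π ≫
      (SheafOfModules.toSheaf X.ringCatSheaf).map S ≫ (SheafOfModules.toSheaf X.ringCatSheaf).map ι := by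
  rfl

lemma tm_gS : KoszTw.tensorMap (gS D ι S) (𝟙 Ω') =
    𝟙 _ + KoszTw.tensorMap D.π (𝟙 Ω') ≫ KoszTw.tensorMap S (𝟙 Ω') ≫ KoszTw.tensorMap ι (𝟙 Ω') := by
  unfold gS
  have h1 := KoszTw.tensorMap_comp S ι (𝟙 Ω') (𝟙 Ω')
  have h2 := KoszTw.tensorMap_comp D.π (S ≫ ι) (𝟙 Ω') (𝟙 Ω')
  rw [Category.comp_id] at h1 h2
  rw [tensorMap_add, KoszTw.tensorMap_id, h2, h1]

lemma map_tm_gS : (SheafOfModules.toSheaf X.ringCatSheaf).map (KoszTw.tensorMap (gS D ι S) (𝟙 Ω')) =
    𝟙 _ + (SheafOfModules.toSheaf X.ringCatSheaf).map (KoszTw.tensorMap D.π (𝟙 Ω')) ≫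
      (SheafOfModules.toSheaf X.ringCatSheaf).map (KoszTw.tensorMap S (𝟙 Ω')) ≫
        (SheafOfModules.toSheaf X.ringCatSheaf).map (KoszTw.tensorMap ι (𝟙 Ω')) := by
  refine (congrArg (SheafOfModules.toSheaf X.ringCatSheaf).map (tm_gS D ι S)).trans ?_
  rfl

include hι in
lemma star : (SheafOfModules.toSheaf X.ringCatSheaf).map (gS D ι S) ≫ c'.conn -
      c.conn ≫ (SheafOfModules.toSheaf X.ringCatSheaf).map (KoszTw.tensorMap (gS D ι S) (𝟙 Ω')) =
    (c'.conn - c.conn) - (SheafOfModules.toSheaf X.ringCatSheaf).map D.π ≫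
      (nabla ≫ (SheafOfModules.toSheaf X.ringCatSheaf).map (KoszTw.tensorMap S (𝟙 Ω')) -
        (SheafOfModules.toSheaf X.ringCatSheaf).map S ≫ nabla) ≫
        (SheafOfModules.toSheaf X.ringCatSheaf).map (KoszTw.tensorMap ι (𝟙 Ω')) := by
  rw [map_gS, map_tm_gS]
  exact star_abstract _ _ _ _ _ _ _ _ _ (iota_horizontal δ nabla D ι hι c')
    ((isHorizontal_iff _).mp c.π_horizontal).symm

include hι in
theorem horizontal_gS_iff : ConnSh.IsHorizontal c.conn c'.conn (gS D ι S) ↔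
    c'.conn - c.conn = (SheafOfModules.toSheaf X.ringCatSheaf).map D.π ≫
      (nabla ≫ (SheafOfModules.toSheaf X.ringCatSheaf).map (KoszTw.tensorMap S (𝟙 Ω')) -
        (SheafOfModules.toSheaf X.ringCatSheaf).map S ≫ nabla) ≫
        (SheafOfModules.toSheaf X.ringCatSheaf).map (KoszTw.tensorMap ι (𝟙 Ω')) := by
  rw [isHorizontal_iff, ← sub_eq_zero, star δ nabla D ι hι c c' S, sub_eq_zero]

end Star

section Auto
include hι

theorem exists_S_of_iso (e : DefoSh.Defo.Iso D D) : ∃ S : E ⟶ E, e.iso.hom = gS D ι S := by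
  have hS := sc_shortExact D ι hι
  haveI : Mono ι := hS.mono_f
  haveI : Epi D.π := epi_pi D
  haveI : Mono (sc D ι hι).f := hS.mono_f
  haveI : Epi (sc D ι hι).g := hS.epi_g
  let h : D.sheaf ⟶ D.sheaf := e.iso.hom - 𝟙 _
  have h1 : h ≫ D.π = 0 := by
    change (e.iso.hom - 𝟙 _) ≫ D.π = 0
    rw [Preadditive.sub_comp, e.hom_π, Category.id_comp, sub_self]
  let h' : D.sheaf ⟶ E := hS.exact.lift h h1
  have hh' : h' ≫ ι = h := hS.exact.lift_f h h1
  have h2 : D.act (DualNumber.eps : DualNumber k) ≫ h = h ≫ D.act (DualNumber.eps : DualNumber k) := by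
    change D.act (DualNumber.eps : DualNumber k) ≫ (e.iso.hom - 𝟙 _) =
      (e.iso.hom - 𝟙 _) ≫ D.act (DualNumber.eps : DualNumber k)
    rw [Preadditive.comp_sub, Preadditive.sub_comp, e.act_hom, Category.comp_id, Category.id_comp]
  have h3 : D.act (DualNumber.eps : DualNumber k) ≫ h' = 0 := by
    rw [← cancel_mono ι, Category.assoc, hh', h2, ← hh', Category.assoc, iota_eps D ι hι, comp_zero,
      zero_comp]
  have h4 : ι ≫ h' = 0 := by
    rw [← cancel_epi D.π, ← Category.assoc, hι, h3, comp_zero]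
  let S : E ⟶ E := hS.exact.desc h' h4
  have hS' : D.π ≫ S = h' := hS.exact.g_desc h' h4
  refine ⟨S, ?_⟩
  have : D.π ≫ S ≫ ι = h := by rw [← Category.assoc, hS', hh']
  unfold gS
  rw [this]
  change e.iso.hom = 𝟙 _ + (e.iso.hom - 𝟙 _)
  abel

lemma N_sq (S S' : E ⟶ E) : (D.π ≫ S ≫ ι) ≫ (D.π ≫ S' ≫ ι) = 0 := by
  simp only [Category.assoc]
  rw [← Category.assoc ι, iota_pi D ι hι, zero_comp, comp_zero, comp_zero]

lemma gS_comp (S : E ⟶ E) : gS D ι S ≫ gS D ι (-S) = 𝟙 _ := by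
  unfold gS
  rw [Preadditive.add_comp, Preadditive.comp_add, Preadditive.comp_add, Category.id_comp,
    Category.id_comp, Category.comp_id, N_sq D ι hι, Preadditive.neg_comp, Preadditive.comp_neg]
  abel

lemma act_N (S : E ⟶ E) (a : DualNumber k) :
    D.act a ≫ (D.π ≫ S ≫ ι) = (D.π ≫ S ≫ ι) ≫ D.act a := by
  have ha : (D.act a : D.sheaf ⟶ D.sheaf) = TrivSqZeroExt.fst a • 𝟙 D.sheaf +
      TrivSqZeroExt.snd a • (show D.sheaf ⟶ D.sheaf from D.act (DualNumber.eps : DualNumber k)) :=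
    act_eq D a
  rw [ha, Preadditive.add_comp, Preadditive.comp_add, Linear.smul_comp, Linear.smul_comp,
    Linear.comp_smul, Linear.comp_smul, Category.id_comp, Category.comp_id]
  congr 1
  have e1 : (show D.sheaf ⟶ D.sheaf from D.act (DualNumber.eps : DualNumber k)) ≫ D.π ≫ S ≫ ι = 0 := by
    rw [← Category.assoc]
    exact (congrArg (· ≫ S ≫ ι) (D.act_π (DualNumber.eps : DualNumber k) rfl)).trans zero_comp
  have e2 : (D.π ≫ S ≫ ι) ≫ (show D.sheaf ⟶ D.sheaf from D.act (DualNumber.eps : DualNumber k)) = 0 := by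
    simp only [Category.assoc]
    rw [show ι ≫ (show D.sheaf ⟶ D.sheaf from D.act (DualNumber.eps : DualNumber k)) = 0 from
      iota_eps D ι hι, comp_zero, comp_zero]
  rw [e1, e2]

/-- the automorphism of the deformation attached to `S`. -/
noncomputable def isoOfS (S : E ⟶ E) : DefoSh.Defo.Iso D D where
  iso :=
    { hom := gS D ι S
      inv := gS D ι (-S)
      hom_inv_id := gS_comp D ι hι S
      inv_hom_id := by
        have := gS_comp D ι hι (-S)
        rw [neg_neg] at this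
        exact this }
  act_hom a := by
    change D.act a ≫ (𝟙 _ + D.π ≫ S ≫ ι) = (𝟙 _ + D.π ≫ S ≫ ι) ≫ D.act a
    rw [Preadditive.comp_add, Preadditive.add_comp, act_N D ι hι S a, Category.comp_id, Category.id_comp]
  hom_π := by
    change (𝟙 _ + D.π ≫ S ≫ ι) ≫ D.π = D.π
    rw [Preadditive.add_comp, Category.id_comp, Category.assoc, Category.assoc, iota_pi D ι hι,
      comp_zero, comp_zero, add_zero]

end Auto

include hι in
theorem main17437 (c c' : DefoSh.DefoConn δ nabla D) :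
    DefoSh.DefoConn.Transport c c' ↔ ∃ S : E ⟶ E,
      c'.conn - c.conn = (SheafOfModules.toSheaf X.ringCatSheaf).map D.π ≫
        (nabla ≫ (SheafOfModules.toSheaf X.ringCatSheaf).map (KoszTw.tensorMap S (𝟙 Ω')) -
          (SheafOfModules.toSheaf X.ringCatSheaf).map S ≫ nabla) ≫
          (SheafOfModules.toSheaf X.ringCatSheaf).map (KoszTw.tensorMap ι (𝟙 Ω')) := by
  constructor
  · rintro ⟨e, he⟩
    obtain ⟨S, hS⟩ := exists_S_of_iso D ι hι e
    rw [hS] at he
    exact ⟨S, (horizontal_gS_iff δ nabla D ι hι c c' S).mp he⟩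
  · rintro ⟨S, hS⟩
    exact ⟨isoOfS D ι hι S, (horizontal_gS_iff δ nabla D ι hι c c' S).mpr hS⟩

end Groth.Agent.Helper17.DCN9
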