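import Mathlib
import Groth.Agent.Lib.Helper17.DF1

/-!
# The difference of two flat lifts of an ideal (helper17)
-/

set_option autoImplicit false

namespace Groth.Agent.Helper17.DF

open scoped TensorProduct

universe u

variable {C' : Type u} [CommRing C'] (J : Ideal C') {A' : Type u} [CommRing A'] [Algebra C' A']

local notation "KK" => Ideal.map (algebraMap C' A') J

/-- `ρ` kills everything whose `mu` lies in an ideal `I'` with flat quotient, killed by `πB`. -/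
lemma rho_eq_zero {B : Type u} [CommRing B] [Algebra C' B] (πB : A' →ₐ[C'] B) (I' : Ideal A')
    [Module.Flat C' (A' ⧸ I')] (hπ : ∀ u ∈ I', πB u = 0) (z : A' ⊗[C'] ↥J)
    (hz : mu J A' z ∈ I') : LinearMap.rTensor ↥J πB.toLinearMap z = 0 := by
  have hcomp : πB.toLinearMap =
      (Ideal.Quotient.liftₐ I' πB hπ).toLinearMap ∘ₗ (Ideal.Quotient.mkₐ C' I').toLinearMap := by
    ext a
    rfl
  rw [hcomp]
  apply rTensor_comp_eq_zero
  exact Ideal.Quotient.eq_zero_iff_mem.mpr hz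

theorem existsUnique_diff [Module.Flat C' A']
    (I : Ideal (A' ⧸ J.map (algebraMap C' A')))
    (I' I'' : Ideal A') [Module.Flat C' (A' ⧸ I')] [Module.Flat C' (A' ⧸ I'')]
    (hI' : I'.map (Ideal.Quotient.mk (J.map (algebraMap C' A'))) = I)
    (hI'' : I''.map (Ideal.Quotient.mk (J.map (algebraMap C' A'))) = I) :
    ∃! φ : ↥I →ₗ[A'] (((A' ⧸ J.map (algebraMap C' A')) ⧸ I) ⊗[C'] ↥J),
      (∀ (x : (A' ⧸ J.map (algebraMap C' A'))) (hx : x ∈ I) (x' x'' : A'), x' ∈ I' → x'' ∈ I'' →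
          Ideal.Quotient.mk (J.map (algebraMap C' A')) x' = x →
          Ideal.Quotient.mk (J.map (algebraMap C' A')) x'' = x →
          ∀ z : A' ⊗[C'] ↥J,
            TensorProduct.rid C' A' (LinearMap.lTensor A' (Submodule.subtype J) z) = x'' - x' →
            LinearMap.rTensor ↥J (IsScalarTower.toAlgHom C' A'
              ((A' ⧸ J.map (algebraMap C' A')) ⧸ I)).toLinearMap z = φ ⟨x, hx⟩) := by
  classical
  let πB : A' →ₐ[C'] ((A' ⧸ KK) ⧸ I) := IsScalarTower.toAlgHom C' A' ((A' ⧸ KK) ⧸ I)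
  have hπB : ∀ a, πB a = Ideal.Quotient.mk I (Ideal.Quotient.mk KK a) := fun a => rfl
  have hπ' : ∀ u ∈ I', πB u = 0 := fun u hu => by
    rw [hπB]
    exact Ideal.Quotient.eq_zero_iff_mem.mpr (hI' ▸ Ideal.mem_map_of_mem _ hu)
  have hπ'' : ∀ u ∈ I'', πB u = 0 := fun u hu => by
    rw [hπB]
    exact Ideal.Quotient.eq_zero_iff_mem.mpr (hI'' ▸ Ideal.mem_map_of_mem _ hu)
  let ρ : A' ⊗[C'] ↥J →ₗ[C'] ((A' ⧸ KK) ⧸ I) ⊗[C'] ↥J := LinearMap.rTensor ↥J πB.toLinearMap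
  have hρsmul : ∀ (a : A') (z : A' ⊗[C'] ↥J), ρ (a • z) = a • ρ z := by
    intro a z
    induction z using TensorProduct.induction_on with
    | zero => simp
    | tmul m j =>
      rw [TensorProduct.smul_tmul']
      simp only [ρ, LinearMap.rTensor_tmul, AlgHom.toLinearMap_apply]
      rw [TensorProduct.smul_tmul', smul_eq_mul, map_mul]
      rfl
    | add x y hx hy => rw [smul_add, map_add, hx, hy, map_add, smul_add]
  have hL' : ∀ z, mu J A' z ∈ I' → ρ z = 0 := fun z hz => rho_eq_zero J πB I' hπ' z hz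
  have hL'' : ∀ z, mu J A' z ∈ I'' → ρ z = 0 := fun z hz => rho_eq_zero J πB I'' hπ'' z hz
  -- validity predicate
  let Valid : (A' ⧸ KK) → A' ⊗[C'] ↥J → Prop := fun x z =>
    ∃ x' ∈ I', ∃ x'' ∈ I'', Ideal.Quotient.mk KK x' = x ∧ Ideal.Quotient.mk KK x'' = x ∧
      mu J A' z = x'' - x'
  have hW : ∀ x z₁ z₂, Valid x z₁ → Valid x z₂ → ρ z₁ = ρ z₂ := by
    rintro x z₁ z₂ ⟨x'₁, hx'₁, x''₁, hx''₁, e'₁, e''₁, hz₁⟩ ⟨x'₂, hx'₂, x''₂, hx''₂, e'₂, e''₂, hz₂⟩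
    have hu : x'₂ - x'₁ ∈ KK := Ideal.Quotient.eq.mp (e'₂.trans e'₁.symm)
    have hv : x''₂ - x''₁ ∈ KK := Ideal.Quotient.eq.mp (e''₂.trans e''₁.symm)
    obtain ⟨zu, hzu⟩ := exists_mu_eq J _ hu
    obtain ⟨zv, hzv⟩ := exists_mu_eq J _ hv
    have h1 : z₂ - z₁ = zv - zu := by
      apply mu_injective J (M := A')
      rw [map_sub, map_sub, hz₁, hz₂, hzu, hzv]
      ring
    have h2 : ρ zu = 0 := hL' zu (hzu ▸ I'.sub_mem hx'₂ hx'₁)
    have h3 : ρ zv = 0 := hL'' zv (hzv ▸ I''.sub_mem hx''₂ hx''₁)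
    have h4 : ρ z₂ - ρ z₁ = 0 := by rw [← map_sub, h1, map_sub, h2, h3, sub_zero]
    exact (sub_eq_zero.mp h4).symm
  have hex : ∀ x ∈ I, ∃ z, Valid x z := by
    intro x hx
    obtain ⟨x', hx', e'⟩ := (Ideal.mem_map_iff_of_surjective _
      Ideal.Quotient.mk_surjective).mp (hI' ▸ hx : x ∈ I'.map (Ideal.Quotient.mk KK))
    obtain ⟨x'', hx'', e''⟩ := (Ideal.mem_map_iff_of_surjective _
      Ideal.Quotient.mk_surjective).mp (hI'' ▸ hx : x ∈ I''.map (Ideal.Quotient.mk KK))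
    have hd : x'' - x' ∈ KK := Ideal.Quotient.eq.mp (e''.trans e'.symm)
    obtain ⟨z, hz⟩ := exists_mu_eq J _ hd
    exact ⟨z, x', hx', x'', hx'', e', e'', hz⟩
  have hadd : ∀ x y z₁ z₂, Valid x z₁ → Valid y z₂ → Valid (x + y) (z₁ + z₂) := by
    rintro x y z₁ z₂ ⟨x'₁, hx'₁, x''₁, hx''₁, e'₁, e''₁, hz₁⟩ ⟨x'₂, hx'₂, x''₂, hx''₂, e'₂, e''₂, hz₂⟩
    refine ⟨x'₁ + x'₂, I'.add_mem hx'₁ hx'₂, x''₁ + x''₂, I''.add_mem hx''₁ hx''₂, ?_, ?_, ?_⟩
    · rw [map_add, e'₁, e'₂]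
    · rw [map_add, e''₁, e''₂]
    · rw [map_add, hz₁, hz₂]; ring
  have hsmul : ∀ (a : A') x z, Valid x z → Valid (a • x) (a • z) := by
    rintro a x z ⟨x', hx', x'', hx'', e', e'', hz⟩
    refine ⟨a * x', I'.mul_mem_left _ hx', a * x'', I''.mul_mem_left _ hx'', ?_, ?_, ?_⟩
    · rw [map_mul, e']; rfl
    · rw [map_mul, e'']; rfl
    · rw [mu_smul, hz]; ring
  choose zf hzf using fun x : ↥I => hex x.1 x.2
  let φ : ↥I →ₗ[A'] (((A' ⧸ KK) ⧸ I) ⊗[C'] ↥J) :=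
    { toFun := fun x => ρ (zf x)
      map_add' := fun x y => by
        rw [← map_add]
        exact hW _ _ _ (hzf (x + y)) (hadd _ _ _ _ (hzf x) (hzf y))
      map_smul' := fun a x => by
        rw [RingHom.id_apply, ← hρsmul]
        exact hW _ _ _ (hzf (a • x)) (hsmul a _ _ (hzf x)) }
  refine ⟨φ, ?_, ?_⟩
  · intro x hx x' x'' hx' hx'' e' e'' z hz
    exact hW x z (zf ⟨x, hx⟩) ⟨x', hx', x'', hx'', e', e'', hz⟩ (hzf ⟨x, hx⟩)
  · intro φ₂ h₂
    refine LinearMap.ext fun x => ?_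
    obtain ⟨x', hx', x'', hx'', e', e'', hz⟩ := hzf x
    exact (h₂ x.1 x.2 x' x'' hx' hx'' e' e'' (zf x) hz).symm

end Groth.Agent.Helper17.DF
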