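import Mathlib
import Groth.Agent.Lib.Helper17.DF2

/-!
# Flat lifts of ideals over a small extension: auxiliary lemmas for the torsor action (helper17)
-/

set_option autoImplicit false

namespace Groth.Agent.Helper17.DF

open scoped TensorProduct

universe u

variable {C' : Type u} [CommRing C'] (J : Ideal C') {A' : Type u} [CommRing A'] [Algebra C' A']

local notation "KK" => Ideal.map (algebraMap C' A') J

lemma mu_mem (z : A' ⊗[C'] ↥J) : mu J A' z ∈ KK := by
  induction z using TensorProduct.induction_on with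
  | zero => simp
  | tmul a j =>
    rw [mu_tmul, Algebra.smul_def]
    exact Ideal.mul_mem_right _ _ (Ideal.mem_map_of_mem _ j.2)
  | add x y hx hy => rw [map_add]; exact Ideal.add_mem _ hx hy

lemma rho_smul {B : Type u} [CommRing B] [Algebra C' B] [Algebra A' B] [IsScalarTower C' A' B]
    (a : A') (z : A' ⊗[C'] ↥J) :
    LinearMap.rTensor ↥J (IsScalarTower.toAlgHom C' A' B).toLinearMap (a • z) =
      a • LinearMap.rTensor ↥J (IsScalarTower.toAlgHom C' A' B).toLinearMap z := by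
  induction z using TensorProduct.induction_on with
  | zero => simp
  | tmul m j =>
    rw [TensorProduct.smul_tmul']
    simp only [LinearMap.rTensor_tmul, AlgHom.toLinearMap_apply]
    rw [TensorProduct.smul_tmul', smul_eq_mul, map_mul, Algebra.smul_def]
    rfl
  | add x y hx hy => rw [smul_add, map_add, hx, hy, map_add, smul_add]

/-- In `M ⊗ J`, `(q (mu t)) ⊗ j = 0` when `J * J = 0`. -/
lemma tmul_mu_eq_zero (hJJ : ∀ j₁ ∈ J, ∀ j₂ ∈ J, j₁ * j₂ = 0) {M : Type u} [AddCommGroup M]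
    [Module C' M] (q : A' →ₗ[C'] M) (t : A' ⊗[C'] ↥J) (j : ↥J) :
    (q (mu J A' t)) ⊗ₜ[C'] j = (0 : M ⊗[C'] ↥J) := by
  induction t using TensorProduct.induction_on with
  | zero => simp
  | tmul a j₁ =>
    rw [mu_tmul, map_smul, TensorProduct.smul_tmul]
    have : (j₁ : C') • j = 0 := Subtype.ext (by
      simpa using hJJ j₁ j₁.2 j j.2)
    rw [this, TensorProduct.tmul_zero]
  | add x y hx hy => rw [map_add, map_add, TensorProduct.add_tmul, hx, hy, add_zero]


section LemN

variable (I : Ideal (A' ⧸ Ideal.map (algebraMap C' A') J)) (I'' : Ideal A')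

/-- The projection `A' → B = (A'/JA')/I`. -/
noncomputable abbrev piB : A' →ₐ[C'] ((A' ⧸ KK) ⧸ I) :=
  IsScalarTower.toAlgHom C' A' ((A' ⧸ KK) ⧸ I)

lemma piB_apply (a : A') :
    piB J I a = Ideal.Quotient.mk I (Ideal.Quotient.mk KK a) := rfl

lemma piB_surjective : Function.Surjective (piB J I) := by
  intro b
  obtain ⟨b', rfl⟩ := Ideal.Quotient.mk_surjective b
  obtain ⟨a, rfl⟩ := Ideal.Quotient.mk_surjective b'
  exact ⟨a, rfl⟩

variable {I I''}

lemma piB_eq_zero_of_mem (hle : I''.map (Ideal.Quotient.mk KK) ≤ I) (u : A') (hu : u ∈ I'') :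
    piB J I u = 0 := by
  rw [piB_apply]
  exact Ideal.Quotient.eq_zero_iff_mem.mpr (hle (Ideal.mem_map_of_mem _ hu))

lemma exists_of_piB_eq_zero (hge : I ≤ I''.map (Ideal.Quotient.mk KK)) (a : A')
    (ha : piB J I a = 0) : ∃ y ∈ I'', ∃ t, a - y = mu J A' t := by
  rw [piB_apply] at ha
  have h1 : Ideal.Quotient.mk KK a ∈ I''.map (Ideal.Quotient.mk KK) :=
    hge (Ideal.Quotient.eq_zero_iff_mem.mp ha)
  obtain ⟨y, hy, e⟩ := (Ideal.mem_map_iff_of_surjective _ Ideal.Quotient.mk_surjective).mp h1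
  have h2 : a - y ∈ KK := Ideal.Quotient.eq.mp e.symm
  obtain ⟨t, ht⟩ := exists_mu_eq J _ h2
  exact ⟨y, hy, t, ht.symm⟩

/-- The induced map `A'/I'' → B`. -/
noncomputable def rr (hle : I''.map (Ideal.Quotient.mk KK) ≤ I) :
    (A' ⧸ I'') →ₐ[C'] ((A' ⧸ KK) ⧸ I) :=
  Ideal.Quotient.liftₐ I'' (piB J I) (piB_eq_zero_of_mem J hle)

lemma rr_mk (hle : I''.map (Ideal.Quotient.mk KK) ≤ I) (a : A') :
    rr J hle (Ideal.Quotient.mk I'' a) = piB J I a := rfl

lemma rr_surjective (hle : I''.map (Ideal.Quotient.mk KK) ≤ I) :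
    Function.Surjective (rr J hle) := by
  intro b
  obtain ⟨a, rfl⟩ := piB_surjective J I b
  exact ⟨Ideal.Quotient.mk I'' a, rfl⟩

lemma piB_comp (hle : I''.map (Ideal.Quotient.mk KK) ≤ I) :
    (piB J I).toLinearMap =
      (rr J hle).toLinearMap ∘ₗ (Ideal.Quotient.mkₐ C' I'').toLinearMap := by
  ext a
  rfl

/-- Every element of the kernel of `A'/I'' → B` is the class of some `mu t`. -/
lemma exists_mu_of_mem_ker (hle : I''.map (Ideal.Quotient.mk KK) ≤ I)
    (hge : I ≤ I''.map (Ideal.Quotient.mk KK)) (n : A' ⧸ I'') (hn : rr J hle n = 0) :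
    ∃ t, n = (Ideal.Quotient.mkₐ C' I'').toLinearMap (mu J A' t) := by
  obtain ⟨a, rfl⟩ := Ideal.Quotient.mk_surjective n
  rw [rr_mk] at hn
  obtain ⟨y, hy, t, ht⟩ := exists_of_piB_eq_zero J hge a hn
  refine ⟨t, ?_⟩
  rw [← ht]
  show Ideal.Quotient.mk I'' a = Ideal.Quotient.mk I'' (a - y)
  rw [map_sub, Ideal.Quotient.eq_zero_iff_mem.mpr hy, sub_zero]

/-- Lemma N: `ρ w = 0` implies `(q'' ⊗ id) w = 0`. -/
lemma rTensor_mk_eq_zero (hJJ : ∀ j₁ ∈ J, ∀ j₂ ∈ J, j₁ * j₂ = 0)
    (hle : I''.map (Ideal.Quotient.mk KK) ≤ I) (hge : I ≤ I''.map (Ideal.Quotient.mk KK))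
    (w : A' ⊗[C'] ↥J) (hw : LinearMap.rTensor ↥J (piB J I).toLinearMap w = 0) :
    LinearMap.rTensor ↥J (Ideal.Quotient.mkₐ C' I'').toLinearMap w = 0 := by
  rw [piB_comp J hle, LinearMap.rTensor_comp_apply] at hw
  have hex := rTensor_exact ↥J (LinearMap.exact_subtype_ker_map (rr J hle).toLinearMap)
    (rr_surjective J hle)
  obtain ⟨v, hv⟩ := (hex _).mp hw
  have key : ∀ v : ↥(LinearMap.ker (rr J hle).toLinearMap) ⊗[C'] ↥J,
      LinearMap.rTensor ↥J (LinearMap.ker (rr J hle).toLinearMap).subtype v = 0 := by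
    intro v
    induction v using TensorProduct.induction_on with
    | zero => simp
    | tmul n j =>
      rw [LinearMap.rTensor_tmul, Submodule.subtype_apply]
      obtain ⟨t, ht⟩ := exists_mu_of_mem_ker J hle hge n.1 n.2
      rw [ht]
      exact tmul_mu_eq_zero J hJJ _ t j
    | add x y hx hy => rw [map_add, hx, hy, add_zero]
  rw [← hv, key]

/-- The kernel of `A'/I'' → B` is `J • ⊤`. -/
lemma ker_rr (hle : I''.map (Ideal.Quotient.mk KK) ≤ I)
    (hge : I ≤ I''.map (Ideal.Quotient.mk KK)) :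
    LinearMap.ker (rr J hle).toLinearMap = J • (⊤ : Submodule C' (A' ⧸ I'')) := by
  apply le_antisymm
  · intro n hn
    obtain ⟨t, rfl⟩ := exists_mu_of_mem_ker J hle hge n hn
    clear hn
    induction t using TensorProduct.induction_on with
    | zero => simp
    | tmul a j =>
      rw [mu_tmul, map_smul]
      exact Submodule.smul_mem_smul j.2 Submodule.mem_top
    | add x y hx hy => rw [map_add, map_add]; exact Submodule.add_mem _ hx hy
  · rw [Submodule.smul_le]
    intro j hj m _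
    rw [LinearMap.mem_ker, map_smul]
    obtain ⟨a, rfl⟩ := Ideal.Quotient.mk_surjective m
    show j • rr J hle (Ideal.Quotient.mk I'' a) = 0
    rw [rr_mk, ← map_smul, piB_apply, Algebra.smul_def, map_mul]
    have : Ideal.Quotient.mk KK (algebraMap C' A' j) = 0 :=
      Ideal.Quotient.eq_zero_iff_mem.mpr (Ideal.mem_map_of_mem _ hj)
    rw [this, zero_mul, map_zero]

end LemN

end Groth.Agent.Helper17.DF
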