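import Mathlib
import Groth.Agent.Lib.Helper17.DF3
import Groth.Agent.Lib.Helper1.LocalCriterion

/-!
# Flat lifts of ideals over a small extension: flatness of the translated lift (helper17)
-/

set_option autoImplicit false

namespace Groth.Agent.Helper17.DF

open scoped TensorProduct

universe u

variable {C' : Type u} [CommRing C'] (J : Ideal C') {A' : Type u} [CommRing A'] [Algebra C' A']

local notation "KK" => Ideal.map (algebraMap C' A') J

section Flat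

variable {I : Ideal (A' ⧸ Ideal.map (algebraMap C' A') J)} {I'' : Ideal A'}

lemma mu_quotient_injective (hJJ : ∀ j₁ ∈ J, ∀ j₂ ∈ J, j₁ * j₂ = 0)
    (hle : I''.map (Ideal.Quotient.mk KK) ≤ I) (hge : I ≤ I''.map (Ideal.Quotient.mk KK))
    (hP3 : ∀ z, mu J A' z ∈ I'' → LinearMap.rTensor ↥J (piB J I).toLinearMap z = 0) :
    Function.Injective (mu J (A' ⧸ I'')) := by
  rw [injective_iff_map_eq_zero]
  intro w hw
  obtain ⟨z, rfl⟩ := LinearMap.rTensor_surjective ↥J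
    (g := (Ideal.Quotient.mkₐ C' I'').toLinearMap) Ideal.Quotient.mk_surjective w
  rw [mu_natural] at hw
  have hmem : mu J A' z ∈ I'' := Ideal.Quotient.eq_zero_iff_mem.mp hw
  exact rTensor_mk_eq_zero J hJJ hle hge z (hP3 z hmem)

theorem flat_quotient (hJJ : ∀ j₁ ∈ J, ∀ j₂ ∈ J, j₁ * j₂ = 0)
    (hle : I''.map (Ideal.Quotient.mk KK) ≤ I) (hge : I ≤ I''.map (Ideal.Quotient.mk KK))
    [Module.Flat (C' ⧸ J) ((A' ⧸ KK) ⧸ I)]
    (hP3 : ∀ z, mu J A' z ∈ I'' → LinearMap.rTensor ↥J (piB J I).toLinearMap z = 0) :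
    Module.Flat C' (A' ⧸ I'') := by
  have hnil : IsNilpotent J := ⟨2, by
    rw [pow_two, Ideal.zero_eq_bot, eq_bot_iff]
    exact Ideal.mul_le.mpr fun a ha b hb => by rw [Ideal.mem_bot]; exact hJJ a ha b hb⟩
  have H1 : Function.Injective (LinearMap.rTensor (A' ⧸ I'') (Submodule.subtype J)) := by
    rw [← LinearMap.lTensor_inj_iff_rTensor_inj]
    have hmu := mu_quotient_injective J hJJ hle hge hP3
    intro x y hxy
    apply hmu
    rw [mu_apply, mu_apply, hxy]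
  have hker := ker_rr J hle hge
  let e₀ : ((C' ⧸ J) ⊗[C'] (A' ⧸ I'')) ≃ₗ[C'] ((A' ⧸ KK) ⧸ I) :=
    (TensorProduct.quotTensorEquivQuotSMul (A' ⧸ I'') J) ≪≫ₗ
      (Submodule.quotEquivOfEq _ _ hker.symm) ≪≫ₗ
      ((rr J hle).toLinearMap.quotKerEquivOfSurjective (rr_surjective J hle))
  let f : ((C' ⧸ J) ⊗[C'] (A' ⧸ I'')) →ₗ[C' ⧸ J] ((A' ⧸ KK) ⧸ I) :=
    { toFun := e₀
      map_add' := e₀.map_add
      map_smul' := by
        intro c x
        obtain ⟨c₀, rfl⟩ := Ideal.Quotient.mk_surjective c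
        have h1 : (Ideal.Quotient.mk J c₀) • x = c₀ • x := algebraMap_smul (C' ⧸ J) c₀ x
        have h2 : (Ideal.Quotient.mk J c₀) • e₀ x = c₀ • e₀ x :=
          algebraMap_smul (C' ⧸ J) c₀ (e₀ x)
        show e₀ ((Ideal.Quotient.mk J c₀) • x) = (Ideal.Quotient.mk J c₀) • e₀ x
        rw [h1, h2, map_smul] }
  let e : ((C' ⧸ J) ⊗[C'] (A' ⧸ I'')) ≃ₗ[C' ⧸ J] ((A' ⧸ KK) ⧸ I) :=
    LinearEquiv.ofBijective f e₀.bijective
  have H2 : Module.Flat (C' ⧸ J) ((C' ⧸ J) ⊗[C'] (A' ⧸ I'')) := Module.Flat.of_linearEquiv e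
  exact Groth.Agent.Helper1.flat_of_isNilpotent J hnil H1

end Flat

end Groth.Agent.Helper17.DF
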