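import Mathlib
import Groth.Agent.Lib.Helper17.DF4

/-!
# Flat lifts of ideals over a small extension: translating a flat lift by a homomorphism
(helper17)
-/

set_option autoImplicit false

namespace Groth.Agent.Helper17.DF

open scoped TensorProduct

universe u

variable {C' : Type u} [CommRing C'] (J : Ideal C') {A' : Type u} [CommRing A'] [Algebra C' A']

local notation "KK" => Ideal.map (algebraMap C' A') J

section Construct

variable {I : Ideal (A' ⧸ Ideal.map (algebraMap C' A') J)} {I' : Ideal A'}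

/-- The reduction map `I' → I`. -/
noncomputable def redMap (hle' : I'.map (Ideal.Quotient.mk KK) ≤ I) : ↥I' →ₗ[A'] ↥I where
  toFun x' := ⟨Ideal.Quotient.mk KK x'.1, hle' (Ideal.mem_map_of_mem _ x'.2)⟩
  map_add' x y := Subtype.ext (map_add _ _ _)
  map_smul' c x := Subtype.ext (by
    show Ideal.Quotient.mk KK (c * x.1) = c • Ideal.Quotient.mk KK x.1
    rw [map_mul, Algebra.smul_def]; rfl)

lemma redMap_coe (hle' : I'.map (Ideal.Quotient.mk KK) ≤ I) (x' : ↥I') :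
    (redMap J hle' x' : A' ⧸ KK) = Ideal.Quotient.mk KK x'.1 := rfl

/-- The translate of `I'` by `φ`. -/
noncomputable def translate (hle' : I'.map (Ideal.Quotient.mk KK) ≤ I)
    (φ : ↥I →ₗ[A'] (((A' ⧸ KK) ⧸ I) ⊗[C'] ↥J)) : Ideal A' where
  carrier := {y | ∃ x' : ↥I', ∃ z : A' ⊗[C'] ↥J, y = x'.1 + mu J A' z ∧
    LinearMap.rTensor ↥J (piB J I).toLinearMap z = φ (redMap J hle' x')}
  add_mem' := by
    rintro _ _ ⟨x₁, z₁, rfl, e₁⟩ ⟨x₂, z₂, rfl, e₂⟩
    refine ⟨x₁ + x₂, z₁ + z₂, ?_, ?_⟩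
    · rw [map_add]; simp only [Submodule.coe_add]; ring
    · rw [map_add, e₁, e₂, map_add, map_add]
  zero_mem' := ⟨0, 0, by simp, by simp⟩
  smul_mem' := by
    rintro c _ ⟨x, z, rfl, e⟩
    refine ⟨c • x, c • z, ?_, ?_⟩
    · rw [mu_smul]; simp only [Submodule.coe_smul, smul_eq_mul]; ring
    · rw [rho_smul, e, map_smul, map_smul]

lemma mem_translate (hle' : I'.map (Ideal.Quotient.mk KK) ≤ I)
    (φ : ↥I →ₗ[A'] (((A' ⧸ KK) ⧸ I) ⊗[C'] ↥J)) (y : A') :
    y ∈ translate J hle' φ ↔ ∃ x' : ↥I', ∃ z : A' ⊗[C'] ↥J, y = x'.1 + mu J A' z ∧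
      LinearMap.rTensor ↥J (piB J I).toLinearMap z = φ (redMap J hle' x') := Iff.rfl

end Construct

end Groth.Agent.Helper17.DF
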