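import Mathlib
import Groth.Agent.Lib.Helper17.DF5

/-!
# Flat lifts of ideals over a small extension: the torsor action (helper17)
-/

set_option autoImplicit false

namespace Groth.Agent.Helper17.DF

open scoped TensorProduct

universe u

variable {C' : Type u} [CommRing C'] (J : Ideal C') {A' : Type u} [CommRing A'] [Algebra C' A']

local notation "KK" => Ideal.map (algebraMap C' A') J

/-- The difference of `I''` from `I'` is `φ`. -/
def DiffProp (I : Ideal (A' ⧸ Ideal.map (algebraMap C' A') J)) (I' I'' : Ideal A')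
    (φ : ↥I →ₗ[A'] (((A' ⧸ Ideal.map (algebraMap C' A') J) ⧸ I) ⊗[C'] ↥J)) : Prop :=
  ∀ (x : A' ⧸ Ideal.map (algebraMap C' A') J) (hx : x ∈ I) (x' x'' : A'), x' ∈ I' → x'' ∈ I'' →
    Ideal.Quotient.mk (Ideal.map (algebraMap C' A') J) x' = x →
    Ideal.Quotient.mk (Ideal.map (algebraMap C' A') J) x'' = x →
    ∀ z : A' ⊗[C'] ↥J, mu J A' z = x'' - x' →
      LinearMap.rTensor ↥J (piB J I).toLinearMap z = φ ⟨x, hx⟩

variable {I : Ideal (A' ⧸ Ideal.map (algebraMap C' A') J)} {I' : Ideal A'}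

lemma le_of_diffProp (hJJ : ∀ j₁ ∈ J, ∀ j₂ ∈ J, j₁ * j₂ = 0)
    (hI' : I'.map (Ideal.Quotient.mk KK) = I)
    (φ : ↥I →ₗ[A'] (((A' ⧸ KK) ⧸ I) ⊗[C'] ↥J)) (I₁ I₂ : Ideal A')
    (h₁ : I₁.map (Ideal.Quotient.mk KK) = I) (h₂ : I₂.map (Ideal.Quotient.mk KK) = I)
    (d₁ : DiffProp J I I' I₁ φ) (d₂ : DiffProp J I I' I₂ φ) : I₁ ≤ I₂ := by
  intro x'' hx''
  have hx : Ideal.Quotient.mk KK x'' ∈ I := h₁ ▸ Ideal.mem_map_of_mem _ hx''
  obtain ⟨x', hx', e'⟩ := (Ideal.mem_map_iff_of_surjective _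
    Ideal.Quotient.mk_surjective).mp (hI' ▸ hx : _ ∈ I'.map (Ideal.Quotient.mk KK))
  obtain ⟨y'', hy'', e''⟩ := (Ideal.mem_map_iff_of_surjective _
    Ideal.Quotient.mk_surjective).mp (h₂ ▸ hx : _ ∈ I₂.map (Ideal.Quotient.mk KK))
  obtain ⟨z₁, hz₁⟩ := exists_mu_eq J (x'' - x') (Ideal.Quotient.eq.mp e'.symm)
  obtain ⟨z₂, hz₂⟩ := exists_mu_eq J (y'' - x') (Ideal.Quotient.eq.mp (e''.trans e'.symm))
  have r₁ := d₁ _ hx x' x'' hx' hx'' e' rfl z₁ hz₁
  have r₂ := d₂ _ hx x' y'' hx' hy'' e' e'' z₂ hz₂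
  have hw : LinearMap.rTensor ↥J (piB J I).toLinearMap (z₁ - z₂) = 0 := by
    rw [map_sub, r₁, r₂, sub_self]
  have hN := rTensor_mk_eq_zero J hJJ h₂.le h₂.ge (z₁ - z₂) hw
  have h3 : (Ideal.Quotient.mkₐ C' I₂).toLinearMap (mu J A' (z₁ - z₂)) = 0 := by
    rw [← mu_natural, hN, map_zero]
  have h4 : mu J A' (z₁ - z₂) ∈ I₂ := Ideal.Quotient.eq_zero_iff_mem.mp h3
  have h5 : x'' = y'' + mu J A' (z₁ - z₂) := by rw [map_sub, hz₁, hz₂]; ring
  rw [h5]
  exact I₂.add_mem hy'' h4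

theorem existsUnique_translate [IsLocalRing C'] (hJ : IsLocalRing.maximalIdeal C' * J = ⊥)
    (hJne : J ≠ ⊤) [Module.Flat C' A']
    (I : Ideal (A' ⧸ J.map (algebraMap C' A')))
    [Module.Flat (C' ⧸ J) ((A' ⧸ J.map (algebraMap C' A')) ⧸ I)]
    (I' : Ideal A') [Module.Flat C' (A' ⧸ I')]
    (hI' : I'.map (Ideal.Quotient.mk (J.map (algebraMap C' A'))) = I)
    (φ : ↥I →ₗ[A'] (((A' ⧸ J.map (algebraMap C' A')) ⧸ I) ⊗[C'] ↥J)) :
    ∃! I'' : Ideal A', Module.Flat C' (A' ⧸ I'') ∧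
      I''.map (Ideal.Quotient.mk (J.map (algebraMap C' A'))) = I ∧
      (∀ (x : (A' ⧸ J.map (algebraMap C' A'))) (hx : x ∈ I) (x' x'' : A'), x' ∈ I' → x'' ∈ I'' →
          Ideal.Quotient.mk (J.map (algebraMap C' A')) x' = x →
          Ideal.Quotient.mk (J.map (algebraMap C' A')) x'' = x →
          ∀ z : A' ⊗[C'] ↥J,
            TensorProduct.rid C' A' (LinearMap.lTensor A' (Submodule.subtype J) z) = x'' - x' →
            LinearMap.rTensor ↥J (IsScalarTower.toAlgHom C' A'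
              ((A' ⧸ J.map (algebraMap C' A')) ⧸ I)).toLinearMap z = φ ⟨x, hx⟩) := by
  classical
  have hJm : J ≤ IsLocalRing.maximalIdeal C' := IsLocalRing.le_maximalIdeal hJne
  have hJJ : ∀ j₁ ∈ J, ∀ j₂ ∈ J, j₁ * j₂ = 0 := by
    intro j₁ h₁ j₂ h₂
    have : j₁ * j₂ ∈ IsLocalRing.maximalIdeal C' * J := Ideal.mul_mem_mul (hJm h₁) h₂
    rw [hJ] at this
    exact this
  have hle' : I'.map (Ideal.Quotient.mk KK) ≤ I := hI'.le
  have hπ' : ∀ u ∈ I', piB J I u = 0 := piB_eq_zero_of_mem J hle'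
  have hL' : ∀ z, mu J A' z ∈ I' → LinearMap.rTensor ↥J (piB J I).toLinearMap z = 0 :=
    fun z hz => rho_eq_zero J (piB J I) I' hπ' z hz
  have hTle : (translate J hle' φ).map (Ideal.Quotient.mk KK) ≤ I := by
    rw [Ideal.map_le_iff_le_comap]
    rintro y ⟨x', z, rfl, e⟩
    rw [Ideal.mem_comap, map_add, Ideal.Quotient.eq_zero_iff_mem.mpr (mu_mem J z), add_zero]
    exact hle' (Ideal.mem_map_of_mem _ x'.2)
  have hTge : I ≤ (translate J hle' φ).map (Ideal.Quotient.mk KK) := by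
    intro x hx
    obtain ⟨x', hx', e'⟩ := (Ideal.mem_map_iff_of_surjective _
      Ideal.Quotient.mk_surjective).mp (hI' ▸ hx : x ∈ I'.map (Ideal.Quotient.mk KK))
    obtain ⟨z, hz⟩ := LinearMap.rTensor_surjective ↥J (g := (piB J I).toLinearMap)
      (piB_surjective J I) (φ (redMap J hle' ⟨x', hx'⟩))
    have hy : x' + mu J A' z ∈ translate J hle' φ := ⟨⟨x', hx'⟩, z, rfl, hz⟩
    have : Ideal.Quotient.mk KK (x' + mu J A' z) = x := by
      rw [map_add, Ideal.Quotient.eq_zero_iff_mem.mpr (mu_mem J z), add_zero, e']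
    rw [← this]
    exact Ideal.mem_map_of_mem _ hy
  have hφred : ∀ (x' : ↥I') (x : A' ⧸ KK) (hx : x ∈ I), Ideal.Quotient.mk KK x'.1 = x →
      φ (redMap J hle' x') = φ ⟨x, hx⟩ := by
    intro x' x hx e
    congr 1
    exact Subtype.ext e
  have hTdiff : DiffProp J I I' (translate J hle' φ) φ := by
    rintro x hx x'₀ x'' hx'₀ ⟨x'₁, z₁, rfl, e₁⟩ e' e'' z hz
    have hmk : Ideal.Quotient.mk KK x'₁.1 = x := by
      rw [← e'', map_add, Ideal.Quotient.eq_zero_iff_mem.mpr (mu_mem J z₁), add_zero]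
    have hu : x'₁.1 - x'₀ ∈ KK := Ideal.Quotient.eq.mp (hmk.trans e'.symm)
    obtain ⟨zu, hzu⟩ := exists_mu_eq J _ hu
    have h0 : LinearMap.rTensor ↥J (piB J I).toLinearMap zu = 0 :=
      hL' zu (hzu ▸ I'.sub_mem x'₁.2 hx'₀)
    have hz' : z = zu + z₁ := by
      apply mu_injective J (M := A')
      rw [hz, map_add, hzu]; ring
    rw [hz', map_add, h0, zero_add, e₁]
    exact hφred x'₁ x hx hmk
  have hTP3 : ∀ z, mu J A' z ∈ translate J hle' φ →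
      LinearMap.rTensor ↥J (piB J I).toLinearMap z = 0 := by
    rintro z ⟨x', z₁, hz, e₁⟩
    have hx'eq : mu J A' (z - z₁) = x'.1 := by rw [map_sub, hz]; ring
    have hx'K : x'.1 ∈ KK := by
      rw [← hx'eq]; exact mu_mem J _
    have h1 : φ (redMap J hle' x') = 0 := by
      have : redMap J hle' x' = 0 := Subtype.ext (Ideal.Quotient.eq_zero_iff_mem.mpr hx'K)
      rw [this, map_zero]
    have h2 : LinearMap.rTensor ↥J (piB J I).toLinearMap (z - z₁) = 0 := by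
      apply hL'
      rw [hx'eq]; exact x'.2
    rw [map_sub, e₁, h1, sub_zero] at h2
    exact h2
  have hTflat : Module.Flat C' (A' ⧸ translate J hle' φ) :=
    flat_quotient J hJJ hTle hTge hTP3
  refine ⟨translate J hle' φ, ⟨hTflat, le_antisymm hTle hTge, hTdiff⟩, ?_⟩
  rintro I₂ ⟨-, hI₂, hD₂⟩
  have hD₂' : DiffProp J I I' I₂ φ := hD₂
  exact le_antisymm
    (le_of_diffProp J hJJ hI' φ I₂ _ hI₂ (le_antisymm hTle hTge) hD₂' hTdiff)
    (le_of_diffProp J hJJ hI' φ _ I₂ (le_antisymm hTle hTge) hI₂ hTdiff hD₂')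

end Groth.Agent.Helper17.DF
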