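import Mathlib

/-!
# Flatness and colon ideals; maximal proper subideals in a local ring (helper17)
-/

set_option autoImplicit false

namespace Groth.Agent.Helper17.DFR1

open IsLocalRing

universe u

variable {A : Type u} [CommRing A] [IsLocalRing A]
  {B' : Type u} [CommRing B'] [Algebra A B']

/-- For `B'` flat over the local ring `A`, `t ∉ J'`: if `t x ∈ J' B'` then `x ∈ m B'`. -/
theorem mem_map_maximalIdeal_of_mul_mem [Module.Flat A B'] (J' : Ideal A) (t : A) (ht : t ∉ J')
    (x : B') (hx : algebraMap A B' t * x ∈ J'.map (algebraMap A B')) :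
    x ∈ (maximalIdeal A).map (algebraMap A B') := by
  classical
  rw [Ideal.map, Ideal.span] at hx
  obtain ⟨s, hs, c, hc⟩ := (Submodule.mem_span_image_iff_exists_fun (R := B')
    (v := fun a : A => algebraMap A B' a) (s := (J' : Set A))).1 hx
  -- the relation `t • x - ∑ i • c i = 0`
  let f : Option s → A := fun o => Option.elim o t (fun i => -(i : A))
  let xx : Option s → B' := fun o => Option.elim o x (fun i => c i)
  simp only [smul_eq_mul] at hc
  have hrel : ∑ o, f o • xx o = 0 := by
    rw [Fintype.sum_option]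
    simp only [f, xx, Option.elim_none, Option.elim_some]
    have htx : t • x = algebraMap A B' t * x := Algebra.smul_def _ _
    rw [htx, ← hc, ← Finset.sum_add_distrib]
    apply Finset.sum_eq_zero
    intro i _
    rw [neg_smul, Algebra.smul_def, mul_comm]
    exact add_neg_cancel _
  obtain ⟨n, a, y, hxy, hfa⟩ := Module.Flat.isTrivialRelation_of_sum_smul_eq_zero
    (R := A) (M := B') (f := f) (x := xx) hrel
  have hx' : x = ∑ j, a none j • y j := hxy none
  rw [hx']
  apply Ideal.sum_mem
  intro j _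
  rw [Algebra.smul_def]
  apply Ideal.mul_mem_right
  apply Ideal.mem_map_of_mem
  -- `a none j ∈ m`
  by_contra hnot
  have hu : IsUnit (a none j) := by
    by_contra h
    exact hnot ((mem_maximalIdeal _).2 h)
  have h1 := hfa j
  rw [Fintype.sum_option] at h1
  simp only [f, Option.elim_none, Option.elim_some] at h1
  have h2 : t * a none j = ∑ i : s, (i : A) * a (some i) j := by
    have : ∑ i : s, -(i : A) * a (some i) j = -∑ i : s, (i : A) * a (some i) j := by
      rw [← Finset.sum_neg_distrib]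
      apply Finset.sum_congr rfl
      intro i _
      ring
    rw [this] at h1
    linear_combination h1
  have h3 : t * a none j ∈ J' := by
    rw [h2]
    apply Ideal.sum_mem
    intro i _
    exact Ideal.mul_mem_right _ _ (hs i.2)
  obtain ⟨u, hu'⟩ := hu
  apply ht
  have : t = t * a none j * ↑u⁻¹ := by
    rw [← hu', mul_assoc, Units.mul_inv, mul_one]
  rw [this]
  exact Ideal.mul_mem_right _ _ h3

/-- In a Noetherian local ring, a nonzero ideal `J` has a subideal `J' < J` with `J = J' + (t)`,
`t ∉ J'` and `m t ⊆ J'`. -/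
theorem exists_maximal_sub [IsNoetherianRing A] (J : Ideal A) (hJ : J ≠ ⊥) :
    ∃ (J' : Ideal A) (t : A), J' < J ∧ t ∈ J ∧ t ∉ J' ∧ J = J' ⊔ Ideal.span {t} ∧
      ∀ a ∈ maximalIdeal A, a * t ∈ J' := by
  have hne : ({I : Ideal A | I < J}).Nonempty := ⟨⊥, bot_lt_iff_ne_bot.2 hJ⟩
  obtain ⟨J', hJ'J, hmax⟩ := (set_has_maximal_iff_noetherian (R := A) (M := A)).2 inferInstance
    {I : Ideal A | I < J} hne
  have hJ'J' : J' < J := hJ'J
  obtain ⟨t, htJ, htJ'⟩ := SetLike.exists_of_lt hJ'J'
  have key : ∀ z ∈ J, z ∉ J' → J' ⊔ Ideal.span {z} = J := by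
    intro z hzJ hzJ'
    have h1 : J' < J' ⊔ Ideal.span {z} := by
      refine lt_of_le_of_ne le_sup_left ?_
      intro h
      apply hzJ'
      rw [h]
      exact Ideal.mem_sup_right (Ideal.mem_span_singleton_self z)
    have h2 : J' ⊔ Ideal.span {z} ≤ J :=
      sup_le hJ'J'.le ((Ideal.span_singleton_le_iff_mem _).2 hzJ)
    rcases eq_or_lt_of_le h2 with h | h
    · exact h
    · exact absurd h1 (hmax _ h)
  refine ⟨J', t, hJ'J', htJ, htJ', (key t htJ htJ').symm, ?_⟩
  intro a ha
  by_contra hat
  have h1 := key (a * t) (Ideal.mul_mem_left _ _ htJ) hat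
  have h2 : t ∈ J' ⊔ Ideal.span {a * t} := by rw [h1]; exact htJ
  obtain ⟨j', hj', w, hw, hsum⟩ := Submodule.mem_sup.1 h2
  obtain ⟨c, rfl⟩ := Ideal.mem_span_singleton'.1 hw
  have h3 : (1 - c * a) * t = j' := by
    linear_combination -hsum
  have hu : IsUnit (1 - c * a) :=
    IsLocalRing.isUnit_one_sub_self_of_mem_nonunits _ (Ideal.mul_mem_left _ c ha)
  obtain ⟨u, hu'⟩ := hu
  apply htJ'
  have : t = ↑u⁻¹ * j' := by
    rw [← h3, ← hu', ← mul_assoc, Units.inv_mul, one_mul]
  rw [this]
  exact Ideal.mul_mem_left _ _ hj'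

end Groth.Agent.Helper17.DFR1
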