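import Mathlib
import Groth.Prelude.Def_Exal
import Groth.Agent.Lib.Helper17.DFR1

/-!
# Sections of flat deformations over Artinian local rings when `T¹ = 0` (helper17)

`A` local Artinian `k`-algebra, `B'` flat over `A`, `π : B' → B₀` a surjection of `k`-algebras with
kernel `m_A B'`.  If every `k`-algebra extension of `B₀` by `B₀` is trivial, `π` has a `k`-algebra
section.
-/

set_option autoImplicit false

namespace Groth.Agent.Helper17.DFR2

open IsLocalRing Function

universe u

variable {k : Type u} [Field k] {A : Type u} [CommRing A] [IsLocalRing A] [Algebra k A]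
  {B' : Type u} [CommRing B'] [Algebra A B'] [Algebra k B'] [IsScalarTower k A B']
  {B₀ : Type u} [CommRing B₀] [Algebra k B₀] (π : B' →ₐ[k] B₀)

/-- a section of `π` modulo `J B'`. -/
def Q (J : Ideal A) : Prop :=
  ∃ σ : B₀ →ₐ[k] B' ⧸ J.map (algebraMap A B'),
    ∀ (b : B₀) (x : B'), Ideal.Quotient.mk (J.map (algebraMap A B')) x = σ b → π x = b

variable {π}

theorem Q_maximalIdeal (hπsurj : Surjective π)
    (hker : RingHom.ker (π : B' →+* B₀) = (maximalIdeal A).map (algebraMap A B')) :
    Q π (maximalIdeal A) := by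
  set I := (maximalIdeal A).map (algebraMap A B') with hI
  let lift : B₀ → B' := Function.surjInv hπsurj
  have hlift : ∀ b, π (lift b) = b := Function.surjInv_eq hπsurj
  have hmem : ∀ z : B', π z = 0 → z ∈ I := by
    intro z hz
    rw [← hker]
    exact hz
  have hmem' : ∀ z : B', z ∈ I → π z = 0 := by
    intro z hz
    rw [← hker] at hz
    exact hz
  let σ : B₀ →ₐ[k] B' ⧸ I :=
    { toFun := fun b => Ideal.Quotient.mk I (lift b)
      map_one' := by
        rw [← map_one (Ideal.Quotient.mk I), Ideal.Quotient.eq]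
        apply hmem
        rw [map_sub, hlift, map_one, sub_self]
      map_mul' := fun a b => by
        rw [← map_mul, Ideal.Quotient.eq]
        apply hmem
        rw [map_sub, map_mul, hlift, hlift, hlift, sub_self]
      map_zero' := by
        rw [← map_zero (Ideal.Quotient.mk I), Ideal.Quotient.eq]
        apply hmem
        rw [map_sub, hlift, map_zero, sub_self]
      map_add' := fun a b => by
        rw [← map_add, Ideal.Quotient.eq]
        apply hmem
        rw [map_sub, map_add, hlift, hlift, hlift, sub_self]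
      commutes' := fun c => by
        change Ideal.Quotient.mk I (lift (algebraMap k B₀ c)) =
          Ideal.Quotient.mk I (algebraMap k B' c)
        rw [Ideal.Quotient.eq]
        apply hmem
        rw [map_sub, hlift, AlgHom.commutes, sub_self] }
  refine ⟨σ, fun b x hx => ?_⟩
  have h1 : Ideal.Quotient.mk I x = Ideal.Quotient.mk I (lift b) := hx
  rw [Ideal.Quotient.eq] at h1
  have h2 := hmem' _ h1
  rw [map_sub, hlift, sub_eq_zero] at h2
  exact h2

theorem exists_section_of_Q_bot (h : Q π (⊥ : Ideal A)) :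
    ∃ s : B₀ →ₐ[k] B', ∀ b, π (s b) = b := by
  obtain ⟨σ, hσ⟩ := h
  have hbot : (⊥ : Ideal A).map (algebraMap A B') = ⊥ := Ideal.map_bot
  have hbij : Function.Bijective
      (Ideal.Quotient.mkₐ k ((⊥ : Ideal A).map (algebraMap A B'))) := by
    refine ⟨?_, Ideal.Quotient.mkₐ_surjective k _⟩
    rw [injective_iff_map_eq_zero]
    intro b hb
    rw [Ideal.Quotient.mkₐ_eq_mk] at hb
    have hb' := Ideal.Quotient.eq_zero_iff_mem.1 hb
    rw [hbot] at hb'
    exact hb'
  refine ⟨(AlgEquiv.ofBijective _ hbij).symm.toAlgHom.comp σ, fun b => ?_⟩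
  apply hσ b
  exact (AlgEquiv.ofBijective _ hbij).apply_symm_apply (σ b)

theorem Q_step [Module.Flat A B'] (hπsurj : Surjective π)
    (hker : RingHom.ker (π : B' →+* B₀) = (maximalIdeal A).map (algebraMap A B'))
    (hT : ∀ E : Exal.Ext k B₀ B₀, E.IsTrivial)
    (J J' : Ideal A) (t : A) (hJ'J : J' ≤ J) (htJ : t ∈ J) (htJ' : t ∉ J')
    (hsup : J = J' ⊔ Ideal.span {t}) (hmt : ∀ a ∈ maximalIdeal A, a * t ∈ J')
    (hQ : Q π J) : Q π J' := by
  obtain ⟨σ, hσ⟩ := hQ
  let IJ : Ideal B' := J.map (algebraMap A B')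
  have hIJ : IJ = J.map (algebraMap A B') := rfl
  let IJ' : Ideal B' := J'.map (algebraMap A B')
  have hIJ' : IJ' = J'.map (algebraMap A B') := rfl
  have hle : IJ' ≤ IJ := Ideal.map_mono hJ'J
  let T : B' := algebraMap A B' t
  have hTdef : T = algebraMap A B' t := rfl
  let lift : B₀ → B' := Function.surjInv hπsurj
  have hlift : ∀ b, π (lift b) = b := Function.surjInv_eq hπsurj
  have K1 : ∀ z : B', π z = 0 → T * z ∈ IJ' := by
    intro z hz
    have hz' : z ∈ (maximalIdeal A).map (algebraMap A B') := by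
      rw [← hker]
      exact hz
    have h1 : Ideal.span {T} * (maximalIdeal A).map (algebraMap A B') ≤ IJ' := by
      have : Ideal.span {T} = (Ideal.span {t}).map (algebraMap A B') := by
        rw [Ideal.map_span, Set.image_singleton]
      rw [this, hIJ', ← Ideal.map_mul]
      apply Ideal.map_mono
      rw [Ideal.span_singleton_mul_le_iff]
      intro a ha
      rw [mul_comm]
      exact hmt a ha
    exact h1 (Ideal.mul_mem_mul (Ideal.mem_span_singleton_self T) hz')
  have hTIJ : T ∈ IJ := Ideal.mem_map_of_mem _ htJ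
  have hIJsup : IJ = IJ' ⊔ Ideal.span {T} := by
    rw [hIJ, hIJ', hsup, Ideal.map_sup, Ideal.map_span, Set.image_singleton]
  let q : B' ⧸ IJ' →ₐ[k] B' ⧸ IJ := Ideal.Quotient.factorₐ k hle
  have hq : ∀ x : B', q (Ideal.Quotient.mk IJ' x) = Ideal.Quotient.mk IJ x := fun _ => rfl
  let E : Subalgebra k ((B' ⧸ IJ') × B₀) :=
    AlgHom.equalizer (q.comp (AlgHom.fst k (B' ⧸ IJ') B₀)) (σ.comp (AlgHom.snd k (B' ⧸ IJ') B₀))
  have hE : ∀ p : (B' ⧸ IJ') × B₀, p ∈ E ↔ q p.1 = σ p.2 := fun p => Iff.rfl
  have hincl_mem : ∀ b : B₀,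
      ((Ideal.Quotient.mk IJ' (T * lift b), (0 : B₀)) : (B' ⧸ IJ') × B₀) ∈ E := by
    intro b
    rw [hE]
    change q (Ideal.Quotient.mk IJ' (T * lift b)) = σ 0
    rw [map_zero, hq]
    exact Ideal.Quotient.eq_zero_iff_mem.2 (Ideal.mul_mem_right _ _ hTIJ)
  let incl : B₀ →+ E :=
    { toFun := fun b => ⟨(Ideal.Quotient.mk IJ' (T * lift b), 0), hincl_mem b⟩
      map_zero' := by
        apply Subtype.ext
        apply Prod.ext
        · change Ideal.Quotient.mk IJ' (T * lift 0) = 0
          exact Ideal.Quotient.eq_zero_iff_mem.2 (K1 _ (by rw [hlift]))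
        · rfl
      map_add' := fun a b => by
        apply Subtype.ext
        apply Prod.ext
        · change Ideal.Quotient.mk IJ' (T * lift (a + b)) =
            Ideal.Quotient.mk IJ' (T * lift a) + Ideal.Quotient.mk IJ' (T * lift b)
          rw [← map_add, Ideal.Quotient.eq]
          have : T * lift (a + b) - (T * lift a + T * lift b) =
              T * (lift (a + b) - lift a - lift b) := by ring
          rw [this]
          apply K1
          rw [map_sub, map_sub, hlift, hlift, hlift]
          abel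
        · change (0 : B₀) = 0 + 0
          rw [add_zero] }
  have hincl : ∀ b, ((incl b : E) : (B' ⧸ IJ') × B₀) = (Ideal.Quotient.mk IJ' (T * lift b), 0) :=
    fun _ => rfl
  let proj : E →ₐ[k] B₀ := (AlgHom.snd k (B' ⧸ IJ') B₀).comp E.val
  have hproj : ∀ x : E, proj x = (x : (B' ⧸ IJ') × B₀).2 := fun _ => rfl
  have hext : Exal.IsExtension proj incl :=
    { proj_surjective := by
        intro b
        obtain ⟨x, hx⟩ := Ideal.Quotient.mk_surjective (σ b)
        refine ⟨⟨(Ideal.Quotient.mk IJ' x, b), ?_⟩, rfl⟩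
        rw [hE]
        exact hx
      incl_injective := by
        rw [injective_iff_map_eq_zero]
        intro b hb
        have h1 : Ideal.Quotient.mk IJ' (T * lift b) = 0 :=
          congrArg (fun e : E => (e : (B' ⧸ IJ') × B₀).1) hb
        have h2 := Ideal.Quotient.eq_zero_iff_mem.1 h1
        have h3 := Groth.Agent.Helper17.DFR1.mem_map_maximalIdeal_of_mul_mem J' t htJ' (lift b) h2
        rw [← hker] at h3
        have h4 : π (lift b) = 0 := h3
        rw [hlift] at h4
        exact h4
      exact := by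
        intro x
        constructor
        · intro hx
          obtain ⟨⟨y, b⟩, hxE⟩ := x
          have hb : b = 0 := hx
          subst hb
          obtain ⟨y', rfl⟩ := Ideal.Quotient.mk_surjective y
          have h1 : q (Ideal.Quotient.mk IJ' y') = σ 0 := (hE _).1 hxE
          rw [map_zero, hq] at h1
          have h2 : y' ∈ IJ := Ideal.Quotient.eq_zero_iff_mem.1 h1
          rw [hIJsup] at h2
          obtain ⟨u, hu, w, hw, hsum⟩ := Submodule.mem_sup.1 h2
          obtain ⟨c, rfl⟩ := Ideal.mem_span_singleton'.1 hw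
          refine ⟨π c, ?_⟩
          apply Subtype.ext
          apply Prod.ext
          · change Ideal.Quotient.mk IJ' (T * lift (π c)) = Ideal.Quotient.mk IJ' y'
            rw [Ideal.Quotient.eq, ← hsum]
            have : T * lift (π c) - (u + c * T) = T * (lift (π c) - c) - u := by ring
            rw [this]
            exact sub_mem (K1 _ (by rw [map_sub, hlift, sub_self])) hu
          · rfl
        · rintro ⟨b, rfl⟩
          rfl
      mul_incl := by
        intro x z
        obtain ⟨⟨y, b₁⟩, hxE⟩ := x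
        obtain ⟨y', rfl⟩ := Ideal.Quotient.mk_surjective y
        have h1 : Ideal.Quotient.mk IJ y' = σ b₁ := (hE _).1 hxE
        have h2 : π y' = b₁ := hσ b₁ y' h1
        apply Subtype.ext
        apply Prod.ext
        · change Ideal.Quotient.mk IJ' y' * Ideal.Quotient.mk IJ' (T * lift z) =
            Ideal.Quotient.mk IJ' (T * lift (b₁ • z))
          rw [← map_mul, Ideal.Quotient.eq, smul_eq_mul]
          have : y' * (T * lift z) - T * lift (b₁ * z) = T * (y' * lift z - lift (b₁ * z)) := by
            ring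
          rw [this]
          apply K1
          rw [map_sub, map_mul, hlift, hlift, h2, sub_self]
        · change b₁ * 0 = 0
          rw [mul_zero] }
  obtain ⟨τ, hτ⟩ := hT { E := ↥E, proj := proj, incl := incl, isExtension := hext }
  let τ' : B₀ →ₐ[k] E := τ
  have hτ' : ∀ b, proj (τ' b) = b := hτ
  refine ⟨(AlgHom.fst k (B' ⧸ IJ') B₀).comp (E.val.comp τ'), fun b x hx => ?_⟩
  have hmemτ : ((τ' b : E) : (B' ⧸ IJ') × B₀) ∈ E := (τ' b).2
  rw [hE] at hmemτ
  have h1 : ((τ' b : E) : (B' ⧸ IJ') × B₀).2 = b := hτ' b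
  have h2 : ((τ' b : E) : (B' ⧸ IJ') × B₀).1 = Ideal.Quotient.mk IJ' x := hx.symm
  rw [h1, h2, hq] at hmemτ
  exact hσ b x hmemτ

theorem exists_section [IsArtinianRing A] [Module.Flat A B'] (hπsurj : Surjective π)
    (hker : RingHom.ker (π : B' →+* B₀) = (maximalIdeal A).map (algebraMap A B'))
    (hT : ∀ E : Exal.Ext k B₀ B₀, E.IsTrivial) :
    ∃ s : B₀ →ₐ[k] B', ∀ b, π (s b) = b := by
  apply exists_section_of_Q_bot (A := A)
  have hne : ({J : Ideal A | Q π J}).Nonempty := ⟨maximalIdeal A, Q_maximalIdeal hπsurj hker⟩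
  obtain ⟨J, hJQ, hmin⟩ := IsArtinian.set_has_minimal {J : Ideal A | Q π J} hne
  by_cases hJ : J = ⊥
  · rw [← hJ]
    exact hJQ
  · exfalso
    obtain ⟨J', t, hJ'J, htJ, htJ', hsup, hmt⟩ :=
      Groth.Agent.Helper17.DFR1.exists_maximal_sub J hJ
    exact hmin J' (Q_step hπsurj hker hT J J' t hJ'J.le htJ htJ' hsup hmt hJQ) hJ'J

end Groth.Agent.Helper17.DFR2
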