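import Mathlib
import Groth.Agent.Lib.Helper22.ArtFlat
import Groth.Agent.Lib.Helper19.ArtRegSeq

/-!
# Triviality of flat deformations admitting a section of the reduction map (helper17)

`A` a local `k`-algebra with nilpotent maximal ideal and augmentation `e : A → k`; `B'` a flat
`A`-algebra, `π : B' → B` a surjection of `k`-algebras with kernel `m_A B'`, `s : B → B'` a
`k`-algebra section of `π`.  Then `A ⊗[k] B → B'` is bijective.
-/

set_option autoImplicit false

namespace Groth.Agent.Helper17.RG1

open IsLocalRing TensorProduct Function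

universe u

variable {k : Type u} [Field k] {A : Type u} [CommRing A] [IsLocalRing A] [Algebra k A]
  (e : A →ₐ[k] k)
  {B' : Type u} [CommRing B'] [Algebra A B'] [Algebra k B'] [IsScalarTower k A B']
  {B : Type u} [CommRing B] [Algebra k B]
  (π : B' →ₐ[k] B) (s : B →ₐ[k] B')

theorem ker_e_eq : RingHom.ker (e : A →+* k) = maximalIdeal A := by
  have hsurj : Function.Surjective (e : A →+* k) := by
    intro c
    exact ⟨algebraMap k A c, by simp⟩
  have : (RingHom.ker (e : A →+* k)).IsMaximal := RingHom.ker_isMaximal_of_surjective _ hsurj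
  exact IsLocalRing.eq_maximalIdeal this

theorem sub_mem_maximalIdeal (a : A) : a - algebraMap k A (e a) ∈ maximalIdeal A := by
  rw [← ker_e_eq e, RingHom.mem_ker]
  simp

variable (A) in
/-- the comparison map `A ⊗[k] B → B'`. -/
noncomputable def comp : A ⊗[k] B →ₐ[A] B' :=
  Algebra.TensorProduct.lift (Algebra.ofId A B') s (fun _ _ => Commute.all _ _)

@[simp] theorem comp_tmul (a : A) (b : B) : comp A s (a ⊗ₜ b) = algebraMap A B' a * s b := by
  simp [comp, Algebra.ofId_apply]

variable {e π s}

theorem key_sub_mem (hπe : ∀ a : A, π (algebraMap A B' a) = algebraMap k B (e a))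
    (hπs : ∀ b : B, π (s b) = b) (t : A ⊗[k] B) :
    t - (1 : A) ⊗ₜ[k] π (comp A s t) ∈ maximalIdeal A • (⊤ : Submodule A (A ⊗[k] B)) := by
  induction t using TensorProduct.induction_on with
  | zero => simp
  | tmul a b =>
    rw [comp_tmul, map_mul, hπe, hπs]
    have h1 : (1 : A) ⊗ₜ[k] (algebraMap k B (e a) * b) = (algebraMap k A (e a)) ⊗ₜ[k] b := by
      rw [← Algebra.smul_def, ← TensorProduct.smul_tmul, Algebra.smul_def, mul_one]
    rw [h1, ← TensorProduct.sub_tmul]
    have h2 : (a - algebraMap k A (e a)) ⊗ₜ[k] b =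
        (a - algebraMap k A (e a)) • ((1 : A) ⊗ₜ[k] b) := by
      rw [TensorProduct.smul_tmul', smul_eq_mul, mul_one]
    rw [h2]
    exact Submodule.smul_mem_smul (sub_mem_maximalIdeal e a) Submodule.mem_top
  | add x y hx hy =>
    have : x + y - (1 : A) ⊗ₜ[k] π (comp A s (x + y)) =
        (x - (1 : A) ⊗ₜ[k] π (comp A s x)) + (y - (1 : A) ⊗ₜ[k] π (comp A s y)) := by
      rw [map_add, map_add, TensorProduct.tmul_add]
      abel
    rw [this]
    exact Submodule.add_mem _ hx hy

theorem comp_bijective (hm : IsNilpotent (maximalIdeal A)) [Module.Flat A B']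
    (hπe : ∀ a : A, π (algebraMap A B' a) = algebraMap k B (e a))
    (hπs : ∀ b : B, π (s b) = b)
    (hker : RingHom.ker (π : B' →+* B) = (maximalIdeal A).map (algebraMap A B')) :
    Function.Bijective (comp A s : A ⊗[k] B →ₐ[A] B') := by
  have hmem : ∀ x : B', x ∈ maximalIdeal A • (⊤ : Submodule A B') ↔ π x = 0 := by
    intro x
    rw [← Groth.Agent.Helper19.ArtReg.mem_map_smul_top_iff (S := B') (M := B'),
      smul_eq_mul, Ideal.mul_top, ← hker, RingHom.mem_ker]
    rfl
  constructor
  · -- injectivity
    have hinj : Injective ((comp A s).toLinearMap.lTensor (ResidueField A)) := by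
      refine (Groth.Agent.Helper1.lTensor_quotient_injective_iff
        (comp A s).toLinearMap (maximalIdeal A)).2 ?_
      intro t ht
      have h0 : π (comp A s t) = 0 := (hmem _).1 ht
      have := key_sub_mem hπe hπs t
      rw [h0, TensorProduct.tmul_zero, sub_zero] at this
      exact this
    exact Groth.Agent.Helper22.ArtFlat.injective_of_residue hm (comp A s).toLinearMap hinj
  · -- surjectivity
    have htop : LinearMap.range (comp A s).toLinearMap = ⊤ := by
      apply Groth.Agent.Helper1.eq_top_of_sup_smul_eq_top_of_isNilpotent (maximalIdeal A) hm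
      rw [eq_top_iff]
      intro b' _
      have h1 : b' - s (π b') ∈ maximalIdeal A • (⊤ : Submodule A B') := by
        rw [hmem, map_sub, hπs, sub_self]
      have h2 : s (π b') ∈ LinearMap.range (comp A s).toLinearMap :=
        ⟨(1 : A) ⊗ₜ[k] π b', by simp⟩
      have : b' = s (π b') + (b' - s (π b')) := by abel
      rw [this]
      exact Submodule.add_mem_sup h2 h1
    exact LinearMap.range_eq_top.1 htop

open CategoryTheory in
theorem isPushout_ring (hm : IsNilpotent (maximalIdeal A)) [Module.Flat A B']
    (hπe : ∀ a : A, π (algebraMap A B' a) = algebraMap k B (e a))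
    (hπs : ∀ b : B, π (s b) = b)
    (hker : RingHom.ker (π : B' →+* B) = (maximalIdeal A).map (algebraMap A B')) :
    IsPushout (CommRingCat.ofHom (algebraMap k A)) (CommRingCat.ofHom (algebraMap k B))
      (CommRingCat.ofHom (algebraMap A B')) (CommRingCat.ofHom (s : B →+* B')) := by
  have hbij := comp_bijective hm hπe hπs hker
  letI : Algebra B B' := (s : B →+* B').toAlgebra
  haveI : IsScalarTower k B B' := IsScalarTower.of_algebraMap_eq (fun c => (s.commutes c).symm)
  haveI : Algebra.IsPushout k A B B' := by
    refine ⟨IsBaseChange.of_equiv (LinearEquiv.ofBijective (comp A s).toLinearMap hbij) ?_⟩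
    intro b
    simp
    rfl
  exact CommRingCat.isPushout_of_isPushout k A B B'

end Groth.Agent.Helper17.RG1
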