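import Mathlib
import Groth.Agent.Lib.Helper14.RegSmooth
import Groth.Agent.Lib.Helper14.SepGen

/-!
# Regular finite type algebras over a perfect field are formally smooth (helper17)
-/

set_option autoImplicit false

namespace Groth.Agent.Helper17.RG2

universe u

theorem formallySmooth_of_regular (k : Type u) [Field k] [PerfectField k] (B : Type u) [CommRing B]
    [Algebra k B] [Algebra.FiniteType k B]
    (hreg : ∀ (p : Ideal B) [p.IsPrime], IsRegularLocalRing (Localization.AtPrime p)) :
    Algebra.FormallySmooth k B := by
  haveI : Algebra.FinitePresentation k B := Algebra.FinitePresentation.of_finiteType.1 inferInstance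
  rw [← Algebra.smoothLocus_eq_univ_iff]
  ext p
  simp only [Set.mem_univ, iff_true]
  haveI := hreg p.asIdeal
  haveI : Algebra.IsGeometricallyReduced k p.asIdeal.ResidueField := by
    rw [Algebra.isGeometricallyReduced_field_iff]
    exact Groth.Agent.Helper14.isReduced_tensor_of_perfectField
  exact Groth.Agent.Helper14.RegSmooth.isSmoothAt_of_regular k B p.asIdeal

end Groth.Agent.Helper17.RG2
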