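import Mathlib
import Groth.Agent.Lib.Helper17.RG1
import Groth.Agent.Lib.Helper17.RG2

/-!
# Trivial deformations of regular affine schemes: the case of spectra (helper17)
-/

set_option autoImplicit false

namespace Groth.Agent.Helper17.RG3

open AlgebraicGeometry CategoryTheory IsLocalRing

universe u

/-- surjectivity of a ring map whose `Spec` is a closed immersion. -/
theorem surjective_of_isClosedImmersion_spec {R S : CommRingCat.{u}} (f : R ⟶ S)
    [IsClosedImmersion (Spec.map f)] : Function.Surjective f.hom := by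
  have h := (IsClosedImmersion.isAffine_surjective_of_isAffine (Spec.map f)).2
  have h1 : f = (Scheme.ΓSpecIso R).inv ≫ (Spec.map f).appTop ≫ (Scheme.ΓSpecIso S).hom := by
    rw [Scheme.ΓSpecIso_naturality, Iso.inv_hom_id_assoc]
  rw [h1]
  simp only [CommRingCat.hom_comp, RingHom.coe_comp]
  exact ((ConcreteCategory.bijective_of_isIso (Scheme.ΓSpecIso S).hom).surjective.comp h).comp
    (ConcreteCategory.bijective_of_isIso (Scheme.ΓSpecIso R).inv).surjective

variable (k : Type u) [Field k] (A : Type u) [CommRing A] [IsLocalRing A] [Algebra k A]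
  (e : A →ₐ[k] k)

theorem spec_version [IsAlgClosed k] (hm : IsNilpotent (maximalIdeal A))
    (B B' : CommRingCat.{u}) (α : CommRingCat.of A ⟶ B') (κ : CommRingCat.of k ⟶ B) (π : B' ⟶ B)
    [Flat (Spec.map α)] [LocallyOfFiniteType (Spec.map κ)]
    (hreg : ∀ (p : Ideal B) [p.IsPrime], IsRegularLocalRing (Localization.AtPrime p))
    (hsq : IsPullback (Spec.map π) (Spec.map κ) (Spec.map α)
      (Spec.map (CommRingCat.ofHom e.toRingHom))) :
    ∃ s : B ⟶ B', IsPullback (Spec.map s) (Spec.map α) (Spec.map κ)
      (Spec.map (CommRingCat.ofHom (algebraMap k A))) := by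
  have hcomm : α ≫ π = CommRingCat.ofHom e.toRingHom ≫ κ := by
    apply Spec.map_injective
    rw [Spec.map_comp, Spec.map_comp]
    exact hsq.w
  have hcomm' : ∀ a : A, π.hom (α.hom a) = κ.hom (e a) := fun a =>
    congrArg (fun f => f.hom a) hcomm
  letI algAB' : Algebra A B' := α.hom.toAlgebra
  letI algkB' : Algebra k B' := (α.hom.comp (algebraMap k A)).toAlgebra
  haveI : IsScalarTower k A B' := IsScalarTower.of_algebraMap_eq (fun _ => rfl)
  letI algkB : Algebra k B := κ.hom.toAlgebra
  haveI : Module.Flat A B' := (Flat.SpecMap_iff.1 inferInstance : α.hom.Flat)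
  haveI : Algebra.FiniteType k B :=
    (show κ.hom.FiniteType from
      (HasRingHomProperty.Spec_iff (P := @LocallyOfFiniteType)).1 inferInstance)
  have hesurj : Function.Surjective (CommRingCat.ofHom e.toRingHom).hom :=
    fun c => ⟨algebraMap k A c, by simp⟩
  haveI : IsClosedImmersion (Spec.map (CommRingCat.ofHom e.toRingHom)) :=
    IsClosedImmersion.spec_of_surjective _ hesurj
  haveI : IsClosedImmersion (Spec.map π) := MorphismProperty.of_isPullback hsq.flip inferInstance
  have hπsurj := surjective_of_isClosedImmersion_spec π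
  let πa : B' →ₐ[k] B :=
    { π.hom with
      commutes' := fun c => by
        change π.hom (α.hom (algebraMap k A c)) = κ.hom c
        rw [hcomm']
        simp }
  have hπa : ∀ x : B', πa x = π.hom x := fun _ => rfl
  have hπe : ∀ a : A, πa (algebraMap A B' a) = algebraMap k B (e a) := fun a => hcomm' a
  -- the kernel
  have hker : RingHom.ker (πa : B' →+* B) = (maximalIdeal A).map (algebraMap A B') := by
    apply le_antisymm
    · intro b' hb'
      have hb0 : π.hom b' = 0 := hb'
      let q : B' ⟶ CommRingCat.of (B' ⧸ (maximalIdeal A).map (algebraMap A B')) :=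
        CommRingCat.ofHom (Ideal.Quotient.mk _)
      let ebar : CommRingCat.of k ⟶ CommRingCat.of (B' ⧸ (maximalIdeal A).map (algebraMap A B')) :=
        CommRingCat.ofHom (algebraMap k A) ≫ α ≫ q
      have hq : α ≫ q = CommRingCat.ofHom e.toRingHom ≫ ebar := by
        ext a
        change Ideal.Quotient.mk _ (α.hom a) =
          Ideal.Quotient.mk _ (α.hom (algebraMap k A (e a)))
        rw [Ideal.Quotient.eq, ← map_sub]
        exact Ideal.mem_map_of_mem _ (Groth.Agent.Helper17.RG1.sub_mem_maximalIdeal e a)
      let t := hsq.lift (Spec.map q) (Spec.map ebar)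
        (by rw [← Spec.map_comp, ← Spec.map_comp, hq])
      have ht : t ≫ Spec.map π = Spec.map q := hsq.lift_fst _ _ _
      have hτ : π ≫ Spec.preimage t = q := by
        apply Spec.map_injective
        rw [Spec.map_comp, Spec.map_preimage, ht]
      have h3 : q.hom b' = 0 := by
        rw [← hτ]
        change (Spec.preimage t).hom (π.hom b') = 0
        rw [hb0, map_zero]
      exact Ideal.Quotient.eq_zero_iff_mem.1 h3
    · rw [Ideal.map_le_iff_le_comap]
      intro a ha
      rw [Ideal.mem_comap, RingHom.mem_ker]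
      change πa (algebraMap A B' a) = 0
      rw [hπe]
      have : e a = 0 := by
        have := Groth.Agent.Helper17.RG1.ker_e_eq e
        rw [← this] at ha
        exact ha
      rw [this, map_zero]
  haveI : Algebra.FormallySmooth k B := Groth.Agent.Helper17.RG2.formallySmooth_of_regular k B hreg
  have hnil : IsNilpotent (RingHom.ker (πa : B' →+* B)) := by
    rw [hker]
    obtain ⟨n, hn⟩ := hm
    exact ⟨n, by rw [← Ideal.map_pow, hn, Ideal.zero_eq_bot, Ideal.map_bot]; rfl⟩
  let s : B →ₐ[k] B' := Algebra.FormallySmooth.liftOfSurjective (AlgHom.id k B) πa hπsurj hnil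
  have hπs : ∀ b : B, πa (s b) = b := fun b =>
    Algebra.FormallySmooth.liftOfSurjective_apply (AlgHom.id k B) πa hπsurj hnil b
  have hpo := Groth.Agent.Helper17.RG1.isPushout_ring (e := e) (π := πa) (s := s) hm hπe hπs hker
  have hpb := isPullback_SpecMap_of_isPushout _ _ _ _ hpo
  exact ⟨CommRingCat.ofHom (s : B →+* B'), hpb.flip⟩

end Groth.Agent.Helper17.RG3
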