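import Mathlib
import Groth.Prelude.Def_Exal
import Groth.Agent.Lib.Helper17.RG1
import Groth.Agent.Lib.Helper17.RG3
import Groth.Agent.Lib.Helper17.DFR2
import Groth.Agent.Lib.Helper6.ThickAffB

/-!
# Rigidity of affine schemes with `T¹ = 0`: spectra and schemes (helper17)
-/

set_option autoImplicit false

namespace Groth.Agent.Helper17.DFR3

open AlgebraicGeometry CategoryTheory IsLocalRing

universe u

variable (k : Type u) [Field k] (A : Type u) [CommRing A] [IsLocalRing A] [IsArtinianRing A]
  [Algebra k A] (e : A →ₐ[k] k)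
  (B₀ : Type u) [CommRing B₀] [Algebra k B₀]

theorem spec_version_T1 (hT : ∀ E : Exal.Ext k B₀ B₀, E.IsTrivial)
    (B' : CommRingCat.{u}) (α : CommRingCat.of A ⟶ B') (π : B' ⟶ CommRingCat.of B₀)
    [Flat (Spec.map α)]
    (hsq : IsPullback (Spec.map π) (Spec.map (CommRingCat.ofHom (algebraMap k B₀))) (Spec.map α)
      (Spec.map (CommRingCat.ofHom e.toRingHom))) :
    ∃ s : CommRingCat.of B₀ ⟶ B', IsPullback (Spec.map s) (Spec.map α)
        (Spec.map (CommRingCat.ofHom (algebraMap k B₀)))
        (Spec.map (CommRingCat.ofHom (algebraMap k A))) ∧ s ≫ π = 𝟙 _ := by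
  have hm : IsNilpotent (maximalIdeal A) :=
    (isArtinianRing_iff_isNilpotent_maximalIdeal A).1 inferInstance
  set κ : CommRingCat.of k ⟶ CommRingCat.of B₀ := CommRingCat.ofHom (algebraMap k B₀) with hκ
  have hcomm : α ≫ π = CommRingCat.ofHom e.toRingHom ≫ κ := by
    apply Spec.map_injective
    rw [Spec.map_comp, Spec.map_comp]
    exact hsq.w
  have hcomm' : ∀ a : A, π.hom (α.hom a) = algebraMap k B₀ (e a) := fun a =>
    congrArg (fun f => f.hom a) hcomm
  letI algAB' : Algebra A B' := α.hom.toAlgebra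
  letI algkB' : Algebra k B' := (α.hom.comp (algebraMap k A)).toAlgebra
  haveI : IsScalarTower k A B' := IsScalarTower.of_algebraMap_eq (fun _ => rfl)
  haveI : Module.Flat A B' := (Flat.SpecMap_iff.1 inferInstance : α.hom.Flat)
  have hesurj : Function.Surjective (CommRingCat.ofHom e.toRingHom).hom :=
    fun c => ⟨algebraMap k A c, by simp⟩
  haveI : IsClosedImmersion (Spec.map (CommRingCat.ofHom e.toRingHom)) :=
    IsClosedImmersion.spec_of_surjective _ hesurj
  haveI : IsClosedImmersion (Spec.map π) := MorphismProperty.of_isPullback hsq.flip inferInstance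
  have hπsurj := Groth.Agent.Helper17.RG3.surjective_of_isClosedImmersion_spec π
  let πa : B' →ₐ[k] B₀ :=
    { π.hom with
      commutes' := fun c => by
        change π.hom (α.hom (algebraMap k A c)) = algebraMap k B₀ c
        rw [hcomm']
        simp }
  have hπa : ∀ x : B', πa x = π.hom x := fun _ => rfl
  have hπe : ∀ a : A, πa (algebraMap A B' a) = algebraMap k B₀ (e a) := fun a => hcomm' a
  have hker : RingHom.ker (πa : B' →+* B₀) = (maximalIdeal A).map (algebraMap A B') := by
    apply le_antisymm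
    · intro b' hb'
      have hb0 : π.hom b' = 0 := hb'
      let q : B' ⟶ CommRingCat.of (B' ⧸ (maximalIdeal A).map (algebraMap A B')) :=
        CommRingCat.ofHom (Ideal.Quotient.mk _)
      let ebar : CommRingCat.of k ⟶ CommRingCat.of (B' ⧸ (maximalIdeal A).map (algebraMap A B')) :=
        CommRingCat.ofHom (algebraMap k A) ≫ α ≫ q
      have hq : α ≫ q = CommRingCat.ofHom e.toRingHom ≫ ebar := by
        refine CommRingCat.hom_ext (RingHom.ext fun a => ?_)
        change Ideal.Quotient.mk _ (α.hom a) =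
          Ideal.Quotient.mk _ (α.hom (algebraMap k A (e a)))
        rw [Ideal.Quotient.eq, ← map_sub]
        exact Ideal.mem_map_of_mem _ (Groth.Agent.Helper17.RG1.sub_mem_maximalIdeal e a)
      let t := hsq.lift (Spec.map q) (Spec.map ebar)
        (by rw [← Spec.map_comp, ← Spec.map_comp, hq])
      have ht : t ≫ Spec.map π = Spec.map q := hsq.lift_fst _ _ _
      have hτ : π ≫ Spec.preimage t = q := by
        apply Spec.map_injective
        rw [Spec.map_comp, Spec.map_preimage, ht]
      have h3 : q.hom b' = 0 := by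
        rw [← hτ]
        change (Spec.preimage t).hom (π.hom b') = 0
        rw [hb0, map_zero]
      exact Ideal.Quotient.eq_zero_iff_mem.1 h3
    · rw [Ideal.map_le_iff_le_comap]
      intro a ha
      rw [Ideal.mem_comap, RingHom.mem_ker]
      change πa (algebraMap A B' a) = 0
      rw [hπe]
      have : e a = 0 := by
        have := Groth.Agent.Helper17.RG1.ker_e_eq e
        rw [← this] at ha
        exact ha
      rw [this, map_zero]
  obtain ⟨s, hπs⟩ := Groth.Agent.Helper17.DFR2.exists_section (A := A) (π := πa) hπsurj hker hT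
  have hpo := Groth.Agent.Helper17.RG1.isPushout_ring (e := e) (π := πa) (s := s) hm hπe hπs hker
  have hpb := isPullback_SpecMap_of_isPushout _ _ _ _ hpo
  refine ⟨CommRingCat.ofHom (s : B₀ →+* B'), hpb.flip, ?_⟩
  refine CommRingCat.hom_ext (RingHom.ext fun b => ?_)
  exact hπs b

theorem scheme_version (hT : ∀ E : Exal.Ext k B₀ B₀, E.IsTrivial)
    (X' : Scheme.{u}) (g : X' ⟶ Spec (CommRingCat.of A)) [Flat g]
    (i : Spec (CommRingCat.of B₀) ⟶ X')
    (hsq : IsPullback i (Spec.map (CommRingCat.ofHom (algebraMap k B₀))) g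
      (Spec.map (CommRingCat.ofHom e.toRingHom))) :
    ∃ r : X' ⟶ Spec (CommRingCat.of B₀),
      IsPullback r g (Spec.map (CommRingCat.ofHom (algebraMap k B₀)))
        (Spec.map (CommRingCat.ofHom (algebraMap k A))) ∧ i ≫ r = 𝟙 _ := by
  have hesurj : Function.Surjective (CommRingCat.ofHom e.toRingHom).hom :=
    fun c => ⟨algebraMap k A c, by simp⟩
  haveI : IsClosedImmersion (Spec.map (CommRingCat.ofHom e.toRingHom)) :=
    IsClosedImmersion.spec_of_surjective _ hesurj
  haveI : IsClosedImmersion i := MorphismProperty.of_isPullback hsq.flip inferInstance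
  haveI : Subsingleton ↥(Spec (CommRingCat.of A)) :=
    inferInstanceAs (Subsingleton (PrimeSpectrum A))
  haveI : Nonempty ↥(Spec (CommRingCat.of k)) :=
    inferInstanceAs (Nonempty (PrimeSpectrum k))
  haveI : Surjective (Spec.map (CommRingCat.ofHom e.toRingHom)) := inferInstance
  haveI : Surjective i := MorphismProperty.of_isPullback hsq.flip inferInstance
  haveI : IsAffine X' :=
    Groth.Agent.Helper6.ThickAff.isAffine_of_isClosedImmersion_of_surjective i i.surjective
  let α : CommRingCat.of A ⟶ Γ(X', ⊤) := (Scheme.ΓSpecIso (CommRingCat.of A)).inv ≫ g.appTop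
  have hg : X'.isoSpec.hom ≫ Spec.map α = g := by
    rw [Spec.map_comp, Scheme.isoSpec_hom_naturality_assoc, Scheme.isoSpec_Spec_hom,
      ← Spec.map_comp, Iso.inv_hom_id, Spec.map_id, Category.comp_id]
  let π : Γ(X', ⊤) ⟶ CommRingCat.of B₀ := Spec.preimage (i ≫ X'.isoSpec.hom)
  have hπ : Spec.map π = i ≫ X'.isoSpec.hom := Spec.map_preimage _
  have hsq' : IsPullback (Spec.map π) (Spec.map (CommRingCat.ofHom (algebraMap k B₀)))
      (Spec.map α) (Spec.map (CommRingCat.ofHom e.toRingHom)) :=
    IsPullback.of_iso hsq (Iso.refl _) X'.isoSpec (Iso.refl _) (Iso.refl _)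
      (by simp [hπ]) (by simp) (by simp [hg]) (by simp)
  haveI : Flat (Spec.map α) := by
    have : Spec.map α = X'.isoSpec.inv ≫ g := by rw [← hg, Iso.inv_hom_id_assoc]
    rw [this]
    infer_instance
  obtain ⟨s, hs, hsπ⟩ := spec_version_T1 k A e B₀ hT Γ(X', ⊤) α π hsq'
  have hfinal : IsPullback (X'.isoSpec.hom ≫ Spec.map s) g
      (Spec.map (CommRingCat.ofHom (algebraMap k B₀)))
      (Spec.map (CommRingCat.ofHom (algebraMap k A))) :=
    IsPullback.of_iso hs X'.isoSpec.symm (Iso.refl _) (Iso.refl _) (Iso.refl _)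
      (by simp) (by simp [← hg]) (by simp) (by simp)
  refine ⟨_, hfinal, ?_⟩
  rw [← Category.assoc, ← hπ, ← Spec.map_comp, hsπ, Spec.map_id]

end Groth.Agent.Helper17.DFR3
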