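import Mathlib
import Groth.Prelude.Def_Exal
import Groth.Prelude.Def_ArtFun4
import Groth.Agent.Lib.Helper17.DFR3

/-!
# S12263: an affine scheme with `T¹ = 0` is rigid (helper17)
-/

set_option autoImplicit false

namespace Groth.Agent.Helper17.DFR4

open AlgebraicGeometry CategoryTheory CategoryTheory.Limits IsLocalRing

universe u

theorem main12263 {k : Type u} [Field k] (B₀ : Type u) [CommRing B₀] [Algebra k B₀]
    (hT : ∀ E : Exal.Ext k B₀ B₀, E.IsTrivial) (A : ArtFun.Art k k)
    (hx : Flat (Spec.map (CommRingCat.ofHom (algebraMap k B₀))))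
    (ξ : ArtFun.DefSch (Spec (CommRingCat.of B₀)) (Spec.map (CommRingCat.ofHom (algebraMap k B₀))) A) :
    Nonempty (ξ.Iso (ArtFun.DefSch.trivial (Spec (CommRingCat.of B₀))
      (Spec.map (CommRingCat.ofHom (algebraMap k B₀))) hx A)) := by
  haveI : Flat ξ.f := ξ.flat
  obtain ⟨r, hr, hir⟩ := Groth.Agent.Helper17.DFR3.scheme_version k A A.res B₀ hT ξ.total ξ.f ξ.i
    ξ.isPullback
  have hr' : IsPullback r ξ.f (Spec.map (CommRingCat.ofHom (algebraMap k B₀)))
      (ArtFun.Art.specMap (ArtFun.Art.ofBase A)) := hr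
  refine ⟨{ iso := hr'.isoPullback, hom_f := hr'.isoPullback_hom_snd, i_hom := ?_ }⟩
  apply pullback.hom_ext
  · exact (Category.assoc _ _ _).trans
      ((congrArg (fun m => ξ.i ≫ m) hr'.isoPullback_hom_fst).trans
        (hir.trans (ArtFun.DefSch.baseChange_i_fst (ArtFun.DefSch.self (Λ := k) (Spec (CommRingCat.of B₀))
          (Spec.map (CommRingCat.ofHom (algebraMap k B₀))) hx) (ArtFun.Art.ofBase A)).symm))
  · exact (Category.assoc _ _ _).trans
      ((congrArg (fun m => ξ.i ≫ m) hr'.isoPullback_hom_snd).trans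
        ((ArtFun.DefSch.i_f ξ).trans (ArtFun.DefSch.baseChange_i_f (ArtFun.DefSch.self (Λ := k)
          (Spec (CommRingCat.of B₀)) (Spec.map (CommRingCat.ofHom (algebraMap k B₀))) hx)
          (ArtFun.Art.ofBase A)).symm))

end Groth.Agent.Helper17.DFR4
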