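import Groth.Agent.Lib.Helper17.CE5

/-!
# helper17: derivation operators on modules, localisations, complexes and Čech cohomology (S8939)

For a derivation `θ` of `R`, a `θ`-operator on an `R`-module `N` is an additive map `D` with
`D (a • x) = θ a • x + a • D x`.  Such operators are the same as `R`-linear sections of the
projection `Tw θ N → N`, where `Tw θ N = N × N` with the twisted action
`a • (x, y) = (a x, a y + θ a • x)`; this lets us use the universal properties of localisations
and quotients, which are stated for linear maps.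
-/

set_option autoImplicit false
set_option linter.unusedSectionVars false
set_option linter.unusedVariables false

open CategoryTheory Limits HomologicalComplex CochainComplex HomComplex
universe u

namespace Groth.Agent.Helper17.DO
open DerCA Groth.Agent.Helper17.CE Groth.Agent.Helper26.ExtCechH0a

variable {R : Type u} [CommRing R]

/-- `N × N` with the twisted action `a • (x, y) = (a x, a y + θ a • x)` -/
def Tw (θ : Derivation ℤ R R) (N : Type u) : Type u := N × N

namespace Tw

variable {θ : Derivation ℤ R R} {N N' : Type u} [AddCommGroup N] [Module R N]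
  [AddCommGroup N'] [Module R N']

instance : AddCommGroup (Tw θ N) := inferInstanceAs (AddCommGroup (N × N))

/-- constructor -/
def mk (x y : N) : Tw θ N := ((x, y) : N × N)

/-- first component -/
def p1 (z : Tw θ N) : N := Prod.fst (show N × N from z)

/-- second component -/
def p2 (z : Tw θ N) : N := Prod.snd (show N × N from z)

theorem ext {z z' : Tw θ N} (h1 : z.p1 = z'.p1) (h2 : z.p2 = z'.p2) : z = z' :=
  Prod.ext h1 h2

@[simp] theorem p1_mk (x y : N) : (mk x y : Tw θ N).p1 = x := rfl
@[simp] theorem p2_mk (x y : N) : (mk x y : Tw θ N).p2 = y := rfl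
@[simp] theorem p1_add (z z' : Tw θ N) : (z + z').p1 = z.p1 + z'.p1 := rfl
@[simp] theorem p2_add (z z' : Tw θ N) : (z + z').p2 = z.p2 + z'.p2 := rfl
@[simp] theorem p1_zero : (0 : Tw θ N).p1 = 0 := rfl
@[simp] theorem p2_zero : (0 : Tw θ N).p2 = 0 := rfl

instance : SMul R (Tw θ N) := ⟨fun a z => mk (a • z.p1) (a • z.p2 + θ a • z.p1)⟩

@[simp] theorem p1_smul (a : R) (z : Tw θ N) : (a • z).p1 = a • z.p1 := rfl
@[simp] theorem p2_smul (a : R) (z : Tw θ N) : (a • z).p2 = a • z.p2 + θ a • z.p1 := rfl

instance : Module R (Tw θ N) where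
  one_smul z := by
    apply Tw.ext
    · rw [p1_smul, one_smul]
    · rw [p2_smul, Derivation.map_one_eq_zero, zero_smul, add_zero, one_smul]
  mul_smul a b z := by
    apply Tw.ext
    · rw [p1_smul, p1_smul, p1_smul, mul_smul]
    · rw [p2_smul, p2_smul, p2_smul, p1_smul, Derivation.leibniz, smul_eq_mul, smul_eq_mul]
      module
  smul_zero a := by
    apply Tw.ext
    · rw [p1_smul, p1_zero, smul_zero]
    · rw [p2_smul, p1_zero, p2_zero, smul_zero, smul_zero, add_zero]
  smul_add a z z' := by
    apply Tw.ext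
    · rw [p1_smul, p1_add, p1_add, p1_smul, p1_smul, smul_add]
    · rw [p2_smul, p1_add, p2_add, p2_add, p2_smul, p2_smul]
      module
  add_smul a b z := by
    apply Tw.ext
    · rw [p1_smul, p1_add, p1_smul, p1_smul, add_smul]
    · rw [p2_smul, p2_add, p2_smul, p2_smul, map_add]
      module
  zero_smul z := by
    apply Tw.ext
    · rw [p1_smul, zero_smul, p1_zero]
    · rw [p2_smul, map_zero, zero_smul, zero_smul, add_zero, p2_zero]

/-- the first projection, a linear map -/
def fstL : Tw θ N →ₗ[R] N where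
  toFun z := z.p1
  map_add' _ _ := rfl
  map_smul' _ _ := rfl

@[simp] theorem fstL_apply (z : Tw θ N) : (fstL z : N) = z.p1 := rfl

/-- functoriality -/
def map (f : N →ₗ[R] N') : Tw θ N →ₗ[R] Tw θ N' where
  toFun z := mk (f z.p1) (f z.p2)
  map_add' z z' := by
    apply Tw.ext
    · rw [p1_mk, p1_add, p1_add, p1_mk, p1_mk, map_add]
    · rw [p2_mk, p2_add, p2_add, p2_mk, p2_mk, map_add]
  map_smul' a z := by
    apply Tw.ext
    · rw [p1_mk, p1_smul, RingHom.id_apply, p1_smul, p1_mk, map_smul]
    · rw [p2_mk, p2_smul, RingHom.id_apply, p2_smul, p2_mk, p1_mk, map_add, map_smul, map_smul]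

@[simp] theorem p1_map (f : N →ₗ[R] N') (z : Tw θ N) : (map f z).p1 = f z.p1 := rfl
@[simp] theorem p2_map (f : N →ₗ[R] N') (z : Tw θ N) : (map f z).p2 = f z.p2 := rfl

end Tw

/-- a `θ`-operator on a module -/
structure MOp (θ : Derivation ℤ R R) (N : Type u) [AddCommGroup N] [Module R N] where
  D : N →+ N
  leib : ∀ (a : R) (x : N), D (a • x) = θ a • x + a • D x

namespace MOp

variable {θ : Derivation ℤ R R} {N N' : Type u} [AddCommGroup N] [Module R N]
  [AddCommGroup N'] [Module R N']

/-- the linear section attached to an operator -/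
def sec (D : MOp θ N) : N →ₗ[R] Tw θ N where
  toFun x := Tw.mk x (D.D x)
  map_add' x y := by
    apply Tw.ext
    · rw [Tw.p1_mk, Tw.p1_add, Tw.p1_mk, Tw.p1_mk]
    · rw [Tw.p2_mk, Tw.p2_add, Tw.p2_mk, Tw.p2_mk, map_add]
  map_smul' a x := by
    apply Tw.ext
    · rw [Tw.p1_mk, RingHom.id_apply, Tw.p1_smul, Tw.p1_mk]
    · rw [Tw.p2_mk, RingHom.id_apply, Tw.p2_smul, Tw.p2_mk, Tw.p1_mk, D.leib, add_comm]

@[simp] theorem p1_sec (D : MOp θ N) (x : N) : (D.sec x).p1 = x := rfl
@[simp] theorem p2_sec (D : MOp θ N) (x : N) : (D.sec x).p2 = D.D x := rfl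

/-- the operator attached to a linear section -/
def ofSection (s : N →ₗ[R] Tw θ N) (hs : ∀ x, (s x).p1 = x) : MOp θ N where
  D :=
    { toFun := fun x => (s x).p2
      map_zero' := by rw [map_zero, Tw.p2_zero]
      map_add' := fun x y => by rw [map_add, Tw.p2_add] }
  leib a x := by
    show (s (a • x)).p2 = θ a • x + a • (s x).p2
    rw [map_smul, Tw.p2_smul, hs, add_comm]

theorem ofSection_D (s : N →ₗ[R] Tw θ N) (hs : ∀ x, (s x).p1 = x) (x : N) :
    (ofSection s hs).D x = (s x).p2 := rfl

/-- transport along a linear equivalence -/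
def transport (e : N ≃ₗ[R] N') (D : MOp θ N) : MOp θ N' where
  D := (e.toLinearMap.toAddMonoidHom.comp D.D).comp e.symm.toLinearMap.toAddMonoidHom
  leib a x := by
    show e (D.D (e.symm (a • x))) = θ a • x + a • e (D.D (e.symm x))
    rw [map_smul, D.leib, map_add, map_smul, map_smul, LinearEquiv.apply_symm_apply]

/-- the zero operator on a trivial module -/
def ofSubsingleton [Subsingleton N] : MOp θ N where
  D := 0
  leib a x := Subsingleton.elim _ _

/-- restriction to a stable submodule -/
def restrict (D : MOp θ N) (P : Submodule R N) (h : ∀ x ∈ P, D.D x ∈ P) : MOp θ P where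
  D :=
    { toFun := fun x => ⟨D.D x.1, h x.1 x.2⟩
      map_zero' := Subtype.ext (by
        show D.D ((0 : P) : N) = ((0 : P) : N)
        rw [Submodule.coe_zero, map_zero])
      map_add' := fun x y => Subtype.ext (by
        show D.D ((x + y : P) : N) = D.D x.1 + D.D y.1
        rw [Submodule.coe_add, map_add]) }
  leib a x := Subtype.ext (by
    show D.D ((a • x : P) : N) = θ a • (x : N) + a • D.D x.1
    rw [Submodule.coe_smul, D.leib])

theorem restrict_val (D : MOp θ N) (P : Submodule R N) (h : ∀ x ∈ P, D.D x ∈ P) (x : P) :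
    (((D.restrict P h).D x : P) : N) = D.D x.1 := rfl

/-- the section inducing the operator on a quotient -/
def quotSec (D : MOp θ N) (P : Submodule R N) (h : ∀ x ∈ P, D.D x ∈ P) :
    (N ⧸ P) →ₗ[R] Tw θ (N ⧸ P) :=
  P.liftQ ((Tw.map P.mkQ).comp D.sec) (by
    intro x hx
    rw [LinearMap.mem_ker]
    apply Tw.ext
    · show P.mkQ x = 0
      exact (Submodule.Quotient.mk_eq_zero P).2 hx
    · show P.mkQ (D.D x) = 0
      exact (Submodule.Quotient.mk_eq_zero P).2 (h x hx))

theorem quotSec_mk (D : MOp θ N) (P : Submodule R N) (h : ∀ x ∈ P, D.D x ∈ P) (x : N) :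
    D.quotSec P h (P.mkQ x) = Tw.mk (P.mkQ x) (P.mkQ (D.D x)) := rfl

/-- the induced operator on a quotient by a stable submodule -/
def quot (D : MOp θ N) (P : Submodule R N) (h : ∀ x ∈ P, D.D x ∈ P) : MOp θ (N ⧸ P) :=
  ofSection (D.quotSec P h) (by
    intro y
    obtain ⟨x, rfl⟩ := P.mkQ_surjective y
    rw [quotSec_mk, Tw.p1_mk])

theorem quot_mk (D : MOp θ N) (P : Submodule R N) (h : ∀ x ∈ P, D.D x ∈ P) (x : N) :
    (D.quot P h).D (P.mkQ x) = P.mkQ (D.D x) := rfl

section loc

variable (S : Submonoid R)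

theorem isUnit_tw (θ : Derivation ℤ R R) (N : Type u) [AddCommGroup N] [Module R N] (s : S) :
    IsUnit (algebraMap R (Module.End R (Tw θ (LocalizedModule S N))) s) := by
  have hs := IsLocalizedModule.map_units (LocalizedModule.mkLinearMap S N) s
  rw [Module.End.isUnit_iff] at hs ⊢
  have hinj : ∀ x : LocalizedModule S N, (s : R) • x = 0 → x = 0 := by
    intro x hx
    apply hs.1
    show (s : R) • x = (s : R) • (0 : LocalizedModule S N)
    rw [hx, smul_zero]
  have hsurj : ∀ y : LocalizedModule S N, ∃ x, (s : R) • x = y := fun y => hs.2 y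
  constructor
  · intro z z' hzz
    have hz' : (s : R) • z = (s : R) • z' := hzz
    have hsub : (s : R) • (z - z') = 0 := by rw [smul_sub, hz', sub_self]
    have h1 : (s : R) • (z - z').p1 = 0 := by
      have := congrArg Tw.p1 hsub
      rwa [Tw.p1_smul, Tw.p1_zero] at this
    have hx := hinj _ h1
    have h2 : (s : R) • (z - z').p2 = 0 := by
      have := congrArg Tw.p2 hsub
      rwa [Tw.p2_smul, Tw.p2_zero, hx, smul_zero, add_zero] at this
    have hy := hinj _ h2
    have hzero : z - z' = 0 := Tw.ext hx hy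
    exact sub_eq_zero.1 hzero
  · intro z
    obtain ⟨x, hx⟩ := hsurj z.p1
    obtain ⟨y, hy⟩ := hsurj (z.p2 - θ (s : R) • x)
    refine ⟨Tw.mk x y, ?_⟩
    show (s : R) • (Tw.mk x y : Tw θ (LocalizedModule S N)) = z
    apply Tw.ext
    · rw [Tw.p1_smul, Tw.p1_mk, hx]
    · rw [Tw.p2_smul, Tw.p2_mk, Tw.p1_mk, hy, sub_add_cancel]

/-- the section defining the localised operator -/
noncomputable def locSec (D : MOp θ N) :
    LocalizedModule S N →ₗ[R] Tw θ (LocalizedModule S N) :=
  IsLocalizedModule.lift S (LocalizedModule.mkLinearMap S N)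
    ((Tw.map (LocalizedModule.mkLinearMap S N)).comp D.sec) (isUnit_tw S θ N)

theorem locSec_mk (D : MOp θ N) (x : N) :
    locSec S D (LocalizedModule.mkLinearMap S N x) =
      Tw.mk (LocalizedModule.mkLinearMap S N x) (LocalizedModule.mkLinearMap S N (D.D x)) :=
  IsLocalizedModule.lift_apply S (LocalizedModule.mkLinearMap S N) _ _ x

theorem locSec_p1 (D : MOp θ N) (y : LocalizedModule S N) : (locSec S D y).p1 = y := by
  have h : (Tw.fstL (θ := θ)).comp (locSec S D) = LinearMap.id := by
    apply IsLocalizedModule.ext S (LocalizedModule.mkLinearMap S N)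
      (IsLocalizedModule.map_units (LocalizedModule.mkLinearMap S N))
    refine LinearMap.ext fun x => ?_
    show (locSec S D (LocalizedModule.mkLinearMap S N x)).p1 = LocalizedModule.mkLinearMap S N x
    rw [locSec_mk, Tw.p1_mk]
  exact LinearMap.congr_fun h y

/-- the localised operator -/
noncomputable def loc (D : MOp θ N) : MOp θ (LocalizedModule S N) :=
  ofSection (locSec S D) (locSec_p1 S D)

theorem loc_mk (D : MOp θ N) (x : N) :
    (D.loc S).D (LocalizedModule.mkLinearMap S N x) =
      LocalizedModule.mkLinearMap S N (D.D x) := by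
  show (locSec S D (LocalizedModule.mkLinearMap S N x)).p2 = _
  rw [locSec_mk, Tw.p2_mk]

theorem loc_map (D : MOp θ N) (D' : MOp θ N') (f : N →ₗ[R] N')
    (hf : ∀ x, D'.D (f x) = f (D.D x)) (y : LocalizedModule S N) :
    (D'.loc S).D (IsLocalizedModule.map S (LocalizedModule.mkLinearMap S N)
        (LocalizedModule.mkLinearMap S N') f y) =
      IsLocalizedModule.map S (LocalizedModule.mkLinearMap S N)
        (LocalizedModule.mkLinearMap S N') f ((D.loc S).D y) := by
  have h : (locSec S D').comp (IsLocalizedModule.map S (LocalizedModule.mkLinearMap S N)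
        (LocalizedModule.mkLinearMap S N') f) =
      (Tw.map (IsLocalizedModule.map S (LocalizedModule.mkLinearMap S N)
        (LocalizedModule.mkLinearMap S N') f)).comp (locSec S D) := by
    apply IsLocalizedModule.ext S (LocalizedModule.mkLinearMap S N) (isUnit_tw S θ N')
    refine LinearMap.ext fun x => ?_
    show locSec S D' (IsLocalizedModule.map S (LocalizedModule.mkLinearMap S N)
        (LocalizedModule.mkLinearMap S N') f (LocalizedModule.mkLinearMap S N x)) =
      Tw.map (IsLocalizedModule.map S (LocalizedModule.mkLinearMap S N)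
        (LocalizedModule.mkLinearMap S N') f) (locSec S D (LocalizedModule.mkLinearMap S N x))
    rw [IsLocalizedModule.map_apply, locSec_mk, locSec_mk]
    apply Tw.ext
    · rw [Tw.p1_mk, Tw.p1_map, Tw.p1_mk, IsLocalizedModule.map_apply]
    · rw [Tw.p2_mk, Tw.p2_map, Tw.p2_mk, IsLocalizedModule.map_apply, hf]
  exact congrArg Tw.p2 (LinearMap.congr_fun h y)

end loc

/-- the induced operator on the homology of a short complex -/
noncomputable def homology (S : ShortComplex (ModuleCat.{u} R)) (D₁ : MOp θ S.X₁)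
    (D₂ : MOp θ S.X₂) (D₃ : MOp θ S.X₃)
    (hf : ∀ x, D₂.D (S.f.hom x) = S.f.hom (D₁.D x))
    (hg : ∀ x, D₃.D (S.g.hom x) = S.g.hom (D₂.D x)) : MOp θ S.homology :=
  MOp.transport (N := LinearMap.ker S.g.hom ⧸ LinearMap.range S.moduleCatToCycles)
    S.moduleCatHomologyIso.toLinearEquiv.symm
    ((D₂.restrict (LinearMap.ker S.g.hom) (by
      intro x hx
      rw [LinearMap.mem_ker] at hx ⊢
      rw [← hg, hx, map_zero])).quot (LinearMap.range S.moduleCatToCycles) (by
      rintro _ ⟨x, rfl⟩
      refine ⟨D₁.D x, ?_⟩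
      apply Subtype.ext
      show S.f.hom (D₁.D x) = D₂.D (S.f.hom x)
      exact (hf x).symm))

end MOp

/-- a `θ`-operator on a complex -/
structure COp (θ : Derivation ℤ R R) (K : CochainComplex (ModuleCat.{u} R) ℤ) where
  op : ∀ n, MOp θ (K.X n)
  comm : ∀ n m (x : K.X n), (op m).D ((K.d n m).hom x) = (K.d n m).hom ((op n).D x)

/-- a morphism of complexes commuting with the operators -/
def Compat {θ : Derivation ℤ R R} {K L : CochainComplex (ModuleCat.{u} R) ℤ} (ψ : K ⟶ L)
    (DK : COp θ K) (DL : COp θ L) : Prop :=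
  ∀ n (x : K.X n), (DL.op n).D ((ψ.f n).hom x) = (ψ.f n).hom ((DK.op n).D x)

namespace COp

variable {θ : Derivation ℤ R R}

/-- the operator on a complex concentrated in degree zero -/
noncomputable def single (M : ModuleCat.{u} R) (D : MOp θ M) :
    COp θ ((HomologicalComplex.single (ModuleCat.{u} R) (ComplexShape.up ℤ) 0).obj M) where
  op n :=
    if h : n = 0 then
      D.transport
        (HomologicalComplex.singleObjXIsoOfEq (ComplexShape.up ℤ) 0 M n h).toLinearEquiv.symm
    else
      haveI : Subsingleton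
          (((HomologicalComplex.single (ModuleCat.{u} R) (ComplexShape.up ℤ) 0).obj M).X n) :=
        ModuleCat.subsingleton_of_isZero
          (HomologicalComplex.isZero_single_obj_X (ComplexShape.up ℤ) 0 M n h)
      MOp.ofSubsingleton
  comm n m x := by
    have hd : ((HomologicalComplex.single (ModuleCat.{u} R) (ComplexShape.up ℤ) 0).obj M).d n m
        = 0 := by simp
    rw [hd]
    simp

/-- the termwise localised operator -/
noncomputable def loc (S : Submonoid R) {K : CochainComplex (ModuleCat.{u} R) ℤ}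
    (DK : COp θ K) : COp θ ((locCx S).obj K) where
  op n := (DK.op n).loc S
  comm n m x := MOp.loc_map S (DK.op n) (DK.op m) (K.d n m).hom (DK.comm n m) x

theorem loc_compat (S : Submonoid R) {K : CochainComplex (ModuleCat.{u} R) ℤ}
    (DK : COp θ K) : Compat (locCxUnit S K) DK (DK.loc S) :=
  fun n x => MOp.loc_mk S (DK.op n) x

section cocone

variable {K L : CochainComplex (ModuleCat.{u} R) ℤ} (ψ : K ⟶ L) (DK : COp θ K) (DL : COp θ L)

/-- the operator on the mapping cocone, in one degree -/
noncomputable def coconeD (n m : ℤ) (h : n + -1 = m) :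
    (mappingCocone ψ).X n →+ (mappingCocone ψ).X n :=
  ((mappingCocone.inl ψ).v n n (add_zero n)).hom.toAddMonoidHom.comp
      ((DK.op n).D.comp ((mappingCocone.fst ψ).f n).hom.toAddMonoidHom) +
    ((mappingCocone.inr ψ).1.v m n (by omega)).hom.toAddMonoidHom.comp
      ((DL.op m).D.comp ((mappingCocone.snd ψ).v n m h).hom.toAddMonoidHom)

theorem coconeD_apply (n m : ℤ) (h : n + -1 = m) (z : (mappingCocone ψ).X n) :
    coconeD ψ DK DL n m h z =
      ((mappingCocone.inl ψ).v n n (add_zero n)).hom
          ((DK.op n).D (((mappingCocone.fst ψ).f n).hom z)) +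
        ((mappingCocone.inr ψ).1.v m n (by omega)).hom
          ((DL.op m).D (((mappingCocone.snd ψ).v n m h).hom z)) := rfl

theorem coconeD_congr (n m m' : ℤ) (h : n + -1 = m) (h' : n + -1 = m') :
    coconeD ψ DK DL n m h = coconeD ψ DK DL n m' h' := by
  obtain rfl : m = m' := by omega
  rfl

theorem fst_coconeD (n m : ℤ) (h : n + -1 = m) (z : (mappingCocone ψ).X n) :
    ((mappingCocone.fst ψ).f n).hom (coconeD ψ DK DL n m h z) =
      (DK.op n).D (((mappingCocone.fst ψ).f n).hom z) := by
  have hmn : m + 1 = n := by omega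
  have e1 := fun k => congrArg (fun g => g.hom k) (mappingCocone.inl_v_fst_f ψ n)
  have e2 := fun l => congrArg (fun g => g.hom l) (mappingCocone.inr_v_fst_f ψ m n hmn)
  simp only [ModuleCat.hom_comp, LinearMap.comp_apply, ModuleCat.hom_id, LinearMap.id_apply,
    ModuleCat.hom_zero, LinearMap.zero_apply] at e1 e2
  rw [coconeD_apply, map_add, e1, e2, add_zero]

theorem snd_coconeD (n m : ℤ) (h : n + -1 = m) (z : (mappingCocone ψ).X n) :
    ((mappingCocone.snd ψ).v n m h).hom (coconeD ψ DK DL n m h z) =
      (DL.op m).D (((mappingCocone.snd ψ).v n m h).hom z) := by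
  have hmn : m + 1 = n := by omega
  have e1 := fun k => congrArg (fun g => g.hom k) (mappingCocone.inl_v_snd_v ψ n m h)
  have e2 := fun l => congrArg (fun g => g.hom l) (mappingCocone.inr_v_snd_v ψ m n hmn)
  simp only [ModuleCat.hom_comp, LinearMap.comp_apply, ModuleCat.hom_id, LinearMap.id_apply,
    ModuleCat.hom_zero, LinearMap.zero_apply] at e1 e2
  rw [coconeD_apply, map_add, e1, e2, zero_add]

theorem coconeD_leib (n m : ℤ) (h : n + -1 = m) (a : R) (z : (mappingCocone ψ).X n) :
    coconeD ψ DK DL n m h (a • z) = θ a • z + a • coconeD ψ DK DL n m h z := by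
  apply cocone_ext ψ n m h
  · rw [fst_coconeD, map_smul, (DK.op n).leib, map_add, map_smul, map_smul, fst_coconeD]
  · rw [snd_coconeD, map_smul, (DL.op m).leib, map_add, map_smul, map_smul, snd_coconeD]

theorem fst_d (n m : ℤ) (z : (mappingCocone ψ).X n) :
    ((mappingCocone.fst ψ).f m).hom (((mappingCocone ψ).d n m).hom z) =
      (K.d n m).hom (((mappingCocone.fst ψ).f n).hom z) :=
  (congrArg (fun g => g.hom z) ((mappingCocone.fst ψ).comm n m)).symm

theorem snd_d (n m p : ℤ) (hnm : n + 1 = m) (hp : n + -1 = p) (z : (mappingCocone ψ).X n) :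
    ((mappingCocone.snd ψ).v m n (by omega)).hom (((mappingCocone ψ).d n m).hom z) =
      -(ψ.f n).hom (((mappingCocone.fst ψ).f n).hom z) -
        (L.d p n).hom (((mappingCocone.snd ψ).v n p hp).hom z) := by
  have e := congrArg (fun g => g.hom z) (d_snd_v ψ n m p hnm hp)
  simpa only [ModuleCat.hom_comp, LinearMap.comp_apply, ModuleCat.hom_sub, ModuleCat.hom_neg,
    LinearMap.sub_apply, LinearMap.neg_apply] using e

/-- the operator on the mapping cocone -/
noncomputable def cocone (hc : Compat ψ DK DL) : COp θ (mappingCocone ψ) where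
  op n :=
    { D := coconeD ψ DK DL n (n - 1) (by omega)
      leib := coconeD_leib ψ DK DL n (n - 1) (by omega) }
  comm n m z := by
    show coconeD ψ DK DL m (m - 1) (by omega) (((mappingCocone ψ).d n m).hom z) =
      ((mappingCocone ψ).d n m).hom (coconeD ψ DK DL n (n - 1) (by omega) z)
    by_cases hnm : n + 1 = m
    · rw [coconeD_congr ψ DK DL m (m - 1) n (by omega) (by omega)]
      apply cocone_ext ψ m n (by omega)
      · rw [fst_coconeD, fst_d, DK.comm, fst_d, fst_coconeD]
      · rw [snd_coconeD, snd_d ψ n m (n - 1) hnm (by omega), snd_d ψ n m (n - 1) hnm (by omega),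
          map_sub, map_neg, hc, DL.comm, fst_coconeD, snd_coconeD]
    · have hd : (mappingCocone ψ).d n m = 0 := (mappingCocone ψ).shape n m hnm
      rw [hd]
      simp

end cocone

/-- the induced operator on cohomology -/
noncomputable def homology {K : CochainComplex (ModuleCat.{u} R) ℤ} (DK : COp θ K) (n : ℤ) :
    MOp θ (K.homology n) :=
  MOp.homology (K.sc n) (DK.op _) (DK.op n) (DK.op _) (DK.comm _ _) (DK.comm _ _)

end COp

/-- the operator on the extended Čech complex -/
noncomputable def cechOp {θ : Derivation ℤ R R} (M : ModuleCat.{u} R) (D : MOp θ M) :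
    (fs : List R) → COp θ (extCech M fs)
  | [] => COp.single M D
  | f :: fs => COp.cocone (locCxUnit (Submonoid.powers f) (extCech M fs)) (cechOp M D fs)
      ((cechOp M D fs).loc (Submonoid.powers f)) (COp.loc_compat _ _)

/-- the derivation as an operator on the ring -/
def selfOp (θ : Derivation ℤ R R) : MOp θ R where
  D := θ.toLinearMap.toAddMonoidHom
  leib a x := by
    show θ (a • x) = θ a • x + a • θ x
    rw [smul_eq_mul, Derivation.leibniz, smul_eq_mul, smul_eq_mul, smul_eq_mul]
    ring

theorem main8939 (A : Type u) [CommRing A] [IsNoetherianRing A] (I : Ideal A)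
    (θ : Derivation ℤ A A) (i : ℕ) :
    ∃ D : LocCoh.H I i A →+ LocCoh.H I i A,
      ∀ (a : A) (ξ : LocCoh.H I i A), D (a • ξ) = θ a • ξ + a • D ξ := by
  classical
  obtain ⟨s, hs⟩ := (isNoetherianRing_iff_ideal_fg A).1 inferInstance I
  let fs : List A := 0 :: s.toList
  have hfs : Ideal.span {x | x ∈ fs} = I := by
    rw [← hs]
    apply le_antisymm
    · rw [Ideal.span_le]
      intro x hx
      rcases List.mem_cons.1 hx with rfl | hx
      · exact Submodule.zero_mem _
      · exact Ideal.subset_span (Finset.mem_toList.1 hx)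
    · apply Ideal.span_mono
      intro x hx
      exact List.mem_cons_of_mem _ (Finset.mem_toList.2 hx)
  obtain ⟨e⟩ := main11623 A fs (List.cons_ne_nil _ _) A i
  rw [hfs] at e
  let D0 : MOp θ (extCechH fs (ModuleCat.of A A) (i : ℤ)) :=
    (cechOp (ModuleCat.of A A) (selfOp θ) fs).homology (i : ℤ)
  let D1 := D0.transport e.toLinearEquiv
  exact ⟨D1.D, D1.leib⟩

end Groth.Agent.Helper17.DO
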