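import Groth.Agent.Lib.Helper17.DT

/-!
# Helper17: torsion lemmas for the ideal transform (Noetherian case)
-/

set_option autoImplicit false
universe u
open CategoryTheory CategoryTheory.Limits Opposite
open LocCoh

namespace Groth.Agent.Helper17

variable {R : Type u} [CommRing R]

/-- A finitely generated submodule of the `I`-power-torsion submodule is killed by one power of `I`. -/
theorem exists_pow_smul_eq_zero_of_fg_le_torsionSub (I : Ideal R) {M : Type u} [AddCommGroup M] [Module R M]
    (N : Submodule R M) (hN : N.FG) (hle : N ≤ DRing.torsionSub I M) :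
    ∃ k : ℕ, ∀ a ∈ I ^ k, ∀ x ∈ N, a • x = 0 := by
  classical
  obtain ⟨S, rfl⟩ := hN
  have hS : ∀ s ∈ S, ∃ k : ℕ, ∀ a ∈ I ^ k, a • s = 0 := fun s hs => hle (Submodule.subset_span hs)
  choose! k hk using hS
  refine ⟨S.sup k, fun a ha x hx => ?_⟩
  induction hx using Submodule.span_induction with
  | mem s hs => exact hk s hs a (Ideal.pow_le_pow_right (Finset.le_sup hs) ha)
  | zero => exact smul_zero a
  | add x y _ _ hx hy => rw [smul_add, hx, hy, add_zero]
  | smul c x _ hx => rw [smul_comm, hx, smul_zero]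

/-- If `f : I^n → M` takes values in the `I`-power-torsion submodule, then some restriction of `f` to a higher
power of `I` vanishes (`R` Noetherian). -/
theorem exists_restrict_eq_zero_of_forall_mem_torsionSub [IsNoetherianRing R] (I : Ideal R)
    {M : Type u} [AddCommGroup M] [Module R M] {n : ℕ} (f : ↥(I ^ n) →ₗ[R] M)
    (hf : ∀ y, f y ∈ DRing.torsionSub I M) :
    ∃ k : ℕ, f ∘ₗ incl I (Nat.le_add_right n k) = 0 := by
  have hfg : (LinearMap.range f).FG := by
    rw [LinearMap.range_eq_map]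
    exact (Submodule.fg_top _).mpr (IsNoetherian.noetherian (I ^ n)) |>.map f
  obtain ⟨k, hk⟩ := exists_pow_smul_eq_zero_of_fg_le_torsionSub I (LinearMap.range f) hfg
    (by rintro _ ⟨y, rfl⟩; exact hf y)
  refine ⟨k, ?_⟩
  ext ⟨y, hy⟩
  simp only [LinearMap.comp_apply, LinearMap.zero_apply]
  have hy' : y ∈ I ^ n * I ^ k := by rwa [← pow_add]
  have hle : I ^ n * I ^ k ≤ I ^ n := Ideal.mul_le_left
  have key : ∀ z (hz : z ∈ I ^ n * I ^ k), f ⟨z, hle hz⟩ = 0 := by
    intro z hz
    refine Submodule.mul_induction_on' (C := fun z hz => f ⟨z, hle hz⟩ = 0) ?_ ?_ hz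
    · intro a ha b hb
      have : (⟨a * b, hle (Submodule.mul_mem_mul ha hb)⟩ : ↥(I ^ n)) = b • ⟨a, ha⟩ := by
        ext; simp [mul_comm]
      rw [this, map_smul]
      exact hk b hb _ ⟨_, rfl⟩
    · intro x hx y hy hfx hfy
      have : (⟨x + y, hle (add_mem hx hy)⟩ : ↥(I ^ n)) = ⟨x, hle hx⟩ + ⟨y, hle hy⟩ := rfl
      rw [this, map_add, hfx, hfy, add_zero]
  exact key y hy'

end Groth.Agent.Helper17
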