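import Groth.Agent.Lib.Helper17.DT2

/-!
# Helper17: the Artin–Rees lifting lemma for the ideal transform
If `N ≤ Γ_I(M)` and `f : I^n → M/N`, then some restriction of `f` to `I^(n+k)` lifts to `M` (`R` Noetherian).
-/

set_option autoImplicit false
universe u
open CategoryTheory CategoryTheory.Limits Opposite
open LocCoh

namespace Groth.Agent.Helper17

variable {R : Type u} [CommRing R]

theorem exists_lift_of_le_torsionSub [IsNoetherianRing R] (I : Ideal R)
    {M : Type u} [AddCommGroup M] [Module R M] (N : Submodule R M) (hN : N ≤ DRing.torsionSub I M)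
    {n : ℕ} (f : ↥(I ^ n) →ₗ[R] M ⧸ N) :
    ∃ (k : ℕ) (g : ↥(I ^ (n + k)) →ₗ[R] M), N.mkQ ∘ₗ g = f ∘ₗ incl I (Nat.le_add_right n k) := by
  classical
  -- a finite free presentation of `I^n`
  obtain ⟨r, π, hπ⟩ := Module.Finite.exists_fin' R ↥(I ^ n)
  -- lift `f ∘ π` to `M`
  obtain ⟨g₀, hg₀⟩ := Module.projective_lifting_property N.mkQ (f ∘ₗ π) (Submodule.mkQ_surjective N)
  set K := LinearMap.ker π with hK
  have hKN : ∀ z ∈ K, g₀ z ∈ N := by
    intro z hz
    have h1 := LinearMap.congr_fun hg₀ z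
    simp only [LinearMap.comp_apply, Submodule.mkQ_apply] at h1
    rw [LinearMap.mem_ker.mp hz, map_zero, Submodule.Quotient.mk_eq_zero] at h1
    exact h1
  -- `g₀ K` is killed by a power of `I`
  obtain ⟨k₁, hk₁⟩ := exists_pow_smul_eq_zero_of_fg_le_torsionSub I (K.map g₀)
    ((IsNoetherian.noetherian K).map g₀)
    (by rintro _ ⟨z, hz, rfl⟩; exact hN (hKN z hz))
  -- Artin–Rees
  obtain ⟨c, hc⟩ := Ideal.exists_pow_inf_eq_pow_smul I K
  set k := k₁ + c with hk
  have hAR : I ^ k • (⊤ : Submodule R (Fin r → R)) ⊓ K ≤ I ^ k₁ • K := by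
    rw [hc k (Nat.le_add_left c k₁), hk, Nat.add_sub_cancel]
    exact Submodule.smul_mono le_rfl inf_le_right
  have hzero : ∀ z ∈ I ^ k • (⊤ : Submodule R (Fin r → R)) ⊓ K, g₀ z = 0 := by
    intro z hz
    have hz' := hAR hz
    refine Submodule.smul_induction_on hz' ?_ ?_
    · intro a ha w hw
      rw [map_smul]
      exact hk₁ a ha _ ⟨w, hw, rfl⟩
    · intro x y hx hy
      rw [map_add, hx, hy, add_zero]
  -- restrict to `Z = I^k • ⊤`
  set Z : Submodule R (Fin r → R) := I ^ k • ⊤ with hZ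
  let πZ : ↥Z →ₗ[R] ↥(I ^ n) := π.domRestrict Z
  let gZ : ↥Z →ₗ[R] M := g₀.domRestrict Z
  have hker : LinearMap.ker πZ ≤ LinearMap.ker gZ := by
    intro z hz
    rw [LinearMap.mem_ker] at hz ⊢
    exact hzero z.1 ⟨z.2, hz⟩
  let gT : ↥(LinearMap.range πZ) →ₗ[R] M :=
    (LinearMap.ker πZ).liftQ gZ hker ∘ₗ (πZ.quotKerEquivRange).symm.toLinearMap
  have hgT : ∀ z : ↥Z, gT ⟨πZ z, LinearMap.mem_range_self πZ z⟩ = g₀ z.1 := by
    intro z
    simp only [gT, LinearMap.comp_apply, LinearEquiv.coe_coe]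
    rw [LinearMap.quotKerEquivRange_symm_apply_image]
    rfl
  have hrange : LinearMap.range πZ = I ^ k • (⊤ : Submodule R ↥(I ^ n)) := by
    rw [LinearMap.range_domRestrict, hZ, Submodule.map_smul'', Submodule.map_top,
      LinearMap.range_eq_top.mpr hπ]
  have hmem : ∀ y : ↥(I ^ (n + k)), incl I (Nat.le_add_right n k) y ∈ LinearMap.range πZ := by
    rintro ⟨y, hy⟩
    rw [hrange]
    have hy' : y ∈ I ^ k * I ^ n := by rwa [← pow_add, add_comm]
    have hle : I ^ k * I ^ n ≤ I ^ n := Ideal.mul_le_right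
    have key : ∀ z (hz : z ∈ I ^ k * I ^ n), (⟨z, hle hz⟩ : ↥(I ^ n)) ∈ I ^ k • (⊤ : Submodule R ↥(I ^ n)) := by
      intro z hz
      refine Submodule.mul_induction_on' (C := fun z hz => (⟨z, hle hz⟩ : ↥(I ^ n)) ∈
        I ^ k • (⊤ : Submodule R ↥(I ^ n))) ?_ ?_ hz
      · intro a ha b hb
        have : (⟨a * b, hle (Submodule.mul_mem_mul ha hb)⟩ : ↥(I ^ n)) = a • ⟨b, hb⟩ := by
          ext; simp
        rw [this]
        exact Submodule.smul_mem_smul ha Submodule.mem_top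
      · intro x hx y hy hx' hy'
        have : (⟨x + y, hle (add_mem hx hy)⟩ : ↥(I ^ n)) = ⟨x, hle hx⟩ + ⟨y, hle hy⟩ := rfl
        rw [this]
        exact add_mem hx' hy'
    exact key y hy'
  refine ⟨k, gT ∘ₗ LinearMap.codRestrict (LinearMap.range πZ) (incl I (Nat.le_add_right n k)) hmem, ?_⟩
  ext y
  simp only [LinearMap.comp_apply, Submodule.mkQ_apply]
  obtain ⟨z, hz⟩ := hmem y
  have h1 : (LinearMap.codRestrict (LinearMap.range πZ) (incl I (Nat.le_add_right n k)) hmem) y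
      = ⟨πZ z, LinearMap.mem_range_self πZ z⟩ := by
    apply Subtype.ext
    exact hz.symm
  rw [h1, hgT, ← hz]
  have h2 := LinearMap.congr_fun hg₀ z.1
  simp only [LinearMap.comp_apply, Submodule.mkQ_apply] at h2
  exact h2

end Groth.Agent.Helper17
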