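import Groth.Agent.Lib.Helper17.DT3

/-!
# Helper17: the ideal transform inverts maps with torsion kernel and cokernel
-/

set_option autoImplicit false
universe u
open CategoryTheory CategoryTheory.Limits Opposite
open LocCoh

namespace Groth.Agent.Helper17

variable {R : Type u} [CommRing R]

theorem map_injective_of_ker_le_torsionSub [IsNoetherianRing R] (I : Ideal R)
    {M M' : Type u} [AddCommGroup M] [Module R M] [AddCommGroup M'] [Module R M']
    (e : M →ₗ[R] M') (hker : LinearMap.ker e ≤ DRing.torsionSub I M) :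
    Function.Injective ((LocCoh.idealTransform I).map (ModuleCat.ofHom e)).hom := by
  rw [injective_iff_map_eq_zero]
  intro x hx
  obtain ⟨n, f, rfl⟩ := cls_surjective I M x
  rw [map_cls, cls_eq_zero_iff] at hx
  obtain ⟨m, h, hm⟩ := hx
  have h1 : ∀ y, (f ∘ₗ incl I h) y ∈ DRing.torsionSub I M := by
    intro y
    apply hker
    rw [LinearMap.mem_ker]
    have := LinearMap.congr_fun hm y
    simpa using this
  obtain ⟨k, hk⟩ := exists_restrict_eq_zero_of_forall_mem_torsionSub I (f ∘ₗ incl I h) h1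
  rw [← cls_restrict I M h f, ← cls_restrict I M (Nat.le_add_right m k), hk, map_zero]

theorem map_surjective_of_ker_coker_torsion [IsNoetherianRing R] (I : Ideal R)
    {M M' : Type u} [AddCommGroup M] [Module R M] [AddCommGroup M'] [Module R M']
    (e : M →ₗ[R] M') (hker : LinearMap.ker e ≤ DRing.torsionSub I M)
    (hcoker : LocCoh.IsPowerTorsion I (M' ⧸ LinearMap.range e)) :
    Function.Surjective ((LocCoh.idealTransform I).map (ModuleCat.ofHom e)).hom := by
  intro x'
  obtain ⟨n, f', rfl⟩ := cls_surjective I M' x'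
  have hfg : (LinearMap.range ((LinearMap.range e).mkQ ∘ₗ f')).FG := by
    rw [LinearMap.range_eq_map ((LinearMap.range e).mkQ ∘ₗ f')]
    exact ((Submodule.fg_top _).mpr (IsNoetherian.noetherian (I ^ n))).map _
  obtain ⟨k, hk⟩ := exists_pow_smul_eq_zero_of_fg_le_torsionSub I
    (LinearMap.range ((LinearMap.range e).mkQ ∘ₗ f')) hfg (fun x _ => hcoker x)
  have hle : I ^ k * I ^ n ≤ I ^ n := Ideal.mul_le_right
  have key : ∀ z (hz : z ∈ I ^ k * I ^ n), f' ⟨z, hle hz⟩ ∈ LinearMap.range e := by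
    intro z hz
    refine Submodule.mul_induction_on' (C := fun z hz => f' ⟨z, hle hz⟩ ∈ LinearMap.range e) ?_ ?_ hz
    · intro a ha b hb
      have h1 : (⟨a * b, hle (Submodule.mul_mem_mul ha hb)⟩ : ↥(I ^ n)) = a • ⟨b, hb⟩ := by
        ext; simp
      rw [h1, map_smul, ← Submodule.Quotient.mk_eq_zero, Submodule.Quotient.mk_smul]
      exact hk a ha _ ⟨⟨b, hb⟩, rfl⟩
    · intro x hx y hy hx' hy'
      have h1 : (⟨x + y, hle (add_mem hx hy)⟩ : ↥(I ^ n)) = ⟨x, hle hx⟩ + ⟨y, hle hy⟩ := rfl
      rw [h1, map_add]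
      exact add_mem hx' hy'
  have hmem : ∀ y : ↥(I ^ (n + k)), (f' ∘ₗ incl I (Nat.le_add_right n k)) y ∈ LinearMap.range e := by
    rintro ⟨y, hy⟩
    have hy' : y ∈ I ^ k * I ^ n := by rwa [← pow_add, add_comm]
    exact key y hy'
  let f'' : ↥(I ^ (n + k)) →ₗ[R] M ⧸ LinearMap.ker e :=
    (e.quotKerEquivRange).symm.toLinearMap ∘ₗ
      LinearMap.codRestrict (LinearMap.range e) (f' ∘ₗ incl I (Nat.le_add_right n k)) hmem
  obtain ⟨k₂, g, hg⟩ := exists_lift_of_le_torsionSub I (LinearMap.ker e) hker f''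
  have heg : e ∘ₗ g = (f' ∘ₗ incl I (Nat.le_add_right n k)) ∘ₗ incl I (Nat.le_add_right (n + k) k₂) := by
    ext y
    have h1 := LinearMap.congr_fun hg y
    simp only [LinearMap.comp_apply, Submodule.mkQ_apply, f'', LinearEquiv.coe_coe] at h1
    have h2 := congrArg (fun t => ((e.quotKerEquivRange t : ↥(LinearMap.range e)) : M')) h1
    simp only [LinearEquiv.apply_symm_apply, LinearMap.codRestrict_apply, LinearMap.comp_apply] at h2
    rw [LinearMap.comp_apply, LinearMap.comp_apply, LinearMap.comp_apply, ← h2]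
    rfl
  refine ⟨cls I M (n + k + k₂) g, ?_⟩
  rw [map_cls, heg, cls_restrict, cls_restrict]

theorem map_bijective_of_ker_coker_torsion [IsNoetherianRing R] (I : Ideal R)
    {M M' : Type u} [AddCommGroup M] [Module R M] [AddCommGroup M'] [Module R M']
    (e : M →ₗ[R] M') (hker : LinearMap.ker e ≤ DRing.torsionSub I M)
    (hcoker : LocCoh.IsPowerTorsion I (M' ⧸ LinearMap.range e)) :
    Function.Bijective ((LocCoh.idealTransform I).map (ModuleCat.ofHom e)).hom :=
  ⟨map_injective_of_ker_le_torsionSub I e hker, map_surjective_of_ker_coker_torsion I e hker hcoker⟩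

end Groth.Agent.Helper17
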