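import Groth.Agent.Lib.Helper17.DT4

/-!
# Helper17: kernel and cokernel of the canonical map to the ideal transform
-/

set_option autoImplicit false
universe u
open CategoryTheory CategoryTheory.Limits Opposite
open LocCoh

namespace Groth.Agent.Helper17

variable {R : Type u} [CommRing R]

theorem ker_toDT (I : Ideal R) (M : Type u) [AddCommGroup M] [Module R M] :
    LinearMap.ker (LocCoh.toDT I M) = DRing.torsionSub I M := by
  ext x
  rw [LinearMap.mem_ker, toDT_eq_cls_zero, cls_eq_zero_iff]
  constructor
  · rintro ⟨m, h, hm⟩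
    refine ⟨m, fun a ha => ?_⟩
    have := LinearMap.congr_fun hm ⟨a, ha⟩
    simpa using this
  · rintro ⟨m, hm⟩
    refine ⟨m, Nat.zero_le m, ?_⟩
    ext y
    have := hm (y : R) y.2
    simpa using this

theorem isPowerTorsion_coker_toDT (I : Ideal R) (M : Type u) [AddCommGroup M] [Module R M] :
    LocCoh.IsPowerTorsion I (LocCoh.DT I M ⧸ LinearMap.range (LocCoh.toDT I M)) := by
  intro q
  obtain ⟨x, rfl⟩ := Submodule.Quotient.mk_surjective _ q
  obtain ⟨n, f, rfl⟩ := cls_surjective I M x
  refine ⟨n, fun a ha => ?_⟩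
  rw [← Submodule.Quotient.mk_smul, Submodule.Quotient.mk_eq_zero, smul_cls_of_mem I M f a ha]
  exact LinearMap.mem_range_self _ _

theorem map_toDT_bijective [IsNoetherianRing R] (I : Ideal R) (M : Type u) [AddCommGroup M] [Module R M] :
    Function.Bijective ((LocCoh.idealTransform I).map (ModuleCat.ofHom (LocCoh.toDT I M))).hom :=
  map_bijective_of_ker_coker_torsion I (LocCoh.toDT I M) (ker_toDT I M).le (isPowerTorsion_coker_toDT I M)

theorem map_mkQ_torsionSub_bijective [IsNoetherianRing R] (I : Ideal R) (M : Type u) [AddCommGroup M] [Module R M] :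
    Function.Bijective ((LocCoh.idealTransform I).map (ModuleCat.ofHom (DRing.torsionSub I M).mkQ)).hom := by
  refine map_bijective_of_ker_coker_torsion I (DRing.torsionSub I M).mkQ ?_ ?_
  · rw [Submodule.ker_mkQ]
  · intro q
    refine ⟨0, fun a _ => ?_⟩
    obtain ⟨x, rfl⟩ := Submodule.Quotient.mk_surjective _ q
    rw [← Submodule.Quotient.mk_smul, Submodule.Quotient.mk_eq_zero, Submodule.range_mkQ]
    exact Submodule.mem_top

end Groth.Agent.Helper17
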