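import Groth.Prelude.Def_DerCA
import Mathlib

/-!
# Essential constancy of inverse systems of Artinian modules (helper17)

If `H → lim X_n` is bijective (elementwise), `H` and all `X_n` Artinian, then `(X_n)` is essentially
constant with value `H`.
-/

open CategoryTheory CategoryTheory.Limits Opposite
universe u

namespace Groth.Agent.Helper17.EC

variable {A : Type u} [CommRing A] (X : ℕᵒᵖ ⥤ ModuleCat.{u} A)

/-- transition maps as linear maps -/
noncomputable def t {n m : ℕ} (h : n ≤ m) : X.obj (op m) →ₗ[A] X.obj (op n) :=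
  (X.map (homOfLE h).op).hom

theorem t_t {n m k : ℕ} (h₁ : n ≤ m) (h₂ : m ≤ k) (x : X.obj (op k)) :
    t X h₁ (t X h₂ x) = t X (h₁.trans h₂) x := by
  have : X.map (homOfLE h₂).op ≫ X.map (homOfLE h₁).op = X.map (homOfLE (h₁.trans h₂)).op := by
    rw [← X.map_comp]; rfl
  exact congrArg (fun g => g.hom x) this

theorem t_self (n : ℕ) (x : X.obj (op n)) : t X (le_refl n) x = x := by
  have : X.map (homOfLE (le_refl n)).op = 𝟙 _ := by
    rw [← X.map_id]; rfl
  exact congrArg (fun g => g.hom x) this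

variable {X} {H : ModuleCat.{u} A} (c : (Functor.const ℕᵒᵖ).obj H ⟶ X)

/-- cone legs as linear maps -/
noncomputable def cc (n : ℕ) : H →ₗ[A] X.obj (op n) := (c.app (op n)).hom

theorem t_cc {n m : ℕ} (h : n ≤ m) (x : H) : t X h (cc c m x) = cc c n x := by
  have := c.naturality (homOfLE h).op
  simp only [Functor.const_obj_obj, Functor.const_obj_map, Category.id_comp] at this
  exact (congrArg (fun g => g.hom x) this).symm

/-- Mittag-Leffler for Artinian systems -/
theorem exists_stable (hX : ∀ n : ℕ, IsArtinian A (X.obj (op n))) (n : ℕ) :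
    ∃ K : ℕ, n ≤ K ∧ ∀ (k : ℕ) (_ : K ≤ k) (h : n ≤ k) (h' : n ≤ K),
      LinearMap.range (t X h) = LinearMap.range (t X h') := by
  have := hX n
  let f : ℕ →o (Submodule A (X.obj (op n)))ᵒᵈ :=
    { toFun := fun k => OrderDual.toDual (LinearMap.range (t X (Nat.le_add_right n k)))
      monotone' := by
        intro a b hab
        change LinearMap.range (t X (Nat.le_add_right n b)) ≤ LinearMap.range (t X (Nat.le_add_right n a))
        rintro _ ⟨x, rfl⟩
        have hle : n + a ≤ n + b := Nat.add_le_add_left hab n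
        exact ⟨t X hle x, t_t X _ hle x⟩ }
  obtain ⟨k₀, hk₀⟩ := IsArtinian.monotone_stabilizes f
  refine ⟨n + k₀, Nat.le_add_right n k₀, ?_⟩
  intro k hk h h'
  obtain ⟨d, rfl⟩ := Nat.exists_eq_add_of_le h
  have := hk₀ d (by omega)
  exact (congrArg OrderDual.ofDual this).symm


section main

variable (hX : ∀ n : ℕ, IsArtinian A (X.obj (op n)))

/-- the stabilisation index -/
noncomputable def Kst (n : ℕ) : ℕ := (exists_stable hX n).choose

theorem le_Kst (n : ℕ) : n ≤ Kst hX n := (exists_stable hX n).choose_spec.1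

/-- the stable image -/
noncomputable def Sst (n : ℕ) : Submodule A (X.obj (op n)) := LinearMap.range (t X (le_Kst hX n))

theorem range_eq_Sst (n k : ℕ) (hk : Kst hX n ≤ k) (h : n ≤ k) :
    LinearMap.range (t X h) = Sst hX n :=
  (exists_stable hX n).choose_spec.2 k hk h (le_Kst hX n)

theorem t_mem_Sst {n m : ℕ} (h : n ≤ m) (y : X.obj (op m)) (hy : y ∈ Sst hX m) :
    t X h y ∈ Sst hX n := by
  have hk1 : Kst hX m ≤ max (Kst hX m) (Kst hX n) := le_max_left _ _
  have hk2 : Kst hX n ≤ max (Kst hX m) (Kst hX n) := le_max_right _ _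
  have hm : m ≤ max (Kst hX m) (Kst hX n) := (le_Kst hX m).trans hk1
  rw [← range_eq_Sst hX m _ hk1 hm] at hy
  obtain ⟨x, rfl⟩ := hy
  rw [t_t, ← range_eq_Sst hX n _ hk2 (h.trans hm)]
  exact ⟨x, rfl⟩

theorem exists_lift_Sst {n m : ℕ} (h : n ≤ m) (y : X.obj (op n)) (hy : y ∈ Sst hX n) :
    ∃ z : X.obj (op m), z ∈ Sst hX m ∧ t X h z = y := by
  have hk1 : Kst hX m ≤ max (Kst hX m) (Kst hX n) := le_max_left _ _
  have hk2 : Kst hX n ≤ max (Kst hX m) (Kst hX n) := le_max_right _ _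
  have hm : m ≤ max (Kst hX m) (Kst hX n) := (le_Kst hX m).trans hk1
  rw [← range_eq_Sst hX n _ hk2 (h.trans hm)] at hy
  obtain ⟨x, rfl⟩ := hy
  refine ⟨t X hm x, ?_, t_t X h hm x⟩
  rw [← range_eq_Sst hX m _ hk1 hm]
  exact ⟨x, rfl⟩

theorem cc_mem_Sst (n : ℕ) (x : H) : cc c n x ∈ Sst hX n := by
  rw [← t_cc c (le_Kst hX n) x]
  exact ⟨_, rfl⟩

/-- a chain of lifts in the stable images -/
noncomputable def wseq (N : ℕ) (y : Sst hX N) : ∀ s : ℕ, Sst hX (N + s)
  | 0 => y
  | s + 1 => ⟨(exists_lift_Sst hX (Nat.le_succ (N + s)) (wseq N y s).1 (wseq N y s).2).choose,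
      (exists_lift_Sst hX (Nat.le_succ (N + s)) (wseq N y s).1 (wseq N y s).2).choose_spec.1⟩

theorem t_wseq_succ (N : ℕ) (y : Sst hX N) (s : ℕ) :
    t X (Nat.le_succ (N + s)) (wseq hX N y (s + 1)).1 = (wseq hX N y s).1 :=
  (exists_lift_Sst hX (Nat.le_succ (N + s)) (wseq hX N y s).1 (wseq hX N y s).2).choose_spec.2

theorem t_wseq (N : ℕ) (y : Sst hX N) (s : ℕ) : ∀ (d : ℕ) (h : N + s ≤ N + (s + d)),
    t X h (wseq hX N y (s + d)).1 = (wseq hX N y s).1 := by
  intro d
  induction d with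
  | zero => intro h; exact t_self X _ _
  | succ d ih =>
    intro h
    have h1 : N + s ≤ N + (s + d) := by omega
    have : t X h (wseq hX N y (s + (d + 1))).1 =
        t X h1 (t X (Nat.le_succ (N + (s + d))) (wseq hX N y (s + d + 1)).1) := by
      rw [t_t]; rfl
    rw [this, t_wseq_succ, ih h1]

theorem t_wseq' (N : ℕ) (y : Sst hX N) (s s' : ℕ) (hs : s ≤ s') (h : N + s ≤ N + s') :
    t X h (wseq hX N y s').1 = (wseq hX N y s).1 := by
  obtain ⟨d, rfl⟩ := Nat.exists_eq_add_of_le hs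
  exact t_wseq hX N y s d h

variable (hsurj : ∀ y : (∀ n : ℕ, X.obj (op n)),
    (∀ (n m : ℕ) (h : n ≤ m), t X h (y m) = y n) → ∃ x : H, ∀ n : ℕ, cc c n x = y n)

include hsurj in
theorem exists_cc_eq (N : ℕ) (y : X.obj (op N)) (hy : y ∈ Sst hX N) : ∃ x : H, cc c N x = y := by
  let w := wseq hX N ⟨y, hy⟩
  obtain ⟨x, hx⟩ := hsurj (fun n => t X (Nat.le_add_left n N) (w n).1) (by
    intro n m h
    rw [t_t]
    have h1 : N + n ≤ N + m := by omega
    have := t_wseq' hX N ⟨y, hy⟩ n m h h1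
    rw [← this, t_t])
  refine ⟨x, ?_⟩
  have h0 := hx N
  rw [h0]
  have h1 : N + 0 ≤ N + N := by omega
  exact t_wseq' hX N ⟨y, hy⟩ 0 N (Nat.zero_le N) h1

variable [IsArtinian A H]
  (hinj : ∀ x : H, (∀ n : ℕ, cc c n x = 0) → x = 0)

include hinj in
theorem exists_cc_injective : ∃ n₀ : ℕ, Function.Injective (cc c n₀) := by
  let f : ℕ →o (Submodule A H)ᵒᵈ :=
    { toFun := fun n => OrderDual.toDual (LinearMap.ker (cc c n))
      monotone' := by
        intro a b hab
        change LinearMap.ker (cc c b) ≤ LinearMap.ker (cc c a)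
        intro x hx
        rw [LinearMap.mem_ker] at hx ⊢
        rw [← t_cc c hab x, hx, map_zero] }
  obtain ⟨n₀, hn₀⟩ := IsArtinian.monotone_stabilizes f
  refine ⟨n₀, ?_⟩
  rw [← LinearMap.ker_eq_bot, eq_bot_iff]
  intro x hx
  rw [Submodule.mem_bot]
  apply hinj
  intro n
  rcases le_total n₀ n with h | h
  · have := congrArg OrderDual.ofDual (hn₀ n h)
    change LinearMap.ker (cc c n₀) = LinearMap.ker (cc c n) at this
    rw [this] at hx
    exact hx
  · rw [← t_cc c h x, LinearMap.mem_ker.mp hx, map_zero]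

include hX hsurj hinj in
theorem isEssConstant : DerCA.IsEssConstant X H c := by
  obtain ⟨n₀, hn₀⟩ := exists_cc_injective c hinj
  -- `cc c n₀ : H ≃ Sst n₀`
  have hbij : Function.Bijective ((cc c n₀).codRestrict (Sst hX n₀) (cc_mem_Sst c hX n₀)) := by
    constructor
    · intro a b hab
      apply hn₀
      exact congrArg Subtype.val hab
    · rintro ⟨y, hy⟩
      obtain ⟨x, hx⟩ := exists_cc_eq c hX hsurj n₀ y hy
      exact ⟨x, Subtype.ext hx⟩
  let e : H ≃ₗ[A] Sst hX n₀ := LinearEquiv.ofBijective _ hbij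
  have he : ∀ x : H, ((e x : Sst hX n₀) : X.obj (op n₀)) = cc c n₀ x := fun x => rfl
  let i₀ := Kst hX n₀
  have hi₀ : n₀ ≤ i₀ := le_Kst hX n₀
  have hmem : ∀ z : X.obj (op i₀), t X hi₀ z ∈ Sst hX n₀ := fun z => ⟨z, rfl⟩
  let s : X.obj (op i₀) →ₗ[A] H := e.symm.toLinearMap ∘ₗ (t X hi₀).codRestrict (Sst hX n₀) hmem
  have hs : ∀ (z : X.obj (op i₀)) (h : H), cc c n₀ h = t X hi₀ z → s z = h := by
    intro z h hh
    change e.symm _ = h
    rw [LinearEquiv.symm_apply_eq]
    exact Subtype.ext hh.symm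
  refine ⟨i₀, ModuleCat.ofHom s, ?_, ?_⟩
  · ext x
    change s (cc c i₀ x) = x
    exact hs _ x (t_cc c hi₀ x).symm
  · intro j
    let N := max j n₀
    have hjN : j ≤ N := le_max_left _ _
    have hnN : n₀ ≤ N := le_max_right _ _
    let k := max (Kst hX N) i₀
    have hKk : Kst hX N ≤ k := le_max_left _ _
    have hik : i₀ ≤ k := le_max_right _ _
    have hNk : N ≤ k := (le_Kst hX N).trans hKk
    refine ⟨k, hik, hjN.trans hNk, ?_⟩
    ext z
    change t X (hjN.trans hNk) z = cc c j (s (t X hik z))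
    have hz : t X hNk z ∈ Sst hX N := by
      rw [← range_eq_Sst hX N k hKk hNk]; exact ⟨z, rfl⟩
    obtain ⟨h', hh'⟩ := exists_cc_eq c hX hsurj N _ hz
    have h1 : s (t X hik z) = h' := by
      apply hs
      rw [t_t, ← t_cc c hnN h', hh', t_t]
    rw [h1, ← t_cc c hjN h', hh', t_t]

end main

end Groth.Agent.Helper17.EC
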