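import Groth.Agent.Lib.Helper17.EC1
import Groth.Agent.Lib.Helper8.LCArt

/-!
# S8799: essential constancy of the local cohomology system (helper17)
-/

open CategoryTheory CategoryTheory.Limits Opposite
universe u

namespace Groth.Agent.Helper17.EC

theorem main8799 (A : Type u) [CommRing A] [IsNoetherianRing A] [IsLocalRing A] (Msys : ℕᵒᵖ ⥤ ModuleCat.{u} A) (hfin : ∀ n : ℕᵒᵖ, Module.Finite A (Msys.obj n)) (M : Type u) [AddCommGroup M] [Module A M] [Module.Finite A M] (c : (Functor.const ℕᵒᵖ).obj (ModuleCat.of A M) ⟶ Msys) (i : ℕ) (Hc : (Functor.const ℕᵒᵖ).obj ((localCohomology (IsLocalRing.maximalIdeal A) i).obj (ModuleCat.of A M)) ⟶ Msys ⋙ localCohomology (IsLocalRing.maximalIdeal A) i) (hHc : ∀ n : ℕᵒᵖ, Hc.app n = (localCohomology (IsLocalRing.maximalIdeal A) i).map (c.app n)) (hinj : ∀ x : (localCohomology (IsLocalRing.maximalIdeal A) i).obj (ModuleCat.of A M), (∀ n : ℕᵒᵖ, (Hc.app n) x = 0) → x = 0) (hsurj : ∀ y : (∀ n : ℕ, (localCohomology (IsLocalRing.maximalIdeal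 A) i).obj (Msys.obj (op n))), (∀ (n m : ℕ) (h : n ≤ m), ((localCohomology (IsLocalRing.maximalIdeal A) i).map (Msys.map (homOfLE h).op)) (y m) = y n) → ∃ x : (localCohomology (IsLocalRing.maximalIdeal A) i).obj (ModuleCat.of A M), ∀ n : ℕ, (Hc.app (op n)) x = y n) : DerCA.IsEssConstant (Msys ⋙ localCohomology (IsLocalRing.maximalIdeal A) i) ((localCohomology (IsLocalRing.maximalIdeal A) i).obj (ModuleCat.of A M)) Hc := by
  have hX : ∀ n : ℕ, IsArtinian A
      ((Msys ⋙ localCohomology (IsLocalRing.maximalIdeal A) i).obj (op n)) := by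
    intro n
    have := hfin (op n)
    exact Groth.Agent.Helper8.LC.isArtinian_H_maximalIdeal i (Msys.obj (op n))
  have hH : IsArtinian A ((localCohomology (IsLocalRing.maximalIdeal A) i).obj (ModuleCat.of A M)) :=
    Groth.Agent.Helper8.LC.isArtinian_H_maximalIdeal i M
  refine isEssConstant Hc hX ?_ ?_
  · intro y hy
    exact hsurj y hy
  · intro x hx
    apply hinj x
    intro n
    exact hx n.unop
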