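import Mathlib

/-!
# helper17: `Ext^i(A/J, M) ≅ M^(p choose i)` for `J` generated by a weakly regular sequence of
length `p` and `JM = 0` (S5666)

We carry, through the induction on the sequence, trivialisations `Ext^i(N, M) ≅ M^ι` which are
natural in `M` (killed by `J`); naturality lets us split the short exact sequences coming from
the long exact sequence by a Yoneda argument.
-/

set_option autoImplicit false
set_option linter.unusedSectionVars false
set_option linter.unusedVariables false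

universe u

open CategoryTheory Abelian RingTheory.Sequence
open scoped Pointwise

namespace Groth.Agent.Helper17.EK

variable {A : Type u} [CommRing A]

/-- `M` is killed by the ideal `J` -/
def Killed (J : Ideal A) (M : Type u) [AddCommGroup M] [Module A M] : Prop :=
  ∀ a ∈ J, ∀ m : M, a • m = 0

theorem killed_pi (J : Ideal A) (ι : Type) : Killed J (ι → A ⧸ J) := by
  intro a ha v
  funext t
  obtain ⟨w, hw⟩ := Submodule.Quotient.mk_surjective J (v t)
  show a • v t = 0
  rw [← hw, ← Submodule.Quotient.mk_smul, Submodule.Quotient.mk_eq_zero]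
  exact J.mul_mem_right w ha

section lift

variable (J : Ideal A) {M M' : Type u} [AddCommGroup M] [Module A M] [AddCommGroup M']
  [Module A M']

/-- the map `A ⧸ J → M`, `ā ↦ a • y`, for `M` killed by `J` -/
noncomputable def lift1 (hM : Killed J M) (y : M) : (A ⧸ J) →ₗ[A] M :=
  Submodule.liftQ J (LinearMap.toSpanSingleton A M y) (fun a ha => by
    rw [LinearMap.mem_ker, LinearMap.toSpanSingleton_apply]
    exact hM a ha y)

theorem lift1_mk (hM : Killed J M) (y : M) (a : A) :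
    lift1 J hM y (Submodule.Quotient.mk a) = a • y := by
  rw [lift1, Submodule.liftQ_apply, LinearMap.toSpanSingleton_apply]

theorem lift1_add (hM : Killed J M) (y y' : M) (q : A ⧸ J) :
    lift1 J hM (y + y') q = lift1 J hM y q + lift1 J hM y' q := by
  obtain ⟨a, rfl⟩ := Submodule.Quotient.mk_surjective J q
  rw [lift1_mk, lift1_mk, lift1_mk, smul_add]

theorem lift1_smul (hM : Killed J M) (c : A) (y : M) (q : A ⧸ J) :
    lift1 J hM (c • y) q = c • lift1 J hM y q := by
  obtain ⟨a, rfl⟩ := Submodule.Quotient.mk_surjective J q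
  rw [lift1_mk, lift1_mk, smul_comm]

theorem lift1_map (hM : Killed J M) (hM' : Killed J M') (ψ : M →ₗ[A] M') (y : M) (q : A ⧸ J) :
    ψ (lift1 J hM y q) = lift1 J hM' (ψ y) q := by
  obtain ⟨a, rfl⟩ := Submodule.Quotient.mk_surjective J q
  rw [lift1_mk, lift1_mk, map_smul]

variable {ι : Type} [Fintype ι]

/-- the map `(A ⧸ J)^ι → M` determined by a family `m : ι → M` -/
noncomputable def phi (hM : Killed J M) (m : ι → M) : (ι → A ⧸ J) →ₗ[A] M :=
  ∑ t, (lift1 J hM (m t)).comp (LinearMap.proj t)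

theorem phi_apply (hM : Killed J M) (m : ι → M) (v : ι → A ⧸ J) :
    phi J hM m v = ∑ t, lift1 J hM (m t) (v t) := by
  simp [phi, LinearMap.sum_apply]

theorem phi_single [DecidableEq ι] (hM : Killed J M) (m : ι → M) (t : ι) :
    phi J hM m (Pi.single t 1) = m t := by
  rw [phi_apply, Finset.sum_eq_single t]
  · rw [Pi.single_eq_same]
    have h1 : (1 : A ⧸ J) = Submodule.Quotient.mk 1 := rfl
    rw [h1, lift1_mk, one_smul]
  · intro t' _ hne
    rw [Pi.single_eq_of_ne hne, map_zero]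
  · intro h
    exact absurd (Finset.mem_univ t) h

theorem phi_add (hM : Killed J M) (m m' : ι → M) :
    phi J hM (m + m') = phi J hM m + phi J hM m' := by
  refine LinearMap.ext fun v => ?_
  rw [LinearMap.add_apply, phi_apply, phi_apply, phi_apply, ← Finset.sum_add_distrib]
  exact Finset.sum_congr rfl fun t _ => lift1_add J hM _ _ _

theorem phi_smul (hM : Killed J M) (c : A) (m : ι → M) :
    phi J hM (c • m) = c • phi J hM m := by
  refine LinearMap.ext fun v => ?_
  rw [LinearMap.smul_apply, phi_apply, phi_apply, Finset.smul_sum]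
  exact Finset.sum_congr rfl fun t _ => lift1_smul J hM _ _ _

theorem phi_comp (hM : Killed J M) (hM' : Killed J M') (ψ : M →ₗ[A] M') (m : ι → M) :
    ψ ∘ₗ phi J hM m = phi J hM' (fun t => ψ (m t)) := by
  refine LinearMap.ext fun v => ?_
  rw [LinearMap.comp_apply, phi_apply, phi_apply, map_sum]
  exact Finset.sum_congr rfl fun t _ => lift1_map J hM hM' ψ _ _

end lift

section post

variable (X : ModuleCat.{u} A) (i : ℕ) {M M' M'' : Type u} [AddCommGroup M] [Module A M]
  [AddCommGroup M'] [Module A M'] [AddCommGroup M''] [Module A M'']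

/-- postcomposition with a linear map, on `Ext` -/
noncomputable def post (ψ : M →ₗ[A] M') :
    Ext X (ModuleCat.of A M) i →ₗ[A] Ext X (ModuleCat.of A M') i :=
  Ext.postcompOfLinear (Ext.mk₀ (ModuleCat.ofHom ψ)) A X (add_zero i)

theorem post_apply (ψ : M →ₗ[A] M') (e : Ext X (ModuleCat.of A M) i) :
    post X i ψ e = e.comp (Ext.mk₀ (ModuleCat.ofHom ψ)) (add_zero i) := rfl

theorem post_comp (ψ : M →ₗ[A] M') (ψ' : M' →ₗ[A] M'') (e : Ext X (ModuleCat.of A M) i) :
    post X i ψ' (post X i ψ e) = post X i (ψ' ∘ₗ ψ) e := by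
  rw [post_apply, post_apply, post_apply, Ext.comp_assoc_of_third_deg_zero, Ext.mk₀_comp_mk₀,
    ModuleCat.ofHom_comp]

theorem post_add (ψ ψ' : M →ₗ[A] M') (e : Ext X (ModuleCat.of A M) i) :
    post X i (ψ + ψ') e = post X i ψ e + post X i ψ' e := by
  rw [post_apply, post_apply, post_apply, ModuleCat.ofHom_add, Ext.mk₀_add, Ext.comp_add]

theorem post_smul (a : A) (ψ : M →ₗ[A] M') (e : Ext X (ModuleCat.of A M) i) :
    post X i (a • ψ) e = a • post X i ψ e := by
  rw [post_apply, post_apply]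
  have h : ModuleCat.ofHom (a • ψ) = a • ModuleCat.ofHom ψ := rfl
  rw [h, Ext.mk₀_smul, Ext.comp_smul]

/-- precomposition commutes with postcomposition -/
theorem pre_post {Y : ModuleCat.{u} A} {n k : ℕ} (α : Ext Y X n) (h : n + i = k)
    (ψ : M →ₗ[A] M') (e : Ext X (ModuleCat.of A M) i) :
    α.comp (post X i ψ e) h = post Y k ψ (α.comp e h) := by
  rw [post_apply, post_apply, Ext.comp_assoc_of_third_deg_zero]

end post

/-- a trivialisation `Ext^i(X, M) ≅ M^ι`, natural in `M` killed by `J` -/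
structure Triv (J : Ideal A) (X : ModuleCat.{u} A) (i : ℕ) (ι : Type) where
  Φ : ∀ (M : Type u) [AddCommGroup M] [Module A M], Killed J M →
    (Ext X (ModuleCat.of A M) i ≃ₗ[A] (ι → M))
  nat : ∀ (M M' : Type u) [AddCommGroup M] [Module A M] [AddCommGroup M'] [Module A M']
    (hM : Killed J M) (hM' : Killed J M') (ψ : M →ₗ[A] M') (e : Ext X (ModuleCat.of A M) i)
    (t : ι), Φ M' hM' (post X i ψ e) t = ψ (Φ M hM e t)

/-- `Ext^i(X, M) ≅ M^c` naturally in `M` killed by `J` -/
def HasTrivN (J : Ideal A) (X : ModuleCat.{u} A) (i c : ℕ) : Prop :=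
  ∃ (ι : Type) (_ : Fintype ι), Fintype.card ι = c ∧ Nonempty (Triv J X i ι)

theorem Triv.nat' {J : Ideal A} {X : ModuleCat.{u} A} {i : ℕ} {ι : Type} (T : Triv J X i ι)
    {M M' : Type u} [AddCommGroup M] [Module A M] [AddCommGroup M'] [Module A M']
    (hM : Killed J M) (hM' : Killed J M') (ψ : M →ₗ[A] M') (e : Ext X (ModuleCat.of A M) i) :
    T.Φ M' hM' (post X i ψ e) = fun t => ψ (T.Φ M hM e t) :=
  funext fun t => T.nat M M' hM hM' ψ e t

theorem Triv.symm_nat {J : Ideal A} {X : ModuleCat.{u} A} {i : ℕ} {ι : Type} (T : Triv J X i ι)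
    {M M' : Type u} [AddCommGroup M] [Module A M] [AddCommGroup M'] [Module A M']
    (hM : Killed J M) (hM' : Killed J M') (ψ : M →ₗ[A] M') (u : ι → M) :
    post X i ψ ((T.Φ M hM).symm u) = (T.Φ M' hM').symm (fun t => ψ (u t)) := by
  apply (T.Φ M' hM').injective
  rw [T.nat' hM hM', LinearEquiv.apply_symm_apply, LinearEquiv.apply_symm_apply]

/-- precomposition with an isomorphism, as a linear equivalence -/
noncomputable def preIso {X Y : ModuleCat.{u} A} (e : X ≅ Y) (i : ℕ) (M : Type u)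
    [AddCommGroup M] [Module A M] :
    Ext Y (ModuleCat.of A M) i ≃ₗ[A] Ext X (ModuleCat.of A M) i where
  toFun z := (Ext.mk₀ e.hom).comp z (zero_add i)
  invFun z := (Ext.mk₀ e.inv).comp z (zero_add i)
  map_add' z z' := Ext.comp_add _ _ _ _
  map_smul' a z := Ext.comp_smul _ _ _ _
  left_inv z := by
    show (Ext.mk₀ e.inv).comp ((Ext.mk₀ e.hom).comp z (zero_add i)) (zero_add i) = z
    rw [Ext.mk₀_comp_mk₀_assoc, e.inv_hom_id, Ext.mk₀_id_comp]
  right_inv z := by
    show (Ext.mk₀ e.hom).comp ((Ext.mk₀ e.inv).comp z (zero_add i)) (zero_add i) = z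
    rw [Ext.mk₀_comp_mk₀_assoc, e.hom_inv_id, Ext.mk₀_id_comp]

theorem preIso_apply {X Y : ModuleCat.{u} A} (e : X ≅ Y) (i : ℕ) (M : Type u)
    [AddCommGroup M] [Module A M] (z : Ext Y (ModuleCat.of A M) i) :
    preIso e i M z = (Ext.mk₀ e.hom).comp z (zero_add i) := rfl

/-- transport along an isomorphism in the first variable -/
noncomputable def Triv.congrLeft {J : Ideal A} {X Y : ModuleCat.{u} A} (e : X ≅ Y) {i : ℕ}
    {ι : Type} (T : Triv J X i ι) : Triv J Y i ι where
  Φ M _ _ hM := (preIso e i M).trans (T.Φ M hM)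
  nat M M' _ _ _ _ hM hM' ψ z t := by
    show T.Φ M' hM' ((Ext.mk₀ e.hom).comp (post Y i ψ z) (zero_add i)) t =
      ψ (T.Φ M hM ((Ext.mk₀ e.hom).comp z (zero_add i)) t)
    rw [pre_post]
    exact T.nat M M' hM hM' ψ _ t

theorem HasTrivN.congrLeft {J : Ideal A} {X Y : ModuleCat.{u} A} (e : X ≅ Y) {i c : ℕ}
    (h : HasTrivN J X i c) : HasTrivN J Y i c := by
  obtain ⟨ι, hι, hc, ⟨T⟩⟩ := h
  exact ⟨ι, hι, hc, ⟨T.congrLeft e⟩⟩

section step

variable (X : ModuleCat.{u} A) (x : A)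

/-- the connecting map -/
noncomputable def dl (hS : (ModuleCat.smulShortComplex X x).ShortExact) (M : Type u)
    [AddCommGroup M] [Module A M] (j : ℕ) :
    Ext X (ModuleCat.of A M) j →ₗ[A]
      Ext (ModuleCat.of A (QuotSMulTop x X)) (ModuleCat.of A M) (j + 1) :=
  Ext.precompOfLinear (X := (ModuleCat.smulShortComplex X x).X₃)
    (Y := (ModuleCat.smulShortComplex X x).X₁) hS.extClass A (ModuleCat.of A M) (add_comm 1 j)

/-- restriction along the quotient map -/
noncomputable def pl (M : Type u) [AddCommGroup M] [Module A M] (j : ℕ) :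
    Ext (ModuleCat.of A (QuotSMulTop x X)) (ModuleCat.of A M) j →ₗ[A]
      Ext X (ModuleCat.of A M) j :=
  Ext.precompOfLinear (X := (ModuleCat.smulShortComplex X x).X₂)
    (Y := (ModuleCat.smulShortComplex X x).X₃) (Ext.mk₀ (ModuleCat.smulShortComplex X x).g) A
    (ModuleCat.of A M) (zero_add j)

variable {X x} {M M' : Type u} [AddCommGroup M] [Module A M] [AddCommGroup M'] [Module A M']

theorem dl_post (hS : (ModuleCat.smulShortComplex X x).ShortExact) (ψ : M →ₗ[A] M') (j : ℕ)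
    (e : Ext X (ModuleCat.of A M) j) :
    dl X x hS M' j (post X j ψ e) = post _ (j + 1) ψ (dl X x hS M j e) :=
  pre_post X j hS.extClass (add_comm 1 j) ψ e

theorem pl_post (ψ : M →ₗ[A] M') (j : ℕ)
    (z : Ext (ModuleCat.of A (QuotSMulTop x X)) (ModuleCat.of A M) j) :
    pl X x M' j (post _ j ψ z) = post X j ψ (pl X x M j z) :=
  pre_post _ j (Ext.mk₀ (ModuleCat.smulShortComplex X x).g) (zero_add j) ψ z

theorem f_comp_eq_zero {J : Ideal A} (hxJ : x ∈ J) (hM : Killed J M) (j : ℕ)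
    (y : Ext X (ModuleCat.of A M) j) :
    (Ext.mk₀ (ModuleCat.smulShortComplex X x).f).comp y (zero_add j) = 0 := by
  have h1 : (Ext.mk₀ (ModuleCat.smulShortComplex X x).f).comp y (zero_add j) = x • y := by
    change (Ext.mk₀ (x • 𝟙 X)).comp y (zero_add j) = x • y
    rw [Ext.mk₀_smul, Ext.smul_comp, Ext.mk₀_id_comp]
  rw [h1, Ext.smul_eq_comp_mk₀]
  have h2 : x • 𝟙 (ModuleCat.of A M) = 0 := by
    ext m
    simpa using hM x hxJ m
  rw [h2, Ext.mk₀_zero, Ext.comp_zero]
  rfl

theorem dl_injective {J : Ideal A} (hxJ : x ∈ J)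
    (hS : (ModuleCat.smulShortComplex X x).ShortExact) (hM : Killed J M) (j : ℕ) :
    Function.Injective (dl X x hS M j) := by
  rw [injective_iff_map_eq_zero]
  intro e he
  obtain ⟨y, hy⟩ := Ext.contravariant_sequence_exact₁ hS (ModuleCat.of A M) e (add_comm 1 j) he
  rw [← hy]
  exact f_comp_eq_zero hxJ hM j y

theorem pl_surjective {J : Ideal A} (hxJ : x ∈ J)
    (hS : (ModuleCat.smulShortComplex X x).ShortExact) (hM : Killed J M) (j : ℕ) :
    Function.Surjective (pl X x M j) := by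
  intro y
  exact Ext.contravariant_sequence_exact₂ hS (ModuleCat.of A M) y (f_comp_eq_zero hxJ hM j y)

theorem exists_dl_eq (hS : (ModuleCat.smulShortComplex X x).ShortExact) (j : ℕ)
    (z : Ext (ModuleCat.of A (QuotSMulTop x X)) (ModuleCat.of A M) (j + 1))
    (hz : pl X x M (j + 1) z = 0) : ∃ e, dl X x hS M j e = z :=
  Ext.contravariant_sequence_exact₃ hS (ModuleCat.of A M) z hz (add_comm 1 j)

theorem pl_dl (hS : (ModuleCat.smulShortComplex X x).ShortExact) (j : ℕ)
    (e : Ext X (ModuleCat.of A M) j) : pl X x M (j + 1) (dl X x hS M j e) = 0 :=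
  hS.comp_extClass_assoc e (add_comm 1 j)

theorem pl_zero_injective (hS : (ModuleCat.smulShortComplex X x).ShortExact) :
    Function.Injective (pl X x M 0) := by
  haveI := hS.epi_g
  exact Ext.precomp_mk₀_injective_of_epi (ModuleCat.of A M) (ModuleCat.smulShortComplex X x).g

/-- degree zero -/
noncomputable def Triv.stepZero {J : Ideal A} (hxJ : x ∈ J)
    (hS : (ModuleCat.smulShortComplex X x).ShortExact) {ι : Type} (T : Triv J X 0 ι) :
    Triv J (ModuleCat.of A (QuotSMulTop x X)) 0 ι where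
  Φ M _ _ hM :=
    (LinearEquiv.ofBijective (pl X x M 0)
      ⟨pl_zero_injective hS, pl_surjective hxJ hS hM 0⟩).trans (T.Φ M hM)
  nat M M' _ _ _ _ hM hM' ψ e t := by
    show T.Φ M' hM' (pl X x M' 0 (post _ 0 ψ e)) t = ψ (T.Φ M hM (pl X x M 0 e) t)
    rw [pl_post]
    exact T.nat M M' hM hM' ψ _ t

/-- the section of `pl` given by a universal class -/
noncomputable def secL (J : Ideal A) (Y : ModuleCat.{u} A) (i : ℕ) {ι : Type} [Fintype ι]
    (e₀ : Ext Y (ModuleCat.of A (ι → A ⧸ J)) i) (hM : Killed J M) :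
    (ι → M) →ₗ[A] Ext Y (ModuleCat.of A M) i where
  toFun m := post Y i (phi J hM m) e₀
  map_add' m m' := by rw [phi_add, post_add]
  map_smul' a m := by rw [phi_smul, post_smul]; rfl

theorem secL_apply (J : Ideal A) (Y : ModuleCat.{u} A) (i : ℕ) {ι : Type} [Fintype ι]
    (e₀ : Ext Y (ModuleCat.of A (ι → A ⧸ J)) i) (hM : Killed J M) (m : ι → M) :
    secL J Y i e₀ hM m = post Y i (phi J hM m) e₀ := rfl

theorem secL_post (J : Ideal A) (Y : ModuleCat.{u} A) (i : ℕ) {ι : Type} [Fintype ι]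
    (e₀ : Ext Y (ModuleCat.of A (ι → A ⧸ J)) i) (hM : Killed J M) (hM' : Killed J M')
    (ψ : M →ₗ[A] M') (m : ι → M) :
    post Y i ψ (secL J Y i e₀ hM m) = secL J Y i e₀ hM' (fun t => ψ (m t)) := by
  rw [secL_apply, secL_apply, post_comp, phi_comp J hM hM']

/-- the comparison map -/
noncomputable def theta {J : Ideal A} (hS : (ModuleCat.smulShortComplex X x).ShortExact)
    {ιa ιb : Type} [Fintype ιb] (j : ℕ) (Ta : Triv J X j ιa)
    (e₀ : Ext (ModuleCat.of A (QuotSMulTop x X)) (ModuleCat.of A (ιb → A ⧸ J)) (j + 1))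
    (hM : Killed J M) :
    ((ιa → M) × (ιb → M)) →ₗ[A]
      Ext (ModuleCat.of A (QuotSMulTop x X)) (ModuleCat.of A M) (j + 1) :=
  ((dl X x hS M j).comp (Ta.Φ M hM).symm.toLinearMap).coprod (secL J _ (j + 1) e₀ hM)

theorem theta_apply {J : Ideal A} (hS : (ModuleCat.smulShortComplex X x).ShortExact)
    {ιa ιb : Type} [Fintype ιb] (j : ℕ) (Ta : Triv J X j ιa)
    (e₀ : Ext (ModuleCat.of A (QuotSMulTop x X)) (ModuleCat.of A (ιb → A ⧸ J)) (j + 1))
    (hM : Killed J M) (u : ιa → M) (m : ιb → M) :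
    theta hS j Ta e₀ hM (u, m) =
      dl X x hS M j ((Ta.Φ M hM).symm u) + secL J _ (j + 1) e₀ hM m := rfl

theorem theta_post {J : Ideal A} (hS : (ModuleCat.smulShortComplex X x).ShortExact)
    {ιa ιb : Type} [Fintype ιb] (j : ℕ) (Ta : Triv J X j ιa)
    (e₀ : Ext (ModuleCat.of A (QuotSMulTop x X)) (ModuleCat.of A (ιb → A ⧸ J)) (j + 1))
    (hM : Killed J M) (hM' : Killed J M') (ψ : M →ₗ[A] M') (u : ιa → M) (m : ιb → M) :
    post _ (j + 1) ψ (theta hS j Ta e₀ hM (u, m)) =
      theta hS j Ta e₀ hM' (fun t => ψ (u t), fun t => ψ (m t)) := by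
  rw [theta_apply, theta_apply, map_add, ← dl_post, Ta.symm_nat hM hM', secL_post J _ _ e₀ hM hM']

theorem theta_bijective {J : Ideal A} (hxJ : x ∈ J)
    (hS : (ModuleCat.smulShortComplex X x).ShortExact)
    {ιa ιb : Type} [Fintype ιb] (j : ℕ) (Ta : Triv J X j ιa) (Tb : Triv J X (j + 1) ιb)
    (e₀ : Ext (ModuleCat.of A (QuotSMulTop x X)) (ModuleCat.of A (ιb → A ⧸ J)) (j + 1))
    (hM : Killed J M)
    (hsec : ∀ m : ιb → M, Tb.Φ M hM (pl X x M (j + 1) (secL J _ (j + 1) e₀ hM m)) = m) :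
    Function.Bijective (theta hS j Ta e₀ hM) := by
  constructor
  · rw [injective_iff_map_eq_zero]
    rintro ⟨u, m⟩ h
    rw [theta_apply] at h
    have hm : m = 0 := by
      have h2 := congrArg (fun z => Tb.Φ M hM (pl X x M (j + 1) z)) h
      simp only [map_add, pl_dl, zero_add, map_zero] at h2
      rw [← hsec m]
      exact h2
    subst hm
    rw [map_zero, add_zero] at h
    have hu := dl_injective hxJ hS hM j (h.trans (map_zero _).symm)
    have hu' : u = 0 := by
      have := congrArg (Ta.Φ M hM) hu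
      rwa [LinearEquiv.apply_symm_apply, map_zero] at this
    rw [hu']
    rfl
  · intro z
    have hz : pl X x M (j + 1)
        (z - secL J _ (j + 1) e₀ hM (Tb.Φ M hM (pl X x M (j + 1) z))) = 0 := by
      rw [map_sub, sub_eq_zero]
      apply (Tb.Φ M hM).injective
      rw [hsec]
    obtain ⟨e, he⟩ := exists_dl_eq hS j _ hz
    refine ⟨(Ta.Φ M hM e, Tb.Φ M hM (pl X x M (j + 1) z)), ?_⟩
    rw [theta_apply, LinearEquiv.symm_apply_apply, he, sub_add_cancel]

/-- positive degrees -/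
theorem Triv.stepSucc {J : Ideal A} (hxJ : x ∈ J)
    (hS : (ModuleCat.smulShortComplex X x).ShortExact) {ιa ιb : Type} [Fintype ιb] (j : ℕ)
    (Ta : Triv J X j ιa) (Tb : Triv J X (j + 1) ιb) :
    Nonempty (Triv J (ModuleCat.of A (QuotSMulTop x X)) (j + 1) (ιa ⊕ ιb)) := by
  classical
  have hP : Killed J (ιb → A ⧸ J) := killed_pi J ιb
  obtain ⟨e₀, he₀⟩ := pl_surjective hxJ hS hP (j + 1)
    ((Tb.Φ (ιb → A ⧸ J) hP).symm (fun t => Pi.single t 1))
  have hsec : ∀ (M : Type u) [AddCommGroup M] [Module A M] (hM : Killed J M) (m : ιb → M),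
      Tb.Φ M hM (pl X x M (j + 1) (secL J _ (j + 1) e₀ hM m)) = m := by
    intro M _ _ hM m
    rw [secL_apply, pl_post, he₀, Tb.nat' hP hM, LinearEquiv.apply_symm_apply]
    funext t
    exact phi_single J hM m t
  refine ⟨{
    Φ := fun M _ _ hM =>
      (LinearEquiv.ofBijective (theta hS j Ta e₀ hM)
        (theta_bijective hxJ hS j Ta Tb e₀ hM (hsec M hM))).symm.trans
        (LinearEquiv.sumArrowLequivProdArrow ιa ιb A M).symm
    nat := ?_ }⟩
  intro M M' _ _ _ _ hM hM' ψ z t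
  obtain ⟨⟨u, m⟩, rfl⟩ := (theta_bijective hxJ hS j Ta Tb e₀ hM (hsec M hM)).2 z
  rw [theta_post hS j Ta e₀ hM hM']
  have h1 : ∀ (N : Type u) [AddCommGroup N] [Module A N] (hN : Killed J N) (w : (ιa → N) × (ιb → N)),
      (LinearEquiv.ofBijective (theta hS j Ta e₀ hN)
        (theta_bijective hxJ hS j Ta Tb e₀ hN (hsec N hN))).symm (theta hS j Ta e₀ hN w) = w := by
    intro N _ _ hN w
    exact (LinearEquiv.ofBijective (theta hS j Ta e₀ hN)
      (theta_bijective hxJ hS j Ta Tb e₀ hN (hsec N hN))).symm_apply_apply w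
  show (LinearEquiv.sumArrowLequivProdArrow ιa ιb A M').symm
      ((LinearEquiv.ofBijective (theta hS j Ta e₀ hM')
        (theta_bijective hxJ hS j Ta Tb e₀ hM' (hsec M' hM'))).symm
        (theta hS j Ta e₀ hM' (fun t => ψ (u t), fun t => ψ (m t)))) t =
    ψ ((LinearEquiv.sumArrowLequivProdArrow ιa ιb A M).symm
      ((LinearEquiv.ofBijective (theta hS j Ta e₀ hM)
        (theta_bijective hxJ hS j Ta Tb e₀ hM (hsec M hM))).symm
        (theta hS j Ta e₀ hM (u, m))) t)
  rw [h1 M' hM', h1 M hM]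
  cases t <;> rfl

theorem HasTrivN.stepZero {J : Ideal A} (hxJ : x ∈ J)
    (hS : (ModuleCat.smulShortComplex X x).ShortExact) {c : ℕ} (h : HasTrivN J X 0 c) :
    HasTrivN J (ModuleCat.of A (QuotSMulTop x X)) 0 c := by
  obtain ⟨ι, hι, hc, ⟨T⟩⟩ := h
  exact ⟨ι, hι, hc, ⟨T.stepZero hxJ hS⟩⟩

theorem HasTrivN.stepSucc {J : Ideal A} (hxJ : x ∈ J)
    (hS : (ModuleCat.smulShortComplex X x).ShortExact) {j a b : ℕ} (ha : HasTrivN J X j a)
    (hb : HasTrivN J X (j + 1) b) :
    HasTrivN J (ModuleCat.of A (QuotSMulTop x X)) (j + 1) (a + b) := by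
  obtain ⟨ιa, hιa, hca, ⟨Ta⟩⟩ := ha
  obtain ⟨ιb, hιb, hcb, ⟨Tb⟩⟩ := hb
  obtain ⟨T⟩ := Triv.stepSucc hxJ hS j Ta Tb
  exact ⟨ιa ⊕ ιb, inferInstance, by rw [Fintype.card_sum, hca, hcb], ⟨T⟩⟩

end step

section base

variable (J : Ideal A)

/-- `M ≃ (Unit → M)` -/
def constEquiv (M : Type u) [AddCommGroup M] [Module A M] : M ≃ₗ[A] (Unit → M) where
  toFun y := fun _ => y
  invFun g := g ()
  map_add' _ _ := rfl
  map_smul' _ _ := rfl
  left_inv _ := rfl
  right_inv _ := rfl

theorem linearEquiv₀_mk₀ {Y Z : ModuleCat.{u} A} (g : Y ⟶ Z) :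
    Ext.linearEquiv₀ (R := A) (Ext.mk₀ g) = g := by
  rw [← Ext.linearEquiv₀_symm_apply (R := A), LinearEquiv.apply_symm_apply]

noncomputable def trivBaseZero : Triv J (ModuleCat.of A A) 0 Unit where
  Φ M _ _ _ :=
    Ext.linearEquiv₀ ≪≫ₗ ModuleCat.homLinearEquiv ≪≫ₗ LinearMap.ringLmapEquivSelf A A M ≪≫ₗ
      constEquiv M
  nat M M' _ _ _ _ hM hM' ψ e t := by
    obtain ⟨f, rfl⟩ : ∃ f, e = Ext.mk₀ f :=
      ⟨Ext.linearEquiv₀ (R := A) e, (Ext.mk₀_linearEquiv₀_apply e).symm⟩
    show (Ext.linearEquiv₀ (R := A) (post _ 0 ψ (Ext.mk₀ f))).hom 1 =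
      ψ ((Ext.linearEquiv₀ (R := A) (Ext.mk₀ f)).hom 1)
    rw [post_apply, Ext.mk₀_comp_mk₀, linearEquiv₀_mk₀, linearEquiv₀_mk₀]
    rfl

noncomputable def trivBaseSucc (j : ℕ) : Triv J (ModuleCat.of A A) (j + 1) Empty where
  Φ M _ _ _ :=
    haveI : Projective (ModuleCat.of A A) := (IsProjective.iff_projective A).1 inferInstance
    haveI : Subsingleton (Ext (ModuleCat.of A A) (ModuleCat.of A M) (j + 1)) :=
      subsingleton_of_forall_eq 0 (fun e => Ext.eq_zero_of_projective e)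
    LinearEquiv.ofSubsingleton _ _
  nat M M' _ _ _ _ hM hM' ψ e t := t.elim

end base

theorem mainAux (J : Ideal A) (xs : List A) :
    ∀ (N : Type u) [AddCommGroup N] [Module A N], IsWeaklyRegular N xs → (∀ x ∈ xs, x ∈ J) →
      ∀ k : ℕ, (∀ j, HasTrivN J (ModuleCat.of A N) j (Nat.choose k j)) →
      ∀ j, HasTrivN J (ModuleCat.of A (N ⧸ (Ideal.ofList xs • ⊤ : Submodule A N))) j
        (Nat.choose (k + xs.length) j) := by
  induction xs with
  | nil =>
    intro N _ _ _ _ k h j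
    have hbot : (Ideal.ofList ([] : List A) • ⊤ : Submodule A N) = ⊥ := by
      rw [Ideal.ofList_nil, Submodule.bot_smul]
    let eI : ModuleCat.of A (N ⧸ (Ideal.ofList ([] : List A) • ⊤ : Submodule A N)) ≅
        ModuleCat.of A N := (Submodule.quotEquivOfEqBot _ hbot).toModuleIso
    exact (h j).congrLeft eI.symm
  | cons x xs' ih =>
    intro N _ _ hreg hJ k h j
    rw [isWeaklyRegular_cons_iff] at hreg
    obtain ⟨hx, hreg'⟩ := hreg
    have hS : (ModuleCat.smulShortComplex (ModuleCat.of A N) x).ShortExact :=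
      IsSMulRegular.smulShortComplex_shortExact (M := ModuleCat.of A N) hx
    have hxJ : x ∈ J := hJ x List.mem_cons_self
    have h1 : ∀ j, HasTrivN J (ModuleCat.of A (QuotSMulTop x N)) j (Nat.choose (k + 1) j) := by
      intro j
      cases j with
      | zero =>
        have h0 := h 0
        rw [Nat.choose_zero_right] at h0 ⊢
        exact h0.stepZero hxJ hS
      | succ j =>
        rw [Nat.choose_succ_succ]
        exact HasTrivN.stepSucc hxJ hS (h j) (h (j + 1))
    have h2 := ih (QuotSMulTop x N) hreg' (fun y hy => hJ y (List.mem_cons_of_mem _ hy))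
      (k + 1) h1 j
    let eN : ModuleCat.of A (N ⧸ (Ideal.ofList (x :: xs') • ⊤ : Submodule A N)) ≅
        ModuleCat.of A (QuotSMulTop x N ⧸
          (Ideal.ofList xs' • ⊤ : Submodule A (QuotSMulTop x N))) :=
      (Submodule.quotOfListConsSMulTopEquivQuotSMulTopInner N x xs').toModuleIso
    have hk : k + (x :: xs').length = k + 1 + xs'.length := by
      rw [List.length_cons]
      omega
    rw [hk]
    exact h2.congrLeft eN.symm

theorem main5666 (A : Type u) [CommRing A] (xs : List A) (hreg : RingTheory.Sequence.IsWeaklyRegular A xs) (M : Type u) [AddCommGroup M] [Module A M] (hJM : Ideal.ofList xs • (⊤ : Submodule A M) = ⊥) (i : ℕ) : Nonempty (Abelian.Ext (ModuleCat.of A (A ⧸ Ideal.ofList xs)) (ModuleCat.of A M) i ≃ₗ[A] (Fin (xs.length.choose i) → M)) := by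
  have hM : Killed (Ideal.ofList xs) M := by
    intro a ha m
    have h1 : a • m ∈ (Ideal.ofList xs • (⊤ : Submodule A M)) :=
      Submodule.smul_mem_smul ha Submodule.mem_top
    rw [hJM] at h1
    exact (Submodule.mem_bot A).1 h1
  have hbase : ∀ j, HasTrivN (Ideal.ofList xs) (ModuleCat.of A A) j (Nat.choose 0 j) := by
    intro j
    cases j with
    | zero => exact ⟨Unit, inferInstance, by simp, ⟨trivBaseZero _⟩⟩
    | succ j => exact ⟨Empty, inferInstance, by simp, ⟨trivBaseSucc _ j⟩⟩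
  have h := mainAux (Ideal.ofList xs) xs A hreg (fun x hx => Ideal.subset_span hx) 0 hbase i
  rw [zero_add] at h
  have htop : (Ideal.ofList xs • ⊤ : Submodule A A) = Ideal.ofList xs := by
    rw [smul_eq_mul, Ideal.mul_top]
  let eA : ModuleCat.of A (A ⧸ Ideal.ofList xs) ≅
      ModuleCat.of A (A ⧸ (Ideal.ofList xs • ⊤ : Submodule A A)) :=
    (Submodule.quotEquivOfEq _ _ htop.symm).toModuleIso
  obtain ⟨ι, _, hc, ⟨T⟩⟩ := h.congrLeft eA.symm
  exact ⟨(T.Φ M hM).trans (LinearEquiv.funCongrLeft A M (Fintype.equivFinOfCardEq hc).symm)⟩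

end Groth.Agent.Helper17.EK
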