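import Mathlib
import Groth.Agent.Lib.Helper17.EL1
import Groth.Agent.Lib.Helper8.Gor3
import Groth.Agent.Lib.Helper8.Canon10
import Groth.Agent.Lib.Helper8.LCTop
import Groth.Agent.Lib.Lead.Depth2

/-!
# Local duality over a regular local ring as a vanishing criterion, and propagation of
non-vanishing of local cohomology along immediate specializations (helper17)
-/

set_option autoImplicit false
universe u

namespace Groth.Agent.Helper17.EL

open CategoryTheory Abelian IsLocalRing Groth.Agent.Helper8 Groth.Agent.Helper8.LC
  Groth.Agent.Helper8.Canon Groth.Agent.Helper8.Gor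

/-- Local duality over a regular local ring of dimension `r`, as a vanishing criterion:
`H^i_m(M) = 0` iff (`i ≤ r` implies `Ext^{r-i}(M, A) = 0`). -/
theorem H_subsingleton_iff_ext (A : Type u) [CommRing A] [IsRegularLocalRing A] (r : ℕ)
    (hr : ringKrullDim A = r) (M : Type u) [AddCommGroup M] [Module A M] [Module.Finite A M]
    (i : ℕ) :
    Subsingleton (LocCoh.H (maximalIdeal A) i M) ↔
      (i ≤ r → Subsingleton (Abelian.Ext (ModuleCat.of A M) (ModuleCat.of A A) (r - i))) := by
  rcases Nat.lt_or_ge r i with hlt | hle
  · constructor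
    · intro _ h; omega
    · intro _
      exact H_subsingleton_of_ringKrullDim_lt (maximalIdeal A) r hr M i hlt
  · obtain ⟨E, _, _, f, hf⟩ := Groth.Agent.Helper1.exists_injectiveHull (R := A) (ResidueField A)
    haveI hG := Groth.Agent.Lead.Depth.isGorensteinLocalRing_of_isRegularLocalRing A
    haveI hCM := Groth.Agent.Lead.Depth.isCohenMacaulayLocalRing_of_isGorensteinLocalRing A
    have hhi := Groth.Agent.Lead.Depth.gorenstein_ext_residueField_subsingleton (R := A) r hr
      (r + 1) le_rfl
    obtain ⟨e⟩ := nonempty_H_equiv_hull hr hf hhi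
    have eK : (A →ₗ[A] E) ≃ₗ[A] LocCoh.H (maximalIdeal A) r A :=
      LinearMap.ringLmapEquivSelf A A E ≪≫ₗ e.symm
    obtain ⟨e2⟩ := local_duality_aux hr hf eK (r - i) i (by omega) M
    constructor
    · intro h _
      have h1 : Subsingleton (Abelian.Ext (ModuleCat.of A M) (ModuleCat.of A A) (r - i) →ₗ[A] E) :=
        e2.symm.toEquiv.subsingleton
      exact subsingleton_of_dual_subsingleton hf _ h1
    · intro h
      have h1 := h hle
      have h2 : Subsingleton (Abelian.Ext (ModuleCat.of A M) (ModuleCat.of A A) (r - i) →ₗ[A] E) :=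
        ⟨fun a b => LinearMap.ext fun x => by rw [Subsingleton.elim x 0, map_zero, map_zero]⟩
      exact e2.toEquiv.subsingleton

/-- **Propagation along an immediate specialization** in a regular ring: for primes `P ≤ Q` with
`ht Q = ht P + 1`, vanishing of `H^{j+1}` of `M_Q` implies vanishing of `H^j` of `M_P`. -/
theorem H_subsingleton_of_succ (R : Type u) [CommRing R] [IsRegularRing R] (P Q : Ideal R)
    [hP : P.IsPrime] [hQ : Q.IsPrime] (hPQ : P ≤ Q) (hht : Q.height = P.height + 1)
    (M : Type u) [AddCommGroup M] [Module R M] [Module.Finite R M] (j : ℕ)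
    (h : Subsingleton (LocCoh.H (maximalIdeal (Localization.AtPrime Q)) (j + 1)
      (LocalizedModule Q.primeCompl M))) :
    Subsingleton (LocCoh.H (maximalIdeal (Localization.AtPrime P)) j
      (LocalizedModule P.primeCompl M)) := by
  -- heights
  have hPfin : P.height ≠ ⊤ := Ideal.height_ne_top hP.ne_top
  obtain ⟨rP, hrP⟩ := ENat.ne_top_iff_exists.mp hPfin
  have hrQ : Q.height = ((rP + 1 : ℕ) : ℕ∞) := by rw [hht, ← hrP]; rfl
  have hdimP : ringKrullDim (Localization.AtPrime P) = (rP : ℕ) := by
    rw [IsLocalization.AtPrime.ringKrullDim_eq_height P (Localization.AtPrime P), ← hrP]; rfl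
  have hdimQ : ringKrullDim (Localization.AtPrime Q) = ((rP + 1 : ℕ) : ℕ) := by
    rw [IsLocalization.AtPrime.ringKrullDim_eq_height Q (Localization.AtPrime Q), hrQ]; rfl
  have hle : Q.primeCompl ≤ P.primeCompl := fun x hx hxP => hx (hPQ hxP)
  -- the ring map `R_Q → R_P`
  let φ : Localization.AtPrime Q →+* Localization.AtPrime P :=
    IsLocalization.lift (M := Q.primeCompl) (g := algebraMap R (Localization.AtPrime P))
      (fun y => IsLocalization.map_units (Localization.AtPrime P) (⟨y.1, hle y.2⟩ : P.primeCompl))
  letI : Algebra (Localization.AtPrime Q) (Localization.AtPrime P) := φ.toAlgebra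
  have htower : IsScalarTower R (Localization.AtPrime Q) (Localization.AtPrime P) :=
    IsScalarTower.of_algebraMap_eq (fun x => (IsLocalization.lift_eq _ x).symm)
  have hloc : IsLocalization (Algebra.algebraMapSubmonoid (Localization.AtPrime Q) P.primeCompl)
      (Localization.AtPrime P) :=
    IsLocalization.isLocalization_of_submonoid_le (Localization.AtPrime Q) (Localization.AtPrime P)
      Q.primeCompl P.primeCompl hle
  -- module structures
  letI : Module (Localization.AtPrime Q) (LocalizedModule P.primeCompl M) :=
    Module.compHom _ φ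
  have hsm : ∀ (b : Localization.AtPrime Q) (n : LocalizedModule P.primeCompl M),
      b • n = φ b • n := fun _ _ => rfl
  have ht1 : IsScalarTower (Localization.AtPrime Q) (Localization.AtPrime P)
      (LocalizedModule P.primeCompl M) := ⟨fun b b' n => by
    rw [hsm, Algebra.smul_def, mul_smul]; rfl⟩
  have ht2 : IsScalarTower R (Localization.AtPrime Q) (LocalizedModule P.primeCompl M) :=
    ⟨fun r b n => by
      have h1 : φ (algebraMap R (Localization.AtPrime Q) r) =
          algebraMap R (Localization.AtPrime P) r := IsLocalization.lift_eq _ r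
      rw [hsm, hsm, Algebra.smul_def, map_mul, h1, mul_smul, algebraMap_smul]⟩
  -- the localization map `M_Q → M_P`
  let f₀ : LocalizedModule Q.primeCompl M →ₗ[R] LocalizedModule P.primeCompl M :=
    IsLocalizedModule.liftOfLE Q.primeCompl P.primeCompl hle
      (LocalizedModule.mkLinearMap Q.primeCompl M) (LocalizedModule.mkLinearMap P.primeCompl M)
  let f : LocalizedModule Q.primeCompl M →ₗ[Localization.AtPrime Q] LocalizedModule P.primeCompl M :=
    LinearMap.extendScalarsOfIsLocalization Q.primeCompl (Localization.AtPrime Q) f₀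
  have hf₀ : IsLocalizedModule P.primeCompl (f.restrictScalars R) :=
    inferInstanceAs (IsLocalizedModule P.primeCompl f₀)
  have hf : IsLocalizedModule (Algebra.algebraMapSubmonoid (Localization.AtPrime Q) P.primeCompl) f :=
    IsLocalizedModule.of_restrictScalars P.primeCompl f
  -- duality
  have hfinQ : Module.Finite (Localization.AtPrime Q) (LocalizedModule Q.primeCompl M) :=
    Module.Finite.of_isLocalizedModule Q.primeCompl (LocalizedModule.mkLinearMap Q.primeCompl M)
  have hfinP : Module.Finite (Localization.AtPrime P) (LocalizedModule P.primeCompl M) :=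
    Module.Finite.of_isLocalizedModule P.primeCompl (LocalizedModule.mkLinearMap P.primeCompl M)
  rw [H_subsingleton_iff_ext _ rP hdimP]
  intro hj
  rw [H_subsingleton_iff_ext _ (rP + 1) hdimQ] at h
  have h1 := h (by omega)
  have h2 : rP + 1 - (j + 1) = rP - j := by omega
  rw [h2] at h1
  have hg : IsLocalizedModule (Algebra.algebraMapSubmonoid (Localization.AtPrime Q) P.primeCompl)
      (Algebra.linearMap (Localization.AtPrime Q) (Localization.AtPrime P)) := inferInstance
  exact ext_subsingleton_localization
    (Algebra.algebraMapSubmonoid (Localization.AtPrime Q) P.primeCompl) (Localization.AtPrime P)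
    (Algebra.linearMap (Localization.AtPrime Q) (Localization.AtPrime P)) (rP - j)
    (LocalizedModule Q.primeCompl M) (LocalizedModule P.primeCompl M) f h1

end Groth.Agent.Helper17.EL
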