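import Mathlib
import Groth.Agent.Lib.Helper17.FA6
import Groth.Agent.S11653
import Groth.Agent.S11659
import Groth.Agent.Lib.Helper8.LCArt
import Groth.Agent.Lib.Helper8.LCVanish

/-!
# Consequences of Faltings' annihilator theorem: finite length of `H^i_m(M)` (helper17)
-/

set_option autoImplicit false

universe u

namespace Groth.Agent.Helper17.FA

open Groth.Agent.Helper8.LC Groth.Agent.Lead IsLocalRing

theorem isRegularRing_of_isRegularLocalRing (R : Type u) [CommRing R] [IsRegularLocalRing R] :
    IsRegularRing R :=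
  { isRegularLocalRing_localization := fun p _ => Hom.isRegularLocalRing_localization p }

theorem isFiniteLength_of_isArtinian_of_pow_smul {A : Type u} [CommRing A] [IsLocalRing A]
    [IsNoetherianRing A] (H : Type u) [AddCommGroup H] [Module A H] [IsArtinian A H] (k : ℕ)
    (hk : ∀ a ∈ maximalIdeal A ^ k, ∀ h : H, a • h = 0) : IsFiniteLength A H := by
  set J := maximalIdeal A ^ k with hJ
  have hfl : IsFiniteLength A (A ⧸ J) := Groth.Agent.Helper8.Matlis.isFiniteLength_quotient_pow k
  have hart : IsArtinian A (A ⧸ J) := (isFiniteLength_iff_isNoetherian_isArtinian.mp hfl).2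
  have hartB : IsArtinianRing (A ⧸ J) := isArtinian_of_tower A hart
  have hTors : Module.IsTorsionBySet A H (J : Set A) := fun h a => hk a.1 a.2 h
  let _ : Module (A ⧸ J) H := hTors.module
  have : IsScalarTower A (A ⧸ J) H := hTors.isScalarTower
  have hartH : IsArtinian (A ⧸ J) H := isArtinian_of_tower A inferInstance
  have hfin : Module.Finite (A ⧸ J) H := ((IsArtinianRing.tfae (A ⧸ J) H).out 2 0).mp hartH
  have : Module.Finite A H := Module.Finite.trans (A ⧸ J) H
  have : IsNoetherian A H := isNoetherian_of_isNoetherianRing_of_finite A H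
  exact isFiniteLength_iff_isNoetherian_isArtinian.mpr ⟨inferInstance, inferInstance⟩

/-- `n < f_a^b(M)` iff `b ⊆ √Ann H^i_a(M)` for all `i ≤ n` -/
theorem lt_finDimRel_iff {R : Type u} [CommRing R] (a b : Ideal R) (M : Type u) [AddCommGroup M]
    [Module R M] (n : ℕ) :
    (n : ℕ∞) < LocCoh.finDimRel a b M ↔
      ∀ i : ℕ, i ≤ n → b ≤ (Module.annihilator R (LocCoh.H a i M)).radical := by
  unfold LocCoh.finDimRel
  constructor
  · intro h i hi
    by_contra hcon
    have h1 : (⨅ (i : ℕ) (_ : ¬ b ≤ (Module.annihilator R (LocCoh.H a i M)).radical), (i : ℕ∞)) ≤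
        (i : ℕ∞) := iInf₂_le i hcon
    have h2 : (n : ℕ∞) < (i : ℕ∞) := lt_of_lt_of_le h h1
    have h3 : n < i := by exact_mod_cast h2
    omega
  · intro h
    have h1 : ((n + 1 : ℕ) : ℕ∞) ≤
        ⨅ (i : ℕ) (_ : ¬ b ≤ (Module.annihilator R (LocCoh.H a i M)).radical), (i : ℕ∞) := by
      refine le_iInf₂ fun i hi => ?_
      have : n + 1 ≤ i := by
        by_contra hlt
        exact hi (h i (by omega))
      exact_mod_cast this
    refine lt_of_lt_of_le ?_ h1
    exact_mod_cast Nat.lt_succ_self n

theorem main5167 (R : Type u) [CommRing R] [IsRegularLocalRing R] (A : Type u) [CommRing A]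
    [IsLocalRing A] [IsNoetherianRing A] (π : R →+* A) (hπ : Function.Surjective π) (M : Type u)
    [AddCommGroup M] [Module A M] [Module.Finite A M] (n : ℕ) :
    (∀ i : ℕ, i ≤ n → IsFiniteLength A (LocCoh.H (IsLocalRing.maximalIdeal A) i M)) ↔
      ∀ p : PrimeSpectrum A, p.asIdeal ≠ IsLocalRing.maximalIdeal A → ∀ e : ℕ,
        ringKrullDim (A ⧸ p.asIdeal) = e → (n : ℕ∞) <
          LocCoh.depth (Localization.AtPrime p.asIdeal)
            (LocalizedModule p.asIdeal.primeCompl M) + e := by
  have hreg : IsRegularRing R := isRegularRing_of_isRegularLocalRing R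
  set m := maximalIdeal A with hm
  have hnotle : ∀ p : PrimeSpectrum A, p.asIdeal ≠ m → ¬ m ≤ p.asIdeal := by
    intro p hp hle
    exact hp ((le_maximalIdeal p.2.ne_top).antisymm hle)
  have hadj : ∀ (p : PrimeSpectrum A) (e : ℕ), ringKrullDim (A ⧸ p.asIdeal) = e →
      LocCoh.adjDepth m M p = LocCoh.depth (Localization.AtPrime p.asIdeal)
        (LocalizedModule p.asIdeal.primeCompl M) + e := by
    intro p e he
    unfold LocCoh.adjDepth
    have h4 := Groth.Agent.S11659.height_map_maximalIdeal p.asIdeal
    rw [he] at h4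
    have h5 : ((m ⊔ p.asIdeal).map (Ideal.Quotient.mk p.asIdeal)).height = (e : ℕ∞) := by
      exact_mod_cast h4
    rw [h5]
  constructor
  · intro hfl p hp e he
    have h1 : (n : ℕ∞) < LocCoh.finDimRel m m M := by
      rw [lt_finDimRel_iff]
      intro i hi
      have hfl' := hfl i hi
      have hnoeth : IsNoetherian A (LocCoh.H m i M) :=
        (isFiniteLength_iff_isNoetherian_isArtinian.mp hfl').1
      have hfg : (⊤ : Submodule A (LocCoh.H m i M)).FG := Module.Finite.fg_top
      have htors : IsTors m (LocCoh.H m i M) := fun x => H_exists_pow_smul_eq_zero m i M x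
      obtain ⟨k, hk⟩ := htors.exists_pow_of_fg m hfg
      rw [le_radical_iff_exists_pow_le]
      exact ⟨k, fun a ha => Module.mem_annihilator.mpr (hk a ha)⟩
    have h2 := Groth.Agent.S11653.result A m m M
    have h3 : LocCoh.minAdjDepth m m M ≤ LocCoh.adjDepth m M p := iInf₂_le p (hnotle p hp)
    rw [← hadj p e he]
    exact lt_of_lt_of_le h1 (h2.trans h3)
  · intro hdepth i hi
    have h1 : (n : ℕ∞) < LocCoh.minAdjDepth m m M := by
      have h2 : ((n + 1 : ℕ) : ℕ∞) ≤ LocCoh.minAdjDepth m m M := by
        refine le_iInf₂ fun p hp => ?_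
        have hpm : p.asIdeal ≠ m := by
          intro h
          exact hp h.ge
        have hfin : ((m ⊔ p.asIdeal).map (Ideal.Quotient.mk p.asIdeal)).height ≠ ⊤ := by
          apply Ideal.height_ne_top
          intro htop
          have h5 : (m ⊔ p.asIdeal) = ⊤ := by
            have h6 := Ideal.comap_map_of_surjective (Ideal.Quotient.mk p.asIdeal)
              Ideal.Quotient.mk_surjective (m ⊔ p.asIdeal)
            rw [htop, Ideal.comap_top, ← RingHom.ker_eq_comap_bot, Ideal.mk_ker, sup_assoc,
              sup_idem] at h6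
            exact h6.symm
          rw [sup_eq_left.mpr (le_maximalIdeal p.2.ne_top)] at h5
          exact (maximalIdeal.isMaximal A).ne_top h5
        obtain ⟨e, he⟩ := ENat.ne_top_iff_exists.mp hfin
        have hdim : ringKrullDim (A ⧸ p.asIdeal) = (e : ℕ) := by
          rw [← Groth.Agent.S11659.height_map_maximalIdeal p.asIdeal, ← he]
          rfl
        rw [hadj p e hdim]
        have := hdepth p hpm e hdim
        exact Order.add_one_le_of_lt this
      refine lt_of_lt_of_le ?_ h2
      exact_mod_cast Nat.lt_succ_self n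
    have h2 : (n : ℕ∞) < LocCoh.finDimRel m m M :=
      lt_of_lt_of_le h1 (main11660 R A π hπ m m M)
    rw [lt_finDimRel_iff] at h2
    have h3 := h2 i hi
    rw [le_radical_iff_exists_pow_le] at h3
    obtain ⟨k, hk⟩ := h3
    have hart : IsArtinian A (LocCoh.H m i M) := isArtinian_H_maximalIdeal i M
    exact isFiniteLength_of_isArtinian_of_pow_smul (LocCoh.H m i M) k
      (fun a ha h => Module.mem_annihilator.mp (hk ha) h)

end Groth.Agent.Helper17.FA
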