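import Mathlib
import Groth.Agent.Lib.Helper17.FA1
import Groth.Agent.Lib.Helper8.LCFalt4
import Groth.Agent.Lib.Lead.Depth20

/-!
# The codimension-one reduction for adjusted depths (helper17)
-/

set_option autoImplicit false

universe u

namespace Groth.Agent.Helper17.FA

open Groth.Agent.Helper8.LC Groth.Agent.Lead

variable {R : Type u} [CommRing R] [IsNoetherianRing R]

/-- `ht((I+p)/p) ≥ 1` when `I ⊄ p` -/
theorem one_le_height_map_of_not_le (I p : Ideal R) [hp : p.IsPrime] (hI : ¬ I ≤ p) :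
    1 ≤ ((I ⊔ p).map (Ideal.Quotient.mk p)).height := by
  have : IsDomain (R ⧸ p) := Ideal.Quotient.isDomain p
  rw [Order.one_le_iff_ne_zero]
  intro h
  rw [Ideal.height_eq_zero_iff_eq_bot, Ideal.map_eq_bot_iff_le_ker, Ideal.mk_ker] at h
  exact hI (le_sup_left.trans h)

/-- the core induction -/
theorem lt_adjDepth_of_codim_one (I : Ideal R) (M : Type u) [AddCommGroup M] [Module R M]
    [Module.Finite R M] (n : ℕ)
    (h1 : ∀ (p : Ideal R) [p.IsPrime], ¬ I ≤ p → ((I ⊔ p).map (Ideal.Quotient.mk p)).height = 1 →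
      (n : ℕ∞) ≤ LocCoh.depth (Localization.AtPrime p) (LocalizedModule p.primeCompl M)) :
    ∀ (t : ℕ) (p : Ideal R) [p.IsPrime], ¬ I ≤ p →
      ((I ⊔ p).map (Ideal.Quotient.mk p)).height = t →
      (n : ℕ∞) < LocCoh.depth (Localization.AtPrime p) (LocalizedModule p.primeCompl M) + t := by
  intro t
  induction t using Nat.strong_induction_on with
  | _ t ih =>
    intro p _ hIp ht
    have hone := one_le_height_map_of_not_le I p hIp
    rw [ht] at hone
    have ht1 : 1 ≤ t := by exact_mod_cast hone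
    rcases Nat.lt_or_ge t 2 with hlt | hge
    · have ht' : t = 1 := by omega
      subst ht'
      have h2 := h1 p hIp (by rw [ht]; rfl)
      refine lt_of_lt_of_le ?_ (add_le_add h2 le_rfl)
      exact_mod_cast Nat.lt_succ_self n
    · obtain ⟨q₁, hq₁, hpq₁, hIq₁, hht1, t', ht', hht'⟩ := exists_prime_moving I I p hIp t hge ht
      have h2 := ih t' (by omega) q₁ hIq₁ hht'
      have h3 := Depth.depth_localizedModule_le_add_height p q₁ hpq₁ M
      rw [hht1] at h3
      calc (n : ℕ∞) < LocCoh.depth (Localization.AtPrime q₁)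
            (LocalizedModule q₁.primeCompl M) + t' := h2
        _ ≤ (LocCoh.depth (Localization.AtPrime p) (LocalizedModule p.primeCompl M) + 1) + t' :=
            add_le_add h3 le_rfl
        _ = LocCoh.depth (Localization.AtPrime p) (LocalizedModule p.primeCompl M) +
              ((1 + t' : ℕ) : ℕ∞) := by push_cast; rw [add_assoc]
        _ ≤ LocCoh.depth (Localization.AtPrime p) (LocalizedModule p.primeCompl M) + t := by
            refine add_le_add le_rfl ?_
            exact_mod_cast (by omega : 1 + t' ≤ t)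

/-- **Codimension-one reduction**: `n < λ_I^I(M)` iff `depth M_p ≥ n` at the primes `p ⊉ I` with
`ht((I+p)/p) = 1`. -/
theorem lt_minAdjDepth_iff_codim_one (I : Ideal R) (M : Type u) [AddCommGroup M] [Module R M]
    [Module.Finite R M] (n : ℕ) :
    (n : ℕ∞) < LocCoh.minAdjDepth I I M ↔
      ∀ (p : Ideal R) [p.IsPrime], ¬ I ≤ p →
        ((I ⊔ p).map (Ideal.Quotient.mk p)).height = 1 →
        (n : ℕ∞) ≤ LocCoh.depth (Localization.AtPrime p) (LocalizedModule p.primeCompl M) := by
  constructor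
  · intro h p hp hIp ht
    have h1 : LocCoh.minAdjDepth I I M ≤ LocCoh.adjDepth I M ⟨p, hp⟩ :=
      iInf₂_le (⟨p, hp⟩ : PrimeSpectrum R) hIp
    have h2 : (n : ℕ∞) < LocCoh.adjDepth I M ⟨p, hp⟩ := lt_of_lt_of_le h h1
    unfold LocCoh.adjDepth at h2
    change (n : ℕ∞) < _ + ((I ⊔ p).map (Ideal.Quotient.mk p)).height at h2
    rw [ht] at h2
    exact Order.le_of_lt_add_one h2
  · intro h
    have h2 : ((n + 1 : ℕ) : ℕ∞) ≤ LocCoh.minAdjDepth I I M := by
      refine le_iInf₂ fun p hp => ?_
      unfold LocCoh.adjDepth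
      by_cases htop : ((I ⊔ p.asIdeal).map (Ideal.Quotient.mk p.asIdeal)).height = ⊤
      · rw [htop, add_top]
        exact le_top
      · obtain ⟨t, ht⟩ := ENat.ne_top_iff_exists.mp htop
        have := lt_adjDepth_of_codim_one I M n (fun p _ => h p) t p.asIdeal hp ht.symm
        rw [← ht]
        exact Order.add_one_le_of_lt this
    refine lt_of_lt_of_le ?_ h2
    exact_mod_cast Nat.lt_succ_self n

omit [IsNoetherianRing R] in
theorem covBy_of_height_map_eq_one (p q : Ideal R) [hp : p.IsPrime] [hq : q.IsPrime] (hpq : p ≤ q)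
    (h : (q.map (Ideal.Quotient.mk p)).height = 1) :
    (⟨p, hp⟩ : PrimeSpectrum R) ⋖ ⟨q, hq⟩ := by
  have hne : p ≠ q := by
    intro heq
    subst heq
    have : Nontrivial (R ⧸ p) := Ideal.Quotient.nontrivial_iff.mpr hp.ne_top
    rw [Ideal.map_quotient_self, Ideal.height_bot] at h
    exact absurd h (by simp)
  refine ⟨lt_of_le_of_ne hpq (fun h' => hne (congrArg PrimeSpectrum.asIdeal h')), ?_⟩
  intro Q hpQ hQq
  have hQprime : Q.asIdeal.IsPrime := Q.2
  rcases eq_or_eq_of_le_of_le_of_height_one p q Q.asIdeal h hpQ.le hQq.le with h1 | h1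
  · exact hpQ.ne (PrimeSpectrum.ext h1.symm)
  · exact hQq.ne (PrimeSpectrum.ext h1)

omit [IsNoetherianRing R] in
theorem height_map_eq_one_of_covBy (p q : PrimeSpectrum R) (h : p ⋖ q) :
    (q.asIdeal.map (Ideal.Quotient.mk p.asIdeal)).height = 1 := by
  have : IsDomain (R ⧸ p.asIdeal) := Ideal.Quotient.isDomain p.asIdeal
  have hpq : p.asIdeal ≤ q.asIdeal := h.1.le
  have hker : RingHom.ker (Ideal.Quotient.mk p.asIdeal) ≤ q.asIdeal := by rw [Ideal.mk_ker]; exact hpq
  have hQprime : (q.asIdeal.map (Ideal.Quotient.mk p.asIdeal)).IsPrime :=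
    Ideal.map_isPrime_of_surjective Ideal.Quotient.mk_surjective hker
  apply le_antisymm
  · have h1 : (q.asIdeal.map (Ideal.Quotient.mk p.asIdeal)).height ≤ ((1 : ℕ) : ℕ∞) := by
      rw [Ideal.height_le_iff]
      intro Q' hQ' hlt
      have hq'prime : (Q'.comap (Ideal.Quotient.mk p.asIdeal)).IsPrime := Ideal.comap_isPrime _ _
      have hmapcomap : (Q'.comap (Ideal.Quotient.mk p.asIdeal)).map (Ideal.Quotient.mk p.asIdeal) = Q' :=
        Ideal.map_comap_of_surjective _ Ideal.Quotient.mk_surjective Q'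
      have hpq' : p.asIdeal ≤ Q'.comap (Ideal.Quotient.mk p.asIdeal) := by
        intro x hx
        rw [Ideal.mem_comap, Ideal.Quotient.eq_zero_iff_mem.mpr hx]
        exact Q'.zero_mem
      have hq'q : Q'.comap (Ideal.Quotient.mk p.asIdeal) ≤ q.asIdeal := by
        have h2 := Ideal.comap_mono (f := Ideal.Quotient.mk p.asIdeal) hlt.le
        rw [Ideal.comap_map_of_surjective _ Ideal.Quotient.mk_surjective,
          ← RingHom.ker_eq_comap_bot, Ideal.mk_ker, sup_eq_left.mpr hpq] at h2
        exact h2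
      have hq'ne : Q'.comap (Ideal.Quotient.mk p.asIdeal) ≠ q.asIdeal := by
        intro heq
        rw [← hmapcomap, heq] at hlt
        exact lt_irrefl _ hlt
      have hq'p : Q'.comap (Ideal.Quotient.mk p.asIdeal) = p.asIdeal := by
        by_contra hne
        have h3 : p < (⟨Q'.comap (Ideal.Quotient.mk p.asIdeal), hq'prime⟩ : PrimeSpectrum R) :=
          lt_of_le_of_ne hpq' (fun h' => hne (congrArg PrimeSpectrum.asIdeal h').symm)
        have h4 : (⟨Q'.comap (Ideal.Quotient.mk p.asIdeal), hq'prime⟩ : PrimeSpectrum R) < q :=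
          lt_of_le_of_ne hq'q (fun h' => hq'ne (congrArg PrimeSpectrum.asIdeal h'))
        exact h.2 h3 h4
      rw [← hmapcomap, hq'p, Ideal.map_quotient_self, Ideal.height_bot]
      exact_mod_cast Nat.zero_lt_one
    exact_mod_cast h1
  · rw [Order.one_le_iff_ne_zero]
    intro h0
    rw [Ideal.height_eq_zero_iff_eq_bot, Ideal.map_eq_bot_iff_le_ker, Ideal.mk_ker] at h0
    exact h.1.ne (PrimeSpectrum.ext (le_antisymm hpq h0))

end Groth.Agent.Helper17.FA
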