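import Mathlib
import Groth.Agent.Lib.Helper17.FA8
import Groth.Agent.Lib.Helper17.FA9
import Groth.Agent.S0329

/-!
# Finiteness of local cohomology in terms of depth at codimension-one primes (helper17)
-/

set_option autoImplicit false

universe u

namespace Groth.Agent.Helper17.FA

open Groth.Agent.Helper8.LC Groth.Agent.Lead

/-- finiteness up to degree `n` iff `I ⊆ √Ann` up to degree `n` -/
theorem finite_iff_le_radical_annihilator {A : Type u} [CommRing A] [IsNoetherianRing A]
    (I : Ideal A) (M : Type u) [AddCommGroup M] [Module A M] [Module.Finite A M] (n : ℕ) :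
    (∀ i : ℕ, i ≤ n → Module.Finite A (LocCoh.H I i M)) ↔
      ∀ i : ℕ, i ≤ n → I ≤ (Module.annihilator A (LocCoh.H I i M)).radical := by
  rw [Groth.Agent.S0329.result A I M n]
  constructor
  · rintro ⟨J, hJ, hkill⟩ i hi
    refine hJ.trans (Ideal.radical_mono ?_)
    intro a ha
    exact Module.mem_annihilator.mpr (hkill i hi a ha)
  · intro h
    have hex : ∀ i : ℕ, ∃ k : ℕ, i ≤ n → I ^ k ≤ Module.annihilator A (LocCoh.H I i M) := by
      intro i
      by_cases hi : i ≤ n
      · obtain ⟨k, hk⟩ := (le_radical_iff_exists_pow_le _ _).mp (h i hi)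
        exact ⟨k, fun _ => hk⟩
      · exact ⟨0, fun h' => absurd h' hi⟩
    choose k hk using hex
    set K := (Finset.range (n + 1)).sup k with hK
    refine ⟨I ^ (K + 1), ?_, fun i hi a ha x => ?_⟩
    · rw [Ideal.radical_pow I (Nat.succ_ne_zero K)]
      exact Ideal.le_radical
    · have hle : k i ≤ K + 1 :=
        (Finset.le_sup (f := k) (Finset.mem_range.mpr (by omega))).trans (Nat.le_succ K)
      exact Module.mem_annihilator.mp (hk i hi (Ideal.pow_le_pow_right hle ha)) x

theorem main2930 (R : Type u) [CommRing R] [IsRegularRing R] (A : Type u) [CommRing A]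
    [IsNoetherianRing A] (π : R →+* A) (hπ : Function.Surjective π) (I : Ideal A) (M : Type u)
    [AddCommGroup M] [Module A M] [Module.Finite A M] (n : ℕ) :
    (∀ i : ℕ, i ≤ n → Module.Finite A (LocCoh.H I i M)) ↔
      ∀ p q : PrimeSpectrum A, ¬ I ≤ p.asIdeal → I ≤ q.asIdeal → p ⋖ q →
        (n : ℕ∞) ≤ LocCoh.depth (Localization.AtPrime p.asIdeal)
          (LocalizedModule p.asIdeal.primeCompl M) := by
  have heq : LocCoh.finDimRel I I M = LocCoh.minAdjDepth I I M :=
    le_antisymm (Groth.Agent.S11653.result A I I M) (main11660 R A π hπ I I M)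
  rw [finite_iff_le_radical_annihilator, ← lt_finDimRel_iff, heq, lt_minAdjDepth_iff_codim_one]
  constructor
  · intro h p q hIp hIq hpq
    have hq1 := height_map_eq_one_of_covBy p q hpq
    have hle : ((I ⊔ p.asIdeal).map (Ideal.Quotient.mk p.asIdeal)).height ≤ 1 := by
      rw [← hq1]
      exact Ideal.height_mono (Ideal.map_mono (sup_le hIq hpq.1.le))
    have hge := one_le_height_map_of_not_le I p.asIdeal hIp
    exact h p.asIdeal hIp (le_antisymm hle hge)
  · intro h p hp hIp ht
    obtain ⟨q, hq, hqht⟩ := exists_minimalPrimes_height_eq I p 1 (by rw [ht]; rfl)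
    have hqprime : q.IsPrime := hq.1.1
    have hpq : p ≤ q := le_sup_right.trans hq.1.2
    have hIq : I ≤ q := le_sup_left.trans hq.1.2
    have hcov := covBy_of_height_map_eq_one p q hpq (by rw [hqht]; rfl)
    exact h ⟨p, hp⟩ ⟨q, hqprime⟩ hIp hIq hcov

end Groth.Agent.Helper17.FA
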