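import Mathlib
import Groth.Prelude.Def_SGA2
import Groth.Agent.Lib.Helper17.FA9

/-!
# `SGA2.relCodim` as an ideal height, and the codimension-one criterion (helper17)
-/

set_option autoImplicit false

universe u

namespace Groth.Agent.Helper17.FA

variable {A : Type u} [CommRing A]

/-- height of a point of `Set.Ici p` as a height in `A ⧸ p` -/
theorem height_Ici_eq (p q : PrimeSpectrum A) (hpq : p ≤ q) :
    Order.height (⟨q, hpq⟩ : Set.Ici p) =
      (q.asIdeal.map (Ideal.Quotient.mk p.asIdeal)).height := by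
  classical
  let e := Ideal.primeSpectrumQuotientOrderIsoZeroLocus p.asIdeal
  have hset : (PrimeSpectrum.zeroLocus (p.asIdeal : Set A)) = Set.Ici p := by
    ext x
    simp only [PrimeSpectrum.mem_zeroLocus, SetLike.coe_subset_coe, Set.mem_Ici]
    exact Iff.rfl
  let e2 : (PrimeSpectrum.zeroLocus (p.asIdeal : Set A)) ≃o Set.Ici p := OrderIso.setCongr _ _ hset
  have hq : q ∈ PrimeSpectrum.zeroLocus (p.asIdeal : Set A) := by
    rw [hset]; exact hpq
  have hprime : (q.asIdeal.map (Ideal.Quotient.mk p.asIdeal)).IsPrime := by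
    apply Ideal.map_isPrime_of_surjective Ideal.Quotient.mk_surjective
    rw [Ideal.mk_ker]; exact hpq
  let Q : PrimeSpectrum (A ⧸ p.asIdeal) := ⟨_, hprime⟩
  have hQ : e Q = ⟨q, hq⟩ := by
    apply Subtype.ext
    apply PrimeSpectrum.ext
    change (q.asIdeal.map (Ideal.Quotient.mk p.asIdeal)).comap (Ideal.Quotient.mk p.asIdeal) = _
    rw [Ideal.comap_map_of_surjective _ Ideal.Quotient.mk_surjective, ← RingHom.ker_eq_comap_bot,
      Ideal.mk_ker]
    exact sup_eq_left.mpr hpq
  have h1 : Order.height (⟨q, hpq⟩ : Set.Ici p) = Order.height (e2 (e Q)) := by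
    rw [hQ]; rfl
  rw [h1, Order.height_orderIso, Order.height_orderIso, ← PrimeSpectrum.height_eq_orderHeight]

theorem relCodim_eq (I : Ideal A) (p : PrimeSpectrum A) :
    SGA2.relCodim I p = ((I ⊔ p.asIdeal).map (Ideal.Quotient.mk p.asIdeal)).height := by
  unfold SGA2.relCodim
  apply le_antisymm
  · rw [Ideal.height_eq_inf_minimalPrimes]
    refine le_iInf₂ fun Q hQ => ?_
    have hQp : Q.IsPrime := hQ.1.1
    let q : PrimeSpectrum A := ⟨Q.comap (Ideal.Quotient.mk p.asIdeal), inferInstance⟩
    have hle : I ⊔ p.asIdeal ≤ q.asIdeal := by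
      rw [← Ideal.map_le_iff_le_comap]; exact hQ.1.2
    have hpq : p ≤ q := le_sup_right.trans hle
    have hIq : I ≤ q.asIdeal := le_sup_left.trans hle
    refine (iInf_le _ ⟨q, hpq, hIq⟩).trans ?_
    rw [height_Ici_eq]
    apply le_of_eq
    congr 1
    exact Ideal.map_comap_of_surjective _ Ideal.Quotient.mk_surjective Q
  · refine le_iInf fun ⟨q, hpq, hIq⟩ => ?_
    rw [height_Ici_eq]
    apply Ideal.height_mono
    apply Ideal.map_mono
    exact sup_le hIq hpq

theorem main5172 (R : Type u) [CommRing R] [IsRegularRing R] (A : Type u) [CommRing A]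
    [IsNoetherianRing A] (π : R →+* A) (hπ : Function.Surjective π) (I : Ideal A) (M : Type u)
    [AddCommGroup M] [Module A M] [Module.Finite A M] (n : ℕ) :
    (∀ p : PrimeSpectrum A, ¬ I ≤ p.asIdeal → (n : ℕ∞) < LocCoh.depth (Localization.AtPrime p.asIdeal) (LocalizedModule p.asIdeal.primeCompl M) + SGA2.relCodim I p) ↔ (∀ p : PrimeSpectrum A, ¬ I ≤ p.asIdeal → SGA2.relCodim I p = 1 → (n : ℕ∞) ≤ LocCoh.depth (Localization.AtPrime p.asIdeal) (LocalizedModule p.asIdeal.primeCompl M)) := by
  constructor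
  · intro h p hp h1
    have := h p hp
    rw [h1] at this
    exact Order.le_of_lt_add_one this
  · intro h p hp
    rw [relCodim_eq]
    rcases eq_or_ne ((I ⊔ p.asIdeal).map (Ideal.Quotient.mk p.asIdeal)).height ⊤ with htop | htop
    · rw [htop, add_top]
      exact ENat.natCast_lt_top n
    · obtain ⟨t, ht⟩ := ENat.ne_top_iff_exists.mp htop
      rw [← ht]
      refine lt_adjDepth_of_codim_one I M n ?_ t p.asIdeal hp ht.symm
      intro q hq hIq h1
      have := h ⟨q, hq⟩ hIq (by rw [relCodim_eq]; exact h1)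
      exact this

end Groth.Agent.Helper17.FA
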