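import Mathlib
import Groth.Agent.Lib.Helper17.FA10
import Groth.Agent.Lib.Helper17.FA11
import Groth.Agent.Lib.Helper14.CMCatenary
import Groth.Agent.Lib.Helper28.ReflDepth

/-!
# Finiteness of local cohomology for modules which are Cohen–Macaulay off `V(I)` (helper17)
-/

set_option autoImplicit false

universe u

namespace Groth.Agent.Helper17.FA

open Groth.Agent.Helper8.LC Groth.Agent.Lead IsLocalRing

/-- In a Noetherian ring with Cohen–Macaulay localizations: `ht Q ≤ ht(Q/P) + ht P`. -/
theorem height_le_height_map_add (S : Type u) [CommRing S] [IsNoetherianRing S]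
    (hCM : ∀ (q : Ideal S) [q.IsPrime], LocCoh.IsCohenMacaulayLocalRing (Localization.AtPrime q))
    (P Q : Ideal S) [hP : P.IsPrime] [hQ : Q.IsPrime] (hPQ : P ≤ Q) :
    Q.height ≤ (Q.map (Ideal.Quotient.mk P)).height + P.height := by
  have := hCM Q
  have hdisj : Disjoint (Q.primeCompl : Set S) (P : Set S) := by
    rw [Set.disjoint_left]
    intro x hx hxp
    exact hx (hPQ hxp)
  have hP'prime : (P.map (algebraMap S (Localization.AtPrime Q))).IsPrime :=
    IsLocalization.isPrime_of_isPrime_disjoint Q.primeCompl _ _ hP hdisj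
  have h1 := Groth.Agent.Helper14.CMCatenary.ringKrullDim_le_quotient_add_height
    (Localization.AtPrime Q) (P.map (algebraMap S (Localization.AtPrime Q))) hP'prime.ne_top
  rw [Depth.ringKrullDim_localization_quotient_map P Q hPQ,
    IsLocalization.AtPrime.ringKrullDim_eq_height Q (Localization.AtPrime Q),
    IsLocalization.height_map_of_disjoint Q.primeCompl P hdisj] at h1
  exact_mod_cast h1

/-- the chain inequality in a regular ring -/
theorem height_map_le_add_one_of_regular (S : Type u) [CommRing S] [IsRegularRing S]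
    (P0 P Q : Ideal S) [hP0 : P0.IsPrime] [hP : P.IsPrime] [hQ : Q.IsPrime] (h0 : P0 ≤ P)
    (hPQ : P ≤ Q) (h1 : (Q.map (Ideal.Quotient.mk P)).height = 1) :
    (Q.map (Ideal.Quotient.mk P0)).height ≤ (P.map (Ideal.Quotient.mk P0)).height + 1 := by
  have hCM : ∀ (q : Ideal S) [q.IsPrime],
      LocCoh.IsCohenMacaulayLocalRing (Localization.AtPrime q) := fun q _ =>
    (isCohenMacaulayRing_of_isRegularRing (R := S)).isCohenMacaulayLocalRing_localization q
  have e1 := height_add_height_map_le P0 Q (h0.trans hPQ)
  have e2 := height_le_height_map_add S hCM P Q hPQ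
  have e3 := height_le_height_map_add S hCM P0 P h0
  rw [h1] at e2
  have hfin : P0.height ≠ ⊤ := Ideal.height_ne_top hP0.ne_top
  -- ht P0 + ht(Q/P0) ≤ ht Q ≤ 1 + ht P ≤ 1 + ht(P/P0) + ht P0
  have e4 : P0.height + (Q.map (Ideal.Quotient.mk P0)).height ≤
      P0.height + ((P.map (Ideal.Quotient.mk P0)).height + 1) := by
    calc P0.height + (Q.map (Ideal.Quotient.mk P0)).height ≤ Q.height := e1
      _ ≤ 1 + P.height := e2
      _ ≤ 1 + ((P.map (Ideal.Quotient.mk P0)).height + P0.height) := add_le_add le_rfl e3
      _ = P0.height + ((P.map (Ideal.Quotient.mk P0)).height + 1) := by ring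
  exact (ENat.add_le_add_iff_left hfin).mp e4

/-- relative height of `q ⊇ p` computed upstairs -/
theorem height_map_comap_eq {S R : Type u} [CommRing S] [CommRing R] [IsNoetherianRing S]
    [Algebra S R] (hsurj : Function.Surjective (algebraMap S R)) (p q : Ideal R) [hp : p.IsPrime]
    (hpq : p ≤ q) :
    ((q.comap (algebraMap S R)).map (Ideal.Quotient.mk (p.comap (algebraMap S R)))).height =
      (q.map (Ideal.Quotient.mk p)).height := by
  have h := height_comap_eq hsurj (q.comap (algebraMap S R)) p
  rw [sup_eq_left.mpr (Ideal.comap_mono hpq), Ideal.map_comap_of_surjective _ hsurj,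
    sup_eq_left.mpr hpq] at h
  exact h

/-- the chain inequality in a quotient of a regular ring -/
theorem height_map_le_add_one_of_surjective {S R : Type u} [CommRing S] [CommRing R]
    [IsRegularRing S] [Algebra S R] (hsurj : Function.Surjective (algebraMap S R))
    (p0 p q : Ideal R) [hp0 : p0.IsPrime] [hp : p.IsPrime] [hq : q.IsPrime] (h0 : p0 ≤ p)
    (hpq : p ≤ q) (h1 : (q.map (Ideal.Quotient.mk p)).height = 1) :
    (q.map (Ideal.Quotient.mk p0)).height ≤ (p.map (Ideal.Quotient.mk p0)).height + 1 := by
  rw [← height_map_comap_eq hsurj p0 q (h0.trans hpq), ← height_map_comap_eq hsurj p0 p h0]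
  rw [← height_map_comap_eq hsurj p q hpq] at h1
  exact height_map_le_add_one_of_regular S _ _ _ (Ideal.comap_mono h0) (Ideal.comap_mono hpq) h1

/-- `ht(p/p0) ≤ dim Supp M_p` for `p0 ∈ Supp M`, `p0 ⊆ p`. -/
theorem height_map_le_supportDim {A : Type u} [CommRing A] [IsNoetherianRing A] (M : Type u)
    [AddCommGroup M] [Module A M] [Module.Finite A M] (p0 p : Ideal A) [hp0 : p0.IsPrime]
    [hp : p.IsPrime] (h0 : p0 ≤ p) (hann : Module.annihilator A M ≤ p0) :
    (((p.map (Ideal.Quotient.mk p0)).height : ℕ∞) : WithBot ℕ∞) ≤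
      Module.supportDim (Localization.AtPrime p) (LocalizedModule p.primeCompl M) := by
  have hdisj : Disjoint (p.primeCompl : Set A) (p0 : Set A) := by
    rw [Set.disjoint_left]
    intro x hx hxp
    exact hx (h0 hxp)
  have hP'prime : (p0.map (algebraMap A (Localization.AtPrime p))).IsPrime :=
    IsLocalization.isPrime_of_isPrime_disjoint p.primeCompl _ _ hp0 hdisj
  have hcomap : (p0.map (algebraMap A (Localization.AtPrime p))).comap
      (algebraMap A (Localization.AtPrime p)) = p0 :=
    IsLocalization.under_map_of_isPrime_disjoint p.primeCompl _ hp0 hdisj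
  have : Module.Finite (Localization.AtPrime p) (LocalizedModule p.primeCompl M) :=
    Module.Finite.of_isLocalizedModule p.primeCompl (LocalizedModule.mkLinearMap p.primeCompl M)
  have hsupp : (⟨_, hP'prime⟩ : PrimeSpectrum (Localization.AtPrime p)) ∈
      Module.support (Localization.AtPrime p) (LocalizedModule p.primeCompl M) := by
    rw [Groth.Agent.Helper28.ReflDepth.mem_support_localizedModule_iff,
      Module.mem_support_iff_of_finite]
    change Module.annihilator A M ≤ (p0.map (algebraMap A (Localization.AtPrime p))).comap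
      (algebraMap A (Localization.AtPrime p))
    rw [hcomap]
    exact hann
  have hann' := Module.annihilator_le_of_mem_support hsupp
  have h1 := Depth.ringKrullDim_quotient_le_supportDim (LocalizedModule p.primeCompl M)
    (p0.map (algebraMap A (Localization.AtPrime p))) hann'
  rw [Depth.ringKrullDim_localization_quotient_map p0 p h0] at h1
  exact h1

theorem main2931 (R : Type u) [CommRing R] [IsRegularRing R] (A : Type u) [CommRing A]
    [IsNoetherianRing A] (π : R →+* A) (hπ : Function.Surjective π) (I : Ideal A) (M : Type u)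
    [AddCommGroup M] [Module A M] [Module.Finite A M]
    (hCM : ∀ p : PrimeSpectrum A, ¬ I ≤ p.asIdeal →
      Subsingleton (LocalizedModule p.asIdeal.primeCompl M) ∨
      LocCoh.IsCohenMacaulayModule (Localization.AtPrime p.asIdeal)
        (LocalizedModule p.asIdeal.primeCompl M)) (n : ℕ) :
    (∀ i : ℕ, i ≤ n → Module.Finite A (LocCoh.H I i M)) ↔
      ∀ p : PrimeSpectrum A, ¬ I ≤ p.asIdeal →
        p.asIdeal ∈ (Module.annihilator A M).minimalPrimes → (n : ℕ∞) < SGA2.relCodim I p := by
  rw [main2930 R A π hπ I M n]
  constructor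
  · intro h p hIp hmin
    have hall := (main5172 R A π hπ I M n).mpr ?_ p hIp
    · have hass : p.asIdeal ∈ associatedPrimes A M :=
        Module.associatedPrimes.minimalPrimes_annihilator_subset_associatedPrimes A M hmin
      rw [depth_localizedModule_eq_zero_of_mem_associatedPrimes p.asIdeal M hass, zero_add] at hall
      exact hall
    · intro p' hIp' h1
      rw [relCodim_eq] at h1
      obtain ⟨q, hq, hqht⟩ := exists_minimalPrimes_height_eq I p'.asIdeal 1 (by rw [h1]; rfl)
      have hqprime : q.IsPrime := hq.1.1
      have hpq : p'.asIdeal ≤ q := le_sup_right.trans hq.1.2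
      have hIq : I ≤ q := le_sup_left.trans hq.1.2
      have hcov := covBy_of_height_map_eq_one p'.asIdeal q hpq (by rw [hqht]; rfl)
      exact h p' ⟨q, hqprime⟩ hIp' hIq hcov
  · intro h p q hIp hIq hpq
    by_cases hsub : Subsingleton (LocalizedModule p.asIdeal.primeCompl M)
    · rw [Depth.depth_eq_top_of_subsingleton]
      exact le_top
    · have hcm : LocCoh.IsCohenMacaulayModule (Localization.AtPrime p.asIdeal)
          (LocalizedModule p.asIdeal.primeCompl M) := (hCM p hIp).resolve_left hsub
      have hnt : Nontrivial (LocalizedModule p.asIdeal.primeCompl M) :=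
        not_subsingleton_iff_nontrivial.mp hsub
      have hpsupp : p ∈ Module.support A M := Module.mem_support_iff.mpr hnt
      have hannp : Module.annihilator A M ≤ p.asIdeal := Module.annihilator_le_of_mem_support hpsupp
      obtain ⟨p0, hp0min, hp0le⟩ := Ideal.exists_minimalPrimes_le hannp
      have hp0prime : p0.IsPrime := hp0min.1.1
      have hIp0 : ¬ I ≤ p0 := fun hle => hIp (hle.trans hp0le)
      have hn := h ⟨p0, hp0prime⟩ hIp0 hp0min
      rw [relCodim_eq] at hn
      have hpq' : p.asIdeal ≤ q.asIdeal := hpq.1.le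
      have e1 : ((I ⊔ p0).map (Ideal.Quotient.mk p0)).height ≤
          (q.asIdeal.map (Ideal.Quotient.mk p0)).height :=
        Ideal.height_mono (Ideal.map_mono (sup_le hIq (hp0le.trans hpq')))
      let _ : Algebra R A := π.toAlgebra
      have hsurj : Function.Surjective (algebraMap R A) := hπ
      have e2 := height_map_le_add_one_of_surjective hsurj p0 p.asIdeal q.asIdeal hp0le hpq'
        (height_map_eq_one_of_covBy p q hpq)
      have e3 := height_map_le_supportDim M p0 p.asIdeal hp0le hp0min.1.2
      unfold LocCoh.IsCohenMacaulayModule at hcm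
      rw [hcm] at e3
      have e3' : (p.asIdeal.map (Ideal.Quotient.mk p0)).height ≤
          LocCoh.depth (Localization.AtPrime p.asIdeal)
            (LocalizedModule p.asIdeal.primeCompl M) := by exact_mod_cast e3
      have e4 : (n : ℕ∞) < LocCoh.depth (Localization.AtPrime p.asIdeal)
            (LocalizedModule p.asIdeal.primeCompl M) + 1 :=
        lt_of_lt_of_le hn (e1.trans (e2.trans (add_le_add e3' le_rfl)))
      exact Order.le_of_lt_add_one e4

end Groth.Agent.Helper17.FA
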