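import Mathlib
import Groth.Agent.Lib.Helper17.EL2
import Groth.Agent.Lib.Helper17.FA12
import Groth.Agent.Lib.Helper8.LCIndep

/-!
# Transfer of local cohomology of stalks along a surjection, and the codimension-one reduction
for shifted vanishing (helper17)
-/

set_option autoImplicit false
universe u

namespace Groth.Agent.Helper17.EL

open IsLocalRing Groth.Agent.Helper8 Groth.Agent.Helper8.LC Groth.Agent.Lead
  Groth.Agent.Helper17.FA

/-- a surjective ring homomorphism of local rings maps the maximal ideal onto the maximal ideal -/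
theorem map_maximalIdeal_of_surjective {A₁ A₂ : Type*} [CommRing A₁] [CommRing A₂] [IsLocalRing A₁]
    [IsLocalRing A₂] (φ : A₁ →+* A₂) (hφ : Function.Surjective φ) :
    (maximalIdeal A₁).map φ = maximalIdeal A₂ := by
  rcases Ideal.map_eq_top_or_isMaximal_of_surjective φ hφ (maximalIdeal.isMaximal A₁) with h | h
  · exfalso
    have h1 : (1 : A₂) ∈ (maximalIdeal A₁).map φ := by rw [h]; trivial
    rw [Ideal.mem_map_iff_of_surjective φ hφ] at h1
    obtain ⟨x, hx, hx1⟩ := h1
    have hu : IsUnit (1 - x) := by
      by_contra hnu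
      have h2 : 1 - x ∈ maximalIdeal A₁ := (IsLocalRing.mem_maximalIdeal _).mpr hnu
      have h3 : (1 : A₁) ∈ maximalIdeal A₁ := by
        have := (maximalIdeal A₁).add_mem h2 hx
        simp at this
      exact (maximalIdeal.isMaximal A₁).ne_top ((Ideal.eq_top_iff_one _).mpr h3)
    have h4 : φ (1 - x) = 0 := by rw [map_sub, map_one, hx1, sub_self]
    have h5 := hu.map φ
    rw [h4] at h5
    exact not_isUnit_zero h5
  · exact IsLocalRing.eq_maximalIdeal h

section Surj

variable {S R : Type u} [CommRing S] [CommRing R] [IsNoetherianRing S] [IsNoetherianRing R]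
  [Algebra S R] (hsurj : Function.Surjective (algebraMap S R))
  (M : Type u) [AddCommGroup M] [Module S M] [Module R M] [IsScalarTower S R M]

include hsurj in
/-- local cohomology of the stalk of `M` at `π⁻¹(p)` over `S` vanishes iff that at `p` over `R`
does -/
theorem H_subsingleton_comap_iff (p : Ideal R) [hp : p.IsPrime] (j : ℕ) :
    Subsingleton (LocCoh.H (maximalIdeal (Localization.AtPrime (p.comap (algebraMap S R)))) j
        (LocalizedModule (p.comap (algebraMap S R)).primeCompl M)) ↔
      Subsingleton (LocCoh.H (maximalIdeal (Localization.AtPrime p)) j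
        (LocalizedModule p.primeCompl M)) := by
  set π := algebraMap S R with hπ
  set P := p.comap π with hP
  let A₁ := Localization.AtPrime P
  let A₂ := Localization.AtPrime p
  let N := LocalizedModule p.primeCompl M
  let φ : A₁ →+* A₂ := Localization.localRingHom P p π rfl
  have hφsurj : Function.Surjective φ := RingHom.surjective_localRingHom_of_surjective π hsurj p
  letI : Algebra A₁ A₂ := φ.toAlgebra
  letI : Module A₁ N := Module.compHom N φ
  have : IsScalarTower A₁ A₂ N := ⟨fun x y n => by
    change (φ x * y) • n = φ x • (y • n)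
    rw [mul_smul]⟩
  have hSN : ∀ (s : S) (n : N), s • n = π s • n := fun s n => (algebraMap_smul R s n).symm
  have hA₁N : ∀ (x : A₁) (n : N), x • n = φ x • n := fun _ _ => rfl
  have : IsScalarTower S A₁ N := ⟨fun s x n => by
    rw [hSN, hA₁N, hA₁N, Algebra.smul_def, map_mul, Localization.localRingHom_to_map, mul_smul,
      algebraMap_smul]⟩
  let f : M →ₗ[S] N :=
    { toFun := LocalizedModule.mkLinearMap p.primeCompl M
      map_add' := fun x y => map_add _ x y
      map_smul' := fun s m => by
        rw [RingHom.id_apply, hSN, ← algebraMap_smul R s m, map_smul] }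
  have hf : ∀ m, f m = LocalizedModule.mkLinearMap p.primeCompl M m := fun _ => rfl
  have hmem : ∀ s : S, s ∈ P.primeCompl ↔ π s ∈ p.primeCompl := fun s => Iff.rfl
  have : IsLocalizedModule P.primeCompl f := by
    refine ⟨fun x => ?_, fun y => ?_, fun {x₁ x₂} h => ?_⟩
    · rw [Module.End.isUnit_iff]
      have h1 := IsLocalizedModule.map_units (LocalizedModule.mkLinearMap p.primeCompl M)
        (⟨π x, (hmem x).mp x.2⟩ : p.primeCompl)
      rw [Module.End.isUnit_iff] at h1
      have h2 : ⇑((algebraMap S (Module.End S N)) ↑x) =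
          ⇑((algebraMap R (Module.End R (LocalizedModule p.primeCompl M)))
            ((⟨π x, (hmem x).mp x.2⟩ : p.primeCompl) : R)) := by
        funext n
        simp only [Module.algebraMap_end_apply]
        exact hSN _ n
      rw [h2]
      exact h1
    · obtain ⟨⟨m, r⟩, hr⟩ := IsLocalizedModule.surj p.primeCompl
        (LocalizedModule.mkLinearMap p.primeCompl M) y
      obtain ⟨s, hs⟩ := hsurj r.1
      have hsP : s ∈ P.primeCompl := by
        rw [hmem, hs]
        exact r.2
      refine ⟨⟨m, ⟨s, hsP⟩⟩, ?_⟩
      change s • y = f m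
      rw [hSN, hs, hf]
      exact hr
    · rw [hf, hf] at h
      obtain ⟨r, hr⟩ := IsLocalizedModule.exists_of_eq (S := p.primeCompl) h
      obtain ⟨s, hs⟩ := hsurj r.1
      have hsP : s ∈ P.primeCompl := by
        rw [hmem, hs]
        exact r.2
      refine ⟨⟨s, hsP⟩, ?_⟩
      change s • x₁ = s • x₂
      rw [← algebraMap_smul R s x₁, ← algebraMap_smul R s x₂, ← hπ, hs]
      exact hr
  -- step (a)
  let e₀ : LocalizedModule P.primeCompl M ≃ₗ[S] N := IsLocalizedModule.iso P.primeCompl f
  let e : LocalizedModule P.primeCompl M ≃ₗ[A₁] N :=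
    LinearEquiv.extendScalarsOfIsLocalization P.primeCompl A₁ e₀
  have ha : Subsingleton (LocCoh.H (maximalIdeal A₁) j (LocalizedModule P.primeCompl M)) ↔
      Subsingleton (LocCoh.H (maximalIdeal A₁) j N) :=
    (Hcongr (maximalIdeal A₁) j e).toEquiv.subsingleton_congr
  -- step (b)
  obtain ⟨eb⟩ := exists_equiv_base (maximalIdeal A₁) j (BMod.mk (R := A₁) (R' := A₂) N)
  have hmap : (maximalIdeal A₁).map (algebraMap A₁ A₂) = maximalIdeal A₂ :=
    map_maximalIdeal_of_surjective φ hφsurj
  have hb : Subsingleton (LocCoh.H (maximalIdeal A₂) j N) ↔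
      Subsingleton (LocCoh.H (maximalIdeal A₁) j N) := by
    have h1 : Subsingleton (HA (maximalIdeal A₁) j (BMod.mk (R := A₁) (R' := A₂) N)) ↔
        Subsingleton (LocCoh.H (maximalIdeal A₁) j N) := eb.toEquiv.subsingleton_congr
    unfold HA at h1
    rw [hmap] at h1
    exact h1
  exact ha.trans hb.symm

end Surj

section Heights

/-- catenary additivity in a regular ring: `ht(Q'/P) ≤ ht(Q'/Q₁) + ht(Q₁/P)` -/
theorem height_map_le_add_of_regular (S : Type u) [CommRing S] [IsRegularRing S]
    (P Q₁ Q' : Ideal S) [hP : P.IsPrime] [hQ₁ : Q₁.IsPrime] [hQ' : Q'.IsPrime] (h0 : P ≤ Q₁)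
    (h1 : Q₁ ≤ Q') :
    (Q'.map (Ideal.Quotient.mk P)).height ≤
      (Q'.map (Ideal.Quotient.mk Q₁)).height + (Q₁.map (Ideal.Quotient.mk P)).height := by
  have hCM : ∀ (q : Ideal S) [q.IsPrime],
      LocCoh.IsCohenMacaulayLocalRing (Localization.AtPrime q) := fun q _ =>
    (isCohenMacaulayRing_of_isRegularRing (R := S)).isCohenMacaulayLocalRing_localization q
  have e1 := height_add_height_map_le P Q' (h0.trans h1)
  have e2 := height_le_height_map_add S hCM Q₁ Q' h1
  have e3 := height_le_height_map_add S hCM P Q₁ h0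
  have hfin : P.height ≠ ⊤ := Ideal.height_ne_top hP.ne_top
  have e4 : P.height + (Q'.map (Ideal.Quotient.mk P)).height ≤
      P.height + ((Q'.map (Ideal.Quotient.mk Q₁)).height +
        (Q₁.map (Ideal.Quotient.mk P)).height) := by
    calc P.height + (Q'.map (Ideal.Quotient.mk P)).height ≤ Q'.height := e1
      _ ≤ (Q'.map (Ideal.Quotient.mk Q₁)).height + Q₁.height := e2
      _ ≤ (Q'.map (Ideal.Quotient.mk Q₁)).height +
          ((Q₁.map (Ideal.Quotient.mk P)).height + P.height) := add_le_add le_rfl e3
      _ = P.height + ((Q'.map (Ideal.Quotient.mk Q₁)).height +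
          (Q₁.map (Ideal.Quotient.mk P)).height) := by ring
  exact (ENat.add_le_add_iff_left hfin).mp e4

/-- in a regular ring, `ht(Q/P) = 1` forces `ht Q = ht P + 1` -/
theorem height_eq_add_one_of_regular (S : Type u) [CommRing S] [IsRegularRing S]
    (P Q : Ideal S) [hP : P.IsPrime] [hQ : Q.IsPrime] (h0 : P ≤ Q)
    (h1 : (Q.map (Ideal.Quotient.mk P)).height = 1) : Q.height = P.height + 1 := by
  have hCM : ∀ (q : Ideal S) [q.IsPrime],
      LocCoh.IsCohenMacaulayLocalRing (Localization.AtPrime q) := fun q _ =>
    (isCohenMacaulayRing_of_isRegularRing (R := S)).isCohenMacaulayLocalRing_localization q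
  have e1 := height_add_height_map_le P Q h0
  have e3 := height_le_height_map_add S hCM P Q h0
  rw [h1] at e1 e3
  apply le_antisymm
  · rw [add_comm]; exact e3
  · exact e1

end Heights

section Main

variable {S R : Type u} [CommRing S] [CommRing R] [IsRegularRing S] [IsNoetherianRing R]
  [Algebra S R] (hsurj : Function.Surjective (algebraMap S R))
  (M : Type u) [AddCommGroup M] [Module R M] [Module.Finite R M]

include hsurj in
/-- catenary additivity in a quotient of a regular ring -/
theorem height_map_le_add_of_surjective (p q₁ q' : Ideal R) [hp : p.IsPrime] [hq₁ : q₁.IsPrime]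
    [hq' : q'.IsPrime] (h0 : p ≤ q₁) (h1 : q₁ ≤ q') :
    (q'.map (Ideal.Quotient.mk p)).height ≤
      (q'.map (Ideal.Quotient.mk q₁)).height + (q₁.map (Ideal.Quotient.mk p)).height := by
  rw [← height_map_comap_eq hsurj p q' (h0.trans h1), ← height_map_comap_eq hsurj q₁ q' h1,
    ← height_map_comap_eq hsurj p q₁ h0]
  exact height_map_le_add_of_regular S _ _ _ (Ideal.comap_mono h0) (Ideal.comap_mono h1)

include hsurj in
/-- propagation along an immediate specialization in a quotient of a regular ring -/
theorem H_subsingleton_of_succ_of_surjective (p q : Ideal R) [hp : p.IsPrime] [hq : q.IsPrime]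
    (hpq : p ≤ q) (h1 : (q.map (Ideal.Quotient.mk p)).height = 1) (j : ℕ)
    (h : Subsingleton (LocCoh.H (maximalIdeal (Localization.AtPrime q)) (j + 1)
      (LocalizedModule q.primeCompl M))) :
    Subsingleton (LocCoh.H (maximalIdeal (Localization.AtPrime p)) j
      (LocalizedModule p.primeCompl M)) := by
  letI : Module S M := Module.compHom M (algebraMap S R)
  have : IsScalarTower S R M := ⟨fun s r m => by
    have h0 : ∀ (s : S) (m : M), s • m = algebraMap S R s • m := fun _ _ => rfl
    rw [h0, Algebra.smul_def, mul_smul]⟩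
  have hfinSR : Module.Finite S R := Module.Finite.of_surjective (Algebra.linearMap S R) hsurj
  have hfinS : Module.Finite S M := Module.Finite.trans R M
  rw [← H_subsingleton_comap_iff hsurj M q (j + 1)] at h
  rw [← H_subsingleton_comap_iff hsurj M p j]
  rw [← height_map_comap_eq hsurj p q hpq] at h1
  have hht := height_eq_add_one_of_regular S _ _ (Ideal.comap_mono hpq) h1
  exact H_subsingleton_of_succ S _ _ (Ideal.comap_mono hpq) hht M j h

include hsurj in
/-- the core induction: the codimension-one case of the shifted vanishing gives all cases -/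
theorem H_subsingleton_of_codim_one (I : Ideal R) (i : ℕ)
    (h1 : ∀ (p : Ideal R) [p.IsPrime], ¬ I ≤ p → ((I ⊔ p).map (Ideal.Quotient.mk p)).height = 1 →
      ∀ j : ℕ, j + 1 = i → Subsingleton (LocCoh.H (maximalIdeal (Localization.AtPrime p)) j
        (LocalizedModule p.primeCompl M))) :
    ∀ (c : ℕ) (p : Ideal R) [p.IsPrime], ¬ I ≤ p →
      ((I ⊔ p).map (Ideal.Quotient.mk p)).height = c → ∀ j : ℕ, j + c = i →
      Subsingleton (LocCoh.H (maximalIdeal (Localization.AtPrime p)) j
        (LocalizedModule p.primeCompl M)) := by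
  intro c
  induction c using Nat.strong_induction_on with
  | _ c ih =>
    intro p _ hIp ht j hj
    have hone := one_le_height_map_of_not_le I p hIp
    rw [ht] at hone
    have hc1 : 1 ≤ c := by exact_mod_cast hone
    rcases Nat.lt_or_ge c 2 with hlt | hge
    · have hc : c = 1 := by omega
      subst hc
      exact h1 p hIp (by rw [ht]; rfl) j hj
    · obtain ⟨q₁, hq₁, hpq₁, hIq₁, hht1, t', ht', hht'⟩ := exists_prime_moving I I p hIp c hge ht
      -- `c ≤ t' + 1`
      obtain ⟨q', hq'min, hq'ht⟩ := exists_minimalPrimes_height_eq I q₁ t' hht'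
      have hq'p : q'.IsPrime := hq'min.1.1
      have hq₁q' : q₁ ≤ q' := le_sup_right.trans hq'min.1.2
      have hIq' : I ≤ q' := le_sup_left.trans hq'min.1.2
      have hle1 : ((I ⊔ p).map (Ideal.Quotient.mk p)).height ≤
          (q'.map (Ideal.Quotient.mk p)).height :=
        Ideal.height_mono (Ideal.map_mono (sup_le hIq' (hpq₁.trans hq₁q')))
      have hle2 := height_map_le_add_of_surjective hsurj p q₁ q' hpq₁ hq₁q'
      rw [hq'ht, hht1] at hle2
      rw [ht] at hle1
      have hc' : c ≤ t' + 1 := by exact_mod_cast hle1.trans hle2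
      have hceq : c = t' + 1 := by omega
      have h2 := ih t' (by omega) q₁ hIq₁ hht' (j + 1) (by omega)
      exact H_subsingleton_of_succ_of_surjective hsurj M p q₁ hpq₁ hht1 j h2

end Main

end Groth.Agent.Helper17.EL
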