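import Mathlib
import Groth.Prelude.Def_SGA2
import Groth.Agent.Lib.Helper17.EL3

/-!
# S5164: the shifted stalk vanishing condition is equivalent to its codimension-one case (helper17)
-/

set_option autoImplicit false
universe u

namespace Groth.Agent.Helper17.EL

open Groth.Agent.Helper17.FA

theorem main5164 (R : Type u) [CommRing R] [IsRegularRing R] (A : Type u) [CommRing A]
    [IsNoetherianRing A] (π : R →+* A) (hπ : Function.Surjective π) (I : Ideal A) (M : Type u)
    [AddCommGroup M] [Module A M] [Module.Finite A M] (i : ℕ) :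
    (∀ p : PrimeSpectrum A, ¬ I ≤ p.asIdeal → ∀ (c j : ℕ), SGA2.relCodim I p = c → j + c = i →
      Subsingleton (LocCoh.H (IsLocalRing.maximalIdeal (Localization.AtPrime p.asIdeal)) j
        (LocalizedModule p.asIdeal.primeCompl M))) ↔
    (∀ p : PrimeSpectrum A, ¬ I ≤ p.asIdeal → SGA2.relCodim I p = 1 → ∀ j : ℕ, j + 1 = i →
      Subsingleton (LocCoh.H (IsLocalRing.maximalIdeal (Localization.AtPrime p.asIdeal)) j
        (LocalizedModule p.asIdeal.primeCompl M))) := by
  constructor
  · intro h p hp h1 j hj
    exact h p hp 1 j (by rw [h1]; rfl) hj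
  · intro h p hp c j hc hj
    letI : Algebra R A := π.toAlgebra
    have hsurj : Function.Surjective (algebraMap R A) := hπ
    rw [relCodim_eq] at hc
    have hpp : p.asIdeal.IsPrime := p.2
    refine H_subsingleton_of_codim_one hsurj M I i ?_ c p.asIdeal hp hc j hj
    intro q hq hIq h1 j' hj'
    exact h ⟨q, hq⟩ hIq (by rw [relCodim_eq]; exact h1) j' hj'

end Groth.Agent.Helper17.EL
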