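import Mathlib
import Groth.Agent.Lib.Helper17.EL5
import Groth.Agent.Lib.Helper17.EL2
import Groth.Agent.Lib.Helper5.HS2
import Groth.Agent.Lib.Lead.Hom3
import Groth.Agent.Lib.Helper17.FA12
import Groth.Agent.S11659

/-!
# Finite length of a single local cohomology module over a regular local ring (helper17)
-/

set_option autoImplicit false
universe u

namespace Groth.Agent.Helper17.EL

open CategoryTheory Abelian IsLocalRing Groth.Agent.Helper8 Groth.Agent.Helper8.LC
  Groth.Agent.Helper8.Canon Groth.Agent.Helper8.Gor

section Matlis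

variable {A : Type u} [CommRing A] [IsLocalRing A] [IsNoetherianRing A]
  {E : Type u} [AddCommGroup E] [Module A E] {f : ResidueField A →ₗ[A] E}

/-- the Matlis dual has finite length iff the module has -/
theorem isFiniteLength_dual_iff (hf : InjHull.IsInjectiveHull f) (X : Type u) [AddCommGroup X]
    [Module A X] : IsFiniteLength A (X →ₗ[A] E) ↔ IsFiniteLength A X := by
  have key : ∀ (Y : Type u) [AddCommGroup Y] [Module A Y], IsFiniteLength A Y →
      IsFiniteLength A (Y →ₗ[A] E) := by
    intro Y _ _ hY
    rw [← Module.length_ne_top_iff, Matlis.length_hom hf Y hY, Module.length_ne_top_iff]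
    exact hY
  constructor
  · intro h
    have h2 := key _ h
    exact h2.of_injective (Matlis.applyₗ_injective hf X)
  · exact key X

end Matlis

/-- finite length over a Noetherian local ring: the localizations at non-maximal primes vanish -/
theorem isFiniteLength_iff_localizedModule {R : Type u} [CommRing R] [IsLocalRing R]
    [IsNoetherianRing R] (X : Type u) [AddCommGroup X] [Module R X] [Module.Finite R X] :
    IsFiniteLength R X ↔ ∀ (P : Ideal R) [P.IsPrime], P ≠ maximalIdeal R →
      ∀ x : X, ∃ s : P.primeCompl, (s : R) • x = 0 := by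
  rw [Groth.Agent.Helper5.HS.isFiniteLength_iff_support]
  constructor
  · intro h P hP hPm x
    have h1 : (⟨P, hP⟩ : PrimeSpectrum R) ∉ Module.support R X := by
      intro hmem
      exact hPm (IsLocalRing.eq_maximalIdeal (h _ hmem))
    rw [Module.notMem_support_iff, LocalizedModule.subsingleton_iff] at h1
    obtain ⟨r, hr, hrx⟩ := h1 x
    exact ⟨⟨r, hr⟩, hrx⟩
  · intro h p hp
    by_contra hmax
    have hne : p.asIdeal ≠ maximalIdeal R := by
      intro he
      exact hmax (he ▸ maximalIdeal.isMaximal R)
    have h1 : p ∉ Module.support R X := by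
      rw [Module.notMem_support_iff, LocalizedModule.subsingleton_iff]
      intro x
      obtain ⟨s, hs⟩ := h p.asIdeal hne x
      exact ⟨s.1, s.2, hs⟩
    exact h1 hp

/-- additivity of heights in a regular ring -/
theorem height_eq_height_map_add_of_regular (S : Type u) [CommRing S] [IsRegularRing S]
    (P Q : Ideal S) [hP : P.IsPrime] [hQ : Q.IsPrime] (h0 : P ≤ Q) :
    Q.height = (Q.map (Ideal.Quotient.mk P)).height + P.height := by
  have hCM : ∀ (q : Ideal S) [q.IsPrime],
      LocCoh.IsCohenMacaulayLocalRing (Localization.AtPrime q) := fun q _ =>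
    (FA.isCohenMacaulayRing_of_isRegularRing (R := S)).isCohenMacaulayLocalRing_localization q
  have e1 := FA.height_add_height_map_le P Q h0
  have e3 := FA.height_le_height_map_add S hCM P Q h0
  apply le_antisymm e3
  rw [add_comm]; exact e1

/-- dimensions of `R/P` and `R_P` in a regular local ring -/
theorem dim_localization_of_regular (R : Type u) [CommRing R] [IsRegularLocalRing R] (d : ℕ)
    (hd : ringKrullDim R = d) (P : Ideal R) [hP : P.IsPrime] (e : ℕ)
    (he : ringKrullDim (R ⧸ P) = e) :
    e ≤ d ∧ ringKrullDim (Localization.AtPrime P) = ((d - e : ℕ) : ℕ) := by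
  have hreg : IsRegularRing R := FA.isRegularRing_of_isRegularLocalRing R
  have h1 := Groth.Agent.S11659.height_map_maximalIdeal P
  rw [he, sup_eq_left.mpr (le_maximalIdeal hP.ne_top)] at h1
  have h1' : ((maximalIdeal R).map (Ideal.Quotient.mk P)).height = (e : ℕ∞) := by
    exact_mod_cast h1
  have h2 := height_eq_height_map_add_of_regular R P (maximalIdeal R) (le_maximalIdeal hP.ne_top)
  rw [h1'] at h2
  have h3 : ((maximalIdeal R).height : WithBot ℕ∞) = ringKrullDim R :=
    IsLocalRing.maximalIdeal_height_eq_ringKrullDim
  rw [hd] at h3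
  have h3' : (maximalIdeal R).height = (d : ℕ∞) := by exact_mod_cast h3
  rw [h3'] at h2
  have hPfin : P.height ≠ ⊤ := Ideal.height_ne_top hP.ne_top
  obtain ⟨r, hr⟩ := ENat.ne_top_iff_exists.mp hPfin
  rw [← hr] at h2
  have h4 : d = e + r := by exact_mod_cast h2
  refine ⟨by omega, ?_⟩
  rw [IsLocalization.AtPrime.ringKrullDim_eq_height P (Localization.AtPrime P), ← hr]
  have : d - e = r := by omega
  rw [this]
  rfl

/-- **Single-degree finite length criterion** over a regular local ring. -/
theorem isFiniteLength_H_iff_regular (R : Type u) [CommRing R] [IsRegularLocalRing R] (d : ℕ)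
    (hd : ringKrullDim R = d) (M : Type u) [AddCommGroup M] [Module R M] [Module.Finite R M]
    (i : ℕ) :
    IsFiniteLength R (LocCoh.H (maximalIdeal R) i M) ↔
      ∀ (P : Ideal R) [P.IsPrime], P ≠ maximalIdeal R → ∀ e j : ℕ, ringKrullDim (R ⧸ P) = e →
        j + e = i → Subsingleton (LocCoh.H (maximalIdeal (Localization.AtPrime P)) j
          (LocalizedModule P.primeCompl M)) := by
  have hreg : IsRegularRing R := FA.isRegularRing_of_isRegularLocalRing R
  rcases Nat.lt_or_ge d i with hlt | hle
  · constructor
    · intro _ P _ hP e j he hj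
      obtain ⟨hed, hdP⟩ := dim_localization_of_regular R d hd P e he
      exact H_subsingleton_of_ringKrullDim_lt _ (d - e) hdP _ j (by omega)
    · intro _
      have := H_subsingleton_of_ringKrullDim_lt (maximalIdeal R) d hd M i hlt
      exact IsFiniteLength.of_subsingleton
  · obtain ⟨E, _, _, f, hf⟩ := Groth.Agent.Helper1.exists_injectiveHull (R := R) (ResidueField R)
    haveI hG := Groth.Agent.Lead.Depth.isGorensteinLocalRing_of_isRegularLocalRing R
    haveI hCM := Groth.Agent.Lead.Depth.isCohenMacaulayLocalRing_of_isGorensteinLocalRing R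
    have hhi := Groth.Agent.Lead.Depth.gorenstein_ext_residueField_subsingleton (R := R) d hd
      (d + 1) le_rfl
    obtain ⟨e0⟩ := nonempty_H_equiv_hull hd hf hhi
    have eK : (R →ₗ[R] E) ≃ₗ[R] LocCoh.H (maximalIdeal R) d R :=
      LinearMap.ringLmapEquivSelf R R E ≪≫ₗ e0.symm
    obtain ⟨e2⟩ := local_duality_aux hd hf eK (d - i) i (by omega) M
    have hXfin : Module.Finite R (Abelian.Ext (ModuleCat.of R M) (ModuleCat.of R R) (d - i)) :=
      inferInstance
    have step1 : IsFiniteLength R (LocCoh.H (maximalIdeal R) i M) ↔
        IsFiniteLength R (Abelian.Ext (ModuleCat.of R M) (ModuleCat.of R R) (d - i)) := by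
      refine Iff.trans ?_ (isFiniteLength_dual_iff hf _)
      exact ⟨fun h => e2.isFiniteLength h, fun h => e2.symm.isFiniteLength h⟩
    rw [step1, isFiniteLength_iff_localizedModule]
    refine forall_congr' fun P => ?_
    refine forall_congr' fun hP => ?_
    refine forall_congr' fun hPm => ?_
    have hfinP : Module.Finite (Localization.AtPrime P) (LocalizedModule P.primeCompl M) :=
      Module.Finite.of_isLocalizedModule P.primeCompl (LocalizedModule.mkLinearMap P.primeCompl M)
    rw [ext_localization_iff P.primeCompl (Localization.AtPrime P)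
      (Algebra.linearMap R (Localization.AtPrime P)) (d - i) M (LocalizedModule P.primeCompl M)
      (LocalizedModule.mkLinearMap P.primeCompl M)]
    -- the dimension of `R/P`
    have hfin : ((maximalIdeal R ⊔ P).map (Ideal.Quotient.mk P)).height ≠ ⊤ := by
      apply Ideal.height_ne_top
      intro htop
      have h6 := Ideal.comap_map_of_surjective (Ideal.Quotient.mk P)
        Ideal.Quotient.mk_surjective (maximalIdeal R ⊔ P)
      rw [htop, Ideal.comap_top, ← RingHom.ker_eq_comap_bot, Ideal.mk_ker, sup_assoc,
        sup_idem, sup_eq_left.mpr (le_maximalIdeal hP.ne_top)] at h6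
      exact (maximalIdeal.isMaximal R).ne_top h6.symm
    obtain ⟨e₀, he₀⟩ := ENat.ne_top_iff_exists.mp hfin
    have hdim : ringKrullDim (R ⧸ P) = (e₀ : ℕ) := by
      rw [← Groth.Agent.S11659.height_map_maximalIdeal P, ← he₀]
      rfl
    obtain ⟨hed, hdP⟩ := dim_localization_of_regular R d hd P e₀ hdim
    constructor
    · intro hExt e j he hj
      have hee : e = e₀ := by
        rw [hdim] at he
        exact_mod_cast he.symm
      subst hee
      rw [H_subsingleton_iff_ext _ (d - e) hdP]
      intro _
      have : d - e - j = d - i := by omega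
      rw [this]
      exact hExt
    · intro h
      rcases Nat.lt_or_ge i e₀ with hlt | hge
      · have hpd := Groth.Agent.Lead.Hom.hasProjectiveDimensionLT_of_isRegularLocalRing hdP
          (ModuleCat.of (Localization.AtPrime P) (LocalizedModule P.primeCompl M))
        exact HasProjectiveDimensionLT.subsingleton _ (d - e₀ + 1) (d - i) (by omega) _
      · have h1 := h e₀ (i - e₀) hdim (by omega)
        rw [H_subsingleton_iff_ext _ (d - e₀) hdP] at h1
        have h2 := h1 (by omega)
        have : d - e₀ - (i - e₀) = d - i := by omega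
        rw [this] at h2
        exact h2

end Groth.Agent.Helper17.EL
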