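import Mathlib
import Groth.Agent.Lib.Helper17.EL6
import Groth.Agent.Lib.Helper17.EL3

/-!
# S2934: single-degree finite length criterion over a quotient of a regular local ring (helper17)
-/

set_option autoImplicit false
universe u

namespace Groth.Agent.Helper17.EL

open IsLocalRing Groth.Agent.Helper8 Groth.Agent.Helper8.LC

section Surj

variable {R A : Type u} [CommRing R] [CommRing A] [IsLocalRing R] [IsLocalRing A]
  [IsNoetherianRing R] [IsNoetherianRing A] [Algebra R A]
  (hsurj : Function.Surjective (algebraMap R A))
  (M : Type u) [AddCommGroup M] [Module R M] [Module A M] [IsScalarTower R A M]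

include hsurj in
theorem comap_maximalIdeal_of_surjective :
    (maximalIdeal A).comap (algebraMap R A) = maximalIdeal R :=
  IsLocalRing.eq_maximalIdeal
    (Ideal.comap_isMaximal_of_surjective (algebraMap R A) hsurj (K := maximalIdeal A))

include hsurj in
/-- finite length of `H^i_m(M)` over `A` and over `R` agree -/
theorem isFiniteLength_H_iff_of_surjective (i : ℕ) :
    IsFiniteLength A (LocCoh.H (maximalIdeal A) i M) ↔
      IsFiniteLength R (LocCoh.H (maximalIdeal R) i M) := by
  have hmap : (maximalIdeal R).map (algebraMap R A) = maximalIdeal A :=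
    Groth.Agent.Helper17.EL.map_maximalIdeal_of_surjective (algebraMap R A) hsurj
  obtain ⟨eb⟩ := exists_equiv_base (maximalIdeal R) i (BMod.mk (R := R) (R' := A) M)
  have htow : IsScalarTower R A (HA (maximalIdeal R) i (BMod.mk (R := R) (R' := A) M)) :=
    ⟨fun r a x => by
      have e1 : r • (a • x) = algebraMap R A r • (a • x) :=
        HA_smul_def (maximalIdeal R) i (BMod.mk (R := R) (R' := A) M) r (a • x)
      rw [e1, Algebra.smul_def, mul_smul]⟩
  have h1 : Module.length R (HA (maximalIdeal R) i (BMod.mk (R := R) (R' := A) M)) =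
      Module.length A (HA (maximalIdeal R) i (BMod.mk (R := R) (R' := A) M)) :=
    Module.length_eq_of_surjective hsurj
  have h2 := eb.length_eq
  have h3 : Module.length A (HA (maximalIdeal R) i (BMod.mk (R := R) (R' := A) M)) =
      Module.length A (LocCoh.H ((maximalIdeal R).map (algebraMap R A)) i M) := rfl
  have h4 : ∀ J J' : Ideal A, J = J' →
      Module.length A (LocCoh.H J i M) = Module.length A (LocCoh.H J' i M) := by
    rintro J _ rfl; rfl
  rw [← Module.length_ne_top_iff, ← Module.length_ne_top_iff, ← h2, h1, h3, h4 _ _ hmap]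

include hsurj in
theorem ringKrullDim_quotient_comap_eq (p : Ideal A) [p.IsPrime] :
    ringKrullDim (R ⧸ p.comap (algebraMap R A)) = ringKrullDim (A ⧸ p) := by
  let g : R →+* A ⧸ p := (Ideal.Quotient.mk p).comp (algebraMap R A)
  have hgsurj : Function.Surjective g := Ideal.Quotient.mk_surjective.comp hsurj
  have hker : RingHom.ker g = p.comap (algebraMap R A) := by
    rw [← RingHom.comap_ker, Ideal.mk_ker]
  let e : R ⧸ p.comap (algebraMap R A) ≃+* A ⧸ p :=
    (Ideal.quotEquivOfEq hker.symm).trans (RingHom.quotientKerEquivOfSurjective hgsurj)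
  exact ringKrullDim_eq_of_ringEquiv e

end Surj

section Main

variable {R A : Type u} [CommRing R] [CommRing A] [IsRegularLocalRing R] [IsLocalRing A]
  [IsNoetherianRing A] [Algebra R A]
  (hsurj : Function.Surjective (algebraMap R A))
  (M : Type u) [AddCommGroup M] [Module R M] [Module A M] [IsScalarTower R A M]
  [Module.Finite A M]

include hsurj in
theorem main2934_aux (i : ℕ) :
    IsFiniteLength A (LocCoh.H (IsLocalRing.maximalIdeal A) i M) ↔
      ∀ p : PrimeSpectrum A, p.asIdeal ≠ IsLocalRing.maximalIdeal A → ∀ (e j : ℕ),
        ringKrullDim (A ⧸ p.asIdeal) = e → j + e = i →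
        Subsingleton (LocCoh.H (IsLocalRing.maximalIdeal (Localization.AtPrime p.asIdeal)) j
          (LocalizedModule p.asIdeal.primeCompl M)) := by
  have hfinRA : Module.Finite R A := Module.Finite.of_surjective (Algebra.linearMap R A) hsurj
  have hfinR : Module.Finite R M := Module.Finite.trans A M
  have hreg : IsRegularRing R := FA.isRegularRing_of_isRegularLocalRing R
  -- the dimension of `R`
  have hmfin : (maximalIdeal R).height ≠ ⊤ := Ideal.height_ne_top (maximalIdeal.isMaximal R).ne_top
  obtain ⟨d, hd'⟩ := ENat.ne_top_iff_exists.mp hmfin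
  have hd : ringKrullDim R = (d : ℕ) := by
    rw [← IsLocalRing.maximalIdeal_height_eq_ringKrullDim, ← hd']; rfl
  have hmap : (maximalIdeal R).map (algebraMap R A) = maximalIdeal A :=
    Groth.Agent.Helper17.EL.map_maximalIdeal_of_surjective (algebraMap R A) hsurj
  have hcomap := comap_maximalIdeal_of_surjective hsurj
  rw [isFiniteLength_H_iff_of_surjective hsurj M i, isFiniteLength_H_iff_regular R d hd M i]
  constructor
  · intro h p hp e j he hj
    have hpp : p.asIdeal.IsPrime := p.2
    have hP : p.asIdeal.comap (algebraMap R A) ≠ maximalIdeal R := by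
      intro heq
      apply hp
      rw [← Ideal.map_comap_of_surjective _ hsurj p.asIdeal, heq, hmap]
    have h1 := h (p.asIdeal.comap (algebraMap R A)) hP e j
      (by rw [ringKrullDim_quotient_comap_eq hsurj]; exact he) hj
    exact (H_subsingleton_comap_iff hsurj M p.asIdeal j).mp h1
  · intro h P hPprime hP e j he hj
    by_cases hk : RingHom.ker (algebraMap R A) ≤ P
    · have hpprime : (P.map (algebraMap R A)).IsPrime :=
        Ideal.map_isPrime_of_surjective hsurj hk
      have hcm : (P.map (algebraMap R A)).comap (algebraMap R A) = P := by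
        rw [Ideal.comap_map_of_surjective _ hsurj, ← RingHom.ker_eq_comap_bot,
          sup_eq_left.mpr hk]
      have hpne : P.map (algebraMap R A) ≠ maximalIdeal A := by
        intro heq
        apply hP
        rw [← hcm, heq, hcomap]
      have key : ∀ (P' : Ideal R) [P'.IsPrime], P' = P →
          Subsingleton (LocCoh.H (maximalIdeal (Localization.AtPrime P')) j
            (LocalizedModule P'.primeCompl M)) →
          Subsingleton (LocCoh.H (maximalIdeal (Localization.AtPrime P)) j
            (LocalizedModule P.primeCompl M)) := by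
        intro P' _ hPP' h'
        subst hPP'
        exact h'
      have hdim : ringKrullDim (A ⧸ P.map (algebraMap R A)) = e := by
        rw [← ringKrullDim_quotient_comap_eq hsurj, ← he]
        have key2 : ∀ (P' : Ideal R), P' = P → ringKrullDim (R ⧸ P') = ringKrullDim (R ⧸ P) := by
          rintro P' rfl; rfl
        exact key2 _ hcm
      have h1 := h ⟨P.map (algebraMap R A), hpprime⟩ hpne e j hdim hj
      have h2 := (H_subsingleton_comap_iff hsurj M (P.map (algebraMap R A)) j).mpr h1
      exact key _ hcm h2
    · obtain ⟨s, hs, hsP⟩ := Set.not_subset.mp hk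
      have hsub : Subsingleton (LocalizedModule P.primeCompl M) := by
        rw [LocalizedModule.subsingleton_iff]
        intro m
        refine ⟨s, hsP, ?_⟩
        rw [← algebraMap_smul A s m, (RingHom.mem_ker).mp hs, zero_smul]
      exact Groth.Agent.Helper8.LC.H_subsingleton_of_subsingleton _ _ _

end Main

theorem main2934 (R : Type u) [CommRing R] [IsRegularLocalRing R] (A : Type u) [CommRing A]
    [IsLocalRing A] [IsNoetherianRing A] (π : R →+* A) (hπ : Function.Surjective π) (M : Type u)
    [AddCommGroup M] [Module A M] [Module.Finite A M] (i : ℕ) :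
    IsFiniteLength A (LocCoh.H (IsLocalRing.maximalIdeal A) i M) ↔
      ∀ p : PrimeSpectrum A, p.asIdeal ≠ IsLocalRing.maximalIdeal A → ∀ (e j : ℕ),
        ringKrullDim (A ⧸ p.asIdeal) = e → j + e = i →
        Subsingleton (LocCoh.H (IsLocalRing.maximalIdeal (Localization.AtPrime p.asIdeal)) j
          (LocalizedModule p.asIdeal.primeCompl M)) := by
  letI : Algebra R A := π.toAlgebra
  have hsurj : Function.Surjective (algebraMap R A) := hπ
  letI : Module R M := Module.compHom M (algebraMap R A)
  have hRM : ∀ (r : R) (m : M), r • m = algebraMap R A r • m := fun _ _ => rfl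
  have : IsScalarTower R A M := ⟨fun s r m => by rw [hRM, Algebra.smul_def, mul_smul]⟩
  exact main2934_aux hsurj M i

end Groth.Agent.Helper17.EL
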