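import Mathlib
import Groth.Prelude.Def_Exal2
import Groth.Agent.Lib.Helper17.EX5

/-!
Helper17: derivations and trivial extensions (`Exal.Ext`): a section of the extension attached to
a derivation extends the derivation; conversely, extending derivations and injectivity of the
pull-back on classes force all relative extensions to be trivial.
-/

namespace Groth.Agent.Helper17.EX6

open Groth.Agent.Helper17.EX5

universe u v

attribute [local instance] Exal.opModule Exal.isCentralScalar_opModule

section DerExt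

variable {A : Type u} {B C L : Type v} [CommRing A] [CommRing B] [CommRing C] [Algebra A B]
  [Algebra A C] [Algebra B C] [IsScalarTower A B C] [AddCommGroup L] [Module B L] [Module C L]
  [IsScalarTower B C L] [Module A L] [IsScalarTower A B L] [IsScalarTower A C L]

omit [IsScalarTower A B L] in
theorem exists_derivation_ext (htriv : ∀ X : Exal.Ext B C L, X.IsTrivial)
    (D : Derivation A B L) :
    ∃ D' : Derivation A C L, ∀ b : B, D' (algebraMap B C b) = D b := by
  obtain ⟨s, hs⟩ := htriv (Exal.Ext.ofDerivation (C := C) D)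
  have hfst : ∀ c : C, TrivSqZeroExt.fst (s c) = c := hs
  have hsm : ∀ x y : (Exal.Ext.ofDerivation (C := C) D).E,
      TrivSqZeroExt.snd (x * y) =
        TrivSqZeroExt.fst x • TrivSqZeroExt.snd y + TrivSqZeroExt.fst y • TrivSqZeroExt.snd x :=
    fun x y => TrivSqZeroExt.snd_mul (R := C) (M := L) x y
  have hsa : ∀ x y : (Exal.Ext.ofDerivation (C := C) D).E,
      TrivSqZeroExt.snd (x + y) = TrivSqZeroExt.snd x + TrivSqZeroExt.snd y :=
    fun x y => TrivSqZeroExt.snd_add (R := C) (M := L) x y
  have hsalg : ∀ b : B,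
      TrivSqZeroExt.snd (algebraMap B (Exal.Ext.ofDerivation (C := C) D).E b) = D b := by
    intro b
    show TrivSqZeroExt.snd ((TrivSqZeroExt.inl (algebraMap B C b) + TrivSqZeroExt.inr (D b) :
      TrivSqZeroExt C L)) = D b
    rw [TrivSqZeroExt.snd_add, TrivSqZeroExt.snd_inl, TrivSqZeroExt.snd_inr, zero_add]
  obtain ⟨Dfun, hDfun⟩ : ∃ Dfun : C → L, ∀ c, Dfun c = TrivSqZeroExt.snd (s c) :=
    ⟨fun c => TrivSqZeroExt.snd (s c), fun _ => rfl⟩
  have hadd : ∀ c c', Dfun (c + c') = Dfun c + Dfun c' := by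
    intro c c'
    rw [hDfun, hDfun, hDfun, map_add, hsa]
  have hleib : ∀ c c', Dfun (c * c') = c • Dfun c' + c' • Dfun c := by
    intro c c'
    rw [hDfun, hDfun, hDfun, map_mul, hsm, hfst, hfst]
  have hB : ∀ b : B, Dfun (algebraMap B C b) = D b := by
    intro b
    rw [hDfun, s.commutes, hsalg]
  have hsmul : ∀ (a : A) (c : C), Dfun (a • c) = a • Dfun c := by
    intro a c
    rw [Algebra.smul_def, hleib, IsScalarTower.algebraMap_apply A B C, hB,
      Derivation.map_algebraMap, smul_zero, add_zero, ← IsScalarTower.algebraMap_apply A B C,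
      algebraMap_smul]
  exact ⟨Derivation.mk' { toFun := Dfun, map_add' := hadd, map_smul' := hsmul } hleib, hB⟩

end DerExt

section Conv

variable {k : Type u} {Λ R L : Type v} [CommRing k] [CommRing Λ] [CommRing R]
  [Algebra k Λ] [Algebra Λ R] [Algebra k R] [IsScalarTower k Λ R]
  [AddCommGroup L] [Module R L] [Module Λ L] [IsScalarTower Λ R L] [Module k L]
  [IsScalarTower k Λ L]

theorem isTrivial_of_derivations_and_injective
    (hA : ∀ D : Derivation k Λ L, ∃ D' : Derivation k R L, ∀ a : Λ, D' (algebraMap Λ R a) = D a)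
    (hB : ∀ Y Y' : Exal.Ext k R L,
      Nonempty ((Y.pullback Λ).Equiv (Y'.pullback Λ)) → Nonempty (Y.Equiv Y'))
    (X : Exal.Ext Λ R L) : X.IsTrivial := by
  have h1 : Nonempty (((X.restrictBase k).pullback Λ).Equiv
      ((Exal.Ext.trivial k R L).pullback Λ)) :=
    equiv_of_isTrivial _ _ (restrictBase_pullback_isTrivial X)
      (pullback_isTrivial Λ _ isTrivial_trivial)
  obtain ⟨e⟩ := hB _ _ h1
  obtain ⟨s₀, hs₀⟩ := isTrivial_of_equiv e isTrivial_trivial
  obtain ⟨t₀, ht₀, ht₀c⟩ : ∃ t₀ : R →+* X.E, (∀ r, X.proj (t₀ r) = r) ∧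
      (∀ c : k, t₀ (algebraMap k R c) = algebraMap Λ X.E (algebraMap k Λ c)) :=
    ⟨s₀.toRingHom, hs₀, fun c => s₀.commutes c⟩
  have hδ : ∀ a : Λ, X.proj (algebraMap Λ X.E a - t₀ (algebraMap Λ R a)) = 0 := by
    intro a
    rw [map_sub, ht₀, X.proj.commutes, sub_self]
  obtain ⟨Dfun, hi⟩ : ∃ Dfun : Λ → L,
      ∀ a, X.incl (Dfun a) = algebraMap Λ X.E a - t₀ (algebraMap Λ R a) :=
    ⟨fun a => X.kerLift _ (hδ a), fun a => X.incl_kerLift _ (hδ a)⟩
  have hinj := X.isExtension.incl_injective
  have hsm1 : ∀ (a : Λ) (z : L), algebraMap Λ X.E a * X.incl z = X.incl (a • z) := by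
    intro a z
    rw [X.isExtension.mul_incl, X.proj.commutes, algebraMap_smul]
  have hsm2 : ∀ (r : R) (z : L), t₀ r * X.incl z = X.incl (r • z) := by
    intro r z
    rw [X.isExtension.mul_incl, ht₀]
  have hadd : ∀ a b : Λ, Dfun (a + b) = Dfun a + Dfun b := by
    intro a b
    apply hinj
    rw [map_add, hi, hi, hi]
    simp only [map_add]
    abel
  have hleib : ∀ a b : Λ, Dfun (a * b) = a • Dfun b + b • Dfun a := by
    intro a b
    apply hinj
    have h0 := incl_mul_incl X (Dfun a) (Dfun b)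
    rw [hi, hi] at h0
    rw [map_add, ← hsm1, ← hsm1, hi, hi, hi]
    simp only [map_mul]
    linear_combination (-1 : X.E) * h0
  have hconst : ∀ c : k, Dfun (algebraMap k Λ c) = 0 := by
    intro c
    apply hinj
    rw [hi, map_zero, ← IsScalarTower.algebraMap_apply k Λ R, ht₀c, sub_self]
  have hsmul : ∀ (c : k) (a : Λ), Dfun (c • a) = c • Dfun a := by
    intro c a
    rw [Algebra.smul_def, hleib, hconst, smul_zero, add_zero, algebraMap_smul]
  obtain ⟨D', hD'⟩ :=
    hA (Derivation.mk' { toFun := Dfun, map_add' := hadd, map_smul' := hsmul } hleib)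
  have hD'' : ∀ a : Λ, D' (algebraMap Λ R a) = Dfun a := hD'
  refine ⟨{ toFun := fun r => t₀ r + X.incl (D' r)
            map_one' := ?_
            map_mul' := ?_
            map_zero' := ?_
            map_add' := ?_
            commutes' := ?_ }, fun r => ?_⟩
  · show t₀ 1 + X.incl (D' 1) = 1
    rw [map_one, Derivation.map_one_eq_zero, map_zero, add_zero]
  · intro r r'
    show t₀ (r * r') + X.incl (D' (r * r')) = (t₀ r + X.incl (D' r)) * (t₀ r' + X.incl (D' r'))
    rw [Derivation.leibniz, map_add, ← hsm2, ← hsm2, map_mul]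
    have h0 := incl_mul_incl X (D' r) (D' r')
    linear_combination (-1 : X.E) * h0
  · show t₀ 0 + X.incl (D' 0) = 0
    simp only [map_zero, add_zero]
  · intro r r'
    show t₀ (r + r') + X.incl (D' (r + r')) = (t₀ r + X.incl (D' r)) + (t₀ r' + X.incl (D' r'))
    simp only [map_add]
    abel
  · intro a
    show t₀ (algebraMap Λ R a) + X.incl (D' (algebraMap Λ R a)) = algebraMap Λ X.E a
    rw [hD'', hi]
    abel
  · show X.proj (t₀ r + X.incl (D' r)) = r
    rw [map_add, ht₀, proj_incl, add_zero]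

end Conv

end Groth.Agent.Helper17.EX6
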