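import Groth.Agent.Lib.Helper13.CechAcyc

/-!
# helper17: general lemmas on the (full) Čech complex of a presheaf of abelian groups on a space

* element-level API for homology of complexes of abelian groups;
* `CData`/`CIso`: maps/isomorphisms of Čech complexes from compatible families of maps on the
  sections over the finite intersections (possibly between different spaces);
* `SecExact`: a sequence of presheaves which is short exact on the finite intersections gives a
  short exact sequence of Čech complexes;
* `toH0`: for a sheaf, `H⁰` of the Čech complex is the group of sections over the union.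
-/

set_option autoImplicit false
set_option linter.unusedSectionVars false
set_option linter.unusedVariables false

universe u

open CategoryTheory CategoryTheory.Limits Opposite TopologicalSpace

namespace Groth.Agent.Helper17.FCH

open Groth.Agent.Helper24.CechEv Groth.Agent.Helper13.CechAcyc

/-! ### homology of complexes of abelian groups, element-wise -/

section general

variable {ι' : Type*} {c : ComplexShape ι'} (K : HomologicalComplex AddCommGrpCat.{u} c)

theorem exists_cycle (i j : ι') (hij : c.next i = j) (x : K.X i) (hx : (K.d i j).hom x = 0) :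
    ∃ z : K.cycles i, (K.iCycles i).hom z = x := by
  subst hij
  have hx' : x ∈ AddMonoidHom.ker (K.sc i).g.hom := hx
  exact ⟨(K.sc i).abCyclesIso.inv.hom ⟨x, hx'⟩, (K.sc i).abCyclesIso_inv_apply_iCycles ⟨x, hx'⟩⟩

theorem iCycles_injective (i : ι') : Function.Injective (K.iCycles i).hom :=
  (AddCommGrpCat.mono_iff_injective _).1 inferInstance

theorem homologyπ_surjective (i : ι') : Function.Surjective (K.homologyπ i).hom :=
  (AddCommGrpCat.epi_iff_surjective _).1 inferInstance

theorem iCycles_toCycles (i j : ι') (y : K.X i) :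
    (K.iCycles j).hom ((K.toCycles i j).hom y) = (K.d i j).hom y :=
  congrArg (fun f => f.hom y) (K.toCycles_i i j)

theorem iCycles_d_apply (i j : ι') (z : K.cycles i) :
    (K.d i j).hom ((K.iCycles i).hom z) = 0 :=
  congrArg (fun f => f.hom z) (K.iCycles_d i j)

theorem homologyπ_eq_zero_iff (i j : ι') (hi : c.prev j = i) (z : K.cycles j) :
    (K.homologyπ j).hom z = 0 ↔ ∃ y : K.X i, (K.toCycles i j).hom y = z := by
  have hex : (ShortComplex.mk (K.toCycles i j) (K.homologyπ j)
      (K.toCycles_comp_homologyπ i j)).Exact :=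
    ShortComplex.exact_of_g_is_cokernel _ (K.homologyIsCokernel i j hi)
  rw [ShortComplex.ab_exact_iff] at hex
  constructor
  · intro h
    obtain ⟨y, hy⟩ := hex z h
    exact ⟨y, hy⟩
  · rintro ⟨y, rfl⟩
    exact congrArg (fun f => f.hom y) (K.toCycles_comp_homologyπ i j)

variable {K} {L : HomologicalComplex AddCommGrpCat.{u} c}

theorem iCycles_cyclesMap (φ : K ⟶ L) (i : ι') (z : K.cycles i) :
    (L.iCycles i).hom ((HomologicalComplex.cyclesMap φ i).hom z) =
      (φ.f i).hom ((K.iCycles i).hom z) :=
  congrArg (fun f => f.hom z) (HomologicalComplex.cyclesMap_i φ i)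

theorem homologyMap_π (φ : K ⟶ L) (i : ι') (z : K.cycles i) :
    (HomologicalComplex.homologyMap φ i).hom ((K.homologyπ i).hom z) =
      (L.homologyπ i).hom ((HomologicalComplex.cyclesMap φ i).hom z) :=
  congrArg (fun f => f.hom z) (HomologicalComplex.homologyπ_naturality φ i)

end general

/-- two surjections with the same kernel have isomorphic targets -/
theorem nonempty_addEquiv_of_surjective_of_ker_eq {A B B' : Type*} [AddCommGroup A]
    [AddCommGroup B] [AddCommGroup B'] (g : A →+ B) (g' : A →+ B')
    (hg : Function.Surjective g) (hg' : Function.Surjective g')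
    (hk : ∀ a, g a = 0 ↔ g' a = 0) : Nonempty (B ≃+ B') := by
  have hker : g.ker = g'.ker := by
    ext a
    exact hk a
  exact ⟨(QuotientAddGroup.quotientKerEquivOfSurjective g hg).symm.trans
    ((QuotientAddGroup.quotientAddEquivOfEq hker).trans
      (QuotientAddGroup.quotientKerEquivOfSurjective g' hg'))⟩

/-! ### restriction maps -/

section res

variable {X : TopCat.{u}} (P : (Opens X)ᵒᵖ ⥤ AddCommGrpCat.{u})

/-- restriction of sections -/
noncomputable def rs {A B : Opens X} (h : B ≤ A) : P.obj (op A) →+ P.obj (op B) :=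
  (P.map (homOfLE h).op).hom

theorem rs_def {A B : Opens X} (h : B ≤ A) (x : P.obj (op A)) :
    rs P h x = (P.map (homOfLE h).op).hom x := rfl

theorem rs_rs {A B C : Opens X} (h : B ≤ A) (h' : C ≤ B) (x : P.obj (op A)) :
    rs P h' (rs P h x) = rs P (h'.trans h) x := by
  have e : P.map (homOfLE h).op ≫ P.map (homOfLE h').op = P.map (homOfLE (h'.trans h)).op := by
    rw [← P.map_comp, ← op_comp]
    rfl
  exact congrArg (fun f => f.hom x) e

theorem rs_self {A : Opens X} (x : P.obj (op A)) : rs P (le_refl A) x = x := by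
  have e : P.map (homOfLE (le_refl A)).op = 𝟙 _ := by
    have : (homOfLE (le_refl A)).op = 𝟙 (op A) := rfl
    rw [this, P.map_id]
  exact congrArg (fun f => f.hom x) e

theorem rs_nat {P' : (Opens X)ᵒᵖ ⥤ AddCommGrpCat.{u}} (φ : P ⟶ P') {A B : Opens X}
    (h : B ≤ A) (x : P.obj (op A)) :
    rs P' h ((φ.app (op A)).hom x) = (φ.app (op B)).hom (rs P h x) :=
  (congrArg (fun f => f.hom x) (φ.naturality (homOfLE h).op)).symm

end res

/-! ### evaluation of cochains -/

section ev

variable {X : TopCat.{u}} {ι : Type u} (V : ι → Opens X) (P : (Opens X)ᵒᵖ ⥤ AddCommGrpCat.{u})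

/-- evaluation of a cochain at the full intersection -/
noncomputable abbrev evA {n : ℕ} (a : Fin (n+1) → ι) : (cech V P).X n →+ P.obj (op (Va V a)) :=
  evT V P (Va V a) a (Va_le V a)

theorem le_face {n : ℕ} (b : Fin (n+2) → ι) (j : Fin (n+2)) :
    Va V b ≤ Va V (b ∘ (SimplexCategory.δ j).toOrderHom) :=
  le_Va V _ (fun k => Va_le V b _)

theorem evT_eq_rs {n : ℕ} (T : Opens X) (a : Fin (n+1) → ι) (h : ∀ k, T ≤ V (a k))
    (s : (cech V P).X n) : evT V P T a h s = rs P (le_Va V a h) (evA V P a s) :=
  (evT_res V P (le_Va V a h) a (Va_le V a) s).symm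

theorem evA_d {n : ℕ} (b : Fin (n+2) → ι) (s : (cech V P).X n) :
    evA V P b (((cech V P).d n (n+1)).hom s) =
      ∑ j : Fin (n+2), (-1:ℤ)^(j:ℕ) •
        rs P (le_face V b j) (evA V P (b ∘ (SimplexCategory.δ j).toOrderHom) s) := by
  rw [evT_d]
  refine Finset.sum_congr rfl fun j _ => ?_
  rw [evT_eq_rs]

theorem evA_map {P' : (Opens X)ᵒᵖ ⥤ AddCommGrpCat.{u}} (φ : P ⟶ P') {n : ℕ}
    (a : Fin (n+1) → ι) (s : (cech V P).X n) :
    evA V P' a ((((cechComplexFunctor V).map φ).f n).hom s) =
      (φ.app (op (Va V a))).hom (evA V P a s) :=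
  congrArg (fun m => m.hom s) (map_ev V φ (Va V a) (tup V a (Va_le V a)))

end ev

/-! ### maps of Čech complexes from compatible families -/

section data

variable {X X' : TopCat.{u}} {ι : Type u} (V : ι → Opens X) (V' : ι → Opens X')
  (P : (Opens X)ᵒᵖ ⥤ AddCommGrpCat.{u}) (P' : (Opens X')ᵒᵖ ⥤ AddCommGrpCat.{u})

/-- a family of maps between the sections over the finite intersections, compatible with the
face restrictions -/
structure CData where
  φ : ∀ (n : ℕ) (a : Fin (n+1) → ι), P.obj (op (Va V a)) →+ P'.obj (op (Va V' a))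
  comm : ∀ (n : ℕ) (b : Fin (n+2) → ι) (j : Fin (n+2))
    (x : P.obj (op (Va V (b ∘ (SimplexCategory.δ j).toOrderHom)))),
    φ (n+1) b (rs P (le_face V b j) x) = rs P' (le_face V' b j) (φ n _ x)

namespace CData

variable {V V' P P'} (D : CData V V' P P')

/-- the induced map on cochains -/
noncomputable def fn (n : ℕ) (s : (cech V P).X n) : (cech V' P').X n :=
  Classical.choose (exists_cochain V' P' (fun a => D.φ n a (evA V P a s)))

theorem evA_fn (n : ℕ) (a : Fin (n+1) → ι) (s : (cech V P).X n) :
    evA V' P' a (D.fn n s) = D.φ n a (evA V P a s) :=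
  Classical.choose_spec (exists_cochain V' P' (fun a => D.φ n a (evA V P a s))) a

/-- the induced map on cochains, as an additive map -/
noncomputable def fAdd (n : ℕ) : (cech V P).X n →+ (cech V' P').X n :=
  AddMonoidHom.mk' (D.fn n) (fun s t => by
    apply ext_cochain
    intro a
    show evA V' P' a (D.fn n (s + t)) = evA V' P' a (D.fn n s + D.fn n t)
    rw [map_add (evA V' P' a), evA_fn, evA_fn, evA_fn, map_add (evA V P a), map_add])

/-- the induced map on cochains, as a morphism -/
noncomputable def f (n : ℕ) : (cech V P).X n ⟶ (cech V' P').X n :=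
  AddCommGrpCat.ofHom (D.fAdd n)

theorem f_apply (n : ℕ) (s : (cech V P).X n) : (D.f n).hom s = D.fn n s := rfl

theorem fn_d (n : ℕ) (s : (cech V P).X n) :
    D.fn (n+1) (((cech V P).d n (n+1)).hom s) = ((cech V' P').d n (n+1)).hom (D.fn n s) := by
  apply ext_cochain
  intro b
  show evA V' P' b _ = evA V' P' b _
  rw [evA_fn, evA_d, evA_d, map_sum]
  refine Finset.sum_congr rfl fun j _ => ?_
  rw [map_zsmul, D.comm, evA_fn]

/-- the induced morphism of Čech complexes -/
noncomputable def hom : cech V P ⟶ cech V' P' where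
  f n := D.f n
  comm' i j hij := by
    obtain rfl : i + 1 = j := hij
    refine AddCommGrpCat.hom_ext (AddMonoidHom.ext fun s => ?_)
    exact (D.fn_d i s).symm

theorem hom_f_apply (n : ℕ) (s : (cech V P).X n) : (D.hom.f n).hom s = D.fn n s := rfl

end CData

/-- a family of isomorphisms between the sections over the finite intersections, compatible with
the face restrictions -/
structure CIso where
  e : ∀ (n : ℕ) (a : Fin (n+1) → ι), P.obj (op (Va V a)) ≃+ P'.obj (op (Va V' a))
  comm : ∀ (n : ℕ) (b : Fin (n+2) → ι) (j : Fin (n+2))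
    (x : P.obj (op (Va V (b ∘ (SimplexCategory.δ j).toOrderHom)))),
    e (n+1) b (rs P (le_face V b j) x) = rs P' (le_face V' b j) (e n _ x)

namespace CIso

variable {V V' P P'} (E : CIso V V' P P')

/-- forward data -/
noncomputable def toData : CData V V' P P' where
  φ n a := (E.e n a).toAddMonoidHom
  comm n b j x := E.comm n b j x

/-- backward data -/
noncomputable def symmData : CData V' V P' P where
  φ n a := (E.e n a).symm.toAddMonoidHom
  comm n b j y := by
    show (E.e (n+1) b).symm (rs P' (le_face V' b j) y) =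
      rs P (le_face V b j) ((E.e n _).symm y)
    apply (E.e (n+1) b).injective
    rw [AddEquiv.apply_symm_apply, E.comm, AddEquiv.apply_symm_apply]

theorem hom_inv : E.toData.hom ≫ E.symmData.hom = 𝟙 _ := by
  ext n : 1
  refine AddCommGrpCat.hom_ext (AddMonoidHom.ext fun s => ?_)
  show E.symmData.fn n (E.toData.fn n s) = s
  apply ext_cochain
  intro a
  show evA V P a _ = evA V P a s
  rw [CData.evA_fn, CData.evA_fn]
  exact (E.e n a).symm_apply_apply _

theorem inv_hom : E.symmData.hom ≫ E.toData.hom = 𝟙 _ := by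
  ext n : 1
  refine AddCommGrpCat.hom_ext (AddMonoidHom.ext fun s => ?_)
  show E.toData.fn n (E.symmData.fn n s) = s
  apply ext_cochain
  intro a
  show evA V' P' a _ = evA V' P' a s
  rw [CData.evA_fn, CData.evA_fn]
  exact (E.e n a).apply_symm_apply _

/-- the induced isomorphism on Čech cohomology -/
noncomputable def homologyIso (p : ℕ) : (cech V P).homology p ≅ (cech V' P').homology p where
  hom := HomologicalComplex.homologyMap E.toData.hom p
  inv := HomologicalComplex.homologyMap E.symmData.hom p
  hom_inv_id := by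
    rw [← HomologicalComplex.homologyMap_comp, E.hom_inv, HomologicalComplex.homologyMap_id]
  inv_hom_id := by
    rw [← HomologicalComplex.homologyMap_comp, E.inv_hom, HomologicalComplex.homologyMap_id]

include E in
theorem nonempty_homology_addEquiv (p : ℕ) :
    Nonempty ((cech V P).homology p ≃+ (cech V' P').homology p) :=
  ⟨(E.homologyIso p).addCommGroupIsoToAddEquiv⟩

end CIso

end data

/-! ### short exact sequences of Čech complexes -/

section exact

variable {X : TopCat.{u}} {ι : Type u} (V : ι → Opens X)
  {P₁ P₂ P₃ : (Opens X)ᵒᵖ ⥤ AddCommGrpCat.{u}} (α : P₁ ⟶ P₂) (β : P₂ ⟶ P₃)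

/-- the induced map of Čech complexes -/
noncomputable abbrev cmap {P₁ P₂ : (Opens X)ᵒᵖ ⥤ AddCommGrpCat.{u}} (α : P₁ ⟶ P₂) :
    cech V P₁ ⟶ cech V P₂ := (cechComplexFunctor V).map α

/-- short exactness on the sections over all finite intersections -/
structure SecExact : Prop where
  inj : ∀ (n : ℕ) (a : Fin (n+1) → ι), Function.Injective (α.app (op (Va V a))).hom
  surj : ∀ (n : ℕ) (a : Fin (n+1) → ι), Function.Surjective (β.app (op (Va V a))).hom
  exact : ∀ (n : ℕ) (a : Fin (n+1) → ι),
    Function.Exact (α.app (op (Va V a))).hom (β.app (op (Va V a))).hom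

variable {V α β}

theorem SecExact.comp_zero (h : SecExact V α β) : cmap V α ≫ cmap V β = 0 := by
  ext n : 1
  refine AddCommGrpCat.hom_ext (AddMonoidHom.ext fun s => ?_)
  show ((cmap V β).f n).hom (((cmap V α).f n).hom s) = 0
  apply ext_cochain
  intro a
  show evA V P₃ a _ = evA V P₃ a 0
  rw [evA_map, evA_map, (h.exact n a).apply_apply_eq_zero, map_zero]

theorem SecExact.shortExact (h : SecExact V α β) :
    (ShortComplex.mk (cmap V α) (cmap V β) h.comp_zero).ShortExact := by
  apply HomologicalComplex.shortExact_of_degreewise_shortExact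
  intro n
  refine { exact := ?_, mono_f := ?_, epi_g := ?_ }
  · rw [ShortComplex.ab_exact_iff]
    intro y hy
    have hy' : ((cmap V β).f n).hom y = 0 := hy
    have h1 : ∀ a : Fin (n+1) → ι, ∃ x : P₁.obj (op (Va V a)),
        (α.app (op (Va V a))).hom x = evA V P₂ a y := by
      intro a
      apply ((h.exact n a) _).1
      rw [← evA_map, hy', map_zero]
    choose x hx using h1
    obtain ⟨t, ht⟩ := exists_cochain V P₁ x
    refine ⟨t, ?_⟩
    show ((cmap V α).f n).hom t = y
    apply ext_cochain
    intro a
    show evA V P₂ a _ = evA V P₂ a y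
    rw [evA_map]
    show (α.app (op (Va V a))).hom (evT V P₁ (Va V a) a (Va_le V a) t) = _
    rw [ht, hx]
  · rw [AddCommGrpCat.mono_iff_injective]
    intro s s' hss
    have hss' : ((cmap V α).f n).hom s = ((cmap V α).f n).hom s' := hss
    apply ext_cochain
    intro a
    apply h.inj n a
    show (α.app (op (Va V a))).hom (evA V P₁ a s) = (α.app (op (Va V a))).hom (evA V P₁ a s')
    rw [← evA_map, ← evA_map, hss']
  · rw [AddCommGrpCat.epi_iff_surjective]
    intro y
    have h1 : ∀ a : Fin (n+1) → ι, ∃ x : P₂.obj (op (Va V a)),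
        (β.app (op (Va V a))).hom x = evA V P₃ a y := fun a => h.surj n a _
    choose x hx using h1
    obtain ⟨t, ht⟩ := exists_cochain V P₂ x
    refine ⟨t, ?_⟩
    show ((cmap V β).f n).hom t = y
    apply ext_cochain
    intro a
    show evA V P₃ a _ = evA V P₃ a y
    rw [evA_map]
    show (β.app (op (Va V a))).hom (evT V P₂ (Va V a) a (Va_le V a) t) = _
    rw [ht, hx]

section LES

variable (h : SecExact V α β)

/-- the induced map on Čech cohomology -/
noncomputable abbrev Hm {P₁ P₂ : (Opens X)ᵒᵖ ⥤ AddCommGrpCat.{u}} (V : ι → Opens X)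
    (α : P₁ ⟶ P₂) (p : ℕ) : (cech V P₁).homology p →+ (cech V P₂).homology p :=
  (HomologicalComplex.homologyMap (cmap V α) p).hom

/-- the connecting homomorphism -/
noncomputable def SecExact.δ (p : ℕ) : (cech V P₃).homology p →+ (cech V P₁).homology (p+1) :=
  (h.shortExact.δ p (p+1) rfl).hom

theorem SecExact.exact₁ (p : ℕ) : Function.Exact (h.δ p) (Hm V α (p+1)) :=
  (ShortComplex.ab_exact_iff_function_exact _).1 (h.shortExact.homology_exact₁ p (p+1) rfl)

include h in
theorem SecExact.exact₂ (p : ℕ) : Function.Exact (Hm V α p) (Hm V β p) :=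
  (ShortComplex.ab_exact_iff_function_exact _).1 (h.shortExact.homology_exact₂ p)

theorem SecExact.exact₃ (p : ℕ) : Function.Exact (Hm V β p) (h.δ p) :=
  (ShortComplex.ab_exact_iff_function_exact _).1 (h.shortExact.homology_exact₃ p (p+1) rfl)

end LES

end exact

/-! ### vanishing -/

section vanish

variable {X : TopCat.{u}} {ι : Type u} (V : ι → Opens X) (P : (Opens X)ᵒᵖ ⥤ AddCommGrpCat.{u})

theorem isZero_homology_of_subsingleton
    (h : ∀ (n : ℕ) (a : Fin (n+1) → ι), Subsingleton (P.obj (op (Va V a)))) (p : ℕ) :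
    IsZero ((cech V P).homology p) := by
  have hX : Subsingleton ((cech V P).X p) := by
    refine ⟨fun s s' => ?_⟩
    apply ext_cochain
    intro a
    exact (h p a).elim _ _
  have hz : IsZero ((cech V P).X p) := by
    haveI := hX
    exact AddCommGrpCat.isZero_of_subsingleton _
  exact ShortComplex.isZero_homology_of_isZero_X₂ _ hz

end vanish

end Groth.Agent.Helper17.FCH
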