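import Groth.Agent.Lib.Helper17.FCH1

/-!
# helper17: `H⁰` of the Čech complex of a sheaf is the group of sections over the union
-/

set_option autoImplicit false
set_option linter.unusedSectionVars false
set_option linter.unusedVariables false

universe u

open CategoryTheory CategoryTheory.Limits Opposite TopologicalSpace

namespace Groth.Agent.Helper17.FCH

open Groth.Agent.Helper24.CechEv Groth.Agent.Helper13.CechAcyc

section H0

variable {X : TopCat.{u}} {ι : Type u} (V : ι → Opens X) (P : (Opens X)ᵒᵖ ⥤ AddCommGrpCat.{u})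
  (U : Opens X) (hle : ∀ i, V i ≤ U)

include hle in
theorem Va_le_U {n : ℕ} (a : Fin (n+1) → ι) : Va V a ≤ U := (Va_le V a 0).trans (hle (a 0))

/-- the cochain of restrictions of a section -/
noncomputable def epsFn (s : P.obj (op U)) : (cech V P).X 0 :=
  Classical.choose (exists_cochain V P (fun a : Fin (0+1) → ι => rs P (Va_le_U V U hle a) s))

theorem evA_epsFn (a : Fin (0+1) → ι) (s : P.obj (op U)) :
    evA V P a (epsFn V P U hle s) = rs P (Va_le_U V U hle a) s :=
  Classical.choose_spec
    (exists_cochain V P (fun a : Fin (0+1) → ι => rs P (Va_le_U V U hle a) s)) a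

/-- the cochain of restrictions of a section, as an additive map -/
noncomputable def eps : P.obj (op U) →+ (cech V P).X 0 :=
  AddMonoidHom.mk' (epsFn V P U hle) (fun s t => by
    apply ext_cochain
    intro a
    show evA V P a (epsFn V P U hle (s + t)) = evA V P a (epsFn V P U hle s + epsFn V P U hle t)
    rw [map_add (evA V P a), evA_epsFn, evA_epsFn, evA_epsFn, map_add])

theorem evA_eps (a : Fin (0+1) → ι) (s : P.obj (op U)) :
    evA V P a (eps V P U hle s) = rs P (Va_le_U V U hle a) s := evA_epsFn V P U hle a s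

theorem evT_eps (T : Opens X) (a : Fin (0+1) → ι) (h : ∀ k, T ≤ V (a k)) (s : P.obj (op U)) :
    evT V P T a h (eps V P U hle s) = rs P ((h 0).trans (hle (a 0))) s := by
  rw [evT_eq_rs, evA_eps, rs_rs]

theorem d_eps (s : P.obj (op U)) : ((cech V P).d 0 1).hom (eps V P U hle s) = 0 := by
  apply ext_cochain
  intro b
  show evA V P b (((cech V P).d 0 (0+1)).hom (eps V P U hle s)) = evA V P b 0
  rw [map_zero, evA_d, Fin.sum_univ_two, evA_eps, evA_eps, rs_rs, rs_rs]
  simp

/-- sections over the union, mapped to the cycles -/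
noncomputable def toCyc : P.obj (op U) ⟶ (cech V P).cycles 0 :=
  (cech V P).liftCycles (AddCommGrpCat.ofHom (eps V P U hle)) 1 (by simp)
    (AddCommGrpCat.hom_ext (AddMonoidHom.ext fun s => d_eps V P U hle s))

theorem iCycles_toCyc (s : P.obj (op U)) :
    ((cech V P).iCycles 0).hom ((toCyc V P U hle).hom s) = eps V P U hle s := by
  have e := (cech V P).liftCycles_i (AddCommGrpCat.ofHom (eps V P U hle)) 1 (by simp)
    (AddCommGrpCat.hom_ext (AddMonoidHom.ext fun s => d_eps V P U hle s))
  exact congrArg (fun f => f.hom s) e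

/-- sections over the union, mapped to `H⁰` -/
noncomputable def toH0 : P.obj (op U) →+ (cech V P).homology 0 :=
  (toCyc V P U hle ≫ (cech V P).homologyπ 0).hom

theorem toH0_apply (s : P.obj (op U)) :
    toH0 V P U hle s = ((cech V P).homologyπ 0).hom ((toCyc V P U hle).hom s) := rfl

theorem toH0_nat {P' : (Opens X)ᵒᵖ ⥤ AddCommGrpCat.{u}} (φ : P ⟶ P') (s : P.obj (op U)) :
    Hm V φ 0 (toH0 V P U hle s) = toH0 V P' U hle ((φ.app (op U)).hom s) := by
  rw [toH0_apply, toH0_apply]
  show (HomologicalComplex.homologyMap (cmap V φ) 0).hom _ = _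
  rw [homologyMap_π]
  congr 1
  apply iCycles_injective (cech V P') 0
  rw [iCycles_cyclesMap, iCycles_toCyc, iCycles_toCyc]
  apply ext_cochain
  intro a
  show evA V P' a (((cmap V φ).f 0).hom (eps V P U hle s)) = evA V P' a (eps V P' U hle _)
  rw [evA_map, evA_eps, evA_eps, rs_nat]

variable (hP : TopCat.Presheaf.IsSheaf P) (hcov : U ≤ iSup V)

include hP hcov in
theorem toH0_injective : Function.Injective (toH0 V P U hle) := by
  rw [injective_iff_map_eq_zero]
  intro s hs
  rw [toH0_apply] at hs
  obtain ⟨y, hy⟩ := (homologyπ_eq_zero_iff (cech V P) 0 0 (by simp) _).1 hs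
  have h0 : eps V P U hle s = 0 := by
    rw [← iCycles_toCyc, ← hy, iCycles_toCycles]
    have hd : (cech V P).d 0 0 = 0 := (cech V P).shape 0 0 (by simp)
    rw [hd]
    rfl
  refine TopCat.Sheaf.eq_of_locally_eq' ⟨P, hP⟩ V U (fun i => homOfLE (hle i)) hcov s 0
    (fun i => ?_)
  have h1 := evT_eps V P U hle (V i) (fun _ => i) (fun _ => le_rfl) s
  rw [h0, map_zero] at h1
  show rs P (hle i) s = rs P (hle i) 0
  rw [map_zero]
  exact h1.symm

include hP hcov in
theorem exists_eps_eq (c : (cech V P).X 0) (hc : ((cech V P).d 0 1).hom c = 0) :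
    ∃ s : P.obj (op U), eps V P U hle s = c := by
  let sf : ∀ i, P.obj (op (V i)) := fun i => evT V P (V i) (fun _ => i) (fun _ => le_rfl) c
  have hcompat : ∀ i j, rs P (inf_le_left : V i ⊓ V j ≤ V i) (sf i) =
      rs P (inf_le_right : V i ⊓ V j ≤ V j) (sf j) := by
    intro i j
    have hb : ∀ k : Fin (0+2), V i ⊓ V j ≤ V ((![i, j] : Fin (0+2) → ι) k) := by
      intro k
      fin_cases k
      · exact inf_le_left
      · exact inf_le_right
    have key := evT_d V P (V i ⊓ V j) ![i, j] hb c
    rw [hc, map_zero, Fin.sum_univ_two] at key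
    have e0 : (![i, j] : Fin (0+2) → ι) ∘ (SimplexCategory.δ (0 : Fin (0+2))).toOrderHom =
        fun _ => j := by
      funext k
      fin_cases k
      rfl
    have e1 : (![i, j] : Fin (0+2) → ι) ∘ (SimplexCategory.δ (1 : Fin (0+2))).toOrderHom =
        fun _ => i := by
      funext k
      fin_cases k
      rfl
    rw [evT_congr V P _ e0 _ (fun _ => inf_le_right),
      evT_congr V P _ e1 _ (fun _ => inf_le_left)] at key
    have h1 : evT V P (V i ⊓ V j) (fun _ => i) (fun _ => inf_le_left) c =
        rs P inf_le_left (sf i) :=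
      (evT_res V P inf_le_left (fun _ => i) (fun _ => le_rfl) c).symm
    have h2 : evT V P (V i ⊓ V j) (fun _ => j) (fun _ => inf_le_right) c =
        rs P inf_le_right (sf j) :=
      (evT_res V P inf_le_right (fun _ => j) (fun _ => le_rfl) c).symm
    rw [h1, h2] at key
    have key' : rs P (inf_le_right : V i ⊓ V j ≤ V j) (sf j) -
        rs P (inf_le_left : V i ⊓ V j ≤ V i) (sf i) = 0 := by
      simpa [sub_eq_add_neg] using key.symm
    exact (sub_eq_zero.1 key').symm
  have hcomp' : TopCat.Presheaf.IsCompatible P V sf := fun i j => hcompat i j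
  obtain ⟨s, hs, -⟩ := TopCat.Sheaf.existsUnique_gluing'
    (⟨P, hP⟩ : TopCat.Sheaf AddCommGrpCat.{u} X) V U (fun i => homOfLE (hle i)) hcov sf hcomp'
  have hs' : ∀ i, rs P (hle i) s = sf i := hs
  refine ⟨s, ?_⟩
  apply ext_cochain
  intro a
  show evA V P a (eps V P U hle s) = evA V P a c
  rw [evA_eps]
  have ha : a = fun _ => a 0 := by
    funext k
    fin_cases k
    rfl
  have h1 : evA V P a c = rs P (Va_le V a 0) (sf (a 0)) := by
    show evT V P (Va V a) a (Va_le V a) c = _
    rw [evT_congr V P (Va V a) ha (Va_le V a) (fun _ => Va_le V a 0) c]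
    exact (evT_res V P (Va_le V a 0) (fun _ => a 0) (fun _ => le_rfl) c).symm
  rw [h1, ← hs' (a 0), rs_rs]

include hP hcov in
theorem toH0_surjective : Function.Surjective (toH0 V P U hle) := by
  intro hcl
  obtain ⟨z, rfl⟩ := homologyπ_surjective (cech V P) 0 hcl
  have hc : ((cech V P).d 0 1).hom (((cech V P).iCycles 0).hom z) = 0 :=
    iCycles_d_apply (cech V P) 0 1 z
  obtain ⟨s, hs⟩ := exists_eps_eq V P U hle hP hcov _ hc
  refine ⟨s, ?_⟩
  rw [toH0_apply]
  congr 1
  apply iCycles_injective (cech V P) 0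
  rw [iCycles_toCyc, hs]

include hP hcov in
theorem toH0_bijective : Function.Bijective (toH0 V P U hle) :=
  ⟨toH0_injective V P U hle hP hcov, toH0_surjective V P U hle hP hcov⟩

end H0

end Groth.Agent.Helper17.FCH
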