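import Groth.Agent.Lib.Helper17.FCH2
import Groth.Agent.S0885
import Mathlib.AlgebraicGeometry.Modules.Tilde

/-!
# helper17: Čech complexes of the sheaves `Ñ` on `Spec R` for the family of basic opens `D(f_i)`

* sections over basic opens are localizations: exactness of sections on basic opens;
* a short exact sequence of modules gives a `SecExact` sequence of presheaves;
* vanishing of the sections of power-torsion modules;
* vanishing of the higher Čech cohomology of `L̃` when some `f_i` is bijective on `L`.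
-/

set_option autoImplicit false
set_option linter.unusedSectionVars false
set_option linter.unusedVariables false

universe u

open CategoryTheory CategoryTheory.Limits Opposite TopologicalSpace AlgebraicGeometry

namespace Groth.Agent.Helper17.FCH

open Groth.Agent.Helper24.CechEv Groth.Agent.Helper13.CechAcyc

/-! ### finite intersections of a multiplicative family -/

section generalVa

variable {X : TopCat.{u}} {ι : Type u} (V : ι → Opens X)

theorem Va_eq_inf {n : ℕ} (a : Fin (n+1) → ι) :
    Va V a = Finset.univ.inf (fun k => V (a k)) :=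
  le_antisymm (Finset.le_inf fun k _ => Va_le V a k)
    (le_Va V a fun k => Finset.inf_le (Finset.mem_univ k))

theorem Va_eq_of_mul {R : Type*} [CommMonoid R] (D : R → Opens X) (h1 : D 1 = ⊤)
    (hmul : ∀ x y, D (x * y) = D x ⊓ D y) (c : ι → R) (hV : ∀ i, V i = D (c i)) {n : ℕ}
    (a : Fin (n+1) → ι) : Va V a = D (∏ k, c (a k)) := by
  classical
  rw [Va_eq_inf]
  have : ∀ s : Finset (Fin (n+1)), s.inf (fun k => V (a k)) = D (∏ k ∈ s, c (a k)) := by
    intro s
    induction s using Finset.induction_on with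
    | empty => rw [Finset.inf_empty, Finset.prod_empty, h1]
    | insert k s hk ih => rw [Finset.inf_insert, Finset.prod_insert hk, hmul, ih, hV]
  exact this _

end generalVa

/-! ### the sheaves `Ñ` -/

section spec

variable {R : CommRingCat.{u}}

/-- the underlying presheaf of abelian groups of `Ñ` -/
noncomputable abbrev Pt (N : ModuleCat.{u} R) : (Opens (Spec R))ᵒᵖ ⥤ AddCommGrpCat.{u} :=
  (tilde N).presheaf

/-- basic opens, as opens of the scheme -/
noncomputable abbrev bD (g : R) : (Spec R).Opens := PrimeSpectrum.basicOpen g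

/-- the canonical map to the sections -/
noncomputable def tO (N : ModuleCat.{u} R) (T : (Spec R).Opens) : N →ₗ[R] Γ(tilde N, T) :=
  (tilde.toOpen N T).hom

instance isLoc_tO (N : ModuleCat.{u} R) (g : R) :
    IsLocalizedModule (Submonoid.powers g) (tO N (bD g)) :=
  inferInstanceAs (IsLocalizedModule.Away g (tilde.toOpen N (PrimeSpectrum.basicOpen g)).hom)

/-- the map on sections induced by a linear map -/
noncomputable def secMap {N N' : ModuleCat.{u} R} (w : N ⟶ N') (T : (Spec R).Opens) :
    Γ(tilde N, T) →ₗ[R] Γ(tilde N', T) :=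
  ((modulesSpecToSheaf.map (tilde.map w)).1.app (op T)).hom

/-- the induced map of presheaves -/
noncomputable def tmap {N N' : ModuleCat.{u} R} (w : N ⟶ N') : Pt N ⟶ Pt N' :=
  (tilde.map w).mapPresheaf

theorem tmap_app {N N' : ModuleCat.{u} R} (w : N ⟶ N') (T : (Spec R).Opens) (y : Γ(tilde N, T)) :
    ((tmap w).app (op T)).hom y = secMap w T y := rfl

theorem secMap_tO {N N' : ModuleCat.{u} R} (w : N ⟶ N') (T : (Spec R).Opens) (x : N) :
    secMap w T (tO N T x) = tO N' T (w.hom x) :=
  congrArg (fun f => f.hom x) (tilde.toOpen_map_app w T)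

theorem rs_tO (N : ModuleCat.{u} R) {T T' : (Spec R).Opens} (h : T' ≤ T) (x : N) :
    rs (Pt N) h (tO N T x) = tO N T' x := rfl

theorem rs_smul (N : ModuleCat.{u} R) {T T' : (Spec R).Opens} (h : T' ≤ T) (r : R)
    (y : Γ(tilde N, T)) : rs (Pt N) h (r • y) = r • rs (Pt N) h y :=
  Scheme.Modules.map_smul_Spec (M := tilde N) (homOfLE h).op r y

/-! ### sections over basic opens -/

theorem tO_surj (N : ModuleCat.{u} R) (g : R) (y : Γ(tilde N, bD g)) :
    ∃ (n : ℕ) (x : N), g ^ n • y = tO N (bD g) x := by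
  obtain ⟨⟨x, ⟨_, n, rfl⟩⟩, h⟩ := IsLocalizedModule.surj (Submonoid.powers g) (tO N (bD g)) y
  exact ⟨n, x, h⟩

theorem tO_eq_zero (N : ModuleCat.{u} R) (g : R) (x : N) (hx : tO N (bD g) x = 0) :
    ∃ n : ℕ, g ^ n • x = 0 := by
  obtain ⟨⟨_, n, rfl⟩, hn⟩ := (IsLocalizedModule.eq_zero_iff (Submonoid.powers g) (tO N (bD g))).1 hx
  exact ⟨n, hn⟩

theorem smul_pow_inj (N : ModuleCat.{u} R) (g c : R) (hc : c ∣ g) (n : ℕ)
    (y : Γ(tilde N, bD g)) (hy : c ^ n • y = 0) : y = 0 := by
  obtain ⟨d, hd⟩ := hc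
  have h1 : g ^ n • y = 0 := by
    have e : g ^ n = d ^ n * c ^ n := by rw [hd, mul_pow, mul_comm]
    rw [e, mul_smul, hy, smul_zero]
  have := IsLocalizedModule.smul_injective (tO N (bD g))
    (⟨g ^ n, n, rfl⟩ : Submonoid.powers g)
  apply this
  show g ^ n • y = g ^ n • (0 : Γ(tilde N, bD g))
  rw [h1, smul_zero]

theorem smul_pow_surj (N : ModuleCat.{u} R) (g : R) (n : ℕ) (y : Γ(tilde N, bD g)) :
    ∃ y' : Γ(tilde N, bD g), g ^ n • y' = y := by
  have h := IsLocalizedModule.map_units (tO N (bD g))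
    (⟨g ^ n, n, rfl⟩ : Submonoid.powers g)
  obtain ⟨y', hy'⟩ := ((Module.End.isUnit_iff _).1 h).2 y
  exact ⟨y', hy'⟩

/-! ### exactness of sections over basic opens -/

theorem secMap_eq_map {N N' : ModuleCat.{u} R} (w : N ⟶ N') (g : R) :
    secMap w (bD g) =
      IsLocalizedModule.map (Submonoid.powers g) (tO N (bD g)) (tO N' (bD g)) w.hom := by
  apply IsLocalizedModule.linearMap_ext (Submonoid.powers g) (tO N (bD g)) (tO N' (bD g))
  rw [IsLocalizedModule.map_comp]
  exact LinearMap.ext fun x => secMap_tO w (bD g) x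

theorem secMap_injective {N N' : ModuleCat.{u} R} (w : N ⟶ N') (hw : Function.Injective w.hom)
    (g : R) : Function.Injective (secMap w (bD g)) := by
  rw [secMap_eq_map]
  exact IsLocalizedModule.map_injective _ _ _ _ hw

theorem secMap_surjective {N N' : ModuleCat.{u} R} (w : N ⟶ N')
    (hw : Function.Surjective w.hom) (g : R) : Function.Surjective (secMap w (bD g)) := by
  rw [secMap_eq_map]
  exact IsLocalizedModule.map_surjective _ _ _ _ hw

theorem secMap_exact {N₁ N₂ N₃ : ModuleCat.{u} R} (w : N₁ ⟶ N₂) (w' : N₂ ⟶ N₃)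
    (hex : Function.Exact w.hom w'.hom) (g : R) :
    Function.Exact (secMap w (bD g)) (secMap w' (bD g)) := by
  rw [secMap_eq_map, secMap_eq_map]
  exact IsLocalizedModule.map_exact (Submonoid.powers g) (tO N₁ (bD g)) (tO N₂ (bD g))
    (tO N₃ (bD g)) _ _ hex

/-! ### the family of basic opens of a list -/

/-- the family `D(f_i)` -/
noncomputable def Dv (fs : List R) : ULift.{u} (Fin fs.length) → Opens (Spec R) :=
  fun i => bD (fs.get i.down)

/-- the product of the functions of a tuple -/
noncomputable def gA (fs : List R) {n : ℕ} (a : Fin (n+1) → ULift.{u} (Fin fs.length)) : R :=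
  ∏ k, fs.get (a k).down

theorem Va_Dv (fs : List R) {n : ℕ} (a : Fin (n+1) → ULift.{u} (Fin fs.length)) :
    Va (Dv fs) a = bD (gA fs a) :=
  Va_eq_of_mul (Dv fs) (fun g : R => bD g) PrimeSpectrum.basicOpen_one
    PrimeSpectrum.basicOpen_mul (fun i => fs.get i.down) (fun i => rfl) a

theorem get_dvd_gA (fs : List R) {n : ℕ} (a : Fin (n+1) → ULift.{u} (Fin fs.length))
    (k : Fin (n+1)) : fs.get (a k).down ∣ gA fs a :=
  Finset.dvd_prod_of_mem (fun k => fs.get (a k).down) (Finset.mem_univ k)

theorem secExact_tilde (fs : List R) {N₁ N₂ N₃ : ModuleCat.{u} R} (w : N₁ ⟶ N₂) (w' : N₂ ⟶ N₃)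
    (hw : Function.Injective w.hom) (hw' : Function.Surjective w'.hom)
    (hex : Function.Exact w.hom w'.hom) : SecExact (Dv fs) (tmap w) (tmap w') := by
  have key : ∀ T : Opens (Spec R), (∃ g : R, T = bD g) →
      Function.Injective ((tmap w).app (op T)).hom ∧
      Function.Surjective ((tmap w').app (op T)).hom ∧
      Function.Exact ((tmap w).app (op T)).hom ((tmap w').app (op T)).hom := by
    rintro T ⟨g, rfl⟩
    exact ⟨secMap_injective w hw g, secMap_surjective w' hw' g, secMap_exact w w' hex g⟩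
  exact
    { inj := fun n a => (key _ ⟨_, Va_Dv fs a⟩).1
      surj := fun n a => (key _ ⟨_, Va_Dv fs a⟩).2.1
      exact := fun n a => (key _ ⟨_, Va_Dv fs a⟩).2.2 }

/-! ### power-torsion modules -/

theorem subsingleton_sec_of_tors (N : ModuleCat.{u} R) (g : R)
    (hg : ∀ x : N, ∃ n : ℕ, g ^ n • x = 0) : Subsingleton Γ(tilde N, bD g) := by
  have h0 : ∀ y : Γ(tilde N, bD g), y = 0 := by
    intro y
    obtain ⟨n, x, hx⟩ := tO_surj N g y
    obtain ⟨m, hm⟩ := hg x
    apply smul_pow_inj N g g dvd_rfl (m + n) y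
    rw [pow_add, mul_smul, hx, ← map_smul, hm, map_zero]
  exact ⟨fun y y' => (h0 y).trans (h0 y').symm⟩

theorem subsingleton_Va_of_tors (fs : List R) (N : ModuleCat.{u} R)
    (hN : ∀ f ∈ fs, ∀ x : N, ∃ n : ℕ, f ^ n • x = 0) {n : ℕ}
    (a : Fin (n+1) → ULift.{u} (Fin fs.length)) :
    Subsingleton ((Pt N).obj (op (Va (Dv fs) a))) := by
  rw [Va_Dv]
  apply subsingleton_sec_of_tors
  intro x
  obtain ⟨m, hm⟩ := hN _ (List.get_mem fs (a 0).down) x
  obtain ⟨d, hd⟩ := get_dvd_gA fs a 0
  refine ⟨m, ?_⟩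
  rw [hd, mul_pow, mul_comm, mul_smul, hm, smul_zero]

theorem isZero_T_of_tors (fs : List R) (N : ModuleCat.{u} R)
    (hN : ∀ f ∈ fs, ∀ x : N, ∃ n : ℕ, f ^ n • x = 0) (p : ℕ) :
    IsZero ((cech (Dv fs) (Pt N)).homology p) :=
  isZero_homology_of_subsingleton (Dv fs) (Pt N) (fun n a => subsingleton_Va_of_tors fs N hN a) p

/-! ### modules on which some `f` is bijective -/

theorem pow_smul_bijective {L : ModuleCat.{u} R} (f : R)
    (hL : Function.Bijective (fun x : L => f • x)) (n : ℕ) :
    Function.Bijective (fun x : L => f ^ n • x) := by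
  induction n with
  | zero =>
    have : (fun x : L => f ^ 0 • x) = id := by
      funext x
      rw [pow_zero, one_smul]
      rfl
    rw [this]
    exact Function.bijective_id
  | succ n ih =>
    have : (fun x : L => f ^ (n+1) • x) = (fun x : L => f ^ n • x) ∘ (fun x : L => f • x) := by
      funext x
      show f ^ (n+1) • x = f ^ n • (f • x)
      rw [pow_succ, mul_smul]
    rw [this]
    exact ih.comp hL

theorem bij_rs_of_bij (L : ModuleCat.{u} R) (f : R)
    (hL : Function.Bijective (fun x : L => f • x)) (g : R) (h : bD (g * f) ≤ bD g) :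
    Function.Bijective (rs (Pt L) h) := by
  have hpow := pow_smul_bijective f hL
  constructor
  · rw [injective_iff_map_eq_zero]
    intro y hy
    obtain ⟨n, x, hx⟩ := tO_surj L g y
    have h1 : tO L (bD (g * f)) x = 0 := by
      rw [← rs_tO L h x, ← hx, rs_smul, hy, smul_zero]
    obtain ⟨m, hm⟩ := tO_eq_zero L (g * f) x h1
    have h2 : g ^ m • x = 0 := by
      apply (hpow m).1
      show f ^ m • (g ^ m • x) = f ^ m • (0 : L)
      rw [smul_zero, ← mul_smul, mul_comm, ← mul_pow]
      exact hm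
    apply smul_pow_inj L g g dvd_rfl (m + n) y
    rw [pow_add, mul_smul, hx, ← map_smul, h2, map_zero]
  · intro z
    obtain ⟨n, x, hx⟩ := tO_surj L (g * f) z
    obtain ⟨x', hx'⟩ := (hpow n).2 x
    have hx'' : f ^ n • x' = x := hx'
    have h1 : g ^ n • z = tO L (bD (g * f)) x' := by
      have h2 : f ^ n • (g ^ n • z - tO L (bD (g * f)) x') = 0 := by
        have e : f ^ n * g ^ n = (g * f) ^ n := by rw [mul_pow, mul_comm]
        rw [smul_sub, ← mul_smul, e, hx, ← hx'', map_smul, sub_self]
      have h3 := smul_pow_inj L (g * f) f (Dvd.intro_left g rfl) n _ h2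
      exact sub_eq_zero.1 h3
    obtain ⟨y, hy⟩ := smul_pow_surj L g n (tO L (bD g) x')
    refine ⟨y, ?_⟩
    have h4 : g ^ n • (rs (Pt L) h y - z) = 0 := by
      rw [smul_sub, ← rs_smul, hy, rs_tO, h1, sub_self]
    have h5 := smul_pow_inj L (g * f) g (Dvd.intro f rfl) n _ h4
    exact sub_eq_zero.1 h5

theorem isZero_T_of_bij (fs : List R) (L : ModuleCat.{u} R) (i₀ : ULift.{u} (Fin fs.length))
    (hL : Function.Bijective (fun x : L => fs.get i₀.down • x)) (p : ℕ) :
    IsZero ((cech (Dv fs) (Pt L)).homology (p+1)) := by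
  let V' : ULift.{u} (Fin fs.length) → Opens (Spec R) := fun j => Dv fs j ⊓ Dv fs i₀
  have hle : ∀ {n : ℕ} (a : Fin (n+1) → ULift.{u} (Fin fs.length)), Va V' a ≤ Va (Dv fs) a :=
    fun a => le_Va (Dv fs) a (fun k => (Va_le V' a k).trans inf_le_left)
  have hV' : ∀ {n : ℕ} (a : Fin (n+1) → ULift.{u} (Fin fs.length)),
      Va V' a = bD (gA fs a * (fs.get i₀.down) ^ (n+1)) := by
    intro n a
    have h1 := Va_eq_of_mul V' (fun g : R => bD g) PrimeSpectrum.basicOpen_one
      PrimeSpectrum.basicOpen_mul (fun j => fs.get j.down * fs.get i₀.down)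
      (fun j => (PrimeSpectrum.basicOpen_mul _ _).symm) a
    rw [h1, Finset.prod_mul_distrib, Finset.prod_const, Finset.card_univ, Fintype.card_fin]
    rfl
  have hbij : ∀ {n : ℕ} (a : Fin (n+1) → ULift.{u} (Fin fs.length)),
      Function.Bijective (rs (Pt L) (hle a)) := by
    intro n a
    have key : ∀ (T T' : Opens (Spec R)) (hTT : T' ≤ T), T = bD (gA fs a) →
        T' = bD (gA fs a * (fs.get i₀.down) ^ (n+1)) → Function.Bijective (rs (Pt L) hTT) := by
      intro T T' hTT e1 e2
      subst e1 e2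
      exact bij_rs_of_bij L _ (pow_smul_bijective _ hL (n+1)) (gA fs a) hTT
    exact key _ _ (hle a) (Va_Dv fs a) (hV' a)
  let E : CIso (Dv fs) V' (Pt L) (Pt L) :=
    { e := fun n a => AddEquiv.ofBijective (rs (Pt L) (hle a)) (hbij a)
      comm := fun n b j x => by
        show rs (Pt L) (hle b) (rs (Pt L) (le_face (Dv fs) b j) x) =
          rs (Pt L) (le_face V' b j) (rs (Pt L) (hle _) x)
        rw [rs_rs, rs_rs] }
  have hi : V' i₀ = iSup V' := by
    apply le_antisymm
    · exact le_iSup V' i₀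
    · exact iSup_le fun j => le_inf inf_le_right inf_le_right
  obtain ⟨H⟩ := Groth.Agent.S0885.result (Pt L) V' i₀ hi
  have hz : IsZero ((cech V' (Pt L)).homology (p+1)) :=
    IsZero.of_iso (HomologicalComplex.isZero_single_obj_homology _ _ _ _ (by omega))
      (H.toHomologyIso (p+1)).symm
  exact IsZero.of_iso hz (E.homologyIso (p+1))

end spec

end Groth.Agent.Helper17.FCH
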