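import Groth.Agent.Lib.Helper17.FCH3
import Groth.Agent.Lib.Helper17.CL2

/-!
# helper17: Čech cohomology of `Ñ` for the family `D(f_i)` is the extended Čech cohomology
(dimension shifting)
-/

set_option autoImplicit false
set_option linter.unusedSectionVars false
set_option linter.unusedVariables false

universe u

open CategoryTheory CategoryTheory.Limits Opposite TopologicalSpace AlgebraicGeometry

namespace Groth.Agent.Helper17.FCH

open Groth.Agent.Helper24.CechEv Groth.Agent.Helper13.CechAcyc DerCA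
  Groth.Agent.Helper11.CechTors

/-! ### consequences of the long exact sequence -/

section LES

variable {X : TopCat.{u}} {ι : Type u} {V : ι → Opens X}
  {P₁ P₂ P₃ : (Opens X)ᵒᵖ ⥤ AddCommGrpCat.{u}} {α : P₁ ⟶ P₂} {β : P₂ ⟶ P₃}
  (h : SecExact V α β)

include h in
theorem SecExact.subsingleton_mid (p : ℕ) (h1 : Subsingleton ((cech V P₁).homology p))
    (h3 : Subsingleton ((cech V P₃).homology p)) : Subsingleton ((cech V P₂).homology p) := by
  refine subsingleton_of_forall_eq 0 fun x => ?_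
  obtain ⟨a, rfl⟩ := (h.exact₂ p x).1 (Subsingleton.elim _ _)
  rw [Subsingleton.elim a 0, map_zero]

theorem SecExact.δ_injective (p : ℕ) (h2 : Subsingleton ((cech V P₂).homology p)) :
    Function.Injective (h.δ p) := by
  rw [injective_iff_map_eq_zero]
  intro c hc
  obtain ⟨b, rfl⟩ := (h.exact₃ p c).1 hc
  rw [Subsingleton.elim b 0, map_zero]

theorem SecExact.δ_surjective (p : ℕ) (h2 : Subsingleton ((cech V P₂).homology (p+1))) :
    Function.Surjective (h.δ p) := by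
  intro a
  exact (h.exact₁ p a).1 (Subsingleton.elim _ _)

include h in
theorem SecExact.Hm_β_bijective (p : ℕ) (h1 : Subsingleton ((cech V P₁).homology p))
    (h1' : Subsingleton ((cech V P₁).homology (p+1))) : Function.Bijective (Hm V β p) := by
  constructor
  · rw [injective_iff_map_eq_zero]
    intro b hb
    obtain ⟨a, rfl⟩ := (h.exact₂ p b).1 hb
    rw [Subsingleton.elim a 0, map_zero]
  · intro c
    exact (h.exact₃ p c).1 (Subsingleton.elim _ _)

end LES

/-! ### the cokernel of `M → Γ(U, F)`, over a base ring -/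

section cokerA

open Groth.Agent.Helper13.Qcqs Groth.Agent.Helper17.CK Groth.Agent.Helper17.CL

variable {X : Scheme.{u}} (F : X.Modules) {A : Type u} [CommRing A] (φ : A →+* Γ(X, ⊤))
  [CompactSpace X] [QuasiSeparatedSpace X] [F.IsQuasicoherent]

theorem nonempty_coker_equivA (fs : List A) (U : X.Opens)
    (hU : U = ⨆ f ∈ fs, X.basicOpen (φ f))
    (hUc : IsCompact (U : Set X)) (M₀ : ModuleCat.{u} A) (η : M₀ ⟶ secA F φ ⊤)
    (hη : Function.Bijective η.hom) :
    Nonempty ((secA F φ U ⧸ LinearMap.range (η ≫ resLA F φ (le_top : U ≤ ⊤)).hom) ≃ₗ[A]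
      extCechH fs M₀ 1) := by
  have hle : ∀ f ∈ fs, X.basicOpen (φ f) ≤ U := by
    intro f hf
    rw [hU]
    exact le_iSup₂ (f := fun f (_ : f ∈ fs) => X.basicOpen (φ f)) f hf
  have hle' : ∀ g ∈ fs.map φ, X.basicOpen g ≤ U := by
    intro g hg
    obtain ⟨f, hf, rfl⟩ := List.mem_map.1 hg
    exact hle f hf
  have hh1 : ∀ m : M₀, (η ≫ resLA F φ (le_top : U ≤ ⊤)).hom m = 0 →
      ∀ f ∈ fs, ∃ n : ℕ, f ^ n • m = 0 := by
    intro m hm f hf
    have hm' : res F (le_top : U ≤ ⊤) (show Γ(F, ⊤) from η.hom m) = 0 := hm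
    obtain ⟨n, hn⟩ := h1 F U (fs.map φ) hle' _ hm' (φ f) (List.mem_map_of_mem hf)
    refine ⟨n, hη.1 ?_⟩
    rw [map_smul, map_zero]
    show resO (le_top : (⊤ : X.Opens) ≤ ⊤) (φ (f ^ n)) • (show Γ(F, ⊤) from η.hom m) = 0
    rw [resO_self, map_pow]
    exact hn
  have hh2 : ∀ y : secA F φ U, ∀ f ∈ fs, ∃ n : ℕ, ∃ m : M₀,
      (η ≫ resLA F φ (le_top : U ≤ ⊤)).hom m = f ^ n • y := by
    intro y f hf
    obtain ⟨n, t, ht⟩ := h2 F U hUc (fs.map φ) hle' (show Γ(F, U) from y) (φ f)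
      (List.mem_map_of_mem hf)
    obtain ⟨m, hm⟩ := hη.2 (show secA F φ ⊤ from t)
    refine ⟨n, m, ?_⟩
    show res F (le_top : U ≤ ⊤) (show Γ(F, ⊤) from η.hom m) =
      resO (le_top : U ≤ ⊤) (φ (f ^ n)) • (show Γ(F, U) from y)
    rw [hm, map_pow, map_pow]
    exact ht
  have hh3a : ∀ y : secA F φ U, (∀ f ∈ fs, ∃ n : ℕ, f ^ n • y = 0) → y = 0 := by
    intro y hy
    refine TopCat.Sheaf.eq_of_locally_eq' ⟨F.presheaf, F.isSheaf⟩
      (fun i : {f // f ∈ fs} => X.basicOpen (φ i.1)) U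
      (fun i => homOfLE (hle i.1 i.2)) ?_ (show Γ(F, U) from y) 0 (fun i => ?_)
    · rw [hU]
      exact iSup₂_le fun f hf =>
        le_iSup (fun i : {f // f ∈ fs} => X.basicOpen (φ i.1)) ⟨f, hf⟩
    · obtain ⟨n, hn⟩ := hy i.1 i.2
      have e1 : (resLA F φ (hle i.1 i.2)).hom (i.1 ^ n • y) = 0 := by rw [hn, map_zero]
      rw [map_smul] at e1
      have e2 := eq_zero_of_pow_smul_eq_zeroA F φ i.1 _ le_rfl _ n e1
      rw [map_zero]
      exact e2
  have hh3b := h3b_auxA F φ fs fs (fun _ h => h) U hU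
  exact nonempty_coker_equiv fs (η ≫ resLA F φ (le_top : U ≤ ⊤)) hh1 hh2 hh3a hh3b

end cokerA

/-! ### the cokernel of `N → Γ(U, Ñ)` on `Spec R` -/

section specCoker

open Groth.Agent.Helper13.Qcqs Groth.Agent.Helper17.CK Groth.Agent.Helper17.CL

variable {R : CommRingCat.{u}}

/-- the canonical map to the global functions -/
noncomputable abbrev φR : R →+* Γ(Spec R, ⊤) := (Scheme.ΓSpecIso R).inv.hom

/-- the canonical map to the global sections -/
noncomputable def ηR (N : ModuleCat.{u} R) : N ⟶ secA (tilde N) (φR (R := R)) ⊤ :=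
  ModuleCat.ofHom (X := N) (Y := secA (tilde N) (φR (R := R)) ⊤)
    { toFun := (tilde.toOpen N ⊤).hom
      map_add' := map_add _
      map_smul' := fun a m => (tilde.toOpen N ⊤).hom.map_smul a m }

theorem ηR_bijective (N : ModuleCat.{u} R) : Function.Bijective (ηR N).hom :=
  (ConcreteCategory.isIso_iff_bijective (tilde.toOpen N ⊤)).1 (tilde.isIso_toOpen_top (M := N))

theorem iSup_Dv_eq (fs : List R) :
    iSup (Dv fs) = ⨆ f ∈ fs, (Spec R).basicOpen (φR (R := R) f) := by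
  have hb : ∀ f : R, (Spec R).basicOpen (φR (R := R) f) = bD f := fun f => basicOpen_eq_of_affine f
  apply le_antisymm
  · refine iSup_le fun i => ?_
    refine le_trans (le_of_eq (hb (fs.get i.down)).symm) ?_
    exact le_iSup₂ (f := fun f (_ : f ∈ fs) => (Spec R).basicOpen (φR (R := R) f))
      (fs.get i.down) (List.get_mem fs i.down)
  · refine iSup₂_le fun f hf => ?_
    obtain ⟨i, rfl⟩ := List.mem_iff_get.1 hf
    rw [hb]
    exact le_iSup (Dv fs) ⟨i⟩

theorem isCompact_iSup_Dv (fs : List R) : IsCompact ((iSup (Dv fs) : Opens (Spec R)) : Set (Spec R)) := by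
  rw [Opens.coe_iSup]
  exact isCompact_iUnion fun i => PrimeSpectrum.isCompact_basicOpen _

theorem exists_coker_map (fs : List R) (N : ModuleCat.{u} R) :
    ∃ c : (Pt N).obj (op (iSup (Dv fs))) →+ extCechH fs N 1, Function.Surjective c ∧
      ∀ s, c s = 0 ↔ ∃ x : N, (tO N (iSup (Dv fs)) x : Γ(tilde N, iSup (Dv fs))) = s := by
  obtain ⟨e⟩ := nonempty_coker_equivA (tilde N) (φR (R := R)) fs (iSup (Dv fs)) (iSup_Dv_eq fs)
    (isCompact_iSup_Dv fs) N (ηR N) (ηR_bijective N)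
  let S : Submodule R (secA (tilde N) (φR (R := R)) (iSup (Dv fs))) :=
    LinearMap.range (ηR N ≫ resLA (tilde N) (φR (R := R)) (le_top : iSup (Dv fs) ≤ ⊤)).hom
  let c0 : secA (tilde N) (φR (R := R)) (iSup (Dv fs)) →+ extCechH fs N 1 :=
    (e.toLinearMap.comp S.mkQ).toAddMonoidHom
  have hc0 : Function.Surjective c0 := e.surjective.comp S.mkQ_surjective
  have hk : ∀ s : secA (tilde N) (φR (R := R)) (iSup (Dv fs)), c0 s = 0 ↔ s ∈ S := by
    intro s
    show e (S.mkQ s) = 0 ↔ _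
    rw [LinearEquiv.map_eq_zero_iff, Submodule.mkQ_apply, Submodule.Quotient.mk_eq_zero]
  refine ⟨c0, hc0, fun s => (hk s).trans ⟨?_, ?_⟩⟩
  · rintro ⟨x, hx⟩
    exact ⟨x, hx⟩
  · rintro ⟨x, hx⟩
    exact ⟨x, hx⟩

end specCoker

/-! ### acyclic modules -/

section good

open Groth.Agent.Helper17.CK

variable {R : CommRingCat.{u}}

/-- modules which are acyclic for both theories -/
def Good (fs : List R) (N : ModuleCat.{u} R) : Prop :=
  (∀ p : ℕ, Subsingleton ((cech (Dv fs) (Pt N)).homology (p+1))) ∧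
    (∀ q : ℤ, 1 ≤ q → Subsingleton (extCechH fs N q))

theorem good_of_tors (fs : List R) (N : ModuleCat.{u} R)
    (hN : ∀ f ∈ fs, ∀ x : N, ∃ n : ℕ, f ^ n • x = 0) : Good fs N := by
  constructor
  · intro p
    exact AddCommGrpCat.subsingleton_of_isZero (isZero_T_of_tors fs N hN (p+1))
  · intro q hq
    exact ModuleCat.subsingleton_of_isZero (isZero_H_of_pt N fs hN q (by omega))

theorem good_of_bij (fs : List R) (L : ModuleCat.{u} R) (f : R) (hf : f ∈ fs)
    (hL : Function.Bijective (fun x : L => f • x)) : Good fs L := by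
  constructor
  · intro p
    obtain ⟨i, rfl⟩ := List.mem_iff_get.1 hf
    exact AddCommGrpCat.subsingleton_of_isZero (isZero_T_of_bij fs L ⟨i⟩ hL p)
  · intro q hq
    exact ModuleCat.subsingleton_of_isZero
      (isZero_of_mem_span_bijective fs L f (Ideal.subset_span hf) hL q)

theorem good_of_ses (fs : List R) {A B C : ModuleCat.{u} R} (w : A ⟶ B) (w' : B ⟶ C)
    (hw : Function.Injective w.hom) (hw' : Function.Surjective w'.hom)
    (hex : Function.Exact w.hom w'.hom) (hA : Good fs A) (hC : Good fs C) : Good fs B := by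
  constructor
  · intro p
    exact (secExact_tilde fs w w' hw hw' hex).subsingleton_mid (p+1) (hA.1 p) (hC.1 p)
  · intro q hq
    exact subsingleton_mid fs w w' hw hw' hex q (hA.2 q hq) (hC.2 q hq)

/-- the product of the localizations -/
noncomputable def Pp (N : ModuleCat.{u} R) : List R → ModuleCat.{u} R
  | [] => ModuleCat.of R PUnit.{u+1}
  | f :: l => ModuleCat.of R (LocalizedModule (Submonoid.powers f) N × Pp N l)

/-- the canonical map to the product of the localizations -/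
noncomputable def ρp (N : ModuleCat.{u} R) : (l : List R) → (N ⟶ Pp N l)
  | [] => 0
  | f :: l => (ModuleCat.ofHom (LinearMap.prod
      (LocalizedModule.mkLinearMap (Submonoid.powers f) N) (ρp N l).hom) :
      N ⟶ ModuleCat.of R (LocalizedModule (Submonoid.powers f) N × Pp N l))

theorem ρp_ker (N : ModuleCat.{u} R) : ∀ (l : List R) (m : N), (ρp N l).hom m = 0 →
    ∀ f ∈ l, ∃ n : ℕ, f ^ n • m = 0
  | [], m, _, f, hf => by simp at hf
  | g :: l, m, hm, f, hf => by
    have hm' : (LocalizedModule.mkLinearMap (Submonoid.powers g) N m, (ρp N l).hom m) =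
        ((0 : LocalizedModule (Submonoid.powers g) N), (0 : Pp N l)) := hm
    rw [Prod.mk.injEq] at hm'
    rcases List.mem_cons.1 hf with rfl | hf'
    · obtain ⟨⟨_, n, rfl⟩, hn⟩ := (IsLocalizedModule.eq_zero_iff (Submonoid.powers f)
        (LocalizedModule.mkLinearMap (Submonoid.powers f) N)).1 hm'.1
      exact ⟨n, hn⟩
    · exact ρp_ker N l m hm'.2 f hf'

theorem good_Pp (fs : List R) (N : ModuleCat.{u} R) :
    ∀ l : List R, (∀ f ∈ l, f ∈ fs) → Good fs (Pp N l)
  | [], _ => good_of_tors fs _ (fun f _ x => ⟨0, Subsingleton.elim (α := PUnit.{u+1}) _ _⟩)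
  | g :: l, hl => by
    have hg : Good fs (ModuleCat.of R (LocalizedModule (Submonoid.powers g) N)) := by
      refine good_of_bij fs _ g (hl g List.mem_cons_self) ?_
      have h := IsLocalizedModule.map_units
        (LocalizedModule.mkLinearMap (Submonoid.powers g) N)
        (⟨g, 1, pow_one g⟩ : Submonoid.powers g)
      exact (Module.End.isUnit_iff _).1 h
    have hl' := good_Pp fs N l (fun f hf => hl f (List.mem_cons_of_mem _ hf))
    refine good_of_ses fs
      (ModuleCat.ofHom (LinearMap.inl R (LocalizedModule (Submonoid.powers g) N) (Pp N l)) :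
        ModuleCat.of R (LocalizedModule (Submonoid.powers g) N) ⟶
          ModuleCat.of R (LocalizedModule (Submonoid.powers g) N × Pp N l))
      (ModuleCat.ofHom (LinearMap.snd R (LocalizedModule (Submonoid.powers g) N) (Pp N l)) :
        ModuleCat.of R (LocalizedModule (Submonoid.powers g) N × Pp N l) ⟶ Pp N l)
      LinearMap.inl_injective LinearMap.snd_surjective ?_ hg hl'
    rintro ⟨a, b⟩
    constructor
    · intro h
      have hb : b = 0 := h
      exact ⟨a, by rw [hb]; rfl⟩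
    · rintro ⟨a', ha'⟩
      have := congrArg Prod.snd ha'
      exact this.symm

end good

/-! ### dimension shifting -/

section main

open Groth.Agent.Helper17.CK

variable {R : CommRingCat.{u}} (fs : List R)

/-- Čech cohomology of `Ñ` for the family `D(f_i)` -/
noncomputable abbrev Tq (N : ModuleCat.{u} R) (p : ℕ) : AddCommGrpCat.{u} :=
  (cech (Dv fs) (Pt N)).homology p

theorem isSheaf_Pt (N : ModuleCat.{u} R) : TopCat.Presheaf.IsSheaf (Pt N) := (tilde N).isSheaf

theorem shift_T (N : ModuleCat.{u} R) (p : ℕ) :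
    Nonempty (Tq fs N (p+1+1) ≃+ Tq fs (Co (ρp N fs)) (p+1)) := by
  have sa := secExact_tilde fs (κ (ρp N fs)) (ρ' (ρp N fs)) (κ_inj _) (ρ'_surj _) (exact_κ_ρ' _)
  have sb := secExact_tilde fs (ι (ρp N fs)) (π (ρp N fs)) (ι_inj _) (π_surj _) (exact_ι_π _)
  have gK := good_of_tors fs (Ke (ρp N fs)) (pt_Ke fs (ρp N fs) (ρp_ker N fs))
  have gP := good_Pp fs N fs (fun _ h => h)
  have b1 : Function.Bijective (Hm (Dv fs) (tmap (ρ' (ρp N fs))) (p+1+1)) :=
    sa.Hm_β_bijective (p+1+1) (gK.1 (p+1)) (gK.1 (p+1+1))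
  have b2 : Function.Bijective (sb.δ (p+1)) :=
    ⟨sb.δ_injective (p+1) (gP.1 p), sb.δ_surjective (p+1) (gP.1 (p+1))⟩
  exact ⟨(AddEquiv.ofBijective _ b1).trans (AddEquiv.ofBijective _ b2).symm⟩

theorem shift_E (N : ModuleCat.{u} R) (q : ℤ) (hq : 1 ≤ q) :
    Nonempty (extCechH fs N (q+1) ≃+ extCechH fs (Co (ρp N fs)) q) := by
  have gK := good_of_tors fs (Ke (ρp N fs)) (pt_Ke fs (ρp N fs) (ρp_ker N fs))
  have gP := good_Pp fs N fs (fun _ h => h)
  have b1 : Function.Bijective (CK.Hm fs (ρ' (ρp N fs)) (q+1)) :=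
    Hm_v_bijective fs (κ (ρp N fs)) (ρ' (ρp N fs)) (κ_inj _) (ρ'_surj _) (exact_κ_ρ' _)
      (q+1) (q+1+1) rfl (gK.2 (q+1) (by omega)) (gK.2 (q+1+1) (by omega))
  have b2 : Function.Bijective (CK.δ fs (ι (ρp N fs)) (π (ρp N fs)) (ι_inj _) (π_surj _)
      (exact_ι_π _) q (q+1) rfl) :=
    δ_bijective fs (ι (ρp N fs)) (π (ρp N fs)) (ι_inj _) (π_surj _) (exact_ι_π _) q (q+1) rfl
      (gP.2 q hq) (gP.2 (q+1) (by omega))
  exact ⟨(LinearEquiv.ofBijective _ b1).toAddEquiv.trans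
    (LinearEquiv.ofBijective _ b2).symm.toAddEquiv⟩

theorem base_case (N : ModuleCat.{u} R) : Nonempty (Tq fs N 1 ≃+ extCechH fs N 2) := by
  have sa := secExact_tilde fs (κ (ρp N fs)) (ρ' (ρp N fs)) (κ_inj _) (ρ'_surj _) (exact_κ_ρ' _)
  have sb := secExact_tilde fs (ι (ρp N fs)) (π (ρp N fs)) (ι_inj _) (π_surj _) (exact_ι_π _)
  have gK := good_of_tors fs (Ke (ρp N fs)) (pt_Ke fs (ρp N fs) (ρp_ker N fs))
  have gP := good_Pp fs N fs (fun _ h => h)
  have b1 : Function.Bijective (Hm (Dv fs) (tmap (ρ' (ρp N fs))) 1) :=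
    sa.Hm_β_bijective 1 (gK.1 0) (gK.1 1)
  have s2 : Function.Surjective (sb.δ 0) := sb.δ_surjective 0 (gP.1 0)
  obtain ⟨eE⟩ := shift_E fs N 1 le_rfl
  obtain ⟨cQ, hcQ, kQ⟩ := exists_coker_map fs (Co (ρp N fs))
  obtain ⟨cP, hcP, kP⟩ := exists_coker_map fs (Pp N fs)
  have hE1 : Subsingleton (extCechH fs (Pp N fs) 1) := gP.2 1 le_rfl
  have hPsurj : ∀ t : (Pt (Pp N fs)).obj (op (iSup (Dv fs))), ∃ x : Pp N fs,
      (tO (Pp N fs) (iSup (Dv fs)) x : Γ(tilde (Pp N fs), iSup (Dv fs))) = t :=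
    fun t => (kP t).1 (Subsingleton.elim _ _)
  have hle : ∀ i, Dv fs i ≤ iSup (Dv fs) := le_iSup (Dv fs)
  have tQ_bij := toH0_bijective (Dv fs) (Pt (Co (ρp N fs))) (iSup (Dv fs)) hle
    (isSheaf_Pt _) le_rfl
  have tP_bij := toH0_bijective (Dv fs) (Pt (Pp N fs)) (iSup (Dv fs)) hle
    (isSheaf_Pt _) le_rfl
  have hg : Function.Surjective
      ((sb.δ 0).comp (toH0 (Dv fs) (Pt (Co (ρp N fs))) (iSup (Dv fs)) hle)) :=
    s2.comp tQ_bij.2
  have hk : ∀ s, ((sb.δ 0).comp (toH0 (Dv fs) (Pt (Co (ρp N fs))) (iSup (Dv fs)) hle)) s = 0 ↔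
      cQ s = 0 := by
    intro s
    rw [kQ s]
    constructor
    · intro h0
      obtain ⟨y, hy⟩ := (sb.exact₃ 0 _).1 h0
      obtain ⟨t, rfl⟩ := tP_bij.2 y
      rw [toH0_nat] at hy
      have hs := tQ_bij.1 hy
      obtain ⟨x, rfl⟩ := hPsurj t
      refine ⟨(π (ρp N fs)).hom x, ?_⟩
      rw [← hs, tmap_app, secMap_tO]
    · rintro ⟨x, rfl⟩
      obtain ⟨x', rfl⟩ := π_surj (ρp N fs) x
      apply (sb.exact₃ 0 _).2
      refine ⟨toH0 (Dv fs) (Pt (Pp N fs)) (iSup (Dv fs)) hle (tO (Pp N fs) (iSup (Dv fs)) x'), ?_⟩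
      rw [toH0_nat, tmap_app, secMap_tO]
  obtain ⟨e1⟩ := nonempty_addEquiv_of_surjective_of_ker_eq _ cQ hg hcQ hk
  exact ⟨(AddEquiv.ofBijective _ b1).trans (e1.trans eE.symm)⟩

theorem main_alg' : ∀ (p : ℕ) (q : ℤ), q = (p:ℤ) + 2 → ∀ N : ModuleCat.{u} R,
    Nonempty (Tq fs N (p+1) ≃+ extCechH fs N q)
  | 0, q, hq, N => by
    have : q = 2 := by rw [hq]; norm_num
    subst this
    exact base_case fs N
  | p+1, q, hq, N => by
    have : q = ((p:ℤ) + 2) + 1 := by rw [hq]; push_cast; ring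
    subst this
    obtain ⟨e1⟩ := shift_T fs N p
    obtain ⟨e2⟩ := main_alg' p ((p:ℤ)+2) rfl (Co (ρp N fs))
    obtain ⟨e3⟩ := shift_E fs N ((p:ℤ)+2) (by omega)
    exact ⟨e1.trans (e2.trans e3.symm)⟩

theorem main_alg (p : ℕ) (hp : 1 ≤ p) (N : ModuleCat.{u} R) :
    Nonempty (Tq fs N p ≃+ extCechH fs N ((p+1 : ℕ) : ℤ)) := by
  obtain ⟨p, rfl⟩ : ∃ p', p = p' + 1 := ⟨p - 1, by omega⟩
  exact main_alg' fs p _ (by push_cast; ring) N

end main

end Groth.Agent.Helper17.FCH
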