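import Mathlib

/-!
# Fully faithfulness of `D⁺(A') ⥤ D⁺(A)` for a thick subcategory with enough `A`-injectives
-/

set_option autoImplicit false

universe w w' v v' u u'

namespace Groth.Agent.Helper17.FD

open CategoryTheory Limits DerivedCategory

section Transport

lemma bijective_map_of_iso {C₀ : Type*} [Category C₀] {D : Type*} [Category D] (F : C₀ ⥤ D)
    {X X₁ Y Y₁ : C₀} (eX : X ≅ X₁) (eY : Y ≅ Y₁)
    (h : Function.Bijective (fun f : X₁ ⟶ Y₁ => F.map f)) :
    Function.Bijective (fun f : X ⟶ Y => F.map f) := by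
  have heq : (fun f : X ⟶ Y => F.map f) =
      (Iso.homCongr (F.mapIso eX).symm (F.mapIso eY).symm) ∘ (fun f : X₁ ⟶ Y₁ => F.map f) ∘
        (Iso.homCongr eX eY) := by
    funext f
    simp [Iso.homCongr]
  rw [heq]
  exact (Equiv.bijective _).comp (h.comp (Equiv.bijective _))

end Transport

section General

variable {C : Type u} [Category.{v} C] [Abelian C] [HasDerivedCategory.{w} C]

lemma exists_Q_map_eq (K L : CochainComplex C ℤ) [L.IsKInjective] (φ : Q.obj K ⟶ Q.obj L) :
    ∃ g : K ⟶ L, Q.map g = φ := by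
  obtain ⟨γ, hγ⟩ := (CochainComplex.IsKInjective.Qh_map_bijective
    ((HomotopyCategory.quotient _ _).obj K) L).2
    ((quotientCompQhIso C).hom.app K ≫ φ ≫ (quotientCompQhIso C).inv.app L)
  obtain ⟨g, rfl⟩ := (HomotopyCategory.quotient _ _).map_surjective γ
  refine ⟨g, ?_⟩
  have h1 := quotientCompQhIso_hom_naturality g
  rw [hγ] at h1
  simp only [Category.assoc, Iso.inv_hom_id_app, Category.comp_id] at h1
  have h2 : (quotientCompQhIso C).hom.app K ≫ φ = (quotientCompQhIso C).hom.app K ≫ Q.map g := by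
    simpa using h1
  exact ((cancel_epi _).mp h2).symm

lemma homotopy_of_Q_map_eq (K L : CochainComplex C ℤ) [L.IsKInjective] (g₁ g₂ : K ⟶ L)
    (h : Q.map g₁ = Q.map g₂) : Nonempty (Homotopy g₁ g₂) := by
  have h1 : Qh.map ((HomotopyCategory.quotient _ _).map g₁) =
      Qh.map ((HomotopyCategory.quotient _ _).map g₂) := by
    rw [← cancel_mono ((quotientCompQhIso C).hom.app L), quotientCompQhIso_hom_naturality,
      quotientCompQhIso_hom_naturality, h]
  have h2 := (CochainComplex.IsKInjective.Qh_map_bijective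
    ((HomotopyCategory.quotient _ _).obj K) L).1 h1
  exact ⟨HomotopyCategory.homotopyOfEq _ _ h2⟩

end General

section Main

variable {A' : Type u'} [Category.{v'} A'] [Abelian A'] [HasDerivedCategory.{w'} A']
  {A : Type u} [Category.{v} A] [Abelian A] [HasDerivedCategory.{w} A]
  (ι : A' ⥤ A) [ι.Additive] [PreservesFiniteLimits ι] [PreservesFiniteColimits ι]
  [ι.Full] [ι.Faithful]

omit [HasDerivedCategory A'] [HasDerivedCategory A] in
lemma injective_of_injective_map (Y' : A') [Injective (ι.obj Y')] : Injective Y' := by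
  constructor
  intro U V g m _
  have : Mono (ι.map m) := inferInstance
  refine ⟨ι.preimage (Injective.factorThru (ι.map g) (ι.map m)), ?_⟩
  apply ι.map_injective
  rw [ι.map_comp, ι.map_preimage, Injective.comp_factorThru]

variable (hinj : ∀ X' : A', ∃ (Y' : A') (i : X' ⟶ Y'), Mono i ∧ Injective (ι.obj Y'))

include hinj in
omit [HasDerivedCategory A'] [HasDerivedCategory A] in
lemma enoughInjectives : EnoughInjectives A' := by
  constructor
  intro X'
  obtain ⟨Y', i, hi, hY⟩ := hinj X'
  have := injective_of_injective_map ι Y'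
  exact ⟨⟨Y', inferInstance, i, hi⟩⟩

include hinj in
omit [Abelian A'] [HasDerivedCategory A'] [Abelian A] [HasDerivedCategory A] [ι.Additive]
  [PreservesFiniteLimits ι] [PreservesFiniteColimits ι] [ι.Full] [ι.Faithful] in
lemma injective_map_of_injective (J' : A') [Injective J'] : Injective (ι.obj J') := by
  obtain ⟨Y', i, hi, hY⟩ := hinj J'
  -- `J'` is a retract of `Y'`
  have hr : i ≫ Injective.factorThru (𝟙 J') i = 𝟙 J' := Injective.comp_factorThru _ _
  constructor
  intro U V g m _
  refine ⟨Injective.factorThru (g ≫ ι.map i) m ≫ ι.map (Injective.factorThru (𝟙 J') i), ?_⟩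
  rw [← Category.assoc, Injective.comp_factorThru, Category.assoc, ← ι.map_comp, hr, ι.map_id,
    Category.comp_id]

include hinj in
theorem bijective_Q (K L : CochainComplex A' ℤ) (b : ℤ) [L.IsStrictlyGE b]
    [∀ n, Injective (L.X n)] :
    Function.Bijective (fun f : Q.obj K ⟶ Q.obj L => ι.mapDerivedCategory.map f) := by
  have hL : L.IsKInjective := CochainComplex.isKInjective_of_injective L b
  have hιL1 : CochainComplex.IsStrictlyGE ((ι.mapHomologicalComplex (ComplexShape.up ℤ)).obj L) b :=
    (CochainComplex.isStrictlyGE_mapHomologicalComplex_obj_iff L ι b).mpr inferInstance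
  have hιL2 : ∀ n, Injective (((ι.mapHomologicalComplex (ComplexShape.up ℤ)).obj L).X n) :=
    fun n => injective_map_of_injective ι hinj (L.X n)
  have hιL : CochainComplex.IsKInjective ((ι.mapHomologicalComplex (ComplexShape.up ℤ)).obj L) :=
    CochainComplex.isKInjective_of_injective _ b
  constructor
  · intro φ₁ φ₂ hφ
    obtain ⟨h₁, rfl⟩ := exists_Q_map_eq K L φ₁
    obtain ⟨h₂, rfl⟩ := exists_Q_map_eq K L φ₂
    have hφ' : ι.mapDerivedCategory.map (Q.map h₁) = ι.mapDerivedCategory.map (Q.map h₂) := hφ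
    have e1 := ι.mapDerivedCategoryFactors_hom_naturality h₁
    have e2 := ι.mapDerivedCategoryFactors_hom_naturality h₂
    rw [hφ', e2] at e1
    have e3 := (cancel_epi _).mp e1
    obtain ⟨H⟩ := homotopy_of_Q_map_eq _ _ _ _ e3
    exact Q_map_eq_of_homotopy (h := (ι.preimageHomotopy H).symm)
  · intro ψ
    obtain ⟨g, hg⟩ := exists_Q_map_eq _ _
      (ι.mapDerivedCategoryFactors.inv.app K ≫ ψ ≫ ι.mapDerivedCategoryFactors.hom.app L)
    obtain ⟨h, rfl⟩ := (ι.mapHomologicalComplex (ComplexShape.up ℤ)).map_surjective g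
    refine ⟨Q.map h, ?_⟩
    have e1 := ι.mapDerivedCategoryFactors_hom_naturality h
    rw [hg] at e1
    simp only [Iso.hom_inv_id_app_assoc] at e1
    exact (cancel_mono _).mp e1

include hinj in
theorem main11160 (X Y : DerivedCategory A') (a b : ℤ) [X.IsGE a] [Y.IsGE b] :
    Function.Bijective (fun f : X ⟶ Y => ι.mapDerivedCategory.map f) := by
  have := enoughInjectives ι hinj
  obtain ⟨K', _, ⟨e⟩⟩ := DerivedCategory.exists_iso_Q_obj_of_isGE Y b
  obtain ⟨L, i, hi, hL, hLb⟩ :=
    CochainComplex.Plus.modelCategoryQuillen.exists_quasiIso_injective K' b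
  exact bijective_map_of_iso ι.mapDerivedCategory (Q.objObjPreimageIso X).symm
    (e ≪≫ asIso (Q.map i)) (bijective_Q ι hinj (Q.objPreimage X) L b)

end Main

end Groth.Agent.Helper17.FD
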