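import Groth.Agent.Lib.Helper16.FF.AutA
import Groth.Prelude.Def_W4bk4goldsch45

/-!
# Helper17: places with the same image point under a projective map (uses helper16's FF library)
-/

set_option autoImplicit false

namespace Groth.Agent.Helper17

open FunFld Groth.Agent.Helper16.FF
open scoped WithZero

variable {k K : Type*} [Field k] [Field K] [Algebra k K]

theorem lt_one_mul_le {a b : ℤᵐ⁰} (ha : a < 1) (hb : b ≤ 1) : a * b < 1 :=
  lt_of_le_of_lt (by calc a * b ≤ a * 1 := mul_le_mul_right hb a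
    _ = a := mul_one a) ha

theorem le_one_mul_lt {a b : ℤᵐ⁰} (ha : a ≤ 1) (hb : b < 1) : a * b < 1 := by
  rw [mul_comm]; exact lt_one_mul_le hb ha

theorem val_le_one_of_sub_lt (P : Place k K) {y : K} {d : k}
    (h : P.1 (y - algebraMap k K d) < 1) : P.1 y ≤ 1 := by
  have hy : y = (y - algebraMap k K d) + algebraMap k K d := by ring
  rw [hy]
  exact Valuation.map_add_le _ h.le (P.2.1 d)

theorem val_eq_one_of_sub_lt (P : Place k K) {y : K} {d : k} (hd : d ≠ 0)
    (h : P.1 (y - algebraMap k K d) < 1) : P.1 y = 1 := by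
  have hy : y = (y - algebraMap k K d) + algebraMap k K d := by ring
  rw [hy, Valuation.map_add_eq_of_lt_right _ (by rw [Place.val_algebraMap P hd]; exact h),
    Place.val_algebraMap P hd]

theorem val_lt_one_iff_of_sub_lt (P : Place k K) {y : K} {d : k}
    (h : P.1 (y - algebraMap k K d) < 1) : P.1 y < 1 ↔ d = 0 := by
  constructor
  · intro hy
    by_contra hd
    rw [val_eq_one_of_sub_lt P hd h] at hy
    exact lt_irrefl _ hy
  · rintro rfl
    simpa using h

/-- elements having a common constant residue at the two places -/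
def CRsub (P Q : Place k K) : Subalgebra k K where
  carrier := {y | ∃ d : k, P.1 (y - algebraMap k K d) < 1 ∧ Q.1 (y - algebraMap k K d) < 1}
  mul_mem' := by
    rintro y₁ y₂ ⟨d₁, hP₁, hQ₁⟩ ⟨d₂, hP₂, hQ₂⟩
    have key : y₁ * y₂ - algebraMap k K (d₁ * d₂) =
        (y₁ - algebraMap k K d₁) * y₂ + algebraMap k K d₁ * (y₂ - algebraMap k K d₂) := by
      rw [map_mul]; ring
    refine ⟨d₁ * d₂, ?_, ?_⟩
    · rw [key]
      apply Valuation.map_add_lt
      · rw [map_mul]; exact lt_one_mul_le hP₁ (val_le_one_of_sub_lt P hP₂)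
      · rw [map_mul]; exact le_one_mul_lt (P.2.1 d₁) hP₂
    · rw [key]
      apply Valuation.map_add_lt
      · rw [map_mul]; exact lt_one_mul_le hQ₁ (val_le_one_of_sub_lt Q hQ₂)
      · rw [map_mul]; exact le_one_mul_lt (Q.2.1 d₁) hQ₂
  add_mem' := by
    rintro y₁ y₂ ⟨d₁, hP₁, hQ₁⟩ ⟨d₂, hP₂, hQ₂⟩
    have key : y₁ + y₂ - algebraMap k K (d₁ + d₂) =
        (y₁ - algebraMap k K d₁) + (y₂ - algebraMap k K d₂) := by
      rw [map_add]; ring
    exact ⟨d₁ + d₂, by rw [key]; exact Valuation.map_add_lt _ hP₁ hP₂,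
      by rw [key]; exact Valuation.map_add_lt _ hQ₁ hQ₂⟩
  algebraMap_mem' c := ⟨c, by simp, by simp⟩

theorem mem_CRsub (P Q : Place k K) (y : K) : y ∈ CRsub P Q ↔
    ∃ d : k, P.1 (y - algebraMap k K d) < 1 ∧ Q.1 (y - algebraMap k K d) < 1 := Iff.rfl

theorem inv_mem_CRsub (P Q : Place k K) {y : K} (hy : y ∈ CRsub P Q) (hPy : P.1 y = 1) :
    y⁻¹ ∈ CRsub P Q ∧ Q.1 y = 1 := by
  obtain ⟨d, hP, hQ⟩ := hy
  have hd : d ≠ 0 := by
    intro hd
    have := (val_lt_one_iff_of_sub_lt P hP).mpr hd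
    rw [hPy] at this
    exact lt_irrefl _ this
  have hQy : Q.1 y = 1 := val_eq_one_of_sub_lt Q hd hQ
  have hy0 : y ≠ 0 := by
    rintro rfl
    rw [map_zero] at hPy
    exact zero_ne_one hPy
  have hd' : algebraMap k K d ≠ 0 := by simpa using hd
  have key : y⁻¹ - algebraMap k K d⁻¹ = -(y - algebraMap k K d) * (y⁻¹ * (algebraMap k K d)⁻¹) := by
    rw [map_inv₀]
    field_simp
    ring
  refine ⟨⟨d⁻¹, ?_, ?_⟩, hQy⟩
  · rw [key, map_mul, Valuation.map_neg, map_mul, map_inv₀, map_inv₀, hPy, Place.val_algebraMap P hd]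
    simpa using hP
  · rw [key, map_mul, Valuation.map_neg, map_mul, map_inv₀, map_inv₀, hQy, Place.val_algebraMap Q hd]
    simpa using hQ

end Groth.Agent.Helper17
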