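import Groth.Agent.Lib.Helper17.FF1

/-!
# Helper17: the fibre of a projective map through a place, in terms of the local ring of the image point
-/

set_option autoImplicit false

namespace Groth.Agent.Helper17

open FunFld Groth.Agent.Helper16.FF
open scoped WithZero

variable {k K : Type*} [Field k] [Field K] [Algebra k K]

theorem sameImage_iff_locRing [IsAlgClosed k] (hK : IsFunctionField k K) {n : ℕ} (φ : Fin (n + 1) → K)
    (hφ : LinearIndependent k φ) (P Q : Place k K) :
    SameImage φ P Q ↔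
      ∀ z : K, InLocRing φ P z → (Q.1 z ≤ 1 ∧ (Q.1 z < 1 ↔ P.1 z < 1)) := by
  constructor
  · rintro ⟨j₀, hj₀, hPmax₀, hQmax₀, hc⟩ z ⟨j, hj, hPmax, u, hu, w, hw, hw1, hzw⟩
    have hr : ∀ i, φ i / φ j₀ ∈ CRsub P Q := fun i => hc i
    have hPj : P.1 (φ j / φ j₀) = 1 := by
      rw [map_div₀, le_antisymm (hPmax₀ j) (hPmax j₀)]
      exact div_self (by simpa using hj₀)
    obtain ⟨hinv, -⟩ := inv_mem_CRsub P Q (hr j) hPj
    have hgen : ∀ i, φ i / φ j ∈ CRsub P Q := by
      intro i
      have h1 : φ i / φ j = (φ i / φ j₀) * (φ j / φ j₀)⁻¹ := by field_simp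
      rw [h1]
      exact Subalgebra.mul_mem _ (hr i) hinv
    have hle : Algebra.adjoin k (Set.range fun i => φ i / φ j) ≤ CRsub P Q := by
      apply Algebra.adjoin_le
      rintro _ ⟨i, rfl⟩
      exact hgen i
    obtain ⟨du, hPu, hQu⟩ := hle hu
    obtain ⟨-, hQw⟩ := inv_mem_CRsub P Q (hle hw) hw1
    have hw0 : w ≠ 0 := by
      rintro rfl
      rw [map_zero] at hw1
      exact zero_ne_one hw1
    have hz : z = u / w := by rw [← hzw]; field_simp
    have hQz : Q.1 z = Q.1 u := by rw [hz, map_div₀, hQw, div_one]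
    have hPz : P.1 z = P.1 u := by rw [hz, map_div₀, hw1, div_one]
    refine ⟨by rw [hQz]; exact val_le_one_of_sub_lt Q hQu, ?_⟩
    rw [hQz, hPz, val_lt_one_iff_of_sub_lt Q hQu, val_lt_one_iff_of_sub_lt P hPu]
  · intro H
    obtain ⟨j, -, hjmax⟩ := Finset.exists_max_image Finset.univ (fun i => P.1 (φ i))
      Finset.univ_nonempty
    have hjmax' : ∀ i, P.1 (φ i) ≤ P.1 (φ j) := fun i => hjmax i (Finset.mem_univ i)
    have hj0 : φ j ≠ 0 := hφ.ne_zero j
    have hgenmem : ∀ i, φ i / φ j ∈ Algebra.adjoin k (Set.range fun i => φ i / φ j) :=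
      fun i => Algebra.subset_adjoin ⟨i, rfl⟩
    have hin : ∀ y ∈ Algebra.adjoin k (Set.range fun i => φ i / φ j), InLocRing φ P y := by
      intro y hy
      exact ⟨j, hj0, hjmax', y, hy, 1, Subalgebra.one_mem _, map_one _, mul_one y⟩
    refine ⟨j, hj0, hjmax', ?_, ?_⟩
    · intro i
      have h1 := (H _ (hin _ (hgenmem i))).1
      rw [map_div₀] at h1
      have hQj0 : Q.1 (φ j) ≠ 0 := by simpa using hj0
      exact (div_le_one₀ (zero_lt_iff.mpr hQj0)).mp h1
    · intro i
      have hPle : P.1 (φ i / φ j) ≤ 1 := by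
        rw [map_div₀]
        have hPj0 : P.1 (φ j) ≠ 0 := by simpa using hj0
        exact (div_le_one₀ (zero_lt_iff.mpr hPj0)).mpr (hjmax' i)
      obtain ⟨c, hc⟩ := exists_const_sub_lt_one hK (Place.deg_eq_one hK P) hPle
      refine ⟨c, hc, ?_⟩
      have hmem : φ i / φ j - algebraMap k K c ∈
          Algebra.adjoin k (Set.range fun i => φ i / φ j) :=
        Subalgebra.sub_mem _ (hgenmem i) (Subalgebra.algebraMap_mem _ c)
      exact ((H _ (hin _ hmem)).2).mpr hc

end Groth.Agent.Helper17
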