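import Groth.Agent.Lib.Helper17.FF2

/-!
# Helper17: finiteness of zero places of a form and of the fibres of a projective map
-/

set_option autoImplicit false

namespace Groth.Agent.Helper17

open FunFld Groth.Agent.Helper16.FF MvPolynomial
open scoped WithZero

theorem aeval_mul_of_isHomogeneous {k K : Type*} [Field k] [Field K] [Algebra k K] {σ : Type*} [Fintype σ]
    (g : MvPolynomial σ k) {d : ℕ} (hg : g.IsHomogeneous d) (c : K) (x : σ → K) :
    aeval (fun i => c * x i) g = c ^ d * aeval x g := by
  rw [aeval_def, aeval_def, eval₂_eq', eval₂_eq', Finset.mul_sum]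
  refine Finset.sum_congr rfl fun m hm => ?_
  have hdeg : ∑ i, m i = d := by
    rw [hg.degree_eq_sum_deg_support hm]
    exact (Finset.sum_subset (Finset.subset_univ _)
      (fun i _ hi => Finsupp.notMem_support_iff.mp hi)).symm
  simp only [mul_pow, Finset.prod_mul_distrib, Finset.prod_pow_eq_pow_sum, hdeg]
  ring

variable {k K : Type*} [Field k] [Field K] [Algebra k K]

theorem finite_zeros_of_ne_zero (hK : IsFunctionField k K) {y : K} (hy : y ≠ 0) :
    {P : Place k K | P.1 y < 1}.Finite := by
  by_cases halg : IsAlgebraic k y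
  · have hempty : {P : Place k K | P.1 y < 1} = ∅ := by
      ext P
      simp only [Set.mem_ofPred_eq, Set.mem_empty_iff_false, iff_false, not_lt]
      rw [Place.val_eq_one_of_isAlgebraic hK P hy halg]
    rw [hempty]
    exact Set.finite_empty
  · exact finite_zeros hK halg

theorem finite_zeroPlaces_form (hK : IsFunctionField k K) {n : ℕ} (φ : Fin (n + 1) → K)
    (g : MvPolynomial (Fin (n + 1)) k) (hg : g.IsHomogeneous g.totalDegree)
    (hne : aeval φ g ≠ 0) :
    {P : Place k K | ∃ j, φ j ≠ 0 ∧ (∀ i, P.1 (φ i) ≤ P.1 (φ j)) ∧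
      P.1 (aeval (fun i => φ i / φ j) g) < 1}.Finite := by
  have hfin : ∀ j : Fin (n + 1), φ j ≠ 0 →
      {P : Place k K | P.1 (aeval (fun i => φ i / φ j) g) < 1}.Finite := by
    intro j hj
    apply finite_zeros_of_ne_zero hK
    intro h0
    apply hne
    have h1 := aeval_mul_of_isHomogeneous g hg (φ j) (fun i => φ i / φ j)
    rw [h0, mul_zero] at h1
    rw [← h1]
    congr 1
    ext i
    field_simp
  refine Set.Finite.subset (Set.finite_iUnion (ι := Fin (n + 1))
    (f := fun j => {P : Place k K | φ j ≠ 0 ∧ P.1 (aeval (fun i => φ i / φ j) g) < 1})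
    (fun j => ?_)) ?_
  · by_cases hj : φ j = 0
    · have : {P : Place k K | φ j ≠ 0 ∧ P.1 (aeval (fun i => φ i / φ j) g) < 1} = ∅ := by
        ext P
        simp [hj]
      rw [this]
      exact Set.finite_empty
    · exact (hfin j hj).subset fun P hP => hP.2
  · rintro P ⟨j, hj, -, hP⟩
    exact Set.mem_iUnion.mpr ⟨j, hj, hP⟩

theorem finite_fibre (hK : IsFunctionField k K) {n : ℕ} (hn : 1 ≤ n) (φ : Fin (n + 1) → K)
    (hφ : LinearIndependent k φ) (P : Place k K) :
    {Q : Place k K | SameImage φ P Q}.Finite := by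
  haveI : Nontrivial (Fin (n + 1)) := Fin.nontrivial_iff_two_le.mpr (by omega)
  -- for each `j` choose `i ≠ j`
  have hT : ∀ j : Fin (n + 1), ∃ i : Fin (n + 1), i ≠ j := fun j => exists_ne j
  choose ι hι using hT
  have hfin : ∀ j : Fin (n + 1),
      {Q : Place k K | ∃ c : k, P.1 (φ (ι j) / φ j - algebraMap k K c) < 1 ∧
        Q.1 (φ (ι j) / φ j - algebraMap k K c) < 1}.Finite := by
    intro j
    by_cases hex : ∃ c₀ : k, P.1 (φ (ι j) / φ j - algebraMap k K c₀) < 1
    · obtain ⟨c₀, hc₀⟩ := hex
      have hj0 : φ j ≠ 0 := hφ.ne_zero j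
      have hne : φ (ι j) / φ j - algebraMap k K c₀ ≠ 0 := by
        intro h0
        have h1 : φ (ι j) = c₀ • φ j := by
          rw [sub_eq_zero, div_eq_iff hj0] at h0
          rw [h0, Algebra.smul_def]
        have h2 := Fintype.linearIndependent_iff.mp hφ
          (Pi.single (ι j) 1 - Pi.single j c₀) (by
            simp only [Pi.sub_apply, sub_smul, Finset.sum_sub_distrib, Pi.single_apply, ite_smul,
              one_smul, zero_smul, Finset.sum_ite_eq', Finset.mem_univ, if_true]
            rw [h1, sub_self]) (ι j)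
        simp only [Pi.sub_apply, Pi.single_eq_same, Pi.single_apply, if_neg (hι j), sub_zero] at h2
        exact (one_ne_zero (α := k)) h2
      refine (finite_zeros_of_ne_zero hK hne).subset ?_
      rintro Q ⟨c, hPc, hQc⟩
      have hcc : c = c₀ := by
        by_contra hcne
        have h3 : P.1 (algebraMap k K (c₀ - c)) < 1 := by
          have : algebraMap k K (c₀ - c) =
              (φ (ι j) / φ j - algebraMap k K c) - (φ (ι j) / φ j - algebraMap k K c₀) := by
            rw [map_sub]; ring
          rw [this]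
          exact Valuation.map_sub_lt _ hPc hc₀
        rw [Place.val_algebraMap P (sub_ne_zero.mpr (Ne.symm hcne))] at h3
        exact lt_irrefl _ h3
      rw [← hcc]
      exact hQc
    · have hempty : {Q : Place k K | ∃ c : k, P.1 (φ (ι j) / φ j - algebraMap k K c) < 1 ∧
          Q.1 (φ (ι j) / φ j - algebraMap k K c) < 1} = ∅ := by
        ext Q
        simp only [Set.mem_ofPred_eq, Set.mem_empty_iff_false, iff_false]
        rintro ⟨c, hc, -⟩
        exact hex ⟨c, hc⟩
      rw [hempty]
      exact Set.finite_empty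
  refine Set.Finite.subset (Set.finite_iUnion (ι := Fin (n + 1)) (fun j => hfin j)) ?_
  rintro Q ⟨j, -, -, -, hc⟩
  exact Set.mem_iUnion.mpr ⟨j, hc (ι j)⟩

end Groth.Agent.Helper17
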