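import Groth.Agent.Lib.Helper17.FF3

/-!
# Helper17: second-order Taylor expansion at a place, and the tangent line of a plane curve
-/

set_option autoImplicit false

namespace Groth.Agent.Helper17

open FunFld Groth.Agent.Helper16.FF MvPolynomial
open scoped WithZero

variable {k K : Type*} [Field k] [Field K] [Algebra k K]

theorem m2_of_m1_mul_m1 (P : Place k K) {x y : K} (hx : P.1 x ≤ WithZero.exp (-1 : ℤ))
    (hy : P.1 y ≤ WithZero.exp (-1 : ℤ)) : P.1 (x * y) ≤ WithZero.exp (-2 : ℤ) := by
  rw [map_mul, show (-2 : ℤ) = -1 + -1 by norm_num, WithZero.exp_add]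
  exact mul_le_mul' hx hy

theorem m2_mul_le_one (P : Place k K) {x y : K} (hx : P.1 x ≤ WithZero.exp (-2 : ℤ))
    (hy : P.1 y ≤ 1) : P.1 (x * y) ≤ WithZero.exp (-2 : ℤ) := by
  rw [map_mul]
  calc P.1 x * P.1 y ≤ WithZero.exp (-2 : ℤ) * 1 := mul_le_mul' hx hy
    _ = WithZero.exp (-2 : ℤ) := mul_one _

theorem val_sum_le (P : Place k K) {ι : Type*} (s : Finset ι) (f : ι → K) (g : ℤᵐ⁰)
    (h : ∀ i ∈ s, P.1 (f i) ≤ g) : P.1 (∑ i ∈ s, f i) ≤ g := by
  classical
  induction s using Finset.induction_on with
  | empty => simp
  | insert a s ha ih =>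
    rw [Finset.sum_insert ha]
    exact Valuation.map_add_le _ (h a (Finset.mem_insert_self a s))
      (ih fun i hi => h i (Finset.mem_insert_of_mem hi))

theorem taylor_two (P : Place k K) {σ : Type*} [Fintype σ] (α : σ → k) (ε : σ → K)
    (hε : ∀ i, P.1 (ε i) ≤ WithZero.exp (-1 : ℤ)) (p : MvPolynomial σ k) :
    P.1 (aeval (fun i => algebraMap k K (α i) + ε i) p - algebraMap k K (eval α p)
      - ∑ i, algebraMap k K (eval α (pderiv i p)) * ε i) ≤ WithZero.exp (-2 : ℤ) := by
  classical
  induction p using MvPolynomial.induction_on with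
  | C a =>
    simp [pderiv_C]
  | add p q hp hq =>
    have key : aeval (fun i => algebraMap k K (α i) + ε i) (p + q) - algebraMap k K (eval α (p + q))
        - ∑ i, algebraMap k K (eval α (pderiv i (p + q))) * ε i =
        (aeval (fun i => algebraMap k K (α i) + ε i) p - algebraMap k K (eval α p)
          - ∑ i, algebraMap k K (eval α (pderiv i p)) * ε i) +
        (aeval (fun i => algebraMap k K (α i) + ε i) q - algebraMap k K (eval α q)
          - ∑ i, algebraMap k K (eval α (pderiv i q)) * ε i) := by
      simp only [map_add, add_mul, Finset.sum_add_distrib]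
      ring
    rw [key]
    exact Valuation.map_add_le _ hp hq
  | mul_X p l hp =>
    set S : K := ∑ i, algebraMap k K (eval α (pderiv i p)) * ε i with hS
    set T : K := aeval (fun i => algebraMap k K (α i) + ε i) p - algebraMap k K (eval α p) - S
      with hT
    have hSle : P.1 S ≤ WithZero.exp (-1 : ℤ) := by
      apply val_sum_le
      intro i _
      rw [map_mul]
      calc P.1 (algebraMap k K (eval α (pderiv i p))) * P.1 (ε i) ≤ 1 * WithZero.exp (-1 : ℤ) :=
            mul_le_mul' (P.2.1 _) (hε i)
        _ = WithZero.exp (-1 : ℤ) := one_mul _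
    have hsum : ∑ i, algebraMap k K (eval α (pderiv i (p * X l))) * ε i =
        algebraMap k K (α l) * S + algebraMap k K (eval α p) * ε l := by
      simp only [pderiv_mul, pderiv_X, map_add, map_mul, eval_X, add_mul, Finset.sum_add_distrib]
      congr 1
      · rw [hS, Finset.mul_sum]
        refine Finset.sum_congr rfl fun i _ => ?_
        ring
      · simp only [Pi.single_apply, apply_ite (eval α), map_one, map_zero,
          apply_ite (algebraMap k K), mul_ite, mul_one, mul_zero, ite_mul, zero_mul]
        rw [Finset.sum_ite_eq]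
        simp
    have key : aeval (fun i => algebraMap k K (α i) + ε i) (p * X l)
        - algebraMap k K (eval α (p * X l))
        - ∑ i, algebraMap k K (eval α (pderiv i (p * X l))) * ε i =
        S * ε l + T * (algebraMap k K (α l) + ε l) := by
      rw [hsum, hT]
      simp only [map_mul, aeval_X, eval_X]
      ring
    rw [key]
    apply Valuation.map_add_le
    · exact m2_of_m1_mul_m1 P hSle (hε l)
    · apply m2_mul_le_one P hp
      exact Valuation.map_add_le _ (P.2.1 _) ((hε l).trans (by
        rw [← WithZero.exp_zero, WithZero.exp_le_exp]; norm_num))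

end Groth.Agent.Helper17
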