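import Groth.Agent.Lib.Helper17.FF4

/-!
# Helper17: the tangent line at a point of a projective curve vanishes to order two
-/

set_option autoImplicit false

namespace Groth.Agent.Helper17

open FunFld Groth.Agent.Helper16.FF MvPolynomial
open scoped WithZero

variable {k K : Type*} [Field k] [Field K] [Algebra k K]

theorem tangent_val [IsAlgClosed k] (hK : IsFunctionField k K) {σ : Type*} [Fintype σ]
    (φ : σ → K) (hφ : LinearIndependent k φ)
    (f : MvPolynomial σ k) (hhom : f.IsHomogeneous f.totalDegree)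
    (hfφ : aeval φ f = 0) (P : Place k K) (j : σ) (a : σ → P.O)
    (ha : ∀ i, ((a i : P.O) : K) = φ i / φ j) (c : σ → k)
    (hc : ∀ i, algebraMap k (IsLocalRing.ResidueField P.O) (c i) =
      aeval (fun l => IsLocalRing.residue P.O (a l)) (pderiv i f)) :
    P.1 (∑ i, c i • (φ i / φ j)) ≤ WithZero.exp (-2 : ℤ) := by
  classical
  have hj0 : φ j ≠ 0 := hφ.ne_zero j
  have hρle : ∀ i, P.1 (φ i / φ j) ≤ 1 := fun i => by
    rw [← ha i]; exact (Place.mem_O_iff P _).mp (a i).2
  have hex : ∀ i, ∃ α : k, P.1 (φ i / φ j - algebraMap k K α) < 1 := fun i =>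
    exists_const_sub_lt_one hK (Place.deg_eq_one hK P) (hρle i)
  choose α hα using hex
  obtain ⟨ε, hε⟩ : ∃ ε : σ → K, ε = fun i => φ i / φ j - algebraMap k K (α i) := ⟨_, rfl⟩
  have hεle : ∀ i, P.1 (ε i) ≤ WithZero.exp (-1 : ℤ) := fun i => by
    rw [hε]; exact lt_one_iff_le_exp_neg_one.mp (hα i)
  have hρ : ∀ i, φ i / φ j = algebraMap k K (α i) + ε i := fun i => by rw [hε]; ring
  -- residues of the coordinates are the constants
  have hres : ∀ i, IsLocalRing.residue P.O (a i) =
      algebraMap k (IsLocalRing.ResidueField P.O) (α i) := by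
    intro i
    have h1 : IsLocalRing.residue P.O (a i - algebraMap k P.O (α i)) = 0 := by
      rw [Place.residue_eq_zero_iff]
      have h2 : ((a i - algebraMap k P.O (α i) : P.O) : K) = φ i / φ j - algebraMap k K (α i) := by
        rw [← ha i]; rfl
      rw [h2]; exact hα i
    rw [map_sub, sub_eq_zero] at h1
    exact h1
  have hci : ∀ i, c i = eval α (pderiv i f) := by
    intro i
    have h2 := hc i
    have h3 : (fun l => IsLocalRing.residue P.O (a l)) =
        ⇑(algebraMap k (IsLocalRing.ResidueField P.O)) ∘ α := funext hres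
    haveI : IsScalarTower k k (IsLocalRing.ResidueField P.O) := ⟨fun x y z => mul_smul x y z⟩
    rw [h3, aeval_algebraMap_apply] at h2
    exact (algebraMap k (IsLocalRing.ResidueField P.O)).injective h2
  -- the form vanishes at the normalised point
  have hfρ : aeval (fun i => algebraMap k K (α i) + ε i) f = 0 := by
    have h4 := aeval_mul_of_isHomogeneous f hhom (φ j) (fun i => algebraMap k K (α i) + ε i)
    have h5 : (fun i => φ j * (algebraMap k K (α i) + ε i)) = φ := by
      ext i; rw [← hρ i]; field_simp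
    rw [h5, hfφ] at h4
    exact (mul_eq_zero.mp h4.symm).resolve_left (pow_ne_zero _ hj0)
  have hT := taylor_two P α ε hεle f
  rw [hfρ, zero_sub] at hT
  have hS1 : P.1 (∑ i, algebraMap k K (eval α (pderiv i f)) * ε i) ≤ WithZero.exp (-1 : ℤ) := by
    apply val_sum_le
    intro i _
    rw [map_mul]
    calc P.1 (algebraMap k K (eval α (pderiv i f))) * P.1 (ε i) ≤ 1 * WithZero.exp (-1 : ℤ) :=
          mul_le_mul' (P.2.1 _) (hεle i)
      _ = WithZero.exp (-1 : ℤ) := one_mul _
  have hlt2 : WithZero.exp (-2 : ℤ) < (1 : ℤᵐ⁰) := by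
    rw [← WithZero.exp_zero, WithZero.exp_lt_exp]; norm_num
  have hlt1 : WithZero.exp (-1 : ℤ) < (1 : ℤᵐ⁰) := by
    rw [← WithZero.exp_zero, WithZero.exp_lt_exp]; norm_num
  have hf0 : eval α f = 0 := by
    by_contra hne
    have h7 : P.1 (algebraMap k K (eval α f)) < 1 := by
      have h8 : algebraMap k K (eval α f) =
          -(-algebraMap k K (eval α f) - ∑ i, algebraMap k K (eval α (pderiv i f)) * ε i)
            - ∑ i, algebraMap k K (eval α (pderiv i f)) * ε i := by ring
      rw [h8]
      apply Valuation.map_sub_lt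
      · rw [Valuation.map_neg]; exact lt_of_le_of_lt hT hlt2
      · exact lt_of_le_of_lt hS1 hlt1
    rw [Place.val_algebraMap P hne] at h7
    exact lt_irrefl _ h7
  have hEuler : ∑ i, α i * c i = 0 := by
    have h9 := congrArg (eval α) hhom.sum_X_mul_pderiv
    simp only [map_sum, map_mul, eval_X, nsmul_eq_mul, map_natCast, hf0, mul_zero] at h9
    rw [← h9]
    exact Finset.sum_congr rfl fun i _ => by rw [hci i]
  have hfinal : ∑ i, c i • (φ i / φ j) = ∑ i, algebraMap k K (eval α (pderiv i f)) * ε i := by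
    have h10 : ∀ i, c i • (φ i / φ j) =
        algebraMap k K (α i * c i) + algebraMap k K (eval α (pderiv i f)) * ε i := by
      intro i
      rw [hρ i, Algebra.smul_def, ← hci i, map_mul]
      ring
    rw [Finset.sum_congr rfl fun i _ => h10 i, Finset.sum_add_distrib, ← map_sum, hEuler, map_zero,
      zero_add]
  rw [hfinal]
  rw [hf0, map_zero, neg_zero, zero_sub, Valuation.map_neg] at hT
  exact hT

end Groth.Agent.Helper17
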