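import Mathlib

/-!
# Faithfully flat descent of modules: base change computations (pure algebra)

`Ex b N` is the extension of scalars of `N` along `b`; `bcx` is the semilinear comparison map
`T ⊗[A,b] N → T' ⊗[A,b'] N` induced by `g : T →+* T'`; `psi`/`kap` identify
`(A ⊗[R] B) ⊗[B] P` with `A ⊗[R] P`.
-/

set_option autoImplicit false
set_option backward.isDefEq.respectTransparency false

open CategoryTheory ModuleCat TensorProduct
open scoped ChangeOfRings

universe u

namespace Groth.Agent.Helper17.FFD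

section Basic

variable {A T : Type u} [CommRing A] [CommRing T] (b : A →+* T) (N : ModuleCat.{u} A)

/-- Extension of scalars of `N` along `b`. -/
noncomputable abbrev Ex : ModuleCat.{u} T := (extendScalars b).obj N

lemma smul_one_tmul (t : T) (n : N) : t • ((1 : T) ⊗ₜ[A,b] n : Ex b N) = t ⊗ₜ[A,b] n := by
  rw [ExtendScalars.smul_tmul, mul_one]

lemma tmul_smul' (t : T) (s : A) (n : N) :
    (t ⊗ₜ[A,b] (s • n) : Ex b N) = (t * b s) ⊗ₜ[A,b] n := by
  let _ : Module A T := Module.compHom T b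
  have h := (TensorProduct.smul_tmul (R := A) (R' := A) s t n).symm
  rw [h]
  congr 1
  exact mul_comm _ _

lemma ex_induction {motive : Ex b N → Prop} (x : Ex b N) (zero : motive 0)
    (tmul : ∀ (t : T) (n : N), motive (t ⊗ₜ[A,b] n))
    (add : ∀ x y, motive x → motive y → motive (x + y)) : motive x :=
  TensorProduct.induction_on x zero tmul add

/-- an element of `P`, seen in the restriction of scalars of `P` -/
abbrev rs {P : ModuleCat.{u} T} (p : P) : ((restrictScalars b).obj P) := p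

end Basic

section Bcx

variable {A T T' : Type u} [CommRing A] [CommRing T] [CommRing T'] (b : A →+* T) (g : T →+* T')
  (b' : A →+* T') (hb : g.comp b = b') (N : ModuleCat.{u} A)

/-- auxiliary biadditive map for `bcx` -/
noncomputable def bcxH : T →+ N →+ Ex b' N :=
  AddMonoidHom.mk' (fun t => AddMonoidHom.mk' (fun n => (g t ⊗ₜ[A,b'] n : Ex b' N))
      (fun _ _ => TensorProduct.tmul_add _ _ _))
    (fun t₁ t₂ => by
      refine AddMonoidHom.ext fun n => ?_
      show (g (t₁ + t₂) ⊗ₜ[A,b'] n : Ex b' N) = g t₁ ⊗ₜ[A,b'] n + g t₂ ⊗ₜ[A,b'] n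
      rw [map_add, TensorProduct.add_tmul])

include hb in
lemma bcxH_compat (s : A) (t : T) (n : N) :
    (g (b s * t) ⊗ₜ[A,b'] n : Ex b' N) = g t ⊗ₜ[A,b'] (s • n) := by
  rw [tmul_smul', map_mul, ← hb, RingHom.comp_apply, mul_comm]

/-- the `g`-semilinear map `T ⊗[A,b] N → T' ⊗[A,b'] N`, `t ⊗ n ↦ g t ⊗ n` -/
noncomputable def bcx : Ex b N →+ Ex b' N :=
  TensorProduct.liftAddHom (bcxH g b' N) (fun (s : A) t n => bcxH_compat b g b' hb N s t n)

lemma bcx_tmul (t : T) (n : N) : bcx b g b' hb N (t ⊗ₜ[A,b] n) = g t ⊗ₜ[A,b'] n := rfl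

end Bcx

section BaseChange

variable (R A B : Type u) [CommRing R] [CommRing A] [CommRing B] [Algebra R A] [Algebra R B]
  (P : ModuleCat.{u} B)

/-- left inclusion into the tensor product ring -/
noncomputable abbrev iL : A →+* A ⊗[R] B := Algebra.TensorProduct.includeLeftRingHom
/-- right inclusion into the tensor product ring -/
noncomputable abbrev iR : B →+* A ⊗[R] B :=
  (Algebra.TensorProduct.includeRight : B →ₐ[R] A ⊗[R] B).toRingHom

lemma iL_apply (a : A) : iL R A B a = a ⊗ₜ 1 := rfl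
lemma iR_apply (b : B) : iR R A B b = 1 ⊗ₜ b := rfl

/-- target of `psi`: `A ⊗[R] P` -/
noncomputable abbrev Tg : ModuleCat.{u} A :=
  Ex (algebraMap R A) ((restrictScalars (algebraMap R B)).obj P)

/-- `a ↦ b ↦ a ⊗ b • p` -/
noncomputable def psiInner (p : P) : A →+ B →+ Tg R A B P :=
  AddMonoidHom.mk' (fun a => AddMonoidHom.mk'
      (fun bb => (a ⊗ₜ[R, algebraMap R A] rs (algebraMap R B) (bb • p) : Tg R A B P))
      (fun b₁ b₂ => by
        show (a ⊗ₜ[R, algebraMap R A] rs (algebraMap R B) ((b₁ + b₂) • p) : Tg R A B P) = _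
        rw [add_smul]
        exact TensorProduct.tmul_add _ _ _))
    (fun a₁ a₂ => by
      refine AddMonoidHom.ext fun bb => ?_
      exact TensorProduct.add_tmul _ _ _)

lemma psiInner_compat (p : P) (r : R) (a : A) (bb : B) :
    psiInner R A B P p (r • a) bb = psiInner R A B P p a (r • bb) := by
  show ((r • a) ⊗ₜ[R, algebraMap R A] rs (algebraMap R B) (bb • p) : Tg R A B P) =
    a ⊗ₜ[R, algebraMap R A] rs (algebraMap R B) ((r • bb) • p)
  rw [Algebra.smul_def r a, Algebra.smul_def r bb, mul_smul]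
  let _ : Module R A := Module.compHom A (algebraMap R A)
  exact TensorProduct.smul_tmul (R := R) (R' := R) r a (rs (algebraMap R B) (bb • p))

/-- `a ⊗ b ↦ a ⊗ b • p` -/
noncomputable def psiAux (p : P) : A ⊗[R] B →+ Tg R A B P :=
  TensorProduct.liftAddHom (psiInner R A B P p) (psiInner_compat R A B P p)

lemma psiAux_tmul (p : P) (a : A) (bb : B) :
    psiAux R A B P p (a ⊗ₜ bb) = a ⊗ₜ[R, algebraMap R A] rs (algebraMap R B) (bb • p) := rfl

lemma psiAux_add (p p' : P) :
    psiAux R A B P (p + p') = psiAux R A B P p + psiAux R A B P p' := by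
  refine AddMonoidHom.ext fun x => ?_
  induction x using TensorProduct.induction_on with
  | zero => simp
  | tmul a bb =>
    show (a ⊗ₜ[R, algebraMap R A] rs (algebraMap R B) (bb • (p + p')) : Tg R A B P) =
      a ⊗ₜ[R, algebraMap R A] rs (algebraMap R B) (bb • p) +
        a ⊗ₜ[R, algebraMap R A] rs (algebraMap R B) (bb • p')
    rw [smul_add]
    exact TensorProduct.tmul_add _ _ _
  | add x y hx hy => rw [map_add, hx, hy, map_add]

/-- biadditive map for `psi` -/
noncomputable def psiH : A ⊗[R] B →+ P →+ Tg R A B P :=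
  (AddMonoidHom.mk' (psiAux R A B P) (psiAux_add R A B P)).flip

lemma psiH_compat (b₀ : B) (t : A ⊗[R] B) (p : P) :
    psiAux R A B P p (iR R A B b₀ * t) = psiAux R A B P (b₀ • p) t := by
  induction t using TensorProduct.induction_on with
  | zero => simp
  | tmul a bb =>
    rw [iR_apply, Algebra.TensorProduct.tmul_mul_tmul, one_mul, psiAux_tmul, psiAux_tmul,
      mul_comm, mul_smul]
  | add x y hx hy => rw [mul_add, map_add, hx, hy, map_add]

/-- the base change map `(A ⊗[R] B) ⊗[B] P → A ⊗[R] P`, `(a ⊗ b) ⊗ p ↦ a ⊗ b • p` -/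
noncomputable def psi : Ex (iR R A B) P →+ Tg R A B P :=
  TensorProduct.liftAddHom (psiH R A B P) (fun (b₀ : B) t p => psiH_compat R A B P b₀ t p)

lemma psi_tmul (t : A ⊗[R] B) (p : P) :
    psi R A B P (t ⊗ₜ[B, iR R A B] p) = psiAux R A B P p t := rfl

lemma psi_tmul_tmul (a : A) (bb : B) (p : P) :
    psi R A B P ((a ⊗ₜ[R] bb) ⊗ₜ[B, iR R A B] p) =
      a ⊗ₜ[R, algebraMap R A] rs (algebraMap R B) (bb • p) := rfl

/-- biadditive map for `kap` -/
noncomputable def kapH : A →+ ((restrictScalars (algebraMap R B)).obj P) →+ Ex (iR R A B) P :=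
  AddMonoidHom.mk' (fun a => AddMonoidHom.mk'
      (fun p => (((a ⊗ₜ[R] (1 : B)) : A ⊗[R] B) ⊗ₜ[B, iR R A B] (p : P) : Ex (iR R A B) P))
      (fun _ _ => TensorProduct.tmul_add _ _ _))
    (fun a₁ a₂ => by
      refine AddMonoidHom.ext fun p => ?_
      show ((((a₁ + a₂) ⊗ₜ[R] (1 : B)) : A ⊗[R] B) ⊗ₜ[B, iR R A B] (p : P) :
        Ex (iR R A B) P) = _
      rw [TensorProduct.add_tmul, TensorProduct.add_tmul]
      rfl)

lemma kapH_compat (r : R) (a : A) (p : P) :
    ((((algebraMap R A r * a) ⊗ₜ[R] (1 : B)) : A ⊗[R] B) ⊗ₜ[B, iR R A B] p :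
      Ex (iR R A B) P) =
    ((a ⊗ₜ[R] (1 : B)) : A ⊗[R] B) ⊗ₜ[B, iR R A B] (algebraMap R B r • p) := by
  rw [tmul_smul', iR_apply, Algebra.TensorProduct.tmul_mul_tmul, mul_one, one_mul,
    ← Algebra.smul_def, TensorProduct.smul_tmul, ← Algebra.algebraMap_eq_smul_one]

/-- the inverse base change map `A ⊗[R] P → (A ⊗[R] B) ⊗[B] P`, `a ⊗ p ↦ (a ⊗ 1) ⊗ p` -/
noncomputable def kap : Tg R A B P →+ Ex (iR R A B) P :=
  TensorProduct.liftAddHom (kapH R A B P) (fun (r : R) a p => kapH_compat R A B P r a p)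

lemma kap_tmul (a : A) (p : P) :
    kap R A B P (a ⊗ₜ[R, algebraMap R A] rs (algebraMap R B) p) =
      ((a ⊗ₜ[R] (1 : B)) : A ⊗[R] B) ⊗ₜ[B, iR R A B] p := rfl

lemma kap_psi_tmul (t : A ⊗[R] B) (p : P) :
    kap R A B P (psi R A B P (t ⊗ₜ[B, iR R A B] p)) = t ⊗ₜ[B, iR R A B] p := by
  induction t using TensorProduct.induction_on with
  | zero => rw [TensorProduct.zero_tmul, map_zero, map_zero]
  | tmul a bb =>
    rw [psi_tmul_tmul, kap_tmul, tmul_smul', iR_apply, Algebra.TensorProduct.tmul_mul_tmul,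
      mul_one, one_mul]
  | add x y hx hy => rw [TensorProduct.add_tmul, map_add, map_add, hx, hy]

lemma kap_psi (y : Ex (iR R A B) P) : kap R A B P (psi R A B P y) = y := by
  induction y using ex_induction with
  | zero => rw [map_zero, map_zero]
  | tmul t p => exact kap_psi_tmul R A B P t p
  | add x y hx hy => rw [map_add, map_add, hx, hy]

lemma psi_smul_tmul (a₀ : A) (t : A ⊗[R] B) (p : P) :
    psi R A B P ((iL R A B a₀ * t) ⊗ₜ[B, iR R A B] p) =
      a₀ • psi R A B P (t ⊗ₜ[B, iR R A B] p) := by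
  induction t using TensorProduct.induction_on with
  | zero => rw [mul_zero, TensorProduct.zero_tmul, map_zero, smul_zero]
  | tmul a bb =>
    rw [iL_apply, Algebra.TensorProduct.tmul_mul_tmul, one_mul, psi_tmul_tmul, psi_tmul_tmul,
      ExtendScalars.smul_tmul]
  | add x y hx hy =>
    rw [mul_add, TensorProduct.add_tmul, map_add, hx, hy, TensorProduct.add_tmul, map_add,
      smul_add]

lemma psi_smul (a₀ : A) (y : Ex (iR R A B) P) :
    psi R A B P (iL R A B a₀ • y) = a₀ • psi R A B P y := by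
  induction y using ex_induction with
  | zero => rw [smul_zero, map_zero, smul_zero]
  | tmul t p =>
    rw [ExtendScalars.smul_tmul]
    exact psi_smul_tmul R A B P a₀ t p
  | add x y hx hy => rw [smul_add, map_add, hx, hy, map_add, smul_add]

lemma psi_one_tmul (p : P) :
    psi R A B P ((1 : A ⊗[R] B) ⊗ₜ[B, iR R A B] p) =
      (1 : A) ⊗ₜ[R, algebraMap R A] rs (algebraMap R B) p := by
  rw [Algebra.TensorProduct.one_def, psi_tmul_tmul, one_smul]

lemma kap_one_tmul (p : P) :
    kap R A B P ((1 : A) ⊗ₜ[R, algebraMap R A] rs (algebraMap R B) p) =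
      (1 : A ⊗[R] B) ⊗ₜ[B, iR R A B] p := by
  rw [kap_tmul, ← Algebra.TensorProduct.one_def]

end BaseChange

end Groth.Agent.Helper17.FFD
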