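import Groth.Agent.Lib.Helper17.FFD1

/-!
# Faithfully flat descent of modules: the core statement

Given "`T`-point" descent data on an `S`-module `N` (relative to `R → S` faithfully flat), we
construct (via comonadicity of extension of scalars) an `R`-module `M` and an isomorphism
`S ⊗[R] M ≅ N` compatible with the descent data on the universal pair `(inl, inr)`.
-/

set_option autoImplicit false
set_option backward.isDefEq.respectTransparency false

open CategoryTheory ModuleCat TensorProduct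
open scoped ChangeOfRings

universe u

namespace Groth.Agent.Helper17.FFD

variable (R S : Type u) [CommRing R] [CommRing S] [Algebra R S] (N : ModuleCat.{u} S)

/-- descent data on `N` in "`T`-point" form -/
structure TPt where
  /-- the gluing maps -/
  Φ : ∀ {T : Type u} [CommRing T] (a b : S →+* T), Ex a N ⟶ Ex b N
  self : ∀ {T : Type u} [CommRing T] (a : S →+* T), Φ a a = 𝟙 _
  comp : ∀ {T : Type u} [CommRing T] (a b c : S →+* T),
    a.comp (algebraMap R S) = b.comp (algebraMap R S) →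
    b.comp (algebraMap R S) = c.comp (algebraMap R S) → Φ a b ≫ Φ b c = Φ a c
  pull : ∀ {T T' : Type u} [CommRing T] [CommRing T'] (g : T →+* T') (a b : S →+* T)
    (a' b' : S →+* T') (_ : g.comp a = a') (hb : g.comp b = b'),
    a.comp (algebraMap R S) = b.comp (algebraMap R S) → ∀ n : N,
      (Φ a' b').hom ((1 : T') ⊗ₜ[S,a'] n) = bcx b g b' hb N ((Φ a b).hom ((1 : T) ⊗ₜ[S,a] n))

section Rings

/-- multiplication `S ⊗ S → S` -/
noncomputable def mu : S ⊗[R] S →+* S := (Algebra.TensorProduct.lmul' R (S := S)).toRingHom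
/-- `s ↦ s ⊗ 1` -/
noncomputable abbrev inl : S →+* S ⊗[R] S := iL R S S
/-- `s ↦ 1 ⊗ s` -/
noncomputable abbrev inr : S →+* S ⊗[R] S := iR R S S
/-- `s ↦ s ⊗ (1 ⊗ 1)` -/
noncomputable abbrev j1 : S →+* S ⊗[R] (S ⊗[R] S) := iL R S (S ⊗[R] S)
/-- `x ↦ 1 ⊗ x` -/
noncomputable abbrev d23 : S ⊗[R] S →+* S ⊗[R] (S ⊗[R] S) := iR R S (S ⊗[R] S)
/-- `s ↦ 1 ⊗ (s ⊗ 1)` -/
noncomputable abbrev j2 : S →+* S ⊗[R] (S ⊗[R] S) := (d23 R S).comp (inl R S)
/-- `s ↦ 1 ⊗ (1 ⊗ s)` -/
noncomputable abbrev j3 : S →+* S ⊗[R] (S ⊗[R] S) := (d23 R S).comp (inr R S)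
/-- `s ⊗ s' ↦ s ⊗ (s' ⊗ 1)` -/
noncomputable def d12 : S ⊗[R] S →+* S ⊗[R] (S ⊗[R] S) :=
  (Algebra.TensorProduct.map (AlgHom.id R S)
    (Algebra.TensorProduct.includeLeft (R := R) (S := R) (A := S) (B := S))).toRingHom
/-- `s ⊗ s' ↦ s ⊗ (1 ⊗ s')` -/
noncomputable def d13 : S ⊗[R] S →+* S ⊗[R] (S ⊗[R] S) :=
  (Algebra.TensorProduct.map (AlgHom.id R S)
    (Algebra.TensorProduct.includeRight (R := R) (A := S) (B := S))).toRingHom

lemma mu_tmul (s s' : S) : mu R S (s ⊗ₜ s') = s * s' :=
  Algebra.TensorProduct.lmul'_apply_tmul s s'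

lemma mu_inl : (mu R S).comp (inl R S) = RingHom.id S :=
  RingHom.ext fun s => by
    show mu R S (s ⊗ₜ 1) = s
    rw [mu_tmul, mul_one]

lemma mu_inr : (mu R S).comp (inr R S) = RingHom.id S :=
  RingHom.ext fun s => by
    show mu R S (1 ⊗ₜ s) = s
    rw [mu_tmul, one_mul]

lemma d12_tmul (s s' : S) : d12 R S (s ⊗ₜ s') = s ⊗ₜ (s' ⊗ₜ 1) := rfl
lemma d13_tmul (s s' : S) : d13 R S (s ⊗ₜ s') = s ⊗ₜ (1 ⊗ₜ s') := rfl

lemma d12_tmul_one (s : S) : d12 R S (s ⊗ₜ 1) = j1 R S s := by
  rw [d12_tmul, iL_apply, Algebra.TensorProduct.one_def]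

lemma d13_tmul_one (s : S) : d13 R S (s ⊗ₜ 1) = j1 R S s := by
  rw [d13_tmul, iL_apply, Algebra.TensorProduct.one_def]

lemma d12_inl : (d12 R S).comp (inl R S) = j1 R S := RingHom.ext fun s => d12_tmul_one R S s
lemma d13_inl : (d13 R S).comp (inl R S) = j1 R S := RingHom.ext fun s => d13_tmul_one R S s
lemma d12_inr : (d12 R S).comp (inr R S) = j2 R S := RingHom.ext fun _ => rfl
lemma d13_inr : (d13 R S).comp (inr R S) = j3 R S := RingHom.ext fun _ => rfl

lemma hE1 : (inl R S).comp (algebraMap R S) = (inr R S).comp (algebraMap R S) :=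
  Algebra.TensorProduct.includeLeftRingHom_comp_algebraMap

lemma hJ12 : (j1 R S).comp (algebraMap R S) = (j2 R S).comp (algebraMap R S) :=
  Algebra.TensorProduct.includeLeftRingHom_comp_algebraMap (R := R) (A := S) (B := S ⊗[R] S)

lemma hJ23 : (j2 R S).comp (algebraMap R S) = (j3 R S).comp (algebraMap R S) := by
  rw [RingHom.comp_assoc, RingHom.comp_assoc, hE1]

end Rings

variable {R S N} (D : TPt R S N)

/-- the coaction `N → S ⊗[R] N` -/
noncomputable def alpha : N ⟶ Tg R S S N :=
  ModuleCat.ofHom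
    { toFun := fun n => psi R S S N
        ((D.Φ (inl R S) (inr R S)).hom ((1 : S ⊗[R] S) ⊗ₜ[S, inl R S] n))
      map_add' := fun n n' => by rw [TensorProduct.tmul_add, map_add, map_add]
      map_smul' := fun s n => by
        rw [RingHom.id_apply, tmul_smul', one_mul,
          ← smul_one_tmul (inl R S) N (inl R S s) n, map_smul, psi_smul] }

lemma alpha_apply (n : N) : (alpha D).hom n = psi R S S N
    ((D.Φ (inl R S) (inr R S)).hom ((1 : S ⊗[R] S) ⊗ₜ[S, inl R S] n)) := rfl

/-- `S ⊗[S] N → N` -/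
noncomputable def nat : Ex (RingHom.id S) N →+ N :=
  TensorProduct.liftAddHom
    (AddMonoidHom.mk' (fun (t : S) => AddMonoidHom.mk' (fun (n : N) => t • n) (smul_add t))
      (fun (t t' : S) => AddMonoidHom.ext fun (n : N) => add_smul t t' n))
    (fun (s : S) (t : S) (n : N) => by
      show (s * t) • n = t • (s • n)
      rw [mul_comm, mul_smul])

lemma nat_tmul (t : S) (n : N) : nat (N := N) (t ⊗ₜ[S, RingHom.id S] n) = t • n := rfl

lemma counit_tmul (s : S) (x : (restrictScalars (algebraMap R S)).obj N) :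
    ((extendRestrictScalarsAdj (algebraMap R S)).counit.app N).hom
      (s ⊗ₜ[R, algebraMap R S] x) = s • (x : N) := rfl

lemma counit_psi_tmul (t : S ⊗[R] S) (n : N) :
    ((extendRestrictScalarsAdj (algebraMap R S)).counit.app N).hom
        (psi R S S N (t ⊗ₜ[S, inr R S] n)) =
      nat (bcx (inr R S) (mu R S) (RingHom.id S) (mu_inr R S) N (t ⊗ₜ[S, inr R S] n)) := by
  induction t using TensorProduct.induction_on with
  | zero => rw [TensorProduct.zero_tmul, map_zero, map_zero, map_zero, map_zero]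
  | tmul s s' =>
    rw [psi_tmul_tmul, counit_tmul, bcx_tmul, nat_tmul, mu_tmul, mul_smul]
  | add x y hx hy => rw [TensorProduct.add_tmul, map_add, map_add, hx, hy, map_add, map_add]

lemma counit_psi (y : Ex (inr R S) N) :
    ((extendRestrictScalarsAdj (algebraMap R S)).counit.app N).hom (psi R S S N y) =
      nat (bcx (inr R S) (mu R S) (RingHom.id S) (mu_inr R S) N y) := by
  induction y using ex_induction with
  | zero => rw [map_zero, map_zero, map_zero, map_zero]
  | tmul t n => exact counit_psi_tmul t n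
  | add x y hx hy => rw [map_add, map_add, hx, hy, map_add, map_add]

lemma alpha_counit (n : N) :
    ((extendRestrictScalarsAdj (algebraMap R S)).counit.app N).hom ((alpha D).hom n) = n := by
  have h1 := D.pull (mu R S) (inl R S) (inr R S) (RingHom.id S) (RingHom.id S) (mu_inl R S)
    (mu_inr R S) (hE1 R S) n
  rw [D.self] at h1
  rw [alpha_apply, counit_psi, ← h1]
  show nat (N := N) ((1 : S) ⊗ₜ[S, RingHom.id S] n) = n
  rw [nat_tmul, one_smul]

section Coassoc

variable (R S N)

/-- `(S ⊗ S) ⊗[S,inr] N` -/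
noncomputable abbrev P2 : ModuleCat.{u} (S ⊗[R] S) := Ex (inr R S) N

/-- first step: associativity of extension of scalars -/
noncomputable def step1 : Ex (j3 R S) N ⟶ Ex (d23 R S) (P2 R S N) :=
  (extendScalarsComp (inr R S) (d23 R S)).hom.app N

lemma step1_one_tmul (n : N) :
    (step1 R S N).hom ((1 : S ⊗[R] (S ⊗[R] S)) ⊗ₜ[S, j3 R S] n) =
      (1 : S ⊗[R] (S ⊗[R] S)) ⊗ₜ[S ⊗[R] S, d23 R S] ((1 : S ⊗[R] S) ⊗ₜ[S, inr R S] n) :=
  extendScalarsComp_hom_app_one_tmul (inr R S) (d23 R S) N n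

section Tm

variable {A T : Type u} [CommRing A] [CommRing T] (b : A →+* T) (N : ModuleCat.{u} A)

/-- `t ⊗ n` as an element of `Ex b N` -/
noncomputable abbrev tm (t : T) (n : N) : Ex b N := t ⊗ₜ[A,b] n

lemma tm_smul (c t : T) (n : N) : c • tm b N t n = tm b N (c * t) n := rfl

lemma tm_zero (t : T) : tm b N t 0 = 0 := by
  let _ : Module A T := Module.compHom T b
  exact TensorProduct.tmul_zero _ t

lemma tm_add (t : T) (n n' : N) : tm b N t (n + n') = tm b N t n + tm b N t n' :=
  TensorProduct.tmul_add _ _ _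

end Tm

lemma step1_tm (t₃ : S ⊗[R] (S ⊗[R] S)) (n : N) :
    (step1 R S N).hom (tm (j3 R S) N t₃ n) =
      tm (d23 R S) (P2 R S N) t₃ (tm (inr R S) N 1 n) := by
  have e : tm (j3 R S) N t₃ n = t₃ • tm (j3 R S) N 1 n := by rw [tm_smul, mul_one]
  have e1 : (step1 R S N).hom (tm (j3 R S) N 1 n) =
      tm (d23 R S) (P2 R S N) 1 (tm (inr R S) N 1 n) :=
    extendScalarsComp_hom_app_one_tmul (inr R S) (d23 R S) N n
  rw [e, map_smul, e1, tm_smul, mul_one]

/-- `psi` as an `R`-linear map -/
noncomputable def psiR : (restrictScalars (algebraMap R (S ⊗[R] S))).obj (P2 R S N) ⟶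
    (restrictScalars (algebraMap R S)).obj (Tg R S S N) :=
  ModuleCat.ofHom (X := (restrictScalars (algebraMap R (S ⊗[R] S))).obj (P2 R S N))
    (Y := (restrictScalars (algebraMap R S)).obj (Tg R S S N))
    { toFun := fun y => psi R S S N y
      map_add' := fun y y' => map_add (psi R S S N) y y'
      map_smul' := fun r y => psi_smul R S S N (algebraMap R S r) y }

/-- the comparison `(S ⊗ (S ⊗ S)) ⊗[S,j₃] N → S ⊗ (S ⊗ N)` -/
noncomputable def Psi3 (y : Ex (j3 R S) N) :
    Ex (algebraMap R S) ((restrictScalars (algebraMap R S)).obj (Tg R S S N)) :=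
  ((extendScalars (algebraMap R S)).map (psiR R S N)).hom
    (psi R S (S ⊗[R] S) (P2 R S N) ((step1 R S N).hom y))

lemma Psi3_zero : Psi3 R S N 0 = 0 := by
  unfold Psi3
  rw [map_zero, map_zero, map_zero]

lemma Psi3_add (y y' : Ex (j3 R S) N) : Psi3 R S N (y + y') = Psi3 R S N y + Psi3 R S N y' := by
  unfold Psi3
  rw [map_add, map_add, map_add]

lemma Psi3_tm (s : S) (x : S ⊗[R] S) (n : N) :
    Psi3 R S N (tm (j3 R S) N (s ⊗ₜ[R] x) n) =
      tm (algebraMap R S) ((restrictScalars (algebraMap R S)).obj (Tg R S S N)) s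
        (rs (algebraMap R S) (psi R S S N (tm (inr R S) N x n))) := by
  unfold Psi3
  rw [step1_tm]
  have e2 : psi R S (S ⊗[R] S) (P2 R S N)
      (tm (d23 R S) (P2 R S N) (s ⊗ₜ[R] x) (tm (inr R S) N 1 n)) =
      tm (algebraMap R S) ((restrictScalars (algebraMap R (S ⊗[R] S))).obj (P2 R S N)) s
        (rs (algebraMap R (S ⊗[R] S)) (tm (inr R S) N x n)) := by
    have h := psi_tmul_tmul R S (S ⊗[R] S) (P2 R S N) s x (tm (inr R S) N 1 n)
    rw [tm_smul, mul_one] at h
    exact h
  rw [e2]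
  rfl

lemma Psi3_smul_bcx (s : S) (y : P2 R S N) :
    Psi3 R S N (j1 R S s • bcx (inr R S) (d23 R S) (j3 R S) rfl N y) =
      tm (algebraMap R S) ((restrictScalars (algebraMap R S)).obj (Tg R S S N)) s
        (rs (algebraMap R S) (psi R S S N y)) := by
  induction y using ex_induction with
  | zero =>
    simp only [map_zero, smul_zero, Psi3_zero]
    exact (tm_zero _ _ s).symm
  | tmul x n =>
    have e : j1 R S s • bcx (inr R S) (d23 R S) (j3 R S) rfl N (x ⊗ₜ[S, inr R S] n) =
        tm (j3 R S) N (s ⊗ₜ[R] x) n := by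
      show j1 R S s • tm (j3 R S) N (d23 R S x) n = _
      rw [tm_smul, iL_apply, iR_apply, Algebra.TensorProduct.tmul_mul_tmul, mul_one, one_mul]
    rw [e]
    exact Psi3_tm R S N s x n
  | add y y' hy hy' =>
    simp only [map_add, smul_add, Psi3_add, hy, hy']
    exact (tm_add _ _ s _ _).symm

variable {R S N}

/-- first composite -/
noncomputable def Lam (z : Tg R S S N) : Ex (j3 R S) N :=
  (D.Φ (j2 R S) (j3 R S)).hom
    (bcx (inr R S) (d12 R S) (j2 R S) (d12_inr R S) N (kap R S S N z))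

/-- second composite -/
noncomputable def Lam' (z : Tg R S S N) : Ex (j3 R S) N :=
  bcx (inr R S) (d13 R S) (j3 R S) (d13_inr R S) N (kap R S S N z)

lemma Lam_zero : Lam D 0 = 0 := by
  unfold Lam
  rw [map_zero, map_zero, map_zero]

lemma Lam_add (z z' : Tg R S S N) : Lam D (z + z') = Lam D z + Lam D z' := by
  unfold Lam
  rw [map_add, map_add, map_add]

lemma Lam'_zero : Lam' (R := R) (S := S) (N := N) 0 = 0 := by
  unfold Lam'
  rw [map_zero, map_zero]

lemma Lam'_add (z z' : Tg R S S N) : Lam' (z + z') = Lam' z + Lam' z' := by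
  unfold Lam'
  rw [map_add, map_add]

lemma Lam_tmul (s : S) (m : N) :
    Lam D (tm (algebraMap R S) ((restrictScalars (algebraMap R S)).obj N) s
        (rs (algebraMap R S) m)) =
      j1 R S s • bcx (inr R S) (d23 R S) (j3 R S) rfl N
        ((D.Φ (inl R S) (inr R S)).hom (tm (inl R S) N 1 m)) := by
  have hp := D.pull (d23 R S) (inl R S) (inr R S) (j2 R S) (j3 R S) rfl rfl (hE1 R S) m
  have e0 : bcx (inr R S) (d12 R S) (j2 R S) (d12_inr R S) N
      (kap R S S N (tm (algebraMap R S) ((restrictScalars (algebraMap R S)).obj N) s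
        (rs (algebraMap R S) m))) = tm (j2 R S) N (j1 R S s) m := by
    show tm (j2 R S) N (d12 R S (s ⊗ₜ[R] (1 : S))) m = _
    rw [d12_tmul_one]
  have e1 : tm (j2 R S) N (j1 R S s) m = j1 R S s • tm (j2 R S) N 1 m := by
    rw [tm_smul, mul_one]
  unfold Lam
  rw [e0, e1, map_smul]
  exact congrArg (fun w => j1 R S s • w) hp

lemma Lam'_tmul (s : S) (m : N) :
    Lam' (R := R) (S := S) (N := N)
        (tm (algebraMap R S) ((restrictScalars (algebraMap R S)).obj N) s
          (rs (algebraMap R S) m)) = tm (j3 R S) N (j1 R S s) m := by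
  show tm (j3 R S) N (d13 R S (s ⊗ₜ[R] (1 : S))) m = _
  rw [d13_tmul_one]

lemma Psi3_Lam_tmul (s : S) (m : N) :
    Psi3 R S N (Lam D (tm (algebraMap R S) ((restrictScalars (algebraMap R S)).obj N) s
        (rs (algebraMap R S) m))) =
      ((extendScalars (algebraMap R S)).map
        ((restrictScalars (algebraMap R S)).map (alpha D))).hom
        (tm (algebraMap R S) ((restrictScalars (algebraMap R S)).obj N) s
          (rs (algebraMap R S) m)) := by
  rw [Lam_tmul, Psi3_smul_bcx]
  rfl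

lemma Psi3_Lam'_tmul (s : S) (m : N) :
    Psi3 R S N (Lam' (R := R) (S := S) (N := N)
        (tm (algebraMap R S) ((restrictScalars (algebraMap R S)).obj N) s
          (rs (algebraMap R S) m))) =
      ((extendScalars (algebraMap R S)).map
        ((extendRestrictScalarsAdj (algebraMap R S)).unit.app
          ((restrictScalars (algebraMap R S)).obj N))).hom
        (tm (algebraMap R S) ((restrictScalars (algebraMap R S)).obj N) s
          (rs (algebraMap R S) m)) := by
  rw [Lam'_tmul, iL_apply, Psi3_tm, psi_one_tmul]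
  rfl

lemma Psi3_Lam (z : Tg R S S N) :
    Psi3 R S N (Lam D z) =
      ((extendScalars (algebraMap R S)).map
        ((restrictScalars (algebraMap R S)).map (alpha D))).hom z := by
  induction z using ex_induction with
  | zero => rw [Lam_zero, Psi3_zero, map_zero]
  | tmul s m => exact Psi3_Lam_tmul D s m
  | add x y hx hy => rw [Lam_add, Psi3_add, hx, hy, map_add]

lemma Psi3_Lam' (z : Tg R S S N) :
    Psi3 R S N (Lam' z) =
      ((extendScalars (algebraMap R S)).map
        ((extendRestrictScalarsAdj (algebraMap R S)).unit.app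
          ((restrictScalars (algebraMap R S)).obj N))).hom z := by
  induction z using ex_induction with
  | zero => rw [Lam'_zero, Psi3_zero, map_zero]
  | tmul s m => exact Psi3_Lam'_tmul s m
  | add x y hx hy => rw [Lam'_add, Psi3_add, hx, hy, map_add]

lemma Lam_alpha (n : N) : Lam D ((alpha D).hom n) = Lam' ((alpha D).hom n) := by
  have h12 := D.pull (d12 R S) (inl R S) (inr R S) (j1 R S) (j2 R S) (d12_inl R S)
    (d12_inr R S) (hE1 R S) n
  have h13 := D.pull (d13 R S) (inl R S) (inr R S) (j1 R S) (j3 R S) (d13_inl R S)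
    (d13_inr R S) (hE1 R S) n
  have hc := D.comp (j1 R S) (j2 R S) (j3 R S) (hJ12 R S) (hJ23 R S)
  unfold Lam Lam'
  rw [alpha_apply, kap_psi, ← h12, ← h13, ← hc]
  rfl

lemma alpha_coassoc (n : N) :
    ((extendScalars (algebraMap R S)).map
        ((extendRestrictScalarsAdj (algebraMap R S)).unit.app
          ((restrictScalars (algebraMap R S)).obj N))).hom ((alpha D).hom n) =
      ((extendScalars (algebraMap R S)).map
        ((restrictScalars (algebraMap R S)).map (alpha D))).hom ((alpha D).hom n) := by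
  rw [← Psi3_Lam', ← Psi3_Lam D, Lam_alpha]

end Coassoc

/-- the coalgebra attached to descent data -/
noncomputable def coalg : (extendRestrictScalarsAdj (algebraMap R S)).toComonad.Coalgebra where
  A := N
  a := alpha D
  counit := by
    refine ModuleCat.hom_ext (LinearMap.ext fun n => ?_)
    exact alpha_counit D n
  coassoc := by
    refine ModuleCat.hom_ext (LinearMap.ext fun n => ?_)
    exact alpha_coassoc D n

variable (R S) in
theorem comparison_isEquivalence (hf : (algebraMap R S).FaithfullyFlat) :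
    (Comonad.comparison (extendRestrictScalarsAdj.{u, u, u} (algebraMap R S))).IsEquivalence := by
  have := ModuleCat.preservesFiniteLimits_extendScalars_of_flat hf.flat
  have := ModuleCat.reflectsIsomorphisms_extendScalars_of_faithfullyFlat hf
  have h1 : Comonad.HasEqualizerOfIsCosplitPair (extendScalars.{u, u, u} (algebraMap R S)) :=
    ⟨inferInstance⟩
  have h2 : Comonad.PreservesLimitOfIsCosplitPair (extendScalars.{u, u, u} (algebraMap R S)) :=
    ⟨inferInstance⟩
  exact (Comonad.comonadicOfHasPreservesFSplitEqualizersOfReflectsIsomorphisms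
    (extendRestrictScalarsAdj.{u, u, u} (algebraMap R S))).eqv

/-- **Core statement**: effectivity of `T`-point descent data along a faithfully flat map. -/
theorem core (hf : (algebraMap R S).FaithfullyFlat) :
    ∃ (M : ModuleCat.{u} R) (e : Ex (algebraMap R S) M ≅ N), ∀ m : M,
      (D.Φ (inl R S) (inr R S)).hom ((1 : S ⊗[R] S) ⊗ₜ[S, inl R S]
          (e.hom.hom ((1 : S) ⊗ₜ[R, algebraMap R S] m))) =
        (1 : S ⊗[R] S) ⊗ₜ[S, inr R S] (e.hom.hom ((1 : S) ⊗ₜ[R, algebraMap R S] m)) := by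
  haveI := comparison_isEquivalence R S hf
  let adj := extendRestrictScalarsAdj.{u, u, u} (algebraMap R S)
  let X := coalg D
  let M := (Comonad.comparison adj).objPreimage X
  let i : (Comonad.comparison adj).obj M ≅ X := (Comonad.comparison adj).objObjPreimageIso X
  refine ⟨M, (Comonad.forget adj.toComonad).mapIso i, fun m => ?_⟩
  have h := i.hom.h
  have h' : psi R S S N ((D.Φ (inl R S) (inr R S)).hom ((1 : S ⊗[R] S) ⊗ₜ[S, inl R S]
      (i.hom.f.hom ((1 : S) ⊗ₜ[R, algebraMap R S] m)))) =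
      (1 : S) ⊗ₜ[R, algebraMap R S] rs (algebraMap R S)
        (i.hom.f.hom ((1 : S) ⊗ₜ[R, algebraMap R S] m)) :=
    (congrArg (fun φ => φ.hom ((1 : S) ⊗ₜ[R, algebraMap R S] m)) h).symm
  show (D.Φ (inl R S) (inr R S)).hom ((1 : S ⊗[R] S) ⊗ₜ[S, inl R S]
      (i.hom.f.hom ((1 : S) ⊗ₜ[R, algebraMap R S] m))) =
    (1 : S ⊗[R] S) ⊗ₜ[S, inr R S] (i.hom.f.hom ((1 : S) ⊗ₜ[R, algebraMap R S] m))
  rw [← kap_psi R S S N ((D.Φ (inl R S) (inr R S)).hom ((1 : S ⊗[R] S) ⊗ₜ[S, inl R S]
      (i.hom.f.hom ((1 : S) ⊗ₜ[R, algebraMap R S] m)))), h', kap_one_tmul]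

end Groth.Agent.Helper17.FFD
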