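import Groth.Agent.Lib.Helper17.FFD2
import Groth.Agent.Lib.Helper17.DSC1
import Groth.Prelude.Def_Desc

/-!
# Faithfully flat descent of modules in Mathlib's `DescentData` for `Desc.ringModPF`
-/

set_option autoImplicit false
set_option backward.isDefEq.respectTransparency false

open CategoryTheory CategoryTheory.Limits Opposite ModuleCat TensorProduct
open scoped ChangeOfRings

universe u

namespace Groth.Agent.Helper17.FFD

open Pseudofunctor LocallyDiscreteOpToCat
open Groth.Agent.Helper17.DSC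

/-- the pseudofunctor of modules on affine schemes -/
noncomputable abbrev F := Desc.ringModPF.{u}

/-- view a morphism between fibres of `F` as a morphism of modules -/
abbrev asHom {A : CommRingCat.{u}} {X Y : ModuleCat.{u} A} (φ : X ⟶ Y) : X ⟶ Y := φ

section Layer2

lemma mapComp'_eq {A B B' : CommRingCat.{u}} (a : A ⟶ B) (g : B ⟶ B') (ag : A ⟶ B')
    (h : a ≫ g = ag) (N : ModuleCat.{u} A) :
    asHom (A := B') (X := (ModuleCat.extendScalars ag.hom).obj N)
      (Y := (ModuleCat.extendScalars g.hom).obj ((ModuleCat.extendScalars a.hom).obj N))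
      ((F.mapComp' a.op.op.toLoc g.op.op.toLoc ag.op.op.toLoc
        (by subst h; rfl)).hom.toNatTrans.app N) =
    eqToHom (by subst h; rfl) ≫ (ModuleCat.extendScalarsComp a.hom g.hom).hom.app N := by
  subst h
  show asHom (A := B') (X := (ModuleCat.extendScalars (a ≫ g).hom).obj N)
      (Y := (ModuleCat.extendScalars g.hom).obj ((ModuleCat.extendScalars a.hom).obj N))
      ((F.mapComp' a.op.op.toLoc g.op.op.toLoc (a.op.op.toLoc ≫ g.op.op.toLoc)
        rfl).hom.toNatTrans.app N) = _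
  rw [Pseudofunctor.mapComp'_eq_mapComp]
  unfold F Desc.ringModPF
  rw [Pseudofunctor.comp_mapComp]
  simp
  exact Category.id_comp _

lemma eqToHom_tm {A T : Type u} [CommRing A] [CommRing T] (b b' : A →+* T) (h : b = b')
    (N : ModuleCat.{u} A) (h' : Ex b N = Ex b' N) (t : T) (n : N) :
    (eqToHom h').hom (tm b N t n) = tm b' N t n := by
  subst h
  rfl

lemma mapComp'_hom_tm {A B B' : CommRingCat.{u}} (a : A ⟶ B) (g : B ⟶ B') (ag : A ⟶ B')
    (h : a ≫ g = ag) (N : ModuleCat.{u} A) (n : N) :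
    (asHom (A := B') (X := Ex ag.hom N) (Y := Ex g.hom (Ex a.hom N))
      ((F.mapComp' a.op.op.toLoc g.op.op.toLoc ag.op.op.toLoc
        (by subst h; rfl)).hom.toNatTrans.app N)).hom (tm ag.hom N 1 n) =
      tm g.hom (Ex a.hom N) 1 (tm a.hom N 1 n) := by
  have h0 : ag.hom = g.hom.comp a.hom := by subst h; rfl
  have e := mapComp'_eq a g ag h N
  have e2 : (asHom (A := B') (X := Ex ag.hom N) (Y := Ex g.hom (Ex a.hom N))
      ((F.mapComp' a.op.op.toLoc g.op.op.toLoc ag.op.op.toLoc
        (by subst h; rfl)).hom.toNatTrans.app N)).hom (tm ag.hom N 1 n) =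
      ((ModuleCat.extendScalarsComp a.hom g.hom).hom.app N).hom
        ((eqToHom (by subst h; rfl) : Ex ag.hom N ⟶ Ex (g.hom.comp a.hom) N).hom
          (tm ag.hom N 1 n)) := by
    rw [e]
    rfl
  rw [e2, eqToHom_tm ag.hom (g.hom.comp a.hom) h0 N]
  exact ModuleCat.extendScalarsComp_hom_app_one_tmul a.hom g.hom N n

lemma tm_tmul_smul {A T : Type u} [CommRing A] [CommRing T] (b : A →+* T) (N : ModuleCat.{u} A)
    (t : T) (s : A) (n : N) : tm b N t (s • n) = tm b N (t * b s) n :=
  tmul_smul' b N t s n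

lemma mapComp'_hom_tm' {A B B' : CommRingCat.{u}} (a : A ⟶ B) (g : B ⟶ B') (ag : A ⟶ B')
    (h : a ≫ g = ag) (N : ModuleCat.{u} A) (t : B) (n : N) :
    (asHom (A := B') (X := Ex ag.hom N) (Y := Ex g.hom (Ex a.hom N))
      ((F.mapComp' a.op.op.toLoc g.op.op.toLoc ag.op.op.toLoc
        (by subst h; rfl)).hom.toNatTrans.app N)).hom (tm ag.hom N (g.hom t) n) =
      tm g.hom (Ex a.hom N) 1 (tm a.hom N t n) := by
  have e : tm ag.hom N (g.hom t) n = g.hom t • tm ag.hom N 1 n := by rw [tm_smul, mul_one]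
  have e' : tm a.hom N t n = t • tm a.hom N 1 n := by rw [tm_smul, mul_one]
  rw [e, map_smul, mapComp'_hom_tm a g ag h N n, tm_smul, mul_one, e',
    tm_tmul_smul g.hom (Ex a.hom N) 1 t (tm a.hom N 1 n), one_mul]

lemma mapComp'_inv_tm {A B B' : CommRingCat.{u}} (a : A ⟶ B) (g : B ⟶ B') (ag : A ⟶ B')
    (h : a ≫ g = ag) (N : ModuleCat.{u} A) (y : Ex a.hom N) :
    (asHom (A := B') (X := Ex g.hom (Ex a.hom N)) (Y := Ex ag.hom N)
      ((F.mapComp' a.op.op.toLoc g.op.op.toLoc ag.op.op.toLoc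
        (by subst h; rfl)).inv.toNatTrans.app N)).hom (tm g.hom (Ex a.hom N) 1 y) =
      bcx a.hom g.hom ag.hom (by subst h; rfl) N y := by
  induction y using ex_induction with
  | zero => rw [tm_zero, map_zero, map_zero]
  | tmul t n =>
    have hI := Cat.Hom.hom_inv_id_toNatTrans_app
      (F.mapComp' a.op.op.toLoc g.op.op.toLoc ag.op.op.toLoc (by subst h; rfl)) N
    have h1 := mapComp'_hom_tm' a g ag h N t n
    have h2 := congrArg (fun φ => (asHom (A := B') (X := Ex ag.hom N) (Y := Ex ag.hom N) φ).hom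
      (tm ag.hom N (g.hom t) n)) hI
    show _ = tm ag.hom N (g.hom t) n
    rw [← h1]
    exact h2
  | add y y' hy hy' => rw [tm_add, map_add, map_add, hy, hy']

lemma pullHom_tm {A₁ A₂ T T' : CommRingCat.{u}} (N₁ : ModuleCat.{u} A₁) (N₂ : ModuleCat.{u} A₂)
    (a : A₁ ⟶ T) (b : A₂ ⟶ T) (g : T ⟶ T') (a' : A₁ ⟶ T') (b' : A₂ ⟶ T')
    (ha : a ≫ g = a') (hb : b ≫ g = b') (φ : Ex a.hom N₁ ⟶ Ex b.hom N₂) (n : N₁) :
    (asHom (A := T') (X := Ex a'.hom N₁) (Y := Ex b'.hom N₂)
      (pullHom (F := F) (M₁ := N₁) (M₂ := N₂) (f₁ := a.op) (f₂ := b.op) φ g.op a'.op b'.op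
        (by subst ha; rfl) (by subst hb; rfl))).hom (tm a'.hom N₁ 1 n) =
      bcx b.hom g.hom b'.hom (by subst hb; rfl) N₂ (φ.hom (tm a.hom N₁ 1 n)) := by
  show (asHom (A := T') (X := Ex g.hom (Ex b.hom N₂)) (Y := Ex b'.hom N₂)
      ((F.mapComp' b.op.op.toLoc g.op.op.toLoc b'.op.op.toLoc
        (by subst hb; rfl)).inv.toNatTrans.app N₂)).hom
      (((ModuleCat.extendScalars g.hom).map φ).hom
        ((asHom (A := T') (X := Ex a'.hom N₁) (Y := Ex g.hom (Ex a.hom N₁))
          ((F.mapComp' a.op.op.toLoc g.op.op.toLoc a'.op.op.toLoc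
            (by subst ha; rfl)).hom.toNatTrans.app N₁)).hom (tm a'.hom N₁ 1 n))) = _
  rw [mapComp'_hom_tm a g a' ha N₁ n]
  exact mapComp'_inv_tm b g b' hb N₂ (φ.hom (tm a.hom N₁ 1 n))

end Layer2

section Layer3

variable (R S : Type u) [CommRing R] [CommRing S] [Algebra R S]
  (D : F.DescentData (fun _ : PUnit.{u + 1} => (CommRingCat.ofHom (algebraMap R S)).op))

/-- the module underlying the descent datum -/
noncomputable abbrev ND : ModuleCat.{u} S := D.obj PUnit.unit

/-- the gluing map of `D` on a pair of `T`-points -/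
noncomputable def Phi0 {T : Type u} [CommRing T] (a b : S →+* T)
    (h : a.comp (algebraMap R S) = b.comp (algebraMap R S)) :
    Ex a (ND R S D) ⟶ Ex b (ND R S D) :=
  hom' D (i₁ := PUnit.unit) (i₂ := PUnit.unit) (CommRingCat.ofHom a).op (CommRingCat.ofHom b).op
    (congrArg (fun φ => (CommRingCat.ofHom φ).op) h)

open Classical in
/-- the gluing map of `D` on a pair of `T`-points, total version -/
noncomputable def PhiD {T : Type u} [CommRing T] (a b : S →+* T) :
    Ex a (ND R S D) ⟶ Ex b (ND R S D) :=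
  if h : a.comp (algebraMap R S) = b.comp (algebraMap R S) then Phi0 R S D a b h else 0

lemma PhiD_pos {T : Type u} [CommRing T] (a b : S →+* T)
    (h : a.comp (algebraMap R S) = b.comp (algebraMap R S)) :
    PhiD R S D a b = Phi0 R S D a b h := dif_pos h

lemma Phi0_pull {T T' : Type u} [CommRing T] [CommRing T'] (g : T →+* T') (a b : S →+* T)
    (a' b' : S →+* T') (ha : g.comp a = a') (hb : g.comp b = b')
    (hab : a.comp (algebraMap R S) = b.comp (algebraMap R S))
    (hab' : a'.comp (algebraMap R S) = b'.comp (algebraMap R S)) (n : ND R S D) :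
    (Phi0 R S D a' b' hab').hom (tm a' (ND R S D) 1 n) =
      bcx b g b' hb (ND R S D) ((Phi0 R S D a b hab).hom (tm a (ND R S D) 1 n)) := by
  have ha' : CommRingCat.ofHom a ≫ CommRingCat.ofHom g = CommRingCat.ofHom a' :=
    congrArg CommRingCat.ofHom ha
  have hb' : CommRingCat.ofHom b ≫ CommRingCat.ofHom g = CommRingCat.ofHom b' :=
    congrArg CommRingCat.ofHom hb
  have hp := hom'_pull D (i₁ := PUnit.unit) (i₂ := PUnit.unit)
    (CommRingCat.ofHom a).op (CommRingCat.ofHom b).op
    (congrArg (fun φ => (CommRingCat.ofHom φ).op) hab) (CommRingCat.ofHom g).op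
    (CommRingCat.ofHom a').op (CommRingCat.ofHom b').op
    (congrArg Quiver.Hom.op ha') (congrArg Quiver.Hom.op hb')
  have key := pullHom_tm (ND R S D) (ND R S D) (CommRingCat.ofHom a) (CommRingCat.ofHom b)
    (CommRingCat.ofHom g) (CommRingCat.ofHom a') (CommRingCat.ofHom b') ha' hb'
    (Phi0 R S D a b hab) n
  refine Eq.trans ?_ key
  exact congrArg (fun φ => (asHom (A := CommRingCat.of T') (X := Ex a' (ND R S D))
    (Y := Ex b' (ND R S D)) φ).hom (tm a' (ND R S D) 1 n)) hp.symm

/-- `T`-point descent data attached to `D` -/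
noncomputable def tpt : TPt R S (ND R S D) where
  Φ a b := PhiD R S D a b
  self a := by
    rw [PhiD_pos R S D a a rfl]
    exact hom'_self D _ _
  comp a b c hab hbc := by
    rw [PhiD_pos R S D a b hab, PhiD_pos R S D b c hbc, PhiD_pos R S D a c (hab.trans hbc)]
    exact hom'_comp D _ _ _ _ _
  pull g a b a' b' ha hb hab n := by
    have hab' : a'.comp (algebraMap R S) = b'.comp (algebraMap R S) := by
      rw [← ha, ← hb, RingHom.comp_assoc, RingHom.comp_assoc, hab]
    rw [PhiD_pos R S D a b hab, PhiD_pos R S D a' b' hab']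
    exact Phi0_pull R S D g a b a' b' ha hb hab hab' n

end Layer3

end Groth.Agent.Helper17.FFD
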