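import Groth.Agent.Lib.Helper17.FFD3

/-!
# Faithfully flat descent of modules: effectivity in `DescentData` for `Desc.ringModPF`
-/

set_option autoImplicit false
set_option backward.isDefEq.respectTransparency false

open CategoryTheory CategoryTheory.Limits Opposite ModuleCat TensorProduct
open scoped ChangeOfRings

universe t t' v' v u' u

namespace Groth.Agent.Helper17.FFD

open Pseudofunctor LocallyDiscreteOpToCat
open Groth.Agent.Helper17.DSC

section Abs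

variable {C : Type u} [Category.{v} C] {G : Pseudofunctor (LocallyDiscrete Cᵒᵖ) Cat.{v', u'}}

lemma toDescentData_hom'_eq {ι : Type t} {S : C} {X : ι → C} (f : ∀ i, X i ⟶ S)
    (M : G.obj (.mk (op S))) ⦃Y : C⦄ ⦃i₁ i₂ : ι⦄ (f₁ : Y ⟶ X i₁) (f₂ : Y ⟶ X i₂)
    (h : f₁ ≫ f i₁ = f₂ ≫ f i₂) :
    hom' ((G.toDescentData f).obj M) f₁ f₂ h =
      (G.mapComp' (f i₁).op.toLoc f₁.op.toLoc (f₁ ≫ f i₁).op.toLoc rfl).inv.toNatTrans.app M ≫
      (G.mapComp' (f i₂).op.toLoc f₂.op.toLoc (f₁ ≫ f i₁).op.toLoc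
        (by rw [h]; rfl)).hom.toNatTrans.app M :=
  rfl

end Abs

section Gen

/-- `1 ⊗ n`, with the unit taken from the ambient `CommRing` structure -/
noncomputable abbrev tm1 {A T : Type u} [CommRing A] [CommRing T] (b : A →+* T) (N : ModuleCat.{u} A)
    (n : N) : Ex b N := tm b N 1 n

lemma asHom_comp_apply {A : CommRingCat.{u}} {X Y Z : ModuleCat.{u} A} (P : X ⟶ Y) (Q : Y ⟶ Z)
    (x : X) : (asHom (P ≫ Q)).hom x = (asHom Q).hom ((asHom P).hom x) := rfl

lemma canq_tm' {A B B' : CommRingCat.{u}} (a : A ⟶ B) (g₁ g₂ : B ⟶ B') (ag : A ⟶ B')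
    (h₁ : a ≫ g₁ = ag) (h₂ : a ≫ g₂ = ag) (M : ModuleCat.{u} A) (m : M) :
    (asHom (A := B') (X := Ex ag.hom M) (Y := Ex g₂.hom (Ex a.hom M))
        ((F.mapComp' a.op.op.toLoc g₂.op.op.toLoc ag.op.op.toLoc
          (by subst h₂; rfl)).hom.toNatTrans.app M)).hom
        ((asHom (A := B') (X := Ex g₁.hom (Ex a.hom M)) (Y := Ex ag.hom M)
          ((F.mapComp' a.op.op.toLoc g₁.op.op.toLoc ag.op.op.toLoc
            (by subst h₁; rfl)).inv.toNatTrans.app M)).hom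
          (tm g₁.hom (Ex a.hom M) 1 (tm a.hom M 1 m))) =
      tm g₂.hom (Ex a.hom M) 1 (tm a.hom M 1 m) := by
  have e1 := mapComp'_inv_tm a g₁ ag h₁ M (tm a.hom M 1 m)
  have e3 : bcx a.hom g₁.hom ag.hom (by subst h₁; rfl) M (tm a.hom M 1 m) = tm ag.hom M 1 m := by
    show tm ag.hom M (g₁.hom 1) m = _
    rw [map_one]
  have e2 := mapComp'_hom_tm a g₂ ag h₂ M m
  exact (congrArg (fun w => (asHom (A := B') (X := Ex ag.hom M) (Y := Ex g₂.hom (Ex a.hom M))
        ((F.mapComp' a.op.op.toLoc g₂.op.op.toLoc ag.op.op.toLoc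
          (by subst h₂; rfl)).hom.toNatTrans.app M)).hom w) (e1.trans e3)).trans e2

set_option maxHeartbeats 400000 in
lemma hom'_tm {A B B' : CommRingCat.{u}} (a : A ⟶ B) (g₁ g₂ : B ⟶ B')
    (h : g₁.op ≫ a.op = g₂.op ≫ a.op) (M : ModuleCat.{u} A) (m : M) :
    (asHom (A := B') (X := Ex g₁.hom (Ex a.hom M)) (Y := Ex g₂.hom (Ex a.hom M))
        (hom' ((F.toDescentData (fun _ : PUnit.{u + 1} => a.op)).obj M)
          (i₁ := PUnit.unit) (i₂ := PUnit.unit) g₁.op g₂.op h)).hom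
      (tm g₁.hom (Ex a.hom M) 1 (tm a.hom M 1 m)) =
    tm g₂.hom (Ex a.hom M) 1 (tm a.hom M 1 m) := by
  have hq : a ≫ g₂ = a ≫ g₁ := congrArg Quiver.Hom.unop h.symm
  have key := toDescentData_hom'_eq (G := F) (fun _ : PUnit.{u + 1} => a.op) M
    (i₁ := PUnit.unit) (i₂ := PUnit.unit) g₁.op g₂.op h
  refine (congrArg (fun φ => (asHom (A := B') (X := Ex g₁.hom (Ex a.hom M))
    (Y := Ex g₂.hom (Ex a.hom M)) φ).hom (tm g₁.hom (Ex a.hom M) 1 (tm a.hom M 1 m))) key).trans ?_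
  refine (asHom_comp_apply (A := B') (X := Ex g₁.hom (Ex a.hom M)) (Y := Ex (a ≫ g₁).hom M)
    (Z := Ex g₂.hom (Ex a.hom M))
    ((F.mapComp' a.op.op.toLoc g₁.op.op.toLoc (g₁.op ≫ a.op).op.toLoc rfl).inv.toNatTrans.app M)
    ((F.mapComp' a.op.op.toLoc g₂.op.op.toLoc (g₁.op ≫ a.op).op.toLoc
        (by rw [h]; rfl)).hom.toNatTrans.app M)
    (tm g₁.hom (Ex a.hom M) 1 (tm a.hom M 1 m))).trans ?_
  exact canq_tm' a g₁ g₂ (a ≫ g₁) rfl hq M m

end Gen

section Main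

variable (R S : Type u) [CommRing R] [CommRing S] [Algebra R S]

/-- `R → S` -/
noncomputable abbrev a0 : CommRingCat.of R ⟶ CommRingCat.of S :=
  CommRingCat.ofHom (algebraMap R S)
/-- `S → S ⊗ S`, left -/
noncomputable abbrev il : CommRingCat.of S ⟶ CommRingCat.of (S ⊗[R] S) :=
  CommRingCat.ofHom (inl R S)
/-- `S → S ⊗ S`, right -/
noncomputable abbrev ir : CommRingCat.of S ⟶ CommRingCat.of (S ⊗[R] S) :=
  CommRingCat.ofHom (inr R S)

/-- view a morphism between fibres of `F` as a morphism of modules (type version) -/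
abbrev asHomT {T : Type u} [CommRing T] {X Y : ModuleCat.{u} T} (φ : X ⟶ Y) : X ⟶ Y := φ

lemma ext_of_tm2 {A B T : Type u} [CommRing A] [CommRing B] [CommRing T] (a : A →+* B)
    (b : B →+* T) {X : ModuleCat.{u} A} {Z : ModuleCat.{u} T} (α β : Ex b (Ex a X) ⟶ Z)
    (h : ∀ x : X, α.hom (tm1 b (Ex a X) (tm1 a X x)) = β.hom (tm1 b (Ex a X) (tm1 a X x))) :
    α = β := by
  apply ((extendRestrictScalarsAdj b).homEquiv _ _).injective
  apply ExtendScalars.hom_ext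
  intro m
  exact h m

lemma comp_hom_apply {T : Type u} [CommRing T] {X Y Z : ModuleCat.{u} T} (φ : X ⟶ Y) (ψ : Y ⟶ Z)
    (x : X) : (φ ≫ ψ).hom x = ψ.hom (φ.hom x) := rfl

lemma map_tm1 {A T : Type u} [CommRing A] [CommRing T] (b : A →+* T) {X Y : ModuleCat.{u} A}
    (f : X ⟶ Y) (x : X) :
    ((ModuleCat.extendScalars b).map f).hom (tm1 b X x) = tm1 b Y (f.hom x) := rfl

lemma hU : (il R S).op ≫ (a0 R S).op = (ir R S).op ≫ (a0 R S).op :=
  congrArg (fun φ => (CommRingCat.ofHom φ).op) (hE1 R S)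

lemma can_tm (M : ModuleCat.{u} R) (m : M) :
    (asHomT (T := S ⊗[R] S) (X := Ex (inl R S) (Ex (algebraMap R S) M))
        (Y := Ex (inr R S) (Ex (algebraMap R S) M))
        (hom' ((F.toDescentData (fun _ : PUnit.{u + 1} => (a0 R S).op)).obj M)
          (i₁ := PUnit.unit) (i₂ := PUnit.unit) (il R S).op (ir R S).op (hU R S))).hom
      (tm1 (inl R S) (Ex (algebraMap R S) M) (tm1 (algebraMap R S) M m)) =
    tm1 (inr R S) (Ex (algebraMap R S) M) (tm1 (algebraMap R S) M m) := by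
  have key := hom'_tm (a0 R S) (il R S) (ir R S) (hU R S) M m
  refine Eq.trans ?_ (Eq.trans key ?_)
  · refine congr ?_ ?_
    · refine congrArg _ ?_
      refine congrArg _ ?_
      rfl
    · rfl
  · rfl

variable (D : F.DescentData (fun _ : PUnit.{u + 1} => (CommRingCat.ofHom (algebraMap R S)).op))

lemma univ_comm (M : ModuleCat.{u} R) (e : Ex (algebraMap R S) M ≅ ND R S D)
    (he : ∀ m : M, (PhiD R S D (inl R S) (inr R S)).hom ((1 : S ⊗[R] S) ⊗ₜ[S, inl R S]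
        (e.hom.hom ((1 : S) ⊗ₜ[R, algebraMap R S] m))) =
      (1 : S ⊗[R] S) ⊗ₜ[S, inr R S] (e.hom.hom ((1 : S) ⊗ₜ[R, algebraMap R S] m))) :
    (ModuleCat.extendScalars (inl R S)).map e.hom ≫ Phi0 R S D (inl R S) (inr R S) (hE1 R S) =
      asHomT (T := S ⊗[R] S) (X := Ex (inl R S) (Ex (algebraMap R S) M))
        (Y := Ex (inr R S) (Ex (algebraMap R S) M))
        (hom' ((F.toDescentData (fun _ : PUnit.{u + 1} => (a0 R S).op)).obj M)
          (i₁ := PUnit.unit) (i₂ := PUnit.unit) (il R S).op (ir R S).op (hU R S)) ≫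
      (ModuleCat.extendScalars (inr R S)).map e.hom := by
  apply ext_of_tm2 (algebraMap R S) (inl R S)
  intro m
  have e1 := can_tm R S M m
  have e2 : (Phi0 R S D (inl R S) (inr R S) (hE1 R S)).hom
      (tm1 (inl R S) (ND R S D) (e.hom.hom (tm1 (algebraMap R S) M m))) =
      tm1 (inr R S) (ND R S D) (e.hom.hom (tm1 (algebraMap R S) M m)) := by
    have e2' := he m
    rw [PhiD_pos R S D _ _ (hE1 R S)] at e2'
    exact e2'
  refine (comp_hom_apply ((ModuleCat.extendScalars (inl R S)).map e.hom)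
    (Phi0 R S D (inl R S) (inr R S) (hE1 R S)) _).trans ?_
  refine (congrArg (fun z => (Phi0 R S D (inl R S) (inr R S) (hE1 R S)).hom z)
    (map_tm1 (inl R S) e.hom (tm1 (algebraMap R S) M m))).trans ?_
  refine e2.trans ?_
  symm
  refine (comp_hom_apply (asHomT (T := S ⊗[R] S) (X := Ex (inl R S) (Ex (algebraMap R S) M))
        (Y := Ex (inr R S) (Ex (algebraMap R S) M))
        (hom' ((F.toDescentData (fun _ : PUnit.{u + 1} => (a0 R S).op)).obj M)
          (i₁ := PUnit.unit) (i₂ := PUnit.unit) (il R S).op (ir R S).op (hU R S)))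
    ((ModuleCat.extendScalars (inr R S)).map e.hom) _).trans ?_
  refine (congrArg (fun z => ((ModuleCat.extendScalars (inr R S)).map e.hom).hom z) e1).trans ?_
  exact map_tm1 (inr R S) e.hom (tm1 (algebraMap R S) M m)

theorem main1161 [Module.FaithfullyFlat R S] :
    ∃ M : ModuleCat.{u} R, Nonempty ((Desc.ringModPF.{u}.toDescentData
      (fun _ : PUnit.{u + 1} => (CommRingCat.ofHom (algebraMap R S)).op)).obj M ≅ D) := by
  have hf : (algebraMap R S).FaithfullyFlat :=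
    (RingHom.faithfullyFlat_algebraMap_iff).2 inferInstance
  obtain ⟨M, e, he⟩ := core (tpt R S D) hf
  have U := univ_comm R S D M e he
  refine ⟨M, ⟨DescentData.isoMk (fun _ => e) ?_⟩⟩
  intro Y q i₁ i₂ f₁ f₂ hf₁ hf₂
  -- the lift to the universal pair
  have w : a0 R S ≫ f₁.unop = a0 R S ≫ f₂.unop :=
    congrArg Quiver.Hom.unop (hf₁.trans hf₂.symm)
  let g' : CommRingCat.of (S ⊗[R] S) ⟶ Y.unop :=
    (CommRingCat.isPushout_tensorProduct R S S).desc f₁.unop f₂.unop w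
  have hg₁ : g'.op ≫ (il R S).op = f₁ :=
    congrArg Quiver.Hom.op ((CommRingCat.isPushout_tensorProduct R S S).inl_desc f₁.unop f₂.unop w)
  have hg₂ : g'.op ≫ (ir R S).op = f₂ :=
    congrArg Quiver.Hom.op ((CommRingCat.isPushout_tensorProduct R S S).inr_desc f₁.unop f₂.unop w)
  have hD := hom_eq_hom' D q (i₁ := i₁) (i₂ := i₂) f₁ f₂ hf₁ hf₂
  have hM := hom_eq_hom' ((Desc.ringModPF.{u}.toDescentData
      (fun _ : PUnit.{u + 1} => (CommRingCat.ofHom (algebraMap R S)).op)).obj M) q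
    (i₁ := i₁) (i₂ := i₂) f₁ f₂ hf₁ hf₂
  have h1 := hom'_pull D (i₁ := i₁) (i₂ := i₂) (il R S).op (ir R S).op (hU R S) g'.op f₁ f₂ hg₁ hg₂
  have h2 := hom'_pull ((Desc.ringModPF.{u}.toDescentData
      (fun _ : PUnit.{u + 1} => (CommRingCat.ofHom (algebraMap R S)).op)).obj M)
    (i₁ := i₁) (i₂ := i₂) (il R S).op (ir R S).op (hU R S) g'.op f₁ f₂ hg₁ hg₂
  have h3 := pullHom_map (F := F) e.hom (il R S).op g'.op f₁ hg₁
  have h4 := pullHom_map (F := F) e.hom (ir R S).op g'.op f₂ hg₂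
  refine (congrArg (fun z => (F.map f₁.op.toLoc).toFunctor.map e.hom ≫ z) hD).trans ?_
  refine Eq.trans ?_ (congrArg (fun z => z ≫ (F.map f₂.op.toLoc).toFunctor.map e.hom) hM).symm
  refine (congrArg₂ (fun a b => a ≫ b) h3 h1).symm.trans ?_
  refine Eq.trans ?_ (congrArg₂ (fun a b => a ≫ b) h2 h4)
  refine (pullHom_comp _ _ g'.op f₁ f₁ f₂ hg₁ hg₁ hg₂).symm.trans ?_
  refine Eq.trans ?_ (pullHom_comp _ _ g'.op f₁ f₂ f₂ hg₁ hg₂ hg₂)
  exact congrArg (fun φ => pullHom φ g'.op f₁ f₂ hg₁ hg₂) U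

end Main

end Groth.Agent.Helper17.FFD
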