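import Mathlib
import Groth.Prelude.Def_FibCat2

/-!
Helper17: sections of a category fibred in groupoids `p : F ⥤ D` over a diagram `φ : C ⥤ D`.
Part 1: basic lemmas on categories fibred in groupoids, the fibre groupoid `FibObj p Y`,
chosen pullbacks along `a : Y ⟶ φ.obj X` of a diagram `T : C ⥤ F` over `φ`, the functor
`TY : StructuredArrow Y φ ⥤ FibObj p Y` and the cone obtained when `TY` is isomorphic to a
constant functor.
-/

namespace Groth.Agent.Helper17.FG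

open CategoryTheory Functor

universe v₁ v₂ v₃ u₁ u₂ u₃

variable {C : Type u₁} [Category.{v₁} C] {D : Type u₂} [Category.{v₂} D]
  {F : Type u₃} [Category.{v₃} F]

section basic

variable (p : F ⥤ D) [FibCat.IsFibGrpd p]

theorem sc {R S : D} {a b : F} (f : R ⟶ S) (ψ : a ⟶ b) [p.IsHomLift f ψ] :
    p.IsStronglyCartesian f ψ := by
  subst_hom_lift p f ψ
  exact FibCat.IsFibGrpd.isStronglyCartesian ψ

theorem lift_ext {R' R S : D} {a' a b : F} (g : R' ⟶ R) (f : R ⟶ S) (χ : a ⟶ b)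
    [p.IsHomLift f χ] (ψ ψ' : a' ⟶ a) [p.IsHomLift g ψ] [p.IsHomLift g ψ']
    (h : ψ ≫ χ = ψ' ≫ χ) : ψ = ψ' := by
  haveI := sc p f χ
  exact IsStronglyCartesian.ext p f χ g h

theorem isIso_of_lift_id {Y : D} {a b : F} (ψ : a ⟶ b) [p.IsHomLift (𝟙 Y) ψ] : IsIso ψ := by
  haveI := sc p (𝟙 Y) ψ
  exact IsStronglyCartesian.isIso_of_base_isIso p (𝟙 Y) ψ

/-- the lift given by strong cartesianness -/
noncomputable def liftMap {R' R S : D} {a' a b : F} (g : R' ⟶ R) (f : R ⟶ S) (f' : R' ⟶ S)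
    (hf' : f' = g ≫ f) (χ : a ⟶ b) [p.IsHomLift f χ] (φ' : a' ⟶ b) [p.IsHomLift f' φ'] :
    a' ⟶ a :=
  haveI := sc p f χ
  IsStronglyCartesian.map p f χ hf' φ'

instance liftMap_lift {R' R S : D} {a' a b : F} (g : R' ⟶ R) (f : R ⟶ S) (f' : R' ⟶ S)
    (hf' : f' = g ≫ f) (χ : a ⟶ b) [p.IsHomLift f χ] (φ' : a' ⟶ b) [p.IsHomLift f' φ'] :
    p.IsHomLift g (liftMap p g f f' hf' χ φ') := by
  haveI := sc p f χ
  exact IsStronglyCartesian.map_isHomLift p f χ hf' φ'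

theorem liftMap_fac {R' R S : D} {a' a b : F} (g : R' ⟶ R) (f : R ⟶ S) (f' : R' ⟶ S)
    (hf' : f' = g ≫ f) (χ : a ⟶ b) [p.IsHomLift f χ] (φ' : a' ⟶ b) [p.IsHomLift f' φ'] :
    liftMap p g f f' hf' χ φ' ≫ χ = φ' := by
  haveI := sc p f χ
  exact IsStronglyCartesian.fac p f χ hf' φ'

end basic

/-- objects of the fibre of `p` over `Y` -/
structure FibObj (p : F ⥤ D) (Y : D) : Type u₃ where
  obj : F
  eq : p.obj obj = Y

instance fibCat (p : F ⥤ D) (Y : D) : Category.{v₃} (FibObj p Y) where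
  Hom a b := {e : a.obj ≅ b.obj // p.IsHomLift (𝟙 Y) e.hom}
  id a := ⟨Iso.refl _, IsHomLift.id a.eq⟩
  comp {a b c} e e' := ⟨e.1 ≪≫ e'.1, by
    haveI := e.2
    haveI := e'.2
    show p.IsHomLift (𝟙 Y) (e.1.hom ≫ e'.1.hom)
    infer_instance⟩
  id_comp := by intros; exact Subtype.ext (Iso.ext (Category.id_comp _))
  comp_id := by intros; exact Subtype.ext (Iso.ext (Category.comp_id _))
  assoc := by intros; exact Subtype.ext (Iso.ext (Category.assoc _ _ _))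

instance fibGrpd (p : F ⥤ D) (Y : D) : Groupoid.{v₃} (FibObj p Y) where
  inv {a b} e := ⟨e.1.symm, by
    haveI := e.2
    show p.IsHomLift (𝟙 Y) e.1.inv
    infer_instance⟩
  inv_comp := by intros; exact Subtype.ext (Iso.ext (Iso.inv_hom_id _))
  comp_inv := by intros; exact Subtype.ext (Iso.ext (Iso.hom_inv_id _))

section pb

variable {φ : C ⥤ D} (p : F ⥤ D) [FibCat.IsFibGrpd p] {T : C ⥤ F}

theorem isHomLift_of_w {p : F ⥤ D} {T : C ⥤ F} (hT : T ⋙ p = φ) {X X' : C} (u : X ⟶ X') :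
    p.IsHomLift (φ.map u) (T.map u) := by
  subst hT
  exact IsHomLift.map p (T.map u)

theorem exists_pb (hT : T ⋙ p = φ) {Y : D} {X : C} (a : Y ⟶ φ.obj X) :
    ∃ (y : F) (l : y ⟶ T.obj X), p.IsHomLift a l := by
  subst hT
  exact FibCat.IsFibGrpd.exists_lift (p := p) (x := T.obj X) a

/-- chosen pullback object -/
noncomputable def pb (hT : T ⋙ p = φ) {Y : D} {X : C} (a : Y ⟶ φ.obj X) : F := (exists_pb p hT a).choose

/-- chosen pullback morphism -/
noncomputable def pbHom (hT : T ⋙ p = φ) {Y : D} {X : C} (a : Y ⟶ φ.obj X) : pb p hT a ⟶ T.obj X :=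
  (exists_pb p hT a).choose_spec.choose

instance pbHom_lift (hT : T ⋙ p = φ) {Y : D} {X : C} (a : Y ⟶ φ.obj X) : p.IsHomLift a (pbHom p hT a) :=
  (exists_pb p hT a).choose_spec.choose_spec

theorem comp_lift {p : F ⥤ D} {T : C ⥤ F} (hT : T ⋙ p = φ) {Y : D} {X X' : C}
    (a : Y ⟶ φ.obj X) (u : X ⟶ X') (a' : Y ⟶ φ.obj X')
    (h : a ≫ φ.map u = a') {y : F} (l : y ⟶ T.obj X) [p.IsHomLift a l] :
    p.IsHomLift a' (l ≫ T.map u) := by
  subst h
  haveI := isHomLift_of_w hT u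
  infer_instance

/-- transition between chosen pullbacks -/
noncomputable def tr (hT : T ⋙ p = φ) {Y : D} {X X' : C} (a : Y ⟶ φ.obj X) (u : X ⟶ X') (a' : Y ⟶ φ.obj X')
    (h : a ≫ φ.map u = a') : pb p hT a ⟶ pb p hT a' :=
  haveI := comp_lift hT a u a' h (pbHom p hT a)
  liftMap p (𝟙 Y) a' a' (Category.id_comp a').symm (pbHom p hT a') (pbHom p hT a ≫ T.map u)

instance tr_lift (hT : T ⋙ p = φ) {Y : D} {X X' : C} (a : Y ⟶ φ.obj X) (u : X ⟶ X') (a' : Y ⟶ φ.obj X')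
    (h : a ≫ φ.map u = a') : p.IsHomLift (𝟙 Y) (tr p hT a u a' h) := by
  haveI := comp_lift hT a u a' h (pbHom p hT a)
  exact liftMap_lift p (𝟙 Y) a' a' (Category.id_comp a').symm (pbHom p hT a')
    (pbHom p hT a ≫ T.map u)

theorem tr_fac (hT : T ⋙ p = φ) {Y : D} {X X' : C} (a : Y ⟶ φ.obj X) (u : X ⟶ X') (a' : Y ⟶ φ.obj X')
    (h : a ≫ φ.map u = a') : tr p hT a u a' h ≫ pbHom p hT a' = pbHom p hT a ≫ T.map u := by
  haveI := comp_lift hT a u a' h (pbHom p hT a)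
  exact liftMap_fac p (𝟙 Y) a' a' (Category.id_comp a').symm (pbHom p hT a')
    (pbHom p hT a ≫ T.map u)

theorem tr_id (hT : T ⋙ p = φ) {Y : D} {X : C} (a : Y ⟶ φ.obj X) (u : X ⟶ X) (hu : u = 𝟙 X)
    (h : a ≫ φ.map u = a) : tr p hT a u a h = 𝟙 _ := by
  subst hu
  haveI : p.IsHomLift (𝟙 Y) (𝟙 (pb p hT a)) :=
    IsHomLift.id (IsHomLift.domain_eq p a (pbHom p hT a))
  refine lift_ext p (𝟙 Y) a (pbHom p hT a) _ _ ?_
  rw [tr_fac, T.map_id, Category.comp_id, Category.id_comp]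

theorem tr_comp (hT : T ⋙ p = φ) {Y : D} {X X' X'' : C} (a : Y ⟶ φ.obj X) (u : X ⟶ X') (a' : Y ⟶ φ.obj X')
    (h : a ≫ φ.map u = a') (u' : X' ⟶ X'') (a'' : Y ⟶ φ.obj X'') (h' : a' ≫ φ.map u' = a'')
    (u'' : X ⟶ X'') (hu : u'' = u ≫ u') (h'' : a ≫ φ.map u'' = a'') :
    tr p hT a u'' a'' h'' = tr p hT a u a' h ≫ tr p hT a' u' a'' h' := by
  subst hu
  refine lift_ext p (𝟙 Y) a'' (pbHom p hT a'') _ _ ?_
  rw [tr_fac, Category.assoc, tr_fac, ← Category.assoc, tr_fac, Category.assoc, T.map_comp]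

/-- the hom of a structured arrow with the expected type -/
def hom' {Y : D} (j : StructuredArrow Y φ) : Y ⟶ φ.obj j.right := j.hom

theorem w' {Y : D} {j j' : StructuredArrow Y φ} (u : j ⟶ j') :
    hom' j ≫ φ.map u.right = hom' j' := StructuredArrow.w u

/-- the functor of chosen pullbacks to the fibre groupoid -/
noncomputable def TY (hT : T ⋙ p = φ) (Y : D) : StructuredArrow Y φ ⥤ FibObj p Y where
  obj j := ⟨pb p hT (hom' j), IsHomLift.domain_eq p (hom' j) (pbHom p hT (hom' j))⟩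
  map {j j'} u := ⟨@asIso _ _ _ _ (tr p hT (hom' j) u.right (hom' j') (w' u))
      (isIso_of_lift_id p (Y := Y) _), by
        show p.IsHomLift (𝟙 Y) (tr p hT (hom' j) u.right (hom' j') (w' u))
        infer_instance⟩
  map_id j := by
    apply Subtype.ext
    apply Iso.ext
    exact tr_id p hT (hom' j) (𝟙 j : j ⟶ j).right rfl (w' (𝟙 j))
  map_comp {j j' j''} u u' := by
    apply Subtype.ext
    apply Iso.ext
    exact tr_comp p hT (hom' j) u.right (hom' j') (w' u) u'.right (hom' j'') (w' u')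
      (u ≫ u').right rfl (w' (u ≫ u'))

/-- the components of an isomorphism from a constant functor to `TY` -/
noncomputable def coneMap (hT : T ⋙ p = φ) {Y : D} (g : FibObj p Y)
    (θ : TY p hT Y ≅ (Functor.const _).obj g) {X : C} (a : Y ⟶ φ.obj X) :
    g.obj ⟶ pb p hT a :=
  (θ.inv.app (StructuredArrow.mk a)).1.hom

instance coneMap_lift (hT : T ⋙ p = φ) {Y : D} (g : FibObj p Y)
    (θ : TY p hT Y ≅ (Functor.const _).obj g) {X : C} (a : Y ⟶ φ.obj X) :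
    p.IsHomLift (𝟙 Y) (coneMap p hT g θ a) :=
  (θ.inv.app (StructuredArrow.mk a)).2

theorem coneMap_nat (hT : T ⋙ p = φ) {Y : D} (g : FibObj p Y)
    (θ : TY p hT Y ≅ (Functor.const _).obj g) {X X' : C} (u : X ⟶ X') (a : Y ⟶ φ.obj X)
    (a' : Y ⟶ φ.obj X') (h : a ≫ φ.map u = a') :
    coneMap p hT g θ a' = coneMap p hT g θ a ≫ tr p hT a u a' h := by
  have hn := θ.inv.naturality
    (StructuredArrow.homMk u h : StructuredArrow.mk a ⟶ StructuredArrow.mk a')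
  have hn2 : θ.inv.app (StructuredArrow.mk a') =
      θ.inv.app (StructuredArrow.mk a) ≫ (TY p hT Y).map
        (StructuredArrow.homMk u h : StructuredArrow.mk a ⟶ StructuredArrow.mk a') :=
    (Category.id_comp _).symm.trans hn
  exact congrArg (fun e => e.1.hom) hn2

theorem exists_cone (hT : T ⋙ p = φ) {Y : D}
    (hconst : ∀ (T' : StructuredArrow Y φ ⥤ FibObj p Y),
      ∃ g, Nonempty (T' ≅ (Functor.const _).obj g)) :
    ∃ (s : F) (_ : p.obj s = Y) (μ : ∀ (X : C) (_ : Y ⟶ φ.obj X), s ⟶ T.obj X),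
      (∀ X a, p.IsHomLift a (μ X a)) ∧
      ∀ (X X' : C) (u : X ⟶ X') (a : Y ⟶ φ.obj X) (a' : Y ⟶ φ.obj X'),
        a ≫ φ.map u = a' → μ X a ≫ T.map u = μ X' a' := by
  obtain ⟨g, ⟨θ⟩⟩ := hconst (TY p hT Y)
  refine ⟨g.obj, g.eq, fun X a => coneMap p hT g θ a ≫ pbHom p hT a, ?_, ?_⟩
  · intro X a
    show p.IsHomLift a (coneMap p hT g θ a ≫ pbHom p hT a)
    infer_instance
  · intro X X' u a a' h
    show (coneMap p hT g θ a ≫ pbHom p hT a) ≫ T.map u = coneMap p hT g θ a' ≫ pbHom p hT a'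
    rw [coneMap_nat p hT g θ u a a' h, Category.assoc, Category.assoc, tr_fac]

end pb

end Groth.Agent.Helper17.FG
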