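import Groth.Agent.Lib.Helper17.FG1
import Groth.Prelude.Def_AlgSt

/-!
Helper17: sections of a category fibred in groupoids `p : F ⥤ D` over a diagram `φ : C ⥤ D`.
Part 2: if every comma category `(Y/φ)` is nonempty, connected (`Conn`) and every functor from
it to the fibre groupoid `FibObj p Y` is isomorphic to a constant functor, then restriction of
sections along `φ` is an equivalence (`restr_isEquivalence`).
-/

namespace Groth.Agent.Helper17.FG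

open CategoryTheory Functor

universe w w' v₁ v₂ v₃ u₁ u₂ u₃

variable {C : Type u₁} [Category.{v₁} C] {D : Type u₂} [Category.{v₂} D]
  {F : Type u₃} [Category.{v₃} F]

/-- zigzag connectedness phrased through invariant predicates -/
def Conn (J : Type w) [Category.{w'} J] : Prop :=
  ∀ (P : J → Prop), (∀ (j j' : J) (_ : j ⟶ j'), P j ↔ P j') → ∀ j j', P j → P j'

theorem conn_ind {φ : C ⥤ D} {Y : D} (hc : Conn (StructuredArrow Y φ))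
    (Q : ∀ (X : C), (Y ⟶ φ.obj X) → Prop)
    (hQ : ∀ (X X' : C) (u : X ⟶ X') (a : Y ⟶ φ.obj X), Q X a ↔ Q X' (a ≫ φ.map u))
    (X₀ : C) (a₀ : Y ⟶ φ.obj X₀) (h₀ : Q X₀ a₀) (X : C) (a : Y ⟶ φ.obj X) : Q X a := by
  refine hc (fun j => Q j.right (hom' j)) ?_ (StructuredArrow.mk a₀) (StructuredArrow.mk a) h₀
  intro j j' u
  have h := hQ j.right j'.right u.right (hom' j)
  rw [w' u] at h
  exact h

/-- compatible cones over all comma categories -/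
structure ConeData (φ : C ⥤ D) (p : F ⥤ D) (T : C ⥤ F) where
  hT : T ⋙ p = φ
  sO : D → F
  sO_eq : ∀ Y, p.obj (sO Y) = Y
  μ : ∀ (Y : D) (X : C) (_ : Y ⟶ φ.obj X), sO Y ⟶ T.obj X
  μ_lift : ∀ (Y : D) (X : C) (a : Y ⟶ φ.obj X), p.IsHomLift a (μ Y X a)
  μ_nat : ∀ (Y : D) (X X' : C) (u : X ⟶ X') (a : Y ⟶ φ.obj X) (a' : Y ⟶ φ.obj X'),
    a ≫ φ.map u = a' → μ Y X a ≫ T.map u = μ Y X' a'
  X₀ : D → C
  a₀ : ∀ Y, Y ⟶ φ.obj (X₀ Y)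
  conn : ∀ Y, Conn (StructuredArrow Y φ)

theorem exists_coneData {φ : C ⥤ D} (p : F ⥤ D) [FibCat.IsFibGrpd p] {T : C ⥤ F}
    (hT : T ⋙ p = φ)
    (hne : ∀ Y : D, Nonempty (StructuredArrow Y φ))
    (hconn : ∀ Y : D, Conn (StructuredArrow Y φ))
    (hconst : ∀ (Y : D) (T' : StructuredArrow Y φ ⥤ FibObj p Y),
      ∃ g, Nonempty (T' ≅ (Functor.const _).obj g)) :
    Nonempty (ConeData φ p T) := by
  have h := fun Y => exists_cone p hT (hconst Y)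
  choose sO sO_eq μ μ_lift μ_nat using h
  exact ⟨{ hT := hT, sO := sO, sO_eq := sO_eq, μ := μ, μ_lift := μ_lift, μ_nat := μ_nat,
           X₀ := fun Y => (Classical.choice (hne Y)).right,
           a₀ := fun Y => hom' (Classical.choice (hne Y)), conn := hconn }⟩

namespace ConeData

variable {φ : C ⥤ D} {p : F ⥤ D} [FibCat.IsFibGrpd p] {T : C ⥤ F} (cd : ConeData φ p T)

instance (Y : D) (X : C) (a : Y ⟶ φ.obj X) : p.IsHomLift a (cd.μ Y X a) := cd.μ_lift Y X a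

/-- the section on morphisms -/
noncomputable def sM {Y' Y : D} (b : Y' ⟶ Y) : cd.sO Y' ⟶ cd.sO Y :=
  liftMap p b (cd.a₀ Y) (b ≫ cd.a₀ Y) rfl (cd.μ Y (cd.X₀ Y) (cd.a₀ Y))
    (cd.μ Y' (cd.X₀ Y) (b ≫ cd.a₀ Y))

instance sM_lift {Y' Y : D} (b : Y' ⟶ Y) : p.IsHomLift b (cd.sM b) :=
  liftMap_lift p b (cd.a₀ Y) (b ≫ cd.a₀ Y) rfl (cd.μ Y (cd.X₀ Y) (cd.a₀ Y))
    (cd.μ Y' (cd.X₀ Y) (b ≫ cd.a₀ Y))

theorem sM_fac₀ {Y' Y : D} (b : Y' ⟶ Y) :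
    cd.sM b ≫ cd.μ Y (cd.X₀ Y) (cd.a₀ Y) = cd.μ Y' (cd.X₀ Y) (b ≫ cd.a₀ Y) :=
  liftMap_fac p b (cd.a₀ Y) (b ≫ cd.a₀ Y) rfl (cd.μ Y (cd.X₀ Y) (cd.a₀ Y))
    (cd.μ Y' (cd.X₀ Y) (b ≫ cd.a₀ Y))

theorem sM_fac {Y' Y : D} (b : Y' ⟶ Y) (X : C) (a : Y ⟶ φ.obj X) :
    cd.sM b ≫ cd.μ Y X a = cd.μ Y' X (b ≫ a) := by
  refine conn_ind (cd.conn Y) (fun X a => cd.sM b ≫ cd.μ Y X a = cd.μ Y' X (b ≫ a)) ?_
    (cd.X₀ Y) (cd.a₀ Y) (cd.sM_fac₀ b) X a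
  intro X X' u a
  constructor
  · intro h
    calc cd.sM b ≫ cd.μ Y X' (a ≫ φ.map u)
        = cd.sM b ≫ (cd.μ Y X a ≫ T.map u) := by rw [cd.μ_nat Y X X' u a _ rfl]
      _ = (cd.sM b ≫ cd.μ Y X a) ≫ T.map u := (Category.assoc _ _ _).symm
      _ = cd.μ Y' X (b ≫ a) ≫ T.map u := by rw [h]
      _ = cd.μ Y' X' (b ≫ a ≫ φ.map u) :=
        cd.μ_nat Y' X X' u (b ≫ a) _ (Category.assoc _ _ _)
  · intro h
    haveI := isHomLift_of_w cd.hT u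
    refine lift_ext p (b ≫ a) (φ.map u) (T.map u) _ _ ?_
    calc (cd.sM b ≫ cd.μ Y X a) ≫ T.map u
        = cd.sM b ≫ (cd.μ Y X a ≫ T.map u) := Category.assoc _ _ _
      _ = cd.sM b ≫ cd.μ Y X' (a ≫ φ.map u) := by rw [cd.μ_nat Y X X' u a _ rfl]
      _ = cd.μ Y' X' (b ≫ a ≫ φ.map u) := h
      _ = cd.μ Y' X (b ≫ a) ≫ T.map u :=
        (cd.μ_nat Y' X X' u (b ≫ a) _ (Category.assoc _ _ _)).symm

/-- the section -/
noncomputable def sec : D ⥤ F where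
  obj := cd.sO
  map b := cd.sM b
  map_id Y := by
    haveI : p.IsHomLift (𝟙 Y) (𝟙 (cd.sO Y)) := IsHomLift.id (cd.sO_eq Y)
    refine lift_ext p (𝟙 Y) (cd.a₀ Y) (cd.μ Y (cd.X₀ Y) (cd.a₀ Y)) _ _ ?_
    rw [cd.sM_fac (𝟙 Y)]
    simp only [Category.id_comp]
  map_comp {Y'' Y' Y} b' b := by
    refine lift_ext p (b' ≫ b) (cd.a₀ Y) (cd.μ Y (cd.X₀ Y) (cd.a₀ Y)) _ _ ?_
    calc cd.sM (b' ≫ b) ≫ cd.μ Y (cd.X₀ Y) (cd.a₀ Y)
        = cd.μ Y'' (cd.X₀ Y) ((b' ≫ b) ≫ cd.a₀ Y) := cd.sM_fac _ _ _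
      _ = cd.μ Y'' (cd.X₀ Y) (b' ≫ b ≫ cd.a₀ Y) := by rw [Category.assoc]
      _ = cd.sM b' ≫ cd.μ Y' (cd.X₀ Y) (b ≫ cd.a₀ Y) := (cd.sM_fac b' _ _).symm
      _ = cd.sM b' ≫ (cd.sM b ≫ cd.μ Y (cd.X₀ Y) (cd.a₀ Y)) := by rw [cd.sM_fac b]
      _ = (cd.sM b' ≫ cd.sM b) ≫ cd.μ Y (cd.X₀ Y) (cd.a₀ Y) := (Category.assoc _ _ _).symm

theorem sec_w : cd.sec ⋙ p = 𝟭 D := by
  refine CategoryTheory.Functor.ext (fun Y => cd.sO_eq Y) (fun Y' Y b => ?_)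
  exact IsHomLift.fac' p b (cd.sM b)

/-- the restriction of the section is isomorphic to the given diagram -/
noncomputable def secIso : φ ⋙ cd.sec ≅ T :=
  NatIso.ofComponents
    (fun X => @asIso _ _ _ _ (cd.μ (φ.obj X) X (𝟙 _))
      (haveI := cd.μ_lift (φ.obj X) X (𝟙 _)
       isIso_of_lift_id p (Y := φ.obj X) (cd.μ (φ.obj X) X (𝟙 _))))
    (by
      intro X X' u
      show cd.sM (φ.map u) ≫ cd.μ (φ.obj X') X' (𝟙 _) = cd.μ (φ.obj X) X (𝟙 _) ≫ T.map u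
      rw [cd.sM_fac (φ.map u) X' (𝟙 _),
        cd.μ_nat (φ.obj X) X X' u (𝟙 _) (φ.map u ≫ 𝟙 _) (by simp)])

theorem secIso_lift (X : C) : p.IsHomLift (𝟙 (φ.obj X)) (cd.secIso.hom.app X) :=
  cd.μ_lift _ _ _

end ConeData

section ff

variable {φ : C ⥤ D} (p : F ⥤ D) [FibCat.IsFibGrpd p] {s s' : D ⥤ F}

theorem faithful_core (hne : ∀ Y : D, Nonempty (StructuredArrow Y φ))
    (hs' : s' ⋙ p = 𝟭 D) (α β : s ⟶ s')
    (hα : ∀ Y, p.IsHomLift (𝟙 Y) (α.app Y)) (hβ : ∀ Y, p.IsHomLift (𝟙 Y) (β.app Y))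
    (h : ∀ X, α.app (φ.obj X) = β.app (φ.obj X)) : α = β := by
  ext Y
  obtain ⟨j⟩ := hne Y
  haveI := hα Y
  haveI := hβ Y
  haveI : p.IsHomLift (hom' j) (s'.map (hom' j)) := isHomLift_of_w hs' (hom' j)
  refine lift_ext p (𝟙 Y) (hom' j) (s'.map (hom' j)) _ _ ?_
  rw [← α.naturality, ← β.naturality, h]

theorem lift_sγ (hs : s ⋙ p = 𝟭 D) (γ : φ ⋙ s ⟶ φ ⋙ s')
    (hγ : ∀ X, p.IsHomLift (𝟙 (φ.obj X)) (γ.app X)) {Y : D} {X : C} (a : Y ⟶ φ.obj X) :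
    p.IsHomLift a (s.map a ≫ γ.app X) := by
  haveI : p.IsHomLift a (s.map a) := isHomLift_of_w hs a
  haveI := hγ X
  infer_instance

/-- candidate component of the extended natural transformation -/
noncomputable def αc (hs : s ⋙ p = 𝟭 D) (hs' : s' ⋙ p = 𝟭 D) (γ : φ ⋙ s ⟶ φ ⋙ s')
    (hγ : ∀ X, p.IsHomLift (𝟙 (φ.obj X)) (γ.app X)) {Y : D} {X : C} (a : Y ⟶ φ.obj X) :
    s.obj Y ⟶ s'.obj Y :=
  haveI : p.IsHomLift a (s'.map a) := isHomLift_of_w hs' a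
  haveI := lift_sγ p hs γ hγ a
  liftMap p (𝟙 Y) a a (Category.id_comp a).symm (s'.map a) (s.map a ≫ γ.app X)

instance αc_lift (hs : s ⋙ p = 𝟭 D) (hs' : s' ⋙ p = 𝟭 D) (γ : φ ⋙ s ⟶ φ ⋙ s')
    (hγ : ∀ X, p.IsHomLift (𝟙 (φ.obj X)) (γ.app X)) {Y : D} {X : C} (a : Y ⟶ φ.obj X) :
    p.IsHomLift (𝟙 Y) (αc p hs hs' γ hγ a) := by
  haveI : p.IsHomLift a (s'.map a) := isHomLift_of_w hs' a
  haveI := lift_sγ p hs γ hγ a
  exact liftMap_lift p (𝟙 Y) a a (Category.id_comp a).symm (s'.map a) (s.map a ≫ γ.app X)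

theorem αc_fac (hs : s ⋙ p = 𝟭 D) (hs' : s' ⋙ p = 𝟭 D) (γ : φ ⋙ s ⟶ φ ⋙ s')
    (hγ : ∀ X, p.IsHomLift (𝟙 (φ.obj X)) (γ.app X)) {Y : D} {X : C} (a : Y ⟶ φ.obj X) :
    αc p hs hs' γ hγ a ≫ s'.map a = s.map a ≫ γ.app X := by
  haveI : p.IsHomLift a (s'.map a) := isHomLift_of_w hs' a
  haveI := lift_sγ p hs γ hγ a
  exact liftMap_fac p (𝟙 Y) a a (Category.id_comp a).symm (s'.map a) (s.map a ≫ γ.app X)

theorem αc_fac' (hs : s ⋙ p = 𝟭 D) (hs' : s' ⋙ p = 𝟭 D) (γ : φ ⋙ s ⟶ φ ⋙ s')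
    (hγ : ∀ X, p.IsHomLift (𝟙 (φ.obj X)) (γ.app X)) {Y : D}
    (hc : Conn (StructuredArrow Y φ)) {X₀ : C} (a₀ : Y ⟶ φ.obj X₀) (X : C) (a : Y ⟶ φ.obj X) :
    αc p hs hs' γ hγ a₀ ≫ s'.map a = s.map a ≫ γ.app X := by
  refine conn_ind hc (fun X a => αc p hs hs' γ hγ a₀ ≫ s'.map a = s.map a ≫ γ.app X) ?_
    X₀ a₀ (αc_fac p hs hs' γ hγ a₀) X a
  intro X X' u a
  have hnat : s.map (φ.map u) ≫ γ.app X' = γ.app X ≫ s'.map (φ.map u) := γ.naturality u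
  constructor
  · intro h
    calc αc p hs hs' γ hγ a₀ ≫ s'.map (a ≫ φ.map u)
        = (αc p hs hs' γ hγ a₀ ≫ s'.map a) ≫ s'.map (φ.map u) := by
          rw [s'.map_comp, Category.assoc]
      _ = (s.map a ≫ γ.app X) ≫ s'.map (φ.map u) := by rw [h]
      _ = s.map a ≫ (γ.app X ≫ s'.map (φ.map u)) := Category.assoc _ _ _
      _ = s.map a ≫ (s.map (φ.map u) ≫ γ.app X') := by rw [hnat]
      _ = s.map (a ≫ φ.map u) ≫ γ.app X' := by rw [s.map_comp, Category.assoc]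
  · intro h
    haveI : p.IsHomLift (φ.map u) (s'.map (φ.map u)) := isHomLift_of_w hs' (φ.map u)
    haveI : p.IsHomLift a (s'.map a) := isHomLift_of_w hs' a
    haveI := lift_sγ p hs γ hγ a
    refine lift_ext p a (φ.map u) (s'.map (φ.map u)) _ _ ?_
    calc (αc p hs hs' γ hγ a₀ ≫ s'.map a) ≫ s'.map (φ.map u)
        = αc p hs hs' γ hγ a₀ ≫ s'.map (a ≫ φ.map u) := by rw [s'.map_comp, Category.assoc]
      _ = s.map (a ≫ φ.map u) ≫ γ.app X' := h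
      _ = s.map a ≫ (s.map (φ.map u) ≫ γ.app X') := by rw [s.map_comp, Category.assoc]
      _ = s.map a ≫ (γ.app X ≫ s'.map (φ.map u)) := by rw [hnat]
      _ = (s.map a ≫ γ.app X) ≫ s'.map (φ.map u) := (Category.assoc _ _ _).symm

theorem full_core (hne : ∀ Y : D, Nonempty (StructuredArrow Y φ))
    (hconn : ∀ Y : D, Conn (StructuredArrow Y φ))
    (hs : s ⋙ p = 𝟭 D) (hs' : s' ⋙ p = 𝟭 D)
    (γ : φ ⋙ s ⟶ φ ⋙ s') (hγ : ∀ X, p.IsHomLift (𝟙 (φ.obj X)) (γ.app X)) :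
    ∃ α : s ⟶ s', (∀ Y, p.IsHomLift (𝟙 Y) (α.app Y)) ∧ ∀ X, α.app (φ.obj X) = γ.app X := by
  let X₀ : D → C := fun Y => (Classical.choice (hne Y)).right
  let a₀ : ∀ Y, Y ⟶ φ.obj (X₀ Y) := fun Y => hom' (Classical.choice (hne Y))
  refine ⟨{ app := fun Y => αc p hs hs' γ hγ (a₀ Y), naturality := ?_ }, ?_, ?_⟩
  · intro Y' Y b
    haveI : p.IsHomLift b (s.map b) := isHomLift_of_w hs b
    haveI : p.IsHomLift b (s'.map b) := isHomLift_of_w hs' b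
    haveI : p.IsHomLift (a₀ Y) (s'.map (a₀ Y)) := isHomLift_of_w hs' (a₀ Y)
    refine lift_ext p b (a₀ Y) (s'.map (a₀ Y)) _ _ ?_
    calc (s.map b ≫ αc p hs hs' γ hγ (a₀ Y)) ≫ s'.map (a₀ Y)
        = s.map b ≫ (αc p hs hs' γ hγ (a₀ Y) ≫ s'.map (a₀ Y)) := Category.assoc _ _ _
      _ = s.map b ≫ (s.map (a₀ Y) ≫ γ.app (X₀ Y)) := by rw [αc_fac]
      _ = s.map (b ≫ a₀ Y) ≫ γ.app (X₀ Y) := by rw [s.map_comp, Category.assoc]
      _ = αc p hs hs' γ hγ (a₀ Y') ≫ s'.map (b ≫ a₀ Y) :=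
        (αc_fac' p hs hs' γ hγ (hconn Y') (a₀ Y') (X₀ Y) (b ≫ a₀ Y)).symm
      _ = (αc p hs hs' γ hγ (a₀ Y') ≫ s'.map b) ≫ s'.map (a₀ Y) := by
        rw [s'.map_comp, Category.assoc]
  · intro Y
    exact αc_lift p hs hs' γ hγ (a₀ Y)
  · intro X
    have h := αc_fac' p hs hs' γ hγ (hconn (φ.obj X)) (a₀ (φ.obj X)) X (𝟙 _)
    simpa using h

end ff

section final

variable (φ : C ⥤ D) (p : F ⥤ D) [FibCat.IsFibGrpd p]

/-- the restriction functor of the statement -/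
abbrev R := Stk.restr (FibCat.toSelf (BasedCategory.ofFunctor φ)) (BasedCategory.ofFunctor p)

theorem restr_faithful (hne : ∀ Y : D, Nonempty (StructuredArrow Y φ)) : (R φ p).Faithful := by
  constructor
  intro s s' α β hαβ
  apply BasedNatTrans.homCategory.ext
  refine faithful_core p (φ := φ) hne s'.w α.toNatTrans β.toNatTrans
    (fun Y => α.isHomLift' Y) (fun Y => β.isHomLift' Y) ?_
  intro X
  exact congrArg (fun t => t.toNatTrans.app X) hαβ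

theorem restr_full (hne : ∀ Y : D, Nonempty (StructuredArrow Y φ))
    (hconn : ∀ Y : D, Conn (StructuredArrow Y φ)) : (R φ p).Full := by
  constructor
  intro s s' γ
  obtain ⟨α, hα, hαγ⟩ := full_core p (φ := φ) hne hconn s.w s'.w γ.toNatTrans
    (fun X => γ.isHomLift' X)
  refine ⟨{ toNatTrans := α, isHomLift' := hα }, ?_⟩
  apply BasedNatTrans.homCategory.ext
  ext X
  exact hαγ X

theorem restr_essSurj (hne : ∀ Y : D, Nonempty (StructuredArrow Y φ))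
    (hconn : ∀ Y : D, Conn (StructuredArrow Y φ))
    (hconst : ∀ (Y : D) (T' : StructuredArrow Y φ ⥤ FibObj p Y),
      ∃ g, Nonempty (T' ≅ (Functor.const _).obj g)) : (R φ p).EssSurj := by
  constructor
  intro t
  obtain ⟨cd⟩ := exists_coneData p (φ := φ) (T := t.toFunctor) t.w hne hconn hconst
  exact ⟨⟨cd.sec, cd.sec_w⟩, ⟨BasedNatIso.mkNatIso cd.secIso (fun X => cd.secIso_lift X)⟩⟩

theorem restr_isEquivalence (hne : ∀ Y : D, Nonempty (StructuredArrow Y φ))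
    (hconn : ∀ Y : D, Conn (StructuredArrow Y φ))
    (hconst : ∀ (Y : D) (T' : StructuredArrow Y φ ⥤ FibObj p Y),
      ∃ g, Nonempty (T' ≅ (Functor.const _).obj g)) : (R φ p).IsEquivalence := by
  haveI := restr_faithful φ p hne
  haveI := restr_full φ p hne hconn
  haveI := restr_essSurj φ p hne hconn hconst
  exact {}

end final

end Groth.Agent.Helper17.FG
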