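import Groth.Agent.Lib.Helper17.FG2
import Groth.Prelude.Def_W4c2modmodulilectNerve

/-!
Helper17: categories with contractible nerve (tested against groupoids) are connected (`Conn`)
and every functor from them to a groupoid is isomorphic to a constant functor; proof of S15552.
-/

namespace Groth.Agent.Helper17.FG

open CategoryTheory Functor

universe w v u v' u'

instance asSmallGroupoid (G : Type u') [Groupoid.{v'} G] : Groupoid (AsSmall.{w} G) :=
  { (inferInstance : Category (AsSmall.{w} G)) with
    inv := fun f => ⟨Groupoid.inv f.down⟩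
    inv_comp := fun f => by
      apply ULift.ext
      exact Groupoid.inv_comp f.down
    comp_inv := fun f => by
      apply ULift.ext
      exact Groupoid.comp_inv f.down }

theorem conn_of_contractible {J : Type u} [Category.{v} J]
    (h : W4c2modmodulilect.HasContractibleNerve.{w, w} J) : Conn J := by
  intro P hP j j' hj
  obtain ⟨_, hG⟩ := h
  let T : J ⥤ Discrete (ULift.{w} Prop) :=
    { obj := fun j => ⟨⟨P j⟩⟩
      map := fun {a b} u => eqToHom (by rw [propext (hP a b u)])
      map_id := fun _ => Subsingleton.elim _ _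
      map_comp := fun _ _ => Subsingleton.elim _ _ }
  haveI := hG (Discrete (ULift.{w} Prop))
  let e := (Functor.const J : Discrete (ULift.{w} Prop) ⥤ J ⥤ Discrete (ULift.{w} Prop)).objObjPreimageIso T
  have h1 : ∀ j, ((Functor.const J : Discrete (ULift.{w} Prop) ⥤ J ⥤ _).objPreimage T).as =
      (T.obj j).as := fun j => Discrete.eq_of_hom (e.hom.app j)
  have h2 : P j = P j' := congrArg ULift.down ((h1 j).symm.trans (h1 j'))
  rw [← h2]
  exact hj

theorem const_of_contractible {J : Type u} [Category.{v} J]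
    (h : W4c2modmodulilect.HasContractibleNerve.{max w u' v', max w u' v'} J)
    (G : Type u') [Groupoid.{v'} G] (T : J ⥤ G) :
    ∃ g : G, Nonempty (T ≅ (Functor.const J).obj g) := by
  obtain ⟨_, hG⟩ := h
  haveI := hG (AsSmall.{w} G)
  let T' : J ⥤ AsSmall.{w} G := T ⋙ AsSmall.up
  let e := (Functor.const J : AsSmall.{w} G ⥤ J ⥤ AsSmall.{w} G).objObjPreimageIso T'
  let g' : AsSmall.{w} G := (Functor.const J : AsSmall.{w} G ⥤ J ⥤ _).objPreimage T'
  have e' : (Functor.const J).obj g' ≅ T' := e
  have iso : (Functor.const J).obj (AsSmall.down.obj g') ≅ T :=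
    NatIso.ofComponents (fun j => (AsSmall.down.mapIso (e'.app j) :
      AsSmall.down.obj g' ≅ T.obj j)) (by
      intro j j' u
      have hn := e'.hom.naturality u
      have hn' : 𝟙 _ ≫ (e'.hom.app j').down = (e'.hom.app j).down ≫ T.map u :=
        congrArg ULift.down hn
      rw [Category.id_comp] at hn'
      refine Eq.trans (Category.id_comp _) ?_
      exact hn')
  exact ⟨AsSmall.down.obj g', ⟨iso.symm⟩⟩

universe v₁ v₂ v₃ u₁ u₂ u₃

theorem main15552 {C : Type u₁} [Category.{v₁} C] {D : Type u₂} [Category.{v₂} D]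
    {F : Type u₃} [Category.{v₃} F]
    (φ : C ⥤ D) (p : F ⥤ D) [FibCat.IsFibGrpd p]
    (hφ : ∀ Y : D, W4c2modmodulilect.HasContractibleNerve.{max u₁ u₂ u₃ v₁ v₂ v₃,
      max u₁ u₂ u₃ v₁ v₂ v₃} (StructuredArrow Y φ)) :
    (Stk.restr (FibCat.toSelf (BasedCategory.ofFunctor φ))
      (BasedCategory.ofFunctor p)).IsEquivalence :=
  restr_isEquivalence φ p (fun Y => (hφ Y).1) (fun Y => conn_of_contractible (hφ Y))
    (fun Y T' => const_of_contractible.{max u₁ u₂ u₃ v₁ v₂ v₃} (hφ Y) (FibObj p Y) T')

end Groth.Agent.Helper17.FG
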