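import Groth.Agent.Lib.Helper17.FG3

/-!
Helper17: transfer of connectedness / constancy of functors to groupoids along a functor with a
"weak right adjoint" (`WeakRetr`), applied to the inclusion of the fibre `f.Fiber Y` of a fibred
category into the comma category `StructuredArrow Y f`; proof of S15553.
-/

namespace Groth.Agent.Helper17.FG

open CategoryTheory Functor

universe a b c d v' u'

section weak

variable {J : Type a} [Category.{b} J] {K : Type c} [Category.{d} K]

/-- a weak right adjoint retraction for `ι : K ⥤ J` -/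
structure WeakRetr (ι : K ⥤ J) where
  r : J → K
  m : ∀ j, ι.obj (r j) ⟶ j
  lift : ∀ {j j' : J} (u : j ⟶ j'), ∃ ψ : r j ⟶ r j', ι.map ψ ≫ m j' = m j ≫ u

variable {ι : K ⥤ J}

theorem conn_of_weakRetr (wr : WeakRetr ι) (h : Conn K) : Conn J := by
  intro P hP j j' hj
  have h1 : ∀ j, P j ↔ P (ι.obj (wr.r j)) := fun j => (hP _ _ (wr.m j)).symm
  have h2 := h (fun k => P (ι.obj k)) (fun k k' ψ => hP _ _ (ι.map ψ)) (wr.r j) (wr.r j')
    ((h1 j).1 hj)
  exact (h1 j').2 h2

theorem const_of_weakRetr (wr : WeakRetr ι) (G : Type u') [Groupoid.{v'} G]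
    (h : ∀ T : K ⥤ G, ∃ g, Nonempty (T ≅ (Functor.const K).obj g)) (T : J ⥤ G) :
    ∃ g, Nonempty (T ≅ (Functor.const J).obj g) := by
  obtain ⟨g, ⟨e⟩⟩ := h (ι ⋙ T)
  have iso : (Functor.const J).obj g ≅ T :=
    NatIso.ofComponents
      (fun j => (asIso (e.inv.app (wr.r j) ≫ T.map (wr.m j)) : g ≅ T.obj j)) (by
      intro j j' u
      obtain ⟨ψ, hψ⟩ := wr.lift u
      have hn := e.inv.naturality ψ
      have hn' : e.inv.app (wr.r j') = e.inv.app (wr.r j) ≫ T.map (ι.map ψ) :=
        (Category.id_comp _).symm.trans hn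
      show ((Functor.const J).obj g).map u ≫ (e.inv.app (wr.r j') ≫ T.map (wr.m j')) =
        (e.inv.app (wr.r j) ≫ T.map (wr.m j)) ≫ T.map u
      calc ((Functor.const J).obj g).map u ≫ (e.inv.app (wr.r j') ≫ T.map (wr.m j'))
          = e.inv.app (wr.r j') ≫ T.map (wr.m j') := Category.id_comp _
        _ = (e.inv.app (wr.r j) ≫ T.map (ι.map ψ)) ≫ T.map (wr.m j') := by rw [hn']
        _ = e.inv.app (wr.r j) ≫ T.map (ι.map ψ ≫ wr.m j') := by
          rw [Category.assoc, T.map_comp]
        _ = e.inv.app (wr.r j) ≫ T.map (wr.m j ≫ u) := by rw [hψ]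
        _ = (e.inv.app (wr.r j) ≫ T.map (wr.m j)) ≫ T.map u := by
          rw [T.map_comp, Category.assoc])
  exact ⟨g, ⟨iso.symm⟩⟩

end weak

universe v₁ v₂ v₃ u₁ u₂ u₃

section fib

variable {C : Type u₁} [Category.{v₁} C] {D : Type u₂} [Category.{v₂} D]

/-- the inclusion of the fibre into the comma category -/
def incl (f : C ⥤ D) (Y : D) : f.Fiber Y ⥤ StructuredArrow Y f where
  obj x := StructuredArrow.mk (eqToHom x.2.symm)
  map {x x'} ψ := StructuredArrow.homMk ψ.1 (by
    haveI := ψ.2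
    have h := IsHomLift.fac' f (𝟙 Y) ψ.1
    show eqToHom x.2.symm ≫ f.map ψ.1 = eqToHom x'.2.symm
    rw [h]
    simp)
  map_id x := by
    apply StructuredArrow.ext
    rfl
  map_comp ψ ψ' := by
    apply StructuredArrow.ext
    rfl

variable (f : C ⥤ D) [f.IsFibered]

/-- chosen cartesian lift of a structured arrow -/
noncomputable def lam {Y : D} (j : StructuredArrow Y f) :
    IsPreFibered.pullbackObj (p := f) rfl (hom' j) ⟶ j.right :=
  IsPreFibered.pullbackMap (p := f) rfl (hom' j)

instance lam_cart {Y : D} (j : StructuredArrow Y f) : f.IsCartesian (hom' j) (lam f j) :=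
  IsPreFibered.pullbackMap.IsCartesian (p := f) rfl (hom' j)

/-- the weak retraction for the inclusion of the fibre -/
noncomputable def weakRetr (Y : D) : WeakRetr (incl f Y) where
  r j := ⟨IsPreFibered.pullbackObj (p := f) rfl (hom' j),
    IsPreFibered.pullbackObj_proj (p := f) rfl (hom' j)⟩
  m j := StructuredArrow.homMk (lam f j) (by
    have h := IsHomLift.fac f (hom' j) (lam f j)
    have h2 : eqToHom (IsHomLift.domain_eq f (hom' j) (lam f j)).symm ≫ f.map (lam f j) =
        hom' j := by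
      refine (h.trans ?_).symm
      simp
    exact h2)
  lift {j j'} u := by
    haveI : f.IsHomLift (hom' j') (lam f j ≫ u.right) :=
      comp_lift (Functor.id_comp f) (hom' j) u.right (hom' j') (w' u) (lam f j)
    have hfac : IsCartesian.map f (hom' j') (lam f j') (lam f j ≫ u.right) ≫ lam f j' =
        lam f j ≫ u.right := IsCartesian.fac f (hom' j') (lam f j') (lam f j ≫ u.right)
    refine ⟨⟨IsCartesian.map f (hom' j') (lam f j') (lam f j ≫ u.right), inferInstance⟩, ?_⟩
    apply StructuredArrow.ext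
    exact hfac

end fib

theorem main15553 {C : Type u₁} [Category.{v₁} C] {D : Type u₂} [Category.{v₂} D]
    {F : Type u₃} [Category.{v₃} F]
    (f : C ⥤ D) [f.IsFibered] (p : F ⥤ D) [FibCat.IsFibGrpd p]
    (hf : ∀ Y : D, W4c2modmodulilect.HasContractibleNerve.{max u₁ u₂ u₃ v₁ v₂ v₃,
      max u₁ u₂ u₃ v₁ v₂ v₃} (f.Fiber Y)) :
    (Stk.restr (FibCat.toSelf (BasedCategory.ofFunctor f))
      (BasedCategory.ofFunctor p)).IsEquivalence :=
  restr_isEquivalence f p
    (fun Y => (hf Y).1.elim fun x => ⟨(incl f Y).obj x⟩)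
    (fun Y => conn_of_weakRetr (weakRetr f Y) (conn_of_contractible (hf Y)))
    (fun Y T' => const_of_weakRetr (weakRetr f Y) (FibObj p Y)
      (fun T => const_of_contractible.{max u₁ u₂ u₃ v₁ v₂ v₃} (hf Y) (FibObj p Y) T) T')

end Groth.Agent.Helper17.FG
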