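import Mathlib
import Groth.Prelude.Def_CohB1

/-!
# Flat limits over a regular one-dimensional base (helper17)

The scheme-theoretic closure of a closed subscheme of `W ×_Y U` flat over `Y` is flat over `Y`
when `Y` is an integral locally Noetherian scheme of dimension one with regular local rings;
it is the unique flat extension.  `S11321`.
-/

set_option autoImplicit false
universe u
open CategoryTheory CategoryTheory.Limits AlgebraicGeometry Opposite TopologicalSpace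

noncomputable section
namespace Groth.Agent.Helper17.FL1

theorem appLE_congr_hom {A B : Scheme.{u}} {f g : A ⟶ B} (h : f = g) (U : B.Opens) (V : A.Opens)
    (e : V ≤ f ⁻¹ᵁ U) (e' : V ≤ g ⁻¹ᵁ U) : f.appLE U V e = g.appLE U V e' := by
  subst h
  rfl

/-- a regular local domain of dimension at most one is a valuation ring -/
theorem valuationRing_of_regular (R : Type u) [CommRing R] [IsDomain R] [IsRegularLocalRing R]
    (hdim : ringKrullDim R ≤ 1) : ValuationRing R := by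
  by_cases hf : IsField R
  · letI := hf.toField
    exact ValuationRing.of_field R
  · have h1 : ringKrullDim R = 1 := by
      have h0 : ¬ ringKrullDim R ≤ 0 := fun h => by
        have : Ring.KrullDimLE 0 R := Ring.krullDimLE_iff.mpr h
        exact hf Ring.KrullDimLE.isField_of_isDomain
      exact le_antisymm hdim (Order.succ_le_of_lt (lt_of_not_ge h0))
    have h2 : Module.finrank (IsLocalRing.ResidueField R) (IsLocalRing.CotangentSpace R) = 1 := by
      have h3 := (IsRegularLocalRing.iff_finrank_cotangentSpace R).mp inferInstance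
      rw [h1] at h3
      exact_mod_cast h3
    haveI : IsDiscreteValuationRing R := ((IsDiscreteValuationRing.TFAE R hf).out 0 5).mpr h2
    infer_instance

/-- the local rings of the coordinate rings of a regular curve are valuation rings -/
theorem valuationRing_localization {Y : Scheme.{u}} [IsIntegral Y] [IsLocallyNoetherian Y]
    (hreg : ∀ y : Y, IsRegularLocalRing (Y.presheaf.stalk y)) (hY : topologicalKrullDim ↥Y = 1)
    {UY : Y.Opens} (hUY : IsAffineOpen UY) [IsDomain Γ(Y, UY)] (𝔪 : Ideal Γ(Y, UY)) [𝔪.IsPrime] :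
    ValuationRing (Localization.AtPrime 𝔪) := by
  let y : PrimeSpectrum Γ(Y, UY) := ⟨𝔪, inferInstance⟩
  have hpt : hUY.fromSpec y ∈ UY := by
    have : hUY.fromSpec y ∈ Set.range hUY.fromSpec := ⟨y, rfl⟩
    rw [hUY.range_fromSpec] at this
    exact this
  letI alg : Algebra Γ(Y, UY) (Y.presheaf.stalk (hUY.fromSpec y)) :=
    TopCat.Presheaf.algebra_section_stalk Y.presheaf ⟨hUY.fromSpec y, hpt⟩
  haveI loc : IsLocalization.AtPrime (Y.presheaf.stalk (hUY.fromSpec y)) 𝔪 :=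
    hUY.isLocalization_stalk' y hpt
  let e : Localization.AtPrime 𝔪 ≃+* Y.presheaf.stalk (hUY.fromSpec y) :=
    (IsLocalization.algEquiv 𝔪.primeCompl (Localization.AtPrime 𝔪)
      (Y.presheaf.stalk (hUY.fromSpec y))).toRingEquiv
  haveI : IsRegularLocalRing (Y.presheaf.stalk (hUY.fromSpec y)) := hreg _
  haveI : IsRegularLocalRing (Localization.AtPrime 𝔪) := IsRegularLocalRing.of_ringEquiv e.symm
  apply valuationRing_of_regular
  rw [IsLocalization.AtPrime.ringKrullDim_eq_height 𝔪 (Localization.AtPrime 𝔪)]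
  refine (Ideal.height_le_ringKrullDim_of_isPrime).trans ?_
  rw [← PrimeSpectrum.topologicalKrullDim_eq_ringKrullDim Γ(Y, UY)]
  change topologicalKrullDim (Spec Γ(Y, UY)) ≤ 1
  rw [← IsHomeomorph.topologicalKrullDim_eq _ hUY.isoSpec.hom.homeomorph.isHomeomorph, ← hY]
  exact topologicalKrullDim_subspace_le Y UY

/-- sections of a scheme flat over an integral scheme are torsion free -/
theorem section_torsionFree {X Y : Scheme.{u}} [IsIntegral Y] (ψ : X ⟶ Y) [Flat ψ]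
    {UY : Y.Opens} (hUY : IsAffineOpen UY) (G : X.Opens) (e : G ≤ ψ ⁻¹ᵁ UY) (c : Γ(Y, UY))
    (hc : c ≠ 0) (σ : Γ(X, G)) (h : (ψ.appLE UY G e).hom c * σ = 0) : σ = 0 := by
  refine X.IsSheaf.section_ext (U := op G) fun x hx => ?_
  obtain ⟨_, ⟨G', hG', rfl⟩, hxG', hG'G⟩ :=
    X.isBasis_affineOpens.exists_subset_of_mem_open hx G.isOpen
  refine ⟨G', hG'G, hxG', ?_⟩
  rw [map_zero]
  have hfl : (ψ.appLE UY G' (le_trans hG'G e)).hom.Flat :=
    Flat.flat_appLE ψ hUY hG' (le_trans hG'G e)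
  haveI : Nonempty UY := ⟨⟨ψ x, e hx⟩⟩
  haveI : IsDomain Γ(Y, UY) := inferInstance
  letI alg : Algebra Γ(Y, UY) Γ(X, G') := (ψ.appLE UY G' (le_trans hG'G e)).hom.toAlgebra
  haveI : Module.Flat Γ(Y, UY) Γ(X, G') := hfl
  have hreg : IsSMulRegular Γ(X, G') c :=
    Module.Flat.isSMulRegular_of_nonZeroDivisors (mem_nonZeroDivisors_of_ne_zero hc)
  have e1 : (ψ.appLE UY G' (le_trans hG'G e)).hom c =
      (X.presheaf.map (homOfLE hG'G).op).hom ((ψ.appLE UY G e).hom c) := by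
    have e2 := Scheme.Hom.appLE_map ψ e (homOfLE hG'G).op
    exact (congrArg (fun m => m.hom c) e2).symm
  have hmul : c • (X.presheaf.map (homOfLE hG'G).op).hom σ = c • (0 : Γ(X, G')) := by
    rw [smul_zero]
    show (ψ.appLE UY G' (le_trans hG'G e)).hom c * (X.presheaf.map (homOfLE hG'G).op).hom σ = 0
    rw [e1, ← map_mul, h, map_zero]
  exact hreg hmul

theorem toImage_ker {X W : Scheme.{u}} (φ : X ⟶ W) [QuasiCompact φ] : φ.toImage.ker = ⊥ := by
  refine Scheme.IdealSheafData.ext_of_iSup_eq_top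
    (fun O : W.affineOpens =>
      (⟨φ.imageι ⁻¹ᵁ O.1, O.2.preimage φ.imageι⟩ : φ.image.affineOpens)) ?_ ?_
  · rw [eq_top_iff]
    intro x _
    obtain ⟨O, hO, hx, -⟩ :=
      exists_isAffineOpen_mem_and_subset (x := φ.imageι x) (U := ⊤) trivial
    exact Opens.mem_iSup.mpr ⟨⟨O, hO⟩, hx⟩
  · intro O
    simp only [Scheme.Hom.ker_apply, Scheme.IdealSheafData.ideal_bot, Pi.bot_apply]
    exact (RingHom.injective_iff_ker_eq_bot _).mp (φ.toImage_app_injective O)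

/-- the scheme-theoretic image of a closed subscheme of an open restricts to it -/
theorem isPullback_image {X W : Scheme.{u}} (V : W.Opens) [QuasiCompact V.ι] (i : X ⟶ ↑V)
    [IsClosedImmersion i] :
    IsPullback (i ≫ V.ι).toImage i (i ≫ V.ι).imageι V.ι := by
  have w : (i ≫ V.ι).toImage ≫ (i ≫ V.ι).imageι = i ≫ V.ι := (i ≫ V.ι).toImage_imageι
  let c : X ⟶ pullback (i ≫ V.ι).imageι V.ι := pullback.lift (i ≫ V.ι).toImage i w
  have hc1 : c ≫ pullback.fst (i ≫ V.ι).imageι V.ι = (i ≫ V.ι).toImage := pullback.lift_fst _ _ _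
  have hc2 : c ≫ pullback.snd (i ≫ V.ι).imageι V.ι = i := pullback.lift_snd _ _ _
  haveI : IsClosedImmersion (c ≫ pullback.snd (i ≫ V.ι).imageι V.ι) := by
    rw [hc2]
    infer_instance
  haveI : IsClosedImmersion c := IsClosedImmersion.of_comp c (pullback.snd (i ≫ V.ι).imageι V.ι)
  haveI : IsSchemeTheoreticallyDominant (i ≫ V.ι).toImage := ⟨toImage_ker (i ≫ V.ι)⟩
  have sq : IsPullback (𝟙 X) c (i ≫ V.ι).toImage (pullback.fst (i ≫ V.ι).imageι V.ι) := by
    refine ⟨⟨by rw [Category.id_comp, hc1]⟩, ⟨PullbackCone.IsLimit.mk _ (fun s => s.fst)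
      (fun s => Category.comp_id _) (fun s => ?_) (fun s m h1 _ => ?_)⟩⟩
    · rw [← cancel_mono (pullback.fst (i ≫ V.ι).imageι V.ι), Category.assoc, hc1]
      exact s.condition
    · rw [← h1, Category.comp_id]
  haveI : IsSchemeTheoreticallyDominant c := IsSchemeTheoreticallyDominant.of_isPullback sq
  haveI : IsIso c := IsClosedImmersion.isIso_iff_ker_eq_bot.mpr c.ker_eq_bot
  exact IsPullback.of_iso_pullback ⟨w⟩ (asIso c) hc1 hc2

/-- the scheme-theoretic image of a flat family over a regular curve is flat -/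
theorem flat_image {X W Y : Scheme.{u}} [IsIntegral Y] [IsLocallyNoetherian Y]
    (hreg : ∀ y : Y, IsRegularLocalRing (Y.presheaf.stalk y)) (hY : topologicalKrullDim ↥Y = 1)
    (π : W ⟶ Y) (φ : X ⟶ W) [QuasiCompact φ] [Flat (φ ≫ π)] : Flat (φ.imageι ≫ π) := by
  rw [HasRingHomProperty.iff_exists_appLE (P := @Flat)
    (RingHom.Flat.stableUnderComposition.stableUnderCompositionWithLocalizationAway
      RingHom.Flat.holdsForLocalizationAway).left]
  intro x'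
  obtain ⟨UY, hUY, hxUY, -⟩ :=
    exists_isAffineOpen_mem_and_subset (x := (φ.imageι ≫ π) x') (U := ⊤) trivial
  have hxO : φ.imageι x' ∈ π ⁻¹ᵁ UY := hxUY
  obtain ⟨O, hO, hxO', hOU⟩ := exists_isAffineOpen_mem_and_subset hxO
  have eV : φ.imageι ⁻¹ᵁ O ≤ (φ.imageι ≫ π) ⁻¹ᵁ UY := fun z hz => hOU hz
  refine ⟨⟨UY, hUY⟩, ⟨φ.imageι ⁻¹ᵁ O, hO.preimage φ.imageι⟩, hxO', eV, ?_⟩
  letI alg : Algebra Γ(Y, UY) Γ(φ.image, φ.imageι ⁻¹ᵁ O) :=
    ((φ.imageι ≫ π).appLE UY (φ.imageι ⁻¹ᵁ O) eV).hom.toAlgebra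
  show Module.Flat Γ(Y, UY) Γ(φ.image, φ.imageι ⁻¹ᵁ O)
  haveI : Nonempty UY := ⟨⟨_, hxUY⟩⟩
  haveI : IsDomain Γ(Y, UY) := inferInstance
  rw [Module.Flat.flat_iff_torsion_eq_bot_of_valuationRing_localization_isMaximal
    (fun 𝔪 _ => valuationRing_localization hreg hY hUY 𝔪), eq_bot_iff]
  intro s hs
  obtain ⟨⟨c, hc⟩, hcs⟩ := (Submodule.mem_torsion_iff s).mp hs
  have hc0 : c ≠ 0 := nonZeroDivisors.ne_zero hc
  have hcs' : ((φ.imageι ≫ π).appLE UY (φ.imageι ⁻¹ᵁ O) eV).hom c * s = 0 := hcs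
  rw [Submodule.mem_bot]
  apply φ.toImage_app_injective ⟨O, hO⟩
  rw [map_zero]
  have eG : φ.toImage ⁻¹ᵁ (φ.imageι ⁻¹ᵁ O) ≤ (φ ≫ π) ⁻¹ᵁ UY := by
    intro z hz
    have h1 : (φ.toImage ≫ φ.imageι) z ∈ O := hz
    rw [φ.toImage_imageι] at h1
    exact hOU h1
  apply section_torsionFree (φ ≫ π) hUY _ eG c hc0
  have e2 : (φ.imageι ≫ π).appLE UY (φ.imageι ⁻¹ᵁ O) eV ≫ φ.toImage.app (φ.imageι ⁻¹ᵁ O) =
      (φ ≫ π).appLE UY (φ.toImage ⁻¹ᵁ (φ.imageι ⁻¹ᵁ O)) eG := by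
    rw [Scheme.Hom.app_eq_appLE, Scheme.Hom.appLE_comp_appLE]
    exact appLE_congr_hom (by rw [φ.toImage_imageι_assoc]) _ _ _ _
  have e1 : ((φ ≫ π).appLE UY (φ.toImage ⁻¹ᵁ (φ.imageι ⁻¹ᵁ O)) eG).hom c =
      (φ.toImage.app (φ.imageι ⁻¹ᵁ O)).hom
        (((φ.imageι ≫ π).appLE UY (φ.imageι ⁻¹ᵁ O) eV).hom c) :=
    (congrArg (fun m => m.hom c) e2).symm
  rw [e1]
  show (φ.toImage.app (φ.imageι ⁻¹ᵁ O)).hom
      (((φ.imageι ≫ π).appLE UY (φ.imageι ⁻¹ᵁ O) eV).hom c) *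
    (φ.toImage.app (φ.imageι ⁻¹ᵁ O)).hom s = 0
  rw [← map_mul, hcs', map_zero]

/-- the complement of a point of a curve is scheme-theoretically dense -/
theorem isSchemeTheoreticallyDominant_ι {Y : Scheme.{u}} [IsIntegral Y]
    (hY : topologicalKrullDim ↥Y = 1) (P : Y) (U : Y.Opens) (hU : (U : Set ↥Y) = {P}ᶜ) :
    IsSchemeTheoreticallyDominant U.ι := by
  have hne : (U : Set Y).Nonempty := by
    by_contra hempty
    rw [Set.not_nonempty_iff_eq_empty, hU, Set.compl_empty_iff] at hempty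
    haveI : Subsingleton Y := ⟨fun a b => by
      have ha : a ∈ ({P} : Set Y) := hempty ▸ Set.mem_univ a
      have hb : b ∈ ({P} : Set Y) := hempty ▸ Set.mem_univ b
      rw [Set.mem_singleton_iff] at ha hb
      rw [ha, hb]⟩
    have h0 := topologicalKrullDim_zero_of_discreteTopology Y
    rw [hY] at h0
    exact absurd h0 (by norm_num)
  haveI : IsDominant U.ι := ⟨by
    show Dense (Set.range U.ι)
    rw [Scheme.Opens.range_ι]
    exact U.isOpen.dense hne⟩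
  exact IsSchemeTheoreticallyDominant.of_isDominant U.ι

/-- a flat extension has the kernel of the scheme-theoretic closure -/
theorem ker_eq_of_flat {X X'' W Y : Scheme.{u}} [IsIntegral Y] [IsLocallyNoetherian Y]
    (hY : topologicalKrullDim ↥Y = 1) (P : Y) (U : Y.Opens) (hU : (U : Set ↥Y) = {P}ᶜ)
    (π : W ⟶ Y) (i : X ⟶ ↑(π ⁻¹ᵁ U)) (i'' : X'' ⟶ W) (j'' : X ⟶ X'') [Flat (i'' ≫ π)]
    (hpb : IsPullback j'' i i'' (π ⁻¹ᵁ U).ι) : i''.ker = (i ≫ (π ⁻¹ᵁ U).ι).ker := by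
  haveI := isSchemeTheoreticallyDominant_ι hY P U hU
  have big : IsPullback j'' (i ≫ π ∣_ U) (i'' ≫ π) U.ι :=
    hpb.paste_vert (isPullback_morphismRestrict π U).flip
  haveI : IsSchemeTheoreticallyDominant j'' := IsSchemeTheoreticallyDominant.of_isPullback big.flip
  rw [← hpb.w, Scheme.Hom.ker_comp, j''.ker_eq_bot, Scheme.IdealSheafData.map_bot]

/-- flat limits over a regular curve -/
theorem main {Y : Scheme.{u}} [IsIntegral Y] [IsLocallyNoetherian Y]
    (hreg : ∀ y : Y, IsRegularLocalRing (Y.presheaf.stalk y))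
    (hY : topologicalKrullDim ↥Y = 1) (P : Y) (U : Y.Opens) (hU : (U : Set ↥Y) = {P}ᶜ)
    {W : Scheme.{u}} (π : W ⟶ Y) (X : Scheme.{u}) (i : X ⟶ ↑(π ⁻¹ᵁ U)) [IsClosedImmersion i]
    [Flat (i ≫ (π ⁻¹ᵁ U).ι ≫ π)] :
    ∃ (X' : Scheme.{u}) (i' : X' ⟶ W) (j : X ⟶ X'),
      IsClosedImmersion i' ∧ Flat (i' ≫ π) ∧ IsPullback j i i' (π ⁻¹ᵁ U).ι ∧
      ∀ (X'' : Scheme.{u}) (i'' : X'' ⟶ W) (j'' : X ⟶ X''),
        IsClosedImmersion i'' → Flat (i'' ≫ π) → IsPullback j'' i i'' (π ⁻¹ᵁ U).ι →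
        ∃ e : X' ≅ X'', e.hom ≫ i'' = i' := by
  haveI qcU : QuasiCompact U.ι := inferInstance
  haveI : QuasiCompact (π ⁻¹ᵁ U).ι :=
    MorphismProperty.of_isPullback (P := @QuasiCompact) (isPullback_morphismRestrict π U) qcU
  haveI : Flat ((i ≫ (π ⁻¹ᵁ U).ι) ≫ π) := by
    rw [Category.assoc]
    infer_instance
  refine ⟨(i ≫ (π ⁻¹ᵁ U).ι).image, (i ≫ (π ⁻¹ᵁ U).ι).imageι, (i ≫ (π ⁻¹ᵁ U).ι).toImage,
    inferInstance, flat_image hreg hY π (i ≫ (π ⁻¹ᵁ U).ι), isPullback_image _ i, ?_⟩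
  intro X'' i'' j'' h1 h2 h3
  haveI := h1
  haveI := h2
  have hk : i''.ker = (i ≫ (π ⁻¹ᵁ U).ι).ker := ker_eq_of_flat hY P U hU π i i'' j'' h3
  have hk' : i''.ker = (i ≫ (π ⁻¹ᵁ U).ι).imageι.ker := by
    rw [hk]
    exact (Scheme.IdealSheafData.ker_subschemeι _).symm
  haveI : IsIso (IsClosedImmersion.lift i'' (i ≫ (π ⁻¹ᵁ U).ι).imageι hk'.le) :=
    IsClosedImmersion.isIso_lift i'' (i ≫ (π ⁻¹ᵁ U).ι).imageι hk'
  exact ⟨asIso (IsClosedImmersion.lift i'' (i ≫ (π ⁻¹ᵁ U).ι).imageι hk'.le),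
    IsClosedImmersion.lift_fac _ _ _⟩

end Groth.Agent.Helper17.FL1
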