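import Mathlib
import Groth.Prelude.Def_Exal
import Groth.Agent.Lib.Helper17.DFR1

/-!
# First-order deformations of an algebra and extensions of `B` by `B`: ring level (helper17)
-/

set_option autoImplicit false

namespace Groth.Agent.Helper17.FOD1

open IsLocalRing Function TrivSqZeroExt

universe u

variable (k : Type u) [Field k] (B : Type u) [CommRing B] [Algebra k B]

/-- ring-level first-order deformation data of the `k`-algebra `B`. -/
structure FOData where
  R : Type u
  [commRing : CommRing R]
  α : DualNumber k →+* R
  π : R →+* B
  comm : ∀ a : DualNumber k, π (α a) = algebraMap k B (fst a)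
  flat : α.Flat
  surj : Surjective π
  ker : RingHom.ker π = Ideal.span {α DualNumber.eps}

attribute [instance] FOData.commRing

variable {k B}

namespace FOData

variable (d : FOData k B)

/-- the image of `ε`. -/
def e : d.R := d.α DualNumber.eps

theorem e_mul_e : d.e * d.e = 0 := by
  rw [e, ← map_mul, DualNumber.eps_mul_eps, map_zero]

theorem π_e : d.π d.e = 0 := by
  rw [e, d.comm]
  have : fst (DualNumber.eps : DualNumber k) = 0 := rfl
  rw [this, map_zero]

theorem e_mul_of_π_eq_zero {z : d.R} (hz : d.π z = 0) : d.e * z = 0 := by
  have hz' : z ∈ RingHom.ker d.π := hz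
  rw [d.ker] at hz'
  obtain ⟨c, rfl⟩ := Ideal.mem_span_singleton'.1 hz'
  change d.e * (c * d.e) = 0
  rw [mul_comm c, ← mul_assoc, d.e_mul_e, zero_mul]

instance algK : Algebra k d.R := (d.α.comp (algebraMap k (DualNumber k))).toAlgebra

theorem algebraMap_eq (c : k) : algebraMap k d.R c = d.α (algebraMap k (DualNumber k) c) := rfl

/-- the projection as an algebra map. -/
def πa : d.R →ₐ[k] B :=
  { d.π with
    commutes' := fun c => by
      change d.π (d.α (algebraMap k (DualNumber k) c)) = algebraMap k B c
      rw [d.comm]
      rfl }

theorem πa_apply (x : d.R) : d.πa x = d.π x := rfl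

/-- a set-theoretic section of `π`. -/
noncomputable def lift : B → d.R := Function.surjInv d.surj

theorem π_lift (b : B) : d.π (d.lift b) = b := Function.surjInv_eq d.surj b

theorem e_mul_eq_of_π_eq {x y : d.R} (h : d.π x = d.π y) : d.e * x = d.e * y := by
  have := d.e_mul_of_π_eq_zero (z := x - y) (by rw [map_sub, h, sub_self])
  rw [mul_sub, sub_eq_zero] at this
  exact this

/-- the inclusion `B → R`, `b ↦ ε b̃`. -/
noncomputable def incl : B →+ d.R :=
  { toFun := fun b => d.e * d.lift b
    map_zero' := d.e_mul_of_π_eq_zero (by rw [d.π_lift])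
    map_add' := fun a b => by
      rw [← mul_add]
      apply d.e_mul_eq_of_π_eq
      rw [map_add, d.π_lift, d.π_lift, d.π_lift] }

theorem incl_apply (b : B) : d.incl b = d.e * d.lift b := rfl

theorem incl_π (x : d.R) : d.incl (d.π x) = d.e * x := by
  rw [incl_apply]
  apply d.e_mul_eq_of_π_eq
  rw [d.π_lift]

theorem π_eq_zero_of_e_mul_eq_zero {x : d.R} (hx : d.e * x = 0) : d.π x = 0 := by
  letI : Algebra (DualNumber k) d.R := d.α.toAlgebra
  haveI : Module.Flat (DualNumber k) d.R := d.flat
  have heps : (DualNumber.eps : DualNumber k) ∉ (⊥ : Ideal (DualNumber k)) := by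
    rw [Ideal.mem_bot]
    intro h
    have : snd (DualNumber.eps : DualNumber k) = 0 := by rw [h]; rfl
    exact one_ne_zero this
  have h1 : algebraMap (DualNumber k) d.R DualNumber.eps * x ∈
      (⊥ : Ideal (DualNumber k)).map (algebraMap (DualNumber k) d.R) := by
    rw [Ideal.map_bot, Ideal.mem_bot]
    exact hx
  have h2 := Groth.Agent.Helper17.DFR1.mem_map_maximalIdeal_of_mul_mem ⊥ DualNumber.eps heps x h1
  rw [DualNumber.maximalIdeal_eq_span_singleton_eps, Ideal.map_span, Set.image_singleton] at h2
  have h3 : x ∈ RingHom.ker d.π := by
    rw [d.ker]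
    exact h2
  exact h3

/-- the extension of `B` by `B` attached to a first-order deformation. -/
noncomputable def toExt : Exal.Ext k B B :=
  { E := d.R
    proj := d.πa
    incl := d.incl
    isExtension :=
      { proj_surjective := d.surj
        incl_injective := by
          rw [injective_iff_map_eq_zero]
          intro b hb
          rw [incl_apply] at hb
          have := d.π_eq_zero_of_e_mul_eq_zero hb
          rw [d.π_lift] at this
          exact this
        exact := by
          intro x
          constructor
          · intro hx
            have hx' : x ∈ RingHom.ker d.π := hx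
            rw [d.ker] at hx'
            obtain ⟨c, rfl⟩ := Ideal.mem_span_singleton'.1 hx'
            refine ⟨d.π c, ?_⟩
            rw [d.incl_π, mul_comm]
            rfl
          · rintro ⟨b, rfl⟩
            change d.π (d.e * d.lift b) = 0
            rw [map_mul, d.π_e, zero_mul]
        mul_incl := by
          intro x z
          change x * d.incl z = d.incl (d.π x • z)
          rw [smul_eq_mul, incl_apply, incl_apply, mul_left_comm]
          apply d.e_mul_eq_of_π_eq
          rw [map_mul, d.π_lift, d.π_lift] } }

end FOData

end Groth.Agent.Helper17.FOD1
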