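import Mathlib
import Groth.Prelude.Def_Exal
import Groth.Agent.Lib.Helper17.FOD1
import Groth.Agent.Lib.Helper1.LocalCriterion

/-!
# First-order deformations and extensions: isomorphisms, and the inverse construction (helper17)
-/

set_option autoImplicit false

namespace Groth.Agent.Helper17.FOD2

open IsLocalRing Function TrivSqZeroExt Groth.Agent.Helper17.FOD1

universe u

variable {k : Type u} [Field k] {B : Type u} [CommRing B] [Algebra k B]

/-- isomorphisms of first-order deformation data. -/
structure FOIso (d d' : FOData k B) where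
  ρ : d.R ≃+* d'.R
  hα : ∀ a, ρ (d.α a) = d'.α a
  hπ : ∀ x, d'.π (ρ x) = d.π x

theorem equiv_of_iso {d d' : FOData k B} (i : FOIso d d') :
    Nonempty (d.toExt.Equiv d'.toExt) := by
  let ρa : d.R ≃ₐ[k] d'.R :=
    { i.ρ with
      commutes' := fun c => by
        change i.ρ (d.α (algebraMap k (DualNumber k) c)) = d'.α (algebraMap k (DualNumber k) c)
        exact i.hα _ }
  refine ⟨{ toAlgEquiv := ρa, proj_apply := fun x => i.hπ x, apply_incl := fun z => ?_ }⟩
  change i.ρ (d.e * d.lift z) = d'.e * d'.lift z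
  rw [map_mul]
  have : i.ρ d.e = d'.e := i.hα _
  rw [this]
  apply d'.e_mul_eq_of_π_eq
  rw [i.hπ, d.π_lift, d'.π_lift]

theorem incl_one (d : FOData k B) : d.incl 1 = d.e := by
  rw [FOData.incl_apply]
  have := d.e_mul_eq_of_π_eq (x := d.lift 1) (y := 1) (by rw [d.π_lift, map_one])
  rw [this, mul_one]

theorem iso_of_equiv {d d' : FOData k B} (e : d.toExt.Equiv d'.toExt) :
    Nonempty (FOIso d d') := by
  let ρ : d.R ≃ₐ[k] d'.R := e.toAlgEquiv
  have hproj : ∀ x : d.R, d'.π (ρ x) = d.π x := fun x => e.proj_apply x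
  have hincl : ∀ z : B, ρ (d.incl z) = d'.incl z := fun z => e.apply_incl z
  have he : ρ d.e = d'.e := by
    rw [← incl_one, ← incl_one]
    exact hincl 1
  refine ⟨{ ρ := ρ.toRingEquiv, hα := fun a => ?_, hπ := hproj }⟩
  have hcomp : (ρ.toRingEquiv.toRingHom.comp d.α) = d'.α := by
    apply DualNumber.ringHom_ext
    · ext c
      change ρ (d.α (algebraMap k (DualNumber k) c)) = d'.α (algebraMap k (DualNumber k) c)
      exact ρ.commutes c
    · exact he
  exact congrArg (fun f => f a) hcomp

end Groth.Agent.Helper17.FOD2
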