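import Mathlib
import Groth.Prelude.Def_Exal
import Groth.Agent.Lib.Helper17.FOD2
import Groth.Agent.Lib.Helper1.LocalCriterion

/-!
# From an extension of `B` by `B` to a first-order deformation (helper17)
-/

set_option autoImplicit false

namespace Groth.Agent.Helper17.FOD3

open IsLocalRing Function TrivSqZeroExt TensorProduct Groth.Agent.Helper17.FOD1
  Groth.Agent.Helper17.FOD2

universe u

variable {k : Type u} [Field k] {B : Type u} [CommRing B] [Algebra k B] (Y : Exal.Ext k B B)

theorem proj_incl (z : B) : Y.proj (Y.incl z) = 0 :=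
  (Y.isExtension.exact _).2 ⟨z, rfl⟩

theorem incl_mul_incl (z z' : B) : Y.incl z * Y.incl z' = 0 := by
  rw [Y.isExtension.mul_incl, proj_incl, zero_smul, map_zero]

theorem mul_incl_one (x : Y.E) : x * Y.incl 1 = Y.incl (Y.proj x) := by
  rw [Y.isExtension.mul_incl, smul_eq_mul, mul_one]

/-- the structure map `k[ε] → E`. -/
noncomputable def αY : DualNumber k →ₐ[k] Y.E :=
  DualNumber.lift ⟨(Algebra.ofId k Y.E, Y.incl 1), incl_mul_incl Y 1 1, fun _ => Commute.all _ _⟩

theorem αY_apply (a : DualNumber k) :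
    αY Y a = algebraMap k Y.E (fst a) + algebraMap k Y.E (snd a) * Y.incl 1 := rfl

theorem αY_eps : αY Y DualNumber.eps = Y.incl 1 := by
  rw [αY_apply]
  have h1 : fst (DualNumber.eps : DualNumber k) = 0 := rfl
  have h2 : snd (DualNumber.eps : DualNumber k) = 1 := rfl
  rw [h1, h2, map_zero, map_one, zero_add, one_mul]

theorem ker_proj : RingHom.ker (Y.proj : Y.E →+* B) = Ideal.span {Y.incl 1} := by
  apply le_antisymm
  · intro x hx
    obtain ⟨z, rfl⟩ := (Y.isExtension.exact x).1 hx
    obtain ⟨w, rfl⟩ := Y.isExtension.proj_surjective z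
    rw [← mul_incl_one]
    exact Ideal.mul_mem_left _ _ (Ideal.mem_span_singleton_self _)
  · rw [Ideal.span_singleton_le_iff_mem, RingHom.mem_ker]
    exact proj_incl Y 1

theorem flat_αY : (αY Y : DualNumber k →+* Y.E).Flat := by
  letI : Algebra (DualNumber k) Y.E := (αY Y : DualNumber k →+* Y.E).toAlgebra
  change Module.Flat (DualNumber k) Y.E
  have hsm : ∀ (a : DualNumber k) (x : Y.E), a • x = αY Y a * x := fun a x => rfl
  have hnil : IsNilpotent (maximalIdeal (DualNumber k)) := by
    refine ⟨2, ?_⟩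
    rw [DualNumber.maximalIdeal_eq_span_singleton_eps, Ideal.span_singleton_pow, pow_two,
      DualNumber.eps_mul_eps]
    simp
  letI : Field (DualNumber k ⧸ maximalIdeal (DualNumber k)) :=
    Ideal.Quotient.field (maximalIdeal (DualNumber k))
  refine Groth.Agent.Helper1.flat_of_isNilpotent (R := DualNumber k) (M := Y.E)
    (maximalIdeal (DualNumber k)) hnil ?_
  -- injectivity of `m ⊗ E → k[ε] ⊗ E`
  have hεm : (DualNumber.eps : DualNumber k) ∈ maximalIdeal (DualNumber k) := by
    rw [DualNumber.maximalIdeal_eq_span_singleton_eps]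
    exact Ideal.mem_span_singleton_self _
  let εI : maximalIdeal (DualNumber k) := ⟨DualNumber.eps, hεm⟩
  have hform : ∀ z : (maximalIdeal (DualNumber k)) ⊗[DualNumber k] Y.E,
      ∃ m : Y.E, z = εI ⊗ₜ m := by
    intro z
    induction z using TensorProduct.induction_on with
    | zero => exact ⟨0, (tmul_zero _ _).symm⟩
    | tmul i m =>
      have hi : (i : DualNumber k) ∈ Ideal.span {(DualNumber.eps : DualNumber k)} := by
        rw [← DualNumber.maximalIdeal_eq_span_singleton_eps]
        exact i.2
      obtain ⟨c, hc⟩ := Ideal.mem_span_singleton'.1 hi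
      refine ⟨c • m, ?_⟩
      have : i = c • εI := by
        apply Subtype.ext
        rw [← hc]
        rfl
      rw [this, TensorProduct.smul_tmul]
    | add z w hz hw =>
      obtain ⟨x, rfl⟩ := hz
      obtain ⟨y, rfl⟩ := hw
      exact ⟨x + y, (tmul_add _ _ _).symm⟩
  rw [injective_iff_map_eq_zero]
  intro z hz
  obtain ⟨m, rfl⟩ := hform z
  have h1 : (TensorProduct.lid (DualNumber k) Y.E)
      (((maximalIdeal (DualNumber k)).subtype.rTensor Y.E) (εI ⊗ₜ m)) = 0 := by
    rw [hz, map_zero]
  rw [LinearMap.rTensor_tmul, TensorProduct.lid_tmul] at h1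
  have h2 : Y.incl 1 * m = 0 := by
    rw [← αY_eps]
    exact h1
  rw [mul_comm, mul_incl_one] at h2
  have h3 : Y.proj m = 0 := Y.isExtension.incl_injective (h2.trans (map_zero _).symm)
  obtain ⟨z', hz'⟩ := (Y.isExtension.exact m).1 h3
  obtain ⟨w, hw⟩ := Y.isExtension.proj_surjective z'
  have h4 : m = (DualNumber.eps : DualNumber k) • w := by
    rw [hsm, αY_eps, mul_comm, mul_incl_one, hw, hz']
  have h6 : εI ⊗ₜ[DualNumber k] ((DualNumber.eps : DualNumber k) • w) =
      ((DualNumber.eps : DualNumber k) • εI) ⊗ₜ[DualNumber k] w :=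
    (TensorProduct.smul_tmul (R := DualNumber k) (R' := DualNumber k)
      (M := maximalIdeal (DualNumber k)) (N := Y.E) (DualNumber.eps : DualNumber k) εI w).symm
  rw [h4, h6]
  have h5 : (DualNumber.eps : DualNumber k) • εI = 0 := by
    apply Subtype.ext
    change DualNumber.eps * DualNumber.eps = (0 : DualNumber k)
    exact DualNumber.eps_mul_eps
  rw [h5, zero_tmul]

/-- the first-order deformation datum of an extension. -/
noncomputable def ofExt : FOData k B :=
  { R := Y.E
    α := (αY Y : DualNumber k →+* Y.E)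
    π := (Y.proj : Y.E →+* B)
    comm := fun a => by
      change Y.proj (αY Y a) = algebraMap k B (fst a)
      rw [αY_apply, map_add, map_mul, proj_incl, mul_zero, add_zero, AlgHom.commutes]
    flat := flat_αY Y
    surj := Y.isExtension.proj_surjective
    ker := by
      change RingHom.ker (Y.proj : Y.E →+* B) = Ideal.span {αY Y DualNumber.eps}
      rw [αY_eps, ker_proj] }

theorem toExt_ofExt : Nonempty ((ofExt Y).toExt.Equiv Y) := by
  have he : (ofExt Y).e = Y.incl 1 := αY_eps Y
  let ρ : (ofExt Y).R ≃ₐ[k] Y.E :=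
    { RingEquiv.refl Y.E with
      commutes' := fun c => by
        change αY Y (algebraMap k (DualNumber k) c) = algebraMap k Y.E c
        exact (αY Y).commutes c }
  refine ⟨{ toAlgEquiv := ρ, proj_apply := fun _ => rfl, apply_incl := fun z => ?_ }⟩
  let l : Y.E := (ofExt Y).lift z
  have h1 : l * Y.incl 1 = Y.incl (Y.proj l) := mul_incl_one Y l
  have h2 : Y.proj l = z := (ofExt Y).π_lift z
  rw [h2] at h1
  have h3 : (ofExt Y).e * (ofExt Y).lift z = (ofExt Y).lift z * (ofExt Y).e := mul_comm _ _
  exact h3.trans ((congrArg (fun t : Y.E => l * t) he).trans h1)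

end Groth.Agent.Helper17.FOD3
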