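import Mathlib

/-!
# Sections of a first-order deformation compatible with marked points (helper17)

`B` a formally smooth `k`-algebra with projective differentials, `B'` a `k[ε]`-algebra,
`π : B' → B` a surjection of `k`-algebras killing `ε`, with square-zero kernel.  Given finitely many
distinct `k`-points `q j` of `B` and `k[ε]`-points `q' j` of `B'` lifting them, there is a
`k`-algebra section `s` of `π` with `q' j ∘ s` the constant point through `q j`.
-/

set_option autoImplicit false

namespace Groth.Agent.Helper17.SMK1

open TrivSqZeroExt Function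

universe u v

variable {k : Type u} [Field k] {B : Type u} [CommRing B] [Algebra k B]

section CRT

variable {ι : Type v} [Finite ι] (q : ι → B →ₐ[k] k)

theorem ker_ne_of_ne {j l : ι} (h : q j ≠ q l) :
    RingHom.ker (q j : B →+* k) ≠ RingHom.ker (q l : B →+* k) := by
  intro hker
  apply h
  ext b
  have h1 : b - algebraMap k B (q j b) ∈ RingHom.ker (q j : B →+* k) := by
    rw [RingHom.mem_ker]
    simp
  rw [hker, RingHom.mem_ker] at h1
  have h2 : q l b - q j b = 0 := by simpa using h1
  exact (sub_eq_zero.1 h2).symm

theorem ker_isMaximal (j : ι) : (RingHom.ker (q j : B →+* k)).IsMaximal :=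
  RingHom.ker_isMaximal_of_surjective _ (fun c => ⟨algebraMap k B c, by simp⟩)

theorem exists_values (hq : Injective q) (v : ι → k) : ∃ b : B, ∀ j, q j b = v j := by
  have hcop : Pairwise (IsCoprime on fun j => RingHom.ker (q j : B →+* k)) := by
    intro j l hjl
    haveI := ker_isMaximal q j
    haveI := ker_isMaximal q l
    rw [Function.onFun, Ideal.isCoprime_iff_sup_eq]
    exact Ideal.IsMaximal.coprime_of_ne inferInstance inferInstance
      (ker_ne_of_ne q (fun h => hjl (hq h)))
  obtain ⟨b, hb⟩ := Ideal.exists_forall_sub_mem_ideal hcop (fun j => algebraMap k B (v j))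
  refine ⟨b, fun j => ?_⟩
  have := hb j
  rw [RingHom.mem_ker] at this
  have h2 : q j b - v j = 0 := by simpa using this
  exact sub_eq_zero.1 h2

end CRT

section Der

open KaehlerDifferential

variable {ι : Type v} [Finite ι] (q : ι → B →ₐ[k] k)

theorem exists_derivation [Module.Projective B Ω[B⁄k]] (hq : Injective q) (d : ι → B → k)
    (hd_add : ∀ j a b, d j (a + b) = d j a + d j b)
    (hd_smul : ∀ j (c : k) b, d j (c • b) = c * d j b)
    (hd_mul : ∀ j a b, d j (a * b) = q j a * d j b + q j b * d j a) :
    ∃ D : Derivation k B B, ∀ j b, q j (D b) = d j b := by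
  let Q : B →ₐ[k] (ι → k) := AlgHom.pi q
  letI algQ : Algebra B (ι → k) := Q.toRingHom.toAlgebra
  haveI : IsScalarTower k B (ι → k) :=
    IsScalarTower.of_algebraMap_eq (fun c => (Q.commutes c).symm)
  have hsm : ∀ (a : B) (v : ι → k) (j : ι), (a • v) j = q j a * v j := by
    intro a v j
    rw [Algebra.smul_def]
    rfl
  have hd1 : ∀ j, d j 1 = 0 := by
    intro j
    have := hd_mul j 1 1
    simp only [mul_one, map_one, one_mul] at this
    linear_combination -this
  let dd : Derivation k B (ι → k) :=
    { toFun := fun b j => d j b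
      map_add' := fun a b => by
        funext j
        exact hd_add j a b
      map_smul' := fun c b => by
        funext j
        simp only [RingHom.id_apply, Pi.smul_apply, smul_eq_mul]
        exact hd_smul j c b
      map_one_eq_zero' := by
        funext j
        exact hd1 j
      leibniz' := fun a b => by
        funext j
        simp only [LinearMap.coe_mk, AddHom.coe_mk, Pi.add_apply, hsm]
        exact hd_mul j a b }
  have hdd : ∀ b j, dd b j = d j b := fun _ _ => rfl
  have hsurj : Surjective (Algebra.linearMap B (ι → k)) := by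
    intro v
    obtain ⟨b, hb⟩ := exists_values q hq v
    refine ⟨b, ?_⟩
    funext j
    exact hb j
  obtain ⟨h, hh⟩ := Module.projective_lifting_property (Algebra.linearMap B (ι → k))
    dd.liftKaehlerDifferential hsurj
  refine ⟨h.compDer (KaehlerDifferential.D k B), fun j b => ?_⟩
  have h1 : (Algebra.linearMap B (ι → k)) (h (KaehlerDifferential.D k B b)) =
      dd.liftKaehlerDifferential (KaehlerDifferential.D k B b) := by
    rw [← hh]
    rfl
  rw [Derivation.liftKaehlerDifferential_comp_D] at h1
  have h2 := congrFun h1 j
  rw [hdd] at h2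
  rw [← h2]
  rfl

end Der

section Main

open KaehlerDifferential

variable {B' : Type u} [CommRing B'] [Algebra (DualNumber k) B'] [Algebra k B']
  [IsScalarTower k (DualNumber k) B'] (π : B' →ₐ[k] B)
  {ι : Type v} [Finite ι] (q : ι → B →ₐ[k] k) (q' : ι → B' →ₐ[DualNumber k] DualNumber k)

theorem q'_smul (j : ι) (c : k) (x : B') : q' j (c • x) = inl c * q' j x := by
  rw [Algebra.smul_def, IsScalarTower.algebraMap_apply k (DualNumber k) B', map_mul,
    AlgHom.commutes]
  rfl

theorem exists_section [Algebra.FormallySmooth k B] [Module.Projective B Ω[B⁄k]]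
    (hπsurj : Surjective π) (hnil : IsNilpotent (RingHom.ker (π : B' →+* B)))
    (hπε : π (algebraMap (DualNumber k) B' DualNumber.eps) = 0)
    (hq : Injective q) (hqq' : ∀ j b', fst (q' j b') = q j (π b')) :
    ∃ s : B →ₐ[k] B', (∀ b, π (s b) = b) ∧
      ∀ j b, q' j (s b) = algebraMap k (DualNumber k) (q j b) := by
  let s₀ : B →ₐ[k] B' := Algebra.FormallySmooth.liftOfSurjective (AlgHom.id k B) π hπsurj hnil
  have hπs₀ : ∀ b : B, π (s₀ b) = b := fun b =>
    Algebra.FormallySmooth.liftOfSurjective_apply (AlgHom.id k B) π hπsurj hnil b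
  have hfst : ∀ j b, fst (q' j (s₀ b)) = q j b := fun j b => by rw [hqq', hπs₀]
  obtain ⟨D, hD⟩ := exists_derivation q hq (fun j b => snd (q' j (s₀ b)))
    (fun j a b => by simp only [map_add, snd_add])
    (fun j c b => by
      simp only [map_smul]
      rw [q'_smul]
      simp)
    (fun j a b => by
      simp only [map_mul, snd_mul, hfst, smul_eq_mul, MulOpposite.smul_eq_mul_unop,
        MulOpposite.unop_op]
      ring)
  set E : B' := algebraMap (DualNumber k) B' DualNumber.eps with hE
  have hEE : E * E = 0 := by
    rw [hE, ← map_mul, DualNumber.eps_mul_eps, map_zero]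
  let s : B →ₐ[k] B' :=
    { toFun := fun b => s₀ b - E * s₀ (D b)
      map_one' := by simp
      map_mul' := fun a b => by
        simp only [Derivation.leibniz, map_add, map_mul, smul_eq_mul]
        linear_combination (-(s₀ (D a) * s₀ (D b))) * hEE
      map_zero' := by simp
      map_add' := fun a b => by
        simp only [map_add]
        ring
      commutes' := fun c => by
        simp }
  have hs : ∀ b, s b = s₀ b - E * s₀ (D b) := fun _ => rfl
  refine ⟨s, fun b => ?_, fun j b => ?_⟩
  · rw [hs, map_sub, map_mul, hπε, zero_mul, sub_zero, hπs₀]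
  · rw [hs, map_sub, map_mul]
    have hqE : q' j E = DualNumber.eps := by
      rw [hE, AlgHom.commutes]
      rfl
    rw [hqE]
    have halg : algebraMap k (DualNumber k) (q j b) = inl (q j b) := rfl
    rw [halg]
    ext
    · simp [hfst]
    · simp [hfst, hD]

end Main

end Groth.Agent.Helper17.SMK1
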