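import Mathlib
import Groth.Agent.Lib.Helper17.RG1
import Groth.Agent.Lib.Helper17.RG3
import Groth.Agent.Lib.Helper17.SMK1

/-!
# First-order deformations of smooth affine schemes with marked points: spectra (helper17)
-/

set_option autoImplicit false

namespace Groth.Agent.Helper17.SMK2

open AlgebraicGeometry CategoryTheory IsLocalRing TrivSqZeroExt

universe u v

variable (k : Type u) [Field k]

theorem isNilpotent_maximalIdeal : IsNilpotent (maximalIdeal (DualNumber k)) := by
  refine ⟨2, ?_⟩
  rw [← Groth.Agent.Helper17.RG1.ker_e_eq (fstHom k k k), pow_two, Ideal.zero_eq_bot, eq_bot_iff]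
  rw [Ideal.mul_le]
  intro x hx y hy
  rw [RingHom.mem_ker] at hx hy
  have hx' : fst x = 0 := hx
  have hy' : fst y = 0 := hy
  rw [Ideal.mem_bot]
  ext
  · simp [hx']
  · simp [hx', hy']

theorem spec_version_marked
    (B B' : CommRingCat.{u}) (α : CommRingCat.of (DualNumber k) ⟶ B') (κ : CommRingCat.of k ⟶ B)
    (π : B' ⟶ B)
    [Flat (Spec.map α)] [Smooth (Spec.map κ)]
    (hsq : IsPullback (Spec.map π) (Spec.map κ) (Spec.map α)
      (Spec.map (CommRingCat.ofHom (fstHom k k k).toRingHom)))
    {ι : Type v} [Finite ι] (q : ι → (B ⟶ CommRingCat.of k)) (hq : ∀ j, κ ≫ q j = 𝟙 _)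
    (hinj : Function.Injective q)
    (q' : ι → (B' ⟶ CommRingCat.of (DualNumber k))) (hq' : ∀ j, α ≫ q' j = 𝟙 _)
    (hqq' : ∀ j, π ≫ q j = q' j ≫ CommRingCat.ofHom (fstHom k k k).toRingHom) :
    ∃ s : B ⟶ B', IsPullback (Spec.map s) (Spec.map α) (Spec.map κ)
        (Spec.map (CommRingCat.ofHom (algebraMap k (DualNumber k)))) ∧ s ≫ π = 𝟙 B ∧
      ∀ j, s ≫ q' j = q j ≫ CommRingCat.ofHom (algebraMap k (DualNumber k)) := by
  set e : DualNumber k →ₐ[k] k := fstHom k k k with he
  have hm := isNilpotent_maximalIdeal k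
  have hcomm : α ≫ π = CommRingCat.ofHom e.toRingHom ≫ κ := by
    apply Spec.map_injective
    rw [Spec.map_comp, Spec.map_comp]
    exact hsq.w
  have hcomm' : ∀ a : DualNumber k, π.hom (α.hom a) = κ.hom (e a) := fun a =>
    congrArg (fun f => f.hom a) hcomm
  letI algAB' : Algebra (DualNumber k) B' := α.hom.toAlgebra
  letI algkB' : Algebra k B' := (α.hom.comp (algebraMap k (DualNumber k))).toAlgebra
  haveI : IsScalarTower k (DualNumber k) B' := ⟨fun c a b => by
    change α.hom (c • a) * b = α.hom (algebraMap k (DualNumber k) c) * (α.hom a * b)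
    rw [show c • a = algebraMap k (DualNumber k) c * a from Algebra.smul_def c a, map_mul,
      mul_assoc]⟩
  letI algkB : Algebra k B := κ.hom.toAlgebra
  haveI : Module.Flat (DualNumber k) B' := (Flat.SpecMap_iff.1 inferInstance : α.hom.Flat)
  haveI : Algebra.Smooth k B :=
    (show κ.hom.Smooth from
      (HasRingHomProperty.Spec_iff (P := @Smooth)).1 inferInstance)
  have hesurj : Function.Surjective (CommRingCat.ofHom e.toRingHom).hom :=
    fun c => ⟨algebraMap k (DualNumber k) c, by simp [he]⟩
  haveI : IsClosedImmersion (Spec.map (CommRingCat.ofHom e.toRingHom)) :=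
    IsClosedImmersion.spec_of_surjective _ hesurj
  haveI : IsClosedImmersion (Spec.map π) := MorphismProperty.of_isPullback hsq.flip inferInstance
  have hπsurj := Groth.Agent.Helper17.RG3.surjective_of_isClosedImmersion_spec π
  let πa : B' →ₐ[k] B :=
    { π.hom with
      commutes' := fun c => by
        change π.hom (α.hom (algebraMap k (DualNumber k) c)) = κ.hom c
        rw [hcomm']
        simp [he] }
  have hπa : ∀ x : B', πa x = π.hom x := fun _ => rfl
  have hπe : ∀ a : DualNumber k, πa (algebraMap (DualNumber k) B' a) = algebraMap k B (e a) :=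
    fun a => hcomm' a
  -- the kernel
  have hker : RingHom.ker (πa : B' →+* B) =
      (maximalIdeal (DualNumber k)).map (algebraMap (DualNumber k) B') := by
    apply le_antisymm
    · intro b' hb'
      have hb0 : π.hom b' = 0 := hb'
      let qq : B' ⟶ CommRingCat.of
          (B' ⧸ (maximalIdeal (DualNumber k)).map (algebraMap (DualNumber k) B')) :=
        CommRingCat.ofHom (Ideal.Quotient.mk _)
      let ebar : CommRingCat.of k ⟶ CommRingCat.of
          (B' ⧸ (maximalIdeal (DualNumber k)).map (algebraMap (DualNumber k) B')) :=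
        CommRingCat.ofHom (algebraMap k (DualNumber k)) ≫ α ≫ qq
      have hqq : α ≫ qq = CommRingCat.ofHom e.toRingHom ≫ ebar := by
        refine CommRingCat.hom_ext (RingHom.ext fun a => ?_)
        change Ideal.Quotient.mk _ (α.hom a) =
          Ideal.Quotient.mk _ (α.hom (algebraMap k (DualNumber k) (e a)))
        rw [Ideal.Quotient.eq, ← map_sub]
        exact Ideal.mem_map_of_mem _ (Groth.Agent.Helper17.RG1.sub_mem_maximalIdeal e a)
      let t := hsq.lift (Spec.map qq) (Spec.map ebar)
        (by rw [← Spec.map_comp, ← Spec.map_comp, hqq])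
      have ht : t ≫ Spec.map π = Spec.map qq := hsq.lift_fst _ _ _
      have hτ : π ≫ Spec.preimage t = qq := by
        apply Spec.map_injective
        rw [Spec.map_comp, Spec.map_preimage, ht]
      have h3 : qq.hom b' = 0 := by
        rw [← hτ]
        change (Spec.preimage t).hom (π.hom b') = 0
        rw [hb0, map_zero]
      exact Ideal.Quotient.eq_zero_iff_mem.1 h3
    · rw [Ideal.map_le_iff_le_comap]
      intro a ha
      rw [Ideal.mem_comap, RingHom.mem_ker]
      change πa (algebraMap (DualNumber k) B' a) = 0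
      rw [hπe]
      have : e a = 0 := by
        have := Groth.Agent.Helper17.RG1.ker_e_eq e
        rw [← this] at ha
        exact ha
      rw [this, map_zero]
  have hnil : IsNilpotent (RingHom.ker (πa : B' →+* B)) := by
    rw [hker]
    obtain ⟨n, hn⟩ := hm
    exact ⟨n, by rw [← Ideal.map_pow, hn, Ideal.zero_eq_bot, Ideal.map_bot]; rfl⟩
  -- the marked points
  let qa : ι → B →ₐ[k] k := fun j =>
    { (q j).hom with
      commutes' := fun c => congrArg (fun f => f.hom c) (hq j) }
  let q'a : ι → B' →ₐ[DualNumber k] DualNumber k := fun j =>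
    { (q' j).hom with
      commutes' := fun c => congrArg (fun f => f.hom c) (hq' j) }
  have hqa_inj : Function.Injective qa := by
    intro j l hjl
    apply hinj
    ext b
    exact congrArg (fun f => f b) hjl
  have hqq'a : ∀ j b', fst (q'a j b') = qa j (πa b') := fun j b' =>
    (congrArg (fun f => f.hom b') (hqq' j)).symm
  have hπε : πa (algebraMap (DualNumber k) B' DualNumber.eps) = 0 := by
    rw [hπe]
    have : e DualNumber.eps = 0 := rfl
    rw [this, map_zero]
  obtain ⟨s, hπs, hmark⟩ := Groth.Agent.Helper17.SMK1.exists_section πa qa q'a hπsurj hnil hπε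
    hqa_inj hqq'a
  have hpo := Groth.Agent.Helper17.RG1.isPushout_ring (e := e) (π := πa) (s := s) hm hπe hπs hker
  have hpb := isPullback_SpecMap_of_isPushout _ _ _ _ hpo
  refine ⟨CommRingCat.ofHom (s : B →+* B'), hpb.flip, ?_, fun j => ?_⟩
  · refine CommRingCat.hom_ext (RingHom.ext fun b => ?_)
    exact hπs b
  · refine CommRingCat.hom_ext (RingHom.ext fun b => ?_)
    exact hmark j b

end Groth.Agent.Helper17.SMK2
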