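import Mathlib
import Groth.Prelude.Def_Exal
import Groth.Prelude.Def_ArtFun4
import Groth.Agent.Lib.Helper17.RG1
import Groth.Agent.Lib.Helper17.RG3
import Groth.Agent.Lib.Helper17.FOD3
import Groth.Agent.Lib.Helper17.SMK2
import Groth.Agent.Lib.Helper6.ThickAffB
import Groth.Agent.Lib.Helper14.SqZeroEtale

/-!
# First-order deformations of `Spec B` and ring-level data (helper17)
-/

set_option autoImplicit false

namespace Groth.Agent.Helper17.FOD4

open AlgebraicGeometry CategoryTheory IsLocalRing TrivSqZeroExt Groth.Agent.Helper17.FOD1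
  Groth.Agent.Helper17.FOD2 Groth.Agent.Helper17.FOD3

universe u

variable (k : Type u) [Field k] (B : Type u) [CommRing B] [Algebra k B]

/-- ring-level facts for a first-order deformation given on spectra. -/
theorem ring_facts (B' : CommRingCat.{u}) (α : CommRingCat.of (DualNumber k) ⟶ B')
    (π : B' ⟶ CommRingCat.of B) [Flat (Spec.map α)]
    (hsq : IsPullback (Spec.map π) (Spec.map (CommRingCat.ofHom (algebraMap k B))) (Spec.map α)
      (Spec.map (CommRingCat.ofHom (fstHom k k k).toRingHom))) :
    (∀ a : DualNumber k, π.hom (α.hom a) = algebraMap k B (fst a)) ∧ α.hom.Flat ∧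
      Function.Surjective π.hom ∧ RingHom.ker π.hom = Ideal.span {α.hom DualNumber.eps} := by
  set e : DualNumber k →ₐ[k] k := fstHom k k k with he
  set κ : CommRingCat.of k ⟶ CommRingCat.of B := CommRingCat.ofHom (algebraMap k B) with hκ
  have hcomm : α ≫ π = CommRingCat.ofHom e.toRingHom ≫ κ := by
    apply Spec.map_injective
    rw [Spec.map_comp, Spec.map_comp]
    exact hsq.w
  have hcomm' : ∀ a : DualNumber k, π.hom (α.hom a) = algebraMap k B (e a) := fun a =>
    congrArg (fun f => f.hom a) hcomm
  have hesurj : Function.Surjective (CommRingCat.ofHom e.toRingHom).hom :=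
    fun c => ⟨algebraMap k (DualNumber k) c, by simp [he]⟩
  haveI : IsClosedImmersion (Spec.map (CommRingCat.ofHom e.toRingHom)) :=
    IsClosedImmersion.spec_of_surjective _ hesurj
  haveI : IsClosedImmersion (Spec.map π) := MorphismProperty.of_isPullback hsq.flip inferInstance
  have hπsurj := Groth.Agent.Helper17.RG3.surjective_of_isClosedImmersion_spec π
  refine ⟨hcomm', (Flat.SpecMap_iff.1 inferInstance : α.hom.Flat), hπsurj, ?_⟩
  have hmax : maximalIdeal (DualNumber k) = Ideal.span {(DualNumber.eps : DualNumber k)} :=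
    DualNumber.maximalIdeal_eq_span_singleton_eps
  have hspan : Ideal.span {α.hom DualNumber.eps} = (maximalIdeal (DualNumber k)).map α.hom := by
    rw [hmax, Ideal.map_span, Set.image_singleton]
  rw [hspan]
  apply le_antisymm
  · intro b' hb'
    have hb0 : π.hom b' = 0 := hb'
    let q : B' ⟶ CommRingCat.of (B' ⧸ (maximalIdeal (DualNumber k)).map α.hom) :=
      CommRingCat.ofHom (Ideal.Quotient.mk _)
    let ebar : CommRingCat.of k ⟶ CommRingCat.of (B' ⧸ (maximalIdeal (DualNumber k)).map α.hom) :=
      CommRingCat.ofHom (algebraMap k (DualNumber k)) ≫ α ≫ q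
    have hq : α ≫ q = CommRingCat.ofHom e.toRingHom ≫ ebar := by
      refine CommRingCat.hom_ext (RingHom.ext fun a => ?_)
      change Ideal.Quotient.mk _ (α.hom a) =
        Ideal.Quotient.mk _ (α.hom (algebraMap k (DualNumber k) (e a)))
      rw [Ideal.Quotient.eq, ← map_sub]
      exact Ideal.mem_map_of_mem _ (Groth.Agent.Helper17.RG1.sub_mem_maximalIdeal e a)
    let t := hsq.lift (Spec.map q) (Spec.map ebar)
      (by rw [← Spec.map_comp, ← Spec.map_comp, hq])
    have ht : t ≫ Spec.map π = Spec.map q := hsq.lift_fst _ _ _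
    have hτ : π ≫ Spec.preimage t = q := by
      apply Spec.map_injective
      rw [Spec.map_comp, Spec.map_preimage, ht]
    have h3 : q.hom b' = 0 := by
      rw [← hτ]
      change (Spec.preimage t).hom (π.hom b') = 0
      rw [hb0, map_zero]
    exact Ideal.Quotient.eq_zero_iff_mem.1 h3
  · rw [Ideal.map_le_iff_le_comap]
    intro a ha
    rw [Ideal.mem_comap, RingHom.mem_ker, hcomm']
    have : e a = 0 := by
      have := Groth.Agent.Helper17.RG1.ker_e_eq e
      rw [← this] at ha
      exact ha
    rw [this, map_zero]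

section Scheme

variable (X' : Scheme.{u}) (g : X' ⟶ Spec (CommRingCat.of (DualNumber k)))
  (i : Spec (CommRingCat.of B) ⟶ X')

/-- the structure map on global sections. -/
noncomputable def αc : CommRingCat.of (DualNumber k) ⟶ Γ(X', ⊤) :=
  (Scheme.ΓSpecIso (CommRingCat.of (DualNumber k))).inv ≫ g.appTop

/-- the restriction to the closed fibre on global sections. -/
noncomputable def πc : Γ(X', ⊤) ⟶ CommRingCat.of B :=
  i.appTop ≫ (Scheme.ΓSpecIso (CommRingCat.of B)).hom

variable {k B X' g i}

theorem isAffine_of_isPullback [Flat g]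
    (hsq : IsPullback i (Spec.map (CommRingCat.ofHom (algebraMap k B))) g
      (Spec.map (CommRingCat.ofHom (fstHom k k k).toRingHom))) : IsAffine X' := by
  set e : DualNumber k →ₐ[k] k := fstHom k k k with he
  have hesurj : Function.Surjective (CommRingCat.ofHom e.toRingHom).hom :=
    fun c => ⟨algebraMap k (DualNumber k) c, by simp [he]⟩
  haveI : IsClosedImmersion (Spec.map (CommRingCat.ofHom e.toRingHom)) :=
    IsClosedImmersion.spec_of_surjective _ hesurj
  haveI : IsClosedImmersion i := MorphismProperty.of_isPullback hsq.flip inferInstance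
  haveI : IsArtinianRing (DualNumber k) :=
    (isArtinianRing_iff_isNilpotent_maximalIdeal _).2
      (Groth.Agent.Helper17.SMK2.isNilpotent_maximalIdeal k)
  haveI : Subsingleton ↥(Spec (CommRingCat.of (DualNumber k))) :=
    inferInstanceAs (Subsingleton (PrimeSpectrum (DualNumber k)))
  haveI : Nonempty ↥(Spec (CommRingCat.of k)) :=
    inferInstanceAs (Nonempty (PrimeSpectrum k))
  haveI : Surjective (Spec.map (CommRingCat.ofHom e.toRingHom)) := inferInstance
  haveI : Surjective i := MorphismProperty.of_isPullback hsq.flip inferInstance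
  exact Groth.Agent.Helper6.ThickAff.isAffine_of_isClosedImmersion_of_surjective i i.surjective

theorem isoSpec_hom_comp_αc [IsAffine X'] : X'.isoSpec.hom ≫ Spec.map (αc k X' g) = g := by
  rw [αc, Spec.map_comp, Scheme.isoSpec_hom_naturality_assoc, Scheme.isoSpec_Spec_hom,
    ← Spec.map_comp, Iso.inv_hom_id, Spec.map_id, Category.comp_id]

theorem specMap_πc [IsAffine X'] : Spec.map (πc B X' i) = i ≫ X'.isoSpec.hom := by
  rw [πc, Spec.map_comp, ← Scheme.isoSpec_Spec_hom, Scheme.isoSpec_hom_naturality]

theorem isPullback_spec [IsAffine X']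
    (hsq : IsPullback i (Spec.map (CommRingCat.ofHom (algebraMap k B))) g
      (Spec.map (CommRingCat.ofHom (fstHom k k k).toRingHom))) :
    IsPullback (Spec.map (πc B X' i)) (Spec.map (CommRingCat.ofHom (algebraMap k B)))
      (Spec.map (αc k X' g)) (Spec.map (CommRingCat.ofHom (fstHom k k k).toRingHom)) :=
  IsPullback.of_iso hsq (Iso.refl _) X'.isoSpec (Iso.refl _) (Iso.refl _)
    (by simp [specMap_πc]) (by simp) (by simp [isoSpec_hom_comp_αc]) (by simp)

theorem flat_specMap_αc [IsAffine X'] [Flat g] : Flat (Spec.map (αc k X' g)) := by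
  have : Spec.map (αc k X' g) = X'.isoSpec.inv ≫ g := by
    rw [Iso.eq_inv_comp]
    exact isoSpec_hom_comp_αc
  rw [this]
  infer_instance

end Scheme

end Groth.Agent.Helper17.FOD4
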