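import Mathlib
import Groth.Prelude.Def_Exal
import Groth.Prelude.Def_ArtFun4
import Groth.Agent.Lib.Helper17.FOD4

/-!
# First-order deformations of `Spec B` up to isomorphism and `Exalcom k B B` (helper17)
-/

set_option autoImplicit false

namespace Groth.Agent.Helper17.FOD5

open AlgebraicGeometry CategoryTheory IsLocalRing TrivSqZeroExt Groth.Agent.Helper17.FOD1
  Groth.Agent.Helper17.FOD2 Groth.Agent.Helper17.FOD3 Groth.Agent.Helper17.FOD4

universe u

variable (k : Type u) [Field k] (B : Type u) [CommRing B] [Algebra k B]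

/-- deformations of `Spec B` over the dual numbers. -/
abbrev Def : Type (u + 1) :=
  ArtFun.DefSch (Λ := k) (Spec (CommRingCat.of B)) (Spec.map (CommRingCat.ofHom (algebraMap k B)))
    (ArtFun.Art.dual k k)

variable {k B}

/-- the structure map with its target written as `Spec k[ε]`. -/
noncomputable def gOf (ξ : Def k B) : ξ.total ⟶ Spec (CommRingCat.of (DualNumber k)) := ξ.f

theorem isPullback_gOf (ξ : Def k B) :
    IsPullback ξ.i (Spec.map (CommRingCat.ofHom (algebraMap k B))) (gOf ξ)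
      (Spec.map (CommRingCat.ofHom (fstHom k k k).toRingHom)) := ξ.isPullback

instance (ξ : Def k B) : Flat (gOf ξ) := ξ.flat

instance (ξ : Def k B) : IsAffine ξ.total := isAffine_of_isPullback (isPullback_gOf ξ)

/-- ring-level data of a deformation. -/
noncomputable def ofDef (ξ : Def k B) : FOData k B :=
  haveI := flat_specMap_αc (g := gOf ξ)
  have h := ring_facts k B Γ(ξ.total, ⊤) (αc k ξ.total (gOf ξ)) (πc B ξ.total ξ.i)
    (isPullback_spec (isPullback_gOf ξ))
  { R := Γ(ξ.total, ⊤)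
    α := (αc k ξ.total (gOf ξ)).hom
    π := (πc B ξ.total ξ.i).hom
    comm := h.1
    flat := h.2.1
    surj := h.2.2.1
    ker := h.2.2.2 }

theorem ofDef_α (ξ : Def k B) : (ofDef ξ).α = (αc k ξ.total (gOf ξ)).hom := rfl

theorem ofDef_π (ξ : Def k B) : (ofDef ξ).π = (πc B ξ.total ξ.i).hom := rfl

/-- the deformation attached to ring-level data. -/
noncomputable def toDef (d : FOData k B) : Def k B :=
  { total := Spec (CommRingCat.of d.R)
    f := Spec.map (CommRingCat.ofHom d.α)
    flat := Flat.SpecMap_iff.2 d.flat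
    i := Spec.map (CommRingCat.ofHom d.π)
    isPullback := by
      letI a1 : Algebra (DualNumber k) k := (fstHom k k k).toRingHom.toAlgebra
      letI a2 : Algebra (DualNumber k) d.R := d.α.toAlgebra
      letI a3 : Algebra d.R B := d.π.toAlgebra
      letI a4 : Algebra (DualNumber k) B := (d.π.comp d.α).toAlgebra
      haveI : IsScalarTower (DualNumber k) k B :=
        IsScalarTower.of_algebraMap_eq (fun x => d.comm x)
      haveI : IsScalarTower (DualNumber k) d.R B := IsScalarTower.of_algebraMap_eq (fun _ => rfl)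
      have hS : Function.Surjective (algebraMap (DualNumber k) k) :=
        fun c => ⟨inl c, rfl⟩
      have hker : RingHom.ker (algebraMap d.R B) =
          (RingHom.ker (algebraMap (DualNumber k) k)).map (algebraMap (DualNumber k) d.R) := by
        have h1 : RingHom.ker (algebraMap (DualNumber k) k) = maximalIdeal (DualNumber k) :=
          Groth.Agent.Helper17.RG1.ker_e_eq (fstHom k k k)
        rw [h1, DualNumber.maximalIdeal_eq_span_singleton_eps, Ideal.map_span,
          Set.image_singleton]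
        exact d.ker
      haveI := Groth.Agent.Helper14.SqZeroEtale.isPushout_of_surjective (R := DualNumber k)
        (S := k) (R' := d.R) (S' := B) hS d.surj hker
      have hpo := CommRingCat.isPushout_of_isPushout (DualNumber k) k d.R B
      exact (isPullback_SpecMap_of_isPushout _ _ _ _ hpo).flip }

theorem foIso_of_iso {ξ ξ' : Def k B} (e : ξ.Iso ξ') :
    Nonempty (FOIso (ofDef ξ) (ofDef ξ')) := by
  have h1 : e.iso.inv.appTop.hom.comp e.iso.hom.appTop.hom = RingHom.id _ := by
    have : e.iso.hom.appTop ≫ e.iso.inv.appTop = 𝟙 _ := by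
      change (e.iso.inv ≫ e.iso.hom).appTop = 𝟙 _
      rw [e.iso.inv_hom_id]
      rfl
    exact congrArg CommRingCat.Hom.hom this
  have h2 : e.iso.hom.appTop.hom.comp e.iso.inv.appTop.hom = RingHom.id _ := by
    have : e.iso.inv.appTop ≫ e.iso.hom.appTop = 𝟙 _ := by
      change (e.iso.hom ≫ e.iso.inv).appTop = 𝟙 _
      rw [e.iso.hom_inv_id]
      rfl
    exact congrArg CommRingCat.Hom.hom this
  have hf : e.iso.inv ≫ gOf ξ = gOf ξ' := by
    rw [Iso.inv_comp_eq]
    exact e.hom_f.symm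
  have hi : ξ'.i ≫ e.iso.inv = ξ.i := by
    rw [Iso.comp_inv_eq]
    exact e.i_hom.symm
  have hα : αc k ξ.total (gOf ξ) ≫ e.iso.inv.appTop = αc k ξ'.total (gOf ξ') := by
    rw [αc, αc, Category.assoc, ← hf]
    rfl
  have hπ : e.iso.inv.appTop ≫ πc B ξ'.total ξ'.i = πc B ξ.total ξ.i := by
    rw [πc, πc, ← Category.assoc, ← hi]
    rfl
  exact ⟨{ ρ := RingEquiv.ofRingHom e.iso.inv.appTop.hom e.iso.hom.appTop.hom h1 h2
           hα := fun a => congrArg (fun f => f.hom a) hα
           hπ := fun x => congrArg (fun f => f.hom x) hπ }⟩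

theorem iso_of_foIso {ξ ξ' : Def k B} (j : FOIso (ofDef ξ) (ofDef ξ')) :
    Nonempty (ξ.Iso ξ') := by
  let ρc : Γ(ξ.total, ⊤) ≅ Γ(ξ'.total, ⊤) := j.ρ.toCommRingCatIso
  have hα : αc k ξ.total (gOf ξ) ≫ ρc.hom = αc k ξ'.total (gOf ξ') :=
    CommRingCat.hom_ext (RingHom.ext j.hα)
  have hπ : ρc.hom ≫ πc B ξ'.total ξ'.i = πc B ξ.total ξ.i :=
    CommRingCat.hom_ext (RingHom.ext j.hπ)
  have hα' : αc k ξ'.total (gOf ξ') ≫ ρc.inv = αc k ξ.total (gOf ξ) := by
    rw [← hα, Category.assoc, Iso.hom_inv_id, Category.comp_id]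
  have hπ' : ρc.inv ≫ πc B ξ.total ξ.i = πc B ξ'.total ξ'.i := by
    rw [← hπ, Iso.inv_hom_id_assoc]
  let φ : ξ.total ≅ ξ'.total :=
    { hom := ξ.total.isoSpec.hom ≫ Spec.map ρc.inv ≫ ξ'.total.isoSpec.inv
      inv := ξ'.total.isoSpec.hom ≫ Spec.map ρc.hom ≫ ξ.total.isoSpec.inv
      hom_inv_id := by
        simp only [Category.assoc, Iso.inv_hom_id_assoc]
        rw [← Spec.map_comp_assoc, Iso.hom_inv_id, Spec.map_id, Category.id_comp,
          Iso.hom_inv_id]
      inv_hom_id := by
        simp only [Category.assoc, Iso.inv_hom_id_assoc]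
        rw [← Spec.map_comp_assoc, Iso.inv_hom_id, Spec.map_id, Category.id_comp,
          Iso.hom_inv_id] }
  refine ⟨{ iso := φ, hom_f := ?_, i_hom := ?_ }⟩
  · change (ξ.total.isoSpec.hom ≫ Spec.map ρc.inv ≫ ξ'.total.isoSpec.inv) ≫ gOf ξ' = gOf ξ
    have hg' : gOf ξ' = ξ'.total.isoSpec.hom ≫ Spec.map (αc k ξ'.total (gOf ξ')) :=
      isoSpec_hom_comp_αc.symm
    have hg : ξ.total.isoSpec.hom ≫ Spec.map (αc k ξ.total (gOf ξ)) = gOf ξ :=
      isoSpec_hom_comp_αc
    rw [hg']
    simp only [Category.assoc, Iso.inv_hom_id_assoc]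
    rw [← Spec.map_comp, hα', hg]
  · change ξ.i ≫ (ξ.total.isoSpec.hom ≫ Spec.map ρc.inv ≫ ξ'.total.isoSpec.inv) = ξ'.i
    rw [← Category.assoc, ← specMap_πc, ← Category.assoc, ← Spec.map_comp, hπ', specMap_πc,
      Category.assoc, Iso.hom_inv_id, Category.comp_id]

theorem foIso_ofDef_toDef (d : FOData k B) : Nonempty (FOIso (ofDef (toDef d)) d) := by
  have hα : αc k (toDef d).total (gOf (toDef d)) ≫ (Scheme.ΓSpecIso (CommRingCat.of d.R)).hom =
      CommRingCat.ofHom d.α := by
    change ((Scheme.ΓSpecIso (CommRingCat.of (DualNumber k))).inv ≫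
      (Spec.map (CommRingCat.ofHom d.α)).appTop) ≫ (Scheme.ΓSpecIso (CommRingCat.of d.R)).hom = _
    rw [Category.assoc, Scheme.ΓSpecIso_naturality, Iso.inv_hom_id_assoc]
  have hπ : (Scheme.ΓSpecIso (CommRingCat.of d.R)).hom ≫ CommRingCat.ofHom d.π =
      πc B (toDef d).total (toDef d).i := by
    change _ = (Spec.map (CommRingCat.ofHom d.π)).appTop ≫
      (Scheme.ΓSpecIso (CommRingCat.of B)).hom
    rw [Scheme.ΓSpecIso_naturality]
  exact ⟨{ ρ := (Scheme.ΓSpecIso (CommRingCat.of d.R)).commRingCatIsoToRingEquiv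
           hα := fun a => congrArg (fun f => f.hom a) hα
           hπ := fun x => congrArg (fun f => f.hom x) hπ }⟩

variable (k B)

theorem nonempty_equiv :
    Nonempty (Quotient (ArtFun.DefSch.setoid (Λ := k) (Spec (CommRingCat.of B))
      (Spec.map (CommRingCat.ofHom (algebraMap k B))) (ArtFun.Art.dual k k)) ≃
        Exal.Exalcom k B B) := by
  let Φ : Quotient (ArtFun.DefSch.setoid (Λ := k) (Spec (CommRingCat.of B))
      (Spec.map (CommRingCat.ofHom (algebraMap k B))) (ArtFun.Art.dual k k)) →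
        Exal.Exalcom k B B :=
    Quotient.lift (fun ξ : Def k B => Exal.Ext.cl (ofDef ξ).toExt) (by
      rintro ξ ξ' ⟨e⟩
      obtain ⟨j⟩ := foIso_of_iso e
      exact Quotient.sound (equiv_of_iso j))
  refine ⟨Equiv.ofBijective Φ ⟨?_, ?_⟩⟩
  · intro a b
    induction a using Quotient.inductionOn with
    | h ξ =>
      induction b using Quotient.inductionOn with
      | h ξ' =>
        intro h
        obtain ⟨e⟩ := Quotient.exact h
        obtain ⟨j⟩ := iso_of_equiv e
        obtain ⟨i⟩ := iso_of_foIso j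
        exact Quotient.sound ⟨i⟩
  · intro y
    induction y using Quotient.inductionOn with
    | h Y =>
      refine ⟨Quotient.mk _ (toDef (ofExt Y)), ?_⟩
      obtain ⟨j⟩ := foIso_ofDef_toDef (ofExt Y)
      obtain ⟨e1⟩ := equiv_of_iso j
      obtain ⟨e2⟩ := toExt_ofExt Y
      exact Quotient.sound ⟨e1.trans e2⟩

end Groth.Agent.Helper17.FOD5
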