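import Mathlib

/-!
# Flatness via a nonzerodivisor: `M` flat iff `π`-torsion free, flat mod `π`, flat after inverting `π`
-/

set_option autoImplicit false

universe u v

open scoped TensorProduct

namespace Groth.Agent.Helper17.FP

section Gen

variable {R : Type*} [CommRing R] {M : Type*} [AddCommGroup M] [Module R M]

/-- trivial relation with an arbitrary finite index type -/
def Triv {ι : Type*} [Fintype ι] (f : ι → R) (x : ι → M) : Prop :=
  ∃ (κ : Type) (_ : Fintype κ) (a : ι → κ → R) (y : κ → M),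
    (∀ i, x i = ∑ j, a i j • y j) ∧ ∀ j, ∑ i, f i * a i j = 0

theorem Triv.isTrivialRelation {ι : Type*} [Fintype ι] {f : ι → R} {x : ι → M} (h : Triv f x) :
    Module.IsTrivialRelation f x := by
  obtain ⟨κ, _, a, y, h1, h2⟩ := h
  let e := Fintype.equivFin κ
  refine ⟨Fintype.card κ, fun i j => a i (e.symm j), fun j => y (e.symm j), ?_, ?_⟩
  · intro i
    rw [h1 i]
    exact (Equiv.sum_comp e.symm (fun j => a i j • y j)).symm
  · intro j
    exact h2 (e.symm j)

/-- simultaneous trivialisation of finitely many relations in a flat module -/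
theorem exists_simultaneous [Module.Flat R M] :
    ∀ (l : ℕ) {κ : Type} [Fintype κ] (b : Fin l → κ → R) (y : κ → M),
      (∀ i, ∑ j, b i j • y j = 0) →
      ∃ (k₂ : ℕ) (c : κ → Fin k₂ → R) (z : Fin k₂ → M),
        (∀ j, y j = ∑ m, c j m • z m) ∧ ∀ i m, ∑ j, b i j * c j m = 0 := by
  intro l
  induction l with
  | zero =>
    intro κ _ b y _
    classical
    let e := Fintype.equivFin κ
    refine ⟨Fintype.card κ, fun j m => if e j = m then 1 else 0, fun m => y (e.symm m), ?_,
      fun i => i.elim0⟩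
    intro j
    rw [Finset.sum_eq_single (e j)]
    · simp
    · intro m _ hm
      simp [Ne.symm hm]
    · intro h
      exact absurd (Finset.mem_univ _) h
  | succ l ih =>
    intro κ _ b y h
    obtain ⟨k₂, c, z, h1, h2⟩ := ih (fun i => b i.castSucc) y (fun i => h i.castSucc)
    have hlast : ∑ m, (∑ j, b (Fin.last l) j * c j m) • z m = 0 := by
      calc ∑ m, (∑ j, b (Fin.last l) j * c j m) • z m
          = ∑ j, b (Fin.last l) j • ∑ m, c j m • z m := by
            simp_rw [Finset.sum_smul, Finset.smul_sum, mul_smul]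
            rw [Finset.sum_comm]
        _ = ∑ j, b (Fin.last l) j • y j :=
            Finset.sum_congr rfl fun j _ => by rw [h1 j]
        _ = 0 := h (Fin.last l)
    obtain ⟨k₃, d, w, h3, h4⟩ := Module.Flat.isTrivialRelation_of_sum_smul_eq_zero hlast
    refine ⟨k₃, fun j n => ∑ m, c j m * d m n, w, ?_, ?_⟩
    · intro j
      rw [h1 j]
      simp_rw [h3, Finset.smul_sum, Finset.sum_smul, mul_smul]
      rw [Finset.sum_comm]
    · intro i n
      have : ∑ j, b i j * ∑ m, c j m * d m n = ∑ m, (∑ j, b i j * c j m) * d m n := by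
        simp_rw [Finset.mul_sum, Finset.sum_mul, mul_assoc]
        rw [Finset.sum_comm]
      rw [this]
      refine Fin.lastCases ?_ (fun i' => ?_) i
      · exact h4 n
      · simp_rw [h2 i', zero_mul]
        exact Finset.sum_const_zero

end Gen

section Quot

variable {A : Type u} [CommRing A] {M : Type v} [AddCommGroup M] [Module A M]

theorem exists_one_tmul (I : Ideal A) (z : (A ⧸ I) ⊗[A] M) :
    ∃ m : M, (1 : A ⧸ I) ⊗ₜ[A] m = z := by
  obtain ⟨m, hm⟩ := Submodule.Quotient.mk_surjective _ (TensorProduct.quotTensorEquivQuotSMul M I z)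
  refine ⟨m, ?_⟩
  rw [← TensorProduct.quotTensorEquivQuotSMul_symm_mk, hm, LinearEquiv.symm_apply_apply]

theorem exists_smul_of_one_tmul_eq_zero (π : A) (m : M)
    (h : (1 : A ⧸ Ideal.span {π}) ⊗ₜ[A] m = 0) : ∃ w : M, m = π • w := by
  have h1 : (Submodule.Quotient.mk m : M ⧸ (Ideal.span {π} • (⊤ : Submodule A M))) = 0 := by
    rw [← TensorProduct.quotTensorEquivQuotSMul_mk_one_tmul, h, map_zero]
  rw [Submodule.Quotient.mk_eq_zero, Submodule.ideal_span_singleton_smul] at h1
  obtain ⟨w, -, hw⟩ := (Submodule.mem_smul_pointwise_iff_exists _ _ _).mp h1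
  exact ⟨w, hw.symm⟩

end Quot

variable (A : Type u) [CommRing A] (π : A) (M : Type v) [AddCommGroup M] [Module A M]

theorem stepA (hπ : π ∈ nonZeroDivisors A)
    (hT : ∀ (x : M) (n : ℕ), π ^ n • x = 0 → x = 0)
    [Module.Flat (Localization.Away π) ((Localization.Away π) ⊗[A] M)]
    {l : ℕ} (f : Fin l → A) (x : Fin l → M) (hfx : ∑ i, f i • x i = 0) :
    ∃ (K k : ℕ) (a : Fin l → Fin k → A) (y : Fin k → M),
      (∀ i, π ^ K • x i = ∑ j, a i j • y j) ∧ ∀ j, ∑ i, f i * a i j = 0 := by
  have hrel : ∑ i, algebraMap A (Localization.Away π) (f i) •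
      ((1 : Localization.Away π) ⊗ₜ[A] x i) = 0 := by
    have : ∑ i, f i • ((1 : Localization.Away π) ⊗ₜ[A] x i) = 0 := by
      simp_rw [← TensorProduct.tmul_smul]
      rw [← TensorProduct.tmul_sum, hfx, TensorProduct.tmul_zero]
    simpa only [algebraMap_smul] using this
  obtain ⟨k, α, η, h1', h2'⟩ := Module.Flat.isTrivialRelation_of_sum_smul_eq_zero hrel
  have h1 : ∀ i, (1 : Localization.Away π) ⊗ₜ[A] x i = ∑ j, α i j • η j := h1'
  have h2 : ∀ j, ∑ i, algebraMap A (Localization.Away π) (f i) * α i j = 0 := h2'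
  obtain ⟨b, hb⟩ := IsLocalization.exist_integer_multiples_of_finite (Submonoid.powers π)
    (fun p : Fin l × Fin k => α p.1 p.2)
  obtain ⟨N, hN⟩ := (Submonoid.mem_powers_iff _ _).mp b.2
  choose a ha' using fun i j => RingHom.mem_rangeS.mp (hb (i, j))
  have ha : ∀ i j, algebraMap A (Localization.Away π) (a i j) = (b : A) • α i j := ha'
  have hη : ∀ j, ∃ (n : ℕ) (y : M), π ^ n • η j = (1 : Localization.Away π) ⊗ₜ[A] y := by
    intro j
    obtain ⟨⟨y, s⟩, hs⟩ := IsLocalizedModule.surj (Submonoid.powers π)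
      (TensorProduct.mk A (Localization.Away π) M 1) (η j)
    obtain ⟨n, hn⟩ := (Submonoid.mem_powers_iff _ _).mp s.2
    refine ⟨n, y, ?_⟩
    rw [hn]
    exact hs
  choose n y₀ hy₀ using hη
  have hy : ∀ j, π ^ (Finset.univ.sup n) • η j =
      (1 : Localization.Away π) ⊗ₜ[A] (π ^ (Finset.univ.sup n - n j) • y₀ j) := by
    intro j
    have hle : n j ≤ Finset.univ.sup n := Finset.le_sup (Finset.mem_univ j)
    calc π ^ (Finset.univ.sup n) • η j = π ^ (Finset.univ.sup n - n j) • π ^ n j • η j := by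
          rw [← mul_smul, ← pow_add, Nat.sub_add_cancel hle]
      _ = _ := by rw [hy₀, TensorProduct.tmul_smul]
  refine ⟨N + Finset.univ.sup n, k, a, fun j => π ^ (Finset.univ.sup n - n j) • y₀ j, ?_, ?_⟩
  · intro i
    have key : (1 : Localization.Away π) ⊗ₜ[A] (π ^ (N + Finset.univ.sup n) • x i) =
        (1 : Localization.Away π) ⊗ₜ[A] (∑ j, a i j • (π ^ (Finset.univ.sup n - n j) • y₀ j)) := by
      rw [TensorProduct.tmul_smul, h1 i, Finset.smul_sum, TensorProduct.tmul_sum]
      refine Finset.sum_congr rfl fun j _ => ?_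
      rw [TensorProduct.tmul_smul, ← hy j, pow_add, mul_smul,
        smul_comm (π ^ (Finset.univ.sup n)) (α i j), ← smul_assoc, hN, ← ha, algebraMap_smul]
    obtain ⟨c, hc⟩ := IsLocalizedModule.exists_of_eq (S := Submonoid.powers π)
      (f := TensorProduct.mk A (Localization.Away π) M 1) key
    obtain ⟨K', hK'⟩ := (Submonoid.mem_powers_iff _ _).mp c.2
    have h0 : π ^ K' • (π ^ (N + Finset.univ.sup n) • x i -
        ∑ j, a i j • (π ^ (Finset.univ.sup n - n j) • y₀ j)) = 0 := by
      rw [smul_sub, sub_eq_zero, hK']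
      exact hc
    exact sub_eq_zero.mp (hT _ K' h0)
  · intro j
    have hinj : Function.Injective (algebraMap A (Localization.Away π)) :=
      IsLocalization.injective _ (Submonoid.powers_le.mpr hπ)
    apply hinj
    rw [map_zero, map_sum]
    simp only [map_mul, ha, mul_smul_comm, ← Finset.smul_sum, h2 j, smul_zero]

theorem stepB (hπ : π ∈ nonZeroDivisors A)
    (hT : ∀ (x : M), π • x = 0 → x = 0)
    [Module.Flat (A ⧸ Ideal.span {π}) ((A ⧸ Ideal.span {π}) ⊗[A] M)]
    {l : ℕ} (f : Fin l → A) (x : Fin l → M) {κ : Type} [Fintype κ] (a : Fin l → κ → A)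
    (y : κ → M) (h1 : ∀ i, π • x i = ∑ j, a i j • y j) (h2 : ∀ j, ∑ i, f i * a i j = 0) :
    Triv f x := by
  have hmkπ : algebraMap A (A ⧸ Ideal.span {π}) π = 0 :=
    Ideal.Quotient.eq_zero_iff_mem.mpr (Ideal.mem_span_singleton_self π)
  have hrel : ∀ i, ∑ j, algebraMap A (A ⧸ Ideal.span {π}) (a i j) •
      ((1 : A ⧸ Ideal.span {π}) ⊗ₜ[A] y j) = 0 := by
    intro i
    have h : ∑ j, a i j • ((1 : A ⧸ Ideal.span {π}) ⊗ₜ[A] y j) =
        π • ((1 : A ⧸ Ideal.span {π}) ⊗ₜ[A] x i) := by
      simp_rw [← TensorProduct.tmul_smul]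
      rw [← TensorProduct.tmul_sum, ← h1 i]
    simp_rw [algebraMap_smul]
    rw [h, TensorProduct.smul_tmul', Algebra.smul_def, hmkπ, zero_mul, TensorProduct.zero_tmul]
  obtain ⟨k₂, c', z', h3, h4⟩ := exists_simultaneous (R := A ⧸ Ideal.span {π})
    (M := (A ⧸ Ideal.span {π}) ⊗[A] M) l
    (fun i j => algebraMap A (A ⧸ Ideal.span {π}) (a i j))
    (fun j => (1 : A ⧸ Ideal.span {π}) ⊗ₜ[A] y j) hrel
  choose c hc using fun j m => Ideal.Quotient.mk_surjective (c' j m)
  choose z hz using fun m => exists_one_tmul (M := M) (Ideal.span {π}) (z' m)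
  have hw : ∀ j, ∃ w : M, y j - ∑ m, c j m • z m = π • w := by
    intro j
    apply exists_smul_of_one_tmul_eq_zero
    rw [TensorProduct.tmul_sub, TensorProduct.tmul_sum, sub_eq_zero, h3 j]
    refine Finset.sum_congr rfl fun m _ => ?_
    rw [← hc j m, ← hz m, TensorProduct.tmul_smul]
    exact (algebraMap_smul (A ⧸ Ideal.span {π}) (c j m) _)
  choose w hw using hw
  have hd : ∀ i m, ∃ d : A, ∑ j, a i j * c j m = π * d := by
    intro i m
    have h : Ideal.Quotient.mk (Ideal.span {π}) (∑ j, a i j * c j m) = 0 := by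
      rw [map_sum]
      simp only [map_mul, hc]
      exact h4 i m
    rw [Ideal.Quotient.eq_zero_iff_mem, Ideal.mem_span_singleton'] at h
    obtain ⟨d, hd⟩ := h
    exact ⟨d, by rw [← hd, mul_comm]⟩
  choose d hd using hd
  have hy : ∀ j, y j = ∑ m, c j m • z m + π • w j := fun j => by rw [← hw j]; abel
  refine ⟨Fin k₂ ⊕ κ, inferInstance, fun i => Sum.elim (d i) (a i), Sum.elim z w, ?_, ?_⟩
  · intro i
    rw [Fintype.sum_sum_type]
    simp only [Sum.elim_inl, Sum.elim_inr]
    have h0 : π • (x i - (∑ m, d i m • z m + ∑ j, a i j • w j)) = 0 := by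
      rw [smul_sub, h1 i, smul_add, Finset.smul_sum, Finset.smul_sum, sub_eq_zero]
      have e1 : ∑ j, a i j • y j =
          ∑ j, a i j • ∑ m, c j m • z m + ∑ j, a i j • π • w j := by
        rw [← Finset.sum_add_distrib]
        refine Finset.sum_congr rfl fun j _ => ?_
        rw [← smul_add, ← hy j]
      rw [e1]
      congr 1
      · simp_rw [Finset.smul_sum, ← mul_smul]
        rw [Finset.sum_comm]
        refine Finset.sum_congr rfl fun m _ => ?_
        rw [← Finset.sum_smul, hd i m]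
      · refine Finset.sum_congr rfl fun j _ => ?_
        rw [smul_comm]
    exact sub_eq_zero.mp (hT _ h0)
  · intro s
    cases s with
    | inl m =>
      simp only [Sum.elim_inl]
      have h0 : π * ∑ i, f i * d i m = 0 := by
        rw [Finset.mul_sum]
        calc ∑ i, π * (f i * d i m) = ∑ i, f i * ∑ j, a i j * c j m := by
              refine Finset.sum_congr rfl fun i _ => ?_
              rw [hd i m]
              ring
          _ = ∑ j, (∑ i, f i * a i j) * c j m := by
              simp_rw [Finset.mul_sum, Finset.sum_mul, mul_assoc]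
              rw [Finset.sum_comm]
          _ = 0 := by
              simp_rw [h2, zero_mul]
              exact Finset.sum_const_zero
      exact (mul_left_mem_nonZeroDivisors_eq_zero_iff hπ).mp h0
    | inr j =>
      simp only [Sum.elim_inr]
      exact h2 j

theorem triv_of_pow (hπ : π ∈ nonZeroDivisors A)
    (hT : ∀ (x : M) (n : ℕ), π ^ n • x = 0 → x = 0)
    [Module.Flat (A ⧸ Ideal.span {π}) ((A ⧸ Ideal.span {π}) ⊗[A] M)]
    {l : ℕ} (f : Fin l → A) :
    ∀ (K : ℕ) (x : Fin l → M) (κ : Type) [Fintype κ] (a : Fin l → κ → A) (y : κ → M),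
      (∀ i, π ^ K • x i = ∑ j, a i j • y j) → (∀ j, ∑ i, f i * a i j = 0) → Triv f x := by
  intro K
  induction K with
  | zero =>
    intro x κ _ a y h1 h2
    exact ⟨κ, inferInstance, a, y, fun i => by simpa using h1 i, h2⟩
  | succ K ih =>
    intro x κ _ a y h1 h2
    have hT1 : ∀ x : M, π • x = 0 → x = 0 := fun x hx => hT x 1 (by rwa [pow_one])
    obtain ⟨κ', _, a', y', h1', h2'⟩ := stepB A π M hπ hT1 f (fun i => π ^ K • x i) a y
      (fun i => by rw [← mul_smul, ← pow_succ']; exact h1 i) h2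
    exact ih x κ' a' y' h1' h2'

theorem main11538 (hπ : π ∈ nonZeroDivisors A) :
    Module.Flat A M ↔
      (∀ (x : M) (n : ℕ), π ^ n • x = 0 → x = 0) ∧
        Module.Flat (A ⧸ Ideal.span {π}) ((A ⧸ Ideal.span {π}) ⊗[A] M) ∧
        Module.Flat (Localization.Away π) ((Localization.Away π) ⊗[A] M) := by
  constructor
  · intro hflat
    refine ⟨fun x n hx => ?_, inferInstance, inferInstance⟩
    have hreg : IsSMulRegular M (π ^ n) :=
      Module.Flat.isSMulRegular_of_nonZeroDivisors (pow_mem hπ n)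
    exact hreg (by show π ^ n • x = π ^ n • 0; rw [hx, smul_zero])
  · rintro ⟨hT, h0, h1⟩
    refine Module.Flat.of_forall_isTrivialRelation ?_
    intro l f x hfx
    obtain ⟨K, k, a, y, ha, hr⟩ := stepA A π M hπ hT f x hfx
    exact (triv_of_pow A π M hπ hT f K x (Fin k) a y ha hr).isTrivialRelation

end Groth.Agent.Helper17.FP
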