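import Mathlib
import Groth.Prelude.Def_ModSite
import Groth.Prelude.Def_AlgSpPerf
import Groth.Agent.Lib.Helper17.MT20
import Groth.Agent.Lib.Helper17.MT26

/-!
# Local lifting of morphisms from summands of finite free modules through epimorphisms
-/

open CategoryTheory Limits Opposite

namespace Groth.Agent.Helper17.FS

open Groth.Agent.Helper17.MT

universe u

variable {C : Type u} [SmallCategory C] {J : GrothendieckTopology C} (O : Sheaf J CommRingCat.{u})

/-- the sieve of arrows lying in all members of a family of sieves -/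
def allSieve {V : C} {n : ℕ} (R : Fin n → Sieve V) : Sieve V where
  arrows W g := ∀ k, R k g
  downward_closed := fun h f k => (R k).downward_closed (h k) f

theorem allSieve_mem {V : C} : ∀ {n : ℕ} (R : Fin n → Sieve V), (∀ k, R k ∈ J V) →
    allSieve R ∈ J V := by
  intro n
  induction n with
  | zero =>
    intro R _
    refine J.covering_of_eq_top ?_
    rw [← Sieve.id_mem_iff_eq_top]
    exact fun k => k.elim0
  | succ n ih =>
    intro R hR
    refine J.superset_covering ?_
      (J.intersection_covering (hR 0) (ih (fun k => R k.succ) (fun k => hR k.succ)))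
    rintro W g ⟨h0, hs⟩ k
    exact Fin.cases h0 (fun k => hs k) k

theorem main9041 (E F G : ModSite.Mod O)
    (hE : DCoh.IsFinFreeSummandMod (ModSite.ringSh O) E)
    (p : G ⟶ F) [Epi p] (φ : E ⟶ F) (V : C) :
    ∃ R ∈ J V, ∀ ⦃W : C⦄ (g : W ⟶ V), R g →
      ∃ l : (ModSite.restr O W).obj E ⟶ (ModSite.restr O W).obj G,
        l ≫ (ModSite.restr O W).map p = (ModSite.restr O W).map φ := by
  obtain ⟨n, i, q, hiq⟩ := hE
  have hp : Presheaf.IsLocallySurjective J
      ((SheafOfModules.toSheaf.{u} (ModSite.ringSh O)).map p).hom :=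
    (epi_iff_isLocallySurjective p).mp inferInstance
  -- the morphisms from the unit and their sections over `V`
  let ψ : ULift.{u} (Fin n) → (ModSite.unit O ⟶ F) := fun k =>
    SheafOfModules.ιFree (R := ModSite.ringSh O) k ≫ q ≫ φ
  let f : ULift.{u} (Fin n) → F.val.obj (op V) := fun k =>
    (ψ k).val.app (op V) (1 : (ModSite.ringSh O).obj.obj (op V))
  refine ⟨allSieve (fun k => Presheaf.imageSieve
    ((SheafOfModules.toSheaf.{u} (ModSite.ringSh O)).map p).hom (f (ULift.up k))),
    allSieve_mem _ (fun k => Presheaf.imageSieve_mem J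
      ((SheafOfModules.toSheaf.{u} (ModSite.ringSh O)).map p).hom (U := op V) (f (ULift.up k))), ?_⟩
  intro W g hg
  choose t ht using hg
  have ht' : ∀ k, p.val.app (op W) (t k) = res F g (f (ULift.up k)) := ht
  have hψ : ∀ k : ULift.{u} (Fin n),
      (ψ k).val.app (op W) (1 : (ModSite.ringSh O).obj.obj (op W)) = res F g (f k) := by
    intro k
    have h1 := PresheafOfModules.naturality_apply (ψ k).val g.op
      (show (ModSite.unit O).val.obj (op V) from (1 : (ModSite.ringSh O).obj.obj (op V)))
    have h2 : (ModSite.unit O).val.map g.op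
        (show (ModSite.unit O).val.obj (op V) from (1 : (ModSite.ringSh O).obj.obj (op V))) =
        (1 : (ModSite.ringSh O).obj.obj (op W)) := map_one ((ModSite.ringSh O).obj.map g.op).hom
    rw [h2] at h1
    exact h1
  have key : ∀ k : ULift.{u} (Fin n),
      (hatEquiv (O.over W) Over.mkIdTerminal ((ModSite.restr O W).obj G) (t k.down) :
        ModSite.unit (O.over W) ⟶ (ModSite.restr O W).obj G) ≫ (ModSite.restr O W).map p =
      (show ModSite.unit (O.over W) ⟶ (ModSite.restr O W).obj F from
        (ModSite.restr O W).map (ψ k)) := by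
    intro k
    apply unit_hom_ext (O.over W) Over.mkIdTerminal
    have e1 : (hatEquiv (O.over W) Over.mkIdTerminal ((ModSite.restr O W).obj G) (t k.down)).val.app
        (op (Over.mk (𝟙 W))) (1 : (ModSite.ringSh (O.over W)).obj.obj (op (Over.mk (𝟙 W)))) =
        t k.down := evalOne_homOfSection (O.over W) Over.mkIdTerminal _ _
    change p.val.app (op W) ((hatEquiv (O.over W) Over.mkIdTerminal
      ((ModSite.restr O W).obj G) (t k.down)).val.app
        (op (Over.mk (𝟙 W))) (1 : (ModSite.ringSh (O.over W)).obj.obj (op (Over.mk (𝟙 W))))) =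
      (ψ k).val.app (op W) (1 : (ModSite.ringSh O).obj.obj (op W))
    rw [e1, hψ k]
    exact ht' k.down
  refine ⟨(ModSite.restr O W).map i ≫ ∑ k : ULift.{u} (Fin n),
    (show (ModSite.restr O W).obj (SheafOfModules.free (R := ModSite.ringSh O) (ULift.{u} (Fin n))) ⟶
        ModSite.unit (O.over W) from (ModSite.restr O W).map (freeπ (ModSite.ringSh O) k)) ≫
      hatEquiv (O.over W) Over.mkIdTerminal ((ModSite.restr O W).obj G) (t k.down), ?_⟩
  rw [Category.assoc, Preadditive.sum_comp]
  have h3 : ∀ k : ULift.{u} (Fin n),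
      ((show (ModSite.restr O W).obj
          (SheafOfModules.free (R := ModSite.ringSh O) (ULift.{u} (Fin n))) ⟶
        ModSite.unit (O.over W) from (ModSite.restr O W).map (freeπ (ModSite.ringSh O) k)) ≫
      hatEquiv (O.over W) Over.mkIdTerminal ((ModSite.restr O W).obj G) (t k.down)) ≫
        (ModSite.restr O W).map p =
      (ModSite.restr O W).map (freeπ (ModSite.ringSh O) k ≫ ψ k) := by
    intro k
    rw [Category.assoc, key k, Functor.map_comp]
    rfl
  rw [Finset.sum_congr rfl (fun k _ => h3 k), ← Functor.map_sum, ← Functor.map_comp]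
  congr 1
  have h4 : ∑ k : ULift.{u} (Fin n), freeπ (ModSite.ringSh O) k ≫ ψ k =
      (∑ k : ULift.{u} (Fin n), freeπ (ModSite.ringSh O) k ≫
        SheafOfModules.ιFree (R := ModSite.ringSh O) k) ≫ q ≫ φ := by
    rw [Preadditive.sum_comp]
    exact Finset.sum_congr rfl (fun k _ => (Category.assoc _ _ _).symm)
  rw [h4, sum_freeπ_ιFree, Category.id_comp, ← Category.assoc, hiq, Category.id_comp]

end Groth.Agent.Helper17.FS
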