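import Mathlib

/-!
# Noetherian objects in abelian categories: quotients and extensions
-/

set_option autoImplicit false

universe v u

namespace Groth.Agent.Helper17.GA

open CategoryTheory Limits

variable {C : Type u} [Category.{v} C] [Abelian C]

lemma mk_le_mk_of_comp_cokernel_eq_zero {X Z Z' : C} (m : Z ⟶ X) (m' : Z' ⟶ X) [Mono m] [Mono m']
    (h : m ≫ cokernel.π m' = 0) : Subobject.mk m ≤ Subobject.mk m' :=
  Subobject.mk_le_mk_of_comm (Abelian.monoLift m' m h) (Abelian.monoLift_comp m' m h)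

lemma le_of_comp_cokernel_eq_zero {X : C} (s s' : Subobject X)
    (h : s.arrow ≫ cokernel.π s'.arrow = 0) : s ≤ s' := by
  have := mk_le_mk_of_comp_cokernel_eq_zero s.arrow s'.arrow h
  simpa using this

/-- Preimage of a subobject, described as a kernel. -/
noncomputable def pre {X Y : C} (p : X ⟶ Y) (s : Subobject Y) : Subobject X :=
  Subobject.mk (kernel.ι (p ≫ cokernel.π s.arrow))

lemma pre_mono {X Y : C} (p : X ⟶ Y) {s s' : Subobject Y} (h : s ≤ s') :
    pre p s ≤ pre p s' := by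
  have h0 : s.arrow ≫ cokernel.π s'.arrow = 0 := by
    rw [← Subobject.ofLE_arrow h, Category.assoc, cokernel.condition, comp_zero]
  refine Subobject.mk_le_mk_of_comm (kernel.lift _ (kernel.ι _) ?_) (kernel.lift_ι _ _ _)
  calc kernel.ι (p ≫ cokernel.π s.arrow) ≫ p ≫ cokernel.π s'.arrow
      = (kernel.ι (p ≫ cokernel.π s.arrow) ≫ p ≫ cokernel.π s.arrow) ≫
          cokernel.desc s.arrow (cokernel.π s'.arrow) h0 := by
        simp only [Category.assoc, cokernel.π_desc]
    _ = 0 := by rw [kernel.condition, zero_comp]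

lemma le_of_pre_le {X Y : C} (p : X ⟶ Y) [Epi p] {s s' : Subobject Y}
    (h : pre p s ≤ pre p s') : s ≤ s' := by
  have h1 : kernel.ι (p ≫ cokernel.π s.arrow) ≫ p ≫ cokernel.π s'.arrow = 0 := by
    have := Subobject.ofMkLEMk_comp h
    rw [← this, Category.assoc, kernel.condition, comp_zero]
  have h2 : pullback.snd s.arrow p ≫ p ≫ cokernel.π s.arrow = 0 := by
    rw [← pullback.condition_assoc, cokernel.condition, comp_zero]
  have h3 : s.arrow ≫ cokernel.π s'.arrow = 0 := by
    rw [← cancel_epi (pullback.fst s.arrow p), comp_zero, pullback.condition_assoc,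
      ← kernel.lift_ι (p ≫ cokernel.π s.arrow) (pullback.snd s.arrow p) h2, Category.assoc, h1,
      comp_zero]
  exact le_of_comp_cokernel_eq_zero s s' h3

/-- A quotient of a noetherian object is noetherian. -/
theorem isNoetherianObject_of_epi {X Y : C} (p : X ⟶ Y) [Epi p] [IsNoetherianObject X] :
    IsNoetherianObject Y := by
  rw [isNoetherianObject_iff_monotone_chain_condition]
  intro f
  obtain ⟨n, hn⟩ := monotone_chain_condition_of_isNoetherianObject
    (⟨fun k => pre p (f k), fun a b hab => pre_mono p (f.monotone hab)⟩ : ℕ →o Subobject X)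
  refine ⟨n, fun m hm => ?_⟩
  have h : pre p (f n) = pre p (f m) := hn m hm
  exact le_antisymm (f.monotone hm) (le_of_pre_le p h.ge)

/-- Image of a subobject, described as the kernel of a cokernel. -/
noncomputable def im {X Y : C} (p : X ⟶ Y) (s : Subobject X) : Subobject Y :=
  Subobject.mk (kernel.ι (cokernel.π (s.arrow ≫ p)))

lemma im_mono {X Y : C} (p : X ⟶ Y) {s s' : Subobject X} (h : s ≤ s') :
    im p s ≤ im p s' := by
  have h1 : s'.arrow ≫ p ≫ cokernel.π (s'.arrow ≫ p) = 0 := by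
    rw [← Category.assoc, cokernel.condition]
  have h0 : (s.arrow ≫ p) ≫ cokernel.π (s'.arrow ≫ p) = 0 := by
    rw [← Subobject.ofLE_arrow h]
    simp only [Category.assoc]
    rw [h1, comp_zero]
  refine Subobject.mk_le_mk_of_comm (kernel.lift _ (kernel.ι _) ?_) (kernel.lift_ι _ _ _)
  calc kernel.ι (cokernel.π (s.arrow ≫ p)) ≫ cokernel.π (s'.arrow ≫ p)
      = (kernel.ι (cokernel.π (s.arrow ≫ p)) ≫ cokernel.π (s.arrow ≫ p)) ≫
          cokernel.desc (s.arrow ≫ p) (cokernel.π (s'.arrow ≫ p)) h0 := by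
        simp only [Category.assoc, cokernel.π_desc]
    _ = 0 := by rw [kernel.condition, zero_comp]

lemma le_of_pre_le_of_im_le (S : ShortComplex C) (hS : S.ShortExact) {f f' : Subobject S.X₂}
    (hle : f ≤ f') (h1 : pre S.f f' ≤ pre S.f f) (h2 : im S.g f' ≤ im S.g f) : f' ≤ f := by
  have e1 : kernel.ι (S.f ≫ cokernel.π f'.arrow) ≫ S.f ≫ cokernel.π f.arrow = 0 := by
    rw [← Subobject.ofMkLEMk_comp h1, Category.assoc, kernel.condition, comp_zero]
  have e2 : (f'.arrow ≫ S.g) ≫ cokernel.π (f.arrow ≫ S.g) = 0 := by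
    have e2' : kernel.ι (cokernel.π (f'.arrow ≫ S.g)) ≫ cokernel.π (f.arrow ≫ S.g) = 0 := by
      rw [← Subobject.ofMkLEMk_comp h2, Category.assoc, kernel.condition, comp_zero]
    calc (f'.arrow ≫ S.g) ≫ cokernel.π (f.arrow ≫ S.g)
        = Abelian.factorThruImage (f'.arrow ≫ S.g) ≫
            kernel.ι (cokernel.π (f'.arrow ≫ S.g)) ≫ cokernel.π (f.arrow ≫ S.g) := by
          rw [← Category.assoc, Abelian.image.fac]
      _ = 0 := by rw [e2', comp_zero]
  have hj : Subobject.ofLE f f' hle ≫ f'.arrow = f.arrow := Subobject.ofLE_arrow hle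
  have hjt : Subobject.ofLE f f' hle ≫ f'.arrow ≫ cokernel.π f.arrow = 0 := by
    rw [← Category.assoc, hj, cokernel.condition]
  -- Step A
  have hA : kernel.ι (f'.arrow ≫ S.g) ≫ f'.arrow ≫ cokernel.π f.arrow = 0 := by
    have hk : (kernel.ι (f'.arrow ≫ S.g) ≫ f'.arrow) ≫ S.g = 0 := by
      rw [Category.assoc]
      exact kernel.condition _
    obtain ⟨w, hw⟩ : ∃ w : kernel (f'.arrow ≫ S.g) ⟶ S.X₁,
        w ≫ S.f = kernel.ι (f'.arrow ≫ S.g) ≫ f'.arrow :=
      ⟨hS.fIsKernel.lift (KernelFork.ofι _ hk), Fork.IsLimit.lift_ι hS.fIsKernel⟩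
    have hw2 : w ≫ S.f ≫ cokernel.π f'.arrow = 0 := by
      rw [← Category.assoc, hw, Category.assoc, cokernel.condition, comp_zero]
    calc kernel.ι (f'.arrow ≫ S.g) ≫ f'.arrow ≫ cokernel.π f.arrow
        = (w ≫ S.f) ≫ cokernel.π f.arrow := by rw [hw, Category.assoc]
      _ = kernel.lift (S.f ≫ cokernel.π f'.arrow) w hw2 ≫
            kernel.ι (S.f ≫ cokernel.π f'.arrow) ≫ S.f ≫ cokernel.π f.arrow := by
          rw [← Category.assoc, kernel.lift_ι, Category.assoc]
      _ = 0 := by rw [e1, comp_zero]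
  -- Step B
  have hB : Abelian.coimage.π (f'.arrow ≫ S.g) ≫
      cokernel.desc (kernel.ι (f'.arrow ≫ S.g)) (f'.arrow ≫ cokernel.π f.arrow) hA =
        f'.arrow ≫ cokernel.π f.arrow := cokernel.π_desc _ _ _
  -- Step C
  have hm' : Abelian.coimage.π (f'.arrow ≫ S.g) ≫ Abelian.factorThruCoimage (f'.arrow ≫ S.g) =
      f'.arrow ≫ S.g := Abelian.coimage.fac _
  have hm'π : Abelian.factorThruCoimage (f'.arrow ≫ S.g) ≫ cokernel.π (f.arrow ≫ S.g) = 0 := by
    rw [← cancel_epi (Abelian.coimage.π (f'.arrow ≫ S.g)), comp_zero, ← Category.assoc, hm']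
    exact e2
  have hl : kernel.lift (cokernel.π (f.arrow ≫ S.g))
      (Abelian.factorThruCoimage (f'.arrow ≫ S.g)) hm'π ≫ kernel.ι (cokernel.π (f.arrow ≫ S.g)) =
        Abelian.factorThruCoimage (f'.arrow ≫ S.g) := kernel.lift_ι _ _ _
  have hlmono : Mono (kernel.lift (cokernel.π (f.arrow ≫ S.g))
      (Abelian.factorThruCoimage (f'.arrow ≫ S.g)) hm'π) := mono_of_mono_fac hl
  have hfu : Abelian.factorThruImage (f.arrow ≫ S.g) ≫ kernel.ι (cokernel.π (f.arrow ≫ S.g)) =
      f.arrow ≫ S.g := Abelian.image.fac _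
  have hC1 : (Subobject.ofLE f f' hle ≫ Abelian.coimage.π (f'.arrow ≫ S.g)) ≫
      kernel.lift (cokernel.π (f.arrow ≫ S.g))
        (Abelian.factorThruCoimage (f'.arrow ≫ S.g)) hm'π =
      Abelian.factorThruImage (f.arrow ≫ S.g) := by
    rw [← cancel_mono (kernel.ι (cokernel.π (f.arrow ≫ S.g))), Category.assoc, hl, hfu,
      Category.assoc, hm', ← Category.assoc, hj]
  have hlepi : Epi (kernel.lift (cokernel.π (f.arrow ≫ S.g))
      (Abelian.factorThruCoimage (f'.arrow ≫ S.g)) hm'π) := epi_of_epi_fac hC1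
  have hliso : IsIso (kernel.lift (cokernel.π (f.arrow ≫ S.g))
      (Abelian.factorThruCoimage (f'.arrow ≫ S.g)) hm'π) := isIso_of_mono_of_epi _
  have hC : Epi (Subobject.ofLE f f' hle ≫ Abelian.coimage.π (f'.arrow ≫ S.g)) := by
    have : Subobject.ofLE f f' hle ≫ Abelian.coimage.π (f'.arrow ≫ S.g) =
        Abelian.factorThruImage (f.arrow ≫ S.g) ≫ inv (kernel.lift (cokernel.π (f.arrow ≫ S.g))
          (Abelian.factorThruCoimage (f'.arrow ≫ S.g)) hm'π) := by
      rw [← hC1, Category.assoc, IsIso.hom_inv_id, Category.comp_id]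
    rw [this]
    infer_instance
  have htbar : cokernel.desc (kernel.ι (f'.arrow ≫ S.g)) (f'.arrow ≫ cokernel.π f.arrow) hA = 0 := by
    rw [← cancel_epi (Subobject.ofLE f f' hle ≫ Abelian.coimage.π (f'.arrow ≫ S.g)), comp_zero,
      Category.assoc, hB, hjt]
  have ht : f'.arrow ≫ cokernel.π f.arrow = 0 := by rw [← hB, htbar, comp_zero]
  exact le_of_comp_cokernel_eq_zero f' f ht

/-- An extension of noetherian objects is noetherian. -/
theorem isNoetherianObject_of_shortExact (S : ShortComplex C) (hS : S.ShortExact)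
    [IsNoetherianObject S.X₁] [IsNoetherianObject S.X₃] : IsNoetherianObject S.X₂ := by
  rw [isNoetherianObject_iff_monotone_chain_condition]
  intro f
  obtain ⟨n₁, hn₁⟩ := monotone_chain_condition_of_isNoetherianObject
    (⟨fun k => pre S.f (f k), fun a b hab => pre_mono S.f (f.monotone hab)⟩ :
      ℕ →o Subobject S.X₁)
  obtain ⟨n₂, hn₂⟩ := monotone_chain_condition_of_isNoetherianObject
    (⟨fun k => im S.g (f k), fun a b hab => im_mono S.g (f.monotone hab)⟩ :
      ℕ →o Subobject S.X₃)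
  refine ⟨max n₁ n₂, fun m hm => ?_⟩
  have h1 : pre S.f (f (max n₁ n₂)) = pre S.f (f m) :=
    (hn₁ _ (le_max_left _ _)).symm.trans (hn₁ m ((le_max_left _ _).trans hm))
  have h2 : im S.g (f (max n₁ n₂)) = im S.g (f m) :=
    (hn₂ _ (le_max_right _ _)).symm.trans (hn₂ m ((le_max_right _ _).trans hm))
  exact le_antisymm (f.monotone hm)
    (le_of_pre_le_of_im_le S hS (f.monotone hm) h1.ge h2.ge)

/-- A binary biproduct of noetherian objects is noetherian. -/
theorem isNoetherianObject_biprod (X Y : C) [IsNoetherianObject X] [IsNoetherianObject Y] :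
    IsNoetherianObject (X ⊞ Y) := by
  let S : ShortComplex C :=
    ShortComplex.mk (biprod.inl : X ⟶ X ⊞ Y) (biprod.snd : X ⊞ Y ⟶ Y) (by simp)
  have : IsNoetherianObject S.X₁ := ‹IsNoetherianObject X›
  have : IsNoetherianObject S.X₃ := ‹IsNoetherianObject Y›
  exact isNoetherianObject_of_shortExact S
    (ShortComplex.Splitting.ofHasBinaryBiproduct X Y).shortExact

end Groth.Agent.Helper17.GA
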