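import Mathlib
import Groth.Agent.Lib.Helper17.GA1

/-!
# Transfer along a faithful exact left adjoint: basic lemmas
-/

set_option autoImplicit false

universe w u₁ u₂

namespace Groth.Agent.Helper17.GA

open CategoryTheory Limits

section Transfer

variable {A : Type u₁} [Category.{w} A] [Abelian A] {B : Type u₂} [Category.{w} B] [Abelian B]
  (F : A ⥤ B) [F.Additive] [F.Faithful] [PreservesFiniteLimits F] [PreservesFiniteColimits F]

/-- The map on subobjects induced by `F`. -/
noncomputable def subMap (a : A) (s : Subobject a) : Subobject (F.obj a) :=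
  Subobject.mk (F.map s.arrow)

omit [F.Faithful] in
lemma subMap_mono (a : A) {s s' : Subobject a} (h : s ≤ s') : subMap F a s ≤ subMap F a s' :=
  Subobject.mk_le_mk_of_comm (F.map (Subobject.ofLE s s' h))
    (by rw [← F.map_comp, Subobject.ofLE_arrow])

lemma le_of_subMap_le (a : A) {s s' : Subobject a} (h : subMap F a s ≤ subMap F a s') :
    s ≤ s' := by
  have h1 : F.map (s.arrow ≫ cokernel.π s'.arrow) = 0 := by
    rw [F.map_comp, ← Subobject.ofMkLEMk_comp h, Category.assoc, ← F.map_comp,
      cokernel.condition, F.map_zero, comp_zero]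
  have h2 : s.arrow ≫ cokernel.π s'.arrow = 0 := (F.map_eq_zero_iff).mp h1
  exact le_of_comp_cokernel_eq_zero s s' h2

/-- `F` reflects noetherian objects. -/
theorem isNoetherianObject_of_map (a : A) [IsNoetherianObject (F.obj a)] :
    IsNoetherianObject a := by
  rw [isNoetherianObject_iff_monotone_chain_condition]
  intro f
  obtain ⟨n, hn⟩ := monotone_chain_condition_of_isNoetherianObject
    (⟨fun k => subMap F a (f k), fun x y hxy => subMap_mono F a (f.monotone hxy)⟩ :
      ℕ →o Subobject (F.obj a))
  refine ⟨n, fun m hm => le_antisymm (f.monotone hm) (le_of_subMap_le F a ?_)⟩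
  have h : subMap F a (f n) = subMap F a (f m) := hn m hm
  exact h.ge

include F in
theorem wellPowered_of_faithful_exact [WellPowered.{w} B] : WellPowered.{w} A where
  subobject_small a := small_of_injective (f := subMap F a)
    (fun _ _ h => le_antisymm (le_of_subMap_le F a h.le) (le_of_subMap_le F a h.ge))

variable {G : B ⥤ A} (adj : F ⊣ G)

include adj in
omit [Abelian A] [Abelian B] [F.Additive] [PreservesFiniteLimits F] [PreservesFiniteColimits F] in
lemma mono_unit_app (X : A) : Mono (adj.unit.app X) := by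
  constructor
  intro Z u v h
  apply F.map_injective
  have := congrArg (fun t => F.map t ≫ adj.counit.app (F.obj X)) h
  simpa using this

include adj in
omit [Abelian B] [F.Additive] [PreservesFiniteColimits F] in
theorem ab5 [HasColimitsOfSize.{w, w} A] [HasColimitsOfSize.{w, w} B] [AB5OfSize.{w, w} B] :
    AB5OfSize.{w, w} A where
  ofShape J _ _ := by
    have : PreservesColimitsOfSize.{w, w} F := adj.leftAdjoint_preservesColimits
    exact HasExactColimitsOfShape.domain_of_functor J F

end Transfer

section Vanishing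

variable {A : Type u₁} [Category.{w} A] [Abelian A]

theorem eq_zero_of_filtered {J : Type w} [SmallCategory J] [IsFiltered J]
    [HasColimitsOfShape J A] [HasExactColimitsOfShape J A]
    (a : A) (E : J ⥤ A) (φ : (Functor.const J).obj a ⟶ E) (hE : IsZero (colimit E))
    {a' : A} (h : a ⟶ a') (hh : ∀ j, kernel.ι (φ.app j) ≫ h = 0) : h = 0 := by
  let S : ShortComplex (J ⥤ A) := ShortComplex.mk (kernel.ι φ) φ (kernel.condition φ)
  have hS : S.Exact := S.exact_of_f_is_kernel (kernelIsKernel φ)
  have hS' : (S.map colim).Exact := hS.map colim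
  have hg : (S.map colim).g = 0 := hE.eq_of_tgt _ _
  have hepi : Epi (colim.map (kernel.ι φ)) := hS'.epi_f hg
  have h0 : colim.map (kernel.ι φ) ≫
      colimit.desc ((Functor.const J).obj a) ⟨a, 𝟙 _⟩ ≫ h = 0 := by
    apply colimit.hom_ext
    intro j
    have hj : (kernel.ι φ).app j ≫ φ.app j = 0 := by
      rw [← NatTrans.comp_app, kernel.condition]
      rfl
    have hfac : (kernel.ι φ).app j =
        kernel.lift (φ.app j) ((kernel.ι φ).app j) hj ≫ kernel.ι (φ.app j) :=
      (kernel.lift_ι _ _ _).symm
    rw [comp_zero]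
    show colimit.ι (kernel φ) j ≫ colimMap (kernel.ι φ) ≫ _ ≫ h = 0
    rw [ι_colimMap_assoc, colimit.ι_desc_assoc]
    dsimp
    rw [Category.id_comp, hfac, Category.assoc, hh j, comp_zero]
  have h1 : colimit.desc ((Functor.const J).obj a) ⟨a, 𝟙 _⟩ ≫ h = 0 := by
    rw [← cancel_epi (colim.map (kernel.ι φ)), h0, comp_zero]
  obtain ⟨j₀⟩ := IsFiltered.nonempty (C := J)
  have h2 : colimit.ι ((Functor.const J).obj a) j₀ ≫
      colimit.desc ((Functor.const J).obj a) ⟨a, 𝟙 _⟩ = 𝟙 a := by
    simp
  have h3 := congrArg (fun t => t ≫ h) h2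
  simp only [Category.assoc, h1, comp_zero] at h3
  exact (Category.id_comp h).symm.trans h3.symm

variable {B : Type u₂} [Category.{w} B] [Abelian B]
  (F : A ⥤ B) [F.Additive] {G : B ⥤ A} (adj : F ⊣ G)

include adj in
theorem eq_zero_of_exhaustion {J : Type w} [SmallCategory J] [IsFiltered J]
    [HasColimitsOfShape J A] [HasExactColimitsOfShape J A] [HasColimitsOfShape J B]
    [PreservesColimitsOfShape J G]
    (a : A) (Q : J ⥤ B) (π : (Functor.const J).obj (F.obj a) ⟶ Q) (hQ : IsZero (colimit Q))
    {a' : A} (h : a ⟶ a')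
    (hh : ∀ j, kernel.ι (adj.homEquiv a (Q.obj j) (π.app j)) ≫ h = 0) : h = 0 := by
  have : G.Additive := adj.right_adjoint_additive
  let φ : (Functor.const J).obj a ⟶ Q ⋙ G :=
    { app := fun j => adj.homEquiv a (Q.obj j) (π.app j)
      naturality := fun j j' f => by
        have h1 := π.naturality f
        dsimp at h1 ⊢
        rw [Category.id_comp] at h1 ⊢
        rw [← adj.homEquiv_naturality_right, ← h1] }
  have hE : IsZero (colimit (Q ⋙ G)) :=
    (G.map_isZero hQ).of_iso (preservesColimitIso G Q).symm
  exact eq_zero_of_filtered a (Q ⋙ G) φ hE h hh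

end Vanishing

end Groth.Agent.Helper17.GA
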