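import Mathlib
import Groth.Agent.Lib.Helper17.GA2

/-!
# Exhausting an object by finitely generated subobjects (via a separating family)
-/

set_option autoImplicit false

universe w u₁ u₂

namespace Groth.Agent.Helper17.GA

open CategoryTheory Limits ZeroObject

section Construction

variable {B : Type u₂} [Category.{w} B] [Abelian B] {ι : Type w}

/-- Iterated biproduct of members of the family `s`. -/
noncomputable def dom (s : ι → B) : List ι → B
  | [] => 0
  | i :: l => s i ⊞ dom s l

/-- The morphism from the iterated biproduct induced by a list of morphisms. -/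
noncomputable def sig (s : ι → B) (M : B) :
    (L : List (Σ i, s i ⟶ M)) → (dom s (L.map Sigma.fst) ⟶ M)
  | [] => 0
  | x :: L => biprod.desc x.2 (sig s M L)

variable (s : ι → B) (M : B)

lemma sig_comp_eq_zero_iff (L : List (Σ i, s i ⟶ M)) {T : B} (g : M ⟶ T) :
    sig s M L ≫ g = 0 ↔ ∀ x ∈ L, x.2 ≫ g = 0 := by
  induction L with
  | nil => simp [sig]
  | cons x L ih =>
    rw [List.forall_mem_cons, ← ih]
    show biprod.desc x.2 (sig s M L) ≫ g = 0 ↔ _
    constructor
    · intro h
      constructor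
      · rw [← biprod.inl_desc x.2 (sig s M L), Category.assoc, h, comp_zero]
      · rw [← biprod.inr_desc x.2 (sig s M L), Category.assoc, h, comp_zero]
    · rintro ⟨h1, h2⟩
      apply biprod.hom_ext'
      · rw [biprod.inl_desc_assoc, h1, comp_zero]
      · rw [biprod.inr_desc_assoc, h2, comp_zero]

lemma isNoetherianObject_dom (hsN : ∀ i, IsNoetherianObject (s i)) (l : List ι) :
    IsNoetherianObject (dom s l) := by
  induction l with
  | nil => exact isNoetherianObject_of_isZero (isZero_zero B)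
  | cons i l ih =>
    have := hsN i
    exact isNoetherianObject_biprod (s i) (dom s l)

/-- The index category: finite lists of morphisms from members of the family into `M`. -/
structure Idx (s : ι → B) (M : B) : Type w where
  /-- the underlying list -/
  l : List (Σ i, s i ⟶ M)

instance : Preorder (Idx s M) where
  le x y := x.l ⊆ y.l
  le_refl x := List.Subset.refl x.l
  le_trans _ _ _ h1 h2 := List.Subset.trans h1 h2

instance : Nonempty (Idx s M) := ⟨⟨[]⟩⟩

instance : IsDirectedOrder (Idx s M) :=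
  ⟨fun x y => ⟨⟨x.l ++ y.l⟩, List.subset_append_left _ _, List.subset_append_right _ _⟩⟩

/-- The diagram of quotients of `M` by finitely generated subobjects. -/
noncomputable abbrev Qf : Idx s M ⥤ B where
  obj x := cokernel (sig s M x.l)
  map {x y} f := cokernel.desc (sig s M x.l) (cokernel.π (sig s M y.l))
    ((sig_comp_eq_zero_iff s M x.l _).mpr fun z hz =>
      (sig_comp_eq_zero_iff s M y.l _).mp (cokernel.condition _) z (leOfHom f hz))
  map_id x := by
    rw [← cancel_epi (cokernel.π (sig s M x.l))]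
    simp
  map_comp {x y z} f g := by
    rw [← cancel_epi (cokernel.π (sig s M x.l))]
    simp

lemma π_comp_Qf_map {x y : Idx s M} (f : x ⟶ y) :
    cokernel.π (sig s M x.l) ≫ (Qf s M).map f = cokernel.π (sig s M y.l) :=
  cokernel.π_desc _ _ _

/-- The natural transformation from the constant diagram `M`. -/
noncomputable def πn : (Functor.const (Idx s M)).obj M ⟶ Qf s M where
  app x := cokernel.π (sig s M x.l)
  naturality x y f := by
    exact (Category.id_comp _).trans (π_comp_Qf_map s M f).symm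

lemma comp_π_eq_zero (x : Idx s M) (z : Σ i, s i ⟶ M) (hz : z ∈ x.l) :
    z.2 ≫ cokernel.π (sig s M x.l) = 0 :=
  (sig_comp_eq_zero_iff s M x.l _).mp (cokernel.condition _) z hz

lemma isZero_colimit_Qf [HasColimitsOfShape (Idx s M) B]
    (hsep : ∀ ⦃X Y : B⦄ (f g : X ⟶ Y), (∀ (i : ι) (h : s i ⟶ X), h ≫ f = h ≫ g) → f = g) :
    IsZero (colimit (Qf s M)) := by
  rw [IsZero.iff_id_eq_zero]
  apply colimit.hom_ext
  intro x
  rw [Category.comp_id, comp_zero]
  refine (cancel_epi (cokernel.π (sig s M x.l))).mp ?_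
  refine Eq.trans ?_ comp_zero.symm
  apply hsep
  intro i v
  rw [comp_zero]
  have hxy : x ≤ (⟨⟨i, v⟩ :: x.l⟩ : Idx s M) := List.subset_cons_self _ _
  have h2 : v ≫ cokernel.π (sig s M (⟨i, v⟩ :: x.l)) = 0 :=
    comp_π_eq_zero s M ⟨⟨i, v⟩ :: x.l⟩ ⟨i, v⟩ List.mem_cons_self
  have key : cokernel.π (sig s M x.l) ≫ colimit.ι (Qf s M) x =
      cokernel.π (sig s M (⟨i, v⟩ :: x.l)) ≫ colimit.ι (Qf s M) ⟨⟨i, v⟩ :: x.l⟩ :=
    calc cokernel.π (sig s M x.l) ≫ colimit.ι (Qf s M) x
        = cokernel.π (sig s M x.l) ≫ ((Qf s M).map (homOfLE hxy) ≫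
            colimit.ι (Qf s M) ⟨⟨i, v⟩ :: x.l⟩) := by rw [colimit.w]
      _ = (cokernel.π (sig s M x.l) ≫ (Qf s M).map (homOfLE hxy)) ≫
            colimit.ι (Qf s M) ⟨⟨i, v⟩ :: x.l⟩ := (Category.assoc _ _ _).symm
      _ = _ := congrArg (· ≫ colimit.ι (Qf s M) ⟨⟨i, v⟩ :: x.l⟩)
            (π_comp_Qf_map s M (homOfLE hxy))
  calc v ≫ cokernel.π (sig s M x.l) ≫ colimit.ι (Qf s M) x
      = v ≫ (cokernel.π (sig s M (⟨i, v⟩ :: x.l)) ≫
          colimit.ι (Qf s M) ⟨⟨i, v⟩ :: x.l⟩) := congrArg (v ≫ ·) key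
    _ = (v ≫ cokernel.π (sig s M (⟨i, v⟩ :: x.l))) ≫
          colimit.ι (Qf s M) ⟨⟨i, v⟩ :: x.l⟩ := (Category.assoc _ _ _).symm
    _ = 0 := by rw [h2, zero_comp]

end Construction

end Groth.Agent.Helper17.GA
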