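import Mathlib
import Groth.Agent.Lib.Helper17.GA3

/-!
# Transfer of generators and noetherian objects along a faithful exact left adjoint
-/

set_option autoImplicit false

universe w u₁ u₂

namespace Groth.Agent.Helper17.GA

open CategoryTheory Limits ZeroObject

section Main

variable {A : Type u₁} [Category.{w} A] [Abelian A] [HasColimitsOfSize.{w, w} A]
  {B : Type u₂} [Category.{w} B] [Abelian B] [HasColimitsOfSize.{w, w} B] [AB5OfSize.{w, w} B]
  {ι : Type w} (s : ι → B)
  (hsep : ∀ ⦃X Y : B⦄ (f g : X ⟶ Y), (∀ (i : ι) (h : s i ⟶ X), h ≫ f = h ≫ g) → f = g)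
  (F : A ⥤ B) (G : B ⥤ A) (adj : F ⊣ G) [F.Additive] [F.Faithful]
  [PreservesFiniteLimits F] [PreservesFiniteColimits F] [PreservesFilteredColimitsOfSize.{w, w} G]

include hsep in
omit [HasColimitsOfSize.{w, w} B] [AB5OfSize.{w, w} B] in
lemma wellPowered_of_sep : WellPowered.{w} B := by
  have h1 : (ObjectProperty.ofObj s).IsSeparating := fun X Y f g H =>
    hsep f g (fun i h => H _ (ObjectProperty.ofObj_apply s i) h)
  exact wellPowered_of_isDetecting h1.isDetecting

include hsep adj in
omit [PreservesFiniteColimits F] in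
theorem eq_zero_of_forall_kernel (a : A) {a' : A} (h : a ⟶ a')
    (hh : ∀ j : Idx s (F.obj a),
      kernel.ι (adj.homEquiv a _ (cokernel.π (sig s (F.obj a) j.l))) ≫ h = 0) : h = 0 := by
  have : AB5OfSize.{w, w} A := ab5 F adj
  have : PreservesColimitsOfShape (Idx s (F.obj a)) G :=
    PreservesFilteredColimitsOfSize.preserves_filtered_colimits _
  exact eq_zero_of_exhaustion F adj a (Qf s (F.obj a)) (πn s (F.obj a))
    (isZero_colimit_Qf s (F.obj a) hsep) h hh

/-- The big index type of the generating family. -/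
def K₀ := Σ (l : List ι), Σ (K : Subobject (dom s l)), Subobject (G.obj (cokernel K.arrow))

/-- The generating family. -/
noncomputable def t₀ (k : K₀ s G) : A := (k.2.2 : A)

instance [WellPowered.{w} B] [WellPowered.{w} A] : Small.{w} (K₀ s G) := by
  unfold K₀
  infer_instance

omit [Abelian A] [HasColimitsOfSize.{w, w} A] [HasColimitsOfSize.{w, w} B] [AB5OfSize.{w, w} B]
  [PreservesFilteredColimitsOfSize.{w, w} G] in
lemma exists_index (l : List ι) {c : B} (p : dom s l ⟶ c) [Epi p] {x : A} (m : x ⟶ G.obj c)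
    [Mono m] : ∃ k : K₀ s G, Nonempty (t₀ s G k ≅ x) := by
  let e : cokernel (kernelSubobject p).arrow ≅ c :=
    cokernelIsoOfEq (kernelSubobject_arrow p).symm ≪≫ cokernelEpiComp _ _ ≪≫
      asIso (Abelian.factorThruCoimage p)
  have : Mono (m ≫ G.map e.inv) := mono_comp _ _
  exact ⟨⟨l, kernelSubobject p, Subobject.mk (m ≫ G.map e.inv)⟩, ⟨Subobject.underlyingIso _⟩⟩

include adj in
omit [HasColimitsOfSize.{w, w} A] [HasColimitsOfSize.{w, w} B] [AB5OfSize.{w, w} B]
  [PreservesFiniteLimits F] [PreservesFiniteColimits F]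
  [PreservesFilteredColimitsOfSize.{w, w} G] in
lemma exists_index_kernel (X : A) (j : Idx s (F.obj X)) :
    ∃ k : K₀ s G, Nonempty (t₀ s G k ≅
      kernel (adj.homEquiv X _ (cokernel.π (sig s (F.obj X) j.l)))) := by
  have : G.Additive := adj.right_adjoint_additive
  have : PreservesLimitsOfSize.{0, 0} G := adj.rightAdjoint_preservesLimits
  have hφ : adj.homEquiv X _ (cokernel.π (sig s (F.obj X) j.l)) =
      adj.unit.app X ≫ G.map (cokernel.π (sig s (F.obj X) j.l)) := adj.homEquiv_unit _ _ _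
  have h0 : (kernel.ι (adj.homEquiv X _ (cokernel.π (sig s (F.obj X) j.l))) ≫ adj.unit.app X) ≫
      G.map (cokernel.π (sig s (F.obj X) j.l)) = 0 := by
    rw [Category.assoc, ← hφ, kernel.condition]
  have hm : (kernel.lift (G.map (cokernel.π (sig s (F.obj X) j.l))) _ h0 ≫
      (PreservesKernel.iso G (cokernel.π (sig s (F.obj X) j.l))).inv) ≫
        G.map (kernel.ι (cokernel.π (sig s (F.obj X) j.l))) =
      kernel.ι (adj.homEquiv X _ (cokernel.π (sig s (F.obj X) j.l))) ≫ adj.unit.app X := by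
    rw [Category.assoc, PreservesKernel.iso_inv_ι, kernel.lift_ι]
  have := mono_unit_app F adj X
  have hmono : Mono (kernel.lift (G.map (cokernel.π (sig s (F.obj X) j.l))) _ h0 ≫
      (PreservesKernel.iso G (cokernel.π (sig s (F.obj X) j.l))).inv) := mono_of_mono_fac hm
  exact exists_index s G (j.l.map Sigma.fst) (Abelian.factorThruImage (sig s (F.obj X) j.l))
    (kernel.lift (G.map (cokernel.π (sig s (F.obj X) j.l))) _ h0 ≫
      (PreservesKernel.iso G (cokernel.π (sig s (F.obj X) j.l))).inv)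

include adj in
omit [HasColimitsOfSize.{w, w} A] [HasColimitsOfSize.{w, w} B] [AB5OfSize.{w, w} B]
  [PreservesFilteredColimitsOfSize.{w, w} G] in
lemma isNoetherianObject_kernel (hsN : ∀ i, IsNoetherianObject (s i)) (X : A)
    (j : Idx s (F.obj X)) :
    IsNoetherianObject (kernel (adj.homEquiv X _ (cokernel.π (sig s (F.obj X) j.l)))) := by
  have hπ : cokernel.π (sig s (F.obj X) j.l) =
      F.map (adj.homEquiv X _ (cokernel.π (sig s (F.obj X) j.l))) ≫ adj.counit.app _ :=
    ((adj.homEquiv X _).symm_apply_apply _).symm.trans (adj.homEquiv_counit _ _ _)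
  generalize adj.homEquiv X _ (cokernel.π (sig s (F.obj X) j.l)) = φ at hπ ⊢
  have h0 : F.map (kernel.ι φ) ≫ cokernel.π (sig s (F.obj X) j.l) = 0 := by
    rw [hπ, ← Category.assoc, ← F.map_comp, kernel.condition, F.map_zero, zero_comp]
  have hq : kernel.lift (cokernel.π (sig s (F.obj X) j.l)) (F.map (kernel.ι φ)) h0 ≫
      kernel.ι (cokernel.π (sig s (F.obj X) j.l)) = F.map (kernel.ι φ) := kernel.lift_ι _ _ _
  have hqmono : Mono (kernel.lift (cokernel.π (sig s (F.obj X) j.l)) (F.map (kernel.ι φ)) h0) :=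
    mono_of_mono_fac hq
  have := isNoetherianObject_dom s hsN (j.l.map Sigma.fst)
  have : IsNoetherianObject (Abelian.image (sig s (F.obj X) j.l)) :=
    isNoetherianObject_of_epi (Abelian.factorThruImage (sig s (F.obj X) j.l))
  have : IsNoetherianObject (F.obj (kernel φ)) :=
    isNoetherianObject_of_mono
      (kernel.lift (cokernel.π (sig s (F.obj X) j.l)) (F.map (kernel.ι φ)) h0)
  exact isNoetherianObject_of_map F (kernel φ)

include hsep adj in
omit [PreservesFiniteColimits F] in
theorem separating_of_covers {κ : Type*} (t : κ → A)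
    (ht : ∀ (X : A) (j : Idx s (F.obj X)), ∃ k, Nonempty (t k ≅
      kernel (adj.homEquiv X _ (cokernel.π (sig s (F.obj X) j.l)))))
    ⦃X Y : A⦄ (f g : X ⟶ Y) (H : ∀ (k : κ) (h : t k ⟶ X), h ≫ f = h ≫ g) : f = g := by
  rw [← sub_eq_zero]
  apply eq_zero_of_forall_kernel s hsep F G adj X (f - g)
  intro j
  rw [Preadditive.comp_sub, sub_eq_zero]
  obtain ⟨k, ⟨e⟩⟩ := ht X j
  have h1 := H k (e.hom ≫ kernel.ι _)
  rw [Category.assoc, Category.assoc] at h1
  exact (cancel_epi e.hom).mp h1

end Main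

end Groth.Agent.Helper17.GA
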