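import Mathlib
import Groth.Agent.Lib.Helper17.GA4

/-!
# Main theorems: transfer along a faithful exact left adjoint
-/

set_option autoImplicit false

universe w u₁ u₂

namespace Groth.Agent.Helper17.GA

open CategoryTheory Limits ZeroObject

section Main

variable {A : Type u₁} [Category.{w} A] [Abelian A] [HasColimitsOfSize.{w, w} A]
  {B : Type u₂} [Category.{w} B] [Abelian B] [HasColimitsOfSize.{w, w} B] [AB5OfSize.{w, w} B]
  {ι : Type w} (s : ι → B)
  (hsep : ∀ ⦃X Y : B⦄ (f g : X ⟶ Y), (∀ (i : ι) (h : s i ⟶ X), h ≫ f = h ≫ g) → f = g)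
  (F : A ⥤ B) (G : B ⥤ A) (adj : F ⊣ G) [F.Additive] [F.Faithful]
  [PreservesFiniteLimits F] [PreservesFiniteColimits F] [PreservesFilteredColimitsOfSize.{w, w} G]

include hsep adj in
omit [PreservesFiniteColimits F] in
theorem isNoetherianObject_map (hsN : ∀ i, IsNoetherianObject (s i)) (a : A)
    [IsNoetherianObject a] : IsNoetherianObject (F.obj a) := by
  have hαmono : ∀ {j j' : Idx s (F.obj a)}, j ≤ j' →
      Subobject.mk (kernel.ι (adj.homEquiv a _ (cokernel.π (sig s (F.obj a) j.l)))) ≤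
        Subobject.mk (kernel.ι (adj.homEquiv a _ (cokernel.π (sig s (F.obj a) j'.l)))) := by
    intro j j' hjj'
    have h1 : adj.homEquiv a _ (cokernel.π (sig s (F.obj a) j'.l)) =
        adj.homEquiv a _ (cokernel.π (sig s (F.obj a) j.l)) ≫
          G.map ((Qf s (F.obj a)).map (homOfLE hjj')) := by
      rw [← adj.homEquiv_naturality_right, π_comp_Qf_map]
    refine Subobject.mk_le_mk_of_comm (kernel.lift _ (kernel.ι _) ?_) (kernel.lift_ι _ _ _)
    rw [h1, ← Category.assoc, kernel.condition, zero_comp]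
  -- a maximal element
  obtain ⟨j₀, hj₀⟩ : ∃ j₀ : Idx s (F.obj a), ∀ j : Idx s (F.obj a),
      Subobject.mk (kernel.ι (adj.homEquiv a _ (cokernel.π (sig s (F.obj a) j₀.l)))) ≤
        Subobject.mk (kernel.ι (adj.homEquiv a _ (cokernel.π (sig s (F.obj a) j.l)))) →
      Subobject.mk (kernel.ι (adj.homEquiv a _ (cokernel.π (sig s (F.obj a) j.l)))) =
        Subobject.mk (kernel.ι (adj.homEquiv a _ (cokernel.π (sig s (F.obj a) j₀.l)))) := by
    have hwf : WellFounded ((· > ·) : Subobject a → Subobject a → Prop) := wellFounded_gt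
    obtain ⟨_, ⟨j₀, rfl⟩, hmax⟩ := hwf.has_min
      (Set.range fun j : Idx s (F.obj a) =>
        Subobject.mk (kernel.ι (adj.homEquiv a _ (cokernel.π (sig s (F.obj a) j.l)))))
      ⟨_, ⟨⟨[]⟩, rfl⟩⟩
    refine ⟨j₀, fun j hj => ?_⟩
    by_contra hne
    exact hmax _ ⟨j, rfl⟩ (lt_of_le_of_ne hj (Ne.symm hne))
  have hall : ∀ j : Idx s (F.obj a),
      Subobject.mk (kernel.ι (adj.homEquiv a _ (cokernel.π (sig s (F.obj a) j.l)))) ≤
        Subobject.mk (kernel.ι (adj.homEquiv a _ (cokernel.π (sig s (F.obj a) j₀.l)))) := by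
    intro j
    have h1 := hαmono (j := j) (j' := ⟨j.l ++ j₀.l⟩) (List.subset_append_left _ _)
    have h2 := hαmono (j := j₀) (j' := ⟨j.l ++ j₀.l⟩) (List.subset_append_right _ _)
    rw [← hj₀ ⟨j.l ++ j₀.l⟩ h2]
    exact h1
  have hzero : cokernel.π (kernel.ι (adj.homEquiv a _ (cokernel.π (sig s (F.obj a) j₀.l)))) =
      0 := by
    apply eq_zero_of_forall_kernel s hsep F G adj a
    intro j
    rw [← Subobject.ofMkLEMk_comp (hall j), Category.assoc, cokernel.condition, comp_zero]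
  have hepi : Epi (kernel.ι (adj.homEquiv a _ (cokernel.π (sig s (F.obj a) j₀.l)))) :=
    Abelian.epi_of_cokernel_π_eq_zero _ hzero
  have hφ0 : adj.homEquiv a _ (cokernel.π (sig s (F.obj a) j₀.l)) = 0 := by
    rw [← cancel_epi (kernel.ι (adj.homEquiv a _ (cokernel.π (sig s (F.obj a) j₀.l)))),
      kernel.condition, comp_zero]
  have hπ0 : cokernel.π (sig s (F.obj a) j₀.l) = 0 := by
    have h1 : cokernel.π (sig s (F.obj a) j₀.l) =
        F.map (adj.homEquiv a _ (cokernel.π (sig s (F.obj a) j₀.l))) ≫ adj.counit.app _ :=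
      ((adj.homEquiv a _).symm_apply_apply _).symm.trans (adj.homEquiv_counit _ _ _)
    rw [h1, hφ0, F.map_zero, zero_comp]
  have hσepi : Epi (sig s (F.obj a) j₀.l) := Abelian.epi_of_cokernel_π_eq_zero _ hπ0
  have := isNoetherianObject_dom s hsN (j₀.l.map Sigma.fst)
  exact isNoetherianObject_of_epi (sig s (F.obj a) j₀.l)

end Main

section Statements

theorem main11127
    {A : Type u₁} [Category.{w} A] [Abelian A] [HasColimitsOfSize.{w, w} A]
    {B : Type u₂} [Category.{w} B] [Abelian B] [HasColimitsOfSize.{w, w} B] [AB5OfSize.{w, w} B]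
    {ι : Type w} (s : ι → B) (hsN : ∀ i, IsNoetherianObject (s i))
    (hsep : ∀ ⦃X Y : B⦄ (f g : X ⟶ Y), (∀ (i : ι) (h : s i ⟶ X), h ≫ f = h ≫ g) → f = g)
    (F : A ⥤ B) (G : B ⥤ A) (adj : F ⊣ G) [F.Additive] [F.Faithful]
    [PreservesFiniteLimits F] [PreservesFiniteColimits F] [PreservesFilteredColimitsOfSize.{w, w} G]
    (a : A) : IsNoetherianObject a ↔ IsNoetherianObject (F.obj a) :=
  ⟨fun _ => isNoetherianObject_map s hsep F G adj hsN a, fun _ => isNoetherianObject_of_map F a⟩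

theorem main11126
    {A : Type u₁} [Category.{w} A] [Abelian A] [HasColimitsOfSize.{w, w} A]
    {B : Type u₂} [Category.{w} B] [Abelian B] [HasColimitsOfSize.{w, w} B] [AB5OfSize.{w, w} B]
    {ι : Type w} (s : ι → B) (hsN : ∀ i, IsNoetherianObject (s i))
    (hsep : ∀ ⦃X Y : B⦄ (f g : X ⟶ Y), (∀ (i : ι) (h : s i ⟶ X), h ≫ f = h ≫ g) → f = g)
    (F : A ⥤ B) (G : B ⥤ A) (adj : F ⊣ G) [F.Additive] [F.Faithful]
    [PreservesFiniteLimits F] [PreservesFiniteColimits F] [PreservesFilteredColimitsOfSize.{w, w} G] :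
    AB5OfSize.{w, w} A ∧
      ∃ (κ : Type w) (t : κ → A), (∀ k, IsNoetherianObject (t k)) ∧
        ∀ ⦃X Y : A⦄ (f g : X ⟶ Y), (∀ (k : κ) (h : t k ⟶ X), h ≫ f = h ≫ g) → f = g := by
  refine ⟨ab5 F adj, ?_⟩
  have hB : WellPowered.{w} B := wellPowered_of_sep s hsep
  have hA : WellPowered.{w} A := wellPowered_of_faithful_exact F
  refine ⟨Shrink.{w} {k : K₀ s G // IsNoetherianObject (t₀ s G k)},
    fun k => t₀ s G ((equivShrink _).symm k).1, fun k => ((equivShrink _).symm k).2, ?_⟩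
  apply separating_of_covers s hsep F G adj
  intro X j
  obtain ⟨k, ⟨e⟩⟩ := exists_index_kernel s F G adj X j
  have hN := isNoetherianObject_kernel s F G adj hsN X j
  have hk : IsNoetherianObject (t₀ s G k) := isNoetherianObject_of_mono e.hom
  refine ⟨equivShrink _ ⟨k, hk⟩, ⟨?_⟩⟩
  rw [Equiv.symm_apply_apply]
  exact e

theorem main11128
    {A : Type u₁} [Category.{w} A] [Abelian A] [HasColimitsOfSize.{w, w} A]
    {B : Type u₂} [Category.{w} B] [Abelian B] [IsGrothendieckAbelian.{w} B]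
    (F : A ⥤ B) (G : B ⥤ A) (adj : F ⊣ G) [F.Additive] [F.Faithful]
    [PreservesFiniteLimits F] [PreservesFiniteColimits F] [PreservesFilteredColimitsOfSize.{w, w} G] :
    IsGrothendieckAbelian.{w} A := by
  have hsep : ∀ ⦃X Y : B⦄ (f g : X ⟶ Y),
      (∀ (i : PUnit.{w + 1}) (h : (fun _ : PUnit.{w + 1} => separator B) i ⟶ X),
        h ≫ f = h ≫ g) → f = g :=
    fun X Y f g H => (isSeparator_separator B).def f g (fun h => H PUnit.unit h)
  have hB : WellPowered.{w} B := inferInstance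
  have hA : WellPowered.{w} A := wellPowered_of_faithful_exact F
  have hsepA : ∀ ⦃X Y : A⦄ (f g : X ⟶ Y),
      (∀ (k : Shrink.{w} (K₀ (fun _ : PUnit.{w + 1} => separator B) G))
        (h : t₀ (fun _ : PUnit.{w + 1} => separator B) G ((equivShrink _).symm k) ⟶ X),
          h ≫ f = h ≫ g) → f = g := by
    apply separating_of_covers (fun _ : PUnit.{w + 1} => separator B) hsep F G adj
    intro X j
    obtain ⟨k, ⟨e⟩⟩ := exists_index_kernel (fun _ : PUnit.{w + 1} => separator B) F G adj X j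
    refine ⟨equivShrink _ k, ⟨?_⟩⟩
    rw [Equiv.symm_apply_apply]
    exact e
  have hS : (ObjectProperty.ofObj fun k : Shrink.{w} (K₀ (fun _ : PUnit.{w + 1} => separator B) G) =>
      t₀ (fun _ : PUnit.{w + 1} => separator B) G ((equivShrink _).symm k)).IsSeparating :=
    fun X Y f g H => hsepA f g (fun k h => H _ (ObjectProperty.ofObj_apply _ k) h)
  exact
    { ab5OfSize := ab5 F adj
      hasSeparator := ⟨⟨_, hS.isSeparator_coproduct⟩⟩ }

end Statements

end Groth.Agent.Helper17.GA
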