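import Mathlib
import Groth.Agent.Lib.Helper1.AdicNoeth

/-!
# Integrality of a polynomial ring over the subalgebra generated by a homogeneous system of
parameters (helper17)
-/

set_option autoImplicit false

namespace Groth.Agent.Helper17.GI

open MvPolynomial

universe u

variable {k : Type u} [Field k] {n : ℕ}

theorem monomial_mem_of_degree_ge (I : Ideal (MvPolynomial (Fin n) k)) (N : ℕ)
    (hN : ∀ i, (X i : MvPolynomial (Fin n) k) ^ N ∈ I) (v : Fin n →₀ ℕ)
    (hv : n * N + 1 ≤ v.degree) : monomial v (1 : k) ∈ I := by
  have hex : ∃ j, N ≤ v j := by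
    by_contra hcon
    push Not at hcon
    have h1 : v.degree ≤ n * N := by
      rw [Finsupp.degree_eq_sum]
      calc ∑ i, v i ≤ ∑ _i : Fin n, N := Finset.sum_le_sum (fun i _ => (hcon i).le)
        _ = n * N := by simp
    omega
  obtain ⟨j, hj⟩ := hex
  have hle : Finsupp.single j N ≤ v := Finsupp.single_le_iff.mpr hj
  have hv' : v = Finsupp.single j N + (v - Finsupp.single j N) :=
    (add_tsub_cancel_of_le hle).symm
  rw [hv', show (1 : k) = 1 * 1 from (one_mul 1).symm, ← monomial_mul, ← X_pow_eq_monomial]
  exact I.mul_mem_right _ (hN j)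

theorem isIntegral_adjoin (m : ℕ) (z : Fin m → MvPolynomial (Fin n) k) (d : Fin m → ℕ)
    (hd : ∀ i, 0 < d i) (hz : ∀ i, (z i).IsHomogeneous (d i))
    (hrad : (Ideal.span (Set.range z)).radical =
      Ideal.span (Set.range (X : Fin n → MvPolynomial (Fin n) k))) :
    Algebra.IsIntegral (Algebra.adjoin k (Set.range z)) (MvPolynomial (Fin n) k) := by
  classical
  set I := Ideal.span (Set.range z) with hI
  set S := Algebra.adjoin k (Set.range z) with hS
  have hA : ∃ N, ∀ i, (X i : MvPolynomial (Fin n) k) ^ N ∈ I := by
    have h1 : ∀ i, ∃ Ni, (X i : MvPolynomial (Fin n) k) ^ Ni ∈ I := by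
      intro i
      have : (X i : MvPolynomial (Fin n) k) ∈ I.radical := by
        rw [hrad]; exact Ideal.subset_span ⟨i, rfl⟩
      exact this
    choose Nf hNf using h1
    refine ⟨∑ i, Nf i, fun i => ?_⟩
    have hle : Nf i ≤ ∑ j, Nf j :=
      Finset.single_le_sum (fun _ _ => Nat.zero_le _) (Finset.mem_univ i)
    obtain ⟨c, hc⟩ := Nat.exists_eq_add_of_le hle
    rw [hc, pow_add]
    exact I.mul_mem_right _ (hNf i)
  obtain ⟨N, hN⟩ := hA
  set D := n * N + 1 with hD
  let gens : Set (MvPolynomial (Fin n) k) :=
    (fun v : Fin n →₀ ℕ => monomial v (1 : k)) '' {v | v.degree < D}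
  have hgens : gens.Finite := (Finsupp.finite_of_degree_lt D).image _
  let M : Submodule S (MvPolynomial (Fin n) k) := Submodule.span S gens
  have hsmul : ∀ (c : k) (p), p ∈ M → c • p ∈ M := by
    intro c p hp
    have : c • p = (algebraMap k S c) • p := by rw [algebraMap_smul]
    rw [this]; exact M.smul_mem _ hp
  have hzmul : ∀ j p, p ∈ M → p * z j ∈ M := by
    intro j p hp
    have : p * z j = (⟨z j, Algebra.subset_adjoin ⟨j, rfl⟩⟩ : S) • p := by
      rw [mul_comm]; rfl
    rw [this]; exact M.smul_mem _ hp
  have key : ∀ e : ℕ, ∀ p : MvPolynomial (Fin n) k, p.IsHomogeneous e → p ∈ M := by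
    intro e
    induction e using Nat.strong_induction_on with
    | _ e ih =>
    intro p hp
    have hdeg : ∀ v ∈ p.support, v.degree = e := by
      intro v hv
      by_contra hne
      exact (mem_support_iff.mp hv) (hp.coeff_eq_zero hne)
    by_cases he : e < D
    · rw [← support_sum_monomial_coeff p]
      refine Submodule.sum_mem _ (fun v hv => ?_)
      have : monomial v (coeff v p) = (coeff v p) • monomial v (1 : k) := by
        rw [smul_monomial, smul_eq_mul, mul_one]
      rw [this]
      exact hsmul _ _ (Submodule.subset_span ⟨v, by simpa [hdeg v hv] using he, rfl⟩)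
    · have hpI : p ∈ I := by
        rw [← support_sum_monomial_coeff p]
        refine Ideal.sum_mem _ (fun v hv => ?_)
        have : monomial v (coeff v p) = C (coeff v p) * monomial v (1 : k) := by
          rw [C_mul_monomial, mul_one]
        rw [this]
        exact I.mul_mem_left _
          (monomial_mem_of_degree_ge I N hN v (by rw [hdeg v hv]; omega))
      obtain ⟨g, hg⟩ := Ideal.mem_span_range_iff_exists_fun.mp hpI
      have hp2 : p = ∑ j, homogeneousComponent e (g j * z j) := by
        rw [← map_sum, hg, homogeneousComponent_eq_self hp]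
      rw [hp2]
      refine Submodule.sum_mem _ (fun j _ => ?_)
      rw [Groth.Agent.Helper1.homogeneousComponent_mul_right (g j) (z j) (hz j) e]
      split_ifs with hle
      · apply hzmul
        apply ih (e - d j) (by have := hd j; omega)
        exact homogeneousComponent_isHomogeneous _ _
      · exact M.zero_mem
  have htop : M = ⊤ := by
    rw [eq_top_iff]
    intro p _
    rw [← sum_homogeneousComponent p]
    exact Submodule.sum_mem _ (fun i _ => key i _ (homogeneousComponent_isHomogeneous _ _))
  have hfin : Module.Finite S (MvPolynomial (Fin n) k) :=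
    ⟨htop ▸ Submodule.fg_span hgens⟩
  exact Algebra.IsIntegral.of_finite S _

end Groth.Agent.Helper17.GI
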