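import Mathlib

set_option autoImplicit false
universe u v
open Polynomial HomogeneousLocalization

namespace Groth.Agent.Helper17.GU

variable {K : Type u} [Field K] {R : Type v} [CommRing R] [IsDomain R] [Algebra K R]
  (𝒜 : ℕ → Submodule K R) [GradedAlgebra 𝒜]

/-- homogeneous elements of pairwise distinct degrees summing to zero all vanish -/
theorem eq_zero_of_sum_eq_zero (t : Finset ℕ) (c : ℕ → R) (deg : ℕ → ℕ)
    (hdeg : Set.InjOn deg t) (hc : ∀ i ∈ t, c i ∈ 𝒜 (deg i)) (h : ∑ i ∈ t, c i = 0) :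
    ∀ j ∈ t, c j = 0 := by
  intro j hj
  have h1 := congrArg (GradedRing.proj 𝒜 (deg j)) h
  rw [map_sum, map_zero] at h1
  rw [Finset.sum_eq_single j] at h1
  · rwa [GradedRing.proj_apply, DirectSum.decompose_of_mem_same 𝒜 (hc j hj)] at h1
  · intro i hi hij
    rw [GradedRing.proj_apply]
    exact DirectSum.decompose_of_mem_ne 𝒜 (hc i hi) (fun e => hij (hdeg hi hj e))
  · intro hj'; exact absurd hj hj'

variable (s : R)

/-- the evaluation map `B[X] → R_s`, `X ↦ s`, where `B = R_(s)` -/
noncomputable def ψ : (Away 𝒜 s)[X] →+* Localization.Away s :=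
  Polynomial.eval₂RingHom (algebraMap (Away 𝒜 s) (Localization.Away s))
    (algebraMap R (Localization.Away s) s)

theorem ψ_apply (p : (Away 𝒜 s)[X]) :
    ψ 𝒜 s p = ∑ i ∈ p.support, (p.coeff i).val * (algebraMap R (Localization.Away s) s) ^ i := by
  simp [ψ, Polynomial.eval₂_eq_sum, Polynomial.sum_def]

variable {s}

theorem psi_injective (hs : s ∈ 𝒜 1) (hs0 : s ≠ 0) : Function.Injective (ψ 𝒜 s) := by
  rw [injective_iff_map_eq_zero]
  intro p hp
  have hinj : Function.Injective (algebraMap R (Localization.Away s)) :=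
    IsLocalization.injective _ (powers_le_nonZeroDivisors_of_noZeroDivisors hs0)
  have hev : ∀ᶠ N in Filter.atTop, ∀ i ∈ p.support, s ^ N • (p.coeff i).val ∈
      algebraMap R (Localization.Away s) '' (𝒜 (N • 1) : Set R) :=
    (Filter.eventually_all_finset _).mpr fun i _ =>
      HomogeneousLocalization.Away.eventually_smul_mem hs (p.coeff i)
  obtain ⟨N, hN⟩ := hev.exists
  choose! a ha using hN
  have hsum : algebraMap R (Localization.Away s) (∑ i ∈ p.support, a i * s ^ i) = 0 := by
    have h1 : s ^ N • ψ 𝒜 s p = 0 := by rw [hp, smul_zero]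
    rw [ψ_apply, Finset.smul_sum] at h1
    rw [map_sum, ← h1]
    refine Finset.sum_congr rfl fun i hi => ?_
    rw [map_mul, map_pow, (ha i hi).2, smul_mul_assoc]
  have hsum' : ∑ i ∈ p.support, a i * s ^ i = 0 := hinj (by rw [hsum, map_zero])
  have hz := eq_zero_of_sum_eq_zero 𝒜 p.support (fun i => a i * s ^ i) (fun i => N • 1 + i • 1)
    (by intro i _ j _ e; simpa using e)
    (fun i hi => SetLike.mul_mem_graded (ha i hi).1 (SetLike.pow_mem_graded i hs)) hsum'
  by_contra hne
  obtain ⟨i, hi⟩ := Polynomial.nonempty_support_iff.mpr hne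
  have h2 : a i = 0 := by
    have := hz i hi
    rcases mul_eq_zero.mp this with h | h
    · exact h
    · exact absurd h (pow_ne_zero i hs0)
  have h3 : s ^ N • (p.coeff i).val = 0 := by rw [← (ha i hi).2, h2, map_zero]
  have h4 : (p.coeff i).val = 0 := by
    rw [Algebra.smul_def] at h3
    rcases mul_eq_zero.mp h3 with h | h
    · exact absurd (hinj (by rw [h, map_zero])) (pow_ne_zero N hs0)
    · exact h
  have h5 : p.coeff i = 0 := HomogeneousLocalization.val_injective _ (by rw [h4, val_zero])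
  exact (Polynomial.mem_support_iff.mp hi) h5

theorem algebraMap_mem_range (hs : s ∈ 𝒜 1) (r : R) :
    algebraMap R (Localization.Away s) r ∈ (ψ 𝒜 s).range := by
  refine DirectSum.Decomposition.inductionOn 𝒜 ?_ ?_ ?_ r
  · rw [map_zero]; exact zero_mem _
  · intro i m
    have hm : (m : R) ∈ 𝒜 (i • 1) := by simpa using m.2
    refine ⟨Polynomial.C (Away.mk 𝒜 hs i m hm) * Polynomial.X ^ i, ?_⟩
    simp only [ψ, Polynomial.coe_eval₂RingHom, Polynomial.eval₂_mul, Polynomial.eval₂_C,
      Polynomial.eval₂_pow, Polynomial.eval₂_X, HomogeneousLocalization.algebraMap_apply,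
      Away.val_mk]
    rw [Localization.mk_eq_mk'_apply, ← map_pow]
    exact IsLocalization.mk'_spec _ _ _
  · intro m m' h h'
    rw [map_add]; exact add_mem h h'

theorem ufd_away (hs : s ∈ 𝒜 1) (hs0 : s ≠ 0)
    (h : UniqueFactorizationMonoid (Away 𝒜 s)) :
    UniqueFactorizationMonoid (Localization.Away s) := by
  have hT : IsDomain (Localization.Away s) := IsLocalization.Away.isDomain _ hs0
  have hB : IsDomain (Away 𝒜 s) :=
    Function.Injective.isDomain (algebraMap (Away 𝒜 s) (Localization.Away s))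
      (HomogeneousLocalization.val_injective _)
  letI : Algebra (Away 𝒜 s)[X] (Localization.Away s) := (ψ 𝒜 s).toAlgebra
  have hloc : IsLocalization (Submonoid.powers (X : (Away 𝒜 s)[X])) (Localization.Away s) := by
    rw [isLocalization_iff]
    refine ⟨?_, ?_, ?_⟩
    · rintro ⟨_, n, rfl⟩
      show IsUnit (ψ 𝒜 s (X ^ n))
      have : ψ 𝒜 s (X ^ n) = (algebraMap R (Localization.Away s) s) ^ n := by simp [ψ]
      rw [this]
      exact (IsLocalization.Away.algebraMap_isUnit s).pow n
    · intro z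
      obtain ⟨n, r, hr⟩ := IsLocalization.Away.surj s z
      obtain ⟨p, hp⟩ := algebraMap_mem_range 𝒜 hs r
      refine ⟨(p, ⟨X ^ n, n, rfl⟩), ?_⟩
      show z * ψ 𝒜 s (X ^ n) = ψ 𝒜 s p
      have : ψ 𝒜 s (X ^ n) = (algebraMap R (Localization.Away s) s) ^ n := by simp [ψ]
      rw [hp, ← hr, this]
    · intro x y hxy
      exact ⟨1, by rw [psi_injective 𝒜 hs hs0 hxy]⟩
  exact UniqueFactorizationMonoid.of_isLocalization (Submonoid.powers (X : (Away 𝒜 s)[X]))
    (Localization.Away s)

theorem main11278 (K : Type u) [Field K] (R : Type v)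
    [CommRing R] [IsDomain R] [IsNoetherianRing R] [Algebra K R] (𝒜 : ℕ → Submodule K R) [GradedAlgebra 𝒜]
    (s : R) (hs : s ∈ 𝒜 1) (hp : Prime s)
    (h : UniqueFactorizationMonoid (HomogeneousLocalization.Away 𝒜 s)) :
    UniqueFactorizationMonoid R :=
  (UniqueFactorizationMonoid.iff_localizationAway_of_prime hp).mpr (ufd_away 𝒜 hs hp.ne_zero h)

end Groth.Agent.Helper17.GU
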