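import Mathlib
import Groth.Agent.Lib.Helper22.ArtFlat
import Groth.Agent.Lib.Helper17.RQ1

/-!
# Exactness and flatness of a short complex over an Artinian local base, via the residue field
(helper17; used for lifting Hilbert–Burch resolutions)
-/

set_option autoImplicit false
universe u
open scoped TensorProduct

namespace Groth.Agent.Helper17.HB

open IsLocalRing Function Groth.Agent.Helper22.ArtFlat Groth.Agent.Helper1

section general

variable {R : Type u} [CommRing R]

theorem map_mem_smul_top {M N : Type*} [AddCommGroup M] [Module R M] [AddCommGroup N] [Module R N]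
    (I : Ideal R) (f : M →ₗ[R] N) {x : M} (hx : x ∈ I • (⊤ : Submodule R M)) :
    f x ∈ I • (⊤ : Submodule R N) := by
  have h : (I • (⊤ : Submodule R M)).map f ≤ I • ⊤ := by
    rw [Submodule.map_smul'']
    exact Submodule.smul_mono le_rfl le_top
  exact h (Submodule.mem_map_of_mem hx)

theorem exists_of_mem_smul_top {M N : Type*} [AddCommGroup M] [Module R M] [AddCommGroup N]
    [Module R N] (I : Ideal R) (f : M →ₗ[R] N) (hf : Surjective f) {y : N}
    (hy : y ∈ I • (⊤ : Submodule R N)) : ∃ x ∈ I • (⊤ : Submodule R M), f x = y := by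
  have h : I • (⊤ : Submodule R N) = (I • (⊤ : Submodule R M)).map f := by
    rw [Submodule.map_smul'', Submodule.map_top, LinearMap.range_eq_top.mpr hf]
  rw [h] at hy
  exact Submodule.mem_map.mp hy

variable [IsLocalRing R]

theorem pure_iff {N M : Type*} [AddCommGroup N] [Module R N] [AddCommGroup M] [Module R M]
    (u : N →ₗ[R] M) :
    Injective (u.lTensor (ResidueField R)) ↔
      ∀ x : N, u x ∈ maximalIdeal R • (⊤ : Submodule R M) →
        x ∈ maximalIdeal R • (⊤ : Submodule R N) :=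
  lTensor_quotient_injective_iff u (maximalIdeal R)

variable {F₂ F₁ F₀ Q : Type u} [AddCommGroup F₂] [Module R F₂] [AddCommGroup F₁] [Module R F₁]
  [AddCommGroup F₀] [Module R F₀] [AddCommGroup Q] [Module R Q]

/-- exactness mod the maximal ideal lifts (nilpotent maximal ideal) -/
theorem lemmaA (hm : IsNilpotent (maximalIdeal R)) [Module.Flat R F₁] [Module.Flat R F₀]
    (d₂ : F₂ →ₗ[R] F₁) (d₁ : F₁ →ₗ[R] F₀) (q : F₀ →ₗ[R] Q) (hq : Surjective q) (hex : Exact d₁ q)
    (hcomp : ∀ v, d₁ (d₂ v) = 0)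
    (K1 : ∀ v, d₂ v ∈ maximalIdeal R • (⊤ : Submodule R F₁) →
      v ∈ maximalIdeal R • (⊤ : Submodule R F₂))
    (K2 : ∀ w, d₁ w ∈ maximalIdeal R • (⊤ : Submodule R F₀) →
      w ∈ LinearMap.range d₂ ⊔ maximalIdeal R • (⊤ : Submodule R F₁)) :
    Injective d₂ ∧ (∀ w, d₁ w = 0 → w ∈ LinearMap.range d₂) ∧ Module.Flat R Q := by
  have hp2 : Injective (d₂.lTensor (ResidueField R)) := (pure_iff d₂).mpr K1
  have h2inj : Injective d₂ := injective_of_residue hm d₂ hp2
  have hPflat : Module.Flat R (F₁ ⧸ LinearMap.range d₂) :=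
    flat_of_exact hm d₂ (LinearMap.range d₂).mkQ (LinearMap.exact_map_mkQ_range d₂)
      (Submodule.mkQ_surjective _) hp2
  have hle : LinearMap.range d₂ ≤ LinearMap.ker d₁ := by
    rintro _ ⟨v, rfl⟩; exact hcomp v
  have hpure : ∀ y : F₁ ⧸ LinearMap.range d₂,
      (LinearMap.range d₂).liftQ d₁ hle y ∈ maximalIdeal R • (⊤ : Submodule R F₀) →
      y ∈ maximalIdeal R • (⊤ : Submodule R (F₁ ⧸ LinearMap.range d₂)) := by
    intro y hy
    obtain ⟨w, rfl⟩ := Submodule.mkQ_surjective _ y
    have h1 : d₁ w ∈ maximalIdeal R • (⊤ : Submodule R F₀) := by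
      simpa [Submodule.liftQ_apply] using hy
    obtain ⟨a, ⟨v, rfl⟩, b, hb, rfl⟩ := Submodule.mem_sup.mp (K2 w h1)
    have h2 : (LinearMap.range d₂).mkQ (d₂ v + b) = (LinearMap.range d₂).mkQ b := by
      rw [map_add]
      have : (LinearMap.range d₂).mkQ (d₂ v) = 0 := by
        rw [Submodule.mkQ_apply, Submodule.Quotient.mk_eq_zero]; exact ⟨v, rfl⟩
      rw [this, zero_add]
    rw [h2]
    exact map_mem_smul_top _ _ hb
  have hpe : Injective (((LinearMap.range d₂).liftQ d₁ hle).lTensor (ResidueField R)) :=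
    (pure_iff _).mpr hpure
  have heinj : Injective ((LinearMap.range d₂).liftQ d₁ hle) := injective_of_residue hm _ hpe
  refine ⟨h2inj, ?_, ?_⟩
  · intro w hw
    have h1 : (LinearMap.range d₂).liftQ d₁ hle ((LinearMap.range d₂).mkQ w) = 0 := by
      simpa [Submodule.liftQ_apply] using hw
    have h2 := heinj (h1.trans (map_zero _).symm)
    rwa [Submodule.mkQ_apply, Submodule.Quotient.mk_eq_zero] at h2
  · refine flat_of_exact hm ((LinearMap.range d₂).liftQ d₁ hle) q ?_ hq hpe
    rw [LinearMap.exact_iff, Submodule.range_liftQ]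
    exact LinearMap.exact_iff.mp hex

/-- a flat resolution with flat cokernel stays exact mod the maximal ideal -/
theorem lemmaB [Module.Flat R F₀] [Module.Flat R Q]
    (d₂ : F₂ →ₗ[R] F₁) (d₁ : F₁ →ₗ[R] F₀) (q : F₀ →ₗ[R] Q) (hq : Surjective q) (hex : Exact d₁ q)
    (hinj : Injective d₂) (hex2 : Exact d₂ d₁) :
    (∀ v, d₂ v ∈ maximalIdeal R • (⊤ : Submodule R F₁) →
      v ∈ maximalIdeal R • (⊤ : Submodule R F₂)) ∧
    (∀ w, d₁ w ∈ maximalIdeal R • (⊤ : Submodule R F₀) →
      w ∈ LinearMap.range d₂ ⊔ maximalIdeal R • (⊤ : Submodule R F₁)) := by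
  have hexI : Exact (LinearMap.range d₁).subtype q := by
    rw [LinearMap.exact_iff, Submodule.range_subtype]
    exact LinearMap.exact_iff.mp hex
  have hIflat : Module.Flat R (LinearMap.range d₁) :=
    flat_of_exact_of_flat (LinearMap.range d₁).subtype q (Submodule.injective_subtype _) hq hexI
  have hexR : Exact d₂ d₁.rangeRestrict := by
    intro w
    rw [← hex2 w]
    constructor
    · intro h; exact congrArg Subtype.val h
    · intro h; exact Subtype.ext h
  constructor
  · rw [← pure_iff]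
    exact LinearMap.lTensor_injective_of_exact_of_flat d₁.rangeRestrict
      (LinearMap.surjective_rangeRestrict d₁) d₂ hinj hexR (ResidueField R)
  · intro w hw
    have hpI : Injective ((LinearMap.range d₁).subtype.lTensor (ResidueField R)) :=
      LinearMap.lTensor_injective_of_exact_of_flat q hq (LinearMap.range d₁).subtype
        (Submodule.injective_subtype _) hexI (ResidueField R)
    have h1 : (⟨d₁ w, w, rfl⟩ : LinearMap.range d₁) ∈
        maximalIdeal R • (⊤ : Submodule R (LinearMap.range d₁)) :=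
      (pure_iff _).mp hpI ⟨d₁ w, w, rfl⟩ hw
    obtain ⟨w', hw', hw'eq⟩ := exists_of_mem_smul_top _ d₁.rangeRestrict
      (LinearMap.surjective_rangeRestrict d₁) h1
    have h2 : d₁ w' = d₁ w := congrArg Subtype.val hw'eq
    have h3 : d₁ (w - w') = 0 := by rw [map_sub, h2, sub_self]
    obtain ⟨v, hv⟩ := (hex2 (w - w')).mp h3
    have h4 : w = d₂ v + w' := by rw [hv, sub_add_cancel]
    rw [h4]
    exact Submodule.add_mem_sup ⟨v, rfl⟩ hw'

end general

section transfer

variable {R : Type*} [CommRing R] (I 𝔪 : Ideal R)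
variable {M N : Type*} [AddCommGroup M] [Module R M] [AddCommGroup N] [Module (R ⧸ I) N]

theorem transfer_mp (p : M →ₛₗ[Ideal.Quotient.mk I] N) {x : M}
    (hx : x ∈ 𝔪 • (⊤ : Submodule R M)) :
    p x ∈ (𝔪.map (Ideal.Quotient.mk I)) • (⊤ : Submodule (R ⧸ I) N) := by
  refine Submodule.smul_induction_on hx ?_ ?_
  · intro c hc y _
    rw [map_smulₛₗ]
    exact Submodule.smul_mem_smul (Ideal.mem_map_of_mem _ hc) Submodule.mem_top
  · intro y z hy hz
    rw [map_add]; exact Submodule.add_mem _ hy hz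

theorem transfer_mpr (p : M →ₛₗ[Ideal.Quotient.mk I] N) (hp : Surjective p)
    (hker : ∀ x, p x = 0 → x ∈ 𝔪 • (⊤ : Submodule R M)) {x : M}
    (hx : p x ∈ (𝔪.map (Ideal.Quotient.mk I)) • (⊤ : Submodule (R ⧸ I) N)) :
    x ∈ 𝔪 • (⊤ : Submodule R M) := by
  have key : ∀ z ∈ (𝔪.map (Ideal.Quotient.mk I)) • (⊤ : Submodule (R ⧸ I) N),
      ∀ x, p x = z → x ∈ 𝔪 • (⊤ : Submodule R M) := by
    intro z hz
    refine Submodule.smul_induction_on hz ?_ ?_
    · intro c' hc' y' _ x hx
      obtain ⟨c, hc, rfl⟩ :=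
        (Ideal.mem_map_iff_of_surjective _ Ideal.Quotient.mk_surjective).mp hc'
      obtain ⟨y, rfl⟩ := hp y'
      have h0 : p (x - c • y) = 0 := by rw [map_sub, map_smulₛₗ, hx, sub_self]
      have h1 := hker _ h0
      have h2 : c • y ∈ 𝔪 • (⊤ : Submodule R M) := Submodule.smul_mem_smul hc Submodule.mem_top
      have := Submodule.add_mem _ h1 h2
      rwa [sub_add_cancel] at this
    · intro z₁ z₂ h₁ h₂ x hx
      obtain ⟨x₁, rfl⟩ := hp z₁
      have h1 := h₁ x₁ rfl
      have h2 := h₂ (x - x₁) (by rw [map_sub, hx, add_sub_cancel_left])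
      have := Submodule.add_mem _ h2 h1
      rwa [sub_add_cancel] at this
  exact key _ hx x rfl

end transfer

end Groth.Agent.Helper17.HB
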