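import Mathlib
import Groth.Agent.Lib.Helper17.HB1

/-!
# Lifting a Hilbert–Burch resolution across a small extension of an Artinian local base
-/

set_option autoImplicit false
universe u
open scoped TensorProduct

namespace Groth.Agent.Helper17.HB

open IsLocalRing Function Groth.Agent.Helper22.ArtFlat

section matrix

variable {S : Type u} [CommRing S] {r : ℕ}

/-- signed maximal minors of an `(r+1) × r` matrix -/
def mm (ψ : Matrix (Fin (r + 1)) (Fin r) S) (i : Fin (r + 1)) : S :=
  (-1) ^ (i : ℕ) * (ψ.submatrix i.succAbove id).det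

theorem laplace (ψ : Matrix (Fin (r + 1)) (Fin r) S) (j : Fin r) : ∑ i, ψ i j * mm ψ i = 0 := by
  have h0 : (Matrix.of fun i k => (Fin.cons (ψ i j) (ψ i) : Fin (r + 1) → S) k).det = 0 :=
    Matrix.det_zero_of_column_eq (i := 0) (j := j.succ) (Fin.succ_ne_zero j).symm
      (fun k => by simp)
  rw [Matrix.det_succ_column_zero] at h0
  rw [← h0]
  refine Finset.sum_congr rfl fun i _ => ?_
  have hsub : (Matrix.of fun i k => (Fin.cons (ψ i j) (ψ i) : Fin (r + 1) → S) k).submatrix
      i.succAbove Fin.succ = ψ.submatrix i.succAbove id := by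
    ext a b; simp
  rw [hsub]
  simp only [mm, Matrix.of_apply, Fin.cons_zero]
  ring

theorem comp_zero (ψ : Matrix (Fin (r + 1)) (Fin r) S) (v : Fin r → S) :
    Fintype.linearCombination S (mm ψ) (ψ.mulVecLin v) = 0 := by
  rw [Fintype.linearCombination_apply]
  simp only [Matrix.mulVecLin_apply, Matrix.mulVec, dotProduct, smul_eq_mul, Finset.sum_mul]
  rw [Finset.sum_comm]
  refine Finset.sum_eq_zero fun j _ => ?_
  calc ∑ i, ψ i j * v j * mm ψ i = v j * ∑ i, ψ i j * mm ψ i := by
        rw [Finset.mul_sum]; exact Finset.sum_congr rfl fun i _ => by ring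
    _ = 0 := by rw [laplace ψ j, mul_zero]

variable {S' : Type u} [CommRing S']

theorem mm_map (g : S →+* S') (ψ : Matrix (Fin (r + 1)) (Fin r) S) (i : Fin (r + 1)) :
    mm (ψ.map g) i = g (mm ψ i) := by
  simp only [mm, map_mul, map_pow, map_neg, map_one]
  rw [RingHom.map_det]
  rfl

theorem mulVec_map (g : S →+* S') (ψ : Matrix (Fin (r + 1)) (Fin r) S) (v : Fin r → S) :
    (ψ.map g).mulVecLin (fun j => g (v j)) = fun i => g (ψ.mulVecLin v i) := by
  ext i
  simp [Matrix.mulVec, dotProduct, map_sum, map_mul]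

theorem lc_map (g : S →+* S') (ψ : Matrix (Fin (r + 1)) (Fin r) S) (w : Fin (r + 1) → S) :
    Fintype.linearCombination S' (mm (ψ.map g)) (fun i => g (w i)) =
      g (Fintype.linearCombination S (mm ψ) w) := by
  simp [Fintype.linearCombination_apply, mm_map, map_sum, map_mul]

end matrix

section reduction

variable {C' : Type u} [CommRing C'] (J : Ideal C') {A' : Type u} [CommRing A'] [Algebra C' A']

theorem flat_quotient_map [Module.Flat C' A'] :
    Module.Flat (C' ⧸ J) (A' ⧸ J.map (algebraMap C' A')) :=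
  Module.Flat.of_linearEquiv
    (Algebra.TensorProduct.quotIdealMapEquivQuotTensor A' J).toLinearEquiv

/-- componentwise reduction, as a semilinear map -/
def redFun (n : ℕ) :
    (Fin n → A') →ₛₗ[Ideal.Quotient.mk J] (Fin n → A' ⧸ J.map (algebraMap C' A')) where
  toFun x := fun i => Ideal.Quotient.mk (J.map (algebraMap C' A')) (x i)
  map_add' x y := by ext i; simp
  map_smul' c x := by
    ext i
    show Ideal.Quotient.mk (J.map (algebraMap C' A')) (c • x i) =
      (Ideal.Quotient.mk J c) • Ideal.Quotient.mk (J.map (algebraMap C' A')) (x i)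
    rw [Algebra.smul_def, Algebra.smul_def, map_mul]
    rfl

/-- reduction, as a semilinear map -/
def red0 : A' →ₛₗ[Ideal.Quotient.mk J] (A' ⧸ J.map (algebraMap C' A')) where
  toFun x := Ideal.Quotient.mk (J.map (algebraMap C' A')) x
  map_add' x y := by simp
  map_smul' c x := by
    show Ideal.Quotient.mk (J.map (algebraMap C' A')) (c • x) =
      (Ideal.Quotient.mk J c) • Ideal.Quotient.mk (J.map (algebraMap C' A')) x
    rw [Algebra.smul_def, Algebra.smul_def, map_mul]
    rfl

theorem redFun_surjective (n : ℕ) : Surjective (redFun (A' := A') J n) := by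
  intro y
  choose x hx using fun i => Ideal.Quotient.mk_surjective (y i)
  exact ⟨x, funext hx⟩

theorem red0_surjective : Surjective (red0 (A' := A') J) := Ideal.Quotient.mk_surjective

variable {J}

theorem ker_redFun {𝔪 : Ideal C'} (hJle : J ≤ 𝔪) (n : ℕ) (x : Fin n → A')
    (hx : redFun J n x = 0) : x ∈ 𝔪 • (⊤ : Submodule C' (Fin n → A')) := by
  have hx' : ∀ i, x i ∈ J.map (algebraMap C' A') := fun i =>
    Ideal.Quotient.eq_zero_iff_mem.mp (congrFun hx i)
  have h1 : x ∈ (J.map (algebraMap C' A')) • (⊤ : Submodule A' (Fin n → A')) := by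
    have : x = ∑ i, x i • (Pi.single i 1 : Fin n → A') := by
      ext j; simp [Finset.sum_apply, Pi.single_apply]
    rw [this]
    exact Submodule.sum_mem _ fun i _ => Submodule.smul_mem_smul (hx' i) Submodule.mem_top
  have h2 := (RQ.mem_smul_top_iff J x).mpr h1
  exact Submodule.smul_mono hJle le_rfl h2

theorem ker_red0 {𝔪 : Ideal C'} (hJle : J ≤ 𝔪) (x : A')
    (hx : red0 J x = 0) : x ∈ 𝔪 • (⊤ : Submodule C' A') := by
  have hx' : x ∈ J.map (algebraMap C' A') := Ideal.Quotient.eq_zero_iff_mem.mp hx
  have h1 : x ∈ (J.map (algebraMap C' A')) • (⊤ : Submodule A' A') := by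
    rwa [smul_eq_mul, Ideal.mul_top]
  have h2 := (RQ.mem_smul_top_iff J x).mpr h1
  exact Submodule.smul_mono hJle le_rfl h2

end reduction

end Groth.Agent.Helper17.HB

namespace Groth.Agent.Helper17.HB

open Function

section quot

variable {C S : Type u} [CommRing C] [CommRing S] [Algebra C S] {ι : Type} [Fintype ι]

theorem mkQ_restrict_surjective (I : Ideal S) :
    Surjective ((Submodule.mkQ I).restrictScalars C) := fun y => by
  obtain ⟨x, rfl⟩ := Submodule.mkQ_surjective I y
  exact ⟨x, rfl⟩

theorem mkQ_restrict_exact (v : ι → S) :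
    Exact ((Fintype.linearCombination S v).restrictScalars C)
      ((Submodule.mkQ (Ideal.span (Set.range v))).restrictScalars C) := by
  intro y
  show Submodule.mkQ (Ideal.span (Set.range v)) y = 0 ↔
    y ∈ Set.range (Fintype.linearCombination S v)
  rw [Submodule.mkQ_apply, Submodule.Quotient.mk_eq_zero]
  show y ∈ Ideal.span _ ↔ y ∈ LinearMap.range (Fintype.linearCombination S v)
  rw [Fintype.range_linearCombination]

theorem exact_restrict {M N P : Type u} [AddCommGroup M] [Module S M] [Module C M]
    [IsScalarTower C S M] [AddCommGroup N] [Module S N] [Module C N] [IsScalarTower C S N]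
    [AddCommGroup P] [Module S P] [Module C P] [IsScalarTower C S P]
    (f : M →ₗ[S] N) (g : N →ₗ[S] P) (h : LinearMap.range f = LinearMap.ker g) :
    Exact (f.restrictScalars C) (g.restrictScalars C) := by
  intro y
  show g y = 0 ↔ y ∈ Set.range f
  rw [← LinearMap.mem_ker, ← h]
  rfl

end quot

end Groth.Agent.Helper17.HB
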