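import Mathlib
import Groth.Agent.Lib.Helper17.HB2

set_option autoImplicit false
universe u
open scoped TensorProduct

namespace Groth.Agent.Helper17.HB

open IsLocalRing Function Groth.Agent.Helper22.ArtFlat

theorem main11457 (C' : Type u) [CommRing C'] [IsLocalRing C'] [IsArtinianRing C'] (J : Ideal C')
    (hJne : J ≠ ⊤) (A' : Type u) [CommRing A'] [Algebra C' A'] [Module.Flat C' A']
    (r : ℕ) (φ' : Matrix (Fin (r + 1)) (Fin r) A')
    (hφ : (Function.Injective (φ'.map (Ideal.Quotient.mk (J.map (algebraMap C' A')))).mulVecLin ∧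
        LinearMap.range (φ'.map (Ideal.Quotient.mk (J.map (algebraMap C' A')))).mulVecLin = LinearMap.ker (Fintype.linearCombination (A' ⧸ J.map (algebraMap C' A')) (fun i : Fin (r + 1) => (-1 : (A' ⧸ J.map (algebraMap C' A'))) ^ (i : ℕ) * ((φ'.map (Ideal.Quotient.mk (J.map (algebraMap C' A')))).submatrix i.succAbove id).det))))
    [hfl : Module.Flat (C' ⧸ J) ((A' ⧸ J.map (algebraMap C' A')) ⧸ Ideal.span (Set.range (fun i : Fin (r + 1) => (-1 : (A' ⧸ J.map (algebraMap C' A'))) ^ (i : ℕ) * ((φ'.map (Ideal.Quotient.mk (J.map (algebraMap C' A')))).submatrix i.succAbove id).det)))] :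
    Function.Injective φ'.mulVecLin ∧
      LinearMap.range φ'.mulVecLin = LinearMap.ker (Fintype.linearCombination A' (fun i : Fin (r + 1) => (-1 : A') ^ (i : ℕ) * ((φ').submatrix i.succAbove id).det)) ∧
      Module.Flat C' (A' ⧸ Ideal.span (Set.range (fun i : Fin (r + 1) => (-1 : A') ^ (i : ℕ) * ((φ').submatrix i.succAbove id).det))) := by
  obtain ⟨hinj, hker⟩ := hφ
  show Function.Injective φ'.mulVecLin ∧
      LinearMap.range φ'.mulVecLin = LinearMap.ker (Fintype.linearCombination A' (mm φ')) ∧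
      Module.Flat C' (A' ⧸ Ideal.span (Set.range (mm φ')))
  change LinearMap.range (φ'.map (Ideal.Quotient.mk (J.map (algebraMap C' A')))).mulVecLin =
    LinearMap.ker (Fintype.linearCombination (A' ⧸ J.map (algebraMap C' A'))
      (mm (φ'.map (Ideal.Quotient.mk (J.map (algebraMap C' A')))))) at hker
  have hflQ : Module.Flat (C' ⧸ J) ((A' ⧸ J.map (algebraMap C' A')) ⧸
      Ideal.span (Set.range (mm (φ'.map (Ideal.Quotient.mk (J.map (algebraMap C' A'))))))) := hfl
  have hm' : IsNilpotent (maximalIdeal C') := isNilpotent_maximalIdeal C'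
  have hJle : J ≤ maximalIdeal C' := IsLocalRing.le_maximalIdeal hJne
  have hCnt : Nontrivial (C' ⧸ J) := Ideal.Quotient.nontrivial_iff.mpr hJne
  have hCL : IsLocalRing (C' ⧸ J) :=
    IsLocalRing.of_surjective' (Ideal.Quotient.mk J) Ideal.Quotient.mk_surjective
  have hLH : IsLocalHom (Ideal.Quotient.mk J) :=
    IsLocalHom.of_surjective _ Ideal.Quotient.mk_surjective
  have hmC_eq : (maximalIdeal C').map (Ideal.Quotient.mk J) = maximalIdeal (C' ⧸ J) := by
    have h := Ideal.map_comap_of_surjective (Ideal.Quotient.mk J) Ideal.Quotient.mk_surjective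
      (maximalIdeal (C' ⧸ J))
    rwa [IsLocalRing.maximalIdeal_comap] at h
  have hflA : Module.Flat (C' ⧸ J) (A' ⧸ J.map (algebraMap C' A')) := flat_quotient_map J
  have hflPi : ∀ n : ℕ, Module.Flat C' (Fin n → A') := fun n =>
    Module.Flat.of_linearEquiv
      (DFinsupp.linearEquivFunOnFintype (R := C') (ι := Fin n) (M := fun _ => A')).symm
  -- the reduced complex over `C = C'/J`
  have hB := lemmaB (R := C' ⧸ J)
    (d₂ := (φ'.map (Ideal.Quotient.mk (J.map (algebraMap C' A')))).mulVecLin.restrictScalars (C' ⧸ J))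
    (d₁ := (Fintype.linearCombination (A' ⧸ J.map (algebraMap C' A'))
      (mm (φ'.map (Ideal.Quotient.mk (J.map (algebraMap C' A')))))).restrictScalars (C' ⧸ J))
    (q := (Submodule.mkQ (Ideal.span (Set.range
      (mm (φ'.map (Ideal.Quotient.mk (J.map (algebraMap C' A')))))))).restrictScalars (C' ⧸ J))
    (mkQ_restrict_surjective _) (mkQ_restrict_exact _) hinj (exact_restrict _ _ hker)
  obtain ⟨KB1, KB2⟩ := hB
  rw [← hmC_eq] at KB1 KB2
  -- transfer to `C'`
  have K1 : ∀ v : Fin r → A', φ'.mulVecLin v ∈ maximalIdeal C' • (⊤ : Submodule C' (Fin (r + 1) → A')) →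
      v ∈ maximalIdeal C' • (⊤ : Submodule C' (Fin r → A')) := by
    intro v hv
    have h1 := transfer_mp J (maximalIdeal C') (redFun J (r + 1)) hv
    have h2 : redFun J (r + 1) (φ'.mulVecLin v) =
        (φ'.map (Ideal.Quotient.mk (J.map (algebraMap C' A')))).mulVecLin (redFun J r v) :=
      (mulVec_map (Ideal.Quotient.mk (J.map (algebraMap C' A'))) φ' v).symm
    rw [h2] at h1
    exact transfer_mpr J (maximalIdeal C') (redFun J r) (redFun_surjective J r)
      (ker_redFun hJle r) (KB1 _ h1)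
  have K2 : ∀ w : Fin (r + 1) → A',
      Fintype.linearCombination A' (mm φ') w ∈ maximalIdeal C' • (⊤ : Submodule C' A') →
      w ∈ LinearMap.range (φ'.mulVecLin.restrictScalars C') ⊔
        maximalIdeal C' • (⊤ : Submodule C' (Fin (r + 1) → A')) := by
    intro w hw
    have h1 := transfer_mp J (maximalIdeal C') (red0 J) hw
    have h2 : red0 J (Fintype.linearCombination A' (mm φ') w) =
        Fintype.linearCombination (A' ⧸ J.map (algebraMap C' A'))
          (mm (φ'.map (Ideal.Quotient.mk (J.map (algebraMap C' A'))))) (redFun J (r + 1) w) :=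
      (lc_map (Ideal.Quotient.mk (J.map (algebraMap C' A'))) φ' w).symm
    rw [h2] at h1
    obtain ⟨a, ⟨vb, rfl⟩, z, hz, hsum⟩ := Submodule.mem_sup.mp (KB2 _ h1)
    obtain ⟨v, rfl⟩ := redFun_surjective J r vb
    have h3 : redFun J (r + 1) (w - φ'.mulVecLin v) = z := by
      rw [map_sub, ← hsum]
      have : redFun J (r + 1) (φ'.mulVecLin v) =
          (φ'.map (Ideal.Quotient.mk (J.map (algebraMap C' A')))).mulVecLin (redFun J r v) :=
        (mulVec_map (Ideal.Quotient.mk (J.map (algebraMap C' A'))) φ' v).symm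
      rw [this]
      exact add_sub_cancel_left _ _
    have h4 : w - φ'.mulVecLin v ∈ maximalIdeal C' • (⊤ : Submodule C' (Fin (r + 1) → A')) :=
      transfer_mpr J (maximalIdeal C') (redFun J (r + 1)) (redFun_surjective J (r + 1))
        (ker_redFun hJle (r + 1)) (h3 ▸ hz)
    have h5 : w = φ'.mulVecLin v + (w - φ'.mulVecLin v) := by abel
    rw [h5]
    exact Submodule.add_mem_sup ⟨v, rfl⟩ h4
  have hA := lemmaA (R := C') hm'
    (d₂ := φ'.mulVecLin.restrictScalars C')
    (d₁ := (Fintype.linearCombination A' (mm φ')).restrictScalars C')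
    (q := (Submodule.mkQ (Ideal.span (Set.range (mm φ')))).restrictScalars C')
    (mkQ_restrict_surjective _) (mkQ_restrict_exact _)
    (fun v => comp_zero φ' v) K1 K2
  obtain ⟨G1, G2, G3⟩ := hA
  refine ⟨G1, ?_, G3⟩
  ext w
  constructor
  · rintro ⟨v, rfl⟩
    exact comp_zero φ' v
  · intro hw
    exact G2 w hw

end Groth.Agent.Helper17.HB
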