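import Groth.Prelude.Def_HopfRep
import Mathlib

/-!
# Helper17: for a comodule algebra `S` over a commutative Hopf algebra `H`, the map
`S ⊗ H → S ⊗ H`, `x ⊗ h ↦ ρ(x) (1 ⊗ h)` is bijective.
-/

set_option autoImplicit false
set_option linter.unusedSectionVars false
universe u

namespace Groth.Agent.Helper17.HI

open TensorProduct

variable {k : Type u} [CommRing k] {H : Type u} [CommRing H] [HopfAlgebra k H]
  {S : Type u} [CommRing S] [Algebra k S] [HopfRep.Comod k H S]

variable (k H) in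
/-- `b ⊗ c ↦ b * S(c) * h`. -/
noncomputable def Nl (h : H) : H ⊗[k] H →ₗ[k] H :=
  LinearMap.mulRight k h ∘ₗ LinearMap.mul' k H ∘ₗ (HopfAlgebra.antipode k).lTensor H

variable (k H) in
/-- `c ⊗ b ↦ S(c) * b * h`. -/
noncomputable def Nr (h : H) : H ⊗[k] H →ₗ[k] H :=
  LinearMap.mulRight k h ∘ₗ LinearMap.mul' k H ∘ₗ (HopfAlgebra.antipode k).rTensor H

theorem Nl_tmul (h b c : H) : Nl k H h (b ⊗ₜ c) = b * HopfAlgebra.antipode k c * h := by
  simp [Nl]

theorem Nr_tmul (h b c : H) : Nr k H h (c ⊗ₜ b) = HopfAlgebra.antipode k c * b * h := by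
  simp [Nr]

theorem Nl_comp_comul (h : H) :
    Nl k H h ∘ₗ Coalgebra.comul = LinearMap.toSpanSingleton k H h ∘ₗ Coalgebra.counit := by
  ext c
  simp only [Nl, LinearMap.comp_apply, HopfAlgebra.mul_antipode_lTensor_comul_apply,
    LinearMap.mulRight_apply, LinearMap.toSpanSingleton_apply, Algebra.smul_def]

theorem Nr_comp_comul (h : H) :
    Nr k H h ∘ₗ Coalgebra.comul = LinearMap.toSpanSingleton k H h ∘ₗ Coalgebra.counit := by
  ext c
  simp only [Nr, LinearMap.comp_apply, HopfAlgebra.mul_antipode_rTensor_comul_apply,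
    LinearMap.mulRight_apply, LinearMap.toSpanSingleton_apply, Algebra.smul_def]

variable (k H S) in
/-- the coaction. -/
noncomputable abbrev rho : S →ₗ[k] S ⊗[k] H := HopfRep.Comod.coact (k := k) (A := H)

/-- consequence of coassociativity and counitality. -/
theorem lTensor_comp_coassoc (N : H ⊗[k] H →ₗ[k] H) (h : H)
    (hN : N ∘ₗ Coalgebra.comul = LinearMap.toSpanSingleton k H h ∘ₗ Coalgebra.counit) (x : S) :
    N.lTensor S ((TensorProduct.assoc k S H H) ((rho k H S).rTensor H (rho k H S x))) = x ⊗ₜ[k] h := by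
  have h1 := LinearMap.congr_fun (HopfRep.Comod.coassoc (k := k) (A := H) (V := S)) x
  simp only [LinearMap.comp_apply, LinearEquiv.coe_coe] at h1
  rw [h1, ← LinearMap.comp_apply, ← LinearMap.lTensor_comp, hN, LinearMap.lTensor_comp,
    LinearMap.comp_apply]
  have h2 := LinearMap.congr_fun (HopfRep.Comod.counit_comp (k := k) (A := H) (V := S)) x
  simp only [LinearMap.comp_apply, LinearMap.flip_apply, TensorProduct.mk_apply] at h2
  rw [h2, LinearMap.lTensor_tmul, LinearMap.toSpanSingleton_apply, one_smul]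

/-- `Ψ`, the inverse map. -/
noncomputable def Psi : S ⊗[k] H →ₗ[k] S ⊗[k] H :=
  (LinearMap.mul' k H ∘ₗ (HopfAlgebra.antipode k).rTensor H).lTensor S ∘ₗ
    (TensorProduct.assoc k S H H).toLinearMap ∘ₗ (rho k H S).rTensor H

theorem Psi_tmul (x : S) (h : H) :
    Psi (x ⊗ₜ[k] h) = (LinearMap.mul' k H ∘ₗ (HopfAlgebra.antipode k).rTensor H).lTensor S
      ((TensorProduct.assoc k S H H) (rho k H S x ⊗ₜ[k] h)) := rfl

theorem aux_L (h b : H) (u : S ⊗[k] H) :
    u * ((1 : S) ⊗ₜ[k] (HopfAlgebra.antipode k b * h)) =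
      (Nl k H h).lTensor S ((TensorProduct.assoc k S H H) (u ⊗ₜ[k] b)) := by
  induction u using TensorProduct.induction_on with
  | zero => simp
  | tmul a c =>
    rw [Algebra.TensorProduct.tmul_mul_tmul, mul_one, TensorProduct.assoc_tmul, LinearMap.lTensor_tmul,
      Nl_tmul, mul_assoc]
  | add u v hu hv => rw [add_mul, hu, hv, TensorProduct.add_tmul, map_add, map_add]

theorem aux_L' (h b : H) (u : S ⊗[k] H) :
    (LinearMap.mul' k H ∘ₗ (HopfAlgebra.antipode k).rTensor H).lTensor S
        ((TensorProduct.assoc k S H H) (u ⊗ₜ[k] (b * h))) =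
      (Nr k H h).lTensor S ((TensorProduct.assoc k S H H) (u ⊗ₜ[k] b)) := by
  induction u using TensorProduct.induction_on with
  | zero => simp
  | tmul a c =>
    rw [TensorProduct.assoc_tmul, TensorProduct.assoc_tmul, LinearMap.lTensor_tmul, LinearMap.lTensor_tmul,
      Nr_tmul]
    simp [mul_assoc]
  | add u v hu hv =>
    rw [TensorProduct.add_tmul, TensorProduct.add_tmul, map_add, map_add, map_add, map_add, hu, hv]

end Groth.Agent.Helper17.HI
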