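import Groth.Agent.Lib.Helper17.HI1

/-!
# Helper17: the coaction of a comodule algebra preserves non-zero-divisors.
-/

set_option autoImplicit false
set_option linter.unusedSectionVars false
universe u

namespace Groth.Agent.Helper17.HI

open TensorProduct

variable {k : Type u} [CommRing k] {H : Type u} [CommRing H] [HopfAlgebra k H]
  {S : Type u} [CommRing S] [Algebra k S] [HopfRep.Comod k H S]
variable (hmul : ∀ x y : S, rho k H S (x * y) = rho k H S x * rho k H S y) (hone : rho k H S 1 = 1)

/-- the coaction as an algebra homomorphism. -/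
noncomputable def rhoAlg : S →ₐ[k] S ⊗[k] H := AlgHom.ofLinearMap (rho k H S) hone hmul

theorem rhoAlg_apply (x : S) : rhoAlg hmul hone x = rho k H S x := rfl

/-- `x ⊗ h ↦ ρ(x) (1 ⊗ h)`. -/
noncomputable def Theta : S ⊗[k] H →ₐ[k] S ⊗[k] H :=
  Algebra.TensorProduct.productMap (rhoAlg hmul hone) Algebra.TensorProduct.includeRight

theorem Theta_tmul (x : S) (h : H) :
    Theta hmul hone (x ⊗ₜ[k] h) = rho k H S x * ((1 : S) ⊗ₜ[k] h) := by
  simp [Theta, rhoAlg_apply]

theorem Theta_Psi_aux (t : S ⊗[k] H) (h : H) :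
    Theta hmul hone ((LinearMap.mul' k H ∘ₗ (HopfAlgebra.antipode k).rTensor H).lTensor S
        ((TensorProduct.assoc k S H H) (t ⊗ₜ[k] h))) =
      (Nl k H h).lTensor S ((TensorProduct.assoc k S H H) ((rho k H S).rTensor H t)) := by
  induction t using TensorProduct.induction_on with
  | zero => simp
  | tmul a b =>
    rw [TensorProduct.assoc_tmul, LinearMap.lTensor_tmul, LinearMap.rTensor_tmul, ← aux_L]
    simp only [LinearMap.comp_apply, LinearMap.rTensor_tmul, LinearMap.mul'_apply]
    rw [Theta_tmul]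
  | add u v hu hv =>
    rw [TensorProduct.add_tmul, map_add, map_add, map_add, hu, hv, map_add, map_add, map_add]

theorem Theta_Psi_tmul (x : S) (h : H) : Theta hmul hone (Psi (x ⊗ₜ[k] h)) = x ⊗ₜ[k] h := by
  rw [Psi_tmul, Theta_Psi_aux, lTensor_comp_coassoc _ h (Nl_comp_comul h)]

theorem Psi_Theta_aux (t : S ⊗[k] H) (h : H) :
    Psi (t * ((1 : S) ⊗ₜ[k] h)) =
      (Nr k H h).lTensor S ((TensorProduct.assoc k S H H) ((rho k H S).rTensor H t)) := by
  induction t using TensorProduct.induction_on with
  | zero => simp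
  | tmul a b =>
    rw [Algebra.TensorProduct.tmul_mul_tmul, mul_one, Psi_tmul, aux_L', LinearMap.rTensor_tmul]
  | add u v hu hv =>
    rw [add_mul, map_add, hu, hv, map_add, map_add, map_add]

theorem Psi_Theta_tmul (x : S) (h : H) : Psi (Theta hmul hone (x ⊗ₜ[k] h)) = x ⊗ₜ[k] h := by
  rw [Theta_tmul, Psi_Theta_aux, lTensor_comp_coassoc _ h (Nr_comp_comul h)]

theorem Theta_Psi (z : S ⊗[k] H) : Theta hmul hone (Psi z) = z := by
  induction z using TensorProduct.induction_on with
  | zero => simp
  | tmul x h => exact Theta_Psi_tmul hmul hone x h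
  | add u v hu hv => rw [map_add, map_add, hu, hv]

theorem Psi_Theta (z : S ⊗[k] H) : Psi (Theta hmul hone z) = z := by
  induction z using TensorProduct.induction_on with
  | zero => simp
  | tmul x h => exact Psi_Theta_tmul hmul hone x h
  | add u v hu hv => rw [map_add, map_add, hu, hv]

theorem tmul_one_mem_nonZeroDivisors [Module.Flat k H] (s : S) (hs : s ∈ nonZeroDivisors S) :
    s ⊗ₜ[k] (1 : H) ∈ nonZeroDivisors (S ⊗[k] H) := by
  rw [mem_nonZeroDivisors_iff_left]
  intro z hz
  have hinj : Function.Injective ((LinearMap.mulLeft k s).rTensor H) := by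
    apply Module.Flat.rTensor_preserves_injective_linearMap
    intro a b hab
    have : s * (a - b) = 0 := by
      rw [mul_sub, sub_eq_zero]
      exact hab
    exact sub_eq_zero.mp ((mem_nonZeroDivisors_iff_left.mp hs) _ this)
  have hmulz : ∀ z : S ⊗[k] H, (s ⊗ₜ[k] (1 : H)) * z = (LinearMap.mulLeft k s).rTensor H z := by
    intro z
    induction z using TensorProduct.induction_on with
    | zero => simp
    | tmul a b => simp
    | add u v hu hv => rw [mul_add, hu, hv, map_add]
  apply hinj
  rw [← hmulz, hz, map_zero]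

include hmul hone in
theorem rho_mem_nonZeroDivisors [Module.Flat k H] (s : S) (hs : s ∈ nonZeroDivisors S) :
    rho k H S s ∈ nonZeroDivisors (S ⊗[k] H) := by
  rw [mem_nonZeroDivisors_iff_left]
  intro z hz
  have h1 : rho k H S s = Theta hmul hone (s ⊗ₜ[k] (1 : H)) := by
    rw [Theta_tmul]
    change _ = _ * (1 : S ⊗[k] H)
    rw [mul_one]
  rw [h1, ← Theta_Psi hmul hone z, ← map_mul] at hz
  have h2 := congrArg Psi hz
  rw [Psi_Theta, map_zero] at h2
  have h3 := (mem_nonZeroDivisors_iff_left.mp (tmul_one_mem_nonZeroDivisors s hs)) _ h2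
  rw [← Theta_Psi hmul hone z, h3, map_zero]

end Groth.Agent.Helper17.HI
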