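import Mathlib
import Groth.Agent.Lib.Helper26.Chev

/-!
# Symbolic powers of a dimension-one prime in a complete local domain (helper17)

`p^(m) ⊆ p^n` for `m ≫ 0` (Chevalley).
-/

set_option autoImplicit false
universe u

namespace Groth.Agent.Helper17.HL

open IsLocalRing

section Prime

theorem sup_pow_le {A : Type u} [CommRing A] (I J : Ideal A) (n : ℕ) : (I ⊔ J) ^ n ≤ I ^ n ⊔ J := by
  induction n with
  | zero => simp
  | succ n ih =>
    rw [pow_succ]
    refine (Ideal.mul_mono_left ih).trans ?_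
    rw [Ideal.sup_mul, Ideal.mul_sup, Ideal.mul_sup, ← pow_succ]
    refine sup_le (sup_le le_sup_left (Ideal.mul_le_right.trans le_sup_right)) ?_
    exact sup_le (Ideal.mul_le_left.trans le_sup_right) (Ideal.mul_le_right.trans le_sup_right)

variable {A : Type u} [CommRing A] [IsLocalRing A]

/-- a prime strictly containing a prime `p` with `dim A/p ≤ 1` is the maximal ideal -/
theorem eq_maximalIdeal_of_lt (p : Ideal A) [hp : p.IsPrime]
    (hdim : ringKrullDim (A ⧸ p) ≤ 1) (P : Ideal A) [hP : P.IsPrime] (hpP : p < P) :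
    P = maximalIdeal A := by
  have hK : Ring.KrullDimLE 1 (A ⧸ p) := Ring.krullDimLE_iff.mpr (by simpa using hdim)
  have hker : RingHom.ker (Ideal.Quotient.mk p) ≤ P := by
    rw [Ideal.mk_ker]; exact hpP.le
  have hprime : (P.map (Ideal.Quotient.mk p)).IsPrime :=
    Ideal.map_isPrime_of_surjective Ideal.Quotient.mk_surjective hker
  have hne : P.map (Ideal.Quotient.mk p) ≠ ⊥ := by
    intro h
    rw [Ideal.map_eq_bot_iff_le_ker, Ideal.mk_ker] at h
    exact absurd (lt_of_lt_of_le hpP h) (lt_irrefl _)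
  have hmax : (P.map (Ideal.Quotient.mk p)).IsMaximal :=
    Ideal.IsPrime.isMaximal_of_ne_bot hprime hne
  have hcomap : (P.map (Ideal.Quotient.mk p)).comap (Ideal.Quotient.mk p) = P := by
    rw [Ideal.comap_map_of_surjective _ Ideal.Quotient.mk_surjective, ← RingHom.ker_eq_comap_bot]
    exact sup_eq_left.mpr hker
  have : P.IsMaximal := by
    rw [← hcomap]
    exact Ideal.comap_isMaximal_of_surjective _ Ideal.Quotient.mk_surjective
  exact IsLocalRing.eq_maximalIdeal this

end Prime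

section Symbolic

variable {A : Type u} [CommRing A] [IsDomain A] [IsLocalRing A] [IsNoetherianRing A]

/-- the `m`-th symbolic power of `p` -/
noncomputable def symb (p : Ideal A) [p.IsPrime] (m : ℕ) : Ideal A :=
  ((Ideal.map (algebraMap A (Localization.AtPrime p)) p) ^ m).comap
    (algebraMap A (Localization.AtPrime p))

theorem algebraMap_atPrime_injective (p : Ideal A) [p.IsPrime] :
    Function.Injective (algebraMap A (Localization.AtPrime p)) :=
  IsLocalization.injective (Localization.AtPrime p) p.primeCompl_le_nonZeroDivisors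

theorem mem_symb_iff (p : Ideal A) [p.IsPrime] (m : ℕ) (x : A) :
    x ∈ symb p m ↔ ∃ s : A, s ∉ p ∧ s * x ∈ p ^ m := by
  rw [symb, Ideal.mem_comap, ← Ideal.map_pow,
    IsLocalization.mem_map_algebraMap_iff p.primeCompl]
  constructor
  · rintro ⟨⟨⟨a, ha⟩, ⟨s, hs⟩⟩, h⟩
    refine ⟨s, hs, ?_⟩
    have h2 : algebraMap A (Localization.AtPrime p) (x * s) =
        algebraMap A (Localization.AtPrime p) a := by
      rw [map_mul]; exact h
    have h3 := algebraMap_atPrime_injective p h2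
    rw [mul_comm, h3]; exact ha
  · rintro ⟨s, hs, h⟩
    exact ⟨⟨⟨s * x, h⟩, ⟨s, hs⟩⟩, by simp [mul_comm]⟩

theorem pow_le_symb (p : Ideal A) [p.IsPrime] (m : ℕ) : p ^ m ≤ symb p m := by
  intro x hx
  rw [mem_symb_iff]
  exact ⟨1, fun h => (Ideal.ne_top_iff_one p).mp (Ideal.IsPrime.ne_top inferInstance) h, by simpa using hx⟩

theorem symb_antitone (p : Ideal A) [p.IsPrime] : Antitone (symb p) := by
  intro m n hmn
  exact Ideal.comap_mono (Ideal.pow_le_pow_right hmn)

theorem iInf_symb (p : Ideal A) [p.IsPrime] : ⨅ m, symb p m = ⊥ := by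
  rw [eq_bot_iff]
  intro x hx
  rw [Ideal.mem_iInf] at hx
  have h1 : algebraMap A (Localization.AtPrime p) x ∈
      ⨅ m, (Ideal.map (algebraMap A (Localization.AtPrime p)) p) ^ m := by
    rw [Ideal.mem_iInf]
    intro m
    exact hx m
  have hne : Ideal.map (algebraMap A (Localization.AtPrime p)) p ≠ ⊤ := by
    rw [Localization.AtPrime.map_eq_maximalIdeal]
    exact Ideal.IsPrime.ne_top'
  rw [Ideal.iInf_pow_eq_bot_of_isLocalRing _ hne, Ideal.mem_bot] at h1
  rw [Ideal.mem_bot]
  exact algebraMap_atPrime_injective p (by rw [h1, map_zero])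

/-- there is `s ∉ p` multiplying the symbolic power into the ordinary power -/
theorem exists_smul_symb_le (p : Ideal A) [p.IsPrime] (n : ℕ) :
    ∃ s : A, s ∉ p ∧ ∀ x ∈ symb p n, s * x ∈ p ^ n := by
  classical
  obtain ⟨t, ht⟩ := (IsNoetherian.noetherian (symb p n) : (symb p n).FG)
  have h1 : ∀ x ∈ t, ∃ s : A, s ∉ p ∧ s * x ∈ p ^ n := by
    intro x hx
    have : x ∈ symb p n := by rw [← ht]; exact Ideal.subset_span hx
    exact (mem_symb_iff p n x).mp this
  choose! s hs using h1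
  refine ⟨∏ x ∈ t, s x, ?_, ?_⟩
  · intro h
    obtain ⟨x, hx, hxp⟩ := (Ideal.IsPrime.prod_mem_iff (hp := inferInstance)).mp h
    exact (hs x hx).1 hxp
  · intro x hx
    rw [← ht] at hx
    refine Submodule.span_induction ?_ ?_ ?_ ?_ hx
    · intro y hy
      obtain ⟨c, hc⟩ := Finset.dvd_prod_of_mem s hy
      rw [hc, mul_comm (s y) c, mul_assoc]
      exact Ideal.mul_mem_left _ _ (hs y hy).2
    · simp
    · intro y z _ _ hy hz
      rw [mul_add]; exact Ideal.add_mem _ hy hz
    · intro a y _ hy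
      rw [smul_eq_mul, mul_left_comm]
      exact Ideal.mul_mem_left _ _ hy

/-- a power of the maximal ideal multiplies `p^(n)` into `p^n` when `dim A/p ≤ 1` -/
theorem exists_pow_mul_symb_le (p : Ideal A) [p.IsPrime] (hdim : ringKrullDim (A ⧸ p) ≤ 1)
    (n : ℕ) : ∃ k : ℕ, maximalIdeal A ^ k * symb p n ≤ p ^ n := by
  obtain ⟨s, hsp, hs⟩ := exists_smul_symb_le p n
  have hrad : maximalIdeal A ≤ (p ⊔ Ideal.span {s}).radical := by
    rw [Ideal.radical_eq_sInf]
    apply le_sInf
    rintro P ⟨hP, hPprime⟩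
    have hpP : p < P := by
      refine lt_of_le_of_ne (le_sup_left.trans hP) ?_
      rintro rfl
      exact hsp (hP (Ideal.mem_sup_right (Ideal.mem_span_singleton_self s)))
    rw [eq_maximalIdeal_of_lt p hdim P hpP]
  obtain ⟨c, hc⟩ := Ideal.exists_pow_le_of_le_radical_of_fg hrad
    (IsNoetherian.noetherian (maximalIdeal A))
  refine ⟨c * n, ?_⟩
  have h1 : maximalIdeal A ^ (c * n) ≤ p ^ n ⊔ Ideal.span {s} := by
    rw [pow_mul]
    refine (Ideal.pow_right_mono hc n).trans ?_
    exact sup_pow_le p (Ideal.span {s}) n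
  rw [Ideal.mul_le]
  intro a ha x hx
  obtain ⟨b, hb, c, hc, rfl⟩ := Submodule.mem_sup.mp (h1 ha)
  obtain ⟨d, rfl⟩ := Ideal.mem_span_singleton'.mp hc
  rw [add_mul]
  refine Ideal.add_mem _ (Ideal.mul_mem_right _ _ hb) ?_
  rw [mul_assoc]
  exact Ideal.mul_mem_left _ _ (hs x hx)

/-- `p^(n) ∩ m^j ⊆ p^n` for `j ≫ 0` -/
theorem exists_symb_inf_pow_le (p : Ideal A) [p.IsPrime] (hdim : ringKrullDim (A ⧸ p) ≤ 1)
    (n : ℕ) : ∃ j : ℕ, symb p n ⊓ maximalIdeal A ^ j ≤ p ^ n := by
  obtain ⟨k, hk⟩ := exists_pow_mul_symb_le p hdim n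
  obtain ⟨c, hc⟩ := Ideal.exists_pow_inf_eq_pow_smul (maximalIdeal A) (symb p n : Submodule A A)
  refine ⟨c + k, ?_⟩
  have h1 := hc (c + k) (by omega)
  have h2 : (maximalIdeal A ^ (c + k) • (⊤ : Submodule A A)) = maximalIdeal A ^ (c + k) := by
    rw [smul_eq_mul, Ideal.mul_top]
  rw [h2] at h1
  rw [inf_comm, h1, Nat.add_sub_cancel_left]
  refine le_trans ?_ hk
  rw [smul_eq_mul]
  exact Ideal.mul_mono_right inf_le_right

/-- **Symbolic powers are cofinal with ordinary powers** for a prime of dimension one in a complete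
local domain. -/
theorem exists_symb_le_pow [IsAdicComplete (maximalIdeal A) A] (p : Ideal A) [p.IsPrime]
    (hdim : ringKrullDim (A ⧸ p) ≤ 1) (n : ℕ) : ∃ m : ℕ, n ≤ m ∧ symb p m ≤ p ^ n := by
  obtain ⟨j, hj⟩ := exists_symb_inf_pow_le p hdim n
  obtain ⟨u, hu⟩ := Groth.Agent.Helper26.Chev.main (symb p) (symb_antitone p) (iInf_symb p) j
  refine ⟨max u n, le_max_right _ _, ?_⟩
  refine le_trans ?_ hj
  exact le_inf (symb_antitone p (le_max_right _ _)) ((symb_antitone p (le_max_left _ _)).trans hu)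

end Symbolic

theorem main1735 (A : Type u) [CommRing A] [IsDomain A] [IsLocalRing A] [IsNoetherianRing A] [IsAdicComplete (IsLocalRing.maximalIdeal A) A] (p : Ideal A) [p.IsPrime] (hp : ringKrullDim (A ⧸ p) = 1) (n : ℕ) (hn : 1 ≤ n) : ∃ m : ℕ, n ≤ m ∧ ((Ideal.map (algebraMap A (Localization.AtPrime p)) p) ^ m).comap (algebraMap A (Localization.AtPrime p)) ≤ p ^ n :=
  exists_symb_le_pow p hp.le n

end Groth.Agent.Helper17.HL
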