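import Mathlib
import Groth.Agent.Lib.Helper8.LCBasic

/-!
# Vanishing of local cohomology from a cofinal family of ideals (helper17)
-/

set_option autoImplicit false
universe u

namespace Groth.Agent.Helper17.HL

open CategoryTheory Abelian Groth.Agent.Helper8.LC

variable {R : Type u} [CommRing R]

/-- if for every `n` there is an ideal `I^m ≤ b ≤ I^n` with `Ext^i(R/b, M) = 0`, then
`H^i_I(M) = 0` -/
theorem H_subsingleton_of_cofinal (I : Ideal R) (i : ℕ) (M : Type u) [AddCommGroup M] [Module R M]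
    (h : ∀ n : ℕ, ∃ (b : Ideal R) (m : ℕ), n ≤ m ∧ I ^ m ≤ b ∧ b ≤ I ^ n ∧
      Subsingleton (Abelian.Ext (ModuleCat.of R (R ⧸ b)) (ModuleCat.of R M) i)) :
    Subsingleton (H I i M) := by
  have h0 : ∀ y : H I i M, y = 0 := by
    intro y
    obtain ⟨n, x, rfl⟩ := exists_rep I i (ModuleCat.of R M) y
    obtain ⟨b, m, hnm, hmb, hbn, hsub⟩ := h n
    rw [← ι_trans I i (ModuleCat.of R M) hnm x]
    let f : RmodPow I m ⟶ ModuleCat.of R (R ⧸ b) :=
      ModuleCat.ofHom (Submodule.mapQ _ _ LinearMap.id hmb)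
    let g : ModuleCat.of R (R ⧸ b) ⟶ RmodPow I n :=
      ModuleCat.ofHom (Submodule.mapQ _ _ LinearMap.id hbn)
    have hfg : trans I hnm = f ≫ g := by
      ext
      rfl
    have h1 : (Abelian.Ext.mk₀ (trans I hnm)).comp x (zero_add i) =
        (Abelian.Ext.mk₀ f).comp ((Abelian.Ext.mk₀ g).comp x (zero_add i)) (zero_add i) := by
      rw [hfg, ← Abelian.Ext.mk₀_comp_mk₀]
      exact Abelian.Ext.comp_assoc _ _ _ (zero_add 0) (zero_add i) (by omega)
    rw [h1, Subsingleton.elim ((Abelian.Ext.mk₀ g).comp x (zero_add i)) 0, Abelian.Ext.comp_zero,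
      map_zero]
  exact ⟨fun a b => by rw [h0 a, h0 b]⟩

end Groth.Agent.Helper17.HL
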