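import Mathlib
import Groth.Agent.Lib.Helper8.Canon9

/-!
# The coinduced module `Hom_A(B, A)` and transfer of `Ext`-vanishing (helper17)

For an `A`-algebra `B` which is projective as an `A`-module, `Ext^n_A(X, A) = 0` implies
`Ext^n_B(X, Hom_A(B, A)) = 0` for finite `B`-modules `X`.
-/

set_option autoImplicit false
universe u

namespace Groth.Agent.Helper17.HL

open CategoryTheory Abelian Groth.Agent.Helper8 Groth.Agent.Helper8.LC Groth.Agent.Helper8.Canon

section CoInd

variable (A B : Type u) [CommRing A] [CommRing B] [Algebra A B]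

/-- the coinduced module `Hom_A(B, A)` -/
def CoInd : Type u := B →ₗ[A] A

noncomputable instance : AddCommGroup (CoInd A B) := inferInstanceAs (AddCommGroup (B →ₗ[A] A))

noncomputable instance : Module A (CoInd A B) := inferInstanceAs (Module A (B →ₗ[A] A))

variable {A B}

/-- view an element of the coinduced module as a linear map -/
def CoInd.toLin (φ : CoInd A B) : B →ₗ[A] A := φ

/-- view a linear map as an element of the coinduced module -/
def CoInd.ofLin (φ : B →ₗ[A] A) : CoInd A B := φ

@[simp] theorem CoInd.toLin_ofLin (φ : B →ₗ[A] A) : (CoInd.ofLin φ).toLin = φ := rfl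

@[simp] theorem CoInd.ofLin_toLin (φ : CoInd A B) : CoInd.ofLin φ.toLin = φ := rfl

@[ext] theorem CoInd.ext {φ ψ : CoInd A B} (h : ∀ b, φ.toLin b = ψ.toLin b) : φ = ψ :=
  LinearMap.ext h

@[simp] theorem CoInd.toLin_add (φ ψ : CoInd A B) : (φ + ψ).toLin = φ.toLin + ψ.toLin := rfl

@[simp] theorem CoInd.toLin_zero : (0 : CoInd A B).toLin = 0 := rfl

@[simp] theorem CoInd.toLin_smulA (a : A) (φ : CoInd A B) : (a • φ).toLin = a • φ.toLin := rfl

noncomputable instance : Module B (CoInd A B) where
  smul b φ := CoInd.ofLin (φ.toLin ∘ₗ LinearMap.mulLeft A b)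
  one_smul φ := by
    apply CoInd.ext; intro x
    change φ.toLin (1 * x) = _
    rw [one_mul]
  mul_smul b c φ := by
    apply CoInd.ext; intro x
    change φ.toLin (b * c * x) = φ.toLin (c * (b * x))
    congr 1; ring
  smul_zero b := by
    apply CoInd.ext; intro x
    rfl
  smul_add b φ ψ := by
    apply CoInd.ext; intro x
    rfl
  add_smul b c φ := by
    apply CoInd.ext; intro x
    change φ.toLin ((b + c) * x) = φ.toLin (b * x) + φ.toLin (c * x)
    rw [add_mul, map_add]
  zero_smul φ := by
    apply CoInd.ext; intro x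
    change φ.toLin (0 * x) = 0
    rw [zero_mul, map_zero]

theorem CoInd.smul_apply (b : B) (φ : CoInd A B) (x : B) : (b • φ).toLin x = φ.toLin (b * x) := rfl

instance : IsScalarTower A B (CoInd A B) where
  smul_assoc a b φ := by
    apply CoInd.ext; intro x
    rw [CoInd.smul_apply, CoInd.toLin_smulA, LinearMap.smul_apply, CoInd.smul_apply,
      smul_mul_assoc, map_smul]

variable {W : Type u} [AddCommGroup W] [Module B W] [Module A W] [IsScalarTower A B W]

/-- `Hom_B(W, Hom_A(B, A)) → Hom_A(W, A)` -/
noncomputable def fromCo (Φ : W →ₗ[B] CoInd A B) : W →ₗ[A] A where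
  toFun w := (Φ w).toLin 1
  map_add' w w' := by rw [map_add]; rfl
  map_smul' a w := by
    have : Φ (a • w) = a • Φ w := by
      rw [← algebraMap_smul B a w, map_smul, algebraMap_smul]
    rw [this]; rfl

/-- `Hom_A(W, A) → Hom_B(W, Hom_A(B, A))` -/
noncomputable def toCo (ρ : W →ₗ[A] A) : W →ₗ[B] CoInd A B where
  toFun w := CoInd.ofLin
    { toFun := fun b => ρ (b • w)
      map_add' := fun b c => by rw [add_smul, map_add]
      map_smul' := fun a b => by rw [smul_assoc, map_smul]; rfl }
  map_add' w w' := by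
    apply CoInd.ext; intro b
    change ρ (b • (w + w')) = ρ (b • w) + ρ (b • w')
    rw [smul_add, map_add]
  map_smul' c w := by
    apply CoInd.ext; intro b
    change ρ (b • c • w) = ρ ((c * b) • w)
    rw [smul_smul, mul_comm]

theorem toCo_apply (ρ : W →ₗ[A] A) (w : W) (b : B) : (toCo ρ w).toLin b = ρ (b • w) := rfl

theorem fromCo_apply (Φ : W →ₗ[B] CoInd A B) (w : W) : fromCo Φ w = (Φ w).toLin 1 := rfl

theorem toCo_fromCo (Φ : W →ₗ[B] CoInd A B) : toCo (fromCo Φ) = Φ := by
  ext w b
  rw [toCo_apply, fromCo_apply, map_smul, CoInd.smul_apply, mul_one]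

theorem fromCo_injective : Function.Injective (fromCo : (W →ₗ[B] CoInd A B) → (W →ₗ[A] A)) := by
  intro Φ Ψ h
  rw [← toCo_fromCo Φ, ← toCo_fromCo Ψ, h]

end CoInd

section Transfer

variable {A B : Type u} [CommRing A] [CommRing B] [Algebra A B] [IsNoetherianRing B]
  [Module.Projective A B]

/-- the `Ext^1` step -/
theorem ext_one_coind {N F X : Type u} [AddCommGroup N] [Module B N] [Module A N]
    [IsScalarTower A B N] [AddCommGroup F] [Module B F] [Module A F] [IsScalarTower A B F]
    [AddCommGroup X] [Module B X] [Module A X] [IsScalarTower A B X]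
    {ι : N →ₗ[B] F} {π : F →ₗ[B] X} (hS : IsSES ι π)
    (hSA : IsSES (ι.restrictScalars A) (π.restrictScalars A))
    [Projective (ModuleCat.of B F)]
    (h : Subsingleton (Abelian.Ext (ModuleCat.of A X) (ModuleCat.of A A) 1)) :
    Subsingleton (Abelian.Ext (ModuleCat.of B X) (ModuleCat.of B (CoInd A B)) 1) := by
  have h0 : ∀ x : Abelian.Ext (ModuleCat.of B X) (ModuleCat.of B (CoInd A B)) 1, x = 0 := by
    intro x
    obtain ⟨ψ', rfl⟩ := homδ_surjective hS (CoInd A B) x
    rw [homδ_exact hS (CoInd A B) ψ']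
    have hψ0 : homδ hSA A (fromCo ψ') = 0 := Subsingleton.elim _ _
    obtain ⟨φ, hφ⟩ := (homδ_exact hSA A (fromCo ψ')).mp hψ0
    refine ⟨toCo φ, ?_⟩
    have hφ' : ∀ n, φ (ι n) = fromCo ψ' n := fun n => LinearMap.congr_fun hφ n
    ext n b
    change (toCo φ (ι n)).toLin b = (ψ' n).toLin b
    rw [toCo_apply, ← map_smul, hφ', fromCo_apply, map_smul, CoInd.smul_apply, mul_one]
  exact ⟨fun x y => by rw [h0 x, h0 y]⟩

/-- `Ext^n_A(X, A) = 0` implies `Ext^n_B(X, Hom_A(B, A)) = 0` -/
theorem ext_coind_subsingleton : ∀ (n : ℕ) (X : Type u) [AddCommGroup X] [Module B X] [Module A X]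
    [IsScalarTower A B X] [Module.Finite B X],
    Subsingleton (Abelian.Ext (ModuleCat.of A X) (ModuleCat.of A A) n) →
    Subsingleton (Abelian.Ext (ModuleCat.of B X) (ModuleCat.of B (CoInd A B)) n) := by
  intro n
  induction n with
  | zero =>
    intro X _ _ _ _ _ h
    have h1 : Subsingleton (X →ₗ[A] A) := (hom0 X A).toEquiv.subsingleton
    have h2 : Subsingleton (X →ₗ[B] CoInd A B) := fromCo_injective.subsingleton
    exact (hom0 X (CoInd A B)).symm.toEquiv.subsingleton
  | succ n ih =>
    intro X _ _ _ _ _ h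
    obtain ⟨a, π, hπ⟩ := Module.Finite.exists_fin' B X
    let K : Submodule B (Fin a → B) := LinearMap.ker π
    have hS : IsSES K.subtype π := isSES_of_surjective hπ
    have hSA : IsSES (K.subtype.restrictScalars A) (π.restrictScalars A) :=
      ⟨hS.inj, hS.exact, hS.surj⟩
    have hproj : Projective (ModuleCat.of B (Fin a → B)) :=
      (IsProjective.iff_projective (Fin a → B)).mp inferInstance
    have hprojA' : Module.Projective A (Fin a → B) :=
      Module.Projective.of_equiv
        (DFinsupp.linearEquivFunOnFintype (R := A) (ι := Fin a) (M := fun _ => B))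
    have hprojA : Projective (ModuleCat.of A (Fin a → B)) :=
      (IsProjective.iff_projective (Fin a → B)).mp hprojA'
    rcases Nat.eq_zero_or_pos n with rfl | hn
    · exact ext_one_coind hS hSA h
    · obtain ⟨m, rfl⟩ := Nat.exists_eq_succ_of_ne_zero hn.ne'
      have hK : Subsingleton (Abelian.Ext (ModuleCat.of A K) (ModuleCat.of A A) (m + 1)) :=
        (extδ_injective hSA (ModuleCat.of A A) m).subsingleton
      have hK' := ih K hK
      exact (extδ_surjective hS (ModuleCat.of B (CoInd A B)) (m + 1)).subsingleton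

end Transfer

end Groth.Agent.Helper17.HL
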