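import Mathlib
import Groth.Agent.Lib.Helper17.HL1
import Groth.Agent.Lib.Helper17.HL2
import Groth.Agent.Lib.Helper17.HL3
import Groth.Agent.Lib.Helper17.EL2
import Groth.Agent.Lib.Helper8.LCTop2

/-!
# The key vanishing over a finite free algebra over a regular local ring (helper17)

`B` a complete local domain, finite free over a regular local ring `A` with `dim A = dim B = r`,
`q` a prime of `B` with `dim B/q ≤ 1` not containing `m_A`. Then `H^i_q(N) = 0` for `i ≥ r`.
-/

set_option autoImplicit false
universe u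

namespace Groth.Agent.Helper17.HL

open CategoryTheory Abelian IsLocalRing Groth.Agent.Helper8 Groth.Agent.Helper8.LC

variable {A B : Type u} [CommRing A] [CommRing B] [Algebra A B]

section Gam

variable [IsDomain B] [IsLocalRing B] [IsNoetherianRing B]

/-- `B/q^(u)` has no `m_A`-torsion when `m_A ⊄ q` -/
theorem gam_quotient_symb_eq_bot (I : Ideal A) (q : Ideal B) [q.IsPrime] (a : A) (ha : a ∈ I)
    (haq : algebraMap A B a ∉ q) (u : ℕ) : gam I (B ⧸ symb q u) = ⊥ := by
  rw [eq_bot_iff]
  intro x hx
  obtain ⟨x, rfl⟩ := Ideal.Quotient.mk_surjective x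
  obtain ⟨n, hn⟩ := (mem_gam I _).mp hx
  have h1 := hn (a ^ n) (Ideal.pow_mem_pow ha n)
  have h2 : (a ^ n) • (Ideal.Quotient.mk (symb q u) x) =
      Ideal.Quotient.mk (symb q u) (algebraMap A B (a ^ n) * x) := by
    rw [Algebra.smul_def, map_mul]
    rfl
  rw [h2, Ideal.Quotient.eq_zero_iff_mem, mem_symb_iff] at h1
  obtain ⟨s, hs, hsx⟩ := h1
  rw [Submodule.mem_bot, Ideal.Quotient.eq_zero_iff_mem, mem_symb_iff]
  refine ⟨s * algebraMap A B (a ^ n), ?_, by rwa [mul_assoc]⟩
  intro hmem
  rcases (Ideal.IsPrime.mem_or_mem inferInstance hmem) with h | h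
  · exact hs h
  · rw [map_pow] at h
    exact haq (Ideal.IsPrime.mem_of_pow_mem inferInstance n h)

end Gam

section Key

variable [IsRegularLocalRing A] [Module.Free A B] [Module.Finite A B]
  [IsDomain B] [IsLocalRing B] [IsNoetherianRing B] [IsAdicComplete (maximalIdeal B) B]

theorem annihilator_coind_eq_bot : Module.annihilator B (CoInd A B) = ⊥ := by
  rw [eq_bot_iff]
  intro b hb
  rw [Module.mem_annihilator] at hb
  rw [Ideal.mem_bot]
  let bs := Module.Free.chooseBasis A B
  apply bs.ext_elem
  intro i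
  have h1 := hb (CoInd.ofLin (bs.coord i))
  have h2 := congrArg (fun φ => CoInd.toLin φ 1) h1
  simp only [CoInd.smul_apply, CoInd.toLin_ofLin, mul_one, CoInd.toLin_zero,
    LinearMap.zero_apply] at h2
  rw [map_zero, Finsupp.zero_apply]
  exact h2

instance finite_coind : Module.Finite B (CoInd A B) := by
  have h1 : Module.Finite A (CoInd A B) := inferInstanceAs (Module.Finite A (B →ₗ[A] A))
  exact Module.Finite.of_restrictScalars_finite A B _

/-- the key vanishing -/
theorem H_subsingleton_of_finite_free (r : ℕ) (hA : ringKrullDim A = r) (hB : ringKrullDim B = r)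
    (q : Ideal B) [q.IsPrime] (hq : ringKrullDim (B ⧸ q) ≤ 1) (a : A) (ha : a ∈ maximalIdeal A)
    (haq : algebraMap A B a ∉ q) (N : Type u) [AddCommGroup N] [Module B N] (i : ℕ)
    (hi : r ≤ i) : Subsingleton (H q i N) := by
  have hproj : Module.Projective A B := inferInstance
  apply H_subsingleton_of_top_vanishing q r hB (CoInd A B) ?_ ?_ N i hi
  · intro P _ _ hP
    rw [Module.mem_support_iff_of_finite, annihilator_coind_eq_bot]
    exact bot_le
  · apply H_subsingleton_of_cofinal
    intro n
    obtain ⟨m, hnm, hm⟩ := exists_symb_le_pow q hq n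
    refine ⟨symb q m, m, hnm, pow_le_symb q m, hm, ?_⟩
    have hfin : Module.Finite B (B ⧸ symb q m) := inferInstance
    have hfinA : Module.Finite A (B ⧸ symb q m) := Module.Finite.trans B _
    apply ext_coind_subsingleton (A := A) (B := B) r (B ⧸ symb q m)
    have h0 : Subsingleton (LocCoh.H (maximalIdeal A) 0 (B ⧸ symb q m)) :=
      H_zero_subsingleton_of_gam_eq_bot (maximalIdeal A) (B ⧸ symb q m)
        (gam_quotient_symb_eq_bot (maximalIdeal A) q a ha haq m)
    have := (Groth.Agent.Helper17.EL.H_subsingleton_iff_ext A r hA (B ⧸ symb q m) 0).mp h0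
      (Nat.zero_le r)
    simpa using this

end Key

end Groth.Agent.Helper17.HL
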