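import Mathlib
import Groth.Agent.Lib.Helper7.ComplJap
import Groth.Agent.Lib.Helper14.CohenLift
import Groth.Agent.Lib.Helper1.AdicExt
import Groth.Agent.Lib.Helper26.AdicPi

/-!
# Finite algebras over complete local rings: locality and completeness (helper17)
-/

set_option autoImplicit false
universe u

namespace Groth.Agent.Helper17.HL

open IsLocalRing

section Local

variable {B R : Type u} [CommRing B] [CommRing R] [Algebra B R] [Algebra.IsIntegral B R]

/-- a subring of a local ring over which the latter is integral is local -/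
theorem isLocalRing_of_isIntegral [IsLocalRing R] (hinj : Function.Injective (algebraMap B R)) :
    IsLocalRing B := by
  have hnt : Nontrivial B := (algebraMap B R).domain_nontrivial
  have hunit : ∀ b : B, IsUnit (algebraMap B R b) → IsUnit b := by
    intro b hb
    by_contra hcon
    obtain ⟨M, hM, hbM⟩ := exists_max_ideal_of_mem_nonunits hcon
    have hker : RingHom.ker (algebraMap B R) ≤ M := by
      rw [(RingHom.injective_iff_ker_eq_bot _).mp hinj]; exact bot_le
    obtain ⟨Q, hQ, hQM⟩ := Ideal.exists_ideal_over_maximal_of_isIntegral (S := R) M hker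
    have : algebraMap B R b ∈ Q := by
      have : b ∈ Q.comap (algebraMap B R) := by rw [hQM]; exact hbM
      exact this
    exact hQ.ne_top (Ideal.eq_top_of_isUnit_mem _ this hb)
  refine IsLocalRing.of_isUnit_or_isUnit_one_sub_self fun b => ?_
  rcases IsLocalRing.isUnit_or_isUnit_one_sub_self (algebraMap B R b) with h | h
  · exact Or.inl (hunit b h)
  · refine Or.inr (hunit (1 - b) ?_)
    rwa [map_sub, map_one]

end Local

section Complete

variable {A B : Type u} [CommRing A] [CommRing B] [Algebra A B] [IsLocalRing A] [IsNoetherianRing A]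
  [IsLocalRing B] [IsNoetherianRing B] [Module.Finite A B]

/-- a prime of `B` containing `m_A B` is the maximal ideal -/
theorem eq_maximalIdeal_of_map_le (P : Ideal B) [P.IsPrime]
    (h : (maximalIdeal A).map (algebraMap A B) ≤ P) : P = maximalIdeal B := by
  have : Algebra.IsIntegral A B := Algebra.IsIntegral.of_finite A B
  have h1 : maximalIdeal A ≤ P.comap (algebraMap A B) := Ideal.map_le_iff_le_comap.mp h
  have h2 : P.comap (algebraMap A B) = maximalIdeal A :=
    ((maximalIdeal.isMaximal A).eq_of_le (Ideal.IsPrime.ne_top (Ideal.comap_isPrime _ P)) h1).symm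
  have h3 : (P.comap (algebraMap A B)).IsMaximal := by rw [h2]; infer_instance
  exact IsLocalRing.eq_maximalIdeal (Ideal.isMaximal_of_isIntegral_of_isMaximal_comap P h3)

theorem exists_pow_maximalIdeal_le_map :
    ∃ c : ℕ, maximalIdeal B ^ c ≤ (maximalIdeal A).map (algebraMap A B) := by
  have hrad : maximalIdeal B ≤ ((maximalIdeal A).map (algebraMap A B)).radical := by
    rw [Ideal.radical_eq_sInf]
    apply le_sInf
    rintro P ⟨hP, hPprime⟩
    rw [eq_maximalIdeal_of_map_le P hP]
  exact Ideal.exists_pow_le_of_le_radical_of_fg hrad (IsNoetherian.noetherian (maximalIdeal B))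

/-- a finite projective local algebra over a complete local ring is complete -/
theorem isAdicComplete_of_finite_projective [Module.Projective A B]
    [IsAdicComplete (maximalIdeal A) A] : IsAdicComplete (maximalIdeal B) B := by
  have h1 : IsAdicComplete (maximalIdeal A) B :=
    Groth.Agent.Helper26.AdicPi.isAdicComplete_of_finite_projective (maximalIdeal A) B
  have h2 : IsAdicComplete ((maximalIdeal A).map (algebraMap A B)) B :=
    (IsAdicComplete.map_algebraMap_iff _ _).mpr h1
  set I := (maximalIdeal A).map (algebraMap A B) with hI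
  obtain ⟨c, hc⟩ := exists_pow_maximalIdeal_le_map (A := A) (B := B)
  have hIle : I ≤ maximalIdeal B := by
    apply IsLocalRing.le_maximalIdeal
    intro htop
    have h3 := IsAdicComplete.le_jacobson_bot I
    rw [htop, IsLocalRing.jacobson_eq_maximalIdeal ⊥ bot_ne_top] at h3
    exact (maximalIdeal.isMaximal B).ne_top (top_le_iff.mp h3)
  have hne : I ≠ ⊤ := fun h => (maximalIdeal.isMaximal B).ne_top (top_le_iff.mp (h ▸ hIle))
  have : Nontrivial (B ⧸ I) := Ideal.Quotient.nontrivial_iff.mpr hne
  have : IsLocalRing (B ⧸ I) :=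
    IsLocalRing.of_surjective' (Ideal.Quotient.mk I) Ideal.Quotient.mk_surjective
  have hmax : (maximalIdeal B).map (Ideal.Quotient.mk I) = maximalIdeal (B ⧸ I) :=
    Groth.Agent.Helper7.ComplJap.maximalIdeal_quotient I
  have hpow : (maximalIdeal (B ⧸ I)) ^ c = ⊥ := by
    rw [← hmax, ← Ideal.map_pow, Ideal.map_eq_bot_iff_le_ker, Ideal.mk_ker]
    exact hc
  have : IsAdicComplete ((maximalIdeal B).map (Ideal.Quotient.mk I)) (B ⧸ I) := by
    rw [hmax]
    exact Groth.Agent.Helper14.CohenLift.isAdicComplete_of_pow_eq_bot _ _ c hpow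
  exact Groth.Agent.Helper1.isAdicComplete_of_isAdicComplete_quotient I (maximalIdeal B)

end Complete

end Groth.Agent.Helper17.HL
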