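import Mathlib
import Groth.Agent.Lib.Helper17.HL4
import Groth.Agent.Lib.Helper17.HL5
import Groth.Agent.Lib.Helper7.IntDim
import Groth.Agent.Lib.Lead.Hom16
import Groth.Agent.Lib.Helper8.LCIndep
import Groth.Agent.Lib.Helper8.LCRad

/-!
# The key case of the Hartshorne–Lichtenbaum theorem for a domain finite over a complete regular
local ring (helper17)
-/

set_option autoImplicit false
universe u

namespace Groth.Agent.Helper17.HL

open CategoryTheory Abelian IsLocalRing Groth.Agent.Helper8 Groth.Agent.Helper8.LC

section Avoid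

variable {A R : Type u} [CommRing A] [CommRing R] [Algebra A R] [Module.Finite A R]

/-- an element outside `p` lying in all other primes over `p ∩ A` -/
theorem exists_notMem_forall_mem_primesOver (p : Ideal R) [p.IsPrime] :
    ∃ y : R, y ∉ p ∧ ∀ P ∈ (p.under A).primesOver R, P ≠ p → y ∈ P := by
  classical
  have hint : Algebra.IsIntegral A R := Algebra.IsIntegral.of_finite A R
  have hfin : ((p.under A).primesOver R).Finite := Algebra.QuasiFinite.finite_primesOver _
  by_contra hcon
  push Not at hcon
  have hle : (hfin.toFinset.erase p).inf id ≤ p := by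
    intro y hy
    by_contra hyp
    obtain ⟨P, hP, hPp, hyP⟩ := hcon y hyp
    apply hyP
    have h1 : (hfin.toFinset.erase p).inf id ≤ id P :=
      Finset.inf_le (Finset.mem_erase.mpr ⟨hPp, hfin.mem_toFinset.mpr hP⟩)
    exact h1 hy
  obtain ⟨P, hPT, hPp⟩ := (Ideal.IsPrime.inf_le' inferInstance).mp hle
  rw [Finset.mem_erase, Set.Finite.mem_toFinset] at hPT
  obtain ⟨hne, hPprime, hPover⟩ := hPT
  have hlt : P < p := lt_of_le_of_ne hPp hne
  have h1 := Ideal.IsIntegral.comap_lt_comap (R := A) hlt
  have h2 : P.comap (algebraMap A R) = p.under A := hPover.over.symm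
  rw [h2] at h1
  exact lt_irrefl _ h1

end Avoid

section Main

variable {A R : Type u} [CommRing A] [IsRegularLocalRing A] [IsAdicComplete (maximalIdeal A) A]
  [CommRing R] [IsDomain R] [IsLocalRing R] [IsNoetherianRing R] [Algebra A R] [Module.Finite A R]

/-- the base-change step: vanishing over a subalgebra gives vanishing for the extended ideal -/
theorem H_subsingleton_map_of_base {B R : Type u} [CommRing B] [CommRing R] [Algebra B R]
    [IsNoetherianRing B] [IsNoetherianRing R] (q : Ideal B) (i : ℕ) (N : Type u) [AddCommGroup N]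
    [Module R N] [Module B N] [IsScalarTower B R N] (h : Subsingleton (H q i N)) :
    Subsingleton (H (q.map (algebraMap B R)) i N) := by
  obtain ⟨eb⟩ := exists_equiv_base q i (BMod.mk (R := B) (R' := R) N)
  have h1 : Subsingleton (HA q i (BMod.mk (R := B) (R' := R) N)) := eb.toEquiv.subsingleton
  exact h1

theorem H_subsingleton_of_finite_over_regular (hinj : Function.Injective (algebraMap A R)) (n : ℕ)
    (hR : ringKrullDim R = n) (p : Ideal R) [p.IsPrime] (hp : ringKrullDim (R ⧸ p) = 1)
    (N : Type u) [AddCommGroup N] [Module R N] (i : ℕ) (hi : n ≤ i) : Subsingleton (H p i N) := by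
  have hdomA : IsDomain A := Groth.Agent.Lead.RLR.isDomain A
  have hicA : IsIntegrallyClosed A := Groth.Agent.Lead.Hom.isIntegrallyClosed_of_isRegularLocalRing A
  have hint : Algebra.IsIntegral A R := Algebra.IsIntegral.of_finite A R
  have htf : Module.IsTorsionFree A R := Module.isTorsionFree_iff_algebraMap_injective.mpr hinj
  have hA : ringKrullDim A = n := by
    rw [← hR]
    exact (Groth.Agent.Helper7.IntDim.ringKrullDim_eq_of_isIntegral_of_injective hinj).symm
  obtain ⟨y, hyp, hy⟩ := exists_notMem_forall_mem_primesOver (A := A) p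
  -- the hypersurface
  have hy_int : IsIntegral A y := Algebra.IsIntegral.isIntegral y
  let pb := Algebra.adjoin.powerBasis' hy_int
  have hfree : Module.Free A (Algebra.adjoin A ({y} : Set R)) := Module.Free.of_basis pb.basis
  have hfinB : Module.Finite A (Algebra.adjoin A ({y} : Set R)) := pb.finite
  have hNB : IsNoetherianRing (Algebra.adjoin A ({y} : Set R)) :=
    Algebra.FiniteType.isNoetherianRing A _
  have hintB : Algebra.IsIntegral (Algebra.adjoin A ({y} : Set R)) R :=
    Algebra.IsIntegral.tower_top (R := A)
  have hinjB : Function.Injective (algebraMap (Algebra.adjoin A ({y} : Set R)) R) :=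
    Subtype.val_injective
  have hlocB : IsLocalRing (Algebra.adjoin A ({y} : Set R)) := isLocalRing_of_isIntegral hinjB
  have hcomplB : IsAdicComplete (maximalIdeal (Algebra.adjoin A ({y} : Set R)))
      (Algebra.adjoin A ({y} : Set R)) := isAdicComplete_of_finite_projective (A := A)
  have hB : ringKrullDim (Algebra.adjoin A ({y} : Set R)) = n := by
    rw [← hR]
    exact (Groth.Agent.Helper7.IntDim.ringKrullDim_eq_of_isIntegral_of_injective hinjB).symm
  -- the prime `q = p ∩ B`
  have hqdim : ringKrullDim (Algebra.adjoin A ({y} : Set R) ⧸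
      p.under (Algebra.adjoin A ({y} : Set R))) ≤ 1 := by
    rw [← hp]
    have hinjq : Function.Injective (algebraMap (Algebra.adjoin A ({y} : Set R) ⧸
        p.under (Algebra.adjoin A ({y} : Set R))) (R ⧸ p)) :=
      FaithfulSMul.algebraMap_injective _ _
    exact (Groth.Agent.Helper7.IntDim.ringKrullDim_eq_of_isIntegral_of_injective hinjq).ge
  -- `p` is not maximal
  have hpne : p ≠ maximalIdeal R := by
    intro h
    have : ringKrullDim (R ⧸ p) = 0 := by
      rw [h]
      exact ringKrullDim_eq_zero_of_isField
        ((Ideal.Quotient.maximal_ideal_iff_isField_quotient _).mp inferInstance)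
    rw [hp] at this
    exact one_ne_zero this
  have hq₀ne : p.under A ≠ maximalIdeal A := by
    intro h
    have h3 : (p.comap (algebraMap A R)).IsMaximal := by
      change (p.under A).IsMaximal
      rw [h]; infer_instance
    exact hpne (IsLocalRing.eq_maximalIdeal (Ideal.isMaximal_of_isIntegral_of_isMaximal_comap p h3))
  obtain ⟨a, ha, haq₀⟩ : ∃ a ∈ maximalIdeal A, a ∉ p.under A := by
    by_contra hcon
    push Not at hcon
    have hle : maximalIdeal A ≤ p.under A := hcon
    exact hq₀ne ((maximalIdeal.isMaximal A).eq_of_le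
      (Ideal.IsPrime.ne_top (Ideal.IsPrime.under A p)) hle).symm
  have haq : algebraMap A (Algebra.adjoin A ({y} : Set R)) a ∉
      p.under (Algebra.adjoin A ({y} : Set R)) := by
    intro h
    apply haq₀
    rw [Ideal.under_def, Ideal.mem_comap] at h ⊢
    rwa [← IsScalarTower.algebraMap_apply] at h
  have key : Subsingleton (H (p.under (Algebra.adjoin A ({y} : Set R))) i N) :=
    H_subsingleton_of_finite_free (A := A) n hA hB _ hqdim a ha haq N i hi
  have key2 := H_subsingleton_map_of_base (R := R) (p.under (Algebra.adjoin A ({y} : Set R))) i N key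
  refine H_subsingleton_of_radical_eq ?_ i N key2
  have hmaple : (p.under (Algebra.adjoin A ({y} : Set R))).map
      (algebraMap (Algebra.adjoin A ({y} : Set R)) R) ≤ p := Ideal.map_comap_le
  apply le_antisymm
  · rw [Ideal.IsPrime.radical inferInstance, Ideal.radical_eq_sInf]
    apply le_sInf
    rintro P ⟨hP, hPprime⟩
    by_cases hPm : P = maximalIdeal R
    · rw [hPm]; exact le_maximalIdeal (Ideal.IsPrime.ne_top inferInstance)
    have hqP : p.under (Algebra.adjoin A ({y} : Set R)) ≤
        P.under (Algebra.adjoin A ({y} : Set R)) := Ideal.map_le_iff_le_comap.mp hP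
    have hPB : P.under (Algebra.adjoin A ({y} : Set R)) =
        p.under (Algebra.adjoin A ({y} : Set R)) := by
      by_contra hne
      have hlt := lt_of_le_of_ne hqP (Ne.symm hne)
      have h1 := eq_maximalIdeal_of_lt _ hqdim _ hlt
      have h3 : (P.comap (algebraMap (Algebra.adjoin A ({y} : Set R)) R)).IsMaximal := by
        change (P.under (Algebra.adjoin A ({y} : Set R))).IsMaximal
        rw [h1]; infer_instance
      exact hPm (IsLocalRing.eq_maximalIdeal
        (Ideal.isMaximal_of_isIntegral_of_isMaximal_comap P h3))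
    have hPA : P.under A = p.under A := by
      rw [← Ideal.under_under (B := Algebra.adjoin A ({y} : Set R)) P, hPB, Ideal.under_under]
    have hPmem : P ∈ (p.under A).primesOver R := ⟨hPprime, ⟨hPA.symm⟩⟩
    by_cases hPp : P = p
    · rw [hPp]
    · exfalso
      have hyP := hy P hPmem hPp
      have h4 : (⟨y, Algebra.subset_adjoin (Set.mem_singleton y)⟩ :
          Algebra.adjoin A ({y} : Set R)) ∈ P.under (Algebra.adjoin A ({y} : Set R)) := hyP
      rw [hPB] at h4
      exact hyp h4
  · exact Ideal.radical_mono hmaple

end Main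

end Groth.Agent.Helper17.HL
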