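import Mathlib
import Groth.Agent.Lib.Helper17.HL6
import Groth.Agent.Lib.Helper14.CohenStructure
import Groth.Agent.Lib.Helper18.Schl.PSComplete
import Groth.Agent.Lib.Helper5.PSR
import Groth.Agent.Lib.Helper8.LCHL2

/-!
# The Hartshorne–Lichtenbaum vanishing theorem (helper17)
-/

set_option autoImplicit false
universe u

namespace Groth.Agent.Helper17.HL

open CategoryTheory Abelian IsLocalRing Groth.Agent.Helper8 Groth.Agent.Helper8.LC

section KeyCase

variable (R : Type u) [CommRing R] [IsDomain R] [IsLocalRing R] [IsNoetherianRing R]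
  [IsAdicComplete (maximalIdeal R) R]

theorem key_case_aux (A : Type u) [CommRing A] [IsRegularLocalRing A]
    [IsAdicComplete (maximalIdeal A) A] (f : A →+* R) (hinj : Function.Injective f)
    (hfin : f.Finite) (n : ℕ) (hR : ringKrullDim R = n) (p : Ideal R) [p.IsPrime]
    (hp : ringKrullDim (R ⧸ p) = 1) (N : Type u) [AddCommGroup N] [Module R N] (i : ℕ)
    (hi : n ≤ i) : Subsingleton (H p i N) := by
  letI : Algebra A R := f.toAlgebra
  have hfin' : Module.Finite A R := hfin
  exact H_subsingleton_of_finite_over_regular (A := A) hinj n hR p hp N i hi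

/-- the key case: a prime of dimension one in a complete local domain -/
theorem key_case (n : ℕ) (hR : ringKrullDim R = n) (p : Ideal R) [p.IsPrime]
    (hp : ringKrullDim (R ⧸ p) = 1) (N : Type u) [AddCommGroup N] [Module R N] (i : ℕ)
    (hi : n ≤ i) : Subsingleton (H p i N) := by
  obtain ⟨Λ, instΛ, m, f, hΛ, hinj, hfin, -⟩ :=
    Groth.Agent.Helper14.CohenStructure.exists_powerSeries_finite_injective R
  rcases hΛ with hF | hC
  · letI := hF.toField
    have h1 : IsAdicComplete (maximalIdeal Λ) Λ :=
      Groth.Agent.Helper14.CohenLift.isAdicComplete_of_isArtinianRing Λ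
    have h2 : IsRegularLocalRing (MvPowerSeries (Fin m) Λ) :=
      Groth.Agent.Helper5.PSR.isRegularLocalRing_mvPowerSeries m
    have h3 : IsAdicComplete (maximalIdeal (MvPowerSeries (Fin m) Λ)) (MvPowerSeries (Fin m) Λ) :=
      Groth.Agent.Helper18.ps_isAdicComplete
    exact key_case_aux R (MvPowerSeries (Fin m) Λ) f hinj hfin n hR p hp N i hi
  · obtain ⟨hdom, hdvr, hcompl, -⟩ := hC
    haveI := Groth.Agent.Helper5.RegPS.isRegularRing_mvPowerSeries_fin Λ m
    have h2 : IsRegularLocalRing (MvPowerSeries (Fin m) Λ) :=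
      IsRegularLocalRing.of_isRegularRing_of_isLocalRing _
    have h3 : IsAdicComplete (maximalIdeal (MvPowerSeries (Fin m) Λ)) (MvPowerSeries (Fin m) Λ) :=
      Groth.Agent.Helper18.ps_isAdicComplete
    exact key_case_aux R (MvPowerSeries (Fin m) Λ) f hinj hfin n hR p hp N i hi

/-- **Hartshorne–Lichtenbaum for complete local domains**: if `dim T/J > 0` then `H^i_J = 0` for
`i ≥ dim T`. -/
theorem H_subsingleton_of_complete_domain (n : ℕ) (hR : ringKrullDim R = n) (J : Ideal R)
    (hJ : 0 < ringKrullDim (R ⧸ J)) (N : Type u) [AddCommGroup N] [Module R N] (i : ℕ)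
    (hi : n ≤ i) : Subsingleton (H J i N) := by
  have hvan : Subsingleton (H J n R) := by
    by_contra hcon
    rw [not_subsingleton_iff_nontrivial] at hcon
    let Sg : Set (Ideal R) := {b | Nontrivial (H b n R) ∧ 0 < ringKrullDim (R ⧸ b)}
    have hne : Sg.Nonempty := ⟨J, hcon, hJ⟩
    obtain ⟨p, hpS, hpmax⟩ := set_has_maximal_iff_noetherian.mpr
      (inferInstance : IsNoetherian R R) Sg hne
    obtain ⟨hprime, hdim⟩ := isPrime_of_maximal_nonvanishing n hR p hpS.1 hpS.2
      (fun b hlt hb hdimb => hpmax b ⟨hb, hdimb⟩ hlt)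
    have h5 := key_case R n hR p hdim R n le_rfl
    have h6 : Nontrivial (H p n R) := hpS.1
    exact not_subsingleton _ h5
  apply H_subsingleton_of_top_vanishing J n hR R ?_ hvan N i hi
  intro P _ _ hP
  rw [Module.mem_support_iff_of_finite, Module.annihilator_eq_bot.mpr inferInstance]
  exact bot_le

end KeyCase

section General

variable {S : Type u} [CommRing S] [IsNoetherianRing S]

/-- vanishing of top local cohomology can be checked on the top-dimensional minimal primes -/
theorem H_subsingleton_of_forall_quotient_minimalPrimes (I : Ideal S) (d : ℕ)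
    (hd : ringKrullDim S = d)
    (hC : ∀ p ∈ minimalPrimes S, ringKrullDim (S ⧸ p) = d → Subsingleton (H I d (S ⧸ p)))
    (N : Type u) [AddCommGroup N] [Module S N] (i : ℕ) (hi : d ≤ i) : Subsingleton (H I i N) := by
  rcases Nat.eq_or_lt_of_le hi with rfl | hlt
  swap
  · exact H_subsingleton_of_ringKrullDim_lt I d hd N i hlt
  have hC' : ∀ p : PrimeSpectrum S, Subsingleton (H I d (S ⧸ p.asIdeal)) := by
    intro p
    by_cases hdim : ringKrullDim (S ⧸ p.asIdeal) = d
    · exact hC _ (mem_minimalPrimes_of_ringKrullDim_quotient_eq d hd p.asIdeal hdim) hdim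
    · apply H_subsingleton_of_supportDim_lt
      rw [Module.supportDim_quotient_eq_ringKrullDim]
      exact lt_of_le_of_ne ((ringKrullDim_quotient_le _).trans hd.le) hdim
  have hD : ∀ (N : Type u) [AddCommGroup N] [Module S N] [Module.Finite S N],
      Subsingleton (H I d N) := by
    intro N _ _ hN
    induction hN using IsNoetherianRing.induction_on_isQuotientEquivQuotientPrime S with
    | subsingleton N => exact H_subsingleton_of_subsingleton I d N
    | quotient N p e =>
      have := hC' p
      exact (Hcongr I d e).toEquiv.subsingleton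
    | exact N₁ N₂ N₃ f g hf hg hex h1 h3 =>
      have hses : IsSES f g := ⟨hf, hex, hg⟩
      exact hses.subsingleton_mid I d
  apply H_subsingleton_of_forall_fg
  intro M' hM'
  have : Module.Finite S M' := Module.Finite.iff_fg.mpr hM'
  exact hD M'

end General

section Complete

variable {S : Type u} [CommRing S] [IsNoetherianRing S] [IsLocalRing S]
  [IsAdicComplete (maximalIdeal S) S]

/-- **Hartshorne–Lichtenbaum for complete local rings** -/
theorem H_subsingleton_of_complete_local (d : ℕ) (hd : ringKrullDim S = d) (J : Ideal S)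
    (h : ∀ P ∈ minimalPrimes S, ringKrullDim (S ⧸ P) = d → 1 ≤ ringKrullDim (S ⧸ (J ⊔ P)))
    (N : Type u) [AddCommGroup N] [Module S N] (i : ℕ) (hi : d ≤ i) : Subsingleton (H J i N) := by
  apply H_subsingleton_of_forall_quotient_minimalPrimes J d hd ?_ N i hi
  intro P hP hdim
  haveI : P.IsPrime := hP.1.1
  haveI : IsLocalRing (S ⧸ P) :=
    IsLocalRing.of_surjective' (Ideal.Quotient.mk P) Ideal.Quotient.mk_surjective
  haveI : IsAdicComplete (maximalIdeal (S ⧸ P)) (S ⧸ P) :=
    Groth.Agent.Helper7.ComplJap.isAdicComplete_quotient P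
  have hpos : 0 < ringKrullDim ((S ⧸ P) ⧸ J.map (algebraMap S (S ⧸ P))) := by
    have e : ((S ⧸ P) ⧸ J.map (Ideal.Quotient.mk P)) ≃+* S ⧸ (P ⊔ J) :=
      DoubleQuot.quotQuotEquivQuotSup P J
    have h1 : ringKrullDim ((S ⧸ P) ⧸ J.map (Ideal.Quotient.mk P)) = ringKrullDim (S ⧸ (P ⊔ J)) :=
      ringKrullDim_eq_of_ringEquiv e
    have h2 := h P hP hdim
    rw [sup_comm] at h2
    change 0 < ringKrullDim ((S ⧸ P) ⧸ J.map (Ideal.Quotient.mk P))
    rw [h1]
    exact lt_of_lt_of_le zero_lt_one h2
  have hT : Subsingleton (H (J.map (algebraMap S (S ⧸ P))) d (S ⧸ P)) :=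
    H_subsingleton_of_complete_domain (S ⧸ P) d hdim _ hpos (S ⧸ P) d le_rfl
  obtain ⟨eb⟩ := exists_equiv_base J d (BMod.mk (R := S) (R' := S ⧸ P) (S ⧸ P))
  have h1 : Subsingleton (HA J d (BMod.mk (R := S) (R' := S ⧸ P) (S ⧸ P))) := hT
  exact eb.symm.toEquiv.subsingleton

end Complete

section Main

open scoped TensorProduct

theorem main0332 (R : Type u) [CommRing R] [IsLocalRing R] [IsNoetherianRing R] (I : Ideal R) (d : ℕ) (hd : ringKrullDim R = d) (h : ∀ p ∈ minimalPrimes (AdicCompletion (IsLocalRing.maximalIdeal R) R), ringKrullDim (AdicCompletion (IsLocalRing.maximalIdeal R) R ⧸ p) = d → 1 ≤ ringKrullDim (AdicCompletion (IsLocalRing.maximalIdeal R) R ⧸ (I.map (algebraMap R (AdicCompletion (IsLocalRing.maximalIdeal R) R)) ⊔ p))) (M : Type u) [AddCommGroup M] [Module R M] (i : ℕ) (hi : d ≤ i) : Subsingleton (LocCoh.H I i M) := by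
  have hNS : IsNoetherianRing (AdicCompletion (maximalIdeal R) R) :=
    Groth.Agent.S0543.result R (maximalIdeal R)
  have hdimS : ringKrullDim (AdicCompletion (maximalIdeal R) R) = d :=
    (Groth.Agent.Helper1.ringKrullDim_adicCompletion_eq R).trans hd
  have hff : Module.FaithfullyFlat R (AdicCompletion (maximalIdeal R) R) :=
    Module.FaithfullyFlat.of_flat_of_isLocalHom
  have hS : Subsingleton (H (I.map (algebraMap R (AdicCompletion (maximalIdeal R) R))) d
      (AdicCompletion (maximalIdeal R) R ⊗[R] R)) :=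
    H_subsingleton_of_complete_local d hdimS _ h _ d le_rfl
  obtain ⟨e⟩ := exists_equiv_baseChange (R' := AdicCompletion (maximalIdeal R) R) I d (RMod.mk R)
  have h3 : Subsingleton (AdicCompletion (maximalIdeal R) R ⊗[R] H I d R) :=
    e.injective.subsingleton
  have hvan : Subsingleton (H I d R) :=
    Module.FaithfullyFlat.lTensor_reflects_triviality R (AdicCompletion (maximalIdeal R) R) _
  apply H_subsingleton_of_top_vanishing I d hd R ?_ hvan M i hi
  intro P _ _ hP
  rw [Module.mem_support_iff_of_finite, Module.annihilator_eq_bot.mpr inferInstance]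
  exact bot_le

end Main

end Groth.Agent.Helper17.HL
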