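import Mathlib
import Groth.Agent.Lib.Helper17.HL9

/-!
# Faltings' connectedness theorem (helper17)
-/

set_option autoImplicit false
universe u

namespace Groth.Agent.Helper17.HL

open CategoryTheory Abelian IsLocalRing Groth.Agent.Helper8 Groth.Agent.Helper8.LC

section Falt

variable {R : Type u} [CommRing R] [IsNoetherianRing R]

/-- `cd (f_1, …, f_t) ≤ t` -/
theorem cdLE_span_range {t : ℕ} (f : Fin t → R) : LocCoh.CdLE R (Ideal.span (Set.range f)) t := by
  classical
  intro M _ _ i hi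
  have h1 : (Set.range f) = ((Finset.univ.image f : Finset R) : Set R) := by
    ext x; simp
  rw [h1]
  apply H_span_finset_subsingleton
  refine lt_of_le_of_lt Finset.card_image_le ?_
  simpa using hi

end Falt

theorem main17758 (R : Type u) [CommRing R] [IsDomain R] [IsNoetherianRing R] [IsLocalRing R] [IsAdicComplete (IsLocalRing.maximalIdeal R) R] (d : ℕ) (hd : ringKrullDim R = d) (t : ℕ) (ht : t + 2 ≤ d) (f : Fin t → R) (I : Ideal R) (hItop : I ≠ ⊤) (hI : I.radical = (Ideal.span (Set.range f)).radical) : _root_.IsConnected {x : PrimeSpectrum R | I ≤ x.asIdeal ∧ x.asIdeal ≠ IsLocalRing.maximalIdeal R} := by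
  have hcd : LocCoh.CdLE R I t := cdLE_of_radical_eq hI t (cdLE_span_range f)
  constructor
  · -- nonempty
    by_contra hcon
    rw [Set.not_nonempty_iff_eq_empty] at hcon
    have hrad : I.radical = (maximalIdeal R).radical := by
      rw [Ideal.IsPrime.radical (maximalIdeal.isMaximal R).isPrime]
      apply le_antisymm
      · exact (Ideal.IsPrime.radical_le_iff (maximalIdeal.isMaximal R).isPrime).mpr
          (le_maximalIdeal hItop)
      · rw [Ideal.radical_eq_sInf]
        apply le_sInf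
        rintro P ⟨hP, hPprime⟩
        by_contra hne
        have : (⟨P, hPprime⟩ : PrimeSpectrum R) ∈
            {x : PrimeSpectrum R | I ≤ x.asIdeal ∧ x.asIdeal ≠ maximalIdeal R} :=
          ⟨hP, fun h => hne (by rw [show P = maximalIdeal R from h])⟩
        rw [hcon] at this
        exact this
    have h1 : Subsingleton (H (maximalIdeal R) d R) :=
      H_subsingleton_of_radical_eq hrad.symm d R (hcd R d (by omega))
    have h2 : Nontrivial (H (maximalIdeal R) d R) :=
      nontrivial_H_of_supportDim_eq d R (by rw [Module.supportDim_self_eq_ringKrullDim, hd])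
    exact not_subsingleton _ h1
  · rw [isPreconnected_closed_iff]
    intro u v hu hv huv hnu hnv
    obtain ⟨a0, rfl⟩ := (PrimeSpectrum.isClosed_iff_zeroLocus_ideal u).mp hu
    obtain ⟨b0, rfl⟩ := (PrimeSpectrum.isClosed_iff_zeroLocus_ideal v).mp hv
    by_contra hcon
    rw [Set.not_nonempty_iff_eq_empty] at hcon
    obtain ⟨P, ⟨hPI, hPm⟩, hPa⟩ := hnu
    obtain ⟨Q, ⟨hQI, hQm⟩, hQb⟩ := hnv
    rw [PrimeSpectrum.mem_zeroLocus, SetLike.coe_subset_coe] at hPa hQb
    have hPa' : a0 ⊔ I ≤ P.asIdeal := sup_le hPa hPI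
    have hQb' : b0 ⊔ I ≤ Q.asIdeal := sup_le hQb hQI
    have ha : a0 ⊔ I ≠ ⊤ := fun h => P.2.ne_top (top_le_iff.mp (h ▸ hPa'))
    have hb : b0 ⊔ I ≠ ⊤ := fun h => Q.2.ne_top (top_le_iff.mp (h ▸ hQb'))
    have hda : 0 < ringKrullDim (R ⧸ (a0 ⊔ I)) :=
      ringKrullDim_quotient_pos_of_lt (a0 ⊔ I) P.asIdeal hPa' hPm
    have hdb : 0 < ringKrullDim (R ⧸ (b0 ⊔ I)) :=
      ringKrullDim_quotient_pos_of_lt (b0 ⊔ I) Q.asIdeal hQb' hQm
    have hab : ¬ 1 ≤ ringKrullDim (R ⧸ ((a0 ⊔ I) ⊔ (b0 ⊔ I))) := by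
      intro h1
      rw [ringKrullDim_quotient, Order.one_le_krullDim_iff] at h1
      obtain ⟨X, Y, hXY⟩ := h1
      have hX : (a0 ⊔ I) ⊔ (b0 ⊔ I) ≤ X.1.asIdeal := X.2
      have hXm : X.1.asIdeal ≠ maximalIdeal R := by
        intro h
        have h2 : Y.1.asIdeal ≤ maximalIdeal R := le_maximalIdeal Y.1.2.ne_top
        have h3 : X.1.asIdeal < Y.1.asIdeal := hXY
        rw [h] at h3
        exact absurd (h3.trans_le h2) (lt_irrefl _)
      have : X.1 ∈ {x : PrimeSpectrum R | I ≤ x.asIdeal ∧ x.asIdeal ≠ maximalIdeal R} ∩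
          (PrimeSpectrum.zeroLocus (a0 : Set R) ∩ PrimeSpectrum.zeroLocus (b0 : Set R)) := by
        refine ⟨⟨(le_sup_right.trans le_sup_left).trans hX, hXm⟩, ?_, ?_⟩
        · rw [PrimeSpectrum.mem_zeroLocus, SetLike.coe_subset_coe]
          exact (le_sup_left.trans le_sup_left).trans hX
        · rw [PrimeSpectrum.mem_zeroLocus, SetLike.coe_subset_coe]
          exact (le_sup_left.trans le_sup_right).trans hX
      rw [hcon] at this
      exact this
    have hrad : ((a0 ⊔ I) ⊓ (b0 ⊔ I)).radical = I.radical := by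
      apply le_antisymm
      · rw [Ideal.radical_eq_sInf I]
        apply le_sInf
        rintro X ⟨hXI, hXprime⟩
        rw [Ideal.IsPrime.radical_le_iff hXprime]
        by_cases hXm : X = maximalIdeal R
        · rw [hXm]; exact inf_le_left.trans (le_maximalIdeal ha)
        · have hXU : (⟨X, hXprime⟩ : PrimeSpectrum R) ∈
              {x : PrimeSpectrum R | I ≤ x.asIdeal ∧ x.asIdeal ≠ maximalIdeal R} := ⟨hXI, hXm⟩
          rcases huv hXU with h | h
          · rw [PrimeSpectrum.mem_zeroLocus, SetLike.coe_subset_coe] at h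
            exact inf_le_left.trans (sup_le h hXI)
          · rw [PrimeSpectrum.mem_zeroLocus, SetLike.coe_subset_coe] at h
            exact inf_le_right.trans (sup_le h hXI)
      · exact Ideal.radical_mono (le_inf le_sup_right le_sup_right)
    have hcd' : LocCoh.CdLE R ((a0 ⊔ I) ⊓ (b0 ⊔ I)) t := cdLE_of_radical_eq hrad t hcd
    have := conn_bound_base d hd (a0 ⊔ I) (b0 ⊔ I) ha hb hab hda hdb t hcd'
    omega
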