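import Mathlib

set_option autoImplicit false

namespace Groth.Agent.Helper17.IC

open Polynomial in
/-- the equaliser of two ring maps out of a normal domain, one of which sends nonzero elements to
regular elements, is integrally closed -/
theorem eqLocus_isIntegrallyClosed {A B : Type*} [CommRing A] [IsDomain A] [IsIntegrallyClosed A]
    [CommRing B] (α β : A →+* B) (hβ : ∀ b : A, b ≠ 0 → ∀ y : B, β b * y = 0 → y = 0) :
    IsIntegrallyClosed ↥(RingHom.eqLocus α β) := by
  classical
  rw [isIntegrallyClosed_iff (FractionRing ↥(RingHom.eqLocus α β))]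
  intro x hx
  obtain ⟨a, b, hb, rfl⟩ := IsFractionRing.div_surjective (RingHom.eqLocus α β) x
  have hb0 : b ≠ 0 := nonZeroDivisors.ne_zero hb
  have hb0A : (b : A) ≠ 0 := fun h => hb0 (Subtype.ext h)
  -- the comparison map of fraction fields
  let g : ↥(RingHom.eqLocus α β) →+* FractionRing A :=
    (algebraMap A (FractionRing A)).comp (RingHom.eqLocus α β).subtype
  have hg : Function.Injective g :=
    (IsFractionRing.injective A (FractionRing A)).comp Subtype.val_injective
  let φ : FractionRing ↥(RingHom.eqLocus α β) →+* FractionRing A := IsFractionRing.lift hg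
  have hφ : ∀ r : ↥(RingHom.eqLocus α β),
      φ (algebraMap _ (FractionRing ↥(RingHom.eqLocus α β)) r) = algebraMap A (FractionRing A) r :=
    fun r => IsFractionRing.lift_algebraMap hg r
  -- integrality over A
  obtain ⟨P, hmonic, hP⟩ := hx
  have hint : IsIntegral A
      (algebraMap A (FractionRing A) (a : A) / algebraMap A (FractionRing A) (b : A)) := by
    refine ⟨P.map (RingHom.eqLocus α β).subtype, hmonic.map _, ?_⟩
    rw [Polynomial.eval₂_map]
    have h1 := congrArg φ hP
    rw [Polynomial.hom_eval₂, map_zero, map_div₀, hφ, hφ] at h1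
    have h2 : φ.comp (algebraMap ↥(RingHom.eqLocus α β)
        (FractionRing ↥(RingHom.eqLocus α β))) =
        (algebraMap A (FractionRing A)).comp (RingHom.eqLocus α β).subtype :=
      RingHom.ext hφ
    rw [h2] at h1
    exact h1
  obtain ⟨c, hc⟩ := IsIntegrallyClosed.isIntegral_iff.1 hint
  have hbL : algebraMap A (FractionRing A) (b : A) ≠ 0 := by
    intro h
    exact hb0A ((IsFractionRing.injective A (FractionRing A)) (by rw [h, map_zero]))
  have hcb : c * (b : A) = (a : A) := by
    apply IsFractionRing.injective A (FractionRing A)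
    rw [map_mul, hc, div_mul_cancel₀ _ hbL]
  have hcR : c ∈ RingHom.eqLocus α β := by
    show α c = β c
    have haR : α (a : A) = β (a : A) := a.2
    have hbR : α (b : A) = β (b : A) := b.2
    have h0 : β (b : A) * (α c - β c) = 0 := by
      have e1 : β (b : A) * α c = α (a : A) := by
        rw [← hbR, ← map_mul, mul_comm, hcb]
      have e2 : β (b : A) * β c = β (a : A) := by
        rw [← map_mul, mul_comm, hcb]
      rw [mul_sub, e1, e2, haR, sub_self]
    exact sub_eq_zero.1 (hβ (b : A) hb0A _ h0)
  refine ⟨⟨c, hcR⟩, ?_⟩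
  have hbK : algebraMap ↥(RingHom.eqLocus α β) (FractionRing ↥(RingHom.eqLocus α β)) b ≠ 0 := by
    intro h
    exact hb0 ((IsFractionRing.injective _ (FractionRing ↥(RingHom.eqLocus α β)))
      (by rw [h, map_zero]))
  rw [eq_div_iff hbK, ← map_mul]
  congr 1
  exact Subtype.ext hcb

end Groth.Agent.Helper17.IC
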