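import Mathlib
import Groth.Prelude.Def_W4bk4grossh111Obs
import Groth.Agent.Lib.Helper17.IC1
import Groth.Agent.Lib.Helper4.SmoothRat
import Groth.Agent.Lib.Helper16.Alg.NormalSmooth2

set_option autoImplicit false
universe u
open CategoryTheory MonoidalCategory CartesianMonoidalCategory MonObj GrpObj AlgebraicGeometry
open scoped TensorProduct

namespace Groth.Agent.Helper17.IC

/-- global functions of a connected smooth affine scheme over a field form a normal domain -/
theorem normal_of_smooth (k : Type u) [Field k] (X : Scheme.{u}) (f : X ⟶ Spec (CommRingCat.of k))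
    [IsAffine X] [Smooth f] [ConnectedSpace X] :
    ∃ _ : IsDomain Γ(X, ⊤), IsIntegrallyClosed Γ(X, ⊤) := by
  haveI : LocallyOfFiniteType f := inferInstance
  haveI : IsLocallyNoetherian X := LocallyOfFiniteType.isLocallyNoetherian f
  haveI : IsNoetherian X := {}
  have hdom : ∀ x : X, IsDomain (X.presheaf.stalk x) := fun x => by
    haveI := Groth.Agent.Helper4.SmoothRegSch.isRegularLocalRing_stalk k f x
    exact Groth.Agent.Lead.RLR.isDomain _
  haveI : IrreducibleSpace X :=
    Groth.Agent.Helper4.SmoothRat.irreducibleSpace_of_connected X hdom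
  haveI : ∀ x : X, _root_.IsReduced (X.presheaf.stalk x) := fun x => by
    haveI := hdom x
    infer_instance
  haveI : IsReduced X := isReduced_of_isReduced_stalk X
  haveI : IsIntegral X := isIntegral_of_irreducibleSpace_of_isReduced X
  haveI hD : IsDomain Γ(X, ⊤) := inferInstance
  refine ⟨hD, ?_⟩
  -- smoothness of the ring map
  let φ : k →+* Γ(X, ⊤) := f.appTop.hom.comp (Scheme.ΓSpecIso (CommRingCat.of k)).inv.hom
  have hφ : φ.Smooth := by
    have h1 : (f.appLE ⊤ (f ⁻¹ᵁ ⊤) le_rfl).hom.Smooth :=
      Smooth.smooth_appLE f (isAffineOpen_top _) (isAffineOpen_top X) le_rfl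
    rw [Scheme.Hom.appLE_eq_app] at h1
    refine RingHom.Smooth.comp (RingHom.Smooth.of_bijective ?_) h1
    exact (ConcreteCategory.isIso_iff_bijective _).1 inferInstance
  letI : Algebra k Γ(X, ⊤) := φ.toAlgebra
  haveI : Algebra.Smooth k Γ(X, ⊤) := hφ
  apply IsIntegrallyClosed.of_localization_maximal
  intro Q _ hQ
  haveI : IsDomain (Localization.AtPrime (Q.under k)) :=
    IsLocalization.isDomain_localization (Q.under k).primeCompl_le_nonZeroDivisors
  haveI : IsIntegrallyClosed (Localization.AtPrime (Q.under k)) :=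
    isIntegrallyClosed_of_isLocalization _ (Q.under k).primeCompl
      (Q.under k).primeCompl_le_nonZeroDivisors
  exact (Groth.Agent.Helper16.NormalSmooth.normal_localization_of_smooth k Γ(X, ⊤) Q).2

theorem main11192 (k : Type u) [Field k] [IsAlgClosed k]
    (G : Over (Spec (CommRingCat.of k))) [GrpObj G] [IsAffine G.left] [Smooth G.hom]
    (H : Over (Spec (CommRingCat.of k))) [GrpObj H] [Smooth H.hom] (i : H ⟶ G) [IsMonHom i]
    [IsClosedImmersion i.left] [ConnectedSpace G.left] :
    IsIntegrallyClosed ↥(AGF.rTransInv i) := by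
  obtain ⟨hD, hIC⟩ := normal_of_smooth k G.left G.hom
  haveI : IsAffine H.left := isAffine_of_isAffineHom i.left
  haveI : IsAffine (G ⊗ H).left := by
    show IsAffine (Limits.pullback G.hom H.hom)
    infer_instance
  haveI : Flat (fst G H).left := by
    show Flat (Limits.pullback.fst G.hom H.hom)
    infer_instance
  have hflat : (fst G H).left.appTop.hom.Flat := by
    have h1 : ((fst G H).left.appLE ⊤ ((fst G H).left ⁻¹ᵁ ⊤) le_rfl).hom.Flat :=
      Flat.flat_appLE (fst G H).left (isAffineOpen_top _) (isAffineOpen_top (G ⊗ H).left) le_rfl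
    rw [Scheme.Hom.appLE_eq_app] at h1
    exact h1
  refine eqLocus_isIntegrallyClosed _ _ ?_
  intro b hb y hy
  letI : Algebra Γ(G.left, ⊤) Γ((G ⊗ H).left, ⊤) := (fst G H).left.appTop.hom.toAlgebra
  haveI : Module.Flat Γ(G.left, ⊤) Γ((G ⊗ H).left, ⊤) := hflat
  have h1 : IsSMulRegular Γ((G ⊗ H).left, ⊤) b :=
    Module.Flat.isSMulRegular_of_nonZeroDivisors (mem_nonZeroDivisors_of_ne_zero hb)
  have h2 : b • y = b • (0 : Γ((G ⊗ H).left, ⊤)) := by
    rw [smul_zero, Algebra.smul_def]
    exact hy
  exact h1 h2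

end Groth.Agent.Helper17.IC
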