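import Mathlib
import Groth.Prelude.Def_Wider
import Groth.Agent.Lib.Helper1.MatlisBC
import Groth.Agent.Lib.Helper12.GorArt

/-!
# Base change of the injective hull of the residue field along a flat homomorphism
with Artinian Gorenstein closed fibre (helper17; adapts `Helper1.MatlisBC`)
-/

set_option autoImplicit false
set_option linter.unusedSectionVars false
set_option linter.style.haveILetI false

namespace Groth.Agent.Helper17.IH1

open Function IsLocalRing TensorProduct Groth.Agent.Helper1

universe u v

section BaseChangeLength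

variable {A : Type u} [CommRing A] [IsLocalRing A] {B : Type u} [CommRing B] [Algebra A B]
  [Module.Flat A B]

theorem length_baseChange' {N : Type u}
    [AddCommGroup N] [Module A N] (hN : IsFiniteLength A N) :
    Module.length B (B ⊗[A] N) =
      Module.length B (B ⊗[A] (A ⧸ maximalIdeal A)) * Module.length A N := by
  induction hN with
  | of_subsingleton =>
    rename_i N _ _ _
    have : Subsingleton (B ⊗[A] N) := by
      refine ⟨fun x y => ?_⟩
      have h0 : ∀ z : B ⊗[A] N, z = 0 := by
        intro z
        induction z using TensorProduct.induction_on with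
        | zero => rfl
        | tmul b n => rw [Subsingleton.elim n 0, tmul_zero]
        | add x y hx hy => rw [hx, hy, add_zero]
      rw [h0 x, h0 y]
    rw [(Module.length_eq_zero : Module.length B (B ⊗[A] N) = 0),
      (Module.length_eq_zero : Module.length A N = 0), mul_zero]
  | @of_simple_quotient N _ _ N' hs hN' ih =>
    let a : B ⊗[A] N' →ₗ[B] B ⊗[A] N := N'.subtype.baseChange B
    let b : B ⊗[A] N →ₗ[B] B ⊗[A] (N ⧸ N') := N'.mkQ.baseChange B
    have ha : Injective a :=
      Module.Flat.lTensor_preserves_injective_linearMap (M := B) N'.subtype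
        (Submodule.injective_subtype _)
    have hb : Surjective b := LinearMap.lTensor_surjective B N'.mkQ_surjective
    have hab : Function.Exact a b :=
      lTensor_exact B (LinearMap.exact_subtype_mkQ N') N'.mkQ_surjective
    have h1 := Module.length_eq_add_of_exact a b ha hb hab
    have h2 := Module.length_eq_add_of_exact N'.subtype N'.mkQ (Submodule.injective_subtype _)
      (Submodule.mkQ_surjective _) (LinearMap.exact_subtype_mkQ N')
    obtain ⟨I, hI, ⟨e⟩⟩ := isSimpleModule_iff_quot_maximal.mp hs
    have hIm : I = maximalIdeal A := IsLocalRing.eq_maximalIdeal hI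
    subst hIm
    have h3 : Module.length B (B ⊗[A] (N ⧸ N')) =
        Module.length B (B ⊗[A] (A ⧸ maximalIdeal A)) :=
      (LinearEquiv.baseChange A B _ _ e).length_eq
    have h4 : Module.length A (N ⧸ N') = 1 := Module.length_eq_one A (N ⧸ N')
    rw [h1, h2, h3, ih, h4, mul_add, mul_one]

end BaseChangeLength

set_option maxHeartbeats 1600000 in
theorem main11359
    (A : Type u) [CommRing A] [IsLocalRing A] [IsNoetherianRing A] (B : Type u) [CommRing B]
    [IsLocalRing B] [IsNoetherianRing B] [Algebra A B] [Module.Flat A B]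
    (hG : LocCoh.IsGorensteinLocalRing (B ⧸ (maximalIdeal A).map (algebraMap A B)))
    (hArt : IsArtinianRing (B ⧸ (maximalIdeal A).map (algebraMap A B)))
    (E : Type u) [AddCommGroup E] [Module A E] (f : ResidueField A →ₗ[A] E)
    (hf : InjHull.IsInjectiveHull f) :
    ∃ g : ResidueField B →ₗ[B] B ⊗[A] E, InjHull.IsInjectiveHull g := by
  classical
  -- notation
  have hJdef : ∃ J : Ideal B, J = (maximalIdeal A).map (algebraMap A B) := ⟨_, rfl⟩
  obtain ⟨J, hJ⟩ := hJdef
  haveI hIL : IsLocalRing (B ⧸ (maximalIdeal A).map (algebraMap A B)) := hG.toIsLocalRing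
  have hJne : (maximalIdeal A).map (algebraMap A B) ≠ ⊤ := by
    intro h
    have hsub : Subsingleton (B ⧸ (maximalIdeal A).map (algebraMap A B)) :=
      Ideal.Quotient.subsingleton_iff.mpr h
    exact not_subsingleton (B ⧸ (maximalIdeal A).map (algebraMap A B)) hsub
  have hJle : (maximalIdeal A).map (algebraMap A B) ≤ maximalIdeal B :=
    IsLocalRing.le_maximalIdeal hJne
  haveI hloc : IsLocalHom (algebraMap A B) := by
    refine ⟨fun a ha => ?_⟩
    by_contra hu
    have h1 : a ∈ maximalIdeal A := (IsLocalRing.mem_maximalIdeal a).mpr hu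
    have h2 : algebraMap A B a ∈ maximalIdeal B := hJle (Ideal.mem_map_of_mem _ h1)
    exact (IsLocalRing.mem_maximalIdeal _).mp h2 ha
  -- nilpotency of the maximal ideal of the fibre
  obtain ⟨N, hN⟩ : ∃ N : ℕ, maximalIdeal B ^ N ≤ (maximalIdeal A).map (algebraMap A B) := by
    have hnil : IsNilpotent (maximalIdeal (B ⧸ (maximalIdeal A).map (algebraMap A B))) :=
      (isArtinianRing_iff_isNilpotent_maximalIdeal _).mp hArt
    obtain ⟨N, hN⟩ := hnil
    refine ⟨N, fun x hx => ?_⟩
    have hmap : (maximalIdeal B).map (Ideal.Quotient.mk ((maximalIdeal A).map (algebraMap A B))) ≤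
        maximalIdeal (B ⧸ (maximalIdeal A).map (algebraMap A B)) := by
      rw [Ideal.map_le_iff_le_comap]
      intro b hb
      rw [Ideal.mem_comap, IsLocalRing.mem_maximalIdeal, mem_nonunits_iff]
      intro hu
      haveI : IsLocalHom (Ideal.Quotient.mk ((maximalIdeal A).map (algebraMap A B))) :=
        IsLocalHom.of_surjective _ Ideal.Quotient.mk_surjective
      exact (IsLocalRing.mem_maximalIdeal _).mp hb
        (isUnit_of_map_unit (Ideal.Quotient.mk ((maximalIdeal A).map (algebraMap A B))) b hu)
    have h1 : Ideal.Quotient.mk ((maximalIdeal A).map (algebraMap A B)) x ∈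
        (maximalIdeal (B ⧸ (maximalIdeal A).map (algebraMap A B))) ^ N := by
      have h2 : Ideal.Quotient.mk ((maximalIdeal A).map (algebraMap A B)) x ∈
          ((maximalIdeal B) ^ N).map (Ideal.Quotient.mk ((maximalIdeal A).map (algebraMap A B))) :=
        Ideal.mem_map_of_mem _ hx
      rw [Ideal.map_pow] at h2
      exact Ideal.pow_right_mono hmap N h2
    rw [hN] at h1
    exact Ideal.Quotient.eq_zero_iff_mem.mp h1
  have hpowle : ∀ n, maximalIdeal B ^ (N * n) ≤ (maximalIdeal A ^ n).map (algebraMap A B) := by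
    intro n
    rw [pow_mul, Ideal.map_pow]
    exact Ideal.pow_right_mono hN n
  -- the injective hull over B
  obtain ⟨E', _, _, f', hf'⟩ := exists_injectiveHull (R := B) (ResidueField B)
  have hinjE' : Module.Injective B E' := hf'.isInjective
  let f₁ : (A ⧸ maximalIdeal A) →ₗ[A] E := f
  let f'₁ : (B ⧸ maximalIdeal B) →ₗ[B] E' := f'
  let eS : (B ⊗[A] (A ⧸ maximalIdeal A)) ≃ₗ[B] (B ⧸ (maximalIdeal A).map (algebraMap A B)) :=
    (Algebra.TensorProduct.quotIdealMapEquivTensorQuot B (maximalIdeal A)).symm.toLinearEquiv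
  -- finite length of the fibre
  have hFfin : IsFiniteLength B (B ⧸ (maximalIdeal A).map (algebraMap A B)) := by
    have h1 : IsFiniteLength B (B ⧸ maximalIdeal B ^ N) :=
      Groth.Agent.Helper8.Matlis.isFiniteLength_quotient_pow N
    let q : (B ⧸ maximalIdeal B ^ N) →ₗ[B] (B ⧸ (maximalIdeal A).map (algebraMap A B)) :=
      Submodule.mapQ (maximalIdeal B ^ N) ((maximalIdeal A).map (algebraMap A B)) LinearMap.id
        (by intro x hx; exact hN hx)
    have hq : Surjective q := by
      intro y
      obtain ⟨b, rfl⟩ := Ideal.Quotient.mk_surjective y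
      exact ⟨Submodule.Quotient.mk b, rfl⟩
    exact IsFiniteLength.of_surjective h1 hq
  have hℓ : Module.length B (B ⊗[A] (A ⧸ maximalIdeal A)) ≠ ⊤ := by
    rw [eS.length_eq, Module.length_ne_top_iff]
    exact hFfin
  -- the socle of the fibre is simple
  have hdim : ringKrullDim (B ⧸ (maximalIdeal A).map (algebraMap A B)) = 0 := by
    have h0 : Ring.KrullDimLE 0 (B ⧸ (maximalIdeal A).map (algebraMap A B)) :=
      isArtinianRing_iff_krullDimLE_zero.mp hArt
    exact ringKrullDimZero_iff_ringKrullDim_eq_zero.mp h0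
  have hsoc1 : Module.length B (Groth.Agent.Helper12.GorFlatLoc.soc B
      (B ⧸ (maximalIdeal A).map (algebraMap A B))) = 1 := by
    rw [Groth.Agent.Helper12.GorFlatLoc.length_soc_fibre A B]
    exact (Groth.Agent.Helper12.GorFlatLoc.gorenstein_iff_of_dim_zero _ hdim).mp hG
  let S : Submodule B (B ⧸ (maximalIdeal A).map (algebraMap A B)) :=
    Submodule.torsionBySet B (B ⧸ (maximalIdeal A).map (algebraMap A B)) (maximalIdeal B : Set B)
  have hSsimple : IsSimpleModule B S := Module.length_eq_one_iff.mp hsoc1
  obtain ⟨I, hI, ⟨σ⟩⟩ := isSimpleModule_iff_quot_maximal.mp hSsimple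
  have hIm : I = maximalIdeal B := IsLocalRing.eq_maximalIdeal hI
  subst hIm
  let ψ₀ : S →ₗ[B] E' := f'₁ ∘ₗ σ.toLinearMap
  have hψ₀inj : Injective ψ₀ := hf'.injective.comp σ.injective
  obtain ⟨ψ, hψ⟩ := Module.Injective.extension_property B E' _ _ S.subtype
    (Submodule.injective_subtype _) ψ₀
  have hFtors : LocCoh.IsPowerTorsion (maximalIdeal B)
      (B ⧸ (maximalIdeal A).map (algebraMap A B)) := by
    intro w
    refine ⟨N, fun a ha => ?_⟩
    obtain ⟨b, rfl⟩ := Ideal.Quotient.mk_surjective w
    change Ideal.Quotient.mk _ (a * b) = 0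
    exact Ideal.Quotient.eq_zero_iff_mem.mpr (Ideal.mul_mem_right _ _ (hN ha))
  have hψinj : Injective ψ := by
    rw [← LinearMap.ker_eq_bot, LinearMap.ker_eq_bot']
    intro w hw
    by_contra hw0
    obtain ⟨c, hcw, hc⟩ := exists_smul_mem_socle hFtors w hw0
    have hmem : c • w ∈ S := (Submodule.mem_torsionBySet_iff _ _).mpr (fun a => hc a a.2)
    have h1 : ψ₀ ⟨c • w, hmem⟩ = 0 := by
      rw [← hψ]
      change ψ (c • w) = 0
      rw [map_smul, hw, smul_zero]
    have h2 : (⟨c • w, hmem⟩ : S) = 0 := hψ₀inj (h1.trans (map_zero ψ₀).symm)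
    exact hcw (congrArg Subtype.val h2)
  let θ₀ : B ⊗[A] (A ⧸ maximalIdeal A) →ₗ[B] E' := ψ ∘ₗ eS.toLinearMap
  have hθ₀inj : Injective θ₀ := hψinj.comp eS.injective
  let a : B ⊗[A] (A ⧸ maximalIdeal A) →ₗ[B] B ⊗[A] E := f₁.baseChange B
  have ha : Injective a :=
    Module.Flat.lTensor_preserves_injective_linearMap (M := B) f₁ hf.injective
  obtain ⟨θ, hθ⟩ := Module.Injective.extension_property B E' _ _ a ha θ₀
  -- killing
  have hkill : ∀ (n : ℕ) (x : E), (∀ r ∈ maximalIdeal A ^ n, r • x = 0) → ∀ (b : B),
      ∀ c ∈ (maximalIdeal A ^ n).map (algebraMap A B), c • (b ⊗ₜ[A] x : B ⊗[A] E) = 0 := by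
    intro n x hx b c hc
    change c ∈ Ideal.span _ at hc
    induction hc using Submodule.span_induction with
    | mem c hc =>
      obtain ⟨r, hr, rfl⟩ := hc
      rw [algebraMap_smul, ← TensorProduct.tmul_smul, hx r hr, tmul_zero]
    | zero => rw [zero_smul]
    | add c1 c2 _ _ h1 h2 => rw [add_smul, h1, h2, add_zero]
    | smul d c1 _ h1 => rw [smul_eq_mul, mul_smul, h1, smul_zero]
  have hWtors : LocCoh.IsPowerTorsion (maximalIdeal B) (B ⊗[A] E) := by
    intro w
    induction w using TensorProduct.induction_on with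
    | zero => exact ⟨0, fun c _ => smul_zero c⟩
    | tmul b x =>
      obtain ⟨n, hn⟩ := Groth.Agent.Helper8.Matlis.isPowerTorsion hf.toIsEssentialInj x
      exact ⟨N * n, fun c hc => hkill n x hn b c (hpowle n hc)⟩
    | add w1 w2 h1 h2 =>
      obtain ⟨n1, hn1⟩ := h1
      obtain ⟨n2, hn2⟩ := h2
      refine ⟨max n1 n2, fun c hc => ?_⟩
      rw [smul_add, hn1 c (Ideal.pow_le_pow_right (le_max_left _ _) hc),
        hn2 c (Ideal.pow_le_pow_right (le_max_right _ _) hc), add_zero]
  -- the socle
  have hsocle : ∀ w : B ⊗[A] E, (∀ c ∈ maximalIdeal B, c • w = 0) → w ∈ LinearMap.range a := by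
    intro w hw
    obtain ⟨s, hs⟩ := (IsNoetherian.noetherian (maximalIdeal A) : (maximalIdeal A).FG)
    have hsmem : ∀ i : s, (i : A) ∈ maximalIdeal A := fun i => by
      rw [← hs]
      exact Ideal.subset_span i.2
    let g : E →ₗ[A] (s → E) := LinearMap.pi fun i => (i : A) • LinearMap.id
    have hfg : Function.Exact f₁ g := by
      intro x
      constructor
      · intro hx
        have hx' : ∀ r ∈ maximalIdeal A, r • x = 0 := by
          intro r hr
          rw [← hs] at hr
          change r ∈ Ideal.span _ at hr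
          induction hr using Submodule.span_induction with
          | mem i hi => exact congrFun hx ⟨i, hi⟩
          | zero => rw [zero_smul]
          | add r1 r2 _ _ h1 h2 => rw [add_smul, h1, h2, add_zero]
          | smul d r1 _ h1 => rw [smul_eq_mul, mul_smul, h1, smul_zero]
        exact Groth.Agent.Helper8.Matlis.mem_range_of_maximalIdeal_smul_eq_zero
          hf.toIsEssentialInj x hx'
      · rintro ⟨c, rfl⟩
        funext i
        change (i : A) • f c = 0
        rw [← map_smul, Groth.Agent.Helper8.Matlis.residue_smul_eq_zero _ (hsmem i), map_zero]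
    have hexact : Function.Exact (f₁.lTensor B) (g.lTensor B) := Module.Flat.lTensor_exact B hfg
    have key : ∀ (w : B ⊗[A] E) (i : s),
        (TensorProduct.piRight A B B (fun _ : s => E)) ((g.lTensor B) w) i =
          (algebraMap A B (i : A)) • w := by
      intro w i
      induction w using TensorProduct.induction_on with
      | zero => rw [map_zero, map_zero, smul_zero]; rfl
      | tmul b x =>
        rw [LinearMap.lTensor_tmul, TensorProduct.piRight_apply, TensorProduct.piRightHom_tmul,
          algebraMap_smul, ← TensorProduct.tmul_smul]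
        rfl
      | add w1 w2 h1 h2 => rw [map_add, map_add, Pi.add_apply, h1, h2, smul_add]
    have hzero : (g.lTensor B) w = 0 := by
      apply (TensorProduct.piRight A B B (fun _ : s => E)).injective
      rw [map_zero]
      funext i
      rw [key]
      apply hw
      exact hJle (Ideal.mem_map_of_mem _ (hsmem i))
    obtain ⟨z, hz⟩ := (hexact w).mp hzero
    exact ⟨z, hz⟩
  have hθinj : Injective θ := by
    rw [← LinearMap.ker_eq_bot, LinearMap.ker_eq_bot']
    intro w hw
    by_contra hw0
    obtain ⟨c, hcw, hc⟩ := exists_smul_mem_socle hWtors w hw0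
    obtain ⟨s, hs⟩ := hsocle (c • w) hc
    have h1 : θ₀ s = 0 := by
      rw [← hθ, LinearMap.comp_apply, hs, map_smul, hw, smul_zero]
    have h2 : s = 0 := hθ₀inj (h1.trans (map_zero θ₀).symm)
    apply hcw
    rw [← hs, h2, map_zero]
  have hθsurj : Surjective θ := by
    intro y
    obtain ⟨n, hn⟩ := Groth.Agent.Helper8.Matlis.isPowerTorsion hf'.toIsEssentialInj y
    have hJnle : (maximalIdeal A ^ n).map (algebraMap A B) ≤ maximalIdeal B ^ n := by
      rw [Ideal.map_pow]
      exact Ideal.pow_right_mono hJle n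
    let En : Submodule A E := Submodule.torsionBySet A E ((maximalIdeal A ^ n : Ideal A) : Set A)
    let E'n : Submodule B E' :=
      Submodule.torsionBySet B E' (((maximalIdeal A ^ n).map (algebraMap A B) : Ideal B) : Set B)
    let an : B ⊗[A] En →ₗ[B] B ⊗[A] E := En.subtype.baseChange B
    have han : Injective an :=
      Module.Flat.lTensor_preserves_injective_linearMap (M := B) En.subtype
        (Submodule.injective_subtype _)
    have hkill' : ∀ (z : B ⊗[A] En) (c : B), c ∈ (maximalIdeal A ^ n).map (algebraMap A B) →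
        c • an z = 0 := by
      intro z c hc
      induction z using TensorProduct.induction_on with
      | zero => rw [map_zero, smul_zero]
      | tmul b x =>
        change c • (b ⊗ₜ[A] (x : E)) = 0
        exact hkill n x (fun r hr => ((Submodule.mem_torsionBySet_iff _ _).mp x.2) ⟨r, hr⟩) b c hc
      | add z1 z2 h1 h2 => rw [map_add, smul_add, h1, h2, add_zero]
    let θn : B ⊗[A] En →ₗ[B] E'n := (θ ∘ₗ an).codRestrict E'n (fun z => by
      rw [Submodule.mem_torsionBySet_iff]
      intro c
      change (c : B) • θ (an z) = 0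
      rw [← map_smul, hkill' z c c.2, map_zero])
    have hθn : Injective θn := by
      intro z1 z2 h
      apply han
      apply hθinj
      exact congrArg Subtype.val h
    have hAfin : IsFiniteLength A (A ⧸ maximalIdeal A ^ n) :=
      Groth.Agent.Helper8.Matlis.isFiniteLength_quotient_pow n
    let eQ : (B ⊗[A] (A ⧸ maximalIdeal A ^ n)) ≃ₗ[B]
        (B ⧸ (maximalIdeal A ^ n).map (algebraMap A B)) :=
      (Algebra.TensorProduct.quotIdealMapEquivTensorQuot B
        (maximalIdeal A ^ n)).symm.toLinearEquiv
    have hlenQ : Module.length B (B ⧸ (maximalIdeal A ^ n).map (algebraMap A B)) =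
        Module.length B (B ⊗[A] (A ⧸ maximalIdeal A)) *
          Module.length A (A ⧸ maximalIdeal A ^ n) := by
      rw [← eQ.length_eq, length_baseChange' hAfin]
    have hfinA : Module.length A (A ⧸ maximalIdeal A ^ n) ≠ ⊤ :=
      Module.length_ne_top_iff.mpr hAfin
    have hBfin : IsFiniteLength B (B ⧸ (maximalIdeal A ^ n).map (algebraMap A B)) := by
      rw [← Module.length_ne_top_iff, hlenQ]
      exact WithTop.mul_ne_top hℓ hfinA
    obtain ⟨eA⟩ := nonempty_homQuot_equiv_torsion (maximalIdeal A ^ n) E
    obtain ⟨eB⟩ := nonempty_homQuot_equiv_torsion ((maximalIdeal A ^ n).map (algebraMap A B)) E'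
    have hlenEn : Module.length A En = Module.length A (A ⧸ maximalIdeal A ^ n) := by
      rw [← eA.length_eq, Groth.Agent.Helper8.Matlis.length_hom hf _ hAfin]
    have hEnfin : IsFiniteLength A En := by
      rw [← Module.length_ne_top_iff, hlenEn, Module.length_ne_top_iff]
      exact hAfin
    have hlen1 : Module.length B (B ⊗[A] En) =
        Module.length B (B ⊗[A] (A ⧸ maximalIdeal A)) *
          Module.length A (A ⧸ maximalIdeal A ^ n) := by
      rw [length_baseChange' hEnfin, hlenEn]
    have hlen2 : Module.length B E'n =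
        Module.length B (B ⊗[A] (A ⧸ maximalIdeal A)) *
          Module.length A (A ⧸ maximalIdeal A ^ n) := by
      rw [← eB.length_eq, Groth.Agent.Helper8.Matlis.length_hom hf' _ hBfin, hlenQ]
    have hsurj : Surjective θn :=
      surjective_of_injective_of_length_eq θn hθn (hlen1.trans hlen2.symm) (by
        rw [hlen1]
        exact WithTop.mul_ne_top hℓ hfinA)
    have hy : y ∈ E'n := by
      rw [Submodule.mem_torsionBySet_iff]
      intro c
      exact hn c (hJnle c.2)
    obtain ⟨z, hz⟩ := hsurj ⟨y, hy⟩
    exact ⟨an z, congrArg Subtype.val hz⟩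
  let θe : (B ⊗[A] E) ≃ₗ[B] E' := LinearEquiv.ofBijective θ ⟨hθinj, hθsurj⟩
  exact ⟨θe.symm.toLinearMap ∘ₗ f', isInjectiveHull_comp_linearEquiv f' hf' θe.symm⟩

end Groth.Agent.Helper17.IH1
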