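import Mathlib
import Groth.Prelude.Def_W4bk4grossh111Obs

set_option autoImplicit false
universe u
open CategoryTheory MonoidalCategory CartesianMonoidalCategory MonObj GrpObj AlgebraicGeometry
open scoped TensorProduct

namespace Groth.Agent.Helper17.IZ

noncomputable section

/-- the action of the opposite ring on a module over a commutative ring -/
abbrev opMod (A : Type u) [CommRing A] (M : Type u) [AddCommGroup M] [Module A M] :
    Module Aᵐᵒᵖ M := Module.compHom M (RingEquiv.toOpposite A).symm.toRingHom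

attribute [local instance] opMod

theorem centralMod (A : Type u) [CommRing A] (M : Type u) [AddCommGroup M] [Module A M] :
    IsCentralScalar A M := ⟨fun _ _ => rfl⟩

attribute [local instance] centralMod

/-- the idealisation `A ⊕ M` -/
def RR (A : Type u) [CommRing A] (M : Type u) [AddCommGroup M] [Module A M] : Type u :=
  TrivSqZeroExt A M

instance (A : Type u) [CommRing A] (M : Type u) [AddCommGroup M] [Module A M] :
    CommRing (RR A M) := inferInstanceAs (CommRing (TrivSqZeroExt A M))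

instance (k : Type u) [Field k] (A : Type u) [CommRing A] [Algebra k A] (M : Type u)
    [AddCommGroup M] [Module A M] [Module k M] [IsScalarTower k A M] :
    Algebra k (RR A M) := inferInstanceAs (Algebra k (TrivSqZeroExt A M))

section Basic

variable {A : Type u} [CommRing A] {M : Type u} [AddCommGroup M] [Module A M]

def rfst (x : RR A M) : A := TrivSqZeroExt.fst (R := A) (M := M) x
def rsnd (x : RR A M) : M := TrivSqZeroExt.snd (R := A) (M := M) x
def rinl (a : A) : RR A M := (TrivSqZeroExt.inl a : TrivSqZeroExt A M)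
def rinr (m : M) : RR A M := (TrivSqZeroExt.inr m : TrivSqZeroExt A M)

lemma rr_ext {x y : RR A M} (h1 : rfst x = rfst y) (h2 : rsnd x = rsnd y) : x = y :=
  TrivSqZeroExt.ext (R := A) (M := M) h1 h2

@[simp] lemma rfst_rinl (a : A) : rfst (rinl a : RR A M) = a := rfl
@[simp] lemma rsnd_rinl (a : A) : rsnd (rinl a : RR A M) = 0 := rfl
@[simp] lemma rfst_rinr (m : M) : rfst (rinr m : RR A M) = 0 := rfl
@[simp] lemma rsnd_rinr (m : M) : rsnd (rinr m : RR A M) = m := rfl
@[simp] lemma rfst_add (x y : RR A M) : rfst (x + y) = rfst x + rfst y := rfl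
@[simp] lemma rsnd_add (x y : RR A M) : rsnd (x + y) = rsnd x + rsnd y := rfl
@[simp] lemma rfst_mul (x y : RR A M) : rfst (x * y) = rfst x * rfst y := rfl
lemma rsnd_mul (x y : RR A M) : rsnd (x * y) = rfst x • rsnd y + rfst y • rsnd x := rfl
@[simp] lemma rfst_one : rfst (1 : RR A M) = 1 := rfl
@[simp] lemma rsnd_one : rsnd (1 : RR A M) = 0 := rfl
@[simp] lemma rfst_zero : rfst (0 : RR A M) = 0 := rfl
@[simp] lemma rsnd_zero : rsnd (0 : RR A M) = 0 := rfl

lemma rinl_add_rinr (x : RR A M) : rinl (rfst x) + rinr (rsnd x) = x :=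
  rr_ext (by simp) (by simp)

lemma rr_mul (r r' : RR A M) :
    r * r' = rinl (rfst r * rfst r') + (rinr (rfst r • rsnd r') + rinr (rfst r' • rsnd r)) :=
  rr_ext (by simp) (by simp [rsnd_mul])

end Basic

section Lin

variable (k : Type u) [Field k] {A : Type u} [CommRing A] [Algebra k A] {M : Type u}
  [AddCommGroup M] [Module A M] [Module k M] [IsScalarTower k A M]

lemma rfst_smul (c : k) (x : RR A M) : rfst (c • x) = c • rfst x := rfl
lemma rsnd_smul (c : k) (x : RR A M) : rsnd (c • x) = c • rsnd x := rfl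
lemma rfst_algebraMap (c : k) : rfst (algebraMap k (RR A M) c) = algebraMap k A c := rfl
lemma rsnd_algebraMap (c : k) : rsnd (algebraMap k (RR A M) c) = 0 := rfl

def fstL : RR A M →ₗ[k] A where
  toFun := rfst
  map_add' _ _ := rfl
  map_smul' _ _ := rfl

def sndL : RR A M →ₗ[k] M where
  toFun := rsnd
  map_add' _ _ := rfl
  map_smul' _ _ := rfl

def inlL : A →ₗ[k] RR A M where
  toFun := rinl
  map_add' a b := rr_ext (by simp) (by simp)
  map_smul' c a := rr_ext (by simp [rfst_smul]) (by simp [rsnd_smul])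

def inrL : M →ₗ[k] RR A M where
  toFun := rinr
  map_add' a b := rr_ext (by simp) (by simp)
  map_smul' c a := rr_ext (by simp [rfst_smul]) (by simp [rsnd_smul])

@[simp] lemma fstL_apply (x : RR A M) : fstL k x = rfst x := rfl
@[simp] lemma sndL_apply (x : RR A M) : sndL k x = rsnd x := rfl
@[simp] lemma inlL_apply (a : A) : (inlL k a : RR A M) = rinl a := rfl
@[simp] lemma inrL_apply (m : M) : (inrL k m : RR A M) = rinr m := rfl

lemma hAA : (fstL k (A := A) (M := M)) ∘ₗ (inlL k) = LinearMap.id := LinearMap.ext fun _ => rfl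
lemma hAM : (fstL k (A := A) (M := M)) ∘ₗ (inrL k) = 0 := LinearMap.ext fun _ => rfl
lemma hMA : (sndL k (A := A) (M := M)) ∘ₗ (inlL k) = 0 := LinearMap.ext fun _ => rfl
lemma hMM : (sndL k (A := A) (M := M)) ∘ₗ (inrL k) = LinearMap.id := LinearMap.ext fun _ => rfl
lemma hSum : (inlL k (A := A) (M := M)) ∘ₗ (fstL k) + (inrL k) ∘ₗ (sndL k) = LinearMap.id :=
  LinearMap.ext fun x => rinl_add_rinr x

variable (B : Type u) [CommRing B] [Algebra k B]

/-- base-changed projections and inclusions -/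
abbrev πA : B ⊗[k] RR A M →ₗ[B] B ⊗[k] A := (fstL k).baseChange B
abbrev πM : B ⊗[k] RR A M →ₗ[B] B ⊗[k] M := (sndL k).baseChange B
abbrev ιA : B ⊗[k] A →ₗ[B] B ⊗[k] RR A M := (inlL k).baseChange B
abbrev ιM : B ⊗[k] M →ₗ[B] B ⊗[k] RR A M := (inrL k).baseChange B

lemma pAA (y : B ⊗[k] A) : πA k B (ιA k B y : B ⊗[k] RR A M) = y := by
  show ((fstL k).baseChange B ∘ₗ (inlL k (A := A) (M := M)).baseChange B) y = y
  rw [← LinearMap.baseChange_comp, hAA, LinearMap.baseChange_id, LinearMap.id_apply]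

lemma pAM (z : B ⊗[k] M) : πA k B (ιM k B z : B ⊗[k] RR A M) = 0 := by
  show ((fstL k).baseChange B ∘ₗ (inrL k (A := A) (M := M)).baseChange B) z = 0
  rw [← LinearMap.baseChange_comp, hAM, LinearMap.baseChange_zero, LinearMap.zero_apply]

lemma pMA (y : B ⊗[k] A) : πM k B (ιA k B y : B ⊗[k] RR A M) = 0 := by
  show ((sndL k).baseChange B ∘ₗ (inlL k (A := A) (M := M)).baseChange B) y = 0
  rw [← LinearMap.baseChange_comp, hMA, LinearMap.baseChange_zero, LinearMap.zero_apply]

lemma pMM (z : B ⊗[k] M) : πM k B (ιM k B z : B ⊗[k] RR A M) = z := by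
  show ((sndL k).baseChange B ∘ₗ (inrL k (A := A) (M := M)).baseChange B) z = z
  rw [← LinearMap.baseChange_comp, hMM, LinearMap.baseChange_id, LinearMap.id_apply]

lemma pSum (x : B ⊗[k] RR A M) : ιA k B (πA k B x) + ιM k B (πM k B x) = x := by
  show (((inlL k).baseChange B ∘ₗ (fstL k (A := A) (M := M)).baseChange B +
    (inrL k).baseChange B ∘ₗ (sndL k (A := A) (M := M)).baseChange B :
      B ⊗[k] RR A M →ₗ[B] B ⊗[k] RR A M)) x = x
  rw [← LinearMap.baseChange_comp, ← LinearMap.baseChange_comp, ← LinearMap.baseChange_add, hSum,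
    LinearMap.baseChange_id, LinearMap.id_apply]

lemma smulW_tmul (b b' : B) (a : A) (m : M) :
    VecGrp.GMod.smulW k A M B (b ⊗ₜ[k] a) (b' ⊗ₜ[k] m) = (b * b') ⊗ₜ[k] (a • m) := rfl

lemma mul_formula (x y : B ⊗[k] RR A M) :
    x * y = ιA k B (πA k B x * πA k B y) +
      ιM k B (VecGrp.GMod.smulW k A M B (πA k B x) (πM k B y) +
        VecGrp.GMod.smulW k A M B (πA k B y) (πM k B x)) := by
  induction x using TensorProduct.induction_on with
  | zero => simp
  | add x₁ x₂ h₁ h₂ =>
    rw [add_mul, h₁, h₂]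
    simp only [map_add, add_mul, LinearMap.add_apply]
    abel
  | tmul b r =>
    induction y using TensorProduct.induction_on with
    | zero => simp
    | add y₁ y₂ h₁ h₂ =>
      rw [mul_add, h₁, h₂]
      simp only [map_add, mul_add, LinearMap.add_apply]
      abel
    | tmul b' r' =>
      have e1 : πA k B (b ⊗ₜ[k] r) = b ⊗ₜ[k] rfst r := rfl
      have e2 : πA k B (b' ⊗ₜ[k] r') = b' ⊗ₜ[k] rfst r' := rfl
      have e3 : πM k B (b ⊗ₜ[k] r) = b ⊗ₜ[k] rsnd r := rfl
      have e4 : πM k B (b' ⊗ₜ[k] r') = b' ⊗ₜ[k] rsnd r' := rfl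
      rw [e1, e2, e3, e4, Algebra.TensorProduct.tmul_mul_tmul, Algebra.TensorProduct.tmul_mul_tmul,
        smulW_tmul, smulW_tmul, map_add, LinearMap.baseChange_tmul, LinearMap.baseChange_tmul,
        LinearMap.baseChange_tmul, rr_mul r r', mul_comm b' b, TensorProduct.tmul_add,
        TensorProduct.tmul_add]
      rfl

lemma πA_mul (x y : B ⊗[k] RR A M) : πA k B (x * y) = πA k B x * πA k B y := by
  rw [mul_formula k B x y, map_add, pAA, pAM, add_zero]

lemma πM_mul (x y : B ⊗[k] RR A M) :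
    πM k B (x * y) = VecGrp.GMod.smulW k A M B (πA k B x) (πM k B y) +
        VecGrp.GMod.smulW k A M B (πA k B y) (πM k B x) := by
  rw [mul_formula k B x y, map_add, pMA, pMM, zero_add]

lemma πA_one : πA k B (1 : B ⊗[k] RR A M) = 1 := rfl

lemma πM_one : πM k B (1 : B ⊗[k] RR A M) = 0 := by
  show (1 : B) ⊗ₜ[k] rsnd (1 : RR A M) = 0
  rw [rsnd_one, TensorProduct.tmul_zero]

lemma ιA_one : ιA k B (1 : B ⊗[k] A) = (1 : B ⊗[k] RR A M) := rfl

end Lin

end

end Groth.Agent.Helper17.IZ
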