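import Groth.Agent.Lib.Helper17.IZ1

set_option autoImplicit false
universe u
open CategoryTheory MonoidalCategory CartesianMonoidalCategory MonObj GrpObj AlgebraicGeometry
open scoped TensorProduct

namespace Groth.Agent.Helper17.IZ

noncomputable section

attribute [local instance] opMod centralMod

section Act

variable {k : Type u} [Field k] {A : Type u} [CommRing A] [Algebra k A] {M : Type u}
  [AddCommGroup M] [Module A M] [Module k M] [IsScalarTower k A M]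
  {G : Over (Spec (CommRingCat.of k))} [GrpObj G] (ρA : VecGrp.GMod G A) (ρM : VecGrp.GMod G M)

/-- the diagonal action on `B ⊗ (A ⊕ M)` -/
def actLin (B : Type u) [CommRing B] [Algebra k B] (g : VecGrp.pt k B ⟶ G) :
    Module.End B (B ⊗[k] RR A M) :=
  (ιA k B) ∘ₗ (ρA.ρ B g).toLinearMap ∘ₗ (πA k B) +
    (ιM k B) ∘ₗ (ρM.ρ B g).toLinearMap ∘ₗ (πM k B)

lemma actLin_apply (B : Type u) [CommRing B] [Algebra k B] (g : VecGrp.pt k B ⟶ G)
    (x : B ⊗[k] RR A M) :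
    actLin ρA ρM B g x =
      ιA k B (ρA.ρ B g (πA k B x)) + ιM k B (ρM.ρ B g (πM k B x)) := rfl

lemma πA_actLin (B : Type u) [CommRing B] [Algebra k B] (g : VecGrp.pt k B ⟶ G)
    (x : B ⊗[k] RR A M) :
    πA k B (actLin ρA ρM B g x) = ρA.ρ B g (πA k B x) := by
  rw [actLin_apply, map_add, pAA, pAM, add_zero]

lemma πM_actLin (B : Type u) [CommRing B] [Algebra k B] (g : VecGrp.pt k B ⟶ G)
    (x : B ⊗[k] RR A M) :
    πM k B (actLin ρA ρM B g x) = ρM.ρ B g (πM k B x) := by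
  rw [actLin_apply, map_add, pMA, pMM, zero_add]

/-- the action as a monoid homomorphism to endomorphisms -/
def actHom (B : Type u) [CommRing B] [Algebra k B] :
    (VecGrp.pt k B ⟶ G) →* Module.End B (B ⊗[k] RR A M) where
  toFun g := actLin ρA ρM B g
  map_one' := LinearMap.ext fun x => by
    have h1 : ρA.ρ B 1 = 1 := map_one _
    have h2 : ρM.ρ B 1 = 1 := map_one _
    rw [actLin_apply, h1, h2]
    exact pSum k B x
  map_mul' g g' := LinearMap.ext fun x => by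
    show actLin ρA ρM B (g * g') x = actLin ρA ρM B g (actLin ρA ρM B g' x)
    rw [actLin_apply ρA ρM B g, πA_actLin, πM_actLin, actLin_apply, map_mul, map_mul]
    rfl

/-- the `G`-module structure on the idealisation -/
def gmodRR : VecGrp.GMod G (RR A M) where
  ρ B _ _ := (LinearMap.GeneralLinearGroup.generalLinearEquiv B (B ⊗[k] RR A M)).toMonoidHom.comp
    (actHom ρA ρM B).toHomUnits
  naturality φ g x := by
    show VecGrp.Wmap φ (actLin ρA ρM _ g x) =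
      actLin ρA ρM _ (VecGrp.ptMap φ ≫ g) (VecGrp.Wmap φ x)
    rw [actLin_apply, actLin_apply, map_add, VecGrp.baseChange_natural, VecGrp.baseChange_natural,
      ρA.naturality, ρM.naturality, VecGrp.baseChange_natural, VecGrp.baseChange_natural]

lemma gmodRR_apply (B : Type u) [CommRing B] [Algebra k B] (g : VecGrp.pt k B ⟶ G)
    (x : B ⊗[k] RR A M) : (gmodRR ρA ρM).ρ B g x = actLin ρA ρM B g x := rfl

lemma isMult (hρ : ρA.IsMult) (hc : VecGrp.GMod.IsCompat ρA ρM) : (gmodRR ρA ρM).IsMult := by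
  intro B _ _ g
  refine ⟨fun x y => ?_, ?_⟩
  · show actLin ρA ρM B g (x * y) = actLin ρA ρM B g x * actLin ρA ρM B g y
    rw [mul_formula k B (actLin ρA ρM B g x) (actLin ρA ρM B g y)]
    simp only [πA_actLin, πM_actLin]
    rw [actLin_apply, πA_mul, πM_mul, (hρ B g).1, map_add, hc, hc]
  · show actLin ρA ρM B g 1 = 1
    rw [actLin_apply, πA_one, πM_one, (hρ B g).2, map_zero, map_zero, add_zero]
    exact ιA_one k B

lemma snd_mem_fixed {r : RR A M} (hr : r ∈ (gmodRR ρA ρM).fixedUnder (𝟙 G)) :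
    rsnd r ∈ ρM.fixedUnder (𝟙 G) := by
  have hr' : ∀ (B : Type u) [CommRing B] [Algebra k B] (h : VecGrp.pt k B ⟶ G),
      actLin ρA ρM B (h ≫ 𝟙 G) ((1 : B) ⊗ₜ[k] r) = (1 : B) ⊗ₜ[k] r := hr
  show ∀ (B : Type u) [CommRing B] [Algebra k B] (h : VecGrp.pt k B ⟶ G),
      ρM.ρ B (h ≫ 𝟙 G) ((1 : B) ⊗ₜ[k] rsnd r) = (1 : B) ⊗ₜ[k] rsnd r
  intro B _ _ h
  have h2 := congrArg (πM k B) (hr' B h)
  rw [πM_actLin] at h2
  exact h2

lemma fst_mem_fixed (hρ : ρA.IsMult) {r : RR A M}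
    (hr : r ∈ (gmodRR ρA ρM).fixedUnder (𝟙 G)) :
    rfst r ∈ ρA.fixedSubalgebra hρ (𝟙 G) := by
  have hr' : ∀ (B : Type u) [CommRing B] [Algebra k B] (h : VecGrp.pt k B ⟶ G),
      actLin ρA ρM B (h ≫ 𝟙 G) ((1 : B) ⊗ₜ[k] r) = (1 : B) ⊗ₜ[k] r := hr
  show ∀ (B : Type u) [CommRing B] [Algebra k B] (h : VecGrp.pt k B ⟶ G),
      ρA.ρ B (h ≫ 𝟙 G) ((1 : B) ⊗ₜ[k] rfst r) = (1 : B) ⊗ₜ[k] rfst r
  intro B _ _ h
  have h2 := congrArg (πA k B) (hr' B h)
  rw [πA_actLin] at h2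
  exact h2

lemma inr_mem_fixed {m : M} (hm : m ∈ ρM.fixedUnder (𝟙 G)) :
    (rinr m : RR A M) ∈ (gmodRR ρA ρM).fixedUnder (𝟙 G) := by
  have hm' : ∀ (B : Type u) [CommRing B] [Algebra k B] (h : VecGrp.pt k B ⟶ G),
      ρM.ρ B (h ≫ 𝟙 G) ((1 : B) ⊗ₜ[k] m) = (1 : B) ⊗ₜ[k] m := hm
  show ∀ (B : Type u) [CommRing B] [Algebra k B] (h : VecGrp.pt k B ⟶ G),
      actLin ρA ρM B (h ≫ 𝟙 G) ((1 : B) ⊗ₜ[k] (rinr m : RR A M)) =
        (1 : B) ⊗ₜ[k] (rinr m : RR A M)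
  intro B _ _ h
  have e1 : πA k B ((1 : B) ⊗ₜ[k] (rinr m : RR A M)) = 0 := by
    show (1 : B) ⊗ₜ[k] rfst (rinr m : RR A M) = 0
    rw [rfst_rinr, TensorProduct.tmul_zero]
  have e2 : πM k B ((1 : B) ⊗ₜ[k] (rinr m : RR A M)) = (1 : B) ⊗ₜ[k] m := rfl
  rw [actLin_apply, e1, e2, map_zero, map_zero, zero_add, hm' B h]
  rfl

lemma adjoin_prop [DecidableEq M] (hρ : ρA.IsMult) (t : Finset (RR A M))
    (ht1 : (↑t : Set (RR A M)) ⊆ (gmodRR ρA ρM).fixedUnder (𝟙 G)) (r : RR A M)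
    (hr : r ∈ Algebra.adjoin k (↑t : Set (RR A M))) :
    rfst r ∈ ρA.fixedSubalgebra hρ (𝟙 G) ∧
      rsnd r ∈ Submodule.span ↥(ρA.fixedSubalgebra hρ (𝟙 G)) (↑(t.image rsnd) : Set M) := by
  refine Algebra.adjoin_induction (p := fun r _ => rfst r ∈ ρA.fixedSubalgebra hρ (𝟙 G) ∧
      rsnd r ∈ Submodule.span ↥(ρA.fixedSubalgebra hρ (𝟙 G)) (↑(t.image rsnd) : Set M))
    ?_ ?_ ?_ ?_ hr
  · intro x hx
    refine ⟨fst_mem_fixed ρA ρM hρ (ht1 hx), Submodule.subset_span ?_⟩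
    rw [Finset.coe_image]
    exact ⟨x, hx, rfl⟩
  · intro c
    refine ⟨?_, ?_⟩
    · rw [rfst_algebraMap]
      exact Subalgebra.algebraMap_mem _ c
    · rw [rsnd_algebraMap]
      exact Submodule.zero_mem _
  · intro x y _ _ ihx ihy
    exact ⟨Subalgebra.add_mem _ ihx.1 ihy.1, Submodule.add_mem _ ihx.2 ihy.2⟩
  · intro x y _ _ ihx ihy
    refine ⟨Subalgebra.mul_mem _ ihx.1 ihy.1, ?_⟩
    rw [rsnd_mul]
    exact Submodule.add_mem _
      (Submodule.smul_mem _ (⟨rfst x, ihx.1⟩ : ↥(ρA.fixedSubalgebra hρ (𝟙 G))) ihy.2)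
      (Submodule.smul_mem _ (⟨rfst y, ihy.1⟩ : ↥(ρA.fixedSubalgebra hρ (𝟙 G))) ihx.2)

end Act

lemma finiteType (k : Type u) [Field k] (A : Type u) [CommRing A] [Algebra k A]
    [Algebra.FiniteType k A] (M : Type u) [AddCommGroup M] [Module A M] [Module k M]
    [IsScalarTower k A M] [Module.Finite A M] :
    Algebra.FiniteType k (RR A M) := by
  letI : Algebra A (RR A M) := inferInstanceAs (Algebra A (TrivSqZeroExt A M))
  haveI : IsScalarTower k A (RR A M) := IsScalarTower.of_algebraMap_eq (fun c => rfl)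
  haveI : Module.Finite A (RR A M) := inferInstanceAs (Module.Finite A (A × M))
  exact Algebra.FiniteType.trans (S := A) inferInstance inferInstance

theorem main11237 (k : Type u) [Field k]
    (G : Over (Spec (CommRingCat.of k))) [GrpObj G] (hG : VecGrp.IsReductiveGrp k G)
    (thmA : VecGrp.ReductiveInvariantsFG k)
    (A : Type u) [CommRing A] [Algebra k A] [Algebra.FiniteType k A] (ρA : VecGrp.GMod G A)
    (hρ : ρA.IsMult)
    (M : Type u) [AddCommGroup M] [Module A M] [Module k M] [IsScalarTower k A M]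
    [Module.Finite A M]
    (ρM : VecGrp.GMod G M) (hc : VecGrp.GMod.IsCompat ρA ρM) :
    ∃ s : Finset M, (↑s : Set M) ⊆ ρM.fixedUnder (𝟙 G) ∧
      ρM.fixedUnder (𝟙 G) ≤
        (Submodule.span ↥(ρA.fixedSubalgebra hρ (𝟙 G)) (↑s : Set M)).restrictScalars k := by
  classical
  obtain ⟨t, ht1, ht2⟩ := thmA G hG (RR A M) (gmodRR ρA ρM) (isMult ρA ρM hρ hc)
    (finiteType k A M)
  refine ⟨t.image rsnd, ?_, ?_⟩
  · intro m hm
    rw [Finset.coe_image] at hm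
    obtain ⟨r, hr, rfl⟩ := hm
    exact snd_mem_fixed ρA ρM (ht1 hr)
  · intro m hm
    have h1 : (rinr m : RR A M) ∈ (gmodRR ρA ρM).fixedUnder (𝟙 G) := inr_mem_fixed ρA ρM hm
    have h2 : (rinr m : RR A M) ∈ Algebra.adjoin k (↑t : Set (RR A M)) := ht2 h1
    have h3 := adjoin_prop ρA ρM hρ t ht1 (rinr m) h2
    exact (Submodule.restrictScalars_mem k _ m).2 h3.2

end

end Groth.Agent.Helper17.IZ
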