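import Mathlib

/-!
# First-order Taylor expansion of multivariate polynomials at a rational point
-/

set_option autoImplicit false

universe u

namespace Groth.Agent.Helper17.JC

open MvPolynomial

variable {k : Type u} [Field k] {n : ℕ} (a : Fin n → k)

/-- The shifted coordinate `T_j - a_j`. -/
noncomputable def u (j : Fin n) : MvPolynomial (Fin n) k := X j - C (a j)

lemma eval_u (j : Fin n) : eval a (u a j) = 0 := by
  simp [u]

lemma u_mem (j : Fin n) : u a j ∈ RingHom.ker (eval a) := by
  rw [RingHom.mem_ker]; exact eval_u a j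

/-- The differential at `a`. -/
noncomputable def dA : MvPolynomial (Fin n) k →ₗ[k] (Fin n → k) where
  toFun g := fun j => eval a (pderiv j g)
  map_add' g h := by ext j; simp
  map_smul' c g := by ext j; simp [smul_eval]

lemma dA_apply (g : MvPolynomial (Fin n) k) (j : Fin n) :
    dA a g j = eval a (pderiv j g) := rfl

lemma dA_mul (g h : MvPolynomial (Fin n) k) :
    dA a (g * h) = eval a g • dA a h + eval a h • dA a g := by
  ext j
  simp only [dA_apply, pderiv_mul, map_add, map_mul, Pi.add_apply, Pi.smul_apply, smul_eq_mul]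
  ring

lemma dA_C (c : k) : dA a (C c) = 0 := by
  ext j
  simp [dA_apply]

lemma dA_X (i : Fin n) : dA a (X i) = Pi.single i 1 := by
  ext j
  rw [dA_apply]
  by_cases h : i = j
  · subst h
    rw [pderiv_X_self, map_one, Pi.single_eq_same]
  · rw [pderiv_X_of_ne h, map_zero, Pi.single_eq_of_ne (Ne.symm h)]

lemma dA_u (i : Fin n) : dA a (u a i) = Pi.single i 1 := by
  rw [u, map_sub, dA_X, dA_C, sub_zero]

/-- The linear polynomial with prescribed differential. -/
noncomputable def Lc : (Fin n → k) →ₗ[k] MvPolynomial (Fin n) k :=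
  Fintype.linearCombination k (u a)

lemma Lc_apply (c : Fin n → k) : Lc a c = ∑ j, c j • u a j := rfl

lemma eval_Lc (c : Fin n → k) : eval a (Lc a c) = 0 := by
  rw [Lc_apply, map_sum]
  apply Finset.sum_eq_zero
  intro j _
  rw [smul_eval, eval_u, mul_zero]

lemma dA_Lc (c : Fin n → k) : dA a (Lc a c) = c := by
  rw [Lc_apply, map_sum]
  ext j
  rw [Finset.sum_apply, Finset.sum_eq_single j]
  · rw [map_smul, dA_u, Pi.smul_apply, Pi.single_eq_same, smul_eq_mul, mul_one]
  · intro i _ hne
    rw [map_smul, dA_u, Pi.smul_apply, Pi.single_eq_of_ne (Ne.symm hne), smul_zero]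
  · intro h; exact absurd (Finset.mem_univ j) h

lemma Lc_mem (c : Fin n → k) : Lc a c ∈ RingHom.ker (eval a) := by
  rw [RingHom.mem_ker]; exact eval_Lc a c

/-- The ideal of polynomials vanishing to second order at `a`. -/
noncomputable def Q : Ideal (MvPolynomial (Fin n) k) where
  carrier := {g | eval a g = 0 ∧ dA a g = 0}
  zero_mem' := ⟨map_zero _, map_zero _⟩
  add_mem' := by
    rintro g h ⟨hg, hg'⟩ ⟨hh, hh'⟩
    exact ⟨by rw [map_add, hg, hh, add_zero], by rw [map_add, hg', hh', add_zero]⟩
  smul_mem' := by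
    rintro c g ⟨hg, hg'⟩
    refine ⟨by rw [smul_eq_mul, map_mul, hg, mul_zero], ?_⟩
    rw [smul_eq_mul, dA_mul, hg, hg', smul_zero, zero_smul, add_zero]

lemma mem_Q {g : MvPolynomial (Fin n) k} : g ∈ Q a ↔ eval a g = 0 ∧ dA a g = 0 := Iff.rfl

lemma sq_le_Q : RingHom.ker (eval a) ^ 2 ≤ Q a := by
  rw [pow_two, Ideal.mul_le]
  intro g hg h hh
  rw [RingHom.mem_ker] at hg hh
  refine ⟨by rw [map_mul, hg, zero_mul], ?_⟩
  rw [dA_mul, hg, hh, zero_smul, zero_smul, add_zero]

/-- zeroth-order Taylor expansion -/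
lemma sub_C_mem_span (g : MvPolynomial (Fin n) k) :
    g - C (eval a g) ∈ Ideal.span (Set.range (u a)) := by
  induction g using MvPolynomial.induction_on with
  | C c => rw [eval_C, sub_self]; exact Ideal.zero_mem _
  | add p q hp hq =>
    have : p + q - C (eval a (p + q)) = (p - C (eval a p)) + (q - C (eval a q)) := by
      rw [map_add, map_add]; ring
    rw [this]
    exact Ideal.add_mem _ hp hq
  | mul_X p i hp =>
    have : p * X i - C (eval a (p * X i)) = p * u a i + C (a i) * (p - C (eval a p)) := by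
      rw [map_mul, eval_X, map_mul, u]; ring
    rw [this]
    exact Ideal.add_mem _ (Ideal.mul_mem_left _ _ (Ideal.subset_span ⟨i, rfl⟩))
      (Ideal.mul_mem_left _ _ hp)

lemma ker_eval_eq_span : RingHom.ker (eval a) = Ideal.span (Set.range (u a)) := by
  apply le_antisymm
  · intro g hg
    rw [RingHom.mem_ker] at hg
    have h := sub_C_mem_span a g
    rwa [hg, map_zero, sub_zero] at h
  · rw [Ideal.span_le]
    rintro _ ⟨j, rfl⟩
    exact u_mem a j

lemma sub_C_mem_ker (g : MvPolynomial (Fin n) k) : g - C (eval a g) ∈ RingHom.ker (eval a) := by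
  rw [RingHom.mem_ker, map_sub, eval_C, sub_self]

/-- The first-order Taylor remainder. -/
noncomputable def T (g : MvPolynomial (Fin n) k) : MvPolynomial (Fin n) k :=
  g - C (eval a g) - Lc a (dA a g)

/-- first-order Taylor expansion -/
lemma T_mem_sq (g : MvPolynomial (Fin n) k) : T a g ∈ RingHom.ker (eval a) ^ 2 := by
  induction g using MvPolynomial.induction_on with
  | C c =>
    have : T a (C c) = 0 := by rw [T, eval_C, dA_C, map_zero, sub_self, sub_zero]
    rw [this]; exact Ideal.zero_mem _
  | add p q hp hq =>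
    have : T a (p + q) = T a p + T a q := by
      simp only [T, map_add]; ring
    rw [this]
    exact Ideal.add_mem _ hp hq
  | mul_X p i hp =>
    have : T a (p * X i) = C (a i) * T a p + (p - C (eval a p)) * u a i := by
      simp only [T, dA_mul, map_add, map_smul, dA_X, Lc, Fintype.linearCombination_apply_single,
        one_smul, map_mul, eval_X, smul_eq_C_mul, u]
      ring
    rw [this]
    refine Ideal.add_mem _ (Ideal.mul_mem_left _ _ hp) ?_
    rw [pow_two]
    exact Ideal.mul_mem_mul (sub_C_mem_ker a p) (u_mem a i)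

lemma mem_sq_of_eval_dA {g : MvPolynomial (Fin n) k} (h0 : eval a g = 0) (h1 : dA a g = 0) :
    g ∈ RingHom.ker (eval a) ^ 2 := by
  have h := T_mem_sq a g
  rwa [T, h0, h1, map_zero, map_zero, sub_zero, sub_zero] at h

section Jac

variable {r : ℕ} (F : Fin r → MvPolynomial (Fin n) k)

lemma dA_mem_of_mem_span (hF : ∀ i, eval a (F i) = 0) {g : MvPolynomial (Fin n) k}
    (hg : g ∈ Ideal.span (Set.range F)) :
    eval a g = 0 ∧ dA a g ∈ Submodule.span k (Set.range fun i => dA a (F i)) := by
  induction hg using Submodule.span_induction with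
  | mem x hx =>
    obtain ⟨i, rfl⟩ := hx
    exact ⟨hF i, Submodule.subset_span ⟨i, rfl⟩⟩
  | zero => exact ⟨map_zero _, by rw [map_zero]; exact Submodule.zero_mem _⟩
  | add x y _ _ hx hy =>
    exact ⟨by rw [map_add, hx.1, hy.1, add_zero], by rw [map_add]; exact Submodule.add_mem _ hx.2 hy.2⟩
  | smul c x _ hx =>
    refine ⟨by rw [smul_eq_mul, map_mul, hx.1, mul_zero], ?_⟩
    rw [smul_eq_mul, dA_mul, hx.1, zero_smul, add_zero]
    exact Submodule.smul_mem _ _ hx.2

/-- Membership in `𝔪_a² + I` is detected by the value and the differential at `a`. -/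
theorem mem_sq_sup_iff (hF : ∀ i, eval a (F i) = 0) (g : MvPolynomial (Fin n) k) :
    g ∈ RingHom.ker (eval a) ^ 2 ⊔ Ideal.span (Set.range F) ↔
      eval a g = 0 ∧ dA a g ∈ Submodule.span k (Set.range fun i => dA a (F i)) := by
  constructor
  · intro hg
    obtain ⟨h, hh, f, hf, rfl⟩ := Submodule.mem_sup.1 hg
    have h1 := sq_le_Q a hh
    have h2 := dA_mem_of_mem_span a F hF hf
    refine ⟨by rw [map_add, h1.1, h2.1, add_zero], ?_⟩
    rw [map_add, h1.2, zero_add]
    exact h2.2
  · rintro ⟨h0, h1⟩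
    obtain ⟨c, hc⟩ := (Submodule.mem_span_range_iff_exists_fun k).1 h1
    have hg' : ∑ i, c i • F i ∈ Ideal.span (Set.range F) :=
      Ideal.sum_mem _ (fun i _ => Submodule.smul_of_tower_mem _ _ (Ideal.subset_span ⟨i, rfl⟩))
    have h2 : g - ∑ i, c i • F i ∈ RingHom.ker (eval a) ^ 2 := by
      apply mem_sq_of_eval_dA
      · rw [map_sub, h0, (dA_mem_of_mem_span a F hF hg').1, sub_zero]
      · rw [map_sub, map_sum, ← hc, sub_eq_zero]
        exact Finset.sum_congr rfl (fun i _ => (map_smul _ _ _).symm)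
    have h3 : g = (g - ∑ i, c i • F i) + ∑ i, c i • F i := by ring
    rw [h3]
    exact Submodule.add_mem_sup h2 hg'

end Jac

end Groth.Agent.Helper17.JC
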