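import Mathlib

/-!
# Dimension of the cotangent space of a local algebra with residue field the base field
-/

set_option autoImplicit false

universe u

namespace Groth.Agent.Helper17.JC

open IsLocalRing

theorem finrank_cotangentSpace_add (k : Type u) [Field k] (A : Type u) [CommRing A] [IsLocalRing A]
    [IsNoetherianRing A] [Algebra k A]
    (hres : Function.Surjective (algebraMap k (ResidueField A)))
    {n : ℕ} (v : Fin n → A) (hv : ∀ j, v j ∈ maximalIdeal A)
    (hspan : Ideal.span (Set.range v) = maximalIdeal A)
    (W : Submodule k (Fin n → k))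
    (hW : ∀ c : Fin n → k, (∑ j, algebraMap k A (c j) * v j) ∈ maximalIdeal A ^ 2 ↔ c ∈ W) :
    Module.finrank (ResidueField A) (CotangentSpace A) + Module.finrank k W = n := by
  classical
  have : IsScalarTower k (ResidueField A) (CotangentSpace A) :=
    IsScalarTower.of_algebraMap_smul (fun c x => by
      show (residue A (algebraMap k A c)) • x = c • x
      rw [← algebraMap_smul A c x]
      exact algebraMap_smul (ResidueField A) (algebraMap k A c) x)
  have hbij : Function.Bijective (algebraMap k (ResidueField A)) :=
    ⟨(algebraMap k (ResidueField A)).injective, hres⟩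
  have h1 : Module.finrank k (ResidueField A) = 1 := by
    rw [← (LinearEquiv.ofBijective (Algebra.linearMap k (ResidueField A)) hbij).finrank_eq,
      Module.finrank_self]
  have h2 : Module.finrank k (CotangentSpace A) =
      Module.finrank (ResidueField A) (CotangentSpace A) := by
    rw [← Module.finrank_mul_finrank k (ResidueField A) (CotangentSpace A), h1, one_mul]
  have mem : ∀ c : Fin n → k, (∑ j, algebraMap k A (c j) * v j) ∈ maximalIdeal A :=
    fun c => Ideal.sum_mem _ (fun j _ => Ideal.mul_mem_left _ _ (hv j))
  let w : Fin n → CotangentSpace A := fun j => (maximalIdeal A).toCotangent ⟨v j, hv j⟩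
  let Ψ : (Fin n → k) →ₗ[k] CotangentSpace A := Fintype.linearCombination k w
  have hΨ : ∀ c, Ψ c = (maximalIdeal A).toCotangent ⟨∑ j, algebraMap k A (c j) * v j, mem c⟩ := by
    intro c
    show Fintype.linearCombination k w c = _
    rw [Fintype.linearCombination_apply]
    have h3 : (⟨∑ j, algebraMap k A (c j) * v j, mem c⟩ : maximalIdeal A) =
        ∑ j, algebraMap k A (c j) • (⟨v j, hv j⟩ : maximalIdeal A) := by
      apply Subtype.ext
      rw [Submodule.coe_sum]
      rfl
    rw [h3, map_sum]
    refine Finset.sum_congr rfl (fun j _ => ?_)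
    rw [map_smul, algebraMap_smul]
  have hker : LinearMap.ker Ψ = W := by
    ext c
    rw [LinearMap.mem_ker, hΨ, Ideal.toCotangent_eq_zero]
    exact hW c
  have hs : Submodule.span A (Set.range fun j => (⟨v j, hv j⟩ : maximalIdeal A)) = ⊤ := by
    rw [eq_top_iff]
    rintro ⟨x, hx⟩ -
    have hx' : x ∈ Ideal.span (Set.range v) := by rw [hspan]; exact hx
    obtain ⟨c, hc⟩ := Ideal.mem_span_range_iff_exists_fun.1 hx'
    have h4 : (⟨x, hx⟩ : maximalIdeal A) = ∑ j, c j • (⟨v j, hv j⟩ : maximalIdeal A) := by
      apply Subtype.ext
      rw [Submodule.coe_sum]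
      exact hc.symm
    rw [h4]
    exact Submodule.sum_mem _ (fun j _ => Submodule.smul_mem _ _ (Submodule.subset_span ⟨j, rfl⟩))
  have hrange : LinearMap.range Ψ = ⊤ := by
    show LinearMap.range (Fintype.linearCombination k w) = ⊤
    rw [Fintype.range_linearCombination]
    have h5 : Set.range w = (maximalIdeal A).toCotangent ''
        (Set.range fun j => (⟨v j, hv j⟩ : maximalIdeal A)) := by
      rw [← Set.range_comp]; rfl
    have h6 := (CotangentSpace.span_image_eq_top_iff (R := A)).2 hs
    rw [← h5] at h6
    rw [← Submodule.restrictScalars_span k (ResidueField A) hres (Set.range w), h6,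
      Submodule.restrictScalars_top]
  have hfin := LinearMap.finrank_range_add_finrank_ker Ψ
  rw [hrange, finrank_top, hker, Module.finrank_fin_fun, h2] at hfin
  exact hfin

end Groth.Agent.Helper17.JC
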