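import Mathlib
import Groth.Agent.Lib.Helper17.JC1
import Groth.Agent.Lib.Helper17.JC2

/-!
# The Jacobian criterion at a rational point
-/

set_option autoImplicit false

universe u

namespace Groth.Agent.Helper17.JC

open MvPolynomial IsLocalRing

lemma exists_eq_natCast' {x : WithBot ℕ∞} (h0 : x ≠ ⊥) (h1 : x < ⊤) : ∃ n : ℕ, x = n := by
  obtain ⟨d, hd⟩ := WithBot.ne_bot_iff_exists.1 h0
  have hdtop : d ≠ ⊤ := by
    rintro rfl
    rw [← hd] at h1
    exact absurd h1 (by simp)
  obtain ⟨m, hm⟩ := ENat.ne_top_iff_exists.1 hdtop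
  exact ⟨m, by rw [← hd, ← hm]; rfl⟩

section

variable (k : Type u) [Field k] (n r : ℕ) (F : Fin r → MvPolynomial (Fin n) k) (a : Fin n → k)
    (𝔪 : Ideal (MvPolynomial (Fin n) k ⧸ Ideal.span (Set.range F))) [𝔪.IsMaximal]
    (h𝔪 : 𝔪.comap (Ideal.Quotient.mk (Ideal.span (Set.range F))) =
      RingHom.ker (MvPolynomial.eval a))

include h𝔪

omit [𝔪.IsMaximal] in
lemma eval_F (i : Fin r) : eval a (F i) = 0 := by
  rw [← RingHom.mem_ker, ← h𝔪, Ideal.mem_comap]
  have h : Ideal.Quotient.mk (Ideal.span (Set.range F)) (F i) = 0 :=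
    Ideal.Quotient.eq_zero_iff_mem.2 (Ideal.subset_span ⟨i, rfl⟩)
  rw [h]
  exact 𝔪.zero_mem

omit [𝔪.IsMaximal] in
lemma mk_mem_iff (g : MvPolynomial (Fin n) k) :
    Ideal.Quotient.mk (Ideal.span (Set.range F)) g ∈ 𝔪 ↔ eval a g = 0 := by
  rw [← RingHom.mem_ker, ← h𝔪, Ideal.mem_comap]

lemma ι_mem_iff (g : MvPolynomial (Fin n) k) :
    algebraMap _ (Localization.AtPrime 𝔪) (Ideal.Quotient.mk (Ideal.span (Set.range F)) g) ∈
      maximalIdeal (Localization.AtPrime 𝔪) ↔ eval a g = 0 := by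
  rw [IsLocalization.AtPrime.to_map_mem_maximal_iff (Localization.AtPrime 𝔪) 𝔪]
  exact mk_mem_iff k n r F a 𝔪 h𝔪 g

lemma residue_surjective' :
    Function.Surjective (algebraMap k (ResidueField (Localization.AtPrime 𝔪))) := by
  intro y
  obtain ⟨x, rfl⟩ :=
    (IsLocalization.AtPrime.equivQuotMaximalIdeal 𝔪 (Localization.AtPrime 𝔪)).surjective y
  obtain ⟨b, rfl⟩ := Ideal.Quotient.mk_surjective x
  obtain ⟨g, rfl⟩ := Ideal.Quotient.mk_surjective b
  refine ⟨eval a g, ?_⟩
  rw [IsLocalization.AtPrime.equivQuotMaximalIdeal_apply_mk]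
  symm
  show Ideal.Quotient.mk (maximalIdeal (Localization.AtPrime 𝔪))
      (algebraMap _ (Localization.AtPrime 𝔪) (Ideal.Quotient.mk (Ideal.span (Set.range F)) g)) =
    Ideal.Quotient.mk (maximalIdeal (Localization.AtPrime 𝔪))
      (algebraMap _ (Localization.AtPrime 𝔪)
        (Ideal.Quotient.mk (Ideal.span (Set.range F)) (C (eval a g))))
  rw [Ideal.Quotient.eq]
  have h : algebraMap _ (Localization.AtPrime 𝔪)
        (Ideal.Quotient.mk (Ideal.span (Set.range F)) g) -
      algebraMap _ (Localization.AtPrime 𝔪)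
        (Ideal.Quotient.mk (Ideal.span (Set.range F)) (C (eval a g))) =
      algebraMap _ (Localization.AtPrime 𝔪)
        (Ideal.Quotient.mk (Ideal.span (Set.range F)) (g - C (eval a g))) := by
    rw [map_sub, map_sub]
  rw [h, ι_mem_iff k n r F a 𝔪 h𝔪, map_sub, eval_C, sub_self]

lemma span_eq :
    Ideal.span (Set.range fun j => algebraMap _ (Localization.AtPrime 𝔪)
      (Ideal.Quotient.mk (Ideal.span (Set.range F)) (u a j))) =
      maximalIdeal (Localization.AtPrime 𝔪) := by
  have h1 : 𝔪 = Ideal.map (Ideal.Quotient.mk (Ideal.span (Set.range F)))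
      (RingHom.ker (eval a)) := by
    rw [← h𝔪, Ideal.map_comap_of_surjective _ Ideal.Quotient.mk_surjective]
  symm
  calc maximalIdeal (Localization.AtPrime 𝔪)
      = Ideal.map (algebraMap _ (Localization.AtPrime 𝔪)) 𝔪 :=
        (Localization.AtPrime.map_eq_maximalIdeal).symm
    _ = Ideal.map (algebraMap _ (Localization.AtPrime 𝔪))
          (Ideal.map (Ideal.Quotient.mk (Ideal.span (Set.range F))) (RingHom.ker (eval a))) :=
        congrArg (Ideal.map (algebraMap _ (Localization.AtPrime 𝔪))) h1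
    _ = Ideal.map ((algebraMap _ (Localization.AtPrime 𝔪)).comp
          (Ideal.Quotient.mk (Ideal.span (Set.range F)))) (RingHom.ker (eval a)) :=
        Ideal.map_map _ _
    _ = Ideal.map ((algebraMap _ (Localization.AtPrime 𝔪)).comp
          (Ideal.Quotient.mk (Ideal.span (Set.range F)))) (Ideal.span (Set.range (u a))) := by
        rw [ker_eval_eq_span]
    _ = Ideal.span (((algebraMap _ (Localization.AtPrime 𝔪)).comp
          (Ideal.Quotient.mk (Ideal.span (Set.range F)))) '' (Set.range (u a))) :=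
        Ideal.map_span _ _
    _ = _ := by rw [← Set.range_comp]; rfl

lemma mem_sq_iff (c : Fin n → k) :
    (∑ j, algebraMap k (Localization.AtPrime 𝔪) (c j) *
      algebraMap _ (Localization.AtPrime 𝔪)
        (Ideal.Quotient.mk (Ideal.span (Set.range F)) (u a j))) ∈
      maximalIdeal (Localization.AtPrime 𝔪) ^ 2 ↔
    c ∈ Submodule.span k (Set.range fun i => dA a (F i)) := by
  have h0 : (∑ j, algebraMap k (Localization.AtPrime 𝔪) (c j) *
      algebraMap _ (Localization.AtPrime 𝔪)
        (Ideal.Quotient.mk (Ideal.span (Set.range F)) (u a j))) =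
      algebraMap _ (Localization.AtPrime 𝔪)
        (Ideal.Quotient.mk (Ideal.span (Set.range F)) (Lc a c)) := by
    rw [Lc_apply, map_sum, map_sum]
    refine Finset.sum_congr rfl (fun j _ => ?_)
    rw [smul_eq_C_mul, map_mul, map_mul]
    rfl
  rw [h0]
  have h1 : algebraMap _ (Localization.AtPrime 𝔪)
        (Ideal.Quotient.mk (Ideal.span (Set.range F)) (Lc a c)) ∈
      maximalIdeal (Localization.AtPrime 𝔪) ^ 2 ↔
      Ideal.Quotient.mk (Ideal.span (Set.range F)) (Lc a c) ∈ 𝔪 ^ 2 := by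
    rw [← IsLocalization.AtPrime.under_maximalIdeal_pow 𝔪 (Localization.AtPrime 𝔪) 2]
    rfl
  rw [h1]
  have h2 : 𝔪 ^ 2 = Ideal.map (Ideal.Quotient.mk (Ideal.span (Set.range F)))
      (RingHom.ker (eval a) ^ 2) := by
    rw [Ideal.map_pow, ← h𝔪, Ideal.map_comap_of_surjective _ Ideal.Quotient.mk_surjective]
  have h3 : Ideal.Quotient.mk (Ideal.span (Set.range F)) (Lc a c) ∈ 𝔪 ^ 2 ↔
      Lc a c ∈ RingHom.ker (eval a) ^ 2 ⊔ Ideal.span (Set.range F) := by
    rw [h2, ← Ideal.mem_comap, Ideal.comap_map_of_surjective _ Ideal.Quotient.mk_surjective,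
      ← RingHom.ker_eq_comap_bot, Ideal.mk_ker]
  rw [h3, mem_sq_sup_iff a F (eval_F k n r F a 𝔪 h𝔪), dA_Lc]
  exact ⟨fun h => h.2, fun h => ⟨eval_Lc a c, h⟩⟩

theorem main11563 :
    Module.finrank (IsLocalRing.ResidueField (Localization.AtPrime 𝔪))
        (IsLocalRing.CotangentSpace (Localization.AtPrime 𝔪)) +
      (Matrix.of fun i j => MvPolynomial.eval a (MvPolynomial.pderiv j (F i))).rank = n := by
  have hG := finrank_cotangentSpace_add k (Localization.AtPrime 𝔪)
    (residue_surjective' k n r F a 𝔪 h𝔪)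
    (fun j => algebraMap _ (Localization.AtPrime 𝔪)
      (Ideal.Quotient.mk (Ideal.span (Set.range F)) (u a j)))
    (fun j => (ι_mem_iff k n r F a 𝔪 h𝔪 (u a j)).2 (eval_u a j))
    (span_eq k n r F a 𝔪 h𝔪)
    (Submodule.span k (Set.range fun i => dA a (F i)))
    (mem_sq_iff k n r F a 𝔪 h𝔪)
  rw [Matrix.rank_eq_finrank_span_row]
  exact hG

theorem main11554 :
    IsRegularLocalRing (Localization.AtPrime 𝔪) ↔
      ((Matrix.of fun i j => MvPolynomial.eval a (MvPolynomial.pderiv j (F i))).rank : WithBot ℕ∞) +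
        ringKrullDim (Localization.AtPrime 𝔪) = n := by
  have h := main11563 k n r F a 𝔪 h𝔪
  rw [IsRegularLocalRing.iff_finrank_cotangentSpace]
  obtain ⟨m, hm⟩ : ∃ m : ℕ, ringKrullDim (Localization.AtPrime 𝔪) = m := by
    apply exists_eq_natCast'
    · intro h'
      have h0 : (0 : WithBot ℕ∞) ≤ ringKrullDim (Localization.AtPrime 𝔪) :=
        ringKrullDim_nonneg_of_nontrivial
      rw [h'] at h0
      exact absurd h0 (by simp)
    · have : FiniteRingKrullDim (Localization.AtPrime 𝔪) :=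
        @instFiniteRingKrullDimOfIsLocalRing (Localization.AtPrime 𝔪) _ _ _
      exact ringKrullDim_lt_top
  rw [hm]
  constructor
  · intro h1
    have h1' : Module.finrank (IsLocalRing.ResidueField (Localization.AtPrime 𝔪))
        (IsLocalRing.CotangentSpace (Localization.AtPrime 𝔪)) = m := by exact_mod_cast h1
    have h2 : (Matrix.of fun i j => MvPolynomial.eval a (MvPolynomial.pderiv j (F i))).rank + m
        = n := by omega
    exact_mod_cast h2
  · intro h1
    have h1' : (Matrix.of fun i j => MvPolynomial.eval a (MvPolynomial.pderiv j (F i))).rank + m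
        = n := by exact_mod_cast h1
    have h2 : Module.finrank (IsLocalRing.ResidueField (Localization.AtPrime 𝔪))
        (IsLocalRing.CotangentSpace (Localization.AtPrime 𝔪)) = m := by omega
    exact_mod_cast h2

end

end Groth.Agent.Helper17.JC
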