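import Mathlib
set_option autoImplicit false
universe u
open Polynomial

namespace Groth.Agent.Helper17.JI

section generic
variable {F : Type*} [Field F]

/-- the j-function expression -/
def J (x : F) : F := 256 * (x ^ 2 - x + 1) ^ 3 / (x ^ 2 * (x - 1) ^ 2)

lemma J_inv (x : F) (hx : x ≠ 0) (hx1 : x - 1 ≠ 0) : J x⁻¹ = J x := by
  have h1 : x⁻¹ - 1 ≠ 0 := by
    intro h
    apply hx1
    have h' : x⁻¹ = 1 := sub_eq_zero.mp h
    rw [inv_eq_one] at h'
    rw [h', sub_self]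
  have h1' : 1 - x ≠ 0 := by
    intro h
    apply hx1
    rw [← neg_sub, h, neg_zero]
  unfold J
  field_simp
  ring

lemma J_one_sub (x : F) : J (1 - x) = J x := by
  unfold J
  congr 1 <;> ring

lemma map_J {F' : Type*} [Field F'] (φ : F →+* F') (x : F) : φ (J x) = J (φ x) := by
  unfold J
  simp only [map_div₀, map_mul, map_pow, map_sub, map_add, map_one, map_ofNat]

lemma J_mem (k : Type*) [Field k] [Algebra k F] (x : F) :
    J x ∈ Algebra.adjoin k ({x, x⁻¹, (x - 1)⁻¹} : Set F) := by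
  have hx : x ∈ Algebra.adjoin k ({x, x⁻¹, (x - 1)⁻¹} : Set F) :=
    Algebra.subset_adjoin (by simp)
  have hxi : x⁻¹ ∈ Algebra.adjoin k ({x, x⁻¹, (x - 1)⁻¹} : Set F) :=
    Algebra.subset_adjoin (by simp)
  have hx1 : (x - 1)⁻¹ ∈ Algebra.adjoin k ({x, x⁻¹, (x - 1)⁻¹} : Set F) :=
    Algebra.subset_adjoin (by simp)
  have h : J x = 256 * (x ^ 2 - x + 1) ^ 3 * ((x⁻¹) ^ 2 * ((x - 1)⁻¹) ^ 2) := by
    unfold J; rw [div_eq_mul_inv, mul_inv, inv_pow, inv_pow]
  rw [h]
  have h256 : (256 : F) ∈ Algebra.adjoin k ({x, x⁻¹, (x - 1)⁻¹} : Set F) := ofNat_mem _ 256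
  exact mul_mem (mul_mem h256 (pow_mem (add_mem (sub_mem (pow_mem hx 2) hx) (one_mem _)) 3))
    (mul_mem (pow_mem hxi 2) (pow_mem hx1 2))

lemma fixed_of_mem_adjoin {k : Type*} [Field k] [Algebra k F] (σ : F ≃ₐ[k] F) (j : F)
    (hj : σ j = j) {b : F} (hb : b ∈ Algebra.adjoin k ({j} : Set F)) : σ b = b := by
  induction hb using Algebra.adjoin_induction with
  | mem x hx => rw [Set.mem_singleton_iff] at hx; rw [hx, hj]
  | algebraMap r => exact σ.commutes r
  | add x y _ _ hx hy => rw [map_add, hx, hy]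
  | mul x y _ _ hx hy => rw [map_mul, hx, hy]

end generic

section lift
variable {k : Type*} [Field k] {L : Type*} [Field L] [Algebra k L]

/-- view a `k`-automorphism fixing `E` pointwise as an `E`-automorphism -/
def liftE (E : IntermediateField k L) (g : L ≃ₐ[k] L) (hg : ∀ e ∈ E, g e = e) : L ≃ₐ[E] L :=
  AlgEquiv.ofRingEquiv (f := g.toRingEquiv) (fun x => hg x x.2)

@[simp] lemma liftE_apply (E : IntermediateField k L) (g : L ≃ₐ[k] L) (hg : ∀ e ∈ E, g e = e)
    (x : L) : liftE E g hg x = g x := rfl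
end lift

section ratfunc
variable {k : Type u} [Field k]

lemma X_sub_one_ne_zero : (RatFunc.X : RatFunc k) - 1 ≠ 0 := by
  have h : (RatFunc.X : RatFunc k) - 1 = algebraMap k[X] (RatFunc k) (X - 1) := by
    rw [map_sub, map_one, RatFunc.algebraMap_X]
  rw [h]
  refine (map_ne_zero_iff _ (IsFractionRing.injective k[X] (RatFunc k))).mpr ?_
  exact X_sub_C_ne_zero (1 : k)

lemma one_sub_X_ne_zero : 1 - (RatFunc.X : RatFunc k) ≠ 0 := by
  intro h
  apply X_sub_one_ne_zero (k := k)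
  rw [← neg_sub, h, neg_zero]

lemma dX1 : ((RatFunc.X : RatFunc k) - 1).intDegree = 1 := by
  have h : (RatFunc.X : RatFunc k) - 1 = algebraMap k[X] (RatFunc k) (X - 1) := by
    rw [map_sub, map_one, RatFunc.algebraMap_X]
  have h' : (X - 1 : k[X]).natDegree = 1 := by compute_degree!
  rw [h, RatFunc.intDegree_polynomial, h']; rfl

lemma d1X : (1 - (RatFunc.X : RatFunc k)).intDegree = 1 := by
  rw [← neg_sub, RatFunc.intDegree_neg, dX1]

lemma dXinv : ((RatFunc.X : RatFunc k)⁻¹).intDegree = -1 := by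
  rw [RatFunc.intDegree_inv, RatFunc.intDegree_X]

lemma d1Xinv : ((1 - (RatFunc.X : RatFunc k))⁻¹).intDegree = -1 := by
  rw [RatFunc.intDegree_inv, d1X]

lemma Y_eq : (1 - (RatFunc.X : RatFunc k)⁻¹) = (RatFunc.X - 1) * (RatFunc.X)⁻¹ := by
  rw [sub_mul, one_mul, mul_inv_cancel₀ RatFunc.X_ne_zero]

lemma dY : (1 - (RatFunc.X : RatFunc k)⁻¹).intDegree = 0 := by
  rw [Y_eq, RatFunc.intDegree_mul X_sub_one_ne_zero (inv_ne_zero RatFunc.X_ne_zero),
    dXinv, dX1]; norm_num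

lemma dYinv : ((1 - (RatFunc.X : RatFunc k)⁻¹)⁻¹).intDegree = 0 := by
  rw [RatFunc.intDegree_inv, dY, neg_zero]

end ratfunc

end Groth.Agent.Helper17.JI
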