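import Mathlib
import Groth.Agent.Lib.Helper17.JI1
set_option autoImplicit false
universe u
open Polynomial

namespace Groth.Agent.Helper17.JI

variable {k : Type u} [Field k]

theorem six_le_finrank (σ τ : RatFunc k ≃ₐ[k] RatFunc k)
    (hσ : σ RatFunc.X = (RatFunc.X : RatFunc k)⁻¹)
    (hτ : τ RatFunc.X = 1 - (RatFunc.X : RatFunc k))
    (E : IntermediateField k (RatFunc k)) [FiniteDimensional E (RatFunc k)]
    (hσE : ∀ e ∈ E, σ e = e) (hτE : ∀ e ∈ E, τ e = e) : 6 ≤ Module.finrank E (RatFunc k) := by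
  classical
  have h1 : ∀ e ∈ E, (1 : RatFunc k ≃ₐ[k] RatFunc k) e = e := fun e _ => rfl
  have hστ : ∀ e ∈ E, (σ * τ) e = e := fun e he => by
    rw [AlgEquiv.mul_apply, hτE e he, hσE e he]
  have hτσ : ∀ e ∈ E, (τ * σ) e = e := fun e he => by
    rw [AlgEquiv.mul_apply, hσE e he, hτE e he]
  have hστσ : ∀ e ∈ E, (σ * τ * σ) e = e := fun e he => by
    rw [AlgEquiv.mul_apply, hσE e he, hστ e he]
  let f : Fin 6 → (RatFunc k ≃ₐ[E] RatFunc k) :=
    ![liftE E 1 h1, liftE E σ hσE, liftE E τ hτE, liftE E (σ * τ) hστ, liftE E (τ * σ) hτσ,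
      liftE E (σ * τ * σ) hστσ]
  let inv : (RatFunc k ≃ₐ[E] RatFunc k) → ℤ × ℤ :=
    fun g => ((g RatFunc.X).intDegree, (σ (g RatFunc.X)).intDegree)
  have hcomp : inv ∘ f = ![(1, -1), (-1, 1), (1, 0), (0, 1), (-1, 0), (0, -1)] := by
    funext i
    fin_cases i <;>
    simp [f, inv, AlgEquiv.mul_apply, hσ, hτ, d1X, dY, RatFunc.intDegree_X]
  have hinj : Function.Injective (inv ∘ f) := by
    rw [hcomp]
    decide
  have hf : Function.Injective f := Function.Injective.of_comp hinj
  calc 6 = Fintype.card (Fin 6) := (Fintype.card_fin 6).symm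
    _ ≤ Fintype.card (RatFunc k ≃ₐ[E] RatFunc k) := Fintype.card_le_of_injective f hf
    _ ≤ Module.finrank E (RatFunc k) := AlgEquiv.card_le

end Groth.Agent.Helper17.JI

namespace Groth.Agent.Helper17.JI

variable {k : Type u} [Field k]

/-- numerator polynomial of `j` -/
noncomputable def pJ (k : Type u) [Field k] : k[X] := (256 : k[X]) * (X ^ 2 - X + 1) ^ 3
/-- denominator polynomial of `j` -/
noncomputable def qJ (k : Type u) [Field k] : k[X] := (X : k[X]) ^ 2 * (X - 1) ^ 2

lemma natDegree_pJ (h2 : (2 : k) ≠ 0) : (pJ k).natDegree = 6 := by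
  have h256 : (256 : k) ≠ 0 := by
    have : (256 : k) = 2 ^ 8 := by norm_num
    rw [this]; exact pow_ne_zero _ h2
  unfold pJ
  compute_degree!

lemma natDegree_qJ_le : (qJ k).natDegree ≤ 4 := by
  unfold qJ
  compute_degree

lemma qJ_ne_zero : qJ k ≠ 0 :=
  mul_ne_zero (pow_ne_zero _ X_ne_zero) (pow_ne_zero _ (X_sub_C_ne_zero (1 : k)))

lemma J_eq_div : J (RatFunc.X : RatFunc k) =
    algebraMap k[X] (RatFunc k) (pJ k) / algebraMap k[X] (RatFunc k) (qJ k) := by
  unfold J pJ qJ
  simp [map_ofNat]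

lemma J_not_const (h2 : (2 : k) ≠ 0) : ¬ ∃ c : k, J (RatFunc.X : RatFunc k) = RatFunc.C c := by
  rintro ⟨c, hc⟩
  rw [J_eq_div, div_eq_iff ((map_ne_zero_iff _ (IsFractionRing.injective k[X] (RatFunc k))).mpr
    qJ_ne_zero), ← RatFunc.algebraMap_C, ← map_mul] at hc
  have h := IsFractionRing.injective k[X] (RatFunc k) hc
  have h6 := natDegree_pJ h2
  rw [h] at h6
  have := (natDegree_C_mul_le c (qJ k)).trans natDegree_qJ_le
  omega

lemma finrank_J (h2 : (2 : k) ≠ 0) :
    Module.finrank (IntermediateField.adjoin k {J (RatFunc.X : RatFunc k)}) (RatFunc k) ≤ 6 ∧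
    0 < Module.finrank (IntermediateField.adjoin k {J (RatFunc.X : RatFunc k)}) (RatFunc k) := by
  have hp0 : pJ k ≠ 0 := by
    intro h
    have := natDegree_pJ h2
    rw [h] at this
    simp at this
  rw [RatFunc.finrank_eq_max_natDegree]
  constructor
  · rw [J_eq_div]
    have h1 := natDegree_le_of_dvd (RatFunc.num_div_dvd (pJ k) (qJ_ne_zero (k := k))) hp0
    have h2' := natDegree_le_of_dvd (RatFunc.denom_div_dvd (pJ k) (qJ k)) (qJ_ne_zero (k := k))
    rw [natDegree_pJ h2] at h1
    have := natDegree_qJ_le (k := k)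
    exact max_le h1 (by omega)
  · by_contra h0
    have h0' : max (J (RatFunc.X : RatFunc k)).num.natDegree
        (J (RatFunc.X : RatFunc k)).denom.natDegree = 0 := by omega
    rw [Nat.max_eq_zero_iff, ← RatFunc.eq_C_iff] at h0'
    exact J_not_const h2 h0'

theorem stepA (h2 : (2 : k) ≠ 0) (σ τ : RatFunc k ≃ₐ[k] RatFunc k)
    (hσ : σ RatFunc.X = (RatFunc.X : RatFunc k)⁻¹)
    (hτ : τ RatFunc.X = 1 - (RatFunc.X : RatFunc k)) (b : RatFunc k)
    (hbσ : σ b = b) (hbτ : τ b = b) :
    b ∈ IntermediateField.adjoin k {J (RatFunc.X : RatFunc k)} := by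
  classical
  let H : Subgroup (RatFunc k ≃ₐ[k] RatFunc k) := Subgroup.closure {σ, τ}
  let E : IntermediateField k (RatFunc k) := IntermediateField.fixedField H
  let A : IntermediateField k (RatFunc k) :=
    IntermediateField.adjoin k {J (RatFunc.X : RatFunc k)}
  have hfix : ∀ x : RatFunc k, σ x = x → τ x = x → x ∈ E := by
    intro x hx1 hx2
    rw [IntermediateField.mem_fixedField_iff]
    intro g hg
    induction hg using Subgroup.closure_induction with
    | mem g hg =>
      rcases hg with rfl | hg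
      · exact hx1
      · rw [Set.mem_singleton_iff] at hg; rw [hg]; exact hx2
    | one => rfl
    | mul g h _ _ hg hh => rw [AlgEquiv.mul_apply, hh, hg]
    | inv g _ hg =>
      have : g⁻¹ (g x) = x := AlgEquiv.symm_apply_apply g x
      rw [hg] at this
      exact this
  have hσE : ∀ e ∈ E, σ e = e := fun e he =>
    (IntermediateField.mem_fixedField_iff H e).mp he σ (Subgroup.subset_closure (by simp))
  have hτE : ∀ e ∈ E, τ e = e := fun e he =>
    (IntermediateField.mem_fixedField_iff H e).mp he τ (Subgroup.subset_closure (by simp))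
  have hJσ : σ (J (RatFunc.X : RatFunc k)) = J RatFunc.X := by
    rw [← RingHom.coe_coe, map_J, RingHom.coe_coe, hσ, J_inv _ RatFunc.X_ne_zero X_sub_one_ne_zero]
  have hJτ : τ (J (RatFunc.X : RatFunc k)) = J RatFunc.X := by
    rw [← RingHom.coe_coe, map_J, RingHom.coe_coe, hτ, J_one_sub]
  have hAE : A ≤ E := by
    rw [IntermediateField.adjoin_le_iff]
    intro x hx
    rw [Set.mem_singleton_iff] at hx
    rw [hx]
    exact hfix _ hJσ hJτ
  obtain ⟨hA6, hA0⟩ : Module.finrank A (RatFunc k) ≤ 6 ∧ 0 < Module.finrank A (RatFunc k) :=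
    finrank_J (k := k) h2
  have hmul := IntermediateField.relfinrank_mul_finrank_top (E := RatFunc k) hAE
  have hE0 : 0 < Module.finrank E (RatFunc k) := by
    rcases Nat.eq_zero_or_pos (Module.finrank E (RatFunc k)) with h | h
    · rw [h, mul_zero] at hmul; omega
    · exact h
  have : FiniteDimensional E (RatFunc k) := Module.finite_of_finrank_pos hE0
  have h6 := six_le_finrank σ τ hσ hτ E hσE hτE
  have hrel : IntermediateField.relfinrank A E = 1 := by
    rcases Nat.eq_zero_or_pos (IntermediateField.relfinrank A E) with h | h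
    · rw [h, zero_mul] at hmul; omega
    · by_contra hne
      have h2' : 2 ≤ IntermediateField.relfinrank A E := by omega
      have := Nat.mul_le_mul h2' h6
      omega
  exact IntermediateField.relfinrank_eq_one_iff.mp hrel (hfix b hbσ hbτ)

end Groth.Agent.Helper17.JI
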