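import Mathlib
import Groth.Agent.Lib.Helper17.JI2
set_option autoImplicit false
universe u
open Polynomial

namespace Groth.Agent.Helper17.JI

variable {k : Type u} [Field k]

lemma ofNat256_ne_zero (h2 : (2 : k) ≠ 0) : (256 : RatFunc k) ≠ 0 := by
  have h : (256 : RatFunc k) = algebraMap k (RatFunc k) (2 ^ 8) := by
    rw [map_pow, map_ofNat]; norm_num
  rw [h]
  exact (_root_.map_ne_zero _).mpr (pow_ne_zero _ h2)

lemma isIntegral_of_J (h2 : (2 : k) ≠ 0) {y : RatFunc k} (hy : y ≠ 0) (hy1 : y - 1 ≠ 0)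
    (j : RatFunc k) (hJ : J y = j) :
    IsIntegral (Algebra.adjoin k ({j} : Set (RatFunc k))) y := by
  let c : Algebra.adjoin k ({j} : Set (RatFunc k)) :=
    ⟨j, Algebra.subset_adjoin (Set.mem_singleton _)⟩
  let a : Algebra.adjoin k ({j} : Set (RatFunc k)) := algebraMap k _ (256 : k)⁻¹ * c
  let Ψ : (Algebra.adjoin k ({j} : Set (RatFunc k)))[X] :=
    (X ^ 2 - X + 1) ^ 3 - C a * (X ^ 2 * (X - 1) ^ 2)
  have hmonic : Ψ.Monic := by
    apply Monic.sub_of_left
    · apply Monic.pow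
      monicity!
    · have h1 : (C a * (X ^ 2 * (X - 1) ^ 2) :
          (Algebra.adjoin k ({j} : Set (RatFunc k)))[X]).degree ≤ 4 := by compute_degree
      have h2 : ((X ^ 2 - X + 1) ^ 3 :
          (Algebra.adjoin k ({j} : Set (RatFunc k)))[X]).degree = 6 := by compute_degree!
      rw [h2]
      exact lt_of_le_of_lt h1 (by norm_num)
  refine ⟨Ψ, hmonic, ?_⟩
  have h256 : (256 : RatFunc k) ≠ 0 := ofNat256_ne_zero h2
  have ha : algebraMap (Algebra.adjoin k ({j} : Set (RatFunc k))) (RatFunc k) a =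
      (256 : RatFunc k)⁻¹ * j := by
    show ((algebraMap k _ (256 : k)⁻¹ * c : Algebra.adjoin k ({j} : Set (RatFunc k))) :
      RatFunc k) = _
    rw [Subalgebra.coe_mul, Subalgebra.coe_algebraMap, map_inv₀, map_ofNat]
  simp only [Ψ, eval₂_sub, eval₂_mul, eval₂_pow, eval₂_add, eval₂_X, eval₂_one, eval₂_C, ha]
  rw [← hJ]
  unfold J
  field_simp
  ring

lemma sigma_J (σ : RatFunc k ≃ₐ[k] RatFunc k) (hσ : σ RatFunc.X = (RatFunc.X : RatFunc k)⁻¹) :
    σ (J (RatFunc.X : RatFunc k)) = J RatFunc.X := by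
  rw [← RingHom.coe_coe, map_J, RingHom.coe_coe, hσ, J_inv _ RatFunc.X_ne_zero X_sub_one_ne_zero]

lemma tau_J (τ : RatFunc k ≃ₐ[k] RatFunc k) (hτ : τ RatFunc.X = 1 - (RatFunc.X : RatFunc k)) :
    τ (J (RatFunc.X : RatFunc k)) = J RatFunc.X := by
  rw [← RingHom.coe_coe, map_J, RingHom.coe_coe, hτ, J_one_sub]

lemma Xinv_sub_one_ne_zero : (RatFunc.X : RatFunc k)⁻¹ - 1 ≠ 0 := by
  intro h
  have h' : (RatFunc.X : RatFunc k)⁻¹ = 1 := sub_eq_zero.mp h
  rw [inv_eq_one] at h'
  exact X_sub_one_ne_zero (k := k) (by rw [h', sub_self])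

lemma one_sub_X_inv_sub_one_ne_zero : (1 - (RatFunc.X : RatFunc k))⁻¹ - 1 ≠ 0 := by
  intro h
  have h' : (1 - (RatFunc.X : RatFunc k))⁻¹ = 1 := sub_eq_zero.mp h
  rw [inv_eq_one] at h'
  have : (RatFunc.X : RatFunc k) = 0 := by linear_combination -h'
  exact RatFunc.X_ne_zero this

open scoped IntermediateField.algebraAdjoinAdjoin in
theorem main (h2 : (2 : k) ≠ 0) (σ τ : RatFunc k ≃ₐ[k] RatFunc k)
    (hσ : σ RatFunc.X = (RatFunc.X : RatFunc k)⁻¹)
    (hτ : τ RatFunc.X = 1 - (RatFunc.X : RatFunc k)) (b : RatFunc k) :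
    (b ∈ Algebra.adjoin k ({RatFunc.X, (RatFunc.X : RatFunc k)⁻¹,
        ((RatFunc.X : RatFunc k) - 1)⁻¹} : Set (RatFunc k)) ∧ σ b = b ∧ τ b = b) ↔
      b ∈ Algebra.adjoin k ({J (RatFunc.X : RatFunc k)} : Set (RatFunc k)) := by
  constructor
  · rintro ⟨hb, hbσ, hbτ⟩
    have hbA := stepA h2 σ τ hσ hτ b hbσ hbτ
    -- integrality
    have hle : Algebra.adjoin k ({RatFunc.X, (RatFunc.X : RatFunc k)⁻¹,
        ((RatFunc.X : RatFunc k) - 1)⁻¹} : Set (RatFunc k)) ≤
        (integralClosure (Algebra.adjoin k ({J (RatFunc.X : RatFunc k)} : Set (RatFunc k)))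
          (RatFunc k)).restrictScalars k := by
      apply Algebra.adjoin_le
      intro x hx
      rw [SetLike.mem_coe, Subalgebra.mem_restrictScalars, mem_integralClosure_iff]
      rcases hx with rfl | rfl | hx
      · exact isIntegral_of_J h2 RatFunc.X_ne_zero X_sub_one_ne_zero _ rfl
      · exact isIntegral_of_J h2 (inv_ne_zero RatFunc.X_ne_zero) Xinv_sub_one_ne_zero _
          (J_inv _ RatFunc.X_ne_zero X_sub_one_ne_zero)
      · rw [Set.mem_singleton_iff] at hx
        have hx' : x = -(1 - (RatFunc.X : RatFunc k))⁻¹ := by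
          rw [hx, ← neg_sub, inv_neg]
        rw [hx']
        refine IsIntegral.neg ?_
        refine isIntegral_of_J h2 (inv_ne_zero one_sub_X_ne_zero) one_sub_X_inv_sub_one_ne_zero _ ?_
        rw [J_inv _ one_sub_X_ne_zero, J_one_sub]
        rw [sub_sub_cancel_left]
        exact neg_ne_zero.mpr RatFunc.X_ne_zero
    have hbint : IsIntegral (Algebra.adjoin k ({J (RatFunc.X : RatFunc k)} : Set (RatFunc k))) b :=
      hle hb
    have hT : Transcendental k (J (RatFunc.X : RatFunc k)) :=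
      RatFunc.transcendental_of_ne_C _ (J_not_const h2)
    have : UniqueFactorizationMonoid
        (Algebra.adjoin k ({J (RatFunc.X : RatFunc k)} : Set (RatFunc k))) :=
      hT.uniqueFactorizationMonoid_adjoin
    have hb' : IsIntegral (Algebra.adjoin k ({J (RatFunc.X : RatFunc k)} : Set (RatFunc k)))
        (⟨b, hbA⟩ : IntermediateField.adjoin k ({J (RatFunc.X : RatFunc k)} : Set (RatFunc k))) := by
      rw [← isIntegral_algebraMap_iff (B := RatFunc k)
        (algebraMap (IntermediateField.adjoin k ({J (RatFunc.X : RatFunc k)} : Set (RatFunc k)))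
          (RatFunc k)).injective]
      exact hbint
    have hic : IsIntegrallyClosed
        (Algebra.adjoin k ({J (RatFunc.X : RatFunc k)} : Set (RatFunc k))) :=
      UniqueFactorizationMonoid.instIsIntegrallyClosed
    obtain ⟨y, hy⟩ := (IsIntegrallyClosed.isIntegral_iff
      (R := Algebra.adjoin k ({J (RatFunc.X : RatFunc k)} : Set (RatFunc k)))
      (K := IntermediateField.adjoin k ({J (RatFunc.X : RatFunc k)} : Set (RatFunc k)))).mp hb'
    have hyb : (y : RatFunc k) = b := congrArg Subtype.val hy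
    rw [← hyb]
    exact y.2
  · intro hb
    refine ⟨?_, fixed_of_mem_adjoin σ _ (sigma_J σ hσ) hb, fixed_of_mem_adjoin τ _ (tau_J τ hτ) hb⟩
    refine Algebra.adjoin_le ?_ hb
    intro x hx
    rw [Set.mem_singleton_iff] at hx
    rw [hx]
    exact J_mem k _

end Groth.Agent.Helper17.JI
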