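import Mathlib
import Groth.Agent.Lib.Helper17.JT3

set_option autoImplicit false
universe u
open CategoryTheory AlgebraicGeometry Limits

namespace Groth.Agent.Helper17.JT

section Ring2

variable {A : Type u} [CommRing A] {r : ℕ} (f : Fin r → A)
variable {A' G1 G2 : Type u} [CommRing A'] [CommRing G1] [CommRing G2]
variable (gA : A →+* A') (W : A' →+* G2) (Y : Fin r → G2) (c : Fin r → A')

/-- `σ = ∑ β_j Y_j` -/
noncomputable def sg : G2 := ∑ j, W (gA (f j)) * Y j

theorem sg_def : sg f gA W Y = ∑ j, W (gA (f j)) * Y j := rfl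

theorem rel_psi (hc : ∑ i, c i * gA (f i) = 1) :
    ∑ i, (W.comp gA) (f i) * (Y i - sg f gA W Y * W (c i) + W (c i)) = 1 := by
  have hβγ : ∑ i, W (gA (f i)) * W (c i) = 1 := by
    have h1 : ∑ i, W (gA (f i)) * W (c i) = W (∑ i, c i * gA (f i)) := by
      rw [map_sum]
      refine Finset.sum_congr rfl (fun i _ => ?_)
      rw [map_mul, mul_comm]
    rw [h1, hc, map_one]
  calc ∑ i, (W.comp gA) (f i) * (Y i - sg f gA W Y * W (c i) + W (c i))
      = ∑ i, (W (gA (f i)) * Y i - sg f gA W Y * (W (gA (f i)) * W (c i))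
          + W (gA (f i)) * W (c i)) := by
        refine Finset.sum_congr rfl (fun i _ => ?_)
        rw [RingHom.comp_apply]
        ring
    _ = sg f gA W Y - sg f gA W Y * 1 + 1 := by
        rw [Finset.sum_add_distrib, Finset.sum_sub_distrib, ← Finset.mul_sum, hβγ, ← sg_def]
    _ = 1 := by ring

noncomputable def psi (hc : ∑ i, c i * gA (f i) = 1) : JA f →+* G2 :=
  lift f (W.comp gA) (fun i => Y i - sg f gA W Y * W (c i) + W (c i)) (sg f gA W Y)
    (rel_psi f gA W Y c hc)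

theorem psi_algebraMap (hc : ∑ i, c i * gA (f i) = 1) (a : A) :
    psi f gA W Y c hc (algebraMap A (JA f) a) = W (gA a) :=
  lift_algebraMap f _ _ _ _ a

theorem psi_xi (hc : ∑ i, c i * gA (f i) = 1) (i : Fin r) :
    psi f gA W Y c hc (xi f i) = Y i - sg f gA W Y * W (c i) + W (c i) :=
  lift_xi f _ _ _ _ i

theorem psi_tau (hc : ∑ i, c i * gA (f i) = 1) :
    psi f gA W Y c hc (tau f) = sg f gA W Y :=
  lift_tau f _ _ _ _

theorem comp_psi (hc : ∑ i, c i * gA (f i) = 1) (E : G2 →+* G1) (P1 : A' →+* G1)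
    (P2 : JA f →+* G1) (hcond : ∀ a, P1 (gA a) = P2 (algebraMap A (JA f) a))
    (hEW : ∀ z, E (W z) = P1 z)
    (hEY : ∀ i, E (Y i) = P2 (xi f i) - P1 (c i) + P2 (tau f) * P1 (c i)) :
    E.comp (psi f gA W Y c hc) = P2 := by
  have hbx : ∑ i, P1 (gA (f i)) * P2 (xi f i) = 1 := by
    calc ∑ i, P1 (gA (f i)) * P2 (xi f i)
        = P2 (∑ i, algebraMap A (JA f) (f i) * xi f i) := by
          rw [map_sum]
          refine Finset.sum_congr rfl (fun i _ => ?_)
          rw [map_mul, hcond]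
      _ = 1 := by rw [rel_eq, map_one]
  have hbc : ∑ i, P1 (gA (f i)) * P1 (c i) = 1 := by
    have h1 : ∑ i, P1 (gA (f i)) * P1 (c i) = P1 (∑ i, c i * gA (f i)) := by
      rw [map_sum]
      refine Finset.sum_congr rfl (fun i _ => ?_)
      rw [map_mul, mul_comm]
    rw [h1, hc, map_one]
  have hEsg : E (sg f gA W Y) = P2 (tau f) := by
    rw [sg_def, map_sum]
    calc ∑ j, E (W (gA (f j)) * Y j)
        = ∑ j, (P1 (gA (f j)) * P2 (xi f j) - P1 (gA (f j)) * P1 (c j)
            + P2 (tau f) * (P1 (gA (f j)) * P1 (c j))) := by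
          refine Finset.sum_congr rfl (fun j _ => ?_)
          rw [map_mul, hEW, hEY]
          ring
      _ = 1 - 1 + P2 (tau f) * 1 := by
          rw [Finset.sum_add_distrib, Finset.sum_sub_distrib, ← Finset.mul_sum, hbx, hbc]
      _ = P2 (tau f) := by ring
  apply hom_ext f
  · intro a
    rw [RingHom.comp_apply, psi_algebraMap, hEW, hcond]
  · intro i
    rw [RingHom.comp_apply, psi_xi, map_add, map_sub, map_mul, hEY, hEsg, hEW]
    ring
  · rw [RingHom.comp_apply, psi_tau, hEsg]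

theorem inv_formula (hc : ∑ i, c i * gA (f i) = 1) (I : G1 →+* G2) (P1 : A' →+* G1)
    (P2 : JA f →+* G1) (hI1 : ∀ z, I (P1 z) = W z)
    (hI2 : ∀ z, I (P2 z) = psi f gA W Y c hc z) (i : Fin r) :
    I (P2 (xi f i) - P1 (c i) + P2 (tau f) * P1 (c i)) = Y i := by
  rw [map_add, map_sub, map_mul, hI1, hI2, hI2, psi_xi, psi_tau]
  ring

end Ring2

end Groth.Agent.Helper17.JT
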