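import Mathlib
import Groth.Agent.Lib.Helper17.JT4

set_option autoImplicit false
universe u
open CategoryTheory AlgebraicGeometry Limits

namespace Groth.Agent.Helper17.JT

theorem iso_abstract {X X' Z T : Scheme.{u}} [X.IsQuasiAffine] {r : ℕ} (f : Fin r → Γ(X, ⊤))
    (p : Spec (CommRingCat.of (JA f)) ⟶ X)
    (hp : p ≫ X.toSpecΓ = Spec.map (CommRingCat.ofHom (algebraMap Γ(X, ⊤) (JA f))))
    (g : X' ⟶ X) (c : Fin r → Γ(X', ⊤)) (hc : ∑ i, c i * g.appTop.hom (f i) = 1)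
    (π₁ : Z ⟶ X') (π₂ : Z ⟶ Spec (CommRingCat.of (JA f))) (hpb : IsPullback π₁ π₂ g p)
    (ω : T ⟶ X') (Y : Fin r → Γ(T, ⊤))
    (H1 : ∀ (π : Z ⟶ X') (v : Fin r → Γ(Z, ⊤)),
      ∃ h : Z ⟶ T, h ≫ ω = π ∧ ∀ i, h.appTop.hom (Y i) = v i)
    (H2 : ∀ (h₁ h₂ : T ⟶ T), h₁ ≫ ω = h₂ ≫ ω →
      (∀ i, h₁.appTop.hom (Y i) = h₂.appTop.hom (Y i)) → h₁ = h₂) :
    ∃ e : Z ≅ T, e.hom ≫ ω = π₁ := by
  have hpι : ∀ a, p.appTop.hom a = iot (JA f) (algebraMap Γ(X, ⊤) (JA f) a) :=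
    fun a => appTop_of_fac (algebraMap Γ(X, ⊤) (JA f)) p hp a
  obtain ⟨P1, hP1⟩ : ∃ P1 : Γ(X', ⊤) →+* Γ(Z, ⊤), P1 = π₁.appTop.hom := ⟨_, rfl⟩
  obtain ⟨P2, hP2⟩ : ∃ P2 : JA f →+* Γ(Z, ⊤), P2 = π₂.appTop.hom.comp (iot (JA f)) := ⟨_, rfl⟩
  obtain ⟨W, hW⟩ : ∃ W : Γ(X', ⊤) →+* Γ(T, ⊤), W = ω.appTop.hom := ⟨_, rfl⟩
  obtain ⟨gA, hgA⟩ : ∃ gA : Γ(X, ⊤) →+* Γ(X', ⊤), gA = g.appTop.hom := ⟨_, rfl⟩
  have hcond : ∀ a, P1 (gA a) = P2 (algebraMap Γ(X, ⊤) (JA f) a) := by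
    intro a
    rw [hP1, hgA, hP2, RingHom.comp_apply, ← hpι, ← comp_appTop_apply, ← comp_appTop_apply, hpb.w]
  have hc' : ∑ i, c i * gA (f i) = 1 := by rw [hgA]; exact hc
  obtain ⟨eh, heh_over, heh_coord⟩ :=
    H1 π₁ (fun i => P2 (xi f i) - P1 (c i) + P2 (tau f) * P1 (c i))
  have hEW : ∀ z, eh.appTop.hom (W z) = P1 z := by
    intro z
    rw [hW, hP1, ← comp_appTop_apply, heh_over]
  obtain ⟨uu, huu⟩ := exists_toSpec T (psi f gA W Y c hc')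
  have hcompat : ω ≫ g = uu ≫ p := by
    apply hom_ext_of_quasiAffine
    intro a
    rw [comp_appTop_apply, comp_appTop_apply, hpι, huu, psi_algebraMap, hW, hgA]
  obtain ⟨ei, hei1, hei2⟩ : ∃ ei : T ⟶ Z, ei ≫ π₁ = ω ∧ ei ≫ π₂ = uu :=
    ⟨hpb.lift ω uu hcompat, hpb.lift_fst _ _ _, hpb.lift_snd _ _ _⟩
  have hsnd : eh ≫ uu = π₂ := by
    apply toSpec_ext
    intro a
    have h := RingHom.congr_fun
      (comp_psi f gA W Y c hc' eh.appTop.hom P1 P2 hcond hEW heh_coord) a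
    rw [comp_appTop_apply, huu]
    rw [RingHom.comp_apply, hP2, RingHom.comp_apply] at h
    exact h
  have h1 : eh ≫ ei = 𝟙 Z := by
    apply hpb.hom_ext
    · rw [Category.assoc, hei1, Category.id_comp, heh_over]
    · rw [Category.assoc, hei2, Category.id_comp, hsnd]
  have hI1 : ∀ z, ei.appTop.hom (P1 z) = W z := by
    intro z
    rw [hP1, hW, ← comp_appTop_apply, hei1]
  have hI2 : ∀ z, ei.appTop.hom (P2 z) = psi f gA W Y c hc' z := by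
    intro z
    rw [hP2, RingHom.comp_apply, ← comp_appTop_apply, hei2, huu]
  have h2 : ei ≫ eh = 𝟙 T := by
    apply H2
    · rw [Category.assoc, heh_over, hei1, Category.id_comp]
    · intro i
      have hid : (𝟙 T : T ⟶ T).appTop.hom (Y i) = Y i := by
        simp only [Scheme.Hom.id_appTop, CommRingCat.hom_id, RingHom.id_apply]
      rw [hid, comp_appTop_apply, heh_coord]
      exact inv_formula f gA W Y c hc' ei.appTop.hom P1 P2 hI1 hI2 i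
  exact ⟨⟨eh, ei, h1, h2⟩, heh_over⟩

theorem iso_affineSpace {X X' : Scheme.{u}} [X.IsQuasiAffine] {r : ℕ} (f : Fin r → Γ(X, ⊤))
    (p : Spec (CommRingCat.of (JA f)) ⟶ X)
    (hp : p ≫ X.toSpecΓ = Spec.map (CommRingCat.ofHom (algebraMap Γ(X, ⊤) (JA f))))
    (g : X' ⟶ X) (c : Fin r → Γ(X', ⊤)) (hc : ∑ i, c i * g.appTop.hom (f i) = 1) :
    ∃ e : pullback g p ≅ 𝔸(ULift.{u} (Fin r); X'),
      e.hom ≫ (𝔸(ULift.{u} (Fin r); X') ↘ X') = pullback.fst g p := by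
  refine iso_abstract f p hp g c hc (pullback.fst g p) (pullback.snd g p)
    (IsPullback.of_hasPullback g p)
    (𝔸(ULift.{u} (Fin r); X') ↘ X') (fun i => AffineSpace.coord X' (ULift.up i)) ?_ ?_
  · intro π v
    refine ⟨AffineSpace.homOfVector π (fun i => v i.down), AffineSpace.homOfVector_over _ _, ?_⟩
    intro i
    exact AffineSpace.homOfVector_appTop_coord π
      (fun i : ULift.{u} (Fin r) => v i.down) (ULift.up i)
  · intro h₁ h₂ hω hY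
    apply AffineSpace.hom_ext
    · exact hω
    · intro i
      exact hY i.down

theorem main9803 (X : Scheme.{u}) [X.IsQuasiAffine] :
    ∃ (n : ℕ) (T : Scheme.{u}) (_ : IsAffine T) (p : T ⟶ X),
      ∀ (X' : Scheme.{u}) [IsAffine X'] (g : X' ⟶ X),
        ∃ e : Limits.pullback g p ≅ 𝔸(ULift.{u} (Fin n); X'),
          e.hom ≫ (𝔸(ULift.{u} (Fin n); X') ↘ X') = Limits.pullback.fst g p := by
  obtain ⟨r, f, p, hp, hspan⟩ := exists_jouanolou X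
  refine ⟨r, Spec (CommRingCat.of (JA f)), inferInstance, p, ?_⟩
  intro X' _ g
  obtain ⟨c, hc⟩ := (Ideal.mem_span_range_iff_exists_fun).1
    (show (1 : Γ(X', ⊤)) ∈ Ideal.span (Set.range fun i => g.appTop.hom (f i)) by
      rw [hspan X' g]; trivial)
  exact iso_affineSpace f p hp g c hc

end Groth.Agent.Helper17.JT
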