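import Groth.Agent.Lib.Helper17.CE4

/-!
# helper17: homology of an `ℕ`-directed system of cochain complexes mapping (with a degree shift)
onto a complex, degreewise a directed colimit
-/

open CategoryTheory Limits HomologicalComplex
universe u

namespace Groth.Agent.Helper17.KC
open Groth.Agent.Helper17.CE

variable {A : Type u} [CommRing A]

/-- a degreewise directed-colimit presentation (with shift `r`) of the complex `C` -/
structure ShSys (K : ℕ → CochainComplex (ModuleCat.{u} A) ℤ)
    (T : ∀ n m : ℕ, n ≤ m → (K n ⟶ K m)) (C : CochainComplex (ModuleCat.{u} A) ℤ) (r : ℤ) where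
  θ : ∀ (n : ℕ) (i j : ℤ), i + r = j → ((K n).X i →ₗ[A] C.X j)
  comm : ∀ (n : ℕ) (i j : ℤ) (hj : i + r = j) (x : (K n).X i),
    θ n (i + 1) (j + 1) (by omega) (((K n).d i (i + 1)).hom x) = (C.d j (j + 1)).hom (θ n i j hj x)
  trans : ∀ (n m : ℕ) (h : n ≤ m) (i j : ℤ) (hj : i + r = j) (x : (K n).X i),
    θ m i j hj (((T n m h).f i).hom x) = θ n i j hj x
  surj : ∀ (i j : ℤ) (hj : i + r = j) (y : C.X j), ∃ (n : ℕ) (x : (K n).X i), θ n i j hj x = y
  ker : ∀ (n : ℕ) (i j : ℤ) (hj : i + r = j) (x : (K n).X i), θ n i j hj x = 0 →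
    ∃ (m : ℕ) (h : n ≤ m), ((T n m h).f i).hom x = 0

variable {K : ℕ → CochainComplex (ModuleCat.{u} A) ℤ}
  {T : ∀ n m : ℕ, n ≤ m → (K n ⟶ K m)} {C : CochainComplex (ModuleCat.{u} A) ℤ} {r : ℤ}
  (D : ShSys K T C r)

namespace ShSys

theorem comm' (n : ℕ) (i i' j j' : ℤ) (hj : i + r = j) (hj' : i' + r = j') (x : (K n).X i) :
    D.θ n i' j' hj' (((K n).d i i').hom x) = (C.d j j').hom (D.θ n i j hj x) := by
  by_cases h : i + 1 = i'
  · subst h
    obtain rfl : j' = j + 1 := by omega
    exact D.comm n i j hj x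
  · have h' : ¬ j + 1 = j' := by omega
    rw [(K n).shape i i' h, C.shape j j' h']
    simp

/-- the induced map of short complexes -/
noncomputable def τ (n : ℕ) (i j : ℤ) (hj : i + r = j) : (K n).sc i ⟶ C.sc j where
  τ₁ := ModuleCat.ofHom (D.θ n ((ComplexShape.up ℤ).prev i) ((ComplexShape.up ℤ).prev j)
    (by simp only [CochainComplex.prev]; omega))
  τ₂ := ModuleCat.ofHom (D.θ n i j hj)
  τ₃ := ModuleCat.ofHom (D.θ n ((ComplexShape.up ℤ).next i) ((ComplexShape.up ℤ).next j)
    (by simp only [CochainComplex.next]; omega))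
  comm₁₂ := by
    ext x
    exact (D.comm' n _ _ _ _ _ hj x).symm
  comm₂₃ := by
    ext x
    exact (D.comm' n _ _ _ _ hj _ x).symm

/-- the induced map on homology -/
noncomputable def g (n : ℕ) (i j : ℤ) (hj : i + r = j) : (K n).homology i ⟶ C.homology j :=
  ShortComplex.homologyMap (D.τ n i j hj)

theorem g_π (n : ℕ) (i j : ℤ) (hj : i + r = j) (z : (K n).cycles i) :
    (D.g n i j hj).hom (((K n).homologyπ i).hom z) =
      (C.homologyπ j).hom ((ShortComplex.cyclesMap (D.τ n i j hj)).hom z) := by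
  have := ShortComplex.homologyπ_naturality (D.τ n i j hj)
  exact congrArg (fun f => f.hom z) this

theorem iCycles_cyclesMap_τ (n : ℕ) (i j : ℤ) (hj : i + r = j) (z : (K n).cycles i) :
    (C.iCycles j).hom ((ShortComplex.cyclesMap (D.τ n i j hj)).hom z) =
      D.θ n i j hj (((K n).iCycles i).hom z) := by
  have := ShortComplex.cyclesMap_i (D.τ n i j hj)
  exact congrArg (fun f => f.hom z) this

theorem τ_trans (n m : ℕ) (h : n ≤ m) (i j : ℤ) (hj : i + r = j) :
    (HomologicalComplex.shortComplexFunctor _ _ i).map (T n m h) ≫ D.τ m i j hj = D.τ n i j hj := by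
  ext x
  · exact D.trans n m h _ _ _ x
  · exact D.trans n m h _ _ _ x
  · exact D.trans n m h _ _ _ x

theorem g_trans (n m : ℕ) (h : n ≤ m) (i j : ℤ) (hj : i + r = j) :
    HomologicalComplex.homologyMap (T n m h) i ≫ D.g m i j hj = D.g n i j hj := by
  unfold g
  rw [← D.τ_trans n m h i j hj, ShortComplex.homologyMap_comp]
  rfl


/-- the comparison map from the direct limit of the homologies -/
noncomputable def lim (i j : ℤ) (hj : i + r = j) :
    Module.DirectLimit (fun n : ℕ => ((K n).homology i : Type u))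
      (fun n m h => (HomologicalComplex.homologyMap (T n m h) i).hom) →ₗ[A] C.homology j :=
  Module.DirectLimit.lift A ℕ (fun n : ℕ => ((K n).homology i : Type u))
    (fun n m h => (HomologicalComplex.homologyMap (T n m h) i).hom) (fun n => (D.g n i j hj).hom) (by
    intro n m h x
    exact congrArg (fun f => f.hom x) (D.g_trans n m h i j hj))

theorem lim_of (i j : ℤ) (hj : i + r = j) (n : ℕ) (x : (K n).homology i) :
    D.lim i j hj (Module.DirectLimit.of A ℕ (fun n : ℕ => ((K n).homology i : Type u))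
      (fun n m h => (HomologicalComplex.homologyMap (T n m h) i).hom) n x) = (D.g n i j hj).hom x := by
  unfold lim
  rw [Module.DirectLimit.lift_of]

theorem lim_surjective (i j : ℤ) (hj : i + r = j) : Function.Surjective (D.lim i j hj) := by
  intro h
  obtain ⟨z, rfl⟩ := homologyπ_surjective' C j h
  obtain ⟨n, x, hx⟩ := D.surj i j hj ((C.iCycles j).hom z)
  -- kill `d x`
  have h1 : D.θ n (i + 1) (j + 1) (by omega) (((K n).d i (i + 1)).hom x) = 0 := by
    rw [D.comm n i j hj x, hx, iCycles_d_apply]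
  obtain ⟨m, hnm, hm⟩ := D.ker n (i + 1) (j + 1) (by omega) _ h1
  have h2 : ((K m).d i (i + 1)).hom (((T n m hnm).f i).hom x) = 0 := by
    have := congrArg (fun f => f.hom x) ((T n m hnm).comm i (i + 1))
    simp only [ModuleCat.hom_comp, LinearMap.comp_apply] at this
    rw [this, hm]
  obtain ⟨z', hz'⟩ := exists_cycle' (K m) i (i + 1) (by simp) _ h2
  refine ⟨Module.DirectLimit.of A ℕ _ _ m (((K m).homologyπ i).hom z'), ?_⟩
  rw [lim_of, g_π]
  congr 1
  apply iCycles_injective' C j
  rw [iCycles_cyclesMap_τ, hz', D.trans, hx]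

theorem lim_injective (i j : ℤ) (hj : i + r = j) : Function.Injective (D.lim i j hj) := by
  rw [injective_iff_map_eq_zero]
  intro a ha
  obtain ⟨n, h, rfl⟩ := Module.DirectLimit.exists_of a
  rw [lim_of] at ha
  obtain ⟨z, rfl⟩ := homologyπ_surjective' (K n) i h
  rw [g_π] at ha
  obtain ⟨w, hw⟩ := (homologyπ_eq_zero_iff' C (i + r - 1) j (by simp; omega) _).1 ha
  have hw' : (C.d (i + r - 1) j).hom w = D.θ n i j hj (((K n).iCycles i).hom z) := by
    rw [← iCycles_cyclesMap_τ, ← hw, iCycles_toCycles']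
  obtain ⟨n', u, hu⟩ := D.surj (i - 1) (i + r - 1) (by omega) w
  let N := max n n'
  have hnN : n ≤ N := le_max_left _ _
  have hn'N : n' ≤ N := le_max_right _ _
  let u' := ((T n' N hn'N).f (i - 1)).hom u
  let x'' := ((T n N hnN).f i).hom (((K n).iCycles i).hom z)
  have h1 : D.θ N i j hj (((K N).d (i - 1) i).hom u' - x'') = 0 := by
    rw [map_sub, D.comm' N (i - 1) i (i + r - 1) j (by omega) hj, D.trans, D.trans, hu, hw', sub_self]
  obtain ⟨m, hNm, hm⟩ := D.ker N i j hj _ h1
  rw [map_sub, sub_eq_zero] at hm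
  -- the class dies in `K m`
  have h2 : (HomologicalComplex.homologyMap (T N m hNm) i).hom
      ((HomologicalComplex.homologyMap (T n N hnN) i).hom (((K n).homologyπ i).hom z)) = 0 := by
    rw [homologyMap_π', homologyMap_π']
    rw [homologyπ_eq_zero_iff' (K m) (i - 1) i (by simp)]
    refine ⟨((T N m hNm).f (i - 1)).hom u', ?_⟩
    apply iCycles_injective' (K m) i
    rw [iCycles_toCycles', iCycles_cyclesMap', iCycles_cyclesMap', ← hm]
    have := congrArg (fun f => f.hom u') ((T N m hNm).comm (i - 1) i)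
    simp only [ModuleCat.hom_comp, LinearMap.comp_apply] at this
    exact this
  have e1 := Module.DirectLimit.of_f (R := A) (ι := ℕ)
    (G := fun n : ℕ => ((K n).homology i : Type u))
    (f := fun n m h => (HomologicalComplex.homologyMap (T n m h) i).hom) (i := n) (j := N)
    (hij := hnN) (x := ((K n).homologyπ i).hom z)
  have e2 := Module.DirectLimit.of_f (R := A) (ι := ℕ)
    (G := fun n : ℕ => ((K n).homology i : Type u))
    (f := fun n m h => (HomologicalComplex.homologyMap (T n m h) i).hom) (i := N) (j := m)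
    (hij := hNm) (x := (HomologicalComplex.homologyMap (T n N hnN) i).hom (((K n).homologyπ i).hom z))
  rw [← e1, ← e2, h2, map_zero]

/-- **Main comparison**: the direct limit of the homologies is the homology of `C`. -/
noncomputable def limEquiv (i j : ℤ) (hj : i + r = j) :
    Module.DirectLimit (fun n : ℕ => ((K n).homology i : Type u))
      (fun n m h => (HomologicalComplex.homologyMap (T n m h) i).hom) ≃ₗ[A] C.homology j :=
  LinearEquiv.ofBijective (D.lim i j hj) ⟨D.lim_injective i j hj, D.lim_surjective i j hj⟩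

end ShSys

end Groth.Agent.Helper17.KC
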