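import Groth.Agent.Lib.Helper17.KC2

/-!
# helper17: localisation calculus `w ↦ w / f^n` on complexes
-/

open CategoryTheory Limits HomologicalComplex CochainComplex HomComplex
universe u

namespace Groth.Agent.Helper17.KC
open DerCA

variable {A : Type u} [CommRing A] (f : A)

/-- `f^n` as an element of `powers f` -/
def fpow (n : ℕ) : Submonoid.powers f := ⟨f ^ n, n, rfl⟩

variable (C : CochainComplex (ModuleCat.{u} A) ℤ)

/-- `w ↦ w / f^n` -/
noncomputable def locn (n : ℕ) (q : ℤ) :
    C.X q →ₗ[A] ((locCx (Submonoid.powers f)).obj C).X q :=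
  (LocalizedModule.divBy (fpow f n)) ∘ₗ (LocalizedModule.mkLinearMap (Submonoid.powers f) (C.X q))

theorem locn_apply (n : ℕ) (q : ℤ) (w : C.X q) :
    locn f C n q w = LocalizedModule.mk w (fpow f n) := by
  change LocalizedModule.divBy (fpow f n) (LocalizedModule.mk w 1) = _
  simp [LocalizedModule.divBy, LocalizedModule.liftOn_mk]

theorem locCxUnit_apply (q : ℤ) (w : C.X q) :
    ((locCxUnit (Submonoid.powers f) C).f q).hom w = LocalizedModule.mk w 1 := rfl

/-- (L1) -/
theorem locn_smul_self (n : ℕ) (q : ℤ) (w : C.X q) :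
    locn f C n q (f ^ n • w) = ((locCxUnit (Submonoid.powers f) C).f q).hom w := by
  rw [locn_apply, locCxUnit_apply]
  exact LocalizedModule.mk_cancel (fpow f n) w

/-- (L3) -/
theorem locn_smul_pow (n m : ℕ) (h : n ≤ m) (q : ℤ) (w : C.X q) :
    locn f C m q (f ^ (m - n) • w) = locn f C n q w := by
  rw [locn_apply, locn_apply]
  have : fpow f m = fpow f (m - n) * fpow f n := by
    apply Subtype.ext
    change f ^ m = f ^ (m - n) * f ^ n
    rw [← pow_add, Nat.sub_add_cancel h]
  rw [this]
  exact LocalizedModule.mk_cancel_common_left (fpow f (m - n)) (fpow f n) w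

/-- (L4) -/
theorem exists_locn (q : ℤ) (v : ((locCx (Submonoid.powers f)).obj C).X q) :
    ∃ (k : ℕ) (w : C.X q), locn f C k q w = v := by
  induction v using LocalizedModule.induction_on with
  | h w s =>
    obtain ⟨s, k, rfl⟩ := s
    exact ⟨k, w, locn_apply f C k q w⟩

/-- (L5) -/
theorem locn_eq_zero (n : ℕ) (q : ℤ) (w : C.X q) (h : locn f C n q w = 0) :
    ∃ k : ℕ, f ^ k • w = 0 := by
  rw [locn_apply] at h
  have h' : LocalizedModule.mk w (fpow f n) =
      (LocalizedModule.mk (0 : C.X q) (1 : Submonoid.powers f)) := by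
    rw [LocalizedModule.zero_mk]; exact h
  rw [LocalizedModule.mk_eq] at h'
  obtain ⟨⟨u, k, rfl⟩, hu⟩ := h'
  refine ⟨k, ?_⟩
  rw [smul_zero, smul_zero, one_smul] at hu
  exact hu

/-- (L2) -/
theorem locn_d (n : ℕ) (q q' : ℤ) (w : C.X q) :
    (((locCx (Submonoid.powers f)).obj C).d q q').hom (locn f C n q w) =
      locn f C n q' ((C.d q q').hom w) := by
  rw [locn_apply, locn_apply]
  change (IsLocalizedModule.map (Submonoid.powers f)
    (LocalizedModule.mkLinearMap (Submonoid.powers f) (C.X q))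
    (LocalizedModule.mkLinearMap (Submonoid.powers f) (C.X q')) (C.d q q').hom)
      (LocalizedModule.mk w (fpow f n)) = _
  rw [IsLocalizedModule.mk_eq_mk', IsLocalizedModule.map_mk', IsLocalizedModule.mk_eq_mk']

end Groth.Agent.Helper17.KC
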