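import Groth.Agent.Lib.Helper17.KC3

/-!
# helper17: the inductive step `Koszul colimit = extended Čech`
-/

open CategoryTheory Limits HomologicalComplex CochainComplex HomComplex
universe u

namespace Groth.Agent.Helper17.KC
open DerCA CohIII

variable {A : Type u} [CommRing A] (M : ModuleCat.{u} A) (f : A) (fs : List A)

noncomputable abbrev Kn (n : ℕ) : CochainComplex (ModuleCat.{u} A) ℤ := koszulCx M (fs.map (· ^ n))
noncomputable abbrev ψn (n : ℕ) : Kn M fs n ⟶ Kn M fs n := f ^ n • 𝟙 _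
noncomputable abbrev Cf : CochainComplex (ModuleCat.{u} A) ℤ := extCech M fs
noncomputable abbrev φC : Cf M fs ⟶ (locCx (Submonoid.powers f)).obj (Cf M fs) :=
  locCxUnit (Submonoid.powers f) (extCech M fs)

theorem ψn_apply (n : ℕ) (i : ℤ) (x : (Kn M fs n).X i) : ((ψn M f fs n).f i).hom x = f ^ n • x := by
  simp [ψn]

variable {M fs} {r : ℤ}
  (D : ShSys (fun n => koszulCx M (fs.map (· ^ n))) (fun n m h => koszulTrans M n m h fs)
    (extCech M fs) r)

/-- the unsigned comparison map -/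
noncomputable def θ0 (n : ℕ) (i i1 j q : ℤ) (hi : i + 1 = i1) (hq : q + 1 = j)
    (hj : i + (r + 1) = j) :
    (mappingCone (ψn M f fs n)).X i →ₗ[A] (mappingCocone (φC M f fs)).X j :=
  cinl (φC M f fs) j ∘ₗ D.θ n i1 j (by omega) ∘ₗ kfst (ψn M f fs n) i i1 hi +
    cinr (φC M f fs) j q hq ∘ₗ locn f (Cf M fs) n q ∘ₗ D.θ n i q (by omega) ∘ₗ
      ksnd (ψn M f fs n) i

theorem θ0_congr (n : ℕ) (i i1 i1' j q q' : ℤ) (hi : i + 1 = i1) (hi' : i + 1 = i1')
    (hq : q + 1 = j) (hq' : q' + 1 = j) (hj : i + (r + 1) = j) :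
    θ0 f D n i i1 j q hi hq hj = θ0 f D n i i1' j q' hi' hq' hj := by
  obtain rfl : i1 = i1' := by omega
  obtain rfl : q = q' := by omega
  rfl

theorem cfst_θ0 (n : ℕ) (i i1 j q : ℤ) (hi : i + 1 = i1) (hq : q + 1 = j)
    (hj : i + (r + 1) = j) (z : (mappingCone (ψn M f fs n)).X i) :
    cfst (φC M f fs) j (θ0 f D n i i1 j q hi hq hj z) =
      D.θ n i1 j (by omega) (kfst (ψn M f fs n) i i1 hi z) := by
  simp only [θ0, LinearMap.add_apply, LinearMap.comp_apply, map_add, cfst_cinl, cfst_cinr, add_zero]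

theorem csnd_θ0 (n : ℕ) (i i1 j q : ℤ) (hi : i + 1 = i1) (hq : q + 1 = j)
    (hj : i + (r + 1) = j) (z : (mappingCone (ψn M f fs n)).X i) :
    csnd (φC M f fs) j q hq (θ0 f D n i i1 j q hi hq hj z) =
      locn f (Cf M fs) n q (D.θ n i q (by omega) (ksnd (ψn M f fs n) i z)) := by
  simp only [θ0, LinearMap.add_apply, LinearMap.comp_apply, map_add, csnd_cinl, csnd_cinr, zero_add]

theorem θ0_d (n : ℕ) (i i1 i2 j j1 q : ℤ) (hi : i + 1 = i1) (hi1 : i1 + 1 = i2) (hq : q + 1 = j)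
    (hj1 : j + 1 = j1) (hj : i + (r + 1) = j) (z : (mappingCone (ψn M f fs n)).X i) :
    θ0 f D n i1 i2 j1 j hi1 hj1 (by omega) (((mappingCone (ψn M f fs n)).d i i1).hom z) =
      -(((mappingCocone (φC M f fs)).d j j1).hom (θ0 f D n i i1 j q hi hq hj z)) := by
  apply c_ext' (φC M f fs) j1 j hj1
  · rw [cfst_θ0, kfst_d (ψn M f fs n) i i1 i2 hi hi1, map_neg,
      D.comm' n i1 i2 j j1 (by omega) (by omega), map_neg, cfst_d, cfst_θ0]
  · rw [csnd_θ0, ksnd_d (ψn M f fs n) i i1 hi, map_add, map_add, ψn_apply, map_smul,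
      locn_smul_self, D.comm' n i i1 q j (by omega) (by omega), ← locn_d, map_neg,
      csnd_d (φC M f fs) q j j1 hq hj1, cfst_θ0, csnd_θ0]
    abel


theorem θ0_trans (n m : ℕ) (h : n ≤ m) (i i1 j q : ℤ) (hi : i + 1 = i1) (hq : q + 1 = j)
    (hj : i + (r + 1) = j) (z : (mappingCone (ψn M f fs n)).X i) :
    θ0 f D m i i1 j q hi hq hj (((koszulTrans M n m h (f :: fs)).f i).hom z) =
      θ0 f D n i i1 j q hi hq hj z := by
  have c1 : (ψn M f fs n) ≫ (f ^ (m - n) • koszulTrans M n m h fs) =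
      koszulTrans M n m h fs ≫ (ψn M f fs m) := by
    simp only [ψn, Linear.smul_comp, Linear.comp_smul, Category.id_comp, Category.comp_id, smul_smul,
      ← pow_add, Nat.sub_add_cancel h]
  have e1 := kfst_map (ψn M f fs n) (ψn M f fs m) (koszulTrans M n m h fs)
    (f ^ (m - n) • koszulTrans M n m h fs) c1 i i1 hi z
  have e2 := ksnd_map (ψn M f fs n) (ψn M f fs m) (koszulTrans M n m h fs)
    (f ^ (m - n) • koszulTrans M n m h fs) c1 i z
  apply c_ext' (φC M f fs) j q hq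
  · rw [cfst_θ0, cfst_θ0]
    refine (congrArg _ e1).trans ?_
    exact D.trans n m h i1 j (by omega) _
  · rw [csnd_θ0, csnd_θ0]
    refine (congrArg (fun w => locn f (Cf M fs) m q (D.θ m i q (by omega) w)) e2).trans ?_
    have e3 : ((f ^ (m - n) • koszulTrans M n m h fs).f i).hom (ksnd (ψn M f fs n) i z) =
        f ^ (m - n) • ((koszulTrans M n m h fs).f i).hom (ksnd (ψn M f fs n) i z) := by
      simp
    rw [e3, map_smul, locn_smul_pow f (Cf M fs) n m h]
    exact congrArg _ (D.trans n m h i q (by omega) _)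

/-- the signed comparison map -/
noncomputable def θ1 (n : ℕ) (i j : ℤ) (hj : i + (r + 1) = j) :
    (mappingCone (ψn M f fs n)).X i →ₗ[A] (mappingCocone (φC M f fs)).X j :=
  (i.negOnePow : ℤˣ) • θ0 f D n i (i + 1) j (j - 1) rfl (by omega) hj

theorem θ1_apply (n : ℕ) (i j : ℤ) (hj : i + (r + 1) = j) (z : (mappingCone (ψn M f fs n)).X i) :
    θ1 f D n i j hj z = (i.negOnePow : ℤˣ) • θ0 f D n i (i + 1) j (j - 1) rfl (by omega) hj z := rfl

theorem θ1_comm (n : ℕ) (i j : ℤ) (hj : i + (r + 1) = j) (z : (mappingCone (ψn M f fs n)).X i) :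
    θ1 f D n (i + 1) (j + 1) (by omega) (((mappingCone (ψn M f fs n)).d i (i + 1)).hom z) =
      ((mappingCocone (φC M f fs)).d j (j + 1)).hom (θ1 f D n i j hj z) := by
  rw [θ1_apply, θ1_apply,
    θ0_congr f D n (i + 1) (i + 1 + 1) (i + 1 + 1) (j + 1) (j + 1 - 1) j rfl rfl (by omega) rfl
      (by omega),
    θ0_d f D n i (i + 1) (i + 1 + 1) j (j + 1) (j - 1) rfl rfl (by omega) rfl hj z,
    Int.negOnePow_succ, Units.neg_smul, smul_neg, neg_neg, Units.smul_def, Units.smul_def, map_zsmul]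


omit D in
theorem kfst_T' (n m : ℕ) (h : n ≤ m) (i i1 : ℤ) (hi : i + 1 = i1)
    (z : (mappingCone (ψn M f fs n)).X i) :
    kfst (ψn M f fs m) i i1 hi (((koszulTrans M n m h (f :: fs)).f i).hom z) =
      ((koszulTrans M n m h fs).f i1).hom (kfst (ψn M f fs n) i i1 hi z) := by
  have c1 : (ψn M f fs n) ≫ (f ^ (m - n) • koszulTrans M n m h fs) =
      koszulTrans M n m h fs ≫ (ψn M f fs m) := by
    simp only [ψn, Linear.smul_comp, Linear.comp_smul, Category.id_comp, Category.comp_id, smul_smul,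
      ← pow_add, Nat.sub_add_cancel h]
  exact kfst_map (ψn M f fs n) (ψn M f fs m) (koszulTrans M n m h fs)
    (f ^ (m - n) • koszulTrans M n m h fs) c1 i i1 hi z

omit D in
theorem ksnd_T' (n m : ℕ) (h : n ≤ m) (i : ℤ) (z : (mappingCone (ψn M f fs n)).X i) :
    ksnd (ψn M f fs m) i (((koszulTrans M n m h (f :: fs)).f i).hom z) =
      f ^ (m - n) • ((koszulTrans M n m h fs).f i).hom (ksnd (ψn M f fs n) i z) := by
  have c1 : (ψn M f fs n) ≫ (f ^ (m - n) • koszulTrans M n m h fs) =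
      koszulTrans M n m h fs ≫ (ψn M f fs m) := by
    simp only [ψn, Linear.smul_comp, Linear.comp_smul, Category.id_comp, Category.comp_id, smul_smul,
      ← pow_add, Nat.sub_add_cancel h]
  refine (ksnd_map (ψn M f fs n) (ψn M f fs m) (koszulTrans M n m h fs)
    (f ^ (m - n) • koszulTrans M n m h fs) c1 i z).trans ?_
  simp

omit D in
theorem T_T_apply (n m k : ℕ) (h : n ≤ m) (h' : m ≤ k) (i : ℤ) (x : (Kn M fs n).X i) :
    ((koszulTrans M m k h' fs).f i).hom (((koszulTrans M n m h fs).f i).hom x) =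
      ((koszulTrans M n k (h.trans h') fs).f i).hom x := by
  have := koszulTrans_trans M n m k h h' fs
  exact congrArg (fun g => (g.f i).hom x) this

theorem θ1_trans (n m : ℕ) (h : n ≤ m) (i j : ℤ) (hj : i + (r + 1) = j)
    (z : (mappingCone (ψn M f fs n)).X i) :
    θ1 f D m i j hj (((koszulTrans M n m h (f :: fs)).f i).hom z) = θ1 f D n i j hj z := by
  rw [θ1_apply, θ1_apply, θ0_trans]

theorem θ1_surj (i j : ℤ) (hj : i + (r + 1) = j) (y : (mappingCocone (φC M f fs)).X j) :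
    ∃ (n : ℕ) (z : (mappingCone (ψn M f fs n)).X i), θ1 f D n i j hj z = y := by
  have hq : (j - 1) + 1 = j := by omega
  obtain ⟨n₁, x₁, hx₁⟩ := D.surj (i + 1) j (by omega) (cfst (φC M f fs) j y)
  obtain ⟨k, w, hw⟩ := exists_locn f (Cf M fs) (j - 1) (csnd (φC M f fs) j (j - 1) hq y)
  obtain ⟨n₂, x₂, hx₂⟩ := D.surj i (j - 1) (by omega) w
  let N := max n₁ (max n₂ k)
  have h1 : n₁ ≤ N := le_max_left _ _
  have h2 : n₂ ≤ N := (le_max_left _ _).trans (le_max_right _ _)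
  have h3 : k ≤ N := (le_max_right _ _).trans (le_max_right _ _)
  let x₁' := ((koszulTrans M n₁ N h1 fs).f (i + 1)).hom x₁
  let x₂' := f ^ (N - k) • ((koszulTrans M n₂ N h2 fs).f i).hom x₂
  let z := kinl (ψn M f fs N) i (i + 1) rfl x₁' + kinr (ψn M f fs N) i x₂'
  have hz : θ0 f D N i (i + 1) j (j - 1) rfl hq hj z = y := by
    apply c_ext' (φC M f fs) j (j - 1) hq
    · rw [cfst_θ0, map_add, kfst_kinl, kfst_kinr, add_zero, D.trans, hx₁]
    · rw [csnd_θ0, map_add, ksnd_kinl, ksnd_kinr, zero_add, map_smul, D.trans, hx₂,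
        locn_smul_pow f (Cf M fs) k N h3, hw]
  refine ⟨N, (i.negOnePow : ℤˣ) • z, ?_⟩
  have key : θ0 f D N i (i + 1) j (j - 1) rfl hq hj ((i.negOnePow : ℤˣ) • z) =
      (i.negOnePow : ℤˣ) • θ0 f D N i (i + 1) j (j - 1) rfl hq hj z := by
    simp only [Units.smul_def, map_zsmul]
  rw [θ1_apply, key, smul_smul, Int.units_mul_self, one_smul, hz]

theorem θ1_ker (n : ℕ) (i j : ℤ) (hj : i + (r + 1) = j) (z : (mappingCone (ψn M f fs n)).X i)
    (hz : θ1 f D n i j hj z = 0) :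
    ∃ (m : ℕ) (h : n ≤ m), ((koszulTrans M n m h (f :: fs)).f i).hom z = 0 := by
  have hq : (j - 1) + 1 = j := by omega
  have hz0 : θ0 f D n i (i + 1) j (j - 1) rfl hq hj z = 0 := by
    rw [θ1_apply] at hz
    have := congrArg (fun w => (i.negOnePow : ℤˣ) • w) hz
    simp only [smul_smul, Int.units_mul_self, one_smul, smul_zero] at this
    exact this
  have e1 : D.θ n (i + 1) j (by omega) (kfst (ψn M f fs n) i (i + 1) rfl z) = 0 := by
    rw [← cfst_θ0 f D n i (i + 1) j (j - 1) rfl hq hj z, hz0, map_zero]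
  have e2 : locn f (Cf M fs) n (j - 1) (D.θ n i (j - 1) (by omega) (ksnd (ψn M f fs n) i z)) = 0 := by
    rw [← csnd_θ0 f D n i (i + 1) j (j - 1) rfl hq hj z, hz0, map_zero]
  obtain ⟨m₁, hm₁, k₁⟩ := D.ker n (i + 1) j (by omega) _ e1
  obtain ⟨k, hk⟩ := locn_eq_zero f (Cf M fs) n (j - 1) _ e2
  rw [← map_smul] at hk
  obtain ⟨m₂, hm₂, k₂⟩ := D.ker n i (j - 1) (by omega) _ hk
  let N := max m₁ (max m₂ (n + k))
  have h1 : m₁ ≤ N := le_max_left _ _
  have h2 : m₂ ≤ N := (le_max_left _ _).trans (le_max_right _ _)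
  have h3 : n + k ≤ N := (le_max_right _ _).trans (le_max_right _ _)
  have hnN : n ≤ N := hm₁.trans h1
  refine ⟨N, hnN, ?_⟩
  apply k_ext (ψn M f fs N) i (i + 1) rfl
  · rw [kfst_T', ← T_T_apply n m₁ N hm₁ h1, k₁, map_zero]
  · rw [ksnd_T']
    have e : f ^ (N - n) = f ^ (N - n - k) * f ^ k := by
      rw [← pow_add]; congr 1; omega
    rw [e, mul_smul, ← map_smul, ← T_T_apply n m₂ N hm₂ h2, k₂, map_zero, smul_zero]

end Groth.Agent.Helper17.KC
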