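import Groth.Agent.Lib.Helper17.KC5
import Groth.Agent.Lib.Helper17.CE5
import Groth.Agent.S17778

/-!
# helper17: S5169, S5173 (Koszul colimit cohomology = local cohomology over Noetherian rings)
-/

open CategoryTheory Limits
universe u

namespace Groth.Agent.Helper17.KC
open DerCA CohIII Groth.Agent.Helper17.CE Groth.Agent.Helper8.LC

theorem main5173 (A : Type u) [CommRing A] [IsNoetherianRing A] (fs : List A) (M : Type u) [AddCommGroup M] [Module A M] (i : ℕ) : Nonempty (LocCoh.H (Ideal.span {a | a ∈ fs}) i M ≃ₗ[A] CohIII.koszulHLim fs (ModuleCat.of A M) i) := by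
  obtain ⟨e1⟩ := exists_equiv_cech fs i (RMod.mk M)
  obtain ⟨e2⟩ := nonempty_koszulHLim_equiv (ModuleCat.of A M) fs i
  exact ⟨e1.symm.trans e2.symm⟩

theorem main5169 (A : Type u) [CommRing A] [IsNoetherianRing A] (fs : List A) (M : Type u) [AddCommGroup M] [Module A M] (hM : Module.Injective A M) (i : ℕ) (hi : 0 < i) : Subsingleton (CohIII.koszulHLim fs (ModuleCat.of A M) i) := by
  obtain ⟨e2⟩ := nonempty_koszulHLim_equiv (ModuleCat.of A M) fs i
  have hz : IsZero (DerCA.extCechH fs (ModuleCat.of A M) (i : ℤ)) :=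
    Groth.Agent.S17778.result A fs M (i : ℤ) (by omega)
  have : Subsingleton (DerCA.extCechH fs (ModuleCat.of A M) (i : ℤ)) :=
    ModuleCat.subsingleton_of_isZero hz
  exact e2.toEquiv.subsingleton

end Groth.Agent.Helper17.KC
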