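import Mathlib

/-!
# Kähler differentials of finitely generated field extensions (helper17)

* `exists_basis_of_isSeparable`: a separating algebraically independent family gives a basis
  `d x_i` of `Ω[F⁄k]`.
* `rank_eq_trdeg`: over a perfect field, `dim_F Ω[F⁄k] = trdeg k F` for `F/k` finitely generated.
* `subsingleton_of_span_eq_top`, `isSeparable_of_span_eq_top`.
-/

set_option autoImplicit false

namespace Groth.Agent.Helper17.KD

open scoped TensorProduct
open KaehlerDifferential

universe u v w

theorem exists_basis_of_isSeparable {k : Type u} {F : Type v} [Field k] [Field F] [Algebra k F]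
    {ι : Type w} (x : ι → F) (hx : AlgebraicIndependent k x)
    [Algebra.IsSeparable (IntermediateField.adjoin k (Set.range x)) F] :
    ∃ b : Module.Basis ι F (Ω[F⁄k]), ∀ i, b i = D k F (x i) := by
  classical
  let P := MvPolynomial ι k
  let E := IntermediateField.adjoin k (Set.range x)
  let e : FractionRing P ≃ₐ[k] E := hx.aevalEquivField
  let algPE : Algebra P E :=
    (e.toRingEquiv.toRingHom.comp (algebraMap P (FractionRing P))).toAlgebra
  let algPF : Algebra P F := ((algebraMap E F).comp (algebraMap P E)).toAlgebra
  have : IsScalarTower P E F := IsScalarTower.of_algebraMap_eq (fun _ => rfl)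
  have : IsScalarTower k P E := IsScalarTower.of_algebraMap_eq (fun c => by
    show algebraMap k E c = e (algebraMap P (FractionRing P) (algebraMap k P c))
    rw [← IsScalarTower.algebraMap_apply k P (FractionRing P), e.commutes])
  have : IsScalarTower k P F := IsScalarTower.of_algebraMap_eq (fun c => by
    rw [IsScalarTower.algebraMap_apply k E F, IsScalarTower.algebraMap_apply k P E]
    rfl)
  let e' : FractionRing P ≃ₐ[P] E := AlgEquiv.ofRingEquiv (f := e.toRingEquiv) (fun _ => rfl)
  have : IsLocalization (nonZeroDivisors P) E :=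
    IsLocalization.isLocalization_of_algEquiv _ e'
  have : Algebra.FormallyEtale P E :=
    Algebra.FormallyEtale.of_isLocalization (nonZeroDivisors P)
  have : Algebra.FormallyEtale E F := Algebra.FormallyEtale.of_isSeparable E F
  have : Algebra.FormallyEtale P F := Algebra.FormallyEtale.comp P E F
  have hX : ∀ i, algebraMap P F (MvPolynomial.X i) = x i := by
    intro i
    show ((e (algebraMap P (FractionRing P) (MvPolynomial.X i)) : E) : F) = x i
    rw [hx.aevalEquivField_algebraMap_apply_coe]
    simp
  let b0 := KaehlerDifferential.mvPolynomialBasis k ι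
  let b1 : Module.Basis ι F (F ⊗[P] Ω[P⁄k]) := b0.baseChange F
  let b := b1.map (KaehlerDifferential.tensorKaehlerEquivOfFormallyEtale k P F)
  refine ⟨b, fun i => ?_⟩
  have h1 : b i = (mapBaseChange k P F) ((1 : F) ⊗ₜ[P] (D k P (MvPolynomial.X i))) := by
    have h2 : b i = (tensorKaehlerEquivOfFormallyEtale k P F) (b1 i) :=
      Module.Basis.map_apply _ _ _
    have h3 : b1 i = (1 : F) ⊗ₜ[P] (b0 i) := Module.Basis.baseChange_apply _ _ _
    have h4 : b0 i = D k P (MvPolynomial.X i) := mvPolynomialBasis_apply _ _ _
    rw [h2, h3, h4]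
    rfl
  rw [h1, mapBaseChange_tmul, one_smul, map_D, hX]

theorem rank_eq_trdeg (k : Type u) (F : Type v) [Field k] [Field F] [Algebra k F]
    [PerfectField k] [Algebra.EssFiniteType k F] :
    Module.rank F (Ω[F⁄k]) = Algebra.trdeg k F := by
  obtain ⟨s, hs, hsep⟩ := exists_isTranscendenceBasis_and_isSeparable_of_perfectField k F
  have : Algebra.IsSeparable (IntermediateField.adjoin k (Set.range ((↑) : s → F))) F := by
    convert! hsep <;> simp
  obtain ⟨b, -⟩ := exists_basis_of_isSeparable ((↑) : s → F) hs.1
  rw [← b.mk_eq_rank'', hs.cardinalMk_eq_trdeg]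

theorem subsingleton_of_span_eq_top {k : Type u} {E F : Type v} [Field k] [Field E] [Field F]
    [Algebra k E] [Algebra E F] [Algebra k F] [IsScalarTower k E F] {ι : Type w} (y : ι → E)
    (h : Submodule.span F (Set.range fun i => D k F (algebraMap E F (y i))) = ⊤) :
    Subsingleton (Ω[F⁄E]) := by
  have hzero : ∀ ω : Ω[F⁄k], KaehlerDifferential.map k E F F ω = 0 := by
    intro ω
    have hω : ω ∈ Submodule.span F (Set.range fun i => D k F (algebraMap E F (y i))) := by
      rw [h]; trivial
    refine Submodule.span_induction ?_ ?_ ?_ ?_ hω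
    · rintro _ ⟨i, rfl⟩
      simp
    · simp
    · intro a b _ _ ha hb
      rw [map_add, ha, hb, add_zero]
    · intro c a _ ha
      rw [map_smul, ha, smul_zero]
  refine ⟨fun a b => ?_⟩
  obtain ⟨a', rfl⟩ := KaehlerDifferential.map_surjective k E F a
  obtain ⟨b', rfl⟩ := KaehlerDifferential.map_surjective k E F b
  rw [hzero, hzero]

theorem isSeparable_of_subsingleton (K L : Type v) [Field K] [Field L] [Algebra K L]
    [Algebra.EssFiniteType K L] [Subsingleton (Ω[L⁄K])] : Algebra.IsSeparable K L := by
  have : Algebra.FormallyUnramified K L := ⟨inferInstance⟩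
  exact Algebra.FormallyUnramified.isSeparable K L

end Groth.Agent.Helper17.KD
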