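import Mathlib
import Groth.Agent.Lib.Helper17.KD1

/-!
# Differentials of finite extensions of function fields of dimension one (helper17)
-/

set_option autoImplicit false

namespace Groth.Agent.Helper17.KD

open scoped TensorProduct
open KaehlerDifferential

universe u v

theorem map_zero_or_injective_and_injective_iff (k : Type u) (K L : Type v)
    [Field k] [IsAlgClosed k] [Field K] [Field L] [Algebra k K] [Algebra k L] [Algebra K L]
    [IsScalarTower k K L] (hK : (⊤ : IntermediateField k K).FG)
    (hx : ∃ x : K, IsTranscendenceBasis k (fun _ : Unit => x)) [FiniteDimensional K L] :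
    (KaehlerDifferential.map k k K L = 0 ∨ Function.Injective (KaehlerDifferential.map k k K L)) ∧
      (Function.Injective (KaehlerDifferential.map k k K L) ↔ Algebra.IsSeparable K L) := by
  classical
  have : Algebra.EssFiniteType k K := IntermediateField.fg_top_iff.mp hK
  have : Algebra.EssFiniteType K L := inferInstance
  have : Algebra.EssFiniteType k L := Algebra.EssFiniteType.comp k K L
  obtain ⟨x, hx⟩ := hx
  have htK : Algebra.trdeg k K = 1 := by
    have h2 := hx.lift_cardinalMk_eq_trdeg
    simpa using h2.symm
  have htL : Algebra.trdeg k L = 1 := by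
    have h3 := _root_.trdeg_add_eq k K (A := L)
    rw [htK, _root_.trdeg_eq_zero, add_zero] at h3
    exact h3.symm
  have hK1 : Module.finrank K (Ω[K⁄k]) = 1 :=
    Module.finrank_eq_of_rank_eq (by rw [rank_eq_trdeg k K, htK]; simp)
  have hL1 : Module.finrank L (Ω[L⁄k]) = 1 :=
    Module.finrank_eq_of_rank_eq (by rw [rank_eq_trdeg k L, htL]; simp)
  set φ := KaehlerDifferential.map k k K L with hφdef
  have ha : φ = 0 ∨ Function.Injective φ := by
    by_cases h0 : φ = 0
    · exact Or.inl h0
    · right
      obtain ⟨ω₀, hω₀, hgen⟩ := finrank_eq_one_iff'.mp hK1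
      have hφω : φ ω₀ ≠ 0 := by
        intro h1
        apply h0
        refine LinearMap.ext fun w => ?_
        obtain ⟨c, rfl⟩ := hgen w
        rw [map_smul, h1, smul_zero, LinearMap.zero_apply]
      rw [injective_iff_map_eq_zero]
      intro w hw
      obtain ⟨c, rfl⟩ := hgen w
      rw [map_smul] at hw
      by_cases hc : c = 0
      · rw [hc, zero_smul]
      · exfalso
        apply hφω
        have := congrArg (fun z => c⁻¹ • z) hw
        simpa [inv_smul_smul₀ hc] using this
  refine ⟨ha, ?_, ?_⟩
  · intro hinj
    have hpos : 0 < Module.finrank K (Ω[K⁄k]) := by omega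
    have : Nontrivial (Ω[K⁄k]) := Module.nontrivial_of_finrank_pos (R := K) hpos
    obtain ⟨ω, hω⟩ := exists_ne (0 : Ω[K⁄k])
    have hφ : φ ω ≠ 0 := fun h => hω (hinj (h.trans (map_zero φ).symm))
    have hall : ∀ w : Ω[L⁄k], ∃ c : L, c • φ ω = w :=
      (finrank_eq_one_iff_of_nonzero' (φ ω) hφ).mp hL1
    have h1 : KaehlerDifferential.map k K L L (φ ω) = 0 :=
      (KaehlerDifferential.exact_mapBaseChange_map k K L (φ ω)).mpr
        ⟨(1 : L) ⊗ₜ[K] ω, by rw [mapBaseChange_tmul, one_smul]⟩
    have hz : ∀ c : Ω[L⁄K], c = 0 := by
      intro c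
      obtain ⟨c', rfl⟩ := KaehlerDifferential.map_surjective k K L c
      obtain ⟨a, rfl⟩ := hall c'
      rw [map_smul, h1, smul_zero]
    have : Subsingleton (Ω[L⁄K]) := ⟨fun a b => by rw [hz a, hz b]⟩
    exact isSeparable_of_subsingleton K L
  · intro hsep
    rcases ha with h0 | hinj
    · exfalso
      have : Algebra.FormallyEtale K L := Algebra.FormallyEtale.of_isSeparable K L
      have hsurj := (KaehlerDifferential.tensorKaehlerEquivOfFormallyEtale k K L).surjective
      have hzero : ∀ z, KaehlerDifferential.mapBaseChange k K L z = 0 := by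
        intro z
        induction z using TensorProduct.induction_on with
        | zero => simp
        | tmul b ω =>
          rw [mapBaseChange_tmul]
          have : KaehlerDifferential.map k k K L ω = 0 := by
            rw [← hφdef, h0, LinearMap.zero_apply]
          rw [this, smul_zero]
        | add a b ha hb => rw [map_add, ha, hb, add_zero]
      have hz : ∀ c : Ω[L⁄k], c = 0 := by
        intro c
        obtain ⟨c', rfl⟩ := hsurj c
        rw [tensorKaehlerEquivOfFormallyEtale_apply, hzero]
      have : Subsingleton (Ω[L⁄k]) := ⟨fun a b => by rw [hz a, hz b]⟩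
      rw [Module.finrank_zero_of_subsingleton] at hL1
      exact zero_ne_one hL1
    · exact hinj

end Groth.Agent.Helper17.KD
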