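import Mathlib
import Groth.Agent.Lib.Helper17.KD1

/-!
# Differentials of a simple inseparable extension `E[T]/(P)`, `P' = 0`
-/

set_option autoImplicit false

universe u

open Polynomial Module
open scoped TensorProduct

namespace Groth.Agent.Helper17.KI

variable (E : Type u) [Field E] (P : E[X]) [Fact (Irreducible P)]

theorem finrank_kaehler_adjoinRoot (hP : derivative P = 0) :
    finrank (AdjoinRoot P) (Ω[AdjoinRoot P⁄E]) = 1 := by
  have hP0 : P ≠ 0 := (Fact.out : Irreducible P).ne_zero
  have hle : finrank (AdjoinRoot P) (Ω[AdjoinRoot P⁄E]) ≤ 1 := by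
    apply finrank_le_one (KaehlerDifferential.D E (AdjoinRoot P) (AdjoinRoot.root P))
    intro w
    have hw : w ∈ Submodule.span (AdjoinRoot P)
        (Set.range (KaehlerDifferential.D E (AdjoinRoot P))) := by
      rw [KaehlerDifferential.span_range_derivation]; trivial
    refine Submodule.span_induction ?_ ?_ ?_ ?_ hw
    · rintro _ ⟨x, rfl⟩
      obtain ⟨q, rfl⟩ := AdjoinRoot.mk_surjective x
      rw [← AdjoinRoot.aeval_eq, Derivation.map_aeval]
      exact ⟨_, rfl⟩
    · exact ⟨0, zero_smul _ _⟩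
    · rintro x y _ _ ⟨c, rfl⟩ ⟨d, rfl⟩
      exact ⟨c + d, add_smul _ _ _⟩
    · rintro a x _ ⟨c, rfl⟩
      exact ⟨a * c, mul_smul _ _ _⟩
  have hge : 0 < finrank (AdjoinRoot P) (Ω[AdjoinRoot P⁄E]) := by
    by_contra h0
    have h0' : finrank (AdjoinRoot P) (Ω[AdjoinRoot P⁄E]) = 0 := by omega
    have : Subsingleton (Ω[AdjoinRoot P⁄E]) := Module.finrank_zero_iff.mp h0'
    have : Algebra.IsSeparable E (AdjoinRoot P) :=
      Groth.Agent.Helper17.KD.isSeparable_of_subsingleton E (AdjoinRoot P)
    have hsep := Algebra.IsSeparable.isSeparable E (AdjoinRoot.root P)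
    rw [IsSeparable, AdjoinRoot.minpoly_root hP0] at hsep
    have hd : derivative (P * C P.leadingCoeff⁻¹) = 0 := by
      rw [derivative_mul, hP, derivative_C, zero_mul, mul_zero, add_zero]
    have hunit : IsUnit (P * C P.leadingCoeff⁻¹) := by
      have := hsep
      rw [Polynomial.separable_def, hd, isCoprime_zero_right] at this
      exact this
    have hirr : Irreducible (P * C P.leadingCoeff⁻¹) := by
      rw [← AdjoinRoot.minpoly_root hP0]
      exact minpoly.irreducible (AdjoinRoot.isAlgebraic_root hP0).isIntegral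
    exact hirr.not_isUnit hunit
  omega

theorem h1Cotangent_finrank_le :
    Module.Finite (AdjoinRoot P) (Algebra.H1Cotangent E (AdjoinRoot P)) ∧
      finrank (AdjoinRoot P) (Algebra.H1Cotangent E (AdjoinRoot P)) ≤ 1 := by
  have hsurj : Function.Surjective
      (MvPolynomial.aeval (R := E) (fun _ : Unit => AdjoinRoot.root P)) := by
    intro y
    obtain ⟨q, rfl⟩ := AdjoinRoot.mk_surjective y
    refine ⟨Polynomial.aeval (MvPolynomial.X () : MvPolynomial Unit E) q, ?_⟩
    rw [← Polynomial.aeval_algHom_apply, MvPolynomial.aeval_X, AdjoinRoot.aeval_eq]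
  obtain ⟨G, hG⟩ : ∃ G : Algebra.Generators E (AdjoinRoot P) Unit, True :=
    ⟨Algebra.Generators.ofSurjective (fun _ : Unit => AdjoinRoot.root P) hsurj, trivial⟩
  have hpid : IsPrincipalIdealRing (MvPolynomial Unit E) :=
    IsPrincipalIdealRing.of_surjective
      ((MvPolynomial.uniqueAlgEquiv E Unit).symm : E[X] →+* MvPolynomial Unit E)
      (MvPolynomial.uniqueAlgEquiv E Unit).symm.surjective
  have hpid' : IsPrincipalIdealRing G.toExtension.Ring := hpid
  obtain ⟨g, hg⟩ := (IsPrincipalIdealRing.principal G.toExtension.ker).principal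
  have hgmem : g ∈ G.toExtension.ker := by
    rw [hg]
    exact Submodule.mem_span_singleton_self g
  have hcyc : ∀ w : G.toExtension.Cotangent, ∃ c : AdjoinRoot P,
      c • Algebra.Extension.Cotangent.mk ⟨g, hgmem⟩ = w := by
    intro w
    obtain ⟨⟨y, hy⟩, rfl⟩ := Algebra.Extension.Cotangent.mk_surjective w
    have hy' := hy
    rw [hg] at hy'
    obtain ⟨a, rfl⟩ := Submodule.mem_span_singleton.mp hy'
    refine ⟨algebraMap _ _ a, ?_⟩
    rw [algebraMap_smul, ← map_smul]
    rfl
  have hfinC : Module.Finite (AdjoinRoot P) G.toExtension.Cotangent :=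
    Module.Finite.of_surjective (LinearMap.toSpanSingleton (AdjoinRoot P) _
      (Algebra.Extension.Cotangent.mk ⟨g, hgmem⟩)) (fun w => by
        obtain ⟨c, hc⟩ := hcyc w
        exact ⟨c, hc⟩)
  have h1 : finrank (AdjoinRoot P) G.toExtension.Cotangent ≤ 1 := finrank_le_one _ hcyc
  have h2 : finrank (AdjoinRoot P) G.toExtension.H1Cotangent ≤
      finrank (AdjoinRoot P) G.toExtension.Cotangent :=
    LinearMap.finrank_le_finrank_of_injective G.toExtension.h1Cotangentι_injective
  have hfinH : Module.Finite (AdjoinRoot P) G.toExtension.H1Cotangent :=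
    Module.Finite.of_injective _ G.toExtension.h1Cotangentι_injective
  refine ⟨Module.Finite.of_surjective G.equivH1Cotangent.toLinearMap
    G.equivH1Cotangent.surjective, ?_⟩
  rw [← G.equivH1Cotangent.finrank_eq]
  omega

theorem main (k : Type u) [Field k] [Algebra k E] (hP : derivative P = 0)
    [Module.Finite E (Ω[E⁄k])] :
    finrank (AdjoinRoot P) (Ω[AdjoinRoot P⁄E]) = 1 ∧
      finrank E (Ω[E⁄k]) ≤ finrank (AdjoinRoot P) (Ω[AdjoinRoot P⁄k]) ∧
      finrank (AdjoinRoot P) (Ω[AdjoinRoot P⁄k]) ≤ finrank E (Ω[E⁄k]) + 1 := by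
  have h1 := finrank_kaehler_adjoinRoot E P hP
  obtain ⟨hfinH, hH⟩ := h1Cotangent_finrank_le E P
  have hexact : Function.Exact (KaehlerDifferential.mapBaseChange k E (AdjoinRoot P))
      (KaehlerDifferential.map k E (AdjoinRoot P) (AdjoinRoot P)) :=
    KaehlerDifferential.exact_mapBaseChange_map k E (AdjoinRoot P)
  have hgsurj : Function.Surjective (KaehlerDifferential.map k E (AdjoinRoot P) (AdjoinRoot P)) :=
    KaehlerDifferential.map_surjective k E (AdjoinRoot P)
  have hδ : Function.Exact (Algebra.H1Cotangent.δ k E (AdjoinRoot P))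
      (KaehlerDifferential.mapBaseChange k E (AdjoinRoot P)) :=
    Algebra.H1Cotangent.exact_δ_mapBaseChange k E (AdjoinRoot P)
  have hV : finrank (AdjoinRoot P) (AdjoinRoot P ⊗[E] Ω[E⁄k]) = finrank E (Ω[E⁄k]) :=
    Module.finrank_baseChange
  have hfinE : Module.Finite (AdjoinRoot P) (Ω[AdjoinRoot P⁄E]) := inferInstance
  have hnoeth : IsNoetherian (AdjoinRoot P) (Ω[AdjoinRoot P⁄k]) :=
    isNoetherian_of_range_eq_ker (KaehlerDifferential.mapBaseChange k E (AdjoinRoot P))
      (KaehlerDifferential.map k E (AdjoinRoot P) (AdjoinRoot P))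
      (LinearMap.exact_iff.mp hexact).symm
  have hfin : Module.Finite (AdjoinRoot P) (Ω[AdjoinRoot P⁄k]) := inferInstance
  have e1 := LinearMap.finrank_range_add_finrank_ker
    (KaehlerDifferential.map k E (AdjoinRoot P) (AdjoinRoot P))
  have e2 := LinearMap.finrank_range_add_finrank_ker
    (KaehlerDifferential.mapBaseChange k E (AdjoinRoot P))
  have e3 : finrank (AdjoinRoot P) (LinearMap.range
      (KaehlerDifferential.map k E (AdjoinRoot P) (AdjoinRoot P))) = 1 := by
    rw [LinearMap.range_eq_top.mpr hgsurj, finrank_top, h1]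
  rw [LinearMap.exact_iff.mp hexact, e3] at e1
  have e4 : finrank (AdjoinRoot P) (LinearMap.ker
      (KaehlerDifferential.mapBaseChange k E (AdjoinRoot P))) ≤ 1 := by
    rw [LinearMap.exact_iff.mp hδ]
    exact (LinearMap.finrank_range_le _).trans hH
  rw [hV] at e2
  refine ⟨h1, ?_, ?_⟩ <;> omega

end Groth.Agent.Helper17.KI
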