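import Mathlib

/-!
# K-injective complexes with injective terms and the lifting property
-/

set_option autoImplicit false

universe u v

namespace Groth.Agent.Helper17.KJ

open CategoryTheory Limits HomologicalComplex CochainComplex HomComplex

variable {A : Type u} [Category.{v} A] [Abelian A]

section Forward

theorem exists_lift_of_isKInjective (I : CochainComplex A ℤ) [I.IsKInjective]
    (hI : ∀ n, Injective (I.X n))
    (S : ShortComplex (CochainComplex A ℤ)) (hS : S.ShortExact) (hC : S.X₃.Acyclic)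
    (φ : S.X₁ ⟶ I) : ∃ ψ : S.X₂ ⟶ I, S.f ≫ ψ = φ := by
  have := hS.mono_f
  have sq : CommSq φ S.f (0 : I ⟶ I) (0 : S.X₂ ⟶ I) := ⟨by simp⟩
  have hmono : ∀ n, Mono (S.f.f n) := fun n => by
    have := hS.mono_f
    infer_instance
  have hsq : ∀ n, (sq.map (HomologicalComplex.eval _ _ n)).LiftStruct := fun n =>
    haveI : Injective (I.X n) := hI n
    haveI : Mono (S.f.f n) := hmono n
    { l := (Injective.factorThru (φ.f n) (S.f.f n) : S.X₂.X n ⟶ I.X n)
      fac_left := Injective.comp_factorThru (φ.f n) (S.f.f n)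
      fac_right := by
        show _ ≫ (0 : I ⟶ I).f n = (0 : S.X₂ ⟶ I).f n
        rw [zero_f, zero_f, comp_zero] }
  have hQ : IsColimit (CokernelCofork.ofπ S.g S.zero) := hS.gIsCokernel
  have hK : IsLimit (KernelFork.ofι (𝟙 I) (show 𝟙 I ≫ (0 : I ⟶ I) = 0 by simp)) :=
    KernelFork.IsLimit.ofId (0 : I ⟶ I) rfl
  obtain ⟨α, hα⟩ := IsKInjective.eq_δ_of_cocycle (Lifting.cocycle₁ sq hsq hQ hK) hC 0 (by simp)
  have hl : sq.HasLift := Lifting.hasLift sq hsq hQ hK α hα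
  exact ⟨sq.lift, sq.fac_left⟩

end Forward

section Backward

lemma acyclic_shift (K : CochainComplex A ℤ) (hK : K.Acyclic) (n : ℤ) : (K⟦n⟧).Acyclic := by
  intro i
  rw [HomologicalComplex.exactAt_iff_isZero_homology]
  have e : (K⟦n⟧).homology i ≅ K.homology (n + i) :=
    ((HomologicalComplex.homologyFunctor A (ComplexShape.up ℤ) 0).shiftIso n i (n + i) rfl).app K
  exact IsZero.of_iso ((hK (n + i)).isZero_homology) e

variable (I : CochainComplex A ℤ)
  (h : ∀ (S : ShortComplex (CochainComplex A ℤ)), S.ShortExact → S.X₃.Acyclic →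
    ∀ φ : S.X₁ ⟶ I, ∃ ψ : S.X₂ ⟶ I, S.f ≫ ψ = φ)

include h in
lemma isKInjective_of_lifting : I.IsKInjective := by
  refine ⟨fun {K} f hK => ?_⟩
  have hSE : (mappingCone.triangleRotateShortComplex (𝟙 K)).ShortExact :=
    HomologicalComplex.shortExact_of_degreewise_shortExact _
      (fun n => (mappingCone.triangleRotateShortComplexSplitting (𝟙 K) n).shortExact)
  have hAc : (mappingCone.triangleRotateShortComplex (𝟙 K)).X₃.Acyclic := acyclic_shift K hK 1
  obtain ⟨ψ, hψ'⟩ : ∃ ψ : mappingCone (𝟙 K) ⟶ I, mappingCone.inr (𝟙 K) ≫ ψ = f :=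
    h _ hSE hAc f
  have hα : δ (-1) 0 ((mappingCone.inl (𝟙 K)).comp (Cochain.ofHom ψ) (add_zero (-1))) =
      Cochain.ofHom f := by
    rw [δ_comp_ofHom, mappingCone.δ_inl, ← Cochain.ofHom_comp, Category.id_comp, hψ']
  exact ⟨(Cochain.equivHomotopy f 0).symm
    ⟨(mappingCone.inl (𝟙 K)).comp (Cochain.ofHom ψ) (add_zero (-1)),
      by rw [hα, Cochain.ofHom_zero, add_zero]⟩⟩

section Disk

variable (n : ℤ)

lemma rel_succ : (ComplexShape.up ℤ).Rel n (n + 1) := rfl

lemma ne_succ : n ≠ n + 1 := by omega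

/-- The disk complex `Z --𝟙--> Z` in degrees `n`, `n + 1`. -/
noncomputable abbrev disk (Z : A) : CochainComplex A ℤ :=
  HomologicalComplex.double (𝟙 Z) (rel_succ n)

/-- Functoriality of the disk complex. -/
noncomputable def diskMap {X Y : A} (f : X ⟶ Y) : disk n X ⟶ disk n Y :=
  mkHomFromDouble (rel_succ n) (ne_succ n)
    (f ≫ (doubleXIso₀ (𝟙 Y) (rel_succ n)).inv)
    (f ≫ (doubleXIso₁ (𝟙 Y) (rel_succ n) (ne_succ n)).inv)
    (by simp [double_d _ _ (ne_succ n)])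
    (fun k _ => by
      rw [double_d_eq_zero₀ _ _ _ _ (by omega : n + 1 ≠ n), comp_zero])

lemma diskMap_f₀ {X Y : A} (f : X ⟶ Y) :
    (diskMap n f).f n = (doubleXIso₀ (𝟙 X) (rel_succ n)).hom ≫ f ≫
      (doubleXIso₀ (𝟙 Y) (rel_succ n)).inv := by
  simp [diskMap]

lemma diskMap_f₁ {X Y : A} (f : X ⟶ Y) :
    (diskMap n f).f (n + 1) = (doubleXIso₁ (𝟙 X) (rel_succ n) (ne_succ n)).hom ≫ f ≫
      (doubleXIso₁ (𝟙 Y) (rel_succ n) (ne_succ n)).inv := by
  simp [diskMap]

lemma diskMap_comp_eq_zero {X Y Z : A} (f : X ⟶ Y) (g : Y ⟶ Z) (hfg : f ≫ g = 0) :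
    diskMap n f ≫ diskMap n g = 0 := by
  apply from_double_hom_ext
  · rw [comp_f, diskMap_f₀, diskMap_f₀, zero_f]
    simp [reassoc_of% hfg]
  · rw [comp_f, diskMap_f₁, diskMap_f₁, zero_f]
    simp [reassoc_of% hfg]

/-- The short complex of disk complexes. -/
noncomputable def diskSC (S₀ : ShortComplex A) : ShortComplex (CochainComplex A ℤ) :=
  ShortComplex.mk (diskMap n S₀.f) (diskMap n S₀.g) (diskMap_comp_eq_zero n _ _ S₀.zero)

lemma diskSC_shortExact (S₀ : ShortComplex A) (hS₀ : S₀.ShortExact) :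
    (diskSC n S₀).ShortExact := by
  apply HomologicalComplex.shortExact_of_degreewise_shortExact
  intro k
  by_cases hk : k = n
  · subst hk
    refine ShortComplex.shortExact_of_iso (ShortComplex.isoMk
      (doubleXIso₀ (𝟙 S₀.X₁) (rel_succ k)).symm (doubleXIso₀ (𝟙 S₀.X₂) (rel_succ k)).symm
      (doubleXIso₀ (𝟙 S₀.X₃) (rel_succ k)).symm ?_ ?_) hS₀
    · show (doubleXIso₀ (𝟙 S₀.X₁) (rel_succ k)).symm.hom ≫ (diskMap k S₀.f).f k =
        S₀.f ≫ (doubleXIso₀ (𝟙 S₀.X₂) (rel_succ k)).symm.hom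
      rw [diskMap_f₀]
      simp
    · show (doubleXIso₀ (𝟙 S₀.X₂) (rel_succ k)).symm.hom ≫ (diskMap k S₀.g).f k =
        S₀.g ≫ (doubleXIso₀ (𝟙 S₀.X₃) (rel_succ k)).symm.hom
      rw [diskMap_f₀]
      simp
  · by_cases hk' : k = n + 1
    · subst hk'
      refine ShortComplex.shortExact_of_iso (ShortComplex.isoMk
        (doubleXIso₁ (𝟙 S₀.X₁) (rel_succ n) (ne_succ n)).symm
        (doubleXIso₁ (𝟙 S₀.X₂) (rel_succ n) (ne_succ n)).symm
        (doubleXIso₁ (𝟙 S₀.X₃) (rel_succ n) (ne_succ n)).symm ?_ ?_) hS₀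
      · show (doubleXIso₁ (𝟙 S₀.X₁) (rel_succ n) (ne_succ n)).symm.hom ≫
          (diskMap n S₀.f).f (n + 1) =
          S₀.f ≫ (doubleXIso₁ (𝟙 S₀.X₂) (rel_succ n) (ne_succ n)).symm.hom
        rw [diskMap_f₁]
        simp
      · show (doubleXIso₁ (𝟙 S₀.X₂) (rel_succ n) (ne_succ n)).symm.hom ≫
          (diskMap n S₀.g).f (n + 1) =
          S₀.g ≫ (doubleXIso₁ (𝟙 S₀.X₃) (rel_succ n) (ne_succ n)).symm.hom
        rw [diskMap_f₁]
        simp
    · have h1 : IsZero (((diskSC n S₀).map (HomologicalComplex.eval A (ComplexShape.up ℤ) k)).X₁) :=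
        isZero_double_X (𝟙 _) (rel_succ n) k hk hk'
      have h2 : IsZero (((diskSC n S₀).map (HomologicalComplex.eval A (ComplexShape.up ℤ) k)).X₂) :=
        isZero_double_X (𝟙 _) (rel_succ n) k hk hk'
      have h3 : IsZero (((diskSC n S₀).map (HomologicalComplex.eval A (ComplexShape.up ℤ) k)).X₃) :=
        isZero_double_X (𝟙 _) (rel_succ n) k hk hk'
      exact ShortComplex.ShortExact.mk' (ShortComplex.exact_of_isZero_X₂ _ h2)
        ⟨fun _ _ _ => h1.eq_of_tgt _ _⟩ ⟨fun _ _ _ => h3.eq_of_src _ _⟩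

lemma disk_acyclic (Z : A) : (disk n Z).Acyclic := by
  intro k
  by_cases hk : k = n
  · subst hk
    rw [HomologicalComplex.exactAt_iff' _ (k - 1) k (k + 1) (by simp) (by simp)]
    rw [ShortComplex.exact_iff_mono _ (double_d_eq_zero₀ (𝟙 Z) (rel_succ k) _ _ (by omega : k - 1 ≠ k))]
    show Mono ((disk k Z).d k (k + 1))
    rw [double_d _ _ (ne_succ k)]
    infer_instance
  · by_cases hk' : k = n + 1
    · subst hk'
      rw [HomologicalComplex.exactAt_iff' _ n (n + 1) (n + 1 + 1) (by simp) (by simp)]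
      rw [ShortComplex.exact_iff_epi _ (double_d_eq_zero₀ (𝟙 Z) (rel_succ n) _ _ (by omega : n + 1 ≠ n))]
      show Epi ((disk n Z).d n (n + 1))
      rw [double_d _ _ (ne_succ n)]
      infer_instance
    · exact HomologicalComplex.ExactAt.of_isZero (isZero_double_X (𝟙 _) (rel_succ n) k hk hk')

end Disk

include h in
lemma injective_of_lifting (n : ℤ) : Injective (I.X n) := by
  constructor
  intro X Y g i _
  let S₀ : ShortComplex A := ShortComplex.mk i (cokernel.π i) (cokernel.condition i)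
  have hS₀ : S₀.ShortExact :=
    ShortComplex.ShortExact.mk' (ShortComplex.exact_cokernel i) ‹Mono i›
      (inferInstanceAs (Epi (cokernel.π i)))
  let φ : disk n X ⟶ I :=
    mkHomFromDouble (rel_succ n) (ne_succ n) g (g ≫ I.d n (n + 1)) (by simp) (by simp)
  obtain ⟨ψ, hψ⟩ : ∃ ψ : disk n Y ⟶ I, diskMap n i ≫ ψ = φ :=
    h (diskSC n S₀) (diskSC_shortExact n S₀ hS₀) (disk_acyclic n _) φ
  refine ⟨(doubleXIso₀ (𝟙 Y) (rel_succ n)).inv ≫ ψ.f n, ?_⟩
  have h1 : (diskMap n i).f n ≫ ψ.f n = φ.f n := by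
    rw [← comp_f]
    exact congrArg (fun t => t.f n) hψ
  rw [diskMap_f₀, mkHomFromDouble_f₀] at h1
  have h2 := congrArg (fun t => (doubleXIso₀ (𝟙 X) (rel_succ n)).inv ≫ t) h1
  simpa using h2

end Backward

theorem main11125 (I : CochainComplex A ℤ) :
    (I.IsKInjective ∧ ∀ n : ℤ, Injective (I.X n)) ↔
      ∀ (S : ShortComplex (CochainComplex A ℤ)), S.ShortExact → S.X₃.Acyclic →
        ∀ φ : S.X₁ ⟶ I, ∃ ψ : S.X₂ ⟶ I, S.f ≫ ψ = φ := by
  constructor
  · rintro ⟨hK, hI⟩ S hS hC φ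
    exact exists_lift_of_isKInjective I hI S hS hC φ
  · intro h
    exact ⟨isKInjective_of_lifting I h, injective_of_lifting I h⟩

end Groth.Agent.Helper17.KJ
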