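import Groth.Agent.Lib.Helper17.KZ6

/-!
# helper17: the top of the Koszul complex of a list; regular elements
-/

open CategoryTheory Limits HomologicalComplex CochainComplex HomComplex
universe u

namespace Groth.Agent.Helper17.KP

open Groth.Agent.Helper17.KC Groth.Agent.Helper17.KR CohIII

variable {B : Type u} [CommRing B] (M : ModuleCat.{u} B)

theorem isZero_cone_X {K L : CochainComplex (ModuleCat.{u} B) ℤ} (ψ : K ⟶ L) (i j : ℤ)
    (hij : i + 1 = j) (hK : IsZero (K.X j)) (hL : IsZero (L.X i)) :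
    IsZero ((mappingCone ψ).X i) := by
  have h1 := ModuleCat.subsingleton_of_isZero hK
  have h2 := ModuleCat.subsingleton_of_isZero hL
  have : Subsingleton ((mappingCone ψ).X i) := by
    refine subsingleton_of_forall_eq 0 fun z => ?_
    exact k_ext ψ i j hij z (Subsingleton.elim _ _) (Subsingleton.elim _ _)
  exact ModuleCat.isZero_of_subsingleton _

theorem isZero_X_pos : ∀ (l : List B) (i : ℤ), 0 < i → IsZero ((koszulCx M l).X i)
  | [], i, hi => HomologicalComplex.isZero_single_obj_X (ComplexShape.up ℤ) 0 M i (by omega)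
  | f :: l, i, hi =>
    isZero_cone_X (f • 𝟙 (koszulCx M l)) i (i + 1) rfl (isZero_X_pos l (i + 1) (by omega))
      (isZero_X_pos l i hi)

theorem subsingleton_X_pos (l : List B) (i : ℤ) (hi : 0 < i) : Subsingleton ((koszulCx M l).X i) :=
  ModuleCat.subsingleton_of_isZero (isZero_X_pos M l i hi)

theorem ex_of_isZero (K : CochainComplex (ModuleCat.{u} B) ℤ) (i : ℤ) (h : IsZero (K.X i)) :
    Ex K i := by
  intro h' j _ _ z _
  have := ModuleCat.subsingleton_of_isZero h
  exact ⟨0, Subsingleton.elim _ _⟩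

/-- evaluation at the top -/
noncomputable def ev : ∀ l : List B, (koszulCx M l).X 0 →ₗ[B] M
  | [] => (HomologicalComplex.singleObjXSelf (ComplexShape.up ℤ) 0 M).hom.hom
  | f :: l => (ev l).comp (ksnd (f • 𝟙 (koszulCx M l)) 0)

/-- the section of `ev` -/
noncomputable def sec : ∀ l : List B, M →ₗ[B] (koszulCx M l).X 0
  | [] => (HomologicalComplex.singleObjXSelf (ComplexShape.up ℤ) 0 M).inv.hom
  | f :: l => (kinr (f • 𝟙 (koszulCx M l)) 0).comp (sec l)

theorem ev_cons (f : B) (l : List B) (z : (koszulCx M (f :: l)).X 0) :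
    ev M (f :: l) z = ev M l (ksnd (f • 𝟙 (koszulCx M l)) 0 z) := rfl

theorem sec_cons (f : B) (l : List B) (m : M) :
    sec M (f :: l) m = kinr (f • 𝟙 (koszulCx M l)) 0 (sec M l m) := rfl

theorem ev_sec : ∀ (l : List B) (m : M), ev M l (sec M l m) = m
  | [], m => by
    change ((HomologicalComplex.singleObjXSelf (ComplexShape.up ℤ) 0 M).inv ≫
      (HomologicalComplex.singleObjXSelf (ComplexShape.up ℤ) 0 M).hom).hom m = m
    rw [Iso.inv_hom_id]
    rfl
  | f :: l, m => by
    rw [sec_cons, ev_cons, ksnd_kinr, ev_sec l m]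

theorem sec_ev : ∀ (l : List B) (z : (koszulCx M l).X 0), sec M l (ev M l z) = z
  | [], z => by
    change ((HomologicalComplex.singleObjXSelf (ComplexShape.up ℤ) 0 M).hom ≫
      (HomologicalComplex.singleObjXSelf (ComplexShape.up ℤ) 0 M).inv).hom z = z
    rw [Iso.hom_inv_id]
    rfl
  | f :: l, z => by
    rw [ev_cons, sec_cons, sec_ev l]
    have := subsingleton_X_pos M l 1 (by omega)
    apply k_ext' (f • 𝟙 (koszulCx M l)) 0 1 rfl
    · exact Subsingleton.elim _ _
    · rw [ksnd_kinr]

theorem ev_injective (l : List B) : Function.Injective (ev M l) := by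
  intro z z' h
  rw [← sec_ev M l z, ← sec_ev M l z', h]

end Groth.Agent.Helper17.KP
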