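import Groth.Agent.Lib.Helper17.KP1

/-!
# helper17: the top homology of the Koszul complex of a list in a ring
-/

open CategoryTheory Limits HomologicalComplex CochainComplex HomComplex
universe u

namespace Groth.Agent.Helper17.KP

open Groth.Agent.Helper17.KC Groth.Agent.Helper17.KR CohIII

variable {B : Type u} [CommRing B]

/-- the ideal generated by a list -/
abbrev sp (l : List B) : Ideal B := Ideal.span {x | x ∈ l}

theorem sp_cons (f : B) (l : List B) : sp (f :: l) = Ideal.span (insert f {x | x ∈ l}) := by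
  unfold sp
  congr 1
  ext x
  simp [List.mem_cons]

theorem mem_sp_cons (f : B) (l : List B) (x : B) :
    x ∈ sp (f :: l) ↔ ∃ a : B, ∃ z ∈ sp l, x = a * f + z := by
  rw [sp_cons, Ideal.mem_span_insert]

theorem subsingleton_X_neg_nil (M : ModuleCat.{u} B) (i : ℤ) (hi : i ≠ 0) :
    Subsingleton ((koszulCx M []).X i) :=
  ModuleCat.subsingleton_of_isZero
    (HomologicalComplex.isZero_single_obj_X (ComplexShape.up ℤ) 0 M i hi)

theorem ev_d_mem : ∀ (l : List B) (w : (koszulCx (ModuleCat.of B B) l).X (-1)),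
    ev (ModuleCat.of B B) l (((koszulCx (ModuleCat.of B B) l).d (-1) 0).hom w) ∈ sp l
  | [], w => by
    have := subsingleton_X_neg_nil (ModuleCat.of B B) (-1) (by omega)
    rw [Subsingleton.elim w 0, map_zero, map_zero]
    exact Ideal.zero_mem _
  | f :: l, w => by
    have key : ksnd (f • 𝟙 (koszulCx (ModuleCat.of B B) l)) 0
        (((koszulCx (ModuleCat.of B B) (f :: l)).d (-1) 0).hom w) =
        f • kfst (f • 𝟙 (koszulCx (ModuleCat.of B B) l)) (-1) 0 (by omega) w +
          ((koszulCx (ModuleCat.of B B) l).d (-1) 0).hom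
            (ksnd (f • 𝟙 (koszulCx (ModuleCat.of B B) l)) (-1) w) :=
      ksnd_d (f • 𝟙 (koszulCx (ModuleCat.of B B) l)) (-1) 0 (by omega) w
    rw [ev_cons, key, map_add, map_smul, mem_sp_cons]
    exact ⟨_, _, ev_d_mem l _, by rw [smul_eq_mul, mul_comm]⟩

theorem exists_d_eq_of_ev_mem : ∀ (l : List B) (z : (koszulCx (ModuleCat.of B B) l).X 0),
    ev (ModuleCat.of B B) l z ∈ sp l →
      ∃ w : (koszulCx (ModuleCat.of B B) l).X (-1),
        ((koszulCx (ModuleCat.of B B) l).d (-1) 0).hom w = z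
  | [], z, hz => by
    refine ⟨0, ?_⟩
    rw [map_zero]
    apply ev_injective (ModuleCat.of B B) []
    have h0 : sp ([] : List B) = ⊥ := by
      unfold sp
      simp
    rw [h0, Ideal.mem_bot] at hz
    rw [hz, map_zero]
  | f :: l, z, hz => by
    rw [ev_cons, mem_sp_cons] at hz
    obtain ⟨a, y', hy', hz⟩ := hz
    have h1 : ev (ModuleCat.of B B) l (ksnd (f • 𝟙 (koszulCx (ModuleCat.of B B) l)) 0 z -
        f • sec (ModuleCat.of B B) l a) ∈ sp l := by
      rw [map_sub, map_smul, ev_sec, hz, smul_eq_mul, mul_comm a f, add_sub_cancel_left]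
      exact hy'
    obtain ⟨w', hw'⟩ := exists_d_eq_of_ev_mem l _ h1
    have hW1 : kfst (f • 𝟙 (koszulCx (ModuleCat.of B B) l)) (-1) 0 (by omega)
        (kinl (f • 𝟙 (koszulCx (ModuleCat.of B B) l)) (-1) 0 (by omega)
          (sec (ModuleCat.of B B) l a) +
          kinr (f • 𝟙 (koszulCx (ModuleCat.of B B) l)) (-1) w') = sec (ModuleCat.of B B) l a := by
      rw [map_add, kfst_kinl, kfst_kinr, add_zero]
    have hW2 : ksnd (f • 𝟙 (koszulCx (ModuleCat.of B B) l)) (-1)
        (kinl (f • 𝟙 (koszulCx (ModuleCat.of B B) l)) (-1) 0 (by omega)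
          (sec (ModuleCat.of B B) l a) +
          kinr (f • 𝟙 (koszulCx (ModuleCat.of B B) l)) (-1) w') = w' := by
      rw [map_add, ksnd_kinl, ksnd_kinr, zero_add]
    have key : ksnd (f • 𝟙 (koszulCx (ModuleCat.of B B) l)) 0
        (((koszulCx (ModuleCat.of B B) (f :: l)).d (-1) 0).hom
          (kinl (f • 𝟙 (koszulCx (ModuleCat.of B B) l)) (-1) 0 (by omega)
            (sec (ModuleCat.of B B) l a) +
            kinr (f • 𝟙 (koszulCx (ModuleCat.of B B) l)) (-1) w')) =
        f • sec (ModuleCat.of B B) l a +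
          ((koszulCx (ModuleCat.of B B) l).d (-1) 0).hom w' := by
      have h := ksnd_d (f • 𝟙 (koszulCx (ModuleCat.of B B) l)) (-1) 0 (by omega)
        (kinl (f • 𝟙 (koszulCx (ModuleCat.of B B) l)) (-1) 0 (by omega)
            (sec (ModuleCat.of B B) l a) +
            kinr (f • 𝟙 (koszulCx (ModuleCat.of B B) l)) (-1) w')
      rw [hW1, hW2] at h
      exact h
    refine ⟨kinl (f • 𝟙 (koszulCx (ModuleCat.of B B) l)) (-1) 0 (by omega)
            (sec (ModuleCat.of B B) l a) +
            kinr (f • 𝟙 (koszulCx (ModuleCat.of B B) l)) (-1) w', ?_⟩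
    have := subsingleton_X_pos (ModuleCat.of B B) l 1 (by omega)
    apply k_ext' (f • 𝟙 (koszulCx (ModuleCat.of B B) l)) 0 1 rfl
    · exact Subsingleton.elim _ _
    · refine key.trans ?_
      rw [hw']
      abel

theorem ex_cons (f : B) (l : List B)
    (hl : ∀ i : ℤ, i < 0 → Ex (koszulCx (ModuleCat.of B B) l) i)
    (hreg : ∀ g : B, f * g ∈ sp l → g ∈ sp l) :
    ∀ i : ℤ, i < 0 → Ex (koszulCx (ModuleCat.of B B) (f :: l)) i := by
  intro i hi
  have hs : Surj (koszulCx (ModuleCat.of B B) l) f i := by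
    intro h j hh hj z hz
    obtain ⟨w, hw⟩ := hl i hi h j hh hj z hz
    exact ⟨0, w, by rw [map_zero], by rw [smul_zero, zero_add, hw]⟩
  rcases (show i = -1 ∨ i + 1 < 0 by omega) with rfl | hi'
  · refine ex_cone_of' (koszulCx (ModuleCat.of B B) l) f _ (smul_id_f_apply _ f) (-1) 0 (by omega)
      hs ?_
    intro h j hh hj z hz
    obtain rfl : h = -1 := by omega
    rintro ⟨w, hw⟩
    have h1 : f * ev (ModuleCat.of B B) l z ∈ sp l := by
      rw [← smul_eq_mul, ← map_smul, hw]
      exact ev_d_mem l w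
    obtain ⟨w', hw'⟩ := exists_d_eq_of_ev_mem l z (hreg _ h1)
    exact ⟨w', hw'.symm⟩
  · refine ex_cone_of' (koszulCx (ModuleCat.of B B) l) f _ (smul_id_f_apply _ f) i (i + 1) rfl
      hs ?_
    intro h j hh hj z hz _
    obtain ⟨w, hw⟩ := hl (i + 1) hi' h j hh hj z hz
    exact ⟨w, hw.symm⟩

end Groth.Agent.Helper17.KP
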