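import Groth.Agent.Lib.Helper17.KP2
import Mathlib.RingTheory.MvPolynomial.Ideal

/-!
# helper17: powers of variables in a polynomial ring form a Koszul-regular sequence
-/

open CategoryTheory Limits HomologicalComplex CochainComplex HomComplex
universe u

namespace Groth.Agent.Helper17.KP

open Groth.Agent.Helper17.KC Groth.Agent.Helper17.KR CohIII MvPolynomial

variable {σ : Type} {A : Type u} [CommRing A]

theorem mem_sp_X_pow (js : List σ) (n : ℕ) (g : MvPolynomial σ A) :
    g ∈ sp (js.map (fun k => (MvPolynomial.X k : MvPolynomial σ A) ^ n)) ↔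
      ∀ m ∈ g.support, ∃ k ∈ js, n ≤ m k := by
  classical
  have h1 : {x | x ∈ js.map (fun k => (MvPolynomial.X k : MvPolynomial σ A) ^ n)} =
      (fun s => monomial s (1 : A)) '' {s | ∃ k ∈ js, s = Finsupp.single k n} := by
    ext x
    simp only [List.mem_map, Set.mem_ofPred_eq, Set.mem_image]
    constructor
    · rintro ⟨k, hk, rfl⟩
      exact ⟨_, ⟨k, hk, rfl⟩, (X_pow_eq_monomial).symm⟩
    · rintro ⟨s, ⟨k, hk, rfl⟩, rfl⟩
      exact ⟨k, hk, X_pow_eq_monomial⟩
  unfold sp
  rw [h1, mem_ideal_span_monomial_image]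
  constructor
  · intro h m hm
    obtain ⟨s, ⟨k, hk, rfl⟩, hs⟩ := h m hm
    refine ⟨k, hk, ?_⟩
    have := hs k
    rwa [Finsupp.single_eq_same] at this
  · intro h m hm
    obtain ⟨k, hk, hkn⟩ := h m hm
    refine ⟨_, ⟨k, hk, rfl⟩, ?_⟩
    intro i
    by_cases hik : i = k
    · subst hik
      rwa [Finsupp.single_eq_same]
    · rw [Finsupp.single_eq_of_ne hik]
      exact Nat.zero_le _

theorem reg_X_pow (j : σ) (js : List σ) (hj : j ∉ js) (n : ℕ) (g : MvPolynomial σ A)
    (h : MvPolynomial.X j ^ n * g ∈ sp (js.map (fun k => (MvPolynomial.X k : MvPolynomial σ A) ^ n))) :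
    g ∈ sp (js.map (fun k => (MvPolynomial.X k : MvPolynomial σ A) ^ n)) := by
  classical
  rw [mem_sp_X_pow] at h ⊢
  intro m hm
  have hm' : Finsupp.single j n + m ∈ (MvPolynomial.X j ^ n * g).support := by
    rw [mem_support_iff, X_pow_eq_monomial, coeff_monomial_mul, one_mul]
    exact mem_support_iff.1 hm
  obtain ⟨k, hk, hkn⟩ := h _ hm'
  refine ⟨k, hk, ?_⟩
  have hkj : j ≠ k := fun e => hj (e ▸ hk)
  rwa [Finsupp.add_apply, Finsupp.single_eq_of_ne hkj.symm, zero_add] at hkn

theorem ex_X_pow (n : ℕ) : ∀ (js : List σ), js.Nodup → ∀ i : ℤ, i < 0 →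
    Ex (koszulCx (ModuleCat.of (MvPolynomial σ A) (MvPolynomial σ A))
      (js.map (fun k => (MvPolynomial.X k : MvPolynomial σ A) ^ n))) i
  | [], _, i, hi =>
    ex_of_isZero _ i (HomologicalComplex.isZero_single_obj_X (ComplexShape.up ℤ) 0 _ i (by omega))
  | j :: js, hnd, i, hi => by
    have h1 := (List.nodup_cons.1 hnd)
    exact ex_cons (MvPolynomial.X j ^ n) (js.map (fun k => (MvPolynomial.X k : MvPolynomial σ A) ^ n))
      (ex_X_pow n js h1.2) (fun g hg => reg_X_pow j js h1.1 n g hg) i hi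

theorem isKoszulRegularSeq_X (js : List σ) (hjs : js.Nodup) :
    LCI.IsKoszulRegularSeq (MvPolynomial σ A) (js.map MvPolynomial.X) := by
  intro i hi
  apply (ex_iff_isZero _ _).1
  rw [koszul_eq]
  rcases lt_or_gt_of_ne hi with h | h
  · have h1 := ex_X_pow (A := A) 1 js hjs i h
    have h2 : (js.map (fun k => (MvPolynomial.X k : MvPolynomial σ A) ^ 1)) = js.map MvPolynomial.X := by
      congr 1
      funext k
      rw [pow_one]
    rwa [h2] at h1
  · exact ex_of_isZero _ i (isZero_X_pos _ _ i h)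

theorem part1 (r : ℕ) (i : ℕ) (hi : i ≠ r + 1) :
    Subsingleton (CohIII.koszulHLim
      (List.ofFn (fun j : Fin (r + 1) => (MvPolynomial.X j : MvPolynomial (Fin (r + 1)) A)))
      (ModuleCat.of (MvPolynomial (Fin (r + 1)) A) (MvPolynomial (Fin (r + 1)) A)) i) := by
  have h1 : List.ofFn (fun j : Fin (r + 1) => (MvPolynomial.X j : MvPolynomial (Fin (r + 1)) A)) =
      (List.finRange (r + 1)).map MvPolynomial.X := List.ofFn_eq_map
  rw [h1]
  refine subsingleton_koszulHLim _ (isKoszulRegularSeq_X _ (List.nodup_finRange _)) i ?_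
  rw [List.length_map, List.length_finRange]
  exact hi

end Groth.Agent.Helper17.KP
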