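import Groth.Agent.Lib.Helper17.KP3

/-!
# helper17: the top Koszul cohomology `H^r(f^n; B) = B/(f^n)` and its direct limit
-/

open CategoryTheory Limits HomologicalComplex CochainComplex HomComplex
universe u

namespace Groth.Agent.Helper17.KP

open Groth.Agent.Helper17.KC Groth.Agent.Helper17.KR Groth.Agent.Helper17.CE CohIII

variable {B : Type u} [CommRing B]

section top

variable (K L : CochainComplex (ModuleCat.{u} B) ℤ) (d e : ℤ) (hde : d + 1 = e)

/-- every element in degree `d` is a cycle when the next term is zero -/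
noncomputable def topCyc (h : IsZero (K.X e)) : K.X d ⟶ K.cycles d :=
  K.liftCycles (𝟙 (K.X d)) e (by rw [CochainComplex.next, hde]) (h.eq_of_tgt _ _)

theorem iCycles_topCyc (h : IsZero (K.X e)) (x : K.X d) :
    (K.iCycles d).hom ((topCyc K d e hde h).hom x) = x := by
  have := K.liftCycles_i (𝟙 (K.X d)) e (by rw [CochainComplex.next, hde]) (h.eq_of_tgt _ _)
  exact congrArg (fun g => g.hom x) this

/-- the class of a top-degree element -/
noncomputable def topCl (h : IsZero (K.X e)) : K.X d →ₗ[B] K.homology d :=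
  (K.homologyπ d).hom.comp (topCyc K d e hde h).hom

theorem topCl_apply (h : IsZero (K.X e)) (x : K.X d) :
    topCl K d e hde h x = (K.homologyπ d).hom ((topCyc K d e hde h).hom x) := rfl

theorem topCl_surjective (h : IsZero (K.X e)) : Function.Surjective (topCl K d e hde h) := by
  intro y
  obtain ⟨z, rfl⟩ := homologyπ_surjective' K d y
  refine ⟨(K.iCycles d).hom z, ?_⟩
  rw [topCl_apply]
  congr 1
  apply iCycles_injective' K d
  rw [iCycles_topCyc]

theorem topCl_eq_zero_iff (c : ℤ) (hcd : c + 1 = d) (h : IsZero (K.X e)) (x : K.X d) :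
    topCl K d e hde h x = 0 ↔ ∃ y : K.X c, (K.d c d).hom y = x := by
  rw [topCl_apply, homologyπ_eq_zero_iff' K c d (by rw [CochainComplex.prev]; omega)]
  constructor
  · rintro ⟨y, hy⟩
    refine ⟨y, ?_⟩
    have := congrArg (K.iCycles d).hom hy
    rwa [iCycles_toCycles', iCycles_topCyc] at this
  · rintro ⟨y, rfl⟩
    refine ⟨y, ?_⟩
    apply iCycles_injective' K d
    rw [iCycles_toCycles', iCycles_topCyc]

variable {K L} in
theorem homologyMap_topCl (φ : K ⟶ L) (hK : IsZero (K.X e)) (hL : IsZero (L.X e)) (x : K.X d) :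
    (HomologicalComplex.homologyMap φ d).hom (topCl K d e hde hK x) =
      topCl L d e hde hL ((φ.f d).hom x) := by
  rw [topCl_apply, topCl_apply, homologyMap_π']
  congr 1
  apply iCycles_injective' L d
  rw [iCycles_cyclesMap', iCycles_topCyc, iCycles_topCyc]

end top

/-- the class of a ring element in the top Koszul cohomology -/
noncomputable def cl (l : List B) : B →ₗ[B] (koszulCx (ModuleCat.of B B) l).homology 0 :=
  (topCl (koszulCx (ModuleCat.of B B) l) 0 1 (by omega) (isZero_X_pos _ l 1 (by omega))).comp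
    (sec (ModuleCat.of B B) l)

theorem cl_apply (l : List B) (g : B) :
    cl l g = topCl (koszulCx (ModuleCat.of B B) l) 0 1 (by omega) (isZero_X_pos _ l 1 (by omega))
      (sec (ModuleCat.of B B) l g) := rfl

theorem cl_surjective (l : List B) : Function.Surjective (cl l) := by
  intro y
  obtain ⟨z, rfl⟩ := topCl_surjective _ 0 1 (by omega) (isZero_X_pos _ l 1 (by omega)) y
  exact ⟨ev _ l z, by rw [cl_apply, sec_ev]⟩

theorem cl_eq_zero_iff (l : List B) (g : B) : cl l g = 0 ↔ g ∈ sp l := by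
  rw [cl_apply, topCl_eq_zero_iff _ 0 1 (by omega) (-1) (by omega)]
  constructor
  · rintro ⟨y, hy⟩
    have := ev_d_mem l y
    rwa [hy, ev_sec] at this
  · intro hg
    exact exists_d_eq_of_ev_mem l _ (by rwa [ev_sec])

theorem ev_koszulTrans (n m : ℕ) (h : n ≤ m) :
    ∀ (l : List B) (z : (koszulCx (ModuleCat.of B B) (l.map (· ^ n))).X 0),
      ev (ModuleCat.of B B) (l.map (· ^ m)) (((koszulTrans (ModuleCat.of B B) n m h l).f 0).hom z) =
        l.prod ^ (m - n) * ev (ModuleCat.of B B) (l.map (· ^ n)) z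
  | [], z => by
    rw [List.prod_nil, one_pow, one_mul]
    rfl
  | f :: l, z => by
    have h1 := ksnd_T' (M := ModuleCat.of B B) (fs := l) f n m h 0 z
    have h2 : ev (ModuleCat.of B B) ((f :: l).map (· ^ m))
        (((koszulTrans (ModuleCat.of B B) n m h (f :: l)).f 0).hom z) =
        ev (ModuleCat.of B B) (l.map (· ^ m)) (ksnd (ψn (ModuleCat.of B B) f l m) 0
          (((koszulTrans (ModuleCat.of B B) n m h (f :: l)).f 0).hom z)) := rfl
    have h3 : ev (ModuleCat.of B B) ((f :: l).map (· ^ n)) z =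
        ev (ModuleCat.of B B) (l.map (· ^ n)) (ksnd (ψn (ModuleCat.of B B) f l n) 0 z) := rfl
    rw [h2, h1, map_smul, ev_koszulTrans n m h l, h3, List.prod_cons, mul_pow, smul_eq_mul,
      mul_assoc]

section limit

variable (l : List B)

/-- the `n`-th top Koszul cohomology -/
abbrev Hn (d : ℤ) (n : ℕ) : Type u :=
  ((koszulCx (ModuleCat.of B B) (l.map (· ^ n))).homology d : ModuleCat.{u} B)

/-- the transition maps -/
noncomputable abbrev τ (d : ℤ) (n m : ℕ) (h : n ≤ m) : Hn l d n →ₗ[B] Hn l d m :=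
  (HomologicalComplex.homologyMap (koszulTrans (ModuleCat.of B B) n m h l) d).hom

theorem τ_cl (n m : ℕ) (h : n ≤ m) (g : B) :
    τ l 0 n m h (cl (l.map (· ^ n)) g) = cl (l.map (· ^ m)) (l.prod ^ (m - n) * g) := by
  rw [cl_apply, cl_apply]
  refine (homologyMap_topCl 0 1 (by omega) (koszulTrans (ModuleCat.of B B) n m h l)
    (isZero_X_pos _ _ 1 (by omega)) (isZero_X_pos _ _ 1 (by omega)) _).trans ?_
  congr 1
  apply ev_injective
  rw [ev_koszulTrans, ev_sec, ev_sec]

theorem directedSystem :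
    DirectedSystem (fun n => Hn l 0 n) (fun n m h => ⇑(τ l 0 n m h)) where
  map_self n x := by
    obtain ⟨g, rfl⟩ := cl_surjective _ x
    rw [τ_cl, Nat.sub_self, pow_zero, one_mul]
  map_map k j i hij hjk x := by
    obtain ⟨g, rfl⟩ := cl_surjective _ x
    rw [τ_cl, τ_cl, τ_cl, ← mul_assoc, ← pow_add]
    congr 3
    omega

/-- the direct limit -/
abbrev Lim (d : ℤ) : Type u := Module.DirectLimit (fun n => Hn l d n) (fun n m h => τ l d n m h)

/-- the class of `g / (f_1 ⋯ f_r)^n` -/
noncomputable def ofCl (n : ℕ) : B →ₗ[B] Lim l 0 :=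
  (Module.DirectLimit.of B ℕ (fun n => Hn l 0 n) (fun n m h => τ l 0 n m h) n).comp
    (cl (l.map (· ^ n)))

theorem ofCl_apply (n : ℕ) (g : B) :
    ofCl l n g = Module.DirectLimit.of B ℕ (fun n => Hn l 0 n) (fun n m h => τ l 0 n m h) n
      (cl (l.map (· ^ n)) g) := rfl

theorem exists_ofCl (x : Lim l 0) : ∃ n g, ofCl l n g = x := by
  obtain ⟨n, y, rfl⟩ := Module.DirectLimit.exists_of x
  obtain ⟨g, rfl⟩ := cl_surjective _ y
  exact ⟨n, g, rfl⟩

theorem ofCl_trans (n m : ℕ) (h : n ≤ m) (g : B) :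
    ofCl l m (l.prod ^ (m - n) * g) = ofCl l n g := by
  rw [ofCl_apply, ofCl_apply, ← τ_cl l n m h, Module.DirectLimit.of_f]

theorem ofCl_eq_zero_iff (n : ℕ) (g : B) :
    ofCl l n g = 0 ↔ ∃ m, ∃ _ : n ≤ m, l.prod ^ (m - n) * g ∈ sp (l.map (· ^ m)) := by
  constructor
  · intro h
    rw [ofCl_apply] at h
    haveI := directedSystem l
    obtain ⟨m, hnm, hm⟩ := Module.DirectLimit.of.zero_exact h
    refine ⟨m, hnm, ?_⟩
    rw [τ_cl, cl_eq_zero_iff] at hm
    exact hm
  · rintro ⟨m, hnm, hm⟩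
    rw [← ofCl_trans l n m hnm, ofCl_apply, (cl_eq_zero_iff _ _).2 hm, map_zero]

end limit

end Groth.Agent.Helper17.KP
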