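import Groth.Agent.Lib.Helper17.KP4

/-!
# helper17: the top direct-limit Koszul cohomology of the variables of a polynomial ring is free
-/

open CategoryTheory Limits HomologicalComplex CochainComplex HomComplex
universe u

namespace Groth.Agent.Helper17.KP

open Groth.Agent.Helper17.KC Groth.Agent.Helper17.KR Groth.Agent.Helper17.CE CohIII MvPolynomial

attribute [local instance] RestrictScalars.moduleOrig

variable (A : Type u) [CommRing A] (r : ℕ)

/-- the list of variables -/
noncomputable abbrev T : List (MvPolynomial (Fin (r + 1)) A) :=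
  List.ofFn (fun j : Fin (r + 1) => (MvPolynomial.X j : MvPolynomial (Fin (r + 1)) A))

/-- the exponent vector `(1, …, 1)` -/
noncomputable def one : Fin (r + 1) →₀ ℕ := ∑ k : Fin (r + 1), Finsupp.single k 1

theorem one_apply (k : Fin (r + 1)) : one r k = 1 := by
  classical
  unfold one
  rw [Finsupp.finsetSum_apply]
  simp [Finsupp.single_apply]

theorem T_prod : (T A r).prod = monomial (one r) 1 := by
  unfold T one
  rw [List.prod_ofFn, monomial_sum_one]
  rfl

theorem T_prod_pow (a : ℕ) : (T A r).prod ^ a = monomial (a • one r) 1 := by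
  rw [T_prod, monomial_pow, one_pow]

theorem mem_sp_T_pow (m : ℕ) (g : MvPolynomial (Fin (r + 1)) A) :
    g ∈ sp ((T A r).map (· ^ m)) ↔ ∀ e ∈ g.support, ∃ k, m ≤ e k := by
  have h1 : (T A r).map (· ^ m) = (List.finRange (r + 1)).map
      (fun k => (MvPolynomial.X k : MvPolynomial (Fin (r + 1)) A) ^ m) := by
    unfold T
    rw [List.ofFn_eq_map, List.map_map]
    rfl
  rw [h1, mem_sp_X_pow]
  constructor
  · intro h e he
    obtain ⟨k, _, hk⟩ := h e he
    exact ⟨k, hk⟩
  · intro h e he
    obtain ⟨k, hk⟩ := h e he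
    exact ⟨k, List.mem_finRange k, hk⟩

theorem mem_sp_of_prod_pow_mul (n a : ℕ) (g : MvPolynomial (Fin (r + 1)) A)
    (h : (T A r).prod ^ a * g ∈ sp ((T A r).map (· ^ (n + a)))) :
    g ∈ sp ((T A r).map (· ^ n)) := by
  rw [mem_sp_T_pow] at h ⊢
  intro e he
  have he' : a • one r + e ∈ ((T A r).prod ^ a * g).support := by
    rw [mem_support_iff, T_prod_pow, coeff_monomial_mul, one_mul]
    exact mem_support_iff.1 he
  obtain ⟨k, hk⟩ := h _ he'
  refine ⟨k, ?_⟩
  rw [Finsupp.add_apply, Finsupp.smul_apply, one_apply, smul_eq_mul, mul_one] at hk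
  omega

theorem ofCl_T_eq_zero_iff (n : ℕ) (g : MvPolynomial (Fin (r + 1)) A) :
    ofCl (T A r) n g = 0 ↔ ∀ e ∈ g.support, ∃ k, n ≤ e k := by
  rw [ofCl_eq_zero_iff, ← mem_sp_T_pow]
  constructor
  · rintro ⟨m, hnm, hm⟩
    apply mem_sp_of_prod_pow_mul A r n (m - n)
    rwa [Nat.add_sub_cancel' hnm]
  · intro h
    refine ⟨n, le_rfl, ?_⟩
    rw [Nat.sub_self, pow_zero, one_mul]
    exact h

/-- the exponent vector `N - 1 - c` -/
noncomputable def E (N : ℕ) (c : Fin (r + 1) → ℕ) : Fin (r + 1) →₀ ℕ :=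
  Finsupp.equivFunOnFinite.symm (fun k => N - 1 - c k)

theorem E_apply (N : ℕ) (c : Fin (r + 1) → ℕ) (k : Fin (r + 1)) : E r N c k = N - 1 - c k := rfl

/-- a bound for the exponents -/
def Nc (c : Fin (r + 1) → ℕ) : ℕ := Finset.univ.sup c + 1

theorem lt_Nc (c : Fin (r + 1) → ℕ) (k : Fin (r + 1)) : c k < Nc r c :=
  Nat.lt_succ_of_le (Finset.le_sup (f := c) (Finset.mem_univ k))

/-- the `A`-linear class map -/
noncomputable def clA (N : ℕ) : MvPolynomial (Fin (r + 1)) A →ₗ[A]
    RestrictScalars A (MvPolynomial (Fin (r + 1)) A) (Lim (T A r) 0) :=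
  LinearMap.restrictScalars A
    (show MvPolynomial (Fin (r + 1)) A →ₗ[MvPolynomial (Fin (r + 1)) A]
      RestrictScalars A (MvPolynomial (Fin (r + 1)) A) (Lim (T A r) 0) from ofCl (T A r) N)

theorem clA_apply (N : ℕ) (g : MvPolynomial (Fin (r + 1)) A) :
    clA A r N g = ofCl (T A r) N g := rfl

theorem clA_eq_zero_iff (n : ℕ) (g : MvPolynomial (Fin (r + 1)) A) :
    clA A r n g = 0 ↔ ∀ e ∈ g.support, ∃ k, n ≤ e k :=
  ofCl_T_eq_zero_iff A r n g

theorem clA_trans (n m : ℕ) (h : n ≤ m) (g : MvPolynomial (Fin (r + 1)) A) :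
    clA A r m (monomial ((m - n) • one r) 1 * g) = clA A r n g := by
  rw [clA_apply, clA_apply, ← T_prod_pow]
  exact ofCl_trans (T A r) n m h g

theorem exists_clA (x : RestrictScalars A (MvPolynomial (Fin (r + 1)) A) (Lim (T A r) 0)) :
    ∃ n g, clA A r n g = x :=
  exists_ofCl (T A r) x

/-- the basis vectors -/
noncomputable def v (c : Fin (r + 1) → ℕ) :
    RestrictScalars A (MvPolynomial (Fin (r + 1)) A) (Lim (T A r) 0) :=
  clA A r (Nc r c) (monomial (E r (Nc r c) c) 1)

theorem v_eq (c : Fin (r + 1) → ℕ) (N : ℕ) (hN : Nc r c ≤ N) :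
    clA A r N (monomial (E r N c) 1) = v A r c := by
  have hE : (N - Nc r c) • one r + E r (Nc r c) c = E r N c := by
    ext k
    rw [Finsupp.add_apply, Finsupp.smul_apply, one_apply, E_apply, E_apply, smul_eq_mul, mul_one]
    have := lt_Nc r c k
    omega
  unfold v
  rw [← clA_trans A r (Nc r c) N hN, monomial_mul, one_mul, hE]

theorem clA_monomial_mem (n : ℕ) (e : Fin (r + 1) →₀ ℕ) :
    clA A r n (monomial e 1) ∈ Submodule.span A (Set.range (v A r)) := by
  classical
  by_cases h : ∃ k, n ≤ e k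
  · have : clA A r n (monomial e (1 : A)) = 0 := by
      rw [clA_eq_zero_iff]
      intro e' he'
      have := Finset.mem_singleton.1 (support_monomial_subset he')
      rw [this]
      exact h
    rw [this]
    exact Submodule.zero_mem _
  · push Not at h
    have hc : Nc r (fun k => n - 1 - e k) ≤ n := by
      unfold Nc
      have h0 := h 0
      have : Finset.univ.sup (fun k => n - 1 - e k) ≤ n - 1 :=
        Finset.sup_le (fun k _ => Nat.sub_le _ _)
      omega
    have he : E r n (fun k => n - 1 - e k) = e := by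
      ext k
      rw [E_apply]
      have := h k
      omega
    have := v_eq A r (fun k => n - 1 - e k) n hc
    rw [he] at this
    rw [this]
    exact Submodule.subset_span ⟨_, rfl⟩

theorem span_v : ⊤ ≤ Submodule.span A (Set.range (v A r)) := by
  rintro x -
  obtain ⟨n, g, rfl⟩ := exists_clA A r x
  induction g using MvPolynomial.induction_on' with
  | monomial e a =>
    have : (monomial e a : MvPolynomial (Fin (r + 1)) A) = a • monomial e 1 := by
      rw [smul_monomial, smul_eq_mul, mul_one]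
    rw [this, map_smul]
    exact Submodule.smul_mem _ _ (clA_monomial_mem A r n e)
  | add p q hp hq =>
    rw [map_add]
    exact Submodule.add_mem _ hp hq

theorem linearIndependent_v : LinearIndependent A (v A r) := by
  classical
  refine linearIndependent_iff'ₛ.2 ?_
  intro s f g hs c₀ hc₀
  set N := s.sup (Nc r) with hN
  have hNc : ∀ c ∈ s, Nc r c ≤ N := fun c hc => Finset.le_sup (f := Nc r) hc
  have h1 : ∀ a : (Fin (r + 1) → ℕ) → A,
      ∑ c ∈ s, a c • v A r c = clA A r N (∑ c ∈ s, monomial (E r N c) (a c)) := by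
    intro a
    rw [map_sum]
    refine Finset.sum_congr rfl (fun c hc => ?_)
    have : (monomial (E r N c) (a c) : MvPolynomial (Fin (r + 1)) A) =
        a c • monomial (E r N c) 1 := by
      rw [smul_monomial, smul_eq_mul, mul_one]
    rw [this, map_smul, v_eq A r c N (hNc c hc)]
  rw [h1 f, h1 g] at hs
  have hs' : ofCl (T A r) N ((∑ c ∈ s, monomial (E r N c) (f c)) -
      (∑ c ∈ s, monomial (E r N c) (g c))) = 0 := by
    rw [map_sub, sub_eq_zero]
    exact hs
  rw [ofCl_T_eq_zero_iff] at hs'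
  have hinj : ∀ c ∈ s, c ≠ c₀ → E r N c ≠ E r N c₀ := by
    intro c hc hcc heq
    apply hcc
    funext k
    have h2 := DFunLike.congr_fun heq k
    rw [E_apply, E_apply] at h2
    have h3 := lt_Nc r c k
    have h4 := lt_Nc r c₀ k
    have h5 := hNc c hc
    have h6 := hNc c₀ hc₀
    omega
  have hcoef : ∀ a : (Fin (r + 1) → ℕ) → A,
      coeff (E r N c₀) (∑ c ∈ s, monomial (E r N c) (a c)) = a c₀ := by
    intro a
    rw [coeff_sum, Finset.sum_eq_single_of_mem c₀ hc₀, coeff_monomial, if_pos rfl]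
    intro c hc hcc
    rw [coeff_monomial, if_neg (hinj c hc hcc)]
  by_contra hne
  have hmem : E r N c₀ ∈ ((∑ c ∈ s, monomial (E r N c) (f c)) -
      (∑ c ∈ s, monomial (E r N c) (g c))).support := by
    rw [mem_support_iff, coeff_sub, hcoef f, hcoef g, sub_ne_zero]
    exact hne
  obtain ⟨k, hk⟩ := hs' _ hmem
  rw [E_apply] at hk
  have h4 := lt_Nc r c₀ k
  have h6 := hNc c₀ hc₀
  omega

theorem free_lim_zero :
    Module.Free A (RestrictScalars A (MvPolynomial (Fin (r + 1)) A) (Lim (T A r) 0)) :=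
  Module.Free.of_basis (Module.Basis.mk (linearIndependent_v A r) (span_v A r))

theorem free_lim (d : ℤ) (hd : d = 0) :
    Module.Free A (RestrictScalars A (MvPolynomial (Fin (r + 1)) A) (Lim (T A r) d)) := by
  subst hd
  exact free_lim_zero A r

theorem main4475 (A : Type u) [CommRing A] (r : ℕ) :
    (∀ i : ℕ, i ≠ r + 1 →
      Subsingleton (CohIII.koszulHLim (List.ofFn (fun j : Fin (r + 1) => (MvPolynomial.X j : MvPolynomial (Fin (r + 1)) A)))
        (ModuleCat.of (MvPolynomial (Fin (r + 1)) A) (MvPolynomial (Fin (r + 1)) A)) i)) ∧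
    Module.Free A (RestrictScalars A (MvPolynomial (Fin (r + 1)) A)
      (CohIII.koszulHLim (List.ofFn (fun j : Fin (r + 1) => (MvPolynomial.X j : MvPolynomial (Fin (r + 1)) A)))
        (ModuleCat.of (MvPolynomial (Fin (r + 1)) A) (MvPolynomial (Fin (r + 1)) A)) (r + 1))) := by
  refine ⟨fun i hi => part1 r i hi, ?_⟩
  exact free_lim A r _ (by simp)

end Groth.Agent.Helper17.KP
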