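import Mathlib
import Groth.Agent.Lib.Helper17.KR2

/-!
# Regularity versus infinitesimal lifting against finite local algebras
-/

set_option autoImplicit false

universe u

open scoped TensorProduct
open IsLocalRing KaehlerDifferential

namespace Groth.Agent.Helper17.KR

/-- A finite module over a Noetherian local `k`-algebra with residue field `k`, killed by a power
of the maximal ideal, is finite over `k`. -/
theorem finite_of_pow_smul_eq_bot (k : Type*) [Field k] (B : Type*) [CommRing B] [IsLocalRing B]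
    [IsNoetherianRing B] [Algebra k B]
    (hres : ∀ b : B, ∃ c : k, b - algebraMap k B c ∈ maximalIdeal B) :
    ∀ (n : ℕ) (M : Type*) [AddCommGroup M] [Module B M] [Module k M] [IsScalarTower k B M]
      [Module.Finite B M],
      (maximalIdeal B ^ n • (⊤ : Submodule B M) = ⊥) → Module.Finite k M := by
  intro n
  induction n with
  | zero =>
    intro M _ _ _ _ _ h
    rw [pow_zero, Ideal.one_eq_top, Submodule.top_smul] at h
    have hM : ∀ x : M, x = 0 := fun x => by
      have : x ∈ (⊤ : Submodule B M) := Submodule.mem_top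
      rw [h] at this
      exact (Submodule.mem_bot B).mp this
    have : Subsingleton M := ⟨fun x y => by rw [hM x, hM y]⟩
    infer_instance
  | succ n ih =>
    intro M _ _ _ _ _ h
    classical
    have hN : maximalIdeal B ^ n •
        (⊤ : Submodule B (maximalIdeal B • ⊤ : Submodule B M)) = ⊥ := by
      rw [eq_bot_iff]
      intro y hy
      rw [Submodule.mem_smul_top_iff] at hy
      have h1 : (y : M) ∈ (⊥ : Submodule B M) := by
        rw [← h, pow_succ, Submodule.mul_smul]
        exact hy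
      exact (Submodule.mem_bot B).mpr (Subtype.ext ((Submodule.mem_bot B).mp h1))
    have hfinN : Module.Finite k (maximalIdeal B • ⊤ : Submodule B M) := ih _ hN
    have hfinQ : Module.Finite k (M ⧸ (maximalIdeal B • ⊤ : Submodule B M)) := by
      obtain ⟨s, hs⟩ := (Module.Finite.fg_top : (⊤ : Submodule B M).FG)
      refine ⟨⟨s.image (Submodule.mkQ (maximalIdeal B • ⊤ : Submodule B M)), ?_⟩⟩
      rw [eq_top_iff]
      rintro z -
      obtain ⟨x, rfl⟩ := Submodule.mkQ_surjective _ z
      have hx : x ∈ Submodule.span B (s : Set M) := by rw [hs]; trivial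
      induction hx using Submodule.span_induction with
      | mem x hx =>
        refine Submodule.subset_span ?_
        rw [Finset.coe_image]
        exact Set.mem_image_of_mem _ hx
      | zero => rw [map_zero]; exact Submodule.zero_mem _
      | add x y _ _ hx hy => rw [map_add]; exact Submodule.add_mem _ hx hy
      | smul b x _ hx =>
        obtain ⟨c, hc⟩ := hres b
        have h1 : b • x = c • x + (b - algebraMap k B c) • x := by
          rw [sub_smul, algebraMap_smul]; abel
        have h2 : (Submodule.mkQ (maximalIdeal B • ⊤ : Submodule B M))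
            ((b - algebraMap k B c) • x) = 0 := by
          rw [Submodule.mkQ_apply, Submodule.Quotient.mk_eq_zero]
          exact Submodule.smul_mem_smul hc Submodule.mem_top
        rw [h1, map_add, h2, add_zero, LinearMap.map_smul_of_tower]
        exact Submodule.smul_mem _ c hx
    have h1 : Module.Finite k ((maximalIdeal B • ⊤ : Submodule B M).restrictScalars k) := hfinN
    have h2 : Module.Finite k (M ⧸ (maximalIdeal B • ⊤ : Submodule B M).restrictScalars k) :=
      Module.Finite.equiv (Submodule.Quotient.restrictScalarsEquiv k _).symm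
    exact Module.Finite.of_submodule_quotient
      ((maximalIdeal B • ⊤ : Submodule B M).restrictScalars k)

/-- Krull intersection: an ideal of a Noetherian local ring is closed. -/
theorem mem_of_forall_mem_sup_pow {Q : Type*} [CommRing Q] [IsLocalRing Q] [IsNoetherianRing Q]
    (L₀ : Ideal Q) (x : Q) (h : ∀ N : ℕ, x ∈ L₀ ⊔ maximalIdeal Q ^ (N + 1)) : x ∈ L₀ := by
  have hK := Ideal.iInf_pow_smul_eq_bot_of_isLocalRing (R := Q) (M := Q ⧸ L₀) (maximalIdeal Q)
    (maximalIdeal.isMaximal Q).ne_top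
  have hx : (Ideal.Quotient.mk L₀ x) ∈
      (⨅ i : ℕ, maximalIdeal Q ^ i • ⊤ : Submodule Q (Q ⧸ L₀)) := by
    rw [Submodule.mem_iInf]
    intro i
    cases i with
    | zero => rw [pow_zero, Ideal.one_eq_top, Submodule.top_smul]; trivial
    | succ N =>
      obtain ⟨l, hl, t, ht, rfl⟩ := Submodule.mem_sup.mp (h N)
      rw [map_add, Ideal.Quotient.eq_zero_iff_mem.mpr hl, zero_add]
      have h1 : Ideal.Quotient.mk L₀ t = t • (1 : Q ⧸ L₀) := by
        rw [Algebra.smul_def, mul_one]; rfl
      rw [h1]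
      exact Submodule.smul_mem_smul ht Submodule.mem_top
  rw [hK] at hx
  exact Ideal.Quotient.eq_zero_iff_mem.mp ((Submodule.mem_bot Q).mp hx)

section Lift

variable (k : Type u) [Field k] (Q A : Type u) [CommRing Q] [CommRing A] [IsLocalRing Q]
  [IsNoetherianRing Q] [IsLocalRing A] [Algebra k Q] [Algebra k A] [Algebra Q A]
  [IsScalarTower k Q A]

theorem mem_of_lifting (hsurj : Function.Surjective (algebraMap Q A))
    (hres : ∀ a : A, ∃ c : k, a - algebraMap k A c ∈ maximalIdeal A)
    (hlift : ∀ (B' : Type u) [CommRing B'] [IsLocalRing B'] [Algebra k B'] [Module.Finite k B']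
      (J : Ideal B'), J ^ 2 = ⊥ → ∀ f : A →ₐ[k] B' ⧸ J,
        ∃ g : A →ₐ[k] B', (Ideal.Quotient.mkₐ k J).comp g = f)
    (x : Q) (hxI : x ∈ RingHom.ker (algebraMap Q A))
    (hD : D k Q x ∈ maximalIdeal Q • (⊤ : Submodule Q Ω[Q⁄k])) (N : ℕ) :
    x ∈ maximalIdeal Q * RingHom.ker (algebraMap Q A) ⊔ maximalIdeal Q ^ (N + 1) := by
  have hIm : RingHom.ker (algebraMap Q A) ≤ maximalIdeal Q :=
    IsLocalRing.le_maximalIdeal (RingHom.ker_ne_top _)
  have hpow : maximalIdeal Q ^ (N + 1) ≤ maximalIdeal Q := Ideal.pow_le_self (Nat.succ_ne_zero N)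
  have hLm : maximalIdeal Q * RingHom.ker (algebraMap Q A) ⊔ maximalIdeal Q ^ (N + 1) ≤
      maximalIdeal Q := sup_le Ideal.mul_le_left hpow
  have hLne : maximalIdeal Q * RingHom.ker (algebraMap Q A) ⊔ maximalIdeal Q ^ (N + 1) ≠ ⊤ :=
    fun h => (maximalIdeal.isMaximal Q).ne_top (top_le_iff.mp (h ▸ hLm))
  have hnt : Nontrivial (Q ⧸ (maximalIdeal Q * RingHom.ker (algebraMap Q A) ⊔
      maximalIdeal Q ^ (N + 1))) := Ideal.Quotient.nontrivial_iff.mpr hLne
  have hloc : IsLocalRing (Q ⧸ (maximalIdeal Q * RingHom.ker (algebraMap Q A) ⊔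
      maximalIdeal Q ^ (N + 1))) :=
    IsLocalRing.of_surjective' (Ideal.Quotient.mk _) Ideal.Quotient.mk_surjective
  have hLH : IsLocalHom (Ideal.Quotient.mk (maximalIdeal Q * RingHom.ker (algebraMap Q A) ⊔
      maximalIdeal Q ^ (N + 1))) :=
    IsLocalHom.of_surjective _ Ideal.Quotient.mk_surjective
  have hmax : (maximalIdeal Q).map (Ideal.Quotient.mk (maximalIdeal Q *
      RingHom.ker (algebraMap Q A) ⊔ maximalIdeal Q ^ (N + 1))) =
      maximalIdeal (Q ⧸ (maximalIdeal Q * RingHom.ker (algebraMap Q A) ⊔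
        maximalIdeal Q ^ (N + 1))) := by
    have h := Ideal.map_comap_of_surjective (Ideal.Quotient.mk (maximalIdeal Q *
      RingHom.ker (algebraMap Q A) ⊔ maximalIdeal Q ^ (N + 1))) Ideal.Quotient.mk_surjective
      (maximalIdeal (Q ⧸ (maximalIdeal Q * RingHom.ker (algebraMap Q A) ⊔
        maximalIdeal Q ^ (N + 1))))
    rwa [IsLocalRing.maximalIdeal_comap] at h
  -- residue field of `Q`
  have hresQ : ∀ y : Q, ∃ c : k, y - algebraMap k Q c ∈ maximalIdeal Q := by
    intro y
    obtain ⟨c, hc⟩ := hres (algebraMap Q A y)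
    refine ⟨c, ?_⟩
    by_contra hnot
    rw [mem_maximalIdeal, mem_nonunits_iff, not_not] at hnot
    have h1 := hnot.map (algebraMap Q A)
    rw [map_sub, ← IsScalarTower.algebraMap_apply k Q A] at h1
    exact hc h1
  have hresB : ∀ b : Q ⧸ (maximalIdeal Q * RingHom.ker (algebraMap Q A) ⊔
      maximalIdeal Q ^ (N + 1)), ∃ c : k, b - algebraMap k _ c ∈ maximalIdeal _ := by
    intro b
    obtain ⟨y, rfl⟩ := Ideal.Quotient.mk_surjective b
    obtain ⟨c, hc⟩ := hresQ y
    refine ⟨c, ?_⟩
    rw [← hmax]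
    have := Ideal.mem_map_of_mem (Ideal.Quotient.mk (maximalIdeal Q *
      RingHom.ker (algebraMap Q A) ⊔ maximalIdeal Q ^ (N + 1))) hc
    rwa [map_sub] at this
  have hfin : Module.Finite k (Q ⧸ (maximalIdeal Q * RingHom.ker (algebraMap Q A) ⊔
      maximalIdeal Q ^ (N + 1))) := by
    refine finite_of_pow_smul_eq_bot k _ hresB (N + 1) _ ?_
    rw [smul_eq_mul, Ideal.mul_top, ← hmax, ← Ideal.map_pow]
    exact Ideal.map_mk_eq_bot_of_le le_sup_right
  -- the square-zero ideal
  have hJ2 : ((RingHom.ker (algebraMap Q A) ⊔ maximalIdeal Q ^ (N + 1)).map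
      (Ideal.Quotient.mk (maximalIdeal Q * RingHom.ker (algebraMap Q A) ⊔
        maximalIdeal Q ^ (N + 1)))) ^ 2 = ⊥ := by
    rw [← Ideal.map_pow]
    refine Ideal.map_mk_eq_bot_of_le ?_
    rw [pow_two, Ideal.sup_mul, Ideal.mul_sup, Ideal.mul_sup]
    refine sup_le (sup_le ?_ ?_) (sup_le ?_ ?_)
    · exact (Ideal.mul_mono_left hIm).trans le_sup_left
    · rw [mul_comm]
      exact (Ideal.mul_mono_left hpow).trans le_sup_left
    · exact (Ideal.mul_mono_left hpow).trans le_sup_left
    · exact Ideal.mul_le_right.trans le_sup_right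
  -- the map to the quotient
  have H : RingHom.ker (IsScalarTower.toAlgHom k Q A).toRingHom ≤
      RingHom.ker ((Ideal.Quotient.mkₐ k ((RingHom.ker (algebraMap Q A) ⊔
        maximalIdeal Q ^ (N + 1)).map (Ideal.Quotient.mk (maximalIdeal Q *
          RingHom.ker (algebraMap Q A) ⊔ maximalIdeal Q ^ (N + 1))))).comp
        (Ideal.Quotient.mkₐ k (maximalIdeal Q * RingHom.ker (algebraMap Q A) ⊔
          maximalIdeal Q ^ (N + 1)))).toRingHom := by
    intro y hy
    have hy' : y ∈ RingHom.ker (algebraMap Q A) := hy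
    rw [RingHom.mem_ker]
    exact Ideal.Quotient.eq_zero_iff_mem.mpr
      (Ideal.mem_map_of_mem _ (Ideal.mem_sup_left hy'))
  have hsurj' : Function.Surjective (IsScalarTower.toAlgHom k Q A) := hsurj
  obtain ⟨g, hg⟩ := hlift _ _ hJ2
    (AlgHom.liftOfSurjective (IsScalarTower.toAlgHom k Q A) hsurj' _ H)
  have e : (Ideal.Quotient.mkₐ k ((RingHom.ker (algebraMap Q A) ⊔
        maximalIdeal Q ^ (N + 1)).map (Ideal.Quotient.mk (maximalIdeal Q *
          RingHom.ker (algebraMap Q A) ⊔ maximalIdeal Q ^ (N + 1))))).comp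
      (g.comp (IsScalarTower.toAlgHom k Q A)) =
      IsScalarTower.toAlgHom k Q _ := by
    rw [← AlgHom.comp_assoc, hg, AlgHom.liftOfSurjective_comp]
    rfl
  have hdx := derivationToSquareZeroOfLift_apply _ hJ2 (g.comp (IsScalarTower.toAlgHom k Q A)) e x
  -- the derivation kills `x`
  have hkill : ∀ (r : Q), r ∈ maximalIdeal Q → ∀ j : ((RingHom.ker (algebraMap Q A) ⊔
      maximalIdeal Q ^ (N + 1)).map (Ideal.Quotient.mk (maximalIdeal Q *
        RingHom.ker (algebraMap Q A) ⊔ maximalIdeal Q ^ (N + 1)))), r • j = 0 := by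
    intro r hr j
    apply Subtype.ext
    obtain ⟨y, hy, hyj⟩ := (Ideal.mem_map_iff_of_surjective _ Ideal.Quotient.mk_surjective).mp j.2
    rw [Submodule.coe_smul_of_tower, Submodule.coe_zero, ← hyj, Algebra.smul_def]
    change Ideal.Quotient.mk _ r * Ideal.Quotient.mk _ y = 0
    rw [← map_mul, Ideal.Quotient.eq_zero_iff_mem]
    have h1 : r * y ∈ maximalIdeal Q * (RingHom.ker (algebraMap Q A) ⊔ maximalIdeal Q ^ (N + 1)) :=
      Ideal.mul_mem_mul hr hy
    rw [Ideal.mul_sup] at h1
    have h2 : maximalIdeal Q * maximalIdeal Q ^ (N + 1) ≤ maximalIdeal Q ^ (N + 1) :=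
      Ideal.mul_le_right
    exact (sup_le_sup_left h2 _) h1
  have hzero : ∀ ω ∈ maximalIdeal Q • (⊤ : Submodule Q Ω[Q⁄k]),
      (derivationToSquareZeroOfLift _ hJ2 (g.comp (IsScalarTower.toAlgHom k Q A))
        e).liftKaehlerDifferential ω = 0 := by
    intro ω hω
    refine Submodule.smul_induction_on hω ?_ ?_
    · intro r hr ω' _
      rw [map_smul]
      exact hkill r hr _
    · intro a b ha hb
      rw [map_add, ha, hb, add_zero]
  have h0 := hzero _ hD
  rw [Derivation.liftKaehlerDifferential_comp_D] at h0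
  rw [h0] at hdx
  have hgx : (g.comp (IsScalarTower.toAlgHom k Q A)) x = 0 := by
    rw [AlgHom.comp_apply, IsScalarTower.coe_toAlgHom', (RingHom.mem_ker).mp hxI, map_zero]
  rw [hgx, Submodule.coe_zero, zero_sub, eq_comm, neg_eq_zero] at hdx
  exact Ideal.Quotient.eq_zero_iff_mem.mp hdx

theorem formallySmooth_of_lifting [Algebra.FormallySmooth k Q] [Module.Free Q Ω[Q⁄k]]
    [Module.Finite Q Ω[Q⁄k]]
    (hsurj : Function.Surjective (algebraMap Q A))
    (hres : ∀ a : A, ∃ c : k, a - algebraMap k A c ∈ maximalIdeal A)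
    (hlift : ∀ (B' : Type u) [CommRing B'] [IsLocalRing B'] [Algebra k B'] [Module.Finite k B']
      (J : Ideal B'), J ^ 2 = ⊥ → ∀ f : A →ₐ[k] B' ⧸ J,
        ∃ g : A →ₐ[k] B', (Ideal.Quotient.mkₐ k J).comp g = f) :
    Algebra.FormallySmooth k A := by
  have hFG : (RingHom.ker (algebraMap Q A)).FG :=
    (RingHom.ker (algebraMap Q A)).fg_of_isNoetherianRing
  rw [Algebra.FormallySmooth.iff_injective_cotangentComplexBaseChange_residueField Q hsurj hFG]
  have hK : Function.Surjective (algebraMap Q (ResidueField A)) := by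
    rw [IsScalarTower.algebraMap_eq Q A (ResidueField A)]
    exact IsLocalRing.residue_surjective.comp hsurj
  have hkerK : RingHom.ker (algebraMap Q (ResidueField A)) = maximalIdeal Q := by
    have : (RingHom.ker (algebraMap Q (ResidueField A))).IsMaximal :=
      RingHom.ker_isMaximal_of_surjective _ hK
    exact IsLocalRing.eq_maximalIdeal inferInstance
  rw [injective_iff_map_eq_zero]
  intro t ht
  obtain ⟨x, rfl⟩ := Groth.Agent.Helper14.RegSmooth.exists_one_tmul hK t
  rw [cotangentComplexBaseChange_tmul, one_smul, kerToTensor_apply,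
    Groth.Agent.Helper14.RegSmooth.one_tmul_eq_zero_iff hK] at ht
  have ht' : D k Q x.1 ∈ maximalIdeal Q • (⊤ : Submodule Q Ω[Q⁄k]) := by
    rw [← hkerK]
    exact ht
  rw [Groth.Agent.Helper14.RegSmooth.one_tmul_eq_zero_iff hK, hkerK, Submodule.mem_smul_top_iff,
    smul_eq_mul]
  exact mem_of_forall_mem_sup_pow _ _
    (fun N => mem_of_lifting k Q A hsurj hres hlift x.1 x.2 ht' N)

end Lift

end Groth.Agent.Helper17.KR
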