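import Mathlib
import Groth.Agent.Lib.Helper17.KR3

/-!
# Regular local rings at rational points via infinitesimal lifting
-/

set_option autoImplicit false

universe u

open scoped TensorProduct
open IsLocalRing KaehlerDifferential

namespace Groth.Agent.Helper17.KR

/-- regular, essentially of finite type over a perfect field ⟹ formally smooth -/
theorem formallySmooth_of_isRegularLocalRing (k B : Type u) [Field k] [CommRing B] [Algebra k B]
    [IsLocalRing B] [Algebra.EssFiniteType k B] [PerfectField k] [IsRegularLocalRing B] :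
    Algebra.FormallySmooth k B := by
  obtain ⟨S, hS, q, hq, hloc⟩ := exists_finiteType_localization k B
  let e : Localization.AtPrime q ≃ₐ[S] B := IsLocalization.algEquiv q.primeCompl _ _
  have hreg' : IsRegularLocalRing (Localization.AtPrime q) :=
    IsRegularLocalRing.of_ringEquiv e.symm.toRingEquiv
  have hgr : Algebra.IsGeometricallyReduced k q.ResidueField := by
    rw [Algebra.isGeometricallyReduced_field_iff]
    have h1 : IsReduced (q.ResidueField ⊗[k] AlgebraicClosure k) :=
      Groth.Agent.Helper14.isReduced_tensor_of_perfectField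
    exact isReduced_of_injective
      (Algebra.TensorProduct.comm k (AlgebraicClosure k) q.ResidueField)
      (AlgEquiv.injective _)
  have hsm : Algebra.FormallySmooth k (Localization.AtPrime q) :=
    Groth.Agent.Helper14.RegSmooth.isSmoothAt_of_regular k S q
  exact Algebra.FormallySmooth.of_equiv (e.restrictScalars k)

theorem isRegularLocalRing_of_lifting (k : Type u) [Field k] (A : Type u) [CommRing A]
    [IsLocalRing A] [Algebra k A] [Algebra.EssFiniteType k A]
    (hres : Function.Surjective (algebraMap k (ResidueField A)))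
    (hlift : ∀ (B' : Type u) [CommRing B'] [IsLocalRing B'] [Algebra k B'] [Module.Finite k B']
      (J : Ideal B'), J ^ 2 = ⊥ → ∀ f : A →ₐ[k] B' ⧸ J,
        ∃ g : A →ₐ[k] B', (Ideal.Quotient.mkₐ k J).comp g = f) :
    IsRegularLocalRing A := by
  obtain ⟨S, hS, q, hq, hloc⟩ := exists_finiteType_localization k A
  let e : Localization.AtPrime q ≃ₐ[S] A := IsLocalization.algEquiv q.primeCompl _ _
  let e' : Localization.AtPrime q ≃ₐ[k] A := e.restrictScalars k
  have hres₁ : ∀ a : Localization.AtPrime q, ∃ c : k,
      a - algebraMap k (Localization.AtPrime q) c ∈ maximalIdeal (Localization.AtPrime q) := by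
    intro a
    obtain ⟨c, hc⟩ := hres (residue A (e' a))
    refine ⟨c, ?_⟩
    have h1 : e' a - algebraMap k A c ∈ maximalIdeal A := by
      rw [← Ideal.Quotient.eq]
      exact hc.symm
    by_contra hnot
    rw [mem_maximalIdeal, mem_nonunits_iff, not_not] at hnot
    have h2 := hnot.map e'
    rw [map_sub, AlgEquiv.commutes] at h2
    exact h1 h2
  have hlift₁ : ∀ (B' : Type u) [CommRing B'] [IsLocalRing B'] [Algebra k B']
      [Module.Finite k B'] (J : Ideal B'), J ^ 2 = ⊥ →
      ∀ f : Localization.AtPrime q →ₐ[k] B' ⧸ J,
        ∃ g : Localization.AtPrime q →ₐ[k] B', (Ideal.Quotient.mkₐ k J).comp g = f := by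
    intro B' _ _ _ _ J hJ f
    obtain ⟨g, hg⟩ := hlift B' J hJ (f.comp e'.symm.toAlgHom)
    refine ⟨g.comp e'.toAlgHom, ?_⟩
    rw [← AlgHom.comp_assoc, hg, AlgHom.comp_assoc]
    ext a
    simp
  obtain ⟨n, f₀, hf₀⟩ := Algebra.FiniteType.iff_quotient_mvPolynomial''.mp hS
  set Q : Ideal (MvPolynomial (Fin n) k) := q.comap f₀.toRingHom with hQ
  haveI : Q.IsPrime := Ideal.comap_isPrime _ _
  set fP : Localization.AtPrime Q →+* Localization.AtPrime q :=
    Localization.localRingHom Q q f₀.toRingHom rfl with hfP
  have hsurj : Function.Surjective fP :=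
    RingHom.surjective_localRingHom_of_surjective f₀.toRingHom hf₀ q
  letI : Algebra (Localization.AtPrime Q) (Localization.AtPrime q) := fP.toAlgebra
  haveI : IsScalarTower k (Localization.AtPrime Q) (Localization.AtPrime q) := by
    refine IsScalarTower.of_algebraMap_eq (fun x => ?_)
    rw [RingHom.algebraMap_toAlgebra, IsScalarTower.algebraMap_apply k (MvPolynomial (Fin n) k)
      (Localization.AtPrime Q), hfP, Localization.localRingHom_to_map,
      IsScalarTower.algebraMap_apply k S (Localization.AtPrime q)]
    simp
  haveI : Algebra.FormallyEtale (MvPolynomial (Fin n) k) (Localization.AtPrime Q) :=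
    .of_isLocalization Q.primeCompl
  haveI : Algebra.FormallySmooth k (Localization.AtPrime Q) :=
    .comp _ (MvPolynomial (Fin n) k) _
  haveI : Module.Free (Localization.AtPrime Q) Ω[Localization.AtPrime Q⁄k] :=
    .of_equiv (KaehlerDifferential.tensorKaehlerEquivOfFormallyEtale k (MvPolynomial (Fin n) k)
      (Localization.AtPrime Q))
  haveI : Module.Finite (Localization.AtPrime Q) Ω[Localization.AtPrime Q⁄k] :=
    Module.Finite.equiv (KaehlerDifferential.tensorKaehlerEquivOfFormallyEtale k
      (MvPolynomial (Fin n) k) (Localization.AtPrime Q))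
  haveI : IsNoetherianRing (Localization.AtPrime Q) :=
    IsLocalization.isNoetherianRing Q.primeCompl _ inferInstance
  have hsm : Algebra.FormallySmooth k (Localization.AtPrime q) :=
    formallySmooth_of_lifting k (Localization.AtPrime Q) (Localization.AtPrime q) hsurj hres₁
      hlift₁
  have hregq : IsRegularLocalRing (Localization.AtPrime q) :=
    Groth.Agent.Helper14.RegSmooth.isRegularLocalRing_of_isSmoothAt k S q
  exact IsRegularLocalRing.of_ringEquiv e.toRingEquiv

theorem main11451 (k : Type u) [Field k] [IsAlgClosed k]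
    (A : Type u) [CommRing A] [IsLocalRing A] [Algebra k A] [Algebra.EssFiniteType k A]
    (hres : Function.Surjective (algebraMap k (IsLocalRing.ResidueField A))) :
    IsRegularLocalRing A ↔
      ∀ (B' : Type u) [CommRing B'] [IsLocalRing B'] [Algebra k B'] [Module.Finite k B']
        (J : Ideal B'), J ^ 2 = ⊥ → ∀ f : A →ₐ[k] B' ⧸ J,
          ∃ g : A →ₐ[k] B', (Ideal.Quotient.mkₐ k J).comp g = f := by
  constructor
  · intro hreg B' _ _ _ _ J hJ f
    have : Algebra.FormallySmooth k A := formallySmooth_of_isRegularLocalRing k A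
    exact Algebra.FormallySmooth.exists_lift J ⟨2, hJ⟩ f
  · exact isRegularLocalRing_of_lifting k A hres

end Groth.Agent.Helper17.KR
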