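import Groth.Agent.Lib.Helper17.KC2

/-!
# helper17: exactness of cones of scalar multiplications (elementwise)
-/

open CategoryTheory Limits HomologicalComplex CochainComplex HomComplex
universe u

namespace Groth.Agent.Helper17.KR

open Groth.Agent.Helper17.KC

variable {A : Type u} [CommRing A]

/-- elementwise exactness at `i` -/
def Ex (K : CochainComplex (ModuleCat.{u} A) ℤ) (i : ℤ) : Prop :=
  ∀ (h j : ℤ) (_ : h + 1 = i) (_ : i + 1 = j) (z : K.X i), (K.d i j).hom z = 0 →
    ∃ w : K.X h, (K.d h i).hom w = z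

theorem ex_iff_isZero (K : CochainComplex (ModuleCat.{u} A) ℤ) (i : ℤ) :
    Ex K i ↔ IsZero (K.homology i) := by
  rw [← HomologicalComplex.exactAt_iff_isZero_homology,
    HomologicalComplex.exactAt_iff' K (i - 1) i (i + 1) (by simp) (by simp),
    ShortComplex.moduleCat_exact_iff]
  constructor
  · intro h z hz
    exact h (i - 1) (i + 1) (by omega) rfl z hz
  · intro h h' j hh hj z hz
    obtain rfl : h' = i - 1 := by omega
    obtain rfl : j = i + 1 := by omega
    exact h z hz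

theorem Ex.of_iso {K K' : CochainComplex (ModuleCat.{u} A) ℤ} (e : K ≅ K') {i : ℤ} (h : Ex K i) :
    Ex K' i := by
  rw [ex_iff_isZero] at h ⊢
  exact h.of_iso ((HomologicalComplex.homologyFunctor _ _ i).mapIso e.symm)

section cone

variable (L : CochainComplex (ModuleCat.{u} A) ℤ)

/-- `a` is surjective on `H^i(L)` -/
def Surj (a : A) (i : ℤ) : Prop :=
  ∀ (h j : ℤ) (_ : h + 1 = i) (_ : i + 1 = j) (z : L.X i), (L.d i j).hom z = 0 →
    ∃ (z' : L.X i) (w : L.X h), (L.d i j).hom z' = 0 ∧ z = a • z' + (L.d h i).hom w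

/-- `a` is injective on `H^i(L)` -/
def Inj (a : A) (i : ℤ) : Prop :=
  ∀ (h j : ℤ) (_ : h + 1 = i) (_ : i + 1 = j) (z : L.X i), (L.d i j).hom z = 0 →
    (∃ w : L.X h, a • z = (L.d h i).hom w) → ∃ w' : L.X h, z = (L.d h i).hom w'

variable {L}

theorem Surj.pow {a : A} {i : ℤ} (hs : Surj L a i) (e : ℕ) : Surj L (a ^ e) i := by
  induction e with
  | zero =>
    intro h j hh hj z hz
    exact ⟨z, 0, hz, by simp⟩
  | succ e ih =>
    intro h j hh hj z hz
    obtain ⟨z', w, hz', rfl⟩ := hs h j hh hj z hz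
    obtain ⟨z'', w', hz'', rfl⟩ := ih h j hh hj z' hz'
    refine ⟨z'', a • w' + w, hz'', ?_⟩
    rw [map_add, map_smul, smul_add, smul_smul, pow_succ']
    abel

theorem Inj.pow {a : A} {i : ℤ} (hs : Inj L a i) (e : ℕ) : Inj L (a ^ e) i := by
  induction e with
  | zero =>
    intro h j hh hj z hz
    rintro ⟨w, hw⟩
    exact ⟨w, by simpa using hw⟩
  | succ e ih =>
    intro h j hh hj z hz
    rintro ⟨w, hw⟩
    have h1 : (L.d i j).hom (a ^ e • z) = 0 := by rw [map_smul, hz, smul_zero]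
    obtain ⟨w', hw'⟩ := hs h j hh hj (a ^ e • z) h1 ⟨w, by rw [smul_smul, ← pow_succ']; exact hw⟩
    exact ih h j hh hj z hz ⟨w', hw'⟩

end cone

end Groth.Agent.Helper17.KR
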