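import Groth.Agent.Lib.Helper17.KZ1

/-!
# helper17: exactness of the cone of a scalar multiplication
-/

open CategoryTheory Limits HomologicalComplex CochainComplex HomComplex
universe u

namespace Groth.Agent.Helper17.KR

open Groth.Agent.Helper17.KC

variable {A : Type u} [CommRing A]

theorem k_ext' {K L : CochainComplex (ModuleCat.{u} A) ℤ} (ψ : K ⟶ L) (i j : ℤ) (h : i + 1 = j)
    (z z' : (mappingCone ψ).X i) (h1 : kfst ψ i j h z = kfst ψ i j h z')
    (h2 : ksnd ψ i z = ksnd ψ i z') : z = z' := by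
  rw [← sub_eq_zero]
  apply k_ext ψ i j h
  · rw [map_sub, h1, sub_self]
  · rw [map_sub, h2, sub_self]

section

variable (L : CochainComplex (ModuleCat.{u} A) ℤ) (a : A) (ψ : L ⟶ L)
  (hψ : ∀ (j : ℤ) (x : L.X j), (ψ.f j).hom x = a • x)

include hψ

theorem ex_cone_of' (i j : ℤ) (hij : i + 1 = j) (hs : Surj L a i) (hi : Inj L a j) :
    Ex (mappingCone ψ) i := by
  intro h j' hh hj' z hz
  obtain rfl : j = j' := by omega
  have hdx : (L.d j (j + 1)).hom (kfst ψ i j hij z) = 0 := by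
    have := kfst_d ψ i j (j + 1) hij rfl z
    rw [hz, map_zero] at this
    exact neg_eq_zero.mp this.symm
  have hxy : a • (kfst ψ i j hij z) + (L.d i j).hom (ksnd ψ i z) = 0 := by
    have := ksnd_d ψ i j hij z
    rw [hz, map_zero, hψ] at this
    exact this.symm
  obtain ⟨w', hw'⟩ := hi i (j + 1) hij rfl _ hdx
    ⟨-(ksnd ψ i z), by rw [map_neg]; exact eq_neg_of_add_eq_zero_left hxy⟩
  have hcyc : (L.d i j).hom (ksnd ψ i z + a • w') = 0 := by
    rw [map_add, map_smul, ← hw', add_comm]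
    exact hxy
  obtain ⟨c, v, hc, hcv⟩ := hs h j hh hij (ksnd ψ i z + a • w') hcyc
  refine ⟨kinl ψ h i hh (c - w') + kinr ψ h v, ?_⟩
  have h1 : kfst ψ h i hh (kinl ψ h i hh (c - w') + kinr ψ h v) = c - w' := by
    rw [map_add, kfst_kinl, kfst_kinr, add_zero]
  have h2 : ksnd ψ h (kinl ψ h i hh (c - w') + kinr ψ h v) = v := by
    rw [map_add, ksnd_kinl, ksnd_kinr, zero_add]
  apply k_ext' ψ i j hij
  · rw [kfst_d ψ h i j hh hij, h1, map_sub, hc, zero_sub, neg_neg, ← hw']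
  · rw [ksnd_d ψ h i hh, h1, h2, hψ, smul_sub]
    have : ksnd ψ i z = a • c + (L.d h i).hom v - a • w' := by rw [← hcv]; abel
    rw [this]
    abel

theorem surj_of_ex_cone' (i : ℤ) (he : Ex (mappingCone ψ) i) : Surj L a i := by
  intro h j hh hij z hz
  have hZ : ((mappingCone ψ).d i j).hom (kinr ψ i z) = 0 := by
    apply k_ext ψ j (j + 1) rfl
    · rw [kfst_d ψ i j (j + 1) hij rfl, kfst_kinr, map_zero, neg_zero]
    · rw [ksnd_d ψ i j hij, kfst_kinr, ksnd_kinr, map_zero, zero_add, hz]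
  obtain ⟨W, hW⟩ := he h j hh hij _ hZ
  refine ⟨kfst ψ h i hh W, ksnd ψ h W, ?_, ?_⟩
  · have := kfst_d ψ h i j hh hij W
    rw [hW, kfst_kinr] at this
    exact neg_eq_zero.mp this.symm
  · have := ksnd_d ψ h i hh W
    rw [hW, ksnd_kinr, hψ] at this
    exact this

theorem inj_of_ex_cone' (i j : ℤ) (hij : i + 1 = j) (he : Ex (mappingCone ψ) i) :
    Inj L a j := by
  intro h k hh hjk z hz
  obtain rfl : i = h := by omega
  rintro ⟨w, hw⟩
  have h1 : kfst ψ i j hij (kinl ψ i j hij z - kinr ψ i w) = z := by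
    rw [map_sub, kfst_kinl, kfst_kinr, sub_zero]
  have h2 : ksnd ψ i (kinl ψ i j hij z - kinr ψ i w) = -w := by
    rw [map_sub, ksnd_kinl, ksnd_kinr, zero_sub]
  have hZ : ((mappingCone ψ).d i j).hom (kinl ψ i j hij z - kinr ψ i w) = 0 := by
    apply k_ext ψ j k hjk
    · rw [kfst_d ψ i j k hij hjk, h1, hz, neg_zero]
    · rw [ksnd_d ψ i j hij, h1, h2, hψ, hw, map_neg, add_neg_cancel]
  obtain ⟨W, hW⟩ := he (i - 1) j (by omega) hij _ hZ
  refine ⟨-(kfst ψ (i - 1) i (by omega) W), ?_⟩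
  have := kfst_d ψ (i - 1) i j (by omega) hij W
  rw [hW, h1] at this
  rw [map_neg, ← this]

end

variable (L : CochainComplex (ModuleCat.{u} A) ℤ) (a : A)

theorem smul_id_f_apply (b : A) (j : ℤ) (x : L.X j) : ((b • 𝟙 L : L ⟶ L).f j).hom x = b • x := rfl

theorem ex_cone_pow (i : ℤ) (e : ℕ) (he : Ex (mappingCone (a • 𝟙 L)) i) :
    Ex (mappingCone (a ^ e • 𝟙 L)) i :=
  ex_cone_of' L (a ^ e) _ (smul_id_f_apply L (a ^ e)) i (i + 1) rfl
    ((surj_of_ex_cone' L a _ (smul_id_f_apply L a) i he).pow e)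
    ((inj_of_ex_cone' L a _ (smul_id_f_apply L a) i (i + 1) rfl he).pow e)

end Groth.Agent.Helper17.KR
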