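import Groth.Agent.Lib.Helper17.KZ2

/-!
# helper17: swapping two cones of scalar multiplications
-/

open CategoryTheory Limits HomologicalComplex CochainComplex HomComplex
universe u

namespace Groth.Agent.Helper17.KR

open Groth.Agent.Helper17.KC

variable {A : Type u} [CommRing A]

variable (L : CochainComplex (ModuleCat.{u} A) ℤ) (p q : A)

/-- the cone of multiplication by `q` -/
noncomputable abbrev C1 : CochainComplex (ModuleCat.{u} A) ℤ := mappingCone (q • 𝟙 L)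

/-- the double cone -/
noncomputable abbrev DC : CochainComplex (ModuleCat.{u} A) ℤ := C1 (C1 L q) p

section coords

variable (n n1 n2 : ℤ) (h1 : n + 1 = n1) (h2 : n1 + 1 = n2)

noncomputable def ca : (DC L p q).X n →ₗ[A] L.X n2 :=
  (kfst (q • 𝟙 L) n1 n2 h2).comp (kfst (p • 𝟙 (C1 L q)) n n1 h1)
noncomputable def cb : (DC L p q).X n →ₗ[A] L.X n1 :=
  (ksnd (q • 𝟙 L) n1).comp (kfst (p • 𝟙 (C1 L q)) n n1 h1)
noncomputable def cc : (DC L p q).X n →ₗ[A] L.X n1 :=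
  (kfst (q • 𝟙 L) n n1 h1).comp (ksnd (p • 𝟙 (C1 L q)) n)
noncomputable def ce : (DC L p q).X n →ₗ[A] L.X n :=
  (ksnd (q • 𝟙 L) n).comp (ksnd (p • 𝟙 (C1 L q)) n)

noncomputable def mk4 (a : L.X n2) (b c : L.X n1) (e : L.X n) : (DC L p q).X n :=
  kinl (p • 𝟙 (C1 L q)) n n1 h1 (kinl (q • 𝟙 L) n1 n2 h2 a + kinr (q • 𝟙 L) n1 b) +
    kinr (p • 𝟙 (C1 L q)) n (kinl (q • 𝟙 L) n n1 h1 c + kinr (q • 𝟙 L) n e)

theorem ca_mk4 (a : L.X n2) (b c : L.X n1) (e : L.X n) :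
    ca L p q n n1 n2 h1 h2 (mk4 L p q n n1 n2 h1 h2 a b c e) = a := by
  simp only [ca, mk4, LinearMap.comp_apply, map_add, kfst_kinl, kfst_kinr, add_zero, map_zero]

theorem cb_mk4 (a : L.X n2) (b c : L.X n1) (e : L.X n) :
    cb L p q n n1 h1 (mk4 L p q n n1 n2 h1 h2 a b c e) = b := by
  simp only [cb, mk4, LinearMap.comp_apply, map_add, kfst_kinl, kfst_kinr, ksnd_kinl, ksnd_kinr,
    add_zero, zero_add, map_zero]

theorem cc_mk4 (a : L.X n2) (b c : L.X n1) (e : L.X n) :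
    cc L p q n n1 h1 (mk4 L p q n n1 n2 h1 h2 a b c e) = c := by
  simp only [cc, mk4, LinearMap.comp_apply, map_add, kfst_kinl, kfst_kinr, ksnd_kinl, ksnd_kinr,
    add_zero, zero_add, map_zero]

theorem ce_mk4 (a : L.X n2) (b c : L.X n1) (e : L.X n) :
    ce L p q n (mk4 L p q n n1 n2 h1 h2 a b c e) = e := by
  simp only [ce, mk4, LinearMap.comp_apply, map_add, kfst_kinl, kfst_kinr, ksnd_kinl, ksnd_kinr,
    add_zero, zero_add, map_zero]

theorem dc_ext (z z' : (DC L p q).X n)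
    (ha : ca L p q n n1 n2 h1 h2 z = ca L p q n n1 n2 h1 h2 z')
    (hb : cb L p q n n1 h1 z = cb L p q n n1 h1 z')
    (hc : cc L p q n n1 h1 z = cc L p q n n1 h1 z')
    (he : ce L p q n z = ce L p q n z') : z = z' := by
  apply k_ext' (p • 𝟙 (C1 L q)) n n1 h1
  · exact k_ext' (q • 𝟙 L) n1 n2 h2 _ _ ha hb
  · exact k_ext' (q • 𝟙 L) n n1 h1 _ _ hc he

variable (n3 : ℤ) (h3 : n2 + 1 = n3)

theorem ca_d (z : (DC L p q).X n) :
    ca L p q n1 n2 n3 h2 h3 (((DC L p q).d n n1).hom z) =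
      (L.d n2 n3).hom (ca L p q n n1 n2 h1 h2 z) := by
  simp only [ca, LinearMap.comp_apply]
  rw [kfst_d (p • 𝟙 (C1 L q)) n n1 n2 h1 h2, map_neg, kfst_d (q • 𝟙 L) n1 n2 n3 h2 h3, neg_neg]

theorem cb_d (z : (DC L p q).X n) :
    cb L p q n1 n2 h2 (((DC L p q).d n n1).hom z) =
      -(q • ca L p q n n1 n2 h1 h2 z + (L.d n1 n2).hom (cb L p q n n1 h1 z)) := by
  simp only [ca, cb, LinearMap.comp_apply]
  rw [kfst_d (p • 𝟙 (C1 L q)) n n1 n2 h1 h2, map_neg, ksnd_d (q • 𝟙 L) n1 n2 h2, smul_id_f_apply]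

theorem cc_d (z : (DC L p q).X n) :
    cc L p q n1 n2 h2 (((DC L p q).d n n1).hom z) =
      p • ca L p q n n1 n2 h1 h2 z - (L.d n1 n2).hom (cc L p q n n1 h1 z) := by
  simp only [ca, cc, LinearMap.comp_apply]
  rw [ksnd_d (p • 𝟙 (C1 L q)) n n1 h1, smul_id_f_apply, map_add, map_smul,
    kfst_d (q • 𝟙 L) n n1 n2 h1 h2, sub_eq_add_neg]

theorem ce_d (z : (DC L p q).X n) :
    ce L p q n1 (((DC L p q).d n n1).hom z) =
      p • cb L p q n n1 h1 z + (q • cc L p q n n1 h1 z + (L.d n n1).hom (ce L p q n z)) := by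
  simp only [cb, cc, ce, LinearMap.comp_apply]
  rw [ksnd_d (p • 𝟙 (C1 L q)) n n1 h1, smul_id_f_apply, map_add, map_smul,
    ksnd_d (q • 𝟙 L) n n1 h1, smul_id_f_apply]

end coords

end Groth.Agent.Helper17.KR
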