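import Groth.Agent.Lib.Helper17.KZ3

/-!
# helper17: the swap isomorphism of double cones
-/

open CategoryTheory Limits HomologicalComplex CochainComplex HomComplex
universe u

namespace Groth.Agent.Helper17.KR

open Groth.Agent.Helper17.KC

variable {A : Type u} [CommRing A]

variable (L : CochainComplex (ModuleCat.{u} A) ℤ) (p q : A)

/-- the swap in degree `n` -/
noncomputable def swapF (n : ℤ) : (DC L p q).X n →ₗ[A] (DC L q p).X n :=
  (kinl (q • 𝟙 (C1 L p)) n (n + 1) rfl).comp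
      ((kinl (p • 𝟙 L) (n + 1) (n + 1 + 1) rfl).comp (-(ca L p q n (n + 1) (n + 1 + 1) rfl rfl)) +
        (kinr (p • 𝟙 L) (n + 1)).comp (cc L p q n (n + 1) rfl)) +
    (kinr (q • 𝟙 (C1 L p)) n).comp
      ((kinl (p • 𝟙 L) n (n + 1) rfl).comp (cb L p q n (n + 1) rfl) +
        (kinr (p • 𝟙 L) n).comp (ce L p q n))

theorem swapF_apply (n : ℤ) (z : (DC L p q).X n) :
    swapF L p q n z = mk4 L q p n (n + 1) (n + 1 + 1) rfl rfl
      (-(ca L p q n (n + 1) (n + 1 + 1) rfl rfl z)) (cc L p q n (n + 1) rfl z)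
      (cb L p q n (n + 1) rfl z) (ce L p q n z) := rfl

theorem ca_congr (n n1 n2 n1' n2' : ℤ) (h1 : n + 1 = n1) (h2 : n1 + 1 = n2) (h1' : n + 1 = n1')
    (h2' : n1' + 1 = n2') (z : (DC L p q).X n) (e1 : n1 = n1') (e2 : n2 = n2') :
    HEq (ca L p q n n1 n2 h1 h2 z) (ca L p q n n1' n2' h1' h2' z) := by
  subst e1 e2
  rfl

/-- the swap morphism -/
noncomputable def swap : DC L p q ⟶ DC L q p where
  f n := ModuleCat.ofHom (swapF L p q n)
  comm' i j hij := by
    have hij' : i + 1 = j := hij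
    subst hij'
    ext z
    change ((DC L q p).d i (i + 1)).hom (swapF L p q i z) =
      swapF L p q (i + 1) (((DC L p q).d i (i + 1)).hom z)
    symm
    rw [swapF_apply, swapF_apply]
    apply dc_ext L q p (i + 1) (i + 1 + 1) (i + 1 + 1 + 1) rfl rfl
    · rw [ca_mk4, ca_d L q p i (i + 1) (i + 1 + 1) rfl rfl (i + 1 + 1 + 1) rfl,
        ca_d L p q i (i + 1) (i + 1 + 1) rfl rfl (i + 1 + 1 + 1) rfl]
      have := ca_mk4 L q p i (i + 1) (i + 1 + 1) rfl rfl
        (-(ca L p q i (i + 1) (i + 1 + 1) rfl rfl z)) (cc L p q i (i + 1) rfl z)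
        (cb L p q i (i + 1) rfl z) (ce L p q i z)
      rw [this, map_neg]
    · rw [cb_mk4, cb_d L q p i (i + 1) (i + 1 + 1) rfl rfl, cc_d L p q i (i + 1) (i + 1 + 1) rfl rfl]
      have h1 := ca_mk4 L q p i (i + 1) (i + 1 + 1) rfl rfl
        (-(ca L p q i (i + 1) (i + 1 + 1) rfl rfl z)) (cc L p q i (i + 1) rfl z)
        (cb L p q i (i + 1) rfl z) (ce L p q i z)
      have h2 := cb_mk4 L q p i (i + 1) (i + 1 + 1) rfl rfl
        (-(ca L p q i (i + 1) (i + 1 + 1) rfl rfl z)) (cc L p q i (i + 1) rfl z)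
        (cb L p q i (i + 1) rfl z) (ce L p q i z)
      rw [h1, h2, smul_neg]
      abel
    · rw [cc_mk4, cc_d L q p i (i + 1) (i + 1 + 1) rfl rfl, cb_d L p q i (i + 1) (i + 1 + 1) rfl rfl]
      have h1 := ca_mk4 L q p i (i + 1) (i + 1 + 1) rfl rfl
        (-(ca L p q i (i + 1) (i + 1 + 1) rfl rfl z)) (cc L p q i (i + 1) rfl z)
        (cb L p q i (i + 1) rfl z) (ce L p q i z)
      have h2 := cc_mk4 L q p i (i + 1) (i + 1 + 1) rfl rfl
        (-(ca L p q i (i + 1) (i + 1 + 1) rfl rfl z)) (cc L p q i (i + 1) rfl z)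
        (cb L p q i (i + 1) rfl z) (ce L p q i z)
      rw [h1, h2, smul_neg]
      abel
    · rw [ce_mk4, ce_d L q p i (i + 1) rfl, ce_d L p q i (i + 1) rfl]
      have h1 := cb_mk4 L q p i (i + 1) (i + 1 + 1) rfl rfl
        (-(ca L p q i (i + 1) (i + 1 + 1) rfl rfl z)) (cc L p q i (i + 1) rfl z)
        (cb L p q i (i + 1) rfl z) (ce L p q i z)
      have h2 := cc_mk4 L q p i (i + 1) (i + 1 + 1) rfl rfl
        (-(ca L p q i (i + 1) (i + 1 + 1) rfl rfl z)) (cc L p q i (i + 1) rfl z)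
        (cb L p q i (i + 1) rfl z) (ce L p q i z)
      have h3 := ce_mk4 L q p i (i + 1) (i + 1 + 1) rfl rfl
        (-(ca L p q i (i + 1) (i + 1 + 1) rfl rfl z)) (cc L p q i (i + 1) rfl z)
        (cb L p q i (i + 1) rfl z) (ce L p q i z)
      rw [h1, h2, h3]
      abel

end Groth.Agent.Helper17.KR
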