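import Groth.Agent.Lib.Helper17.KZ4

/-!
# helper17: powers of Koszul-regular sequences are Koszul-regular
-/

open CategoryTheory Limits HomologicalComplex CochainComplex HomComplex
universe u

namespace Groth.Agent.Helper17.KR

open Groth.Agent.Helper17.KC

variable {A : Type u} [CommRing A]

variable (L : CochainComplex (ModuleCat.{u} A) ℤ) (p q : A)

theorem swap_swap : swap L p q ≫ swap L q p = 𝟙 _ := by
  ext n z
  change swapF L q p n (swapF L p q n z) = z
  rw [swapF_apply L q p, swapF_apply L p q, ca_mk4, cb_mk4, cc_mk4, ce_mk4, neg_neg]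
  apply dc_ext L p q n (n + 1) (n + 1 + 1) rfl rfl
  · rw [ca_mk4]
  · rw [cb_mk4]
  · rw [cc_mk4]
  · rw [ce_mk4]

/-- the swap isomorphism -/
noncomputable def swapIso : DC L p q ≅ DC L q p where
  hom := swap L p q
  inv := swap L q p
  hom_inv_id := swap_swap L p q
  inv_hom_id := swap_swap L q p

variable {L}

/-- cones of scalar multiplications on isomorphic complexes are isomorphic -/
noncomputable def coneIso {K K' : CochainComplex (ModuleCat.{u} A) ℤ} (e : K ≅ K') (a : A) :
    C1 K a ≅ C1 K' a where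
  hom := mappingCone.map (a • 𝟙 K) (a • 𝟙 K') e.hom e.hom
    (by rw [Linear.smul_comp, Linear.comp_smul, Category.id_comp, Category.comp_id])
  inv := mappingCone.map (a • 𝟙 K') (a • 𝟙 K) e.inv e.inv
    (by rw [Linear.smul_comp, Linear.comp_smul, Category.id_comp, Category.comp_id])
  hom_inv_id := by
    rw [← mappingCone.map_comp]
    refine Eq.trans ?_ (mappingCone.map_id (a • 𝟙 K))
    exact map_congr _ _ e.hom_inv_id e.hom_inv_id _ _
  inv_hom_id := by
    rw [← mappingCone.map_comp]
    refine Eq.trans ?_ (mappingCone.map_id (a • 𝟙 K'))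
    exact map_congr _ _ e.inv_hom_id e.inv_hom_id _ _

variable (L)

/-- iterated cone -/
noncomputable def kz : List A → CochainComplex (ModuleCat.{u} A) ℤ
  | [] => L
  | f :: l => C1 (kz l) f

theorem kz_cons (f : A) (l : List A) : kz L (f :: l) = C1 (kz L l) f := rfl

/-- moving a cone inside -/
noncomputable def moveIso (f : A) : ∀ l : List A, C1 (kz L l) f ≅ kz (C1 L f) l
  | [] => Iso.refl _
  | g :: l => (swapIso (kz L l) f g).trans (coneIso (moveIso f l) g)

theorem ex_kz_pow (n : ℕ) : ∀ (l : List A) (L : CochainComplex (ModuleCat.{u} A) ℤ) (i : ℤ),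
    Ex (kz L l) i → Ex (kz L (l.map (· ^ n))) i
  | [], L, i, h => h
  | f :: l, L, i, h => by
    have h1 : Ex (kz (C1 L f) l) i := h.of_iso (moveIso L f l)
    have h2 : Ex (kz (C1 L f) (l.map (· ^ n))) i := ex_kz_pow n l (C1 L f) i h1
    have h3 : Ex (C1 (kz L (l.map (· ^ n))) f) i := h2.of_iso (moveIso L f (l.map (· ^ n))).symm
    exact ex_cone_pow (kz L (l.map (· ^ n))) f i n h3

end Groth.Agent.Helper17.KR
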