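import Groth.Agent.Lib.Helper17.KZ5
import Groth.Agent.Lib.Helper17.KC5
import Groth.Prelude.Def_LCI2
import Groth.Agent.S9264

/-!
# helper17: the extended Čech complex of a Koszul-regular sequence
-/

open CategoryTheory Limits HomologicalComplex CochainComplex HomComplex
universe u

namespace Groth.Agent.Helper17.KR

open Groth.Agent.Helper17.KC CohIII

variable {A : Type u} [CommRing A]

theorem kz_single (M : ModuleCat.{u} A) : ∀ l : List A,
    kz ((HomologicalComplex.single (ModuleCat.{u} A) (ComplexShape.up ℤ) 0).obj M) l = koszulCx M l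
  | [] => rfl
  | f :: l => by
    rw [kz_cons, kz_single M l]
    rfl

theorem koszul_eq (l : List A) : Koszul.koszul A l = koszulCx (ModuleCat.of A A) l := by
  induction l with
  | nil => rfl
  | cons f l ih =>
    change CochainComplex.mappingCone (f • 𝟙 (Koszul.koszul A l)) = _
    rw [ih]
    rfl

theorem isZero_koszulCx_pow (l : List A) (hl : LCI.IsKoszulRegularSeq A l) (n : ℕ) (i : ℤ)
    (hi : i ≠ 0) : IsZero ((koszulCx (ModuleCat.of A A) (l.map (· ^ n))).homology i) := by
  have h1 : Ex (Koszul.koszul A l) i := (ex_iff_isZero _ _).2 (hl i hi)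
  rw [koszul_eq, ← kz_single] at h1
  have h2 := ex_kz_pow n l _ i h1
  rw [kz_single] at h2
  exact (ex_iff_isZero _ _).1 h2

theorem subsingleton_koszulHLim (l : List A) (hl : LCI.IsKoszulRegularSeq A l) (p : ℕ)
    (hp : p ≠ l.length) : Subsingleton (koszulHLim l (ModuleCat.of A A) p) := by
  have hz : ∀ n, Subsingleton (koszulHPow l (ModuleCat.of A A) p n) := fun n =>
    ModuleCat.subsingleton_of_isZero (isZero_koszulCx_pow l hl n _ (by omega))
  refine ⟨fun x y => ?_⟩
  unfold koszulHLim at x y ⊢
  obtain ⟨n, x, rfl⟩ := Module.DirectLimit.exists_of x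
  obtain ⟨m, y, rfl⟩ := Module.DirectLimit.exists_of y
  rw [(hz n).elim x 0, (hz m).elim y 0, map_zero, map_zero]

theorem main9267 (R : Type u) [CommRing R] (fs : List R)
    (hfs : LCI.IsKoszulRegularSeq R fs) (q : ℤ) (hq : q ≠ (fs.length : ℤ)) :
    Limits.IsZero (DerCA.extCechH fs (ModuleCat.of R R) q) := by
  by_cases hneg : q < 0
  · exact Groth.Agent.S9264.result R fs _ q (Or.inl hneg)
  · obtain ⟨p, rfl⟩ := Int.eq_ofNat_of_zero_le (not_lt.mp hneg)
    obtain ⟨e⟩ := nonempty_koszulHLim_equiv (M := ModuleCat.of R R) fs p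
    have := subsingleton_koszulHLim fs hfs p (by exact_mod_cast hq)
    have : Subsingleton (DerCA.extCechH fs (ModuleCat.of R R) p) := e.symm.injective.subsingleton
    exact ModuleCat.isZero_of_subsingleton _

end Groth.Agent.Helper17.KR
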