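import Mathlib
import Groth.Prelude.Def_W4stkremschemesLRS
set_option autoImplicit false
universe u
open CategoryTheory AlgebraicGeometry TopologicalSpace Opposite

namespace Groth.Agent.Helper17.LI1

variable {X : Scheme.{u}} {Z : LocallyRingedSpace.{u}} (i : Z ⟶ X.toLocallyRingedSpace)

/-- The kernel of the stalk map of `O_X → i_* O_Z` at a point `x` of `X`. -/
noncomputable def K (x : X) : Ideal (X.presheaf.stalk x) :=
  RingHom.ker ((TopCat.Presheaf.stalkFunctor CommRingCat x).map i.c).hom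

theorem mem_K_iff (x : X) (t : X.presheaf.stalk x) :
    t ∈ K i x ↔ ((TopCat.Presheaf.stalkFunctor CommRingCat x).map i.c).hom t = 0 := Iff.rfl

theorem germ_mem_K_of_app_eq_zero (V : X.Opens) (s : Γ(X, V)) (h : i.c.app (op V) s = 0)
    (x : X) (hx : x ∈ V) : X.presheaf.germ V x hx s ∈ K i x := by
  rw [mem_K_iff]
  have h1 : ((TopCat.Presheaf.stalkFunctor CommRingCat x).map i.c).hom (X.presheaf.germ V x hx s) =
      (i.base _* Z.presheaf).germ V x hx (i.c.app (op V) s) :=
    TopCat.Presheaf.stalkFunctor_map_germ_apply V x hx i.c s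
  rw [h1, h]
  exact map_zero _

theorem stalkMap_apply (z : Z) (t : X.presheaf.stalk (i.base z)) : (i.stalkMap z).hom t =
    (Z.presheaf.stalkPushforward CommRingCat i.base z).hom
      (((TopCat.Presheaf.stalkFunctor CommRingCat (i.base z)).map i.c).hom t) := rfl

theorem K_le_ker_stalkMap (z : Z) : K i (i.base z) ≤ RingHom.ker (i.stalkMap z).hom := by
  intro t ht
  rw [mem_K_iff] at ht
  rw [RingHom.mem_ker, stalkMap_apply, ht]
  exact map_zero _

theorem K_eq_ker_stalkMap (hind : Topology.IsInducing i.base) (z : Z) :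
    K i (i.base z) = RingHom.ker (i.stalkMap z).hom := by
  haveI : IsIso (Z.presheaf.stalkPushforward CommRingCat i.base z) :=
    TopCat.Presheaf.stalkPushforward.stalkPushforward_iso_of_isInducing CommRingCat hind Z.presheaf z
  apply le_antisymm (K_le_ker_stalkMap i z)
  intro t ht
  rw [RingHom.mem_ker, stalkMap_apply] at ht
  rw [mem_K_iff]
  have hb := (ConcreteCategory.bijective_of_isIso
    (Z.presheaf.stalkPushforward CommRingCat i.base z)).1
  exact hb (ht.trans (map_zero (Z.presheaf.stalkPushforward CommRingCat i.base z).hom).symm)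

theorem stalkMap_surjective (hind : Topology.IsInducing i.base)
    (hsurj : TopCat.Presheaf.IsLocallySurjective i.c) (z : Z) :
    Function.Surjective (i.stalkMap z).hom := by
  haveI : IsIso (Z.presheaf.stalkPushforward CommRingCat i.base z) :=
    TopCat.Presheaf.stalkPushforward.stalkPushforward_iso_of_isInducing CommRingCat hind Z.presheaf z
  have h1 := (TopCat.Presheaf.locally_surjective_iff_surjective_on_stalks i.c).1 hsurj (i.base z)
  have hb := (ConcreteCategory.bijective_of_isIso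
    (Z.presheaf.stalkPushforward CommRingCat i.base z)).2
  intro t
  obtain ⟨t', ht'⟩ := hb t
  obtain ⟨t'', ht''⟩ := h1 t'
  refine ⟨t'', ?_⟩
  rw [stalkMap_apply]
  exact (congrArg _ ht'').trans ht'

theorem app_eq_zero_of_stalk (V : X.Opens) (s : Γ(X, V))
    (h : ∀ (z : Z) (hz : i.base z ∈ V), i.stalkMap z (X.presheaf.germ V (i.base z) hz s) = 0) :
    i.c.app (op V) s = 0 := by
  refine TopCat.Presheaf.section_ext Z.sheaf ((Opens.map i.base).obj V) _ _ (fun z hz => ?_)
  have h1 := LocallyRingedSpace.stalkMap_germ_apply i V z hz s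
  exact (h1.symm.trans (h z hz)).trans (map_zero _).symm

theorem app_eq_zero_of_germ_mem_K (V : X.Opens) (s : Γ(X, V))
    (h : ∀ (x : X) (hx : x ∈ V), X.presheaf.germ V x hx s ∈ K i x) :
    i.c.app (op V) s = 0 := by
  apply app_eq_zero_of_stalk
  intro z hz
  exact K_le_ker_stalkMap i z (h (i.base z) hz)

theorem K_eq_top_of_notMem_range (hcl : IsClosed (Set.range i.base)) (x : X)
    (hx : x ∉ Set.range i.base) : K i x = ⊤ := by
  rw [Ideal.eq_top_iff_one, mem_K_iff]
  let V : X.Opens := ⟨(Set.range i.base)ᶜ, hcl.isOpen_compl⟩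
  have hxV : x ∈ V := hx
  have h1 : (1 : X.presheaf.stalk x) = X.presheaf.germ V x hxV 1 := (map_one _).symm
  rw [h1]
  have h2 : ((TopCat.Presheaf.stalkFunctor CommRingCat x).map i.c).hom (X.presheaf.germ V x hxV 1) =
      (i.base _* Z.presheaf).germ V x hxV (i.c.app (op V) 1) :=
    TopCat.Presheaf.stalkFunctor_map_germ_apply V x hxV i.c 1
  rw [h2]
  have h3 : i.c.app (op V) 1 = 0 := by
    refine TopCat.Presheaf.section_ext Z.sheaf ((Opens.map i.base).obj V) _ _ (fun z hz => ?_)
    exact absurd ⟨z, rfl⟩ hz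
  rw [h3]
  exact map_zero _

/-- `g` is good: the kernel is generated, stalkwise on `D(g)`, by sections over `D(g)` killed by `i`. -/
def Good {U : X.Opens} (g : Γ(X, U)) : Prop :=
  ∃ S : Set Γ(X, X.basicOpen g), (∀ s ∈ S, i.c.app (op (X.basicOpen g)) s = 0) ∧
    ∀ (x' : X) (hx' : x' ∈ X.basicOpen g),
      K i x' ≤ Ideal.span ((X.presheaf.germ (X.basicOpen g) x' hx') '' S)

theorem exists_good (hker : LRSImm.KerLocallyGenerated i) {U : X.Opens} (hU : IsAffineOpen U)
    (x : X) (hx : x ∈ U) : ∃ g : Γ(X, U), x ∈ X.basicOpen g ∧ Good i g := by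
  obtain ⟨U₀, hxU₀, ι, s, hs0, hspan⟩ := hker x
  obtain ⟨g, hgle, hxg⟩ := hU.exists_basicOpen_le (V := U₀) ⟨x, hxU₀⟩ hx
  refine ⟨g, hxg, Set.range (fun j => X.presheaf.map (homOfLE hgle).op (s j)), ?_, ?_⟩
  · rintro _ ⟨j, rfl⟩
    have h1 : i.c.app (op (X.basicOpen g)) (X.presheaf.map (homOfLE hgle).op (s j)) =
        (i.base _* Z.presheaf).map (homOfLE hgle).op (i.c.app (op U₀) (s j)) :=
      NatTrans.naturality_apply i.c (homOfLE hgle).op (s j)
    rw [h1, hs0 j, map_zero]
  · intro x' hx'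
    have h := hspan x' (hgle hx')
    have hK : K i x' = Ideal.span (Set.range fun j => X.presheaf.germ U₀ x' (hgle hx') (s j)) :=
      h.symm
    rw [hK]
    apply Ideal.span_mono
    rintro _ ⟨j, rfl⟩
    refine ⟨_, ⟨j, rfl⟩, ?_⟩
    exact TopCat.Presheaf.germ_res_apply X.presheaf (homOfLE hgle) x' hx' (s j)

end Groth.Agent.Helper17.LI1
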