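import Mathlib
import Groth.Prelude.Def_W4stkremschemesLRS
import Groth.Agent.Lib.Helper17.LI1
set_option autoImplicit false
universe u
open CategoryTheory AlgebraicGeometry TopologicalSpace Opposite

namespace Groth.Agent.Helper17.LI2
open Groth.Agent.Helper17.LI1

variable {X : Scheme.{u}} {Z : LocallyRingedSpace.{u}} (i : Z ⟶ X.toLocallyRingedSpace)
variable {U : X.Opens} (hU : IsAffineOpen U)

/-- restriction to the basic open -/
noncomputable abbrev res (g : Γ(X, U)) : Γ(X, U) →+* Γ(X, X.basicOpen g) :=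
  (X.presheaf.map (homOfLE (X.basicOpen_le g)).op).hom

theorem germ_res (g : Γ(X, U)) (x' : X) (hx' : x' ∈ X.basicOpen g) (b : Γ(X, U)) :
    X.presheaf.germ (X.basicOpen g) x' hx' (res g b) =
      X.presheaf.germ U x' (X.basicOpen_le g hx') b :=
  TopCat.Presheaf.germ_res_apply X.presheaf (homOfLE (X.basicOpen_le g)) x' hx' b

theorem isUnit_res (g : Γ(X, U)) : IsUnit (res g g) :=
  X.toRingedSpace.isUnit_res_basicOpen g

include hU in
theorem exists_point_of_prime (P : Ideal Γ(X, U)) [hP : P.IsPrime] :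
    ∃ (x' : X) (hx' : x' ∈ U),
      @IsLocalization.AtPrime (R := Γ(X, U)) (S := X.presheaf.stalk x') _ _
        (TopCat.Presheaf.algebra_section_stalk X.presheaf ⟨x', hx'⟩) P _ := by
  have hy : hU.fromSpec (⟨P, hP⟩ : PrimeSpectrum Γ(X, U)) ∈ U := by
    have h1 : hU.fromSpec (⟨P, hP⟩ : PrimeSpectrum Γ(X, U)) ∈ Set.range hU.fromSpec := ⟨_, rfl⟩
    rw [hU.range_fromSpec] at h1
    exact h1
  exact ⟨hU.fromSpec (⟨P, hP⟩ : PrimeSpectrum Γ(X, U)), hy, hU.isLocalization_stalk' ⟨P, hP⟩ hy⟩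

include hU in
theorem key (g : Γ(X, U)) (hg : Good i g) (a f : Γ(X, U))
    (H : ∀ (x' : X) (hx' : x' ∈ U), x' ∈ X.basicOpen g → x' ∈ X.basicOpen f →
        X.presheaf.germ U x' hx' a ∈ K i x') :
    ∃ n : ℕ, i.c.app (op (X.basicOpen g)) (res g (f ^ n * a)) = 0 := by
  obtain ⟨S, hS0, hSspan⟩ := hg
  obtain ⟨φ, hφ⟩ : ∃ φ : Γ(X, X.basicOpen g) →+* (i.base _* Z.presheaf).obj (op (X.basicOpen g)),
      φ = (i.c.app (op (X.basicOpen g))).hom := ⟨_, rfl⟩
  have hφapp : ∀ s, i.c.app (op (X.basicOpen g)) s = φ s := fun s => by rw [hφ]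
  let 𝔞 : Ideal Γ(X, U) :=
    { carrier := {b | φ (res g (b * a)) = 0}
      zero_mem' := by
        show φ (res g (0 * a)) = 0
        rw [zero_mul, map_zero, map_zero]
      add_mem' := by
        intro b c hb hc
        show φ (res g ((b + c) * a)) = 0
        have hb' : φ (res g (b * a)) = 0 := hb
        have hc' : φ (res g (c * a)) = 0 := hc
        rw [add_mul, map_add, map_add, hb', hc', add_zero]
      smul_mem' := by
        intro c b hb
        show φ (res g ((c • b) * a)) = 0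
        have hb' : φ (res g (b * a)) = 0 := hb
        rw [smul_eq_mul, mul_assoc, map_mul, map_mul, hb', mul_zero] }
  have hmem𝔞 : ∀ b, b ∈ 𝔞 ↔ φ (res g (b * a)) = 0 := fun b => Iff.rfl
  have hrad : g * f ∈ 𝔞.radical := by
    rw [Ideal.radical_eq_sInf, Ideal.mem_sInf]
    rintro P ⟨hPa, hPprime⟩
    by_contra hgf
    haveI := hPprime
    obtain ⟨x', hx'U, loc⟩ := exists_point_of_prime hU P
    letI alg : Algebra Γ(X, U) (X.presheaf.stalk x') :=
      TopCat.Presheaf.algebra_section_stalk X.presheaf ⟨x', hx'U⟩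
    haveI := loc
    have hgP : g ∉ P := fun h => hgf (P.mul_mem_right f h)
    have hfP : f ∉ P := fun h => hgf (P.mul_mem_left g h)
    have hunit_of : ∀ b : Γ(X, U), b ∉ P → IsUnit (X.presheaf.germ U x' hx'U b) := by
      intro b hb
      exact (IsLocalization.AtPrime.isUnit_to_map_iff (X.presheaf.stalk x') P b).2 hb
    have hxg : x' ∈ X.basicOpen g := (X.mem_basicOpen g x' hx'U).2 (hunit_of g hgP)
    have hxf : x' ∈ X.basicOpen f := (X.mem_basicOpen f x' hx'U).2 (hunit_of f hfP)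
    have hgerm := hSspan x' hxg (H x' hx'U hxg hxf)
    have h1P : (1 : Γ(X, U)) ∉ P := fun h => hPprime.ne_top ((Ideal.eq_top_iff_one _).2 h)
    have hind : ∀ t ∈ Ideal.span ((X.presheaf.germ (X.basicOpen g) x' hxg) '' S),
        ∃ u : Γ(X, U), u ∉ P ∧ ∃ σ : Γ(X, X.basicOpen g), φ σ = 0 ∧
          X.presheaf.germ U x' hx'U u * t = X.presheaf.germ (X.basicOpen g) x' hxg σ := by
      intro t ht
      induction ht using Submodule.span_induction with
      | mem t ht =>
        obtain ⟨s, hs, rfl⟩ := ht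
        refine ⟨1, h1P, s, ?_, ?_⟩
        · rw [← hφapp]; exact hS0 s hs
        · rw [map_one, one_mul]
      | zero =>
        refine ⟨1, h1P, 0, map_zero _, ?_⟩
        rw [mul_zero, map_zero]
      | add t₁ t₂ _ _ h₁ h₂ =>
        obtain ⟨u₁, hu₁, σ₁, hσ₁, e₁⟩ := h₁
        obtain ⟨u₂, hu₂, σ₂, hσ₂, e₂⟩ := h₂
        refine ⟨u₁ * u₂, fun h => (hPprime.mem_or_mem h).elim hu₁ hu₂,
          res g u₂ * σ₁ + res g u₁ * σ₂, ?_, ?_⟩
        · rw [map_add, map_mul, map_mul, hσ₁, hσ₂, mul_zero, mul_zero, add_zero]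
        · have hA : X.presheaf.germ (X.basicOpen g) x' hxg (res g u₂ * σ₁ + res g u₁ * σ₂) =
              X.presheaf.germ U x' hx'U u₂ * X.presheaf.germ (X.basicOpen g) x' hxg σ₁ +
              X.presheaf.germ U x' hx'U u₁ * X.presheaf.germ (X.basicOpen g) x' hxg σ₂ := by
            rw [map_add, map_mul, map_mul, germ_res, germ_res]
          have hB : X.presheaf.germ U x' hx'U (u₁ * u₂) =
              X.presheaf.germ U x' hx'U u₁ * X.presheaf.germ U x' hx'U u₂ := map_mul _ _ _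
          rw [hA, hB, ← e₁, ← e₂]
          ring
      | smul c t _ h =>
        obtain ⟨u, hu, σ, hσ, e⟩ := h
        obtain ⟨⟨r, v⟩, hrv⟩ := IsLocalization.surj P.primeCompl c
        have hrv' : c * X.presheaf.germ U x' hx'U (v : Γ(X, U)) = X.presheaf.germ U x' hx'U r := hrv
        refine ⟨v * u, fun h => (hPprime.mem_or_mem h).elim (Ideal.mem_primeCompl_iff.1 v.2) hu,
          res g r * σ, ?_, ?_⟩
        · rw [map_mul, hσ, mul_zero]
        · have hA : X.presheaf.germ (X.basicOpen g) x' hxg (res g r * σ) =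
              X.presheaf.germ U x' hx'U r * X.presheaf.germ (X.basicOpen g) x' hxg σ := by
            rw [map_mul, germ_res]
          have hB : X.presheaf.germ U x' hx'U ((v : Γ(X, U)) * u) =
              X.presheaf.germ U x' hx'U (v : Γ(X, U)) * X.presheaf.germ U x' hx'U u := map_mul _ _ _
          rw [hA, hB, ← e, ← hrv', smul_eq_mul]
          ring
    obtain ⟨u, hu, σ, hσ, e⟩ := hind _ hgerm
    haveI locg : IsLocalization.Away g Γ(X, X.basicOpen g) := hU.isLocalization_basicOpen g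
    obtain ⟨⟨r, gm⟩, hrg⟩ := IsLocalization.surj (Submonoid.powers g) (res g (u * a) - σ)
    have hrg' : (res g (u * a) - σ) * res g (gm : Γ(X, U)) = res g r := hrg
    have hr0 : X.presheaf.germ U x' hx'U r = 0 := by
      rw [← germ_res g x' hxg r, ← hrg', map_mul, map_sub, germ_res, map_mul, e, sub_self, zero_mul]
    obtain ⟨v, hv⟩ := (IsLocalization.map_eq_zero_iff P.primeCompl (X.presheaf.stalk x') r).1 hr0
    have hvu : (v : Γ(X, U)) * u ∈ 𝔞 := by
      rw [hmem𝔞]
      have h1 : res g (v : Γ(X, U)) * (res g (u * a) - σ) * res g (gm : Γ(X, U)) = 0 := by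
        rw [mul_assoc, hrg', ← map_mul, hv, map_zero]
      have hgmunit : IsUnit (res g (gm : Γ(X, U))) := by
        obtain ⟨m, hm⟩ := (Submonoid.mem_powers_iff _ _).1 gm.2
        rw [← hm, map_pow]
        exact (isUnit_res g).pow m
      have h2 : res g (v : Γ(X, U)) * (res g (u * a) - σ) = 0 := (hgmunit.mul_left_eq_zero).1 h1
      have h3 : res g ((v : Γ(X, U)) * u * a) = res g (v : Γ(X, U)) * σ := by
        rw [mul_assoc, map_mul]
        rw [mul_sub, sub_eq_zero] at h2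
        exact h2
      rw [h3, map_mul, hσ, mul_zero]
    exact (hPprime.mem_or_mem (hPa hvu)).elim (Ideal.mem_primeCompl_iff.1 v.2) hu
  obtain ⟨n, hn⟩ := Ideal.mem_radical_iff.1 hrad
  refine ⟨n, ?_⟩
  rw [hmem𝔞] at hn
  have hunit : IsUnit (φ (res g g) ^ n) := ((isUnit_res g).map φ).pow n
  have e1 : φ (res g ((g * f) ^ n * a)) = φ (res g g) ^ n * φ (res g (f ^ n * a)) := by
    rw [mul_pow, mul_assoc, map_mul, map_mul, map_pow, map_pow]
  rw [e1] at hn
  rw [hφapp]
  exact (hunit.mul_right_eq_zero).1 hn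

include hU in
theorem claim1 (hgood : ∀ x ∈ U, ∃ g : Γ(X, U), x ∈ X.basicOpen g ∧ Good i g) (a f : Γ(X, U))
    (H : ∀ (x' : X) (hx' : x' ∈ U), x' ∈ X.basicOpen f → X.presheaf.germ U x' hx' a ∈ K i x') :
    ∃ N : ℕ, i.c.app (op U) (f ^ N * a) = 0 := by
  choose g hg1 hg2 using fun x : U => hgood x.1 x.2
  have hkey : ∀ x : U, ∃ n : ℕ, i.c.app (op (X.basicOpen (g x))) (res (g x) (f ^ n * a)) = 0 :=
    fun x => key i hU (g x) (hg2 x) a f (fun x' hx' _ hxf => H x' hx' hxf)
  choose n hn using hkey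
  obtain ⟨t, ht⟩ := hU.isCompact.elim_finite_subcover (fun x : U => (X.basicOpen (g x) : Set X))
    (fun x => (X.basicOpen (g x)).isOpen) (fun x hx => Set.mem_iUnion.2 ⟨⟨x, hx⟩, hg1 ⟨x, hx⟩⟩)
  refine ⟨t.sup n, ?_⟩
  apply app_eq_zero_of_stalk
  intro z hz
  obtain ⟨x, hxt, hzx⟩ := Set.mem_iUnion₂.1 (ht hz)
  have hzx' : i.base z ∈ X.basicOpen (g x) := hzx
  have hle : n x ≤ t.sup n := Finset.le_sup hxt
  have e1 : f ^ (t.sup n) * a = f ^ (t.sup n - n x) * (f ^ n x * a) := by
    rw [← mul_assoc, ← pow_add, Nat.sub_add_cancel hle]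
  have e2 : i.c.app (op (X.basicOpen (g x))) (res (g x) (f ^ (t.sup n) * a)) = 0 := by
    rw [e1, map_mul, map_mul, hn x, mul_zero]
  rw [← germ_res (g x) (i.base z) hzx',
    LocallyRingedSpace.stalkMap_germ_apply i (X.basicOpen (g x)) z hzx', e2, map_zero]

include hU in
theorem K_le_span (hgood : ∀ x ∈ U, ∃ g : Γ(X, U), x ∈ X.basicOpen g ∧ Good i g)
    (x' : X) (hx' : x' ∈ U) :
    K i x' ≤ Ideal.span ((X.presheaf.germ U x' hx') ''
      (RingHom.ker (i.c.app (op U)).hom : Set Γ(X, U))) := by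
  intro t ht
  letI alg : Algebra Γ(X, U) (X.presheaf.stalk x') :=
    TopCat.Presheaf.algebra_section_stalk X.presheaf ⟨x', hx'⟩
  haveI loc : IsLocalization.AtPrime (X.presheaf.stalk x') (hU.primeIdealOf ⟨x', hx'⟩).asIdeal :=
    hU.isLocalization_stalk ⟨x', hx'⟩
  obtain ⟨⟨a, f⟩, haf⟩ := IsLocalization.surj (hU.primeIdealOf ⟨x', hx'⟩).asIdeal.primeCompl t
  have haf' : t * X.presheaf.germ U x' hx' (f : Γ(X, U)) = X.presheaf.germ U x' hx' a := haf
  have hfu : IsUnit (X.presheaf.germ U x' hx' (f : Γ(X, U))) :=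
    IsLocalization.map_units (X.presheaf.stalk x') f
  have haK : X.presheaf.germ U x' hx' a ∈ K i x' := by
    rw [← haf']; exact (K i x').mul_mem_right _ ht
  rw [mem_K_iff] at haK
  have h1 : ((TopCat.Presheaf.stalkFunctor CommRingCat x').map i.c).hom
      (X.presheaf.germ U x' hx' a) = (i.base _* Z.presheaf).germ U x' hx' (i.c.app (op U) a) :=
    TopCat.Presheaf.stalkFunctor_map_germ_apply U x' hx' i.c a
  rw [h1] at haK
  obtain ⟨W, hxW, iU, iV, hW⟩ := TopCat.Presheaf.germ_eq (i.base _* Z.presheaf) x' hx' hx'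
    (i.c.app (op U) a) 0 (haK.trans (map_zero _).symm)
  rw [map_zero] at hW
  have hWa : i.c.app (op W) (X.presheaf.map iU.op a) = 0 := by
    have h2 := NatTrans.naturality_apply i.c iU.op a
    rw [h2, hW]
  obtain ⟨f', hf'W, hxf'⟩ := hU.exists_basicOpen_le (V := W) ⟨x', hxW⟩ hx'
  have H : ∀ (x'' : X) (hx'' : x'' ∈ U), x'' ∈ X.basicOpen f' →
      X.presheaf.germ U x'' hx'' a ∈ K i x'' := by
    intro x'' hx'' hxf''
    have h2 := germ_mem_K_of_app_eq_zero i W (X.presheaf.map iU.op a) hWa x'' (hf'W hxf'')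
    rwa [TopCat.Presheaf.germ_res_apply X.presheaf iU x'' (hf'W hxf'') a] at h2
  obtain ⟨N, hN⟩ := claim1 i hU hgood a f' H
  have hmem : X.presheaf.germ U x' hx' (f' ^ N * a) ∈ Ideal.span ((X.presheaf.germ U x' hx') ''
      (RingHom.ker (i.c.app (op U)).hom : Set Γ(X, U))) :=
    Ideal.subset_span ⟨f' ^ N * a, RingHom.mem_ker.2 hN, rfl⟩
  have hf'u : IsUnit (X.presheaf.germ U x' hx' f') := (X.mem_basicOpen f' x' hx').1 hxf'
  rw [map_mul, map_pow, ← haf'] at hmem
  refine (Ideal.unit_mul_mem_iff_mem _ ((hf'u.pow N).mul hfu)).1 ?_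
  convert hmem using 1
  ring

include hU in
theorem mem_range_iff (hi : LRSImm.IsClosedImmersion i) (x : X) (hx : x ∈ U) :
    x ∈ Set.range i.base ↔ ∀ a ∈ RingHom.ker (i.c.app (op U)).hom, x ∉ X.basicOpen a := by
  constructor
  · rintro ⟨z, rfl⟩ a ha hxa
    have hunit : IsUnit (X.presheaf.germ U (i.base z) hx a) :=
      (X.mem_basicOpen a (i.base z) hx).1 hxa
    have h0 : (i.stalkMap z).hom (X.presheaf.germ U (i.base z) hx a) = 0 := by
      have h1 := LocallyRingedSpace.stalkMap_germ_apply i U z hx a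
      refine h1.trans ?_
      rw [RingHom.mem_ker.1 ha, map_zero]
    have h2 := hunit.map (i.stalkMap z).hom
    rw [h0] at h2
    exact not_isUnit_zero h2
  · intro h
    by_contra hx'
    have hK := K_eq_top_of_notMem_range i hi.1.isClosed_range x hx'
    have hle := K_le_span i hU (fun y hy => exists_good i hi.2.2 hU y hy) x hx
    rw [hK] at hle
    have hsub : Ideal.span ((X.presheaf.germ U x hx) ''
        (RingHom.ker (i.c.app (op U)).hom : Set Γ(X, U))) ≤
        IsLocalRing.maximalIdeal (X.presheaf.stalk x) := by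
      rw [Ideal.span_le]
      rintro _ ⟨a, ha, rfl⟩
      rw [SetLike.mem_coe, IsLocalRing.mem_maximalIdeal, mem_nonunits_iff]
      intro hu
      exact h a ha ((X.mem_basicOpen a x hx).2 hu)
    exact (IsLocalRing.maximalIdeal.isMaximal _).ne_top (top_le_iff.1 (hle.trans hsub))

end Groth.Agent.Helper17.LI2
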