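import Mathlib
import Groth.Prelude.Def_W4stkremschemesLRS
import Groth.Agent.Lib.Helper17.LI1
import Groth.Agent.Lib.Helper17.LI2
set_option autoImplicit false
universe u
open CategoryTheory AlgebraicGeometry TopologicalSpace Opposite

namespace Groth.Agent.Helper17.LI3
open Groth.Agent.Helper17.LI1 Groth.Agent.Helper17.LI2

theorem isIso_of_factor {X Y : Scheme.{u}} (hX : IsAffineOpen (⊤ : X.Opens))
    {Z : LocallyRingedSpace.{u}} (q : Y ⟶ X) [IsClosedImmersion q]
    (e : Z ⟶ Y.toLocallyRingedSpace)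
    (hi : LRSImm.IsClosedImmersion (e ≫ q.toLRSHom))
    (hq0 : ∀ a ∈ RingHom.ker ((e ≫ q.toLRSHom).c.app (op ⊤)).hom, q.app ⊤ a = 0) : IsIso e := by
  obtain ⟨i, hidef⟩ : ∃ i : Z ⟶ X.toLocallyRingedSpace, i = e ≫ q.toLRSHom := ⟨_, rfl⟩
  rw [← hidef] at hi hq0
  have hbase : ∀ z : Z, i.base z = q.base (e.base z) := fun z => by rw [hidef]; rfl
  have hqcl : Topology.IsClosedEmbedding q.base := q.isClosedEmbedding
  have hecl : Topology.IsClosedEmbedding e.base := by
    have h1 : Topology.IsClosedEmbedding (q.base ∘ e.base) := by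
      have h2 := hi.1
      rw [hidef] at h2
      exact h2
    exact (Topology.IsClosedEmbedding.of_comp_iff hqcl).1 h1
  have hesurj : Function.Surjective e.base := by
    intro y
    have hmem : q.base y ∈ Set.range i.base := by
      rw [mem_range_iff i hX hi (q.base y) trivial]
      intro a ha hya
      have h0 := hq0 a ha
      have h1 : y ∈ q ⁻¹ᵁ X.basicOpen a := hya
      rw [Scheme.preimage_basicOpen, h0, Scheme.basicOpen_zero] at h1
      exact h1
    obtain ⟨z, hz⟩ := hmem
    exact ⟨z, hqcl.injective ((hbase z).symm.trans hz)⟩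
  have hstalk : ∀ z : Z, IsIso (e.stalkMap z) := by
    intro z
    rw [ConcreteCategory.isIso_iff_bijective]
    have hisurj := stalkMap_surjective i hi.1.isInducing hi.2.1 z
    have hKz := K_eq_ker_stalkMap i hi.1.isInducing z
    have hspan := K_le_span i hX (fun y hy => exists_good i hi.2.2 hX y hy) (i.base z) trivial
    subst hidef
    have hcomp : ∀ s, ((e ≫ q.toLRSHom).stalkMap z).hom s =
        (e.stalkMap z).hom ((q.toLRSHom.stalkMap (e.base z)).hom s) := by
      intro s
      rw [LocallyRingedSpace.stalkMap_comp e q.toLRSHom z]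
      rfl
    constructor
    · refine (injective_iff_map_eq_zero (e.stalkMap z).hom).2 ?_
      intro t ht
      obtain ⟨s, rfl⟩ := q.stalkMap_surjective (e.base z) t
      have hs : ((e ≫ q.toLRSHom).stalkMap z).hom s = 0 := (hcomp s).trans ht
      have hs2 : (s : X.presheaf.stalk ((e ≫ q.toLRSHom).base z)) ∈
          K (e ≫ q.toLRSHom) ((e ≫ q.toLRSHom).base z) := by
        rw [hKz]; exact RingHom.mem_ker.2 hs
      have hs' := hspan hs2
      let qs : X.presheaf.stalk ((e ≫ q.toLRSHom).base z) →+* Y.presheaf.stalk (e.base z) :=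
        (q.toLRSHom.stalkMap (e.base z)).hom
      have hle : Ideal.span ((X.presheaf.germ ⊤ ((e ≫ q.toLRSHom).base z) trivial) ''
          (RingHom.ker ((e ≫ q.toLRSHom).c.app (op ⊤)).hom : Set Γ(X, ⊤))) ≤
          RingHom.ker qs := by
        rw [Ideal.span_le]
        rintro _ ⟨a, ha, rfl⟩
        rw [SetLike.mem_coe, RingHom.mem_ker]
        have h1 := LocallyRingedSpace.stalkMap_germ_apply q.toLRSHom ⊤ (e.base z) trivial a
        refine h1.trans ?_
        have h0 : q.toLRSHom.c.app (op ⊤) a = 0 := hq0 a ha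
        rw [h0, map_zero]
      exact hle hs'
    · intro t
      obtain ⟨s, hs⟩ := hisurj t
      exact ⟨(q.toLRSHom.stalkMap (e.base z)).hom s, (hcomp s).symm.trans hs⟩
  haveI := hstalk
  haveI : LocallyRingedSpace.IsOpenImmersion e :=
    LocallyRingedSpace.IsOpenImmersion.of_stalk_iso e
      (hecl.isEmbedding.isOpenEmbedding_of_surjective hesurj)
  haveI : Epi e.base := (TopCat.epi_iff_surjective e.base).2 hesurj
  exact LocallyRingedSpace.IsOpenImmersion.to_iso e

theorem main9506 (R : Type u) [CommRing R] (Z : LocallyRingedSpace.{u})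
    (i : Z ⟶ (Spec (CommRingCat.of R)).toLocallyRingedSpace) (hi : LRSImm.IsClosedImmersion i)
    (I : Ideal R)
    (hI : I = RingHom.ker ((Scheme.ΓSpecIso (CommRingCat.of R)).inv ≫ i.c.app (op ⊤)).hom) :
    ∃ e : Z ≅ (Spec (CommRingCat.of (R ⧸ I))).toLocallyRingedSpace,
      e.hom ≫ (Spec.map (CommRingCat.ofHom (Ideal.Quotient.mk I))).toLRSHom = i := by
  obtain ⟨φ, hφ⟩ : ∃ φ : R →+* Z.presheaf.obj (op ⊤),
      φ = ((Scheme.ΓSpecIso (CommRingCat.of R)).inv ≫ i.c.app (op ⊤)).hom := ⟨_, rfl⟩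
  have hφI : ∀ a ∈ I, φ a = 0 := by
    intro a ha
    rw [hI] at ha
    rw [hφ]
    exact ha
  let ψ : R ⧸ I →+* Z.presheaf.obj (op ⊤) := Ideal.Quotient.lift I φ hφI
  let ψ' : CommRingCat.of (R ⧸ I) ⟶ LocallyRingedSpace.Γ.obj (op Z) := CommRingCat.ofHom ψ
  let e : Z ⟶ (Spec (CommRingCat.of (R ⧸ I))).toLocallyRingedSpace :=
    Z.toΓSpec ≫ Spec.locallyRingedSpaceMap ψ'
  let adj := ΓSpec.locallyRingedSpaceAdjunction.{u}
  have heq : e ≫ (Spec.map (CommRingCat.ofHom (Ideal.Quotient.mk I))).toLRSHom = i := by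
    have h1 : e ≫ Spec.toLocallyRingedSpace.map (CommRingCat.ofHom (Ideal.Quotient.mk I)).op =
        adj.homEquiv Z (op (CommRingCat.of R))
          (ψ'.op ≫ (CommRingCat.ofHom (Ideal.Quotient.mk I)).op) :=
      (adj.homEquiv_naturality_right ψ'.op (CommRingCat.ofHom (Ideal.Quotient.mk I)).op).symm
    have h2 : ψ'.op ≫ (CommRingCat.ofHom (Ideal.Quotient.mk I)).op =
        (adj.homEquiv Z (op (CommRingCat.of R))).symm i := by
      rw [Adjunction.homEquiv_counit]
      have h3 : CommRingCat.ofHom (Ideal.Quotient.mk I) ≫ ψ' =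
          (Scheme.ΓSpecIso (CommRingCat.of R)).inv ≫ i.c.app (op ⊤) := by
        ext r
        show ψ (Ideal.Quotient.mk I r) = _
        rw [Ideal.Quotient.lift_mk, hφ]
        rfl
      exact congrArg Quiver.Hom.op h3
    have h4 : e ≫ Spec.toLocallyRingedSpace.map (CommRingCat.ofHom (Ideal.Quotient.mk I)).op = i := by
      rw [h1, h2]; exact Equiv.apply_symm_apply _ _
    exact h4
  haveI : IsClosedImmersion (Spec.map (CommRingCat.ofHom (Ideal.Quotient.mk I))) :=
    IsClosedImmersion.spec_of_surjective _ Ideal.Quotient.mk_surjective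
  haveI : IsIso e := by
    apply isIso_of_factor (isAffineOpen_top _)
      (Spec.map (CommRingCat.ofHom (Ideal.Quotient.mk I))) e
    · rw [heq]; exact hi
    · intro a ha
      rw [heq] at ha
      have ha' : i.c.app (op ⊤) a = 0 := ha
      obtain ⟨r, hr⟩ : ∃ r : R, r = (Scheme.ΓSpecIso (CommRingCat.of R)).hom a := ⟨_, rfl⟩
      have har : a = (Scheme.ΓSpecIso (CommRingCat.of R)).inv r := by
        rw [hr]
        exact (Iso.hom_inv_id_apply (Scheme.ΓSpecIso (CommRingCat.of R)) a).symm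
      have hrI : r ∈ I := by
        rw [hI, RingHom.mem_ker]
        show i.c.app (op ⊤) ((Scheme.ΓSpecIso (CommRingCat.of R)).inv r) = 0
        rw [← har]; exact ha'
      have hnat := Scheme.ΓSpecIso_inv_naturality (CommRingCat.ofHom (Ideal.Quotient.mk I))
      have hnat' : (Scheme.ΓSpecIso (CommRingCat.of (R ⧸ I))).inv (Ideal.Quotient.mk I r) =
          (Spec.map (CommRingCat.ofHom (Ideal.Quotient.mk I))).appTop
            ((Scheme.ΓSpecIso (CommRingCat.of R)).inv r) :=
        congrArg (fun m => m.hom r) hnat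
      rw [har]
      refine hnat'.symm.trans ?_
      rw [Ideal.Quotient.eq_zero_iff_mem.2 hrI]
      exact map_zero _
  exact ⟨asIso e, heq⟩

end Groth.Agent.Helper17.LI3
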