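import Mathlib
import Groth.Prelude.Def_W4stkremschemesLRS
import Groth.Agent.Lib.Helper17.LI1
import Groth.Agent.Lib.Helper17.LI2
set_option autoImplicit false
universe u
open CategoryTheory AlgebraicGeometry TopologicalSpace Opposite

namespace Groth.Agent.Helper17.LI4
open Groth.Agent.Helper17.LI1 Groth.Agent.Helper17.LI2

/-- Factor a morphism into `Spec R` through `Spec (R ⧸ I)` when `I` is killed on global sections. -/
theorem factor (R : CommRingCat.{u}) (Z' : LocallyRingedSpace.{u})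
    (j : Z' ⟶ (Spec R).toLocallyRingedSpace) (I : Ideal R)
    (hI : ∀ a ∈ I, j.c.app (op ⊤) ((Scheme.ΓSpecIso R).inv a) = 0) :
    ∃ e : Z' ⟶ (Spec (CommRingCat.of (R ⧸ I))).toLocallyRingedSpace,
      e ≫ (Spec.map (CommRingCat.ofHom (Ideal.Quotient.mk I))).toLRSHom = j := by
  obtain ⟨φ, hφ⟩ : ∃ φ : R →+* Z'.presheaf.obj (op ⊤),
      φ = ((Scheme.ΓSpecIso R).inv ≫ j.c.app (op ⊤)).hom := ⟨_, rfl⟩
  have hφI : ∀ a ∈ I, φ a = 0 := by
    intro a ha
    rw [hφ]
    exact hI a ha
  let ψ : R ⧸ I →+* Z'.presheaf.obj (op ⊤) := Ideal.Quotient.lift I φ hφI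
  let ψ' : CommRingCat.of (R ⧸ I) ⟶ LocallyRingedSpace.Γ.obj (op Z') := CommRingCat.ofHom ψ
  let e : Z' ⟶ (Spec (CommRingCat.of (R ⧸ I))).toLocallyRingedSpace :=
    Z'.toΓSpec ≫ Spec.locallyRingedSpaceMap ψ'
  let adj := ΓSpec.locallyRingedSpaceAdjunction.{u}
  refine ⟨e, ?_⟩
  have h1 : e ≫ Spec.toLocallyRingedSpace.map (CommRingCat.ofHom (Ideal.Quotient.mk I)).op =
      adj.homEquiv Z' (op R)
        (ψ'.op ≫ (CommRingCat.ofHom (Ideal.Quotient.mk I)).op) :=
    (adj.homEquiv_naturality_right ψ'.op (CommRingCat.ofHom (Ideal.Quotient.mk I)).op).symm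
  have h2 : ψ'.op ≫ (CommRingCat.ofHom (Ideal.Quotient.mk I)).op =
      (adj.homEquiv Z' (op R)).symm j := by
    rw [Adjunction.homEquiv_counit]
    have h3 : CommRingCat.ofHom (Ideal.Quotient.mk I) ≫ ψ' =
        (Scheme.ΓSpecIso R).inv ≫ j.c.app (op ⊤) := by
      ext r
      show ψ (Ideal.Quotient.mk I r) = _
      rw [Ideal.Quotient.lift_mk, hφ]
      rfl
    exact congrArg Quiver.Hom.op h3
  have h4 : e ≫ Spec.toLocallyRingedSpace.map (CommRingCat.ofHom (Ideal.Quotient.mk I)).op = j := by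
    rw [h1, h2]; exact Equiv.apply_symm_apply _ _
  exact h4

theorem congr_stalk {X : Scheme.{u}} {Z' : LocallyRingedSpace.{u}}
    (j j' : Z' ⟶ X.toLocallyRingedSpace) (h : j = j') (w : Z') :
    ∃ σ : X.presheaf.stalk (j.base w) ≃+* X.presheaf.stalk (j'.base w),
      (∀ s, (j.stalkMap w).hom s = (j'.stalkMap w).hom (σ s)) ∧
      ∀ (U : X.Opens) (hw : j.base w ∈ U) (hw' : j'.base w ∈ U) (a : Γ(X, U)),
        σ (X.presheaf.germ U (j.base w) hw a) = X.presheaf.germ U (j'.base w) hw' a := by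
  subst h
  exact ⟨RingEquiv.refl _, fun s => rfl, fun _ _ _ _ => rfl⟩

theorem app_eq_zero_congr {X : Scheme.{u}} {Z' : LocallyRingedSpace.{u}}
    (f g : Z' ⟶ X.toLocallyRingedSpace) (h : f = g) (U : X.Opens) (a : Γ(X, U))
    (h0 : f.c.app (op U) a = 0) : g.c.app (op U) a = 0 := by
  subst h; exact h0

theorem isIso_of_factor' {X Y : Scheme.{u}} {U : X.Opens} (hU : IsAffineOpen U)
    {Z Z' : LocallyRingedSpace.{u}} (i : Z ⟶ X.toLocallyRingedSpace)
    (hi : LRSImm.IsClosedImmersion i)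
    (r : Z' ⟶ Z) [LocallyRingedSpace.IsOpenImmersion r]
    (hrange : ∀ z : Z, i.base z ∈ U → z ∈ Set.range r.base)
    (q : Y ⟶ X) [SurjectiveOnStalks q] (hqinj : Function.Injective q.base)
    (hqU : ∀ y, q.base y ∈ U)
    (hq0 : ∀ a ∈ RingHom.ker (i.c.app (op U)).hom, q.app U a = 0)
    (e : Z' ⟶ Y.toLocallyRingedSpace) (heq : e ≫ q.toLRSHom = r ≫ i) : IsIso e := by
  have hbase : ∀ w : Z', q.base (e.base w) = i.base (r.base w) := by
    intro w
    exact congrArg (fun f : Z' ⟶ X.toLocallyRingedSpace => f.base w) heq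
  have hropen : Topology.IsOpenEmbedding r.base :=
    PresheafedSpace.IsOpenImmersion.base_open (f := r.toShHom.hom)
  have heemb : Topology.IsEmbedding e.base := by
    have h1 : Topology.IsEmbedding (q.base ∘ e.base) := by
      have h2 : Topology.IsEmbedding (i.base ∘ r.base) :=
        hi.1.isEmbedding.comp hropen.isEmbedding
      have h3 : (q.base ∘ e.base : Z' → X) = i.base ∘ r.base := funext hbase
      rw [h3]; exact h2
    exact Topology.IsEmbedding.of_comp (TopCat.Hom.hom e.base).continuous q.continuous h1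
  have hesurj : Function.Surjective e.base := by
    intro y
    have hmem : q.base y ∈ Set.range i.base := by
      rw [mem_range_iff i hU hi (q.base y) (hqU y)]
      intro a ha hya
      have h0 := hq0 a ha
      have h1 : y ∈ q ⁻¹ᵁ X.basicOpen a := hya
      rw [Scheme.preimage_basicOpen, h0, Scheme.basicOpen_zero] at h1
      exact h1
    obtain ⟨z, hz⟩ := hmem
    obtain ⟨w, hw⟩ := hrange z (hz ▸ hqU y)
    refine ⟨w, hqinj ?_⟩
    rw [hbase, hw, hz]
  have hstalk : ∀ w : Z', IsIso (e.stalkMap w) := by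
    intro w
    rw [ConcreteCategory.isIso_iff_bijective]
    obtain ⟨σ, hσ1, hσ2⟩ := congr_stalk (e ≫ q.toLRSHom) (r ≫ i) heq w
    have hcompL : ∀ s, ((e ≫ q.toLRSHom).stalkMap w).hom s =
        (e.stalkMap w).hom ((q.toLRSHom.stalkMap (e.base w)).hom s) := by
      intro s
      rw [LocallyRingedSpace.stalkMap_comp e q.toLRSHom w]
      rfl
    have hcompR : ∀ s, ((r ≫ i).stalkMap w).hom s =
        (r.stalkMap w).hom ((i.stalkMap (r.base w)).hom s) := by
      intro s
      rw [LocallyRingedSpace.stalkMap_comp r i w]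
      rfl
    have hrbij : Function.Bijective (r.stalkMap w).hom :=
      ConcreteCategory.bijective_of_isIso (r.stalkMap w)
    have hisurj := stalkMap_surjective i hi.1.isInducing hi.2.1 (r.base w)
    have hKz := K_eq_ker_stalkMap i hi.1.isInducing (r.base w)
    have hwU : q.base (e.base w) ∈ U := hqU _
    have hwU' : i.base (r.base w) ∈ U := hbase w ▸ hwU
    have hspan := K_le_span i hU (fun y hy => exists_good i hi.2.2 hU y hy)
      (i.base (r.base w)) hwU'
    constructor
    · refine (injective_iff_map_eq_zero (e.stalkMap w).hom).2 ?_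
      intro t ht
      obtain ⟨s, rfl⟩ := q.stalkMap_surjective (e.base w) t
      have h1 : (r.stalkMap w).hom ((i.stalkMap (r.base w)).hom (σ s)) = 0 := by
        rw [← hcompR, ← hσ1, hcompL]; exact ht
      have h2 : (i.stalkMap (r.base w)).hom (σ s) = 0 :=
        hrbij.1 (h1.trans (map_zero (r.stalkMap w).hom).symm)
      have h3 : σ s ∈ K i (i.base (r.base w)) := by rw [hKz]; exact RingHom.mem_ker.2 h2
      have h4 := hspan h3
      let ρ : X.presheaf.stalk (i.base (r.base w)) →+* Y.presheaf.stalk (e.base w) :=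
        ((q.toLRSHom.stalkMap (e.base w)).hom).comp σ.symm.toRingHom
      have hle : Ideal.span ((X.presheaf.germ U (i.base (r.base w)) hwU') ''
          (RingHom.ker (i.c.app (op U)).hom : Set Γ(X, U))) ≤ RingHom.ker ρ := by
        rw [Ideal.span_le]
        rintro _ ⟨a, ha, rfl⟩
        rw [SetLike.mem_coe, RingHom.mem_ker]
        show (q.toLRSHom.stalkMap (e.base w)).hom
          (σ.symm (X.presheaf.germ U (i.base (r.base w)) hwU' a)) = 0
        have h5 : σ.symm (X.presheaf.germ U (i.base (r.base w)) hwU' a) =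
            X.presheaf.germ U (q.base (e.base w)) hwU a := by
          rw [RingEquiv.symm_apply_eq]; exact (hσ2 U hwU hwU' a).symm
        rw [h5]
        have h6 := LocallyRingedSpace.stalkMap_germ_apply q.toLRSHom U (e.base w) hwU a
        refine h6.trans ?_
        have h0 : q.toLRSHom.c.app (op U) a = 0 := hq0 a ha
        rw [h0]; exact map_zero _
      have h7 := hle h4
      rw [RingHom.mem_ker] at h7
      have h8 : ρ (σ s) = (q.toLRSHom.stalkMap (e.base w)).hom s := by
        show (q.toLRSHom.stalkMap (e.base w)).hom (σ.symm (σ s)) = _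
        rw [RingEquiv.symm_apply_apply]
      exact h8.symm.trans h7
    · intro t
      obtain ⟨t1, ht1⟩ := hrbij.2 t
      obtain ⟨s, hs⟩ := hisurj t1
      refine ⟨(q.toLRSHom.stalkMap (e.base w)).hom (σ.symm s), ?_⟩
      have h9 := hcompL (σ.symm s)
      rw [hσ1, RingEquiv.apply_symm_apply, hcompR, hs, ht1] at h9
      exact h9.symm
  haveI := hstalk
  haveI : LocallyRingedSpace.IsOpenImmersion e :=
    LocallyRingedSpace.IsOpenImmersion.of_stalk_iso e
      (heemb.isOpenEmbedding_of_surjective hesurj)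
  haveI : Epi e.base := (TopCat.epi_iff_surjective e.base).2 hesurj
  exact LocallyRingedSpace.IsOpenImmersion.to_iso e

theorem exists_affine_nhd {X : Scheme.{u}} {Z : LocallyRingedSpace.{u}}
    (i : Z ⟶ X.toLocallyRingedSpace) (hi : LRSImm.IsClosedImmersion i) (z : Z) :
    ∃ (W : OpenNhds z) (R : CommRingCat.{u}),
      Nonempty (Z.restrict W.isOpenEmbedding ≅ Spec.toLocallyRingedSpace.obj (op R)) := by
  obtain ⟨_, ⟨U, hU : IsAffineOpen U, rfl⟩, hzU, -⟩ :=
    X.isBasis_affineOpens.exists_subset_of_mem_open (Set.mem_univ (i.base z)) isOpen_univ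
  let W : Opens Z.toTopCat := (Opens.map i.base).obj U
  have hzW : z ∈ W := hzU
  refine ⟨⟨W, hzW⟩, CommRingCat.of (Γ(X, U) ⧸ RingHom.ker (i.c.app (op U)).hom), ?_⟩
  let r : Z.restrict W.isOpenEmbedding ⟶ Z := Z.ofRestrict W.isOpenEmbedding
  let p : Spec Γ(X, U) ⟶ X := hU.fromSpec
  have hrange_p : Set.range p.base = (U : Set X) := hU.range_fromSpec
  have hsub : Set.range (r ≫ i).base ⊆ Set.range p.toLRSHom.base := by
    rintro _ ⟨w, rfl⟩
    have h1 : (r ≫ i).base w ∈ (U : Set X) := w.2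
    rw [← hrange_p] at h1
    exact h1
  let j' : Z.restrict W.isOpenEmbedding ⟶ (Spec Γ(X, U)).toLocallyRingedSpace :=
    LocallyRingedSpace.IsOpenImmersion.lift p.toLRSHom (r ≫ i) hsub
  have hj' : j' ≫ p.toLRSHom = r ≫ i := LocallyRingedSpace.IsOpenImmersion.lift_fac _ _ _
  have hpre : p ⁻¹ᵁ U = ⊤ := hU.fromSpec_preimage_self
  have hpapp : ∀ a : Γ(X, U), p.app U a =
      (Spec Γ(X, U)).presheaf.map (eqToHom hpre).op ((Scheme.ΓSpecIso Γ(X, U)).inv a) :=
    fun a => hU.fromSpec_app_self_apply a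
  have hkill : ∀ a ∈ RingHom.ker (i.c.app (op U)).hom,
      j'.c.app (op ⊤) ((Scheme.ΓSpecIso Γ(X, U)).inv a) = 0 := by
    intro a ha
    have ha0 : i.c.app (op U) a = 0 := ha
    have h1 : (r ≫ i).c.app (op U) a = 0 := by
      have h1' : (r ≫ i).c.app (op U) a =
          r.c.app (op ((Opens.map i.base).obj U)) (i.c.app (op U) a) := rfl
      rw [h1', ha0]; exact map_zero _
    have h2 : (j' ≫ p.toLRSHom).c.app (op U) a = 0 :=
      app_eq_zero_congr _ _ hj'.symm U a h1
    have h3 : (j' ≫ p.toLRSHom).c.app (op U) a = j'.c.app (op (p ⁻¹ᵁ U)) (p.app U a) := rfl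
    rw [h3, hpapp] at h2
    have h4 := NatTrans.naturality_apply j'.c (eqToHom hpre).op ((Scheme.ΓSpecIso Γ(X, U)).inv a)
    rw [h4] at h2
    haveI : IsIso ((j'.base _* (Z.restrict W.isOpenEmbedding).presheaf).map (eqToHom hpre).op) :=
      inferInstance
    have hinj := (ConcreteCategory.bijective_of_isIso
      ((j'.base _* (Z.restrict W.isOpenEmbedding).presheaf).map (eqToHom hpre).op)).1
    exact hinj (h2.trans (map_zero _).symm)
  obtain ⟨e, he⟩ := factor Γ(X, U) (Z.restrict W.isOpenEmbedding) j'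
    (RingHom.ker (i.c.app (op U)).hom) hkill
  haveI hmkcl : IsClosedImmersion (Spec.map (CommRingCat.ofHom
      (Ideal.Quotient.mk (RingHom.ker (i.c.app (op U)).hom)))) :=
    IsClosedImmersion.spec_of_surjective _ Ideal.Quotient.mk_surjective
  let q : Spec (CommRingCat.of (Γ(X, U) ⧸ RingHom.ker (i.c.app (op U)).hom)) ⟶ X :=
    Spec.map (CommRingCat.ofHom (Ideal.Quotient.mk (RingHom.ker (i.c.app (op U)).hom))) ≫ p
  haveI : SurjectiveOnStalks q := inferInstance
  have hqinj : Function.Injective q.base := by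
    intro y1 y2 h
    have h' : p.base ((Spec.map (CommRingCat.ofHom
        (Ideal.Quotient.mk (RingHom.ker (i.c.app (op U)).hom)))).base y1) =
        p.base ((Spec.map (CommRingCat.ofHom
        (Ideal.Quotient.mk (RingHom.ker (i.c.app (op U)).hom)))).base y2) := h
    exact (Spec.map (CommRingCat.ofHom
      (Ideal.Quotient.mk (RingHom.ker (i.c.app (op U)).hom)))).isClosedEmbedding.injective
      (p.isOpenEmbedding.injective h')
  have hqU : ∀ y, q.base y ∈ U := by
    intro y
    have h1 : q.base y ∈ Set.range p.base := ⟨_, rfl⟩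
    rw [hrange_p] at h1
    exact h1
  have hq0 : ∀ a ∈ RingHom.ker (i.c.app (op U)).hom, q.app U a = 0 := by
    intro a ha
    have h1 : q.app U a = (Spec.map (CommRingCat.ofHom
        (Ideal.Quotient.mk (RingHom.ker (i.c.app (op U)).hom)))).app (p ⁻¹ᵁ U) (p.app U a) := rfl
    rw [h1, hpapp]
    have h2 := NatTrans.naturality_apply (Spec.map (CommRingCat.ofHom
        (Ideal.Quotient.mk (RingHom.ker (i.c.app (op U)).hom)))).c (eqToHom hpre).op
        ((Scheme.ΓSpecIso Γ(X, U)).inv a)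
    refine h2.trans ?_
    have hnat := Scheme.ΓSpecIso_inv_naturality (CommRingCat.ofHom
        (Ideal.Quotient.mk (RingHom.ker (i.c.app (op U)).hom)))
    have hnat' : (Scheme.ΓSpecIso (CommRingCat.of
          (Γ(X, U) ⧸ RingHom.ker (i.c.app (op U)).hom))).inv
          (Ideal.Quotient.mk (RingHom.ker (i.c.app (op U)).hom) a) =
        (Spec.map (CommRingCat.ofHom
          (Ideal.Quotient.mk (RingHom.ker (i.c.app (op U)).hom)))).appTop
          ((Scheme.ΓSpecIso Γ(X, U)).inv a) :=
      congrArg (fun m => m.hom a) hnat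
    have h3 : (Spec.map (CommRingCat.ofHom
          (Ideal.Quotient.mk (RingHom.ker (i.c.app (op U)).hom)))).c.app (op ⊤)
          ((Scheme.ΓSpecIso Γ(X, U)).inv a) = 0 := by
      refine hnat'.symm.trans ?_
      rw [Ideal.Quotient.eq_zero_iff_mem.2 ha]
      exact map_zero _
    rw [h3]
    exact map_zero _
  have heq : e ≫ q.toLRSHom = r ≫ i := by
    show e ≫ ((Spec.map (CommRingCat.ofHom
      (Ideal.Quotient.mk (RingHom.ker (i.c.app (op U)).hom)))).toLRSHom ≫ p.toLRSHom) = _
    rw [← Category.assoc, he, hj']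
  haveI : IsIso e := isIso_of_factor' hU i hi r (fun z' hz' => ⟨⟨z', hz'⟩, rfl⟩) q hqinj hqU hq0 e heq
  have eiso : Z.restrict W.isOpenEmbedding ≅
      (Spec (CommRingCat.of (Γ(X, U) ⧸ RingHom.ker (i.c.app (op U)).hom))).toLocallyRingedSpace :=
    asIso e
  exact ⟨eiso⟩

theorem main9505 (X : Scheme.{u}) (Z : LocallyRingedSpace.{u}) (i : Z ⟶ X.toLocallyRingedSpace)
    (hi : LRSImm.IsClosedImmersion i) :
    ∃ (Z' : Scheme.{u}) (e : Z'.toLocallyRingedSpace ≅ Z),
      AlgebraicGeometry.IsClosedImmersion (Scheme.Hom.mk (e.hom ≫ i) : Z' ⟶ X) := by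
  let Z' : Scheme.{u} :=
    { toLocallyRingedSpace := Z
      local_affine := fun z => exists_affine_nhd i hi z }
  refine ⟨Z', Iso.refl Z, ?_⟩
  have key : ∀ (i' : Z ⟶ X.toLocallyRingedSpace), i' = i →
      AlgebraicGeometry.IsClosedImmersion (Scheme.Hom.mk i' : Z' ⟶ X) := by
    intro i' h
    rw [h]
    exact { stalkMap_surjective := fun z => stalkMap_surjective i hi.1.isInducing hi.2.1 z
            isClosedEmbedding := hi.1 }
  exact key _ (Category.id_comp i)

end Groth.Agent.Helper17.LI4
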