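import Mathlib
import Groth.Agent.Lib.Helper17.MC1

set_option autoImplicit false
universe u

namespace Groth.Agent.Helper17.LQ

open Groth.Agent.Helper17

variable {R : Type u} [CommRing R]

lemma len_span_singleton_ne_top [IsNoetherianRing R] (hdim : ringKrullDim R = 1) {a : R}
    (ha : IsRegular a) : MC.len (Ideal.span {a}) ≠ ⊤ := by
  have hmem : a ∈ nonZeroDivisors R := ha.mem_nonZeroDivisors
  have h1 := ringKrullDim_quotient_succ_le_of_nonZeroDivisor hmem
  rw [hdim] at h1
  have h0 : ringKrullDim (R ⧸ Ideal.span {a}) ≤ 0 := by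
    generalize ringKrullDim (R ⧸ Ideal.span {a}) = x at h1
    induction x using WithBot.recBotCoe with
    | bot => exact bot_le
    | coe n =>
      have h2 : (n : ℕ∞) + 1 ≤ 1 := by exact_mod_cast h1
      have hn : n ≠ ⊤ := by rintro rfl; simp at h2
      have h3 : n < 1 := (ENat.add_one_le_iff hn).mp h2
      have h4 : n = 0 := Order.lt_one_iff.mp h3
      rw [h4]; rfl
  have hK : Ring.KrullDimLE 0 (R ⧸ Ideal.span {a}) := Ring.krullDimLE_iff.mpr (by simpa using h0)
  have hA : IsArtinianRing (R ⧸ Ideal.span {a}) := IsNoetherianRing.isArtinianRing_of_krullDimLE_zero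
  unfold MC.len
  rw [Module.length_eq_of_surjective (S := R) (R := R ⧸ Ideal.span {a}) (M := R ⧸ Ideal.span {a})
    Ideal.Quotient.mk_surjective]
  exact Module.length_ne_top

lemma colon_span_mul {a b : R} (ha : IsRegular a) :
    (Ideal.span {a * b}).colon {a} = Ideal.span {b} := by
  ext r
  rw [Submodule.mem_colon_singleton, smul_eq_mul, Ideal.mem_span_singleton, Ideal.mem_span_singleton]
  constructor
  · rintro ⟨c, hc⟩
    refine ⟨c, ha.left ?_⟩
    show a * r = a * (b * c)
    rw [mul_comm a r, hc, mul_assoc]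
  · rintro ⟨c, rfl⟩
    exact ⟨c, by ring⟩

theorem main9160 (R : Type u) [CommRing R] [IsNoetherianRing R]
    (hsemi : Finite (MaximalSpectrum R)) (hdim : ringKrullDim R = 1) (a b : R) (ha : IsRegular a)
    (hb : IsRegular b) :
    Module.length R (R ⧸ Ideal.span ({a * b} : Set R)) =
        Module.length R (R ⧸ Ideal.span ({a} : Set R)) + Module.length R (R ⧸ Ideal.span ({b} : Set R)) ∧
      Module.length R (R ⧸ Ideal.span ({a} : Set R)) ≠ ⊤ ∧
      Module.length R (R ⧸ Ideal.span ({b} : Set R)) ≠ ⊤ := by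
  have hadd : MC.len (Ideal.span {a * b}) = MC.len (Ideal.span {b}) + MC.len (Ideal.span {a}) := by
    have h := MC.len_eq_add (Ideal.span {a * b}) a
    rwa [colon_span_mul ha, sup_eq_right.mpr
      (Ideal.span_singleton_le_span_singleton.mpr (Dvd.intro b rfl))] at h
  refine ⟨?_, len_span_singleton_ne_top hdim ha, len_span_singleton_ne_top hdim hb⟩
  show MC.len _ = MC.len _ + MC.len _
  rw [hadd, add_comm]

end Groth.Agent.Helper17.LQ
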