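import Mathlib
import Groth.Agent.Lib.Helper17.MC1

set_option autoImplicit false
universe u

namespace Groth.Agent.Helper17.LQ

open Groth.Agent.Helper17 IsLocalRing

variable {R : Type u} [CommRing R]

theorem add_one_le_len_of_lt {J' J : Ideal R} (h : J' < J) : MC.len J + 1 ≤ MC.len J' := by
  obtain ⟨a, haJ, haJ'⟩ := SetLike.exists_of_lt h
  rw [MC.len_eq_add J' a]
  have h1 : MC.len J ≤ MC.len (J' ⊔ Ideal.span {a}) :=
    MC.len_anti (sup_le h.le ((Ideal.span_singleton_le_iff_mem J).mpr haJ))
  have hne : J'.colon {a} ≠ ⊤ := by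
    intro htop
    have h1 : (1 : R) ∈ J'.colon {a} := htop ▸ Submodule.mem_top
    rw [Submodule.mem_colon_singleton, one_smul] at h1
    exact haJ' h1
  have h2 : 1 ≤ MC.len (J'.colon {a}) := by
    have : Nontrivial (R ⧸ J'.colon {a}) := Ideal.Quotient.nontrivial_iff.mpr hne
    exact Order.one_le_iff_pos.mpr (Module.length_pos_iff.mpr this)
  rw [add_comm]
  exact add_le_add h2 h1

variable [IsLocalRing R] [IsNoetherianRing R]

theorem card_le_len (x : R) (hx : x ∈ maximalIdeal R) : ∀ T : Finset (Ideal R),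
    (∀ q ∈ T, q ∈ minimalPrimes R) → (∀ q ∈ T, x ∉ q) →
    (T.card : ℕ∞) ≤ MC.len (T.inf id ⊔ Ideal.span {x}) := by
  classical
  intro T
  induction T using Finset.induction_on with
  | empty => intro _ _; simp
  | insert p T hpT ih =>
    intro hmin hxn
    have hmin' : ∀ q ∈ T, q ∈ minimalPrimes R := fun q hq => hmin q (Finset.mem_insert_of_mem hq)
    have hxn' : ∀ q ∈ T, x ∉ q := fun q hq => hxn q (Finset.mem_insert_of_mem hq)
    have hp : p ∈ minimalPrimes R := hmin p (Finset.mem_insert_self p T)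
    have hpprime : p.IsPrime := hp.1.1
    rw [Finset.card_insert_of_notMem hpT, Finset.inf_insert, id]
    have hne : p ⊓ T.inf id ⊔ Ideal.span {x} ≠ T.inf id ⊔ Ideal.span {x} := by
      intro heq
      have hle : T.inf id ≤ p ⊓ T.inf id ⊔ Ideal.span {x} • T.inf id := by
        intro a ha
        have ha' : a ∈ p ⊓ T.inf id ⊔ Ideal.span {x} := heq ▸ (Ideal.mem_sup_left ha)
        obtain ⟨b, hb, c, hc, rfl⟩ := Submodule.mem_sup.mp ha'
        obtain ⟨r, rfl⟩ := Ideal.mem_span_singleton'.mp hc
        have hrx : r * x ∈ T.inf id := by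
          have := (T.inf id).sub_mem ha hb.2
          rwa [add_sub_cancel_left] at this
        have hr : r ∈ T.inf id := by
          rw [Submodule.mem_finsetInf] at hrx ⊢
          intro q hq
          have hqprime : q.IsPrime := (hmin' q hq).1.1
          exact (hqprime.mem_or_mem (hrx q hq)).resolve_right (hxn' q hq)
        refine Submodule.add_mem_sup hb ?_
        have := Ideal.mul_mem_mul (Ideal.mem_span_singleton_self x) hr
        rw [mul_comm x r] at this
        exact this
      have hjac : Ideal.span {x} ≤ Ideal.jacobson (⊥ : Ideal R) := by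
        rw [IsLocalRing.jacobson_eq_maximalIdeal ⊥ bot_ne_top]
        exact (Ideal.span_singleton_le_iff_mem _).mpr hx
      have hle2 : T.inf id ≤ p ⊓ T.inf id :=
        Submodule.le_of_le_smul_of_le_jacobson_bot (IsNoetherian.noetherian _) hjac hle
      obtain ⟨q, hq, hqp⟩ := hpprime.inf_le'.mp (hle2.trans inf_le_left)
      have hqprime : q.IsPrime := (hmin' q hq).1.1
      have hpq : p ≤ q := hp.2 ⟨hqprime, bot_le⟩ hqp
      exact hpT ((le_antisymm hpq hqp) ▸ hq)
    have hlt : p ⊓ T.inf id ⊔ Ideal.span {x} < T.inf id ⊔ Ideal.span {x} :=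
      lt_of_le_of_ne (sup_le_sup_right inf_le_right _) hne
    calc ((T.card + 1 : ℕ) : ℕ∞) = (T.card : ℕ∞) + 1 := by push_cast; rfl
      _ ≤ MC.len (T.inf id ⊔ Ideal.span {x}) + 1 := add_le_add (ih hmin' hxn') le_rfl
      _ ≤ _ := add_one_le_len_of_lt hlt

theorem main2014 (R : Type u) [CommRing R] [IsNoetherianRing R] [IsLocalRing R]
    (hdim : ringKrullDim R = 1) (x : R) (hx : x ∈ IsLocalRing.maximalIdeal R) (hmin : ∀ p ∈ minimalPrimes R, x ∉ p) :
    (Set.ncard (minimalPrimes R) : ℕ∞) ≤ Module.length R (R ⧸ Ideal.span {x}) := by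
  have hfin : (minimalPrimes R).Finite := minimalPrimes.finite_of_isNoetherianRing R
  have h := card_le_len x hx hfin.toFinset (fun q hq => hfin.mem_toFinset.mp hq)
    (fun q hq => hmin q (hfin.mem_toFinset.mp hq))
  have hc : Set.ncard (minimalPrimes R) = hfin.toFinset.card := by
    rw [← Set.ncard_coe_finset, hfin.coe_toFinset]
  rw [hc]
  exact h.trans (MC.len_anti le_sup_right)

end Groth.Agent.Helper17.LQ
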