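import Mathlib

/-!
# Generalised Lüroth: a unirational function field of transcendence degree one is rational.
-/

set_option autoImplicit false

universe u

namespace Groth.Agent.Helper17.LU

open Polynomial

/-- Choice of a line on which a rational function `p/q` is defined and non-constant. -/
theorem exists_line {k : Type*} [Field k] [Infinite k] {n : ℕ}
    (p q : MvPolynomial (Fin n) k) (hq : q ≠ 0) (hpq : ∀ c : k, p ≠ MvPolynomial.C c * q) :
    ∃ ev : MvPolynomial (Fin n) k →ₐ[k] k[X],
      ev q ≠ 0 ∧ ∀ c : k, ev p ≠ Polynomial.C c * ev q := by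
  have hex : ∀ f : MvPolynomial (Fin n) k, f ≠ 0 →
      ∃ u : Fin n → k, MvPolynomial.eval u f ≠ 0 := by
    intro f hf
    by_contra hcon
    push Not at hcon
    exact hf (MvPolynomial.funext (fun u => by simpa using hcon u))
  obtain ⟨u, hu⟩ := hex q hq
  obtain ⟨c₀, hc₀⟩ : ∃ c₀ : k, c₀ = MvPolynomial.eval u p / MvPolynomial.eval u q := ⟨_, rfl⟩
  have hr : p - MvPolynomial.C c₀ * q ≠ 0 := sub_ne_zero.mpr (hpq c₀)
  obtain ⟨v, hv⟩ := hex (q * (p - MvPolynomial.C c₀ * q)) (mul_ne_zero hq hr)
  rw [map_mul] at hv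
  have hvq : MvPolynomial.eval v q ≠ 0 := left_ne_zero_of_mul hv
  have hvr : MvPolynomial.eval v (p - MvPolynomial.C c₀ * q) ≠ 0 := right_ne_zero_of_mul hv
  obtain ⟨ev, hev⟩ : ∃ ev : MvPolynomial (Fin n) k →ₐ[k] k[X], ∀ i,
      ev (MvPolynomial.X i) = Polynomial.C (u i) + Polynomial.C (v i - u i) * Polynomial.X :=
    ⟨MvPolynomial.aeval _, fun i => MvPolynomial.aeval_X _ i⟩
  have hC : ∀ a : k, ev (MvPolynomial.C a) = Polynomial.C a := by
    intro a
    have := ev.commutes a
    rwa [MvPolynomial.algebraMap_eq, ← Polynomial.C_eq_algebraMap] at this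
  have h0 : ∀ f, Polynomial.eval 0 (ev f) = MvPolynomial.eval u f := by
    intro f
    induction f using MvPolynomial.induction_on with
    | C a => rw [hC, Polynomial.eval_C, MvPolynomial.eval_C]
    | add f g hf hg => rw [map_add, Polynomial.eval_add, hf, hg, map_add]
    | mul_X f i hf => rw [map_mul, Polynomial.eval_mul, hf, map_mul, hev]; simp
  have h1 : ∀ f, Polynomial.eval 1 (ev f) = MvPolynomial.eval v f := by
    intro f
    induction f using MvPolynomial.induction_on with
    | C a => rw [hC, Polynomial.eval_C, MvPolynomial.eval_C]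
    | add f g hf hg => rw [map_add, Polynomial.eval_add, hf, hg, map_add]
    | mul_X f i hf => rw [map_mul, Polynomial.eval_mul, hf, map_mul, hev]; simp
  refine ⟨ev, ?_, ?_⟩
  · intro h
    apply hu
    rw [← h0, h, Polynomial.eval_zero]
  · intro c hc
    have e0 := congrArg (Polynomial.eval 0) hc
    have e1 := congrArg (Polynomial.eval 1) hc
    rw [Polynomial.eval_mul, Polynomial.eval_C, h0, h0] at e0
    rw [Polynomial.eval_mul, Polynomial.eval_C, h1, h1] at e1
    have hc' : c = c₀ := by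
      rw [hc₀, e0]
      field_simp
    apply hvr
    rw [map_sub, map_mul, MvPolynomial.eval_C, e1, hc', sub_self]

/-- A "place": the evaluation `ev` extends to the subalgebra of fractions with denominator a
power of `q`, provided `ev q ≠ 0`. -/
theorem exists_place {k P F L : Type*} [Field k] [CommRing P] [IsDomain P] [Algebra k P]
    [Field F] [Algebra P F] [IsFractionRing P F] [Algebra k F] [IsScalarTower k P F]
    [Field L] [Algebra k L] (ev : P →ₐ[k] L) (q : P) (hq : ev q ≠ 0) :
    ∃ (O : Subalgebra k F) (ρ : O →ₐ[k] L),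
      (∀ z : F, (∃ p : P, z * algebraMap P F q = algebraMap P F p) → z ∈ O) ∧
      ∀ (z : O) (p p' : P), (z : F) * algebraMap P F p' = algebraMap P F p →
        ρ z * ev p' = ev p := by
  have hq0 : q ≠ 0 := fun h => hq (by rw [h, map_zero])
  have hle : Submonoid.powers q ≤ nonZeroDivisors P :=
    powers_le_nonZeroDivisors_of_noZeroDivisors hq0
  have hBinj : Function.Injective (algebraMap P (Localization.Away q)) :=
    IsLocalization.injective (Localization.Away q) hle
  have hFinj : Function.Injective (algebraMap P F) := IsFractionRing.injective P F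
  have hu1 : ∀ y : Submonoid.powers q, IsUnit ((IsScalarTower.toAlgHom k P F) y) := by
    rintro ⟨y, m, rfl⟩
    exact IsUnit.mk0 _ ((map_ne_zero_iff _ hFinj).mpr (pow_ne_zero m hq0))
  have hu2 : ∀ y : Submonoid.powers q, IsUnit (ev y) := by
    rintro ⟨y, m, rfl⟩
    refine IsUnit.mk0 _ ?_
    show ev (q ^ m) ≠ 0
    rw [map_pow]
    exact pow_ne_zero m hq
  obtain ⟨ι, hι_alg⟩ : ∃ ι : Localization.Away q →ₐ[k] F,
      ∀ p : P, ι (algebraMap P (Localization.Away q) p) = algebraMap P F p :=
    ⟨IsLocalization.liftAlgHom (M := Submonoid.powers q) hu1, fun p => by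
      rw [IsLocalization.liftAlgHom_apply, IsLocalization.lift_eq]; rfl⟩
  obtain ⟨ev', hev'_alg⟩ : ∃ ev' : Localization.Away q →ₐ[k] L,
      ∀ p : P, ev' (algebraMap P (Localization.Away q) p) = ev p :=
    ⟨IsLocalization.liftAlgHom (M := Submonoid.powers q) hu2, fun p => by
      rw [IsLocalization.liftAlgHom_apply, IsLocalization.lift_eq]; rfl⟩
  have hι : Function.Injective ι := by
    rw [injective_iff_map_eq_zero]
    intro b hb
    obtain ⟨p, s, rfl⟩ := IsLocalization.exists_mk'_eq (Submonoid.powers q) b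
    have h1 : ι (IsLocalization.mk' (Localization.Away q) p s) *
        ι (algebraMap P (Localization.Away q) s) = ι (algebraMap P (Localization.Away q) p) := by
      rw [← map_mul, IsLocalization.mk'_spec]
    rw [hb, zero_mul, hι_alg] at h1
    have hp : p = 0 := hFinj (by rw [← h1, map_zero])
    rw [hp, IsLocalization.mk'_zero]
  refine ⟨ι.range, ev'.comp (AlgEquiv.ofInjective ι hι).symm.toAlgHom, ?_, ?_⟩
  · rintro z ⟨p, hp⟩
    refine ⟨IsLocalization.mk' (Localization.Away q) p
      (⟨q, Submonoid.mem_powers q⟩ : Submonoid.powers q), ?_⟩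
    have hqF : algebraMap P F q ≠ 0 := (map_ne_zero_iff _ hFinj).mpr hq0
    apply mul_right_cancel₀ hqF
    rw [hp, ← hι_alg q]
    show ι _ * ι _ = _
    rw [← map_mul]
    have := IsLocalization.mk'_spec (Localization.Away q) p
      (⟨q, Submonoid.mem_powers q⟩ : Submonoid.powers q)
    rw [this, hι_alg]
  · intro z p p' hz
    obtain ⟨b, hb⟩ := z.2
    have hzb : z = AlgEquiv.ofInjective ι hι b := Subtype.ext hb.symm
    have h1 : (ev'.comp (AlgEquiv.ofInjective ι hι).symm.toAlgHom) z = ev' b := by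
      rw [hzb]
      simp
    rw [h1]
    have h2 : b * algebraMap P (Localization.Away q) p' =
        algebraMap P (Localization.Away q) p := by
      apply hι
      rw [map_mul, hι_alg, hι_alg]
      have : ι b = (z : F) := hb
      rw [this, hz]
    rw [← hev'_alg p', ← map_mul, h2, hev'_alg]

open scoped IntermediateField.algebraAdjoinAdjoin in
/-- An algebra map out of a subalgebra of `K` (algebraic over `k(x)`) sending `x` to a
transcendental element is injective. -/
theorem injective_of_transcendental {k K L : Type*} [Field k] [Field K] [Algebra k K]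
    [Field L] [Algebra k L] (x : K)
    (halg : Algebra.IsAlgebraic (IntermediateField.adjoin k {x}) K)
    (A : Subalgebra k K) (hxA : x ∈ A) (ψ₀ : A →ₐ[k] L)
    (hψ : Transcendental k (ψ₀ ⟨x, hxA⟩)) : Function.Injective ψ₀ := by
  rw [injective_iff_map_eq_zero]
  intro a ha
  by_contra ha0
  have ha0' : (a : K) ≠ 0 := fun h => ha0 (Subtype.ext h)
  have h1 : IsAlgebraic (Algebra.adjoin k {x}) (a : K) :=
    (IsFractionRing.isAlgebraic_iff (Algebra.adjoin k {x}) (IntermediateField.adjoin k {x}) K).mpr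
      (halg.isAlgebraic (a : K))
  obtain ⟨t, ht, r, hr, hat⟩ :=
    h1.exists_nonzero_eq_adjoin_mul (mem_nonZeroDivisors_of_ne_zero ha0')
  have hRA : Algebra.adjoin k {x} ≤ A := Algebra.adjoin_le (by simpa using hxA)
  have htA : t ∈ A := by
    refine Algebra.adjoin_induction (p := fun z _ => z ∈ A) ?_ ?_ ?_ ?_ ht
    · intro z hz
      rw [Set.mem_singleton_iff] at hz
      rw [hz]
      exact a.2
    · intro r'
      exact hRA r'.2
    · intro _ _ _ _ h1 h2
      exact A.add_mem h1 h2
    · intro _ _ _ _ h1 h2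
      exact A.mul_mem h1 h2
  obtain ⟨g, hg⟩ : ∃ g : k[X], Polynomial.aeval x g = (r : K) := by
    have : (r : K) ∈ (Polynomial.aeval x : k[X] →ₐ[k] K).range := by
      rw [← Algebra.adjoin_singleton_eq_range_aeval]
      exact r.2
    exact this
  have hg0 : g ≠ 0 := by
    rintro rfl
    apply hr
    apply Subtype.ext
    rw [← hg, map_zero]
    rfl
  have key : Polynomial.aeval (⟨x, hxA⟩ : A) g = a * ⟨t, htA⟩ := by
    apply Subtype.ext
    rw [Polynomial.aeval_subalgebra_coe]
    show Polynomial.aeval x g = (a : K) * t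
    rw [hg, hat]
    rfl
  have h2 := congrArg ψ₀ key
  rw [map_mul, ha, zero_mul, ← Polynomial.aeval_algHom_apply] at h2
  exact hg0 (transcendental_iff.mp hψ g h2)

theorem isFractionRing_adjoin {k K : Type*} [Field k] [Field K] [Algebra k K] (G : Set K)
    (hG : IntermediateField.adjoin k G = ⊤) : IsFractionRing (Algebra.adjoin k G) K := by
  apply IsFractionRing.of_field
  intro z
  have hz : z ∈ IntermediateField.adjoin k G := by rw [hG]; trivial
  obtain ⟨a, ha, b, hb, rfl⟩ := IntermediateField.mem_adjoin_iff_div.mp hz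
  exact ⟨⟨a, ha⟩, ⟨b, hb⟩, rfl⟩

/-- Generalised Lüroth in transcendence degree one. -/
theorem luroth_gen (k : Type u) [Field k] [IsAlgClosed k]
    (K : Type u) [Field K] [Algebra k K] (hfg : (⊤ : IntermediateField k K).FG)
    (x : K) (hx : Transcendental k x)
    (halg : Algebra.IsAlgebraic ↥(IntermediateField.adjoin k {x}) K)
    (n : ℕ) (φ : K →ₐ[k] FractionRing (MvPolynomial (Fin n) k)) :
    ∃ t : K, Transcendental k t ∧ IntermediateField.adjoin k {t} = ⊤ := by
  classical
  obtain ⟨S, hS⟩ := hfg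
  obtain ⟨G, hGdef⟩ : ∃ G : Finset K, G = insert x S := ⟨_, rfl⟩
  have hxG : x ∈ G := by rw [hGdef]; exact Finset.mem_insert_self x S
  have hG : IntermediateField.adjoin k (G : Set K) = ⊤ := by
    rw [eq_top_iff, ← hS]
    apply IntermediateField.adjoin.mono
    rw [hGdef]
    intro s hs
    exact Finset.mem_insert_of_mem hs
  obtain ⟨b, hb⟩ := IsLocalization.exist_integer_multiples_of_finset
    (nonZeroDivisors (MvPolynomial (Fin n) k)) (G.image φ)
  have hbG : ∀ s ∈ G, ∃ p : MvPolynomial (Fin n) k,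
      φ s * algebraMap (MvPolynomial (Fin n) k) (FractionRing (MvPolynomial (Fin n) k))
        (b : MvPolynomial (Fin n) k) =
      algebraMap (MvPolynomial (Fin n) k) (FractionRing (MvPolynomial (Fin n) k)) p := by
    intro s hs
    obtain ⟨p, hp⟩ := hb (φ s) (Finset.mem_image_of_mem _ hs)
    exact ⟨p, by rw [hp, Algebra.smul_def, mul_comm]⟩
  have hq0 : (b : MvPolynomial (Fin n) k) ≠ 0 := nonZeroDivisors.ne_zero b.2
  obtain ⟨p₀, hp₀⟩ := hbG x hxG
  have hFinj : Function.Injective
      (algebraMap (MvPolynomial (Fin n) k) (FractionRing (MvPolynomial (Fin n) k))) :=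
    IsFractionRing.injective _ _
  have hpq : ∀ c : k, p₀ ≠ MvPolynomial.C c * (b : MvPolynomial (Fin n) k) := by
    intro c hc
    have hp₀' := hp₀
    rw [hc, map_mul] at hp₀'
    have h2 : φ x = algebraMap (MvPolynomial (Fin n) k)
        (FractionRing (MvPolynomial (Fin n) k)) (MvPolynomial.C c) :=
      mul_right_cancel₀ ((map_ne_zero_iff _ hFinj).mpr hq0) hp₀'
    have h3 : φ x = φ (algebraMap k K c) := by
      rw [h2, AlgHom.commutes, ← MvPolynomial.algebraMap_eq, ← IsScalarTower.algebraMap_apply]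
    have h4 : x = algebraMap k K c := φ.toRingHom.injective h3
    exact hx (h4 ▸ isAlgebraic_algebraMap c)
  obtain ⟨evl, hevq, hevp⟩ := exists_line p₀ (b : MvPolynomial (Fin n) k) hq0 hpq
  have hRinj : Function.Injective (algebraMap k[X] (RatFunc k)) := RatFunc.algebraMap_injective k
  obtain ⟨ev, hev⟩ : ∃ ev : MvPolynomial (Fin n) k →ₐ[k] RatFunc k,
      ∀ f, ev f = algebraMap k[X] (RatFunc k) (evl f) :=
    ⟨(IsScalarTower.toAlgHom k k[X] (RatFunc k)).comp evl, fun f => rfl⟩
  have hevq' : ev (b : MvPolynomial (Fin n) k) ≠ 0 := by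
    rw [hev]
    exact (map_ne_zero_iff _ hRinj).mpr hevq
  obtain ⟨O, ρ, hO, hρ⟩ := exists_place (F := FractionRing (MvPolynomial (Fin n) k)) ev
    (b : MvPolynomial (Fin n) k) hevq'
  have hAO : ∀ a : Algebra.adjoin k (G : Set K), φ (a : K) ∈ O := by
    intro a
    have hle : Algebra.adjoin k (G : Set K) ≤ O.comap φ :=
      Algebra.adjoin_le (fun s hs => hO _ (hbG s hs))
    exact hle a.2
  have hxA : x ∈ Algebra.adjoin k (G : Set K) := Algebra.subset_adjoin hxG
  obtain ⟨ψ₀, hψ₀⟩ : ∃ ψ₀ : Algebra.adjoin k (G : Set K) →ₐ[k] RatFunc k,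
      ∀ a, ψ₀ a = ρ ⟨φ (a : K), hAO a⟩ :=
    ⟨ρ.comp ((φ.comp (Algebra.adjoin k (G : Set K)).val).codRestrict O hAO), fun a => rfl⟩
  have hψx : Transcendental k (ψ₀ ⟨x, hxA⟩) := by
    apply RatFunc.transcendental_of_ne_C
    rintro ⟨c, hc⟩
    have h1 := hρ ⟨φ x, hAO ⟨x, hxA⟩⟩ p₀ (b : MvPolynomial (Fin n) k) hp₀
    rw [← hψ₀ ⟨x, hxA⟩, hc, hev, hev, ← RatFunc.algebraMap_C, ← map_mul] at h1
    exact hevp c (hRinj h1).symm
  have hinj := injective_of_transcendental x halg (Algebra.adjoin k (G : Set K)) hxA ψ₀ hψx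
  have : IsFractionRing (Algebra.adjoin k (G : Set K)) K := isFractionRing_adjoin (G : Set K) hG
  obtain ⟨ψ, hψ⟩ : ∃ ψ : K →ₐ[k] RatFunc k, ψ x = ψ₀ ⟨x, hxA⟩ := by
    refine ⟨IsFractionRing.liftAlgHom hinj, ?_⟩
    rw [IsFractionRing.liftAlgHom_apply]
    exact IsFractionRing.lift_algebraMap hinj (⟨x, hxA⟩ : Algebra.adjoin k (G : Set K))
  have hE : ψ.fieldRange ≠ ⊥ := by
    intro h
    have hmem : ψ x ∈ ψ.fieldRange := ⟨x, rfl⟩
    rw [h, IntermediateField.mem_bot] at hmem
    obtain ⟨c, hc⟩ := hmem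
    rw [hψ] at hc
    exact hψx (hc ▸ isAlgebraic_algebraMap c)
  obtain ⟨t, ht⟩ : ∃ t, ψ t = RatFunc.Luroth.generator ψ.fieldRange :=
    RatFunc.Luroth.generator_mem (E := ψ.fieldRange)
  refine ⟨t, ?_, ?_⟩
  · intro halg_t
    apply RatFunc.Luroth.transcendental_generator hE
    rw [← ht]
    exact halg_t.algHom ψ
  · rw [eq_top_iff]
    intro y _
    have hEq : ψ.fieldRange = IntermediateField.adjoin k {ψ t} := by
      rw [ht]
      exact RatFunc.Luroth.eq_adjoin_generator
    have hy : ψ y ∈ IntermediateField.adjoin k {ψ t} := hEq ▸ ⟨y, rfl⟩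
    have hmap : IntermediateField.adjoin k {ψ t} = (IntermediateField.adjoin k {t}).map ψ := by
      rw [IntermediateField.adjoin_map, Set.image_singleton]
    rw [hmap] at hy
    obtain ⟨z, hz, hzy⟩ := hy
    have : z = y := ψ.toRingHom.injective hzy
    exact this ▸ hz

end Groth.Agent.Helper17.LU
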