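import Mathlib

/-! Helper17 LU2: units of group algebras over domains; coefficient calculus for the
Laurent cosimplicial ring `A[ℤ^n]` (used for S13793). -/

set_option autoImplicit false
universe u

namespace Groth.Agent.Helper17.LU2

open AddMonoidAlgebra

section Monomial

variable {D G : Type*} [CommRing D] [NoZeroDivisors D] [Nontrivial D] [AddZeroClass G]
  [TwoUniqueSums G]

theorem card_mul_card_le_one (x y : AddMonoidAlgebra D G) (h : x * y = 1) :
    x.coeff.support.card * y.coeff.support.card ≤ 1 := by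
  classical
  by_contra hlt
  rw [not_le] at hlt
  obtain ⟨p1, hp1, p2, hp2, hne, h1, h2⟩ := TwoUniqueSums.uniqueAdd_of_one_lt_card hlt
  rw [Finset.mem_product] at hp1 hp2
  have e1 := coeff_mul_add_of_uniqueAdd h1
  have e2 := coeff_mul_add_of_uniqueAdd h2
  rw [h, one_def, coeff_single, Finsupp.single_apply] at e1 e2
  have n1 : x.coeff p1.1 * y.coeff p1.2 ≠ 0 :=
    mul_ne_zero (Finsupp.mem_support_iff.mp hp1.1) (Finsupp.mem_support_iff.mp hp1.2)
  have n2 : x.coeff p2.1 * y.coeff p2.2 ≠ 0 :=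
    mul_ne_zero (Finsupp.mem_support_iff.mp hp2.1) (Finsupp.mem_support_iff.mp hp2.2)
  have z1 : (0 : G) = p1.1 + p1.2 := by
    by_contra hz
    rw [if_neg hz] at e1
    exact n1 e1.symm
  have z2 : (0 : G) = p2.1 + p2.2 := by
    by_contra hz
    rw [if_neg hz] at e2
    exact n2 e2.symm
  have := h1 hp2.1 hp2.2 (z2.symm.trans z1)
  exact hne (Prod.ext this.1.symm this.2.symm)

theorem exists_single_of_mul_eq_one (x y : AddMonoidAlgebra D G) (h : x * y = 1) :
    ∃ (m : G) (c : D), c ≠ 0 ∧ x = single m c := by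
  classical
  have hx : x ≠ 0 := by
    rintro rfl
    rw [zero_mul] at h
    exact zero_ne_one h
  have hy : y ≠ 0 := by
    rintro rfl
    rw [mul_zero] at h
    exact zero_ne_one h
  have cx : 1 ≤ x.coeff.support.card := by
    rw [Nat.succ_le_iff, Finset.card_pos, Finsupp.support_nonempty_iff]
    exact fun h0 => hx (coeff_eq_zero.mp h0)
  have cy : 1 ≤ y.coeff.support.card := by
    rw [Nat.succ_le_iff, Finset.card_pos, Finsupp.support_nonempty_iff]
    exact fun h0 => hy (coeff_eq_zero.mp h0)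
  have hle := card_mul_card_le_one x y h
  have hc1 : x.coeff.support.card = 1 := by
    apply le_antisymm _ cx
    calc x.coeff.support.card = x.coeff.support.card * 1 := (mul_one _).symm
      _ ≤ x.coeff.support.card * y.coeff.support.card := Nat.mul_le_mul_left _ cy
      _ ≤ 1 := hle
  obtain ⟨a, b, hb, hab⟩ := Finsupp.card_support_eq_one'.mp hc1
  exact ⟨a, b, hb, AddMonoidAlgebra.ext (by rw [hab, coeff_single])⟩

end Monomial

/-! ### the coface maps -/

abbrev D0 : (Fin 2 → ℤ) →+ (Fin 3 → ℤ) :=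
  (Matrix.mulVecLin (!![0, 0; 1, 0; 0, 1] : Matrix (Fin 3) (Fin 2) ℤ)).toAddMonoidHom
abbrev D1 : (Fin 2 → ℤ) →+ (Fin 3 → ℤ) :=
  (Matrix.mulVecLin (!![1, 0; 1, 0; 0, 1] : Matrix (Fin 3) (Fin 2) ℤ)).toAddMonoidHom
abbrev D2 : (Fin 2 → ℤ) →+ (Fin 3 → ℤ) :=
  (Matrix.mulVecLin (!![1, 0; 0, 1; 0, 1] : Matrix (Fin 3) (Fin 2) ℤ)).toAddMonoidHom
abbrev D3 : (Fin 2 → ℤ) →+ (Fin 3 → ℤ) :=
  (Matrix.mulVecLin (!![1, 0; 0, 1; 0, 0] : Matrix (Fin 3) (Fin 2) ℤ)).toAddMonoidHom
abbrev E0 : (Fin 1 → ℤ) →+ (Fin 2 → ℤ) :=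
  (Matrix.mulVecLin (!![0; 1] : Matrix (Fin 2) (Fin 1) ℤ)).toAddMonoidHom
abbrev E1 : (Fin 1 → ℤ) →+ (Fin 2 → ℤ) :=
  (Matrix.mulVecLin (!![1; 1] : Matrix (Fin 2) (Fin 1) ℤ)).toAddMonoidHom
abbrev E2 : (Fin 1 → ℤ) →+ (Fin 2 → ℤ) :=
  (Matrix.mulVecLin (!![1; 0] : Matrix (Fin 2) (Fin 1) ℤ)).toAddMonoidHom

theorem D0_apply (v : Fin 2 → ℤ) : D0 v = ![0, v 0, v 1] := by
  ext i; fin_cases i <;> simp [Matrix.mulVec, dotProduct, Fin.sum_univ_two]
theorem D1_apply (v : Fin 2 → ℤ) : D1 v = ![v 0, v 0, v 1] := by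
  ext i; fin_cases i <;> simp [Matrix.mulVec, dotProduct, Fin.sum_univ_two]
theorem D2_apply (v : Fin 2 → ℤ) : D2 v = ![v 0, v 1, v 1] := by
  ext i; fin_cases i <;> simp [Matrix.mulVec, dotProduct, Fin.sum_univ_two]
theorem D3_apply (v : Fin 2 → ℤ) : D3 v = ![v 0, v 1, 0] := by
  ext i; fin_cases i <;> simp [Matrix.mulVec, dotProduct, Fin.sum_univ_two]
theorem E0_apply (v : Fin 1 → ℤ) : E0 v = ![0, v 0] := by
  ext i; fin_cases i <;> simp [Matrix.mulVec, dotProduct]
theorem E1_apply (v : Fin 1 → ℤ) : E1 v = ![v 0, v 0] := by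
  ext i; fin_cases i <;> simp [Matrix.mulVec, dotProduct]
theorem E2_apply (v : Fin 1 → ℤ) : E2 v = ![v 0, 0] := by
  ext i; fin_cases i <;> simp [Matrix.mulVec, dotProduct]

theorem vec1_eta (m : Fin 1 → ℤ) : ![m 0] = m := by
  ext i; fin_cases i; rfl
theorem vec2_eta (m : Fin 2 → ℤ) : ![m 0, m 1] = m := by
  ext i; fin_cases i <;> rfl
theorem vec3_eta (m : Fin 3 → ℤ) : ![m 0, m 1, m 2] = m := by
  ext i; fin_cases i <;> rfl

/-- simplicial identities -/
theorem D1E0 : D1.comp E0 = D0.comp E0 := by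
  ext v i; simp only [AddMonoidHom.comp_apply, D0_apply, D1_apply, E0_apply]; fin_cases i <;> rfl
theorem D2E0 : D2.comp E0 = D0.comp E1 := by
  ext v i; simp only [AddMonoidHom.comp_apply, D0_apply, D2_apply, E0_apply, E1_apply]
  fin_cases i <;> rfl
theorem D3E0 : D3.comp E0 = D0.comp E2 := by
  ext v i; simp only [AddMonoidHom.comp_apply, D0_apply, D3_apply, E0_apply, E2_apply]
  fin_cases i <;> rfl
theorem D2E1 : D2.comp E1 = D1.comp E1 := by
  ext v i; simp only [AddMonoidHom.comp_apply, D1_apply, D2_apply, E1_apply]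
  fin_cases i <;> rfl
theorem D3E1 : D3.comp E1 = D1.comp E2 := by
  ext v i; simp only [AddMonoidHom.comp_apply, D1_apply, D3_apply, E1_apply, E2_apply]
  fin_cases i <;> rfl
theorem D3E2 : D3.comp E2 = D2.comp E2 := by
  ext v i; simp only [AddMonoidHom.comp_apply, D2_apply, D3_apply, E2_apply]
  fin_cases i <;> rfl

variable (A : Type u) [CommRing A]

theorem coeff_mapDomain_ite {α β : Type*} [AddMonoid α] [AddMonoid β] [DecidableEq β]
    (φ : α →+ β) (ψ : β → α) (hψ : ∀ a, ψ (φ a) = a) (x : AddMonoidAlgebra A α) (p : β) :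
    (mapDomainRingHom A φ x).coeff p = if φ (ψ p) = p then x.coeff (ψ p) else 0 := by
  have hinj : Function.Injective φ := Function.LeftInverse.injective hψ
  rw [mapDomainRingHom_apply, coeff_mapDomain]
  split_ifs with hp
  · conv_lhs => rw [← hp]
    exact Finsupp.mapDomain_apply hinj _ _
  · exact Finsupp.mapDomain_of_notMem_range _ _ (fun ⟨a, ha⟩ => hp (by rw [← ha, hψ]))

noncomputable abbrev d0 := mapDomainRingHom A D0
noncomputable abbrev d1 := mapDomainRingHom A D1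
noncomputable abbrev d2 := mapDomainRingHom A D2
noncomputable abbrev d3 := mapDomainRingHom A D3
noncomputable abbrev e0 := mapDomainRingHom A E0
noncomputable abbrev e1 := mapDomainRingHom A E1
noncomputable abbrev e2 := mapDomainRingHom A E2

theorem coeff_d0 (f : AddMonoidAlgebra A (Fin 2 → ℤ)) (p : Fin 3 → ℤ) :
    (d0 A f).coeff p = if p 0 = 0 then f.coeff ![p 1, p 2] else 0 := by
  rw [coeff_mapDomain_ite A D0 (fun p => ![p 1, p 2]) (fun v => by
    rw [D0_apply]; exact vec2_eta v)]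
  refine if_congr ?_ rfl rfl
  show D0 ![p 1, p 2] = p ↔ _
  rw [D0_apply]
  constructor
  · intro h; exact (congrFun h 0).symm
  · intro h; rw [← h]; exact vec3_eta p

theorem coeff_d1 (f : AddMonoidAlgebra A (Fin 2 → ℤ)) (p : Fin 3 → ℤ) :
    (d1 A f).coeff p = if p 0 = p 1 then f.coeff ![p 0, p 2] else 0 := by
  rw [coeff_mapDomain_ite A D1 (fun p => ![p 0, p 2]) (fun v => by
    rw [D1_apply]; exact vec2_eta v)]
  refine if_congr ?_ rfl rfl
  show D1 ![p 0, p 2] = p ↔ _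
  rw [D1_apply]
  constructor
  · intro h; exact congrFun h 1
  · intro h
    have : (![p 0, p 0, p 2] : Fin 3 → ℤ) = ![p 0, p 1, p 2] := by rw [← h]
    exact this.trans (vec3_eta p)

theorem coeff_d2 (f : AddMonoidAlgebra A (Fin 2 → ℤ)) (p : Fin 3 → ℤ) :
    (d2 A f).coeff p = if p 1 = p 2 then f.coeff ![p 0, p 1] else 0 := by
  rw [coeff_mapDomain_ite A D2 (fun p => ![p 0, p 1]) (fun v => by
    rw [D2_apply]; exact vec2_eta v)]
  refine if_congr ?_ rfl rfl
  show D2 ![p 0, p 1] = p ↔ _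
  rw [D2_apply]
  constructor
  · intro h; exact congrFun h 2
  · intro h
    have : (![p 0, p 1, p 1] : Fin 3 → ℤ) = ![p 0, p 1, p 2] := by rw [← h]
    exact this.trans (vec3_eta p)

theorem coeff_d3 (f : AddMonoidAlgebra A (Fin 2 → ℤ)) (p : Fin 3 → ℤ) :
    (d3 A f).coeff p = if p 2 = 0 then f.coeff ![p 0, p 1] else 0 := by
  rw [coeff_mapDomain_ite A D3 (fun p => ![p 0, p 1]) (fun v => by
    rw [D3_apply]; exact vec2_eta v)]
  refine if_congr ?_ rfl rfl
  show D3 ![p 0, p 1] = p ↔ _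
  rw [D3_apply]
  constructor
  · intro h; exact (congrFun h 2).symm
  · intro h; rw [← h]; exact vec3_eta p

theorem coeff_e0 (g : AddMonoidAlgebra A (Fin 1 → ℤ)) (m : Fin 2 → ℤ) :
    (e0 A g).coeff m = if m 0 = 0 then g.coeff ![m 1] else 0 := by
  rw [coeff_mapDomain_ite A E0 (fun m => ![m 1]) (fun v => by
    rw [E0_apply]; exact vec1_eta v)]
  refine if_congr ?_ rfl rfl
  show E0 ![m 1] = m ↔ _
  rw [E0_apply]
  constructor
  · intro h; exact (congrFun h 0).symm
  · intro h; rw [← h]; exact vec2_eta m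

theorem coeff_e1 (g : AddMonoidAlgebra A (Fin 1 → ℤ)) (m : Fin 2 → ℤ) :
    (e1 A g).coeff m = if m 0 = m 1 then g.coeff ![m 0] else 0 := by
  rw [coeff_mapDomain_ite A E1 (fun m => ![m 0]) (fun v => by
    rw [E1_apply]; exact vec1_eta v)]
  refine if_congr ?_ rfl rfl
  show E1 ![m 0] = m ↔ _
  rw [E1_apply]
  constructor
  · intro h; exact congrFun h 1
  · intro h
    have : (![m 0, m 0] : Fin 2 → ℤ) = ![m 0, m 1] := by rw [← h]
    exact this.trans (vec2_eta m)

theorem coeff_e2 (g : AddMonoidAlgebra A (Fin 1 → ℤ)) (m : Fin 2 → ℤ) :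
    (e2 A g).coeff m = if m 1 = 0 then g.coeff ![m 0] else 0 := by
  rw [coeff_mapDomain_ite A E2 (fun m => ![m 0]) (fun v => by
    rw [E2_apply]; exact vec1_eta v)]
  refine if_congr ?_ rfl rfl
  show E2 ![m 0] = m ↔ _
  rw [E2_apply]
  constructor
  · intro h; exact (congrFun h 1).symm
  · intro h; rw [← h]; exact vec2_eta m

theorem E2_injective : Function.Injective E2 := by
  intro v w h
  rw [E2_apply, E2_apply] at h
  rw [← vec1_eta v, ← vec1_eta w, show v 0 = w 0 from congrFun h 0]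

/-- the "degree zero in the second variable" part -/
noncomputable def hproj (f : AddMonoidAlgebra A (Fin 2 → ℤ)) : AddMonoidAlgebra A (Fin 1 → ℤ) :=
  .ofCoeff (Finsupp.comapDomain E2 f.coeff E2_injective.injOn)

theorem coeff_hproj (f : AddMonoidAlgebra A (Fin 2 → ℤ)) (k : Fin 1 → ℤ) :
    (hproj A f).coeff k = f.coeff ![k 0, 0] := by
  rw [hproj, coeff_ofCoeff, Finsupp.comapDomain_apply, E2_apply]

end Groth.Agent.Helper17.LU2
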