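import Groth.Agent.Lib.Helper17.LU2

/-! Helper17 LU3: additive homotopy, ideal calculus and the square-zero induction step
for S13793. -/

set_option autoImplicit false
universe u

namespace Groth.Agent.Helper17.LU3

open AddMonoidAlgebra Groth.Agent.Helper17.LU2

theorem cg1 {G : Type*} [CommGroup G] (a b c d e f : G) :
    (a * b⁻¹ * c) * (a * d⁻¹ * e)⁻¹ * (b * d⁻¹ * f) * (c * e⁻¹ * f)⁻¹ = 1 := by
  apply Additive.ofMul.injective
  simp only [ofMul_mul, ofMul_inv, ofMul_one]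
  abel

theorem cg2 {G : Type*} [CommGroup G] (a b c d : G) (h : a * b⁻¹ * c * d⁻¹ = 1) :
    a * c = b * d := by
  have h' := congrArg (fun t => t * (b * d)) h
  simp only [one_mul] at h'
  rw [← h']
  apply Additive.ofMul.injective
  simp only [ofMul_mul, ofMul_inv]
  abel

theorem unit_calc {R : Type*} [CommRing R] (x a b c : Rˣ) :
    ((x * (a * b⁻¹ * c)⁻¹ : Rˣ) : R) - 1 =
      ((x : R) * b - a * c) * ((a⁻¹ : Rˣ) : R) * ((c⁻¹ : Rˣ) : R) := by
  have hp : (a : R) * ((a⁻¹ : Rˣ) : R) = 1 := Units.mul_inv a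
  have hq : (c : R) * ((c⁻¹ : Rˣ) : R) = 1 := Units.mul_inv c
  simp only [mul_inv_rev, inv_inv, Units.val_mul]
  linear_combination ((c : R) * ((c⁻¹ : Rˣ) : R)) * hp + hq

variable (A : Type u) [CommRing A]

theorem add_key (J : Ideal A) (f : AddMonoidAlgebra A (Fin 2 → ℤ))
    (hc : ∀ p, (d0 A f - d1 A f + d2 A f - d3 A f).coeff p ∈ J) (m : Fin 2 → ℤ) :
    (f - (e0 A (hproj A f) - e1 A (hproj A f) + e2 A (hproj A f))).coeff m ∈ J := by
  obtain ⟨a, b, rfl⟩ : ∃ a b, m = ![a, b] := ⟨m 0, m 1, (vec2_eta m).symm⟩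
  have key : ∀ x y z : ℤ, ((if x = 0 then f.coeff ![y, z] else 0) -
      (if x = y then f.coeff ![x, z] else 0) + (if y = z then f.coeff ![x, y] else 0) -
      (if z = 0 then f.coeff ![x, y] else 0)) ∈ J := by
    intro x y z
    have h := hc ![x, y, z]
    rw [coeff_sub, coeff_add, coeff_sub, Finsupp.sub_apply, Finsupp.add_apply, Finsupp.sub_apply,
      coeff_d0, coeff_d1, coeff_d2, coeff_d3] at h
    exact h
  have c0 : (e0 A (hproj A f)).coeff ![a, b] = if a = 0 then f.coeff ![b, 0] else 0 := by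
    rw [coeff_e0, coeff_hproj]; rfl
  have c1 : (e1 A (hproj A f)).coeff ![a, b] = if a = b then f.coeff ![a, 0] else 0 := by
    rw [coeff_e1, coeff_hproj]; rfl
  have c2 : (e2 A (hproj A f)).coeff ![a, b] = if b = 0 then f.coeff ![a, 0] else 0 := by
    rw [coeff_e2, coeff_hproj]; rfl
  rw [coeff_sub, coeff_add, coeff_sub, Finsupp.sub_apply, Finsupp.add_apply, Finsupp.sub_apply,
    c0, c1, c2]
  by_cases ha : a = 0
  · by_cases hb : b = 0
    · subst ha hb
      simp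
    · subst ha
      have h := key 0 b 0
      simp only [if_neg hb, if_neg (Ne.symm hb), if_true, sub_zero,
        add_zero] at h ⊢
      have := J.neg_mem h
      rwa [neg_sub] at this
  · by_cases hb : b = 0
    · subst hb
      simp [ha]
    · by_cases hab : a = b
      · subst hab
        have h := key a a 0
        simp only [if_neg ha, if_true, zero_sub, add_zero] at h ⊢
        convert J.neg_mem h using 1
        ring
      · have h := key a a b
        simp only [if_neg ha, if_neg hb, if_neg hab, if_true, zero_sub,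
          sub_zero, add_zero] at h ⊢
        exact neg_mem_iff.mp h

/-- elements all of whose coefficients lie in `J` -/
noncomputable def cI (n : ℕ) (J : Ideal A) : Ideal (AddMonoidAlgebra A (Fin n → ℤ)) :=
  Ideal.map (singleZeroRingHom : A →+* AddMonoidAlgebra A (Fin n → ℤ)) J

variable {A}

theorem mem_cI_of_coeff {n : ℕ} {J : Ideal A} {x : AddMonoidAlgebra A (Fin n → ℤ)}
    (h : ∀ m, x.coeff m ∈ J) : x ∈ cI A n J := by
  have hx := sum_coeff_single x
  rw [← hx]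
  unfold Finsupp.sum
  refine Ideal.sum_mem _ fun m _ => ?_
  have : single m (x.coeff m) =
      (singleZeroRingHom : A →+* AddMonoidAlgebra A (Fin n → ℤ)) (x.coeff m) * single m 1 := by
    show single m (x.coeff m) = single 0 (x.coeff m) * single m 1
    rw [single_mul_single, zero_add, mul_one]
  rw [this]
  exact Ideal.mul_mem_right _ _ (Ideal.mem_map_of_mem _ (h m))

theorem coeff_mem_of_mem_cI {n : ℕ} {J : Ideal A} {x : AddMonoidAlgebra A (Fin n → ℤ)}
    (h : x ∈ cI A n J) (m : Fin n → ℤ) : x.coeff m ∈ J := by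
  have hle : cI A n J ≤ RingHom.ker (mapRingHom (Fin n → ℤ) (Ideal.Quotient.mk J)) := by
    refine Ideal.map_le_iff_le_comap.mpr fun a ha => ?_
    rw [Ideal.mem_comap, RingHom.mem_ker]
    show mapRingHom _ _ (single 0 a) = 0
    rw [mapRingHom_single, Ideal.Quotient.eq_zero_iff_mem.mpr ha, single_zero]
  have h1 := hle h
  rw [RingHom.mem_ker] at h1
  have h2 := congrArg (fun y => y.coeff m) h1
  simp only [coeff_mapRingHom, coeff_zero, Finsupp.coe_zero, Pi.zero_apply] at h2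
  exact Ideal.Quotient.eq_zero_iff_mem.mp h2

theorem map_mem_cI {n n' : ℕ} (φ : (Fin n → ℤ) →+ (Fin n' → ℤ)) {J : Ideal A}
    {x : AddMonoidAlgebra A (Fin n → ℤ)} (h : x ∈ cI A n J) :
    mapDomainRingHom A φ x ∈ cI A n' J := by
  have : Ideal.map (mapDomainRingHom A φ) (cI A n J) = cI A n' J := by
    rw [cI, cI, Ideal.map_map]
    congr 1
    refine RingHom.ext fun a => ?_
    show mapDomainRingHom A φ (single 0 a) = single 0 a
    rw [mapDomainRingHom_apply, mapDomain_single, map_zero]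
  rw [← this]
  exact Ideal.mem_map_of_mem _ h

theorem cI_mul {n : ℕ} {J J' : Ideal A} {x y : AddMonoidAlgebra A (Fin n → ℤ)}
    (hx : x ∈ cI A n J) (hy : y ∈ cI A n J') : x * y ∈ cI A n (J * J') := by
  rw [cI, Ideal.map_mul]
  exact Ideal.mul_mem_mul hx hy

theorem cI_mono {n : ℕ} {J J' : Ideal A} (h : J ≤ J') : cI A n J ≤ cI A n J' :=
  Ideal.map_mono h

theorem cI_bot {n : ℕ} : cI A n ⊥ = ⊥ := Ideal.map_bot

variable (A)

/-! ### unit groups -/

abbrev U (n : ℕ) := (AddMonoidAlgebra A (Fin n → ℤ))ˣ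

noncomputable abbrev cU {n n' : ℕ} (φ : (Fin n → ℤ) →+ (Fin n' → ℤ)) : U A n →* U A n' :=
  Units.map (mapDomainRingHom A φ).toMonoidHom

theorem cU_cU {n n' n'' : ℕ} (φ : (Fin n' → ℤ) →+ (Fin n'' → ℤ)) (ψ : (Fin n → ℤ) →+ (Fin n' → ℤ))
    (η : U A n) : cU A φ (cU A ψ η) = cU A (φ.comp ψ) η := by
  refine Units.ext ?_
  rw [Units.coe_map, Units.coe_map, Units.coe_map, mapDomainRingHom_comp]
  rfl

noncomputable def bdH : U A 1 →* U A 2 := cU A E0 * (cU A E1)⁻¹ * cU A E2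

noncomputable def coH : U A 2 →* U A 3 := cU A D0 * (cU A D1)⁻¹ * cU A D2 * (cU A D3)⁻¹

theorem bdH_apply (η : U A 1) : bdH A η = cU A E0 η * (cU A E1 η)⁻¹ * cU A E2 η := rfl

theorem coH_apply (ξ : U A 2) :
    coH A ξ = cU A D0 ξ * (cU A D1 ξ)⁻¹ * cU A D2 ξ * (cU A D3 ξ)⁻¹ := rfl

theorem coH_bdH (η : U A 1) : coH A (bdH A η) = 1 := by
  rw [coH_apply, bdH_apply]
  simp only [map_mul, map_inv, cU_cU]
  rw [D1E0, D2E0, D3E0, D2E1, D3E1, D3E2]
  exact cg1 _ _ _ _ _ _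

theorem coc_el (ξ : U A 2) (hco : coH A ξ = 1) :
    d0 A (ξ : AddMonoidAlgebra A (Fin 2 → ℤ)) * d2 A ξ = d1 A ξ * d3 A ξ := by
  have h1 : cU A D0 ξ * cU A D2 ξ = cU A D1 ξ * cU A D3 ξ :=
    cg2 _ _ _ _ (by rw [coH_apply] at hco; exact hco)
  have h2 := congrArg Units.val h1
  simp only [Units.val_mul, Units.coe_map] at h2
  exact h2

theorem step (N : Ideal A) (K : ℕ) (hN : N ^ K = ⊥) (k : ℕ) (hk : 1 ≤ k) (ξ : U A 2)
    (hco : coH A ξ = 1) (hξ : (ξ : AddMonoidAlgebra A (Fin 2 → ℤ)) - 1 ∈ cI A 2 (N ^ k)) :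
    ∃ η : U A 1, ((ξ * (bdH A η)⁻¹ : U A 2) : AddMonoidAlgebra A (Fin 2 → ℤ)) - 1 ∈
      cI A 2 (N ^ (k + k)) := by
  obtain ⟨f, hf⟩ : ∃ f, (ξ : AddMonoidAlgebra A (Fin 2 → ℤ)) = 1 + f := ⟨ξ - 1, by ring⟩
  have hfm : f ∈ cI A 2 (N ^ k) := by
    have : f = (ξ : AddMonoidAlgebra A (Fin 2 → ℤ)) - 1 := by rw [hf]; ring
    rw [this]; exact hξ
  have hel := coc_el A ξ hco
  rw [hf] at hel
  simp only [map_add, map_one] at hel
  have hc : d0 A f - d1 A f + d2 A f - d3 A f = d1 A f * d3 A f - d0 A f * d2 A f := by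
    linear_combination hel
  have hfi : ∀ (φ : (Fin 2 → ℤ) →+ (Fin 3 → ℤ)), mapDomainRingHom A φ f ∈ cI A 3 (N ^ k) :=
    fun φ => map_mem_cI φ hfm
  have hcm : d0 A f - d1 A f + d2 A f - d3 A f ∈ cI A 3 (N ^ (k + k)) := by
    rw [hc, pow_add]
    exact Ideal.sub_mem _ (cI_mul (hfi D1) (hfi D3)) (cI_mul (hfi D0) (hfi D2))
  have hgk : hproj A f ∈ cI A 1 (N ^ k) := mem_cI_of_coeff fun m => by
    rw [coeff_hproj]; exact coeff_mem_of_mem_cI hfm _
  have hdiff : f - (e0 A (hproj A f) - e1 A (hproj A f) + e2 A (hproj A f)) ∈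
      cI A 2 (N ^ (k + k)) :=
    mem_cI_of_coeff (add_key A _ f (fun p => coeff_mem_of_mem_cI hcm p))
  have hnil : IsNilpotent (hproj A f) := by
    refine ⟨K, ?_⟩
    have h1 : hproj A f ∈ cI A 1 N := cI_mono (Ideal.pow_le_self (by omega)) hgk
    have h2 : hproj A f ^ K ∈ (cI A 1 N) ^ K := Ideal.pow_mem_pow h1 K
    rw [cI, ← Ideal.map_pow, hN, Ideal.map_bot] at h2
    exact h2
  obtain ⟨η, hη⟩ := hnil.isUnit_one_add
  refine ⟨η, ?_⟩
  have v : ∀ (φ : (Fin 1 → ℤ) →+ (Fin 2 → ℤ)),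
      ((cU A φ η : U A 2) : AddMonoidAlgebra A (Fin 2 → ℤ)) =
        1 + mapDomainRingHom A φ (hproj A f) := by
    intro φ
    rw [Units.coe_map]
    show mapDomainRingHom A φ (η : AddMonoidAlgebra A (Fin 1 → ℤ)) = _
    rw [hη, map_add, map_one]
  have hnum : (ξ : AddMonoidAlgebra A (Fin 2 → ℤ)) * (cU A E1 η : U A 2) -
      (cU A E0 η : U A 2) * (cU A E2 η : U A 2) ∈ cI A 2 (N ^ (k + k)) := by
    rw [hf, v E0, v E1, v E2]
    have e : (1 + f) * (1 + e1 A (hproj A f)) - (1 + e0 A (hproj A f)) * (1 + e2 A (hproj A f)) =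
        (f - (e0 A (hproj A f) - e1 A (hproj A f) + e2 A (hproj A f))) +
          (f * e1 A (hproj A f) - e0 A (hproj A f) * e2 A (hproj A f)) := by ring
    rw [e]
    refine Ideal.add_mem _ hdiff ?_
    rw [pow_add]
    exact Ideal.sub_mem _ (cI_mul hfm (map_mem_cI E1 hgk))
      (cI_mul (map_mem_cI E0 hgk) (map_mem_cI E2 hgk))
  rw [bdH_apply, unit_calc]
  exact Ideal.mul_mem_right _ _ (Ideal.mul_mem_right _ _ hnum)

theorem ind (N : Ideal A) (K : ℕ) (hN : N ^ K = ⊥) :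
    ∀ (j k : ℕ), k + j = K → 1 ≤ k → ∀ ξ : U A 2, coH A ξ = 1 →
      (ξ : AddMonoidAlgebra A (Fin 2 → ℤ)) - 1 ∈ cI A 2 (N ^ k) → ∃ η : U A 1, ξ = bdH A η := by
  intro j
  induction j with
  | zero =>
    intro k hk _ ξ _ hξ
    rw [Nat.add_zero] at hk
    subst hk
    rw [hN, cI_bot, Ideal.mem_bot, sub_eq_zero] at hξ
    exact ⟨1, by rw [map_one]; exact Units.ext (hξ.trans Units.val_one.symm)⟩
  | succ j ih =>
    intro k hk h1 ξ hco hξ
    obtain ⟨η₁, h₁⟩ := step A N K hN k h1 ξ hco hξ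
    have hco' : coH A (ξ * (bdH A η₁)⁻¹) = 1 := by
      rw [map_mul, map_inv, hco, coH_bdH, inv_one, mul_one]
    have hle : N ^ (k + k) ≤ N ^ (k + 1) := Ideal.pow_le_pow_right (by omega)
    obtain ⟨η₂, h₂⟩ := ih (k + 1) (by omega) (by omega) _ hco' (cI_mono hle h₁)
    refine ⟨η₂ * η₁, ?_⟩
    rw [map_mul, ← h₂, inv_mul_cancel_right]

end Groth.Agent.Helper17.LU3
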