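import Groth.Agent.Lib.Helper17.LU3

/-! Helper17 LU4: reduction modulo primes and the main theorem for S13793. -/

set_option autoImplicit false
universe u

namespace Groth.Agent.Helper17.LU4

open AddMonoidAlgebra Groth.Agent.Helper17.LU2 Groth.Agent.Helper17.LU3

theorem domain_case {D : Type u} [CommRing D] [IsDomain D]
    (x y : AddMonoidAlgebra D (Fin 2 → ℤ)) (hxy : x * y = 1)
    (hc : d0 D x * d2 D x = d1 D x * d3 D x) : ∃ c : D, c ≠ 0 ∧ x = single 0 c := by
  obtain ⟨m, c, hc0, rfl⟩ := exists_single_of_mul_eq_one x y hxy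
  refine ⟨c, hc0, ?_⟩
  simp only [mapDomainRingHom_apply, mapDomain_single, single_mul_single] at hc
  have hcc : c * c ≠ 0 := mul_ne_zero hc0 hc0
  have hm : D0 m + D2 m = D1 m + D3 m := by
    have h1 : (single (D0 m + D2 m) (c * c) : AddMonoidAlgebra D (Fin 3 → ℤ)).coeff
        (D0 m + D2 m) = c * c := by
      rw [coeff_single, Finsupp.single_eq_same]
    rw [hc, coeff_single, Finsupp.single_apply] at h1
    by_contra hne
    rw [if_neg (fun h => hne h.symm)] at h1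
    exact hcc h1.symm
  rw [D0_apply, D1_apply, D2_apply, D3_apply] at hm
  have h0 : (0 : ℤ) + m 0 = m 0 + m 0 := congrFun hm 0
  have h2 : m 1 + m 1 = m 1 + 0 := congrFun hm 2
  have hm0 : m = 0 := by
    rw [← vec2_eta m]
    ext i
    fin_cases i
    · show m 0 = 0
      omega
    · show m 1 = 0
      omega
  rw [hm0]

variable (A : Type u) [CommRing A]

theorem coeff_structure (ξ : U A 2) (hco : coH A ξ = 1) :
    IsUnit ((ξ : AddMonoidAlgebra A (Fin 2 → ℤ)).coeff 0) ∧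
      ∀ m, m ≠ 0 → IsNilpotent ((ξ : AddMonoidAlgebra A (Fin 2 → ℤ)).coeff m) := by
  have hel := coc_el A ξ hco
  have key : ∀ (P : Ideal A), P.IsPrime →
      (ξ : AddMonoidAlgebra A (Fin 2 → ℤ)).coeff 0 ∉ P ∧
        ∀ m, m ≠ 0 → (ξ : AddMonoidAlgebra A (Fin 2 → ℤ)).coeff m ∈ P := by
    intro P hP
    have hxy : mapRingHom (Fin 2 → ℤ) (Ideal.Quotient.mk P) (ξ : AddMonoidAlgebra A (Fin 2 → ℤ)) *
        mapRingHom (Fin 2 → ℤ) (Ideal.Quotient.mk P) ((ξ⁻¹ : U A 2) :
          AddMonoidAlgebra A (Fin 2 → ℤ)) = 1 := by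
      rw [← map_mul, Units.mul_inv, map_one]
    have nat : ∀ (φ : (Fin 2 → ℤ) →+ (Fin 3 → ℤ)) (z : AddMonoidAlgebra A (Fin 2 → ℤ)),
        mapDomainRingHom (A ⧸ P) φ (mapRingHom (Fin 2 → ℤ) (Ideal.Quotient.mk P) z) =
          mapRingHom (Fin 3 → ℤ) (Ideal.Quotient.mk P) (mapDomainRingHom A φ z) := fun φ z =>
      (RingHom.congr_fun (mapRingHom_comp_mapDomainRingHom (Ideal.Quotient.mk P) φ) z).symm
    have hc' : d0 (A ⧸ P) (mapRingHom (Fin 2 → ℤ) (Ideal.Quotient.mk P)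
          (ξ : AddMonoidAlgebra A (Fin 2 → ℤ))) *
        d2 (A ⧸ P) (mapRingHom (Fin 2 → ℤ) (Ideal.Quotient.mk P)
          (ξ : AddMonoidAlgebra A (Fin 2 → ℤ))) =
        d1 (A ⧸ P) (mapRingHom (Fin 2 → ℤ) (Ideal.Quotient.mk P)
          (ξ : AddMonoidAlgebra A (Fin 2 → ℤ))) *
        d3 (A ⧸ P) (mapRingHom (Fin 2 → ℤ) (Ideal.Quotient.mk P)
          (ξ : AddMonoidAlgebra A (Fin 2 → ℤ))) := by
      rw [nat, nat, nat, nat, ← map_mul, ← map_mul, hel]
    obtain ⟨c, hc0, hc⟩ := domain_case _ _ hxy hc'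
    constructor
    · intro h0
      apply hc0
      have h3 := congrArg (fun z => z.coeff 0) hc
      simp only [coeff_mapRingHom, coeff_single, Finsupp.single_eq_same] at h3
      rw [← h3]
      exact Ideal.Quotient.eq_zero_iff_mem.mpr h0
    · intro m hm
      have h3 := congrArg (fun z => z.coeff m) hc
      simp only [coeff_mapRingHom, coeff_single, Finsupp.single_apply,
        if_neg (Ne.symm hm)] at h3
      exact Ideal.Quotient.eq_zero_iff_mem.mp h3
  constructor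
  · by_contra hnu
    obtain ⟨I, hI, hmem⟩ := exists_max_ideal_of_mem_nonunits hnu
    exact (key I hI.isPrime).1 hmem
  · intro m hm
    rw [nilpotent_iff_mem_prime]
    intro J hJ
    exact (key J hJ).2 m hm

theorem main13793 (ξ : U A 2) (hco : coH A ξ = 1) : ∃ η : U A 1, ξ = bdH A η := by
  classical
  obtain ⟨hu, hnil⟩ := coeff_structure A ξ hco
  obtain ⟨cu, hcu⟩ := hu
  -- the constant units
  have hconst : ∀ (n n' : ℕ) (φ : (Fin n → ℤ) →+ (Fin n' → ℤ)),
      cU A φ (Units.map (singleZeroRingHom :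
        A →+* AddMonoidAlgebra A (Fin n → ℤ)).toMonoidHom cu) =
      Units.map (singleZeroRingHom : A →+* AddMonoidAlgebra A (Fin n' → ℤ)).toMonoidHom cu := by
    intro n n' φ
    refine Units.ext ?_
    rw [Units.coe_map, Units.coe_map, Units.coe_map]
    show mapDomainRingHom A φ (single 0 (cu : A)) = single 0 (cu : A)
    rw [mapDomainRingHom_apply, mapDomain_single, map_zero]
  have hκ : bdH A (Units.map (singleZeroRingHom :
        A →+* AddMonoidAlgebra A (Fin 1 → ℤ)).toMonoidHom cu) =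
      Units.map (singleZeroRingHom : A →+* AddMonoidAlgebra A (Fin 2 → ℤ)).toMonoidHom cu := by
    rw [bdH_apply, hconst, hconst, hconst, mul_inv_cancel, one_mul]
  have hco' : coH A (ξ * (bdH A (Units.map (singleZeroRingHom :
        A →+* AddMonoidAlgebra A (Fin 1 → ℤ)).toMonoidHom cu))⁻¹) = 1 := by
    rw [map_mul, map_inv, hco, coH_bdH, inv_one, mul_one]
  have hcoef : ∀ m, ((ξ * (bdH A (Units.map (singleZeroRingHom :
        A →+* AddMonoidAlgebra A (Fin 1 → ℤ)).toMonoidHom cu))⁻¹ : U A 2) :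
        AddMonoidAlgebra A (Fin 2 → ℤ)).coeff m =
      (ξ : AddMonoidAlgebra A (Fin 2 → ℤ)).coeff m * ((cu⁻¹ : Aˣ) : A) := by
    intro m
    rw [hκ, ← map_inv, Units.val_mul, Units.coe_map]
    show ((ξ : AddMonoidAlgebra A (Fin 2 → ℤ)) * single 0 ((cu⁻¹ : Aˣ) : A)).coeff m = _
    rw [coeff_mul_single_zero]
  generalize hξ' : ξ * (bdH A (Units.map (singleZeroRingHom :
        A →+* AddMonoidAlgebra A (Fin 1 → ℤ)).toMonoidHom cu))⁻¹ = ξ' at hco' hcoef
  let S : Finset A := ((ξ' : AddMonoidAlgebra A (Fin 2 → ℤ)).coeff.support.erase 0).image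
    (fun m => (ξ' : AddMonoidAlgebra A (Fin 2 → ℤ)).coeff m)
  have hNnil : Ideal.span (S : Set A) ≤ nilradical A := by
    refine Ideal.span_le.mpr ?_
    intro a ha
    obtain ⟨m, hm, rfl⟩ := Finset.mem_image.mp (Finset.mem_coe.mp ha)
    have hm0 : m ≠ 0 := (Finset.mem_erase.mp hm).1
    show _ ∈ nilradical A
    rw [hcoef]
    exact (nilradical A).mul_mem_right _ (mem_nilradical.mpr (hnil m hm0))
  obtain ⟨K, hK⟩ := (Ideal.FG.isNilpotent_iff_le_nilradical ⟨S, rfl⟩).mpr hNnil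
  have hK' : Ideal.span (S : Set A) ^ (K + 1) = ⊥ := by
    rw [pow_succ, hK, Ideal.zero_eq_bot, Ideal.bot_mul]
  have hmem : (ξ' : AddMonoidAlgebra A (Fin 2 → ℤ)) - 1 ∈
      cI A 2 (Ideal.span (S : Set A) ^ 1) := mem_cI_of_coeff fun m => by
    rw [pow_one, coeff_sub, Finsupp.sub_apply, one_def, coeff_single, Finsupp.single_apply]
    by_cases hm : m = 0
    · subst hm
      rw [if_pos rfl, hcoef, ← hcu, Units.mul_inv, sub_self]
      exact Ideal.zero_mem _
    · rw [if_neg (Ne.symm hm), sub_zero]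
      by_cases hs : (ξ' : AddMonoidAlgebra A (Fin 2 → ℤ)).coeff m = 0
      · rw [hs]; exact Ideal.zero_mem _
      · exact Ideal.subset_span (Finset.mem_coe.mpr (Finset.mem_image.mpr
          ⟨m, Finset.mem_erase.mpr ⟨hm, Finsupp.mem_support_iff.mpr hs⟩, rfl⟩))
  obtain ⟨η, hη⟩ := ind A _ (K + 1) hK' K 1 (by omega) le_rfl ξ' hco' hmem
  refine ⟨η * Units.map (singleZeroRingHom :
        A →+* AddMonoidAlgebra A (Fin 1 → ℤ)).toMonoidHom cu, ?_⟩
  rw [map_mul, ← hη, ← hξ', inv_mul_cancel_right]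

end Groth.Agent.Helper17.LU4
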