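import Mathlib

set_option autoImplicit false
universe w v u
open CategoryTheory CategoryTheory.Limits

namespace Groth.Agent.Helper17.MN

variable {C : Type u} [Category.{v} C] [Abelian C] [HasExt.{w} C]

/-- `0 → K → B → C → 0` -/
noncomputable abbrev S1 (M : ShortComplex C) : ShortComplex C :=
  ShortComplex.mk M.iCycles M.g M.iCycles_g

omit [HasExt.{w} C] in
lemma S1_shortExact (M : ShortComplex C) [Epi M.g] : (S1 M).ShortExact :=
  ShortComplex.ShortExact.mk' (ShortComplex.exact_of_f_is_kernel _ M.cyclesIsKernel)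
    (inferInstanceAs (Mono M.iCycles)) (inferInstanceAs (Epi M.g))

/-- `0 → A → K → E → 0` -/
noncomputable abbrev S2 (M : ShortComplex C) : ShortComplex C :=
  ShortComplex.mk M.toCycles M.homologyπ M.toCycles_comp_homologyπ

omit [HasExt.{w} C] in
lemma mono_toCycles (M : ShortComplex C) [Mono M.f] : Mono M.toCycles := by
  have : Mono (M.toCycles ≫ M.iCycles) := by rw [M.toCycles_i]; infer_instance
  exact mono_of_mono M.toCycles M.iCycles

omit [HasExt.{w} C] in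
lemma S2_shortExact (M : ShortComplex C) [Mono M.f] : (S2 M).ShortExact :=
  ShortComplex.ShortExact.mk' (ShortComplex.exact_of_g_is_cokernel _ M.homologyIsCokernel)
    (mono_toCycles M) (inferInstanceAs (Epi M.homologyπ))

/-- `Hom(K, Y) = 0` when `Hom(B, Y) = 0` and `Ext¹(C, Y) = 0`. -/
lemma hom_cycles_eq_zero (M : ShortComplex C) [Epi M.g] (Y : C)
    (h0 : ∀ f : M.X₂ ⟶ Y, f = 0) (h1 : Subsingleton (Abelian.Ext M.X₃ Y 1))
    (ψ : M.cycles ⟶ Y) : ψ = 0 := by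
  have hS := S1_shortExact M
  obtain ⟨x₂, hx₂⟩ := Abelian.Ext.contravariant_sequence_exact₁ hS Y
    (Abelian.Ext.mk₀ (ψ : (S1 M).X₁ ⟶ Y)) (n₁ := 1) (by norm_num) (@Subsingleton.elim _ h1 _ _)
  obtain ⟨h, rfl⟩ := (Abelian.Ext.mk₀_bijective _ _).2 x₂
  have h' : h = 0 := h0 h
  rw [h', Abelian.Ext.mk₀_zero, Abelian.Ext.comp_zero] at hx₂
  exact (Abelian.Ext.mk₀_eq_zero_iff ψ).mp hx₂.symm

/-- `Ext¹(K, Y) = 0` when `Ext¹(B, Y) = 0` and `Ext²(C, Y) = 0`. -/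
lemma ext_one_cycles_eq_zero (M : ShortComplex C) [Epi M.g] (Y : C)
    (h1 : Subsingleton (Abelian.Ext M.X₂ Y 1)) (h2 : Subsingleton (Abelian.Ext M.X₃ Y 2))
    (x : Abelian.Ext M.cycles Y 1) : x = 0 := by
  have hS := S1_shortExact M
  obtain ⟨x₂, hx₂⟩ := Abelian.Ext.contravariant_sequence_exact₁ hS Y
    (x : Abelian.Ext (S1 M).X₁ Y 1) (n₁ := 2) (by norm_num) (@Subsingleton.elim _ h2 _ _)
  have h' : x₂ = 0 := @Subsingleton.elim _ h1 _ _
  rw [h', Abelian.Ext.comp_zero] at hx₂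
  exact hx₂.symm

/-- extension of a map `K → Y` to `B → Y` when `Ext¹(C, Y) = 0`. -/
lemma exists_extension (M : ShortComplex C) [Epi M.g] (Y : C)
    (h1 : Subsingleton (Abelian.Ext M.X₃ Y 1)) (κ : M.cycles ⟶ Y) :
    ∃ β : M.X₂ ⟶ Y, M.iCycles ≫ β = κ := by
  have hS := S1_shortExact M
  obtain ⟨x₂, hx₂⟩ := Abelian.Ext.contravariant_sequence_exact₁ hS Y
    (Abelian.Ext.mk₀ (κ : (S1 M).X₁ ⟶ Y)) (n₁ := 1) (by norm_num) (@Subsingleton.elim _ h1 _ _)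
  obtain ⟨β, rfl⟩ := (Abelian.Ext.mk₀_bijective _ _).2 x₂
  refine ⟨β, ?_⟩
  have h3 : Abelian.Ext.mk₀ (M.iCycles ≫ β) = Abelian.Ext.mk₀ κ :=
    (Abelian.Ext.mk₀_comp_mk₀ _ _).symm.trans hx₂
  exact (Abelian.Ext.mk₀_bijective _ _).1 h3

/-- lifting of a map `X → E'` to `X → K'` when `Ext¹(X, A') = 0`. -/
lemma exists_lift (M' : ShortComplex C) [Mono M'.f] (X : C)
    (h1 : ∀ x : Abelian.Ext X M'.X₁ 1, x = 0) (e : X ⟶ M'.homology) :
    ∃ φ : X ⟶ M'.cycles, φ ≫ M'.homologyπ = e := by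
  have hS := S2_shortExact M'
  obtain ⟨x₂, hx₂⟩ := Abelian.Ext.covariant_sequence_exact₃ X hS
    (Abelian.Ext.mk₀ (e : X ⟶ (S2 M').X₃)) (n₁ := 1) (by norm_num) (h1 _)
  obtain ⟨φ, rfl⟩ := (Abelian.Ext.mk₀_bijective _ _).2 x₂
  refine ⟨φ, ?_⟩
  have h3 : Abelian.Ext.mk₀ (φ ≫ M'.homologyπ) = Abelian.Ext.mk₀ e :=
    (Abelian.Ext.mk₀_comp_mk₀ _ _).symm.trans hx₂
  exact (Abelian.Ext.mk₀_bijective _ _).1 h3

theorem main11497 (M M' : ShortComplex C) [Mono M.f] [Epi M.g] [Mono M'.f] [Epi M'.g]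
    (hBA : ∀ f : M.X₂ ⟶ M'.X₁, f = 0) (hCB : ∀ f : M.X₃ ⟶ M'.X₂, f = 0)
    (hCA₁ : Subsingleton (Abelian.Ext M.X₃ M'.X₁ 1)) (hBA₁ : Subsingleton (Abelian.Ext M.X₂ M'.X₁ 1))
    (hCB₁ : Subsingleton (Abelian.Ext M.X₃ M'.X₂ 1)) (hCA₂ : Subsingleton (Abelian.Ext M.X₃ M'.X₁ 2)) :
    Function.Bijective (fun φ : M ⟶ M' => ShortComplex.homologyMap φ) := by
  have hS1 := S1_shortExact M
  have hS2' := S2_shortExact M'
  -- key vanishing
  have key : ∀ χ : M ⟶ M', ShortComplex.homologyMap χ = 0 → χ = 0 := by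
    intro χ hχ
    have h1 : ShortComplex.cyclesMap χ ≫ M'.homologyπ = 0 := by
      rw [← ShortComplex.homologyπ_naturality, hχ, comp_zero]
    -- lift through `t'`
    obtain ⟨ψ₁, hψ₁⟩ := KernelFork.IsLimit.lift' hS2'.fIsKernel (ShortComplex.cyclesMap χ) h1
    have hψ₁' : ψ₁ ≫ M'.toCycles = ShortComplex.cyclesMap χ := hψ₁
    have hψ0 : ψ₁ = 0 := hom_cycles_eq_zero M M'.X₁ hBA hCA₁ ψ₁
    have h2 : ShortComplex.cyclesMap χ = 0 := by rw [← hψ₁', hψ0, zero_comp]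
    have h3 : M.iCycles ≫ χ.τ₂ = 0 := by
      rw [← ShortComplex.cyclesMap_i, h2, zero_comp]
    obtain ⟨c, hc⟩ := CokernelCofork.IsColimit.desc' hS1.gIsCokernel χ.τ₂ h3
    have hc' : M.g ≫ c = χ.τ₂ := hc
    have hτ₂ : χ.τ₂ = 0 := by rw [← hc', hCB c, comp_zero]
    have hτ₁ : χ.τ₁ = 0 := by
      rw [← cancel_mono M'.f, χ.comm₁₂, hτ₂, comp_zero, zero_comp]
    have hτ₃ : χ.τ₃ = 0 := by
      rw [← cancel_epi M.g, ← χ.comm₂₃, hτ₂, zero_comp, comp_zero]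
    exact ShortComplex.hom_ext _ _ hτ₁ hτ₂ hτ₃
  constructor
  · intro φ ψ h
    have h' : ShortComplex.homologyMap (φ - ψ) = 0 := by
      rw [ShortComplex.homologyMap_sub]
      exact sub_eq_zero.mpr h
    exact sub_eq_zero.mp (key _ h')
  · intro ε
    obtain ⟨φK, hφK⟩ := exists_lift M' M.cycles
      (ext_one_cycles_eq_zero M M'.X₁ hBA₁ hCA₂) (M.homologyπ ≫ ε)
    have h1 : (M.toCycles ≫ φK) ≫ M'.homologyπ = 0 := by
      rw [Category.assoc, hφK, ← Category.assoc, M.toCycles_comp_homologyπ, zero_comp]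
    obtain ⟨φA, hφA⟩ := KernelFork.IsLimit.lift' hS2'.fIsKernel (M.toCycles ≫ φK) h1
    have hφA' : φA ≫ M'.toCycles = M.toCycles ≫ φK := hφA
    obtain ⟨φB, hφB⟩ := exists_extension M M'.X₂ hCB₁ (φK ≫ M'.iCycles)
    have h2 : M.iCycles ≫ (φB ≫ M'.g) = 0 := by
      rw [← Category.assoc, hφB, Category.assoc, M'.iCycles_g, comp_zero]
    obtain ⟨φC, hφC⟩ := CokernelCofork.IsColimit.desc' hS1.gIsCokernel (φB ≫ M'.g) h2
    have hφC' : M.g ≫ φC = φB ≫ M'.g := hφC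
    have comm₁₂ : φA ≫ M'.f = M.f ≫ φB := by
      rw [← M'.toCycles_i, ← Category.assoc, hφA', Category.assoc, ← hφB, ← Category.assoc,
        M.toCycles_i]
    refine ⟨ShortComplex.homMk φA φB φC comm₁₂ hφC'.symm, ?_⟩
    have h3 : ShortComplex.cyclesMap (ShortComplex.homMk φA φB φC comm₁₂ hφC'.symm) = φK := by
      rw [← cancel_mono M'.iCycles, ShortComplex.cyclesMap_i]
      exact hφB
    show ShortComplex.homologyMap (ShortComplex.homMk φA φB φC comm₁₂ hφC'.symm) = ε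
    rw [← cancel_epi M.homologyπ, ShortComplex.homologyπ_naturality, h3, hφK]

end Groth.Agent.Helper17.MN
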