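import Mathlib
import Groth.Prelude.Def_KFlatSite
import Groth.Agent.Lib.Helper17.MT20

/-!
# `Tot(F ⊗ K[0])` is `F ⊗ K` degreewise; `j_! O_U` in degree `0` is K-flat
-/

open CategoryTheory Limits Opposite HomologicalComplex

namespace Groth.Agent.Helper17.MT

universe u

section Cofan

variable {C : Type*} [Category C] [HasZeroMorphisms C]

theorem isIso_inj_of_isZero {J : Type*} (f : J → C) (c : Cofan f) (hc : IsColimit c) (j0 : J)
    (h : ∀ j, j ≠ j0 → IsZero (f j)) : IsIso (c.inj j0) := by
  classical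
  let s : Cofan f := Cofan.mk (f j0) (fun j =>
    if hj : j = j0 then eqToHom (by rw [hj]) else 0)
  have hs : s.inj j0 = 𝟙 _ := by
    simp [s]
  refine ⟨Cofan.IsColimit.desc hc s.inj, ?_, ?_⟩
  · rw [Cofan.IsColimit.fac, hs]
  · refine Cofan.IsColimit.hom_ext hc _ _ (fun j => ?_)
    rw [Cofan.IsColimit.fac_assoc]
    by_cases hj : j = j0
    · subst hj
      rw [hs, Category.id_comp, Category.comp_id]
    · exact (h j hj).eq_of_src _ _

end Cofan

section Abstract

variable {A B D : Type*} [Category A] [Category B] [Category D]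
  [HasZeroMorphisms A] [Preadditive B] [HasZeroObject B] [Preadditive D]
  (G : A ⥤ B ⥤ D) [G.PreservesZeroMorphisms] [∀ X, (G.obj X).PreservesZeroMorphisms]
  (F : CochainComplex A ℤ) (Y : B)
  [HasMapBifunctor F ((single B (ComplexShape.up ℤ) 0).obj Y) G (ComplexShape.up ℤ)]

/-- inclusion of the only nonzero summand -/
noncomputable def singleIncl (n : ℤ) :
    (G.obj (F.X n)).obj Y ⟶
      (mapBifunctor F ((single B (ComplexShape.up ℤ) 0).obj Y) G (ComplexShape.up ℤ)).X n :=
  (G.obj (F.X n)).map (singleObjXSelf (ComplexShape.up ℤ) 0 Y).inv ≫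
    ιMapBifunctor F ((single B (ComplexShape.up ℤ) 0).obj Y) G (ComplexShape.up ℤ) n 0 n
      (add_zero n)

instance isIso_singleIncl (n : ℤ) : IsIso (singleIncl G F Y n) := by
  have h1 : IsIso (ιMapBifunctor F ((single B (ComplexShape.up ℤ) 0).obj Y) G
      (ComplexShape.up ℤ) n 0 n (add_zero n)) := by
    let X := (((G.mapBifunctorHomologicalComplex (ComplexShape.up ℤ) (ComplexShape.up ℤ)).obj
      F).obj ((single B (ComplexShape.up ℤ) 0).obj Y)).toGradedObject
    refine isIso_inj_of_isZero _ _
      (X.isColimitCofanMapObj (ComplexShape.π (ComplexShape.up ℤ) (ComplexShape.up ℤ)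
        (ComplexShape.up ℤ)) n) ⟨⟨n, 0⟩, add_zero n⟩ ?_
    rintro ⟨⟨p, q⟩, hpq⟩ hne
    have hpq' : p + q = n := hpq
    have hq : q ≠ 0 := by
      intro hq
      subst hq
      apply hne
      have : p = n := by simpa using hpq'
      subst this
      rfl
    exact Functor.map_isZero (G.obj (F.X p)) (isZero_single_obj_X _ _ _ _ hq)
  unfold singleIncl
  infer_instance

theorem singleIncl_comm (n m : ℤ) :
    singleIncl G F Y n ≫
      (mapBifunctor F ((single B (ComplexShape.up ℤ) 0).obj Y) G (ComplexShape.up ℤ)).d n m =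
    (G.map (F.d n m)).app Y ≫ singleIncl G F Y m := by
  by_cases hnm : (ComplexShape.up ℤ).Rel n m
  · have hd2 : mapBifunctor.d₂ F ((single B (ComplexShape.up ℤ) 0).obj Y) G
        (ComplexShape.up ℤ) n 0 m = 0 := by
      by_cases h₁ : (ComplexShape.up ℤ).Rel (0 : ℤ) ((ComplexShape.up ℤ).next 0)
      · by_cases h₂ : ComplexShape.π (ComplexShape.up ℤ) (ComplexShape.up ℤ) (ComplexShape.up ℤ)
            (n, (ComplexShape.up ℤ).next 0) = m
        · rw [mapBifunctor.d₂_eq _ _ _ _ _ h₁ _ h₂, single_obj_d, Functor.map_zero,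
            zero_comp, smul_zero]
        · rw [mapBifunctor.d₂_eq_zero' _ _ _ _ _ h₁ _ h₂]
      · rw [mapBifunctor.d₂_eq_zero _ _ _ _ _ _ _ h₁]
    unfold singleIncl
    rw [Category.assoc, mapBifunctor.d_eq, Preadditive.comp_add, mapBifunctor.ι_D₁,
      mapBifunctor.ι_D₂, hd2, add_zero,
      mapBifunctor.d₁_eq _ _ _ _ hnm _ _ (add_zero m)]
    simp only [Linear.comp_units_smul]
    have he : (ComplexShape.up ℤ).ε₁ (ComplexShape.up ℤ) (ComplexShape.up ℤ) (n, 0) = 1 := by
      simp
    rw [he, one_smul, ← Category.assoc, ← Category.assoc]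
    congr 1
    exact ((G.map (F.d n m)).naturality _)
  · rw [HomologicalComplex.shape _ _ _ hnm, F.shape _ _ hnm]
    simp

/-- `Tot(F ⊗ Y[0]) ≅ F ⊗ Y` degreewise. -/
noncomputable def singleTotIso :
    ((G.flip.obj Y).mapHomologicalComplex (ComplexShape.up ℤ)).obj F ≅
      mapBifunctor F ((single B (ComplexShape.up ℤ) 0).obj Y) G (ComplexShape.up ℤ) :=
  HomologicalComplex.Hom.isoOfComponents
    (fun n => @asIso _ _ _ _ (singleIncl G F Y n) (isIso_singleIncl G F Y n))
    (fun n m _ => (singleIncl_comm G F Y n m))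

end Abstract

section KFlat

variable {C : Type u} [SmallCategory C] {J : GrothendieckTopology C}
  (O : Sheaf J CommRingCat.{u})

theorem acyclic_map_of_exact {A B : Type*} [Category A] [Category B] [Abelian A] [Abelian B]
    (T : A ⥤ B) [T.Additive] [PreservesFiniteLimits T] [PreservesFiniteColimits T]
    (K : CochainComplex A ℤ) (hK : ∀ i : ℤ, IsZero (K.homology i)) (i : ℤ) :
    IsZero (((T.mapHomologicalComplex (ComplexShape.up ℤ)).obj K).homology i) := by
  rw [← HomologicalComplex.exactAt_iff_isZero_homology, HomologicalComplex.exactAt_iff]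
  have h := (HomologicalComplex.exactAt_iff K i).mp
    ((HomologicalComplex.exactAt_iff_isZero_homology K i).mpr (hK i))
  exact h.map T

theorem isKFlat_single_of_isFlat (N : ModSite.Mod O) (hN : ModSite.IsFlat N) :
    ModSite.IsKFlat ((CochainComplex.singleFunctor (ModSite.Mod O) 0).obj N) := by
  intro F hF i
  have hl : PreservesFiniteLimits ((ModSite.tensorBi O).flip.obj N) := hN.1
  have hc : PreservesFiniteColimits ((ModSite.tensorBi O).flip.obj N) := hN.2
  have h := acyclic_map_of_exact ((ModSite.tensorBi O).flip.obj N) F hF i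
  have e := singleTotIso (ModSite.tensorBi O) F N
  exact h.of_iso ((HomologicalComplex.homologyFunctor _ _ i).mapIso e).symm

theorem main11134 (x : C) :
    ModSite.IsKFlat ((CochainComplex.singleFunctor (ModSite.Mod O) 0).obj (ModSite.freeOn O x)) :=
  isKFlat_single_of_isFlat O _ (main6146 O x).2

end KFlat

end Groth.Agent.Helper17.MT
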