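import Mathlib
import Groth.Prelude.Def_ModSite
import Groth.Agent.Lib.Helper17.MT22

/-!
# Equational criterion of flatness on a ringed space
-/

open CategoryTheory Limits MonoidalCategory Opposite TopologicalSpace

namespace Groth.Agent.Helper17.MT

universe u

theorem main6844 {X : TopCat.{u}} (O : TopCat.Sheaf CommRingCat.{u} X)
    (F : ModSite.Mod O) (hF : ModSite.IsFlat F) (U : Opens X) {n : ℕ}
    (f : Fin n → (ModSite.ringSh O).obj.obj (Opposite.op U)) (s : Fin n → ModSite.sect F U)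
    (hrel : ∑ i, f i • s i = 0) (x : X) (hx : x ∈ U) :
    ∃ (V : Opens X) (hV : V ≤ U) (m : ℕ) (a : Fin n → Fin m → (ModSite.ringSh O).obj.obj (Opposite.op V))
      (t : Fin m → ModSite.sect F V), x ∈ V ∧
      (∀ i, (F.val.map (homOfLE hV).op).hom (s i) = ∑ j, a i j • t j) ∧
        ∀ j, ∑ i, ((ModSite.ringSh O).obj.map (homOfLE hV).op).hom (f i) * a i j = 0 := by
  obtain ⟨S, hS, h⟩ := equational_of_isFlat O F hF U n f s hrel
  obtain ⟨V, g, hSg, hxV⟩ := hS x hx
  obtain ⟨l, t, a, h1, h2⟩ := h g hSg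
  have hg : g = homOfLE (leOfHom g) := Subsingleton.elim _ _
  refine ⟨V, leOfHom g, l, a, t, hxV, ?_, ?_⟩
  · intro i
    rw [← hg]
    exact h1 i
  · intro j
    rw [← hg]
    refine Eq.trans (Finset.sum_congr rfl (fun i _ => ?_)) (h2 j)
    exact mul_comm (G := O.obj.obj (op V)) _ _

end Groth.Agent.Helper17.MT
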