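import Mathlib
import Groth.Agent.Lib.Helper17.MT6

/-!
# Flatness for presheaves of modules over a presheaf of commutative rings
-/

open CategoryTheory Limits MonoidalCategory Opposite

namespace Groth.Agent.Helper17.MT

universe u

section Presheaf

variable {C : Type u} [SmallCategory C] (O : Cᵒᵖ ⥤ CommRingCat.{u})

/-- presheaves of modules over a presheaf of commutative rings -/
abbrev PM := PresheafOfModules.{u} (O ⋙ forget₂ CommRingCat.{u} RingCat.{u})

theorem main9110
    (F : PresheafOfModules.{u} (O ⋙ forget₂ CommRingCat.{u} RingCat.{u}))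
    (hF : ∀ X : Cᵒᵖ, Module.Flat (O.obj X) (F.obj X)) :
    PreservesFiniteLimits (MonoidalCategory.tensorRight F) ∧
      PreservesFiniteColimits (MonoidalCategory.tensorRight F) := by
  constructor
  · refine ⟨fun 𝒥 _ _ => ⟨fun {K} => ⟨fun {c} hc => ⟨?_⟩⟩⟩⟩
    apply PresheafOfModules.evaluationJointlyReflectsLimits
    intro X
    have hfl := (Module.Flat.iff_preservesFiniteLimits_tensorRight
      (show ModuleCat (O.obj X) from F.obj X)).mp (hF X)
    have h2 : PreservesLimit (K ⋙ PresheafOfModules.evaluation _ X)
        (tensorRight (show ModuleCat (O.obj X) from F.obj X)) :=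
      (hfl.preservesFiniteLimits 𝒥).preservesLimit
    exact (h2.preserves (isLimitOfPreserves (PresheafOfModules.evaluation _ X) hc)).some
  · have : PreservesColimitsOfSize.{u, u} (tensorRight F) := inferInstance
    have : PreservesColimitsOfSize.{0, 0} (tensorRight F) :=
      preservesColimitsOfSize_shrink.{0, u, 0, u} _
    exact PreservesColimitsOfSize.preservesFiniteColimits _

/-- the free presheaf of modules on the underlying presheaf of sets of `Q` -/
noncomputable def pFreeCover (Q : PM O) : PM O :=
  PresheafOfModules.freeObj (Q.presheaf ⋙ forget Ab)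

noncomputable def pFreeCoverπ (Q : PM O) : pFreeCover O Q ⟶ Q :=
  PresheafOfModules.freeObjDesc (𝟙 _)

instance (Q : PM O) : Epi (pFreeCoverπ O Q) :=
  PresheafOfModules.epi_of_surjective (fun X m => ⟨ModuleCat.freeMk m, by
    dsimp [pFreeCoverπ]
    erw [ModuleCat.freeDesc_apply]
    rfl⟩)

theorem flat_pFreeCover (Q : PM O) (X : Cᵒᵖ) :
    Module.Flat (O.obj X) ((pFreeCover O Q).obj X) := by
  change Module.Flat (O.obj X)
    (((Q.presheaf ⋙ forget Ab).obj X) →₀ (O.obj X))
  infer_instance

instance pPreservesFiniteColimits_tensorRight (N : PM O) :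
    PreservesFiniteColimits (tensorRight N) := by
  have : PreservesColimitsOfSize.{u, u} (tensorRight N) := inferInstance
  have : PreservesColimitsOfSize.{0, 0} (tensorRight N) :=
    preservesColimitsOfSize_shrink.{0, u, 0, u} _
  exact PreservesColimitsOfSize.preservesFiniteColimits _

instance pPreservesFiniteColimits_tensorLeft (N : PM O) :
    PreservesFiniteColimits (tensorLeft N) := by
  have : PreservesColimitsOfSize.{u, u} (tensorLeft N) := inferInstance
  have : PreservesColimitsOfSize.{0, 0} (tensorLeft N) :=
    preservesColimitsOfSize_shrink.{0, u, 0, u} _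
  exact PreservesColimitsOfSize.preservesFiniteColimits _

theorem pMono_whiskerRight {S : ShortComplex (PM O)} (hS : S.ShortExact)
    (hF : PreservesFiniteLimits (tensorRight S.X₃)) (G : PM O) : Mono (S.f ▷ G) := by
  have h1 : ∀ X, PreservesFiniteColimits ((curriedTensor (PM O)).obj X) := fun X =>
    pPreservesFiniteColimits_tensorLeft O X
  have h2 : ∀ N, PreservesFiniteColimits ((curriedTensor (PM O)).flip.obj N) := fun N =>
    pPreservesFiniteColimits_tensorRight O N
  let p := pFreeCoverπ O G
  have hP : PreservesFiniteLimits ((curriedTensor (PM O)).flip.obj (pFreeCover O G)) :=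
    (main9110 O _ (flat_pFreeCover O G)).1
  have h4 : Mono (S.X₃ ◁ kernel.ι p) := by
    have h5 : Mono (kernel.ι p ▷ S.X₃) :=
      (tensorRight S.X₃).map_mono (kernel.ι p)
    have h := BraidedCategory.braiding_naturality_right S.X₃ (kernel.ι p)
    have h6 : Mono (S.X₃ ◁ kernel.ι p ≫ (β_ S.X₃ _).hom) := by
      rw [h]
      exact mono_comp _ _
    exact mono_of_mono _ (β_ S.X₃ _).hom
  exact mono_flip_map_f_of_cover (curriedTensor (PM O)) S hS (kernel.ι p) p (kernel.condition p)
    (Abelian.epiIsCokernelOfKernel (KernelFork.ofι (kernel.ι p) (kernel.condition p))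
      (kernelIsKernel p)) hP h4

theorem main9111
    (S : ShortComplex (PresheafOfModules.{u} (O ⋙ forget₂ CommRingCat.{u} RingCat.{u})))
    (hS : S.ShortExact)
    (hF : PreservesFiniteLimits (MonoidalCategory.tensorRight S.X₃) ∧
      PreservesFiniteColimits (MonoidalCategory.tensorRight S.X₃))
    (G : PresheafOfModules.{u} (O ⋙ forget₂ CommRingCat.{u} RingCat.{u}))
    [(MonoidalCategory.tensorRight G).PreservesZeroMorphisms] :
    (S.map (MonoidalCategory.tensorRight G)).ShortExact := by
  have heS := hS.epi_g
  have h1 : (S.map (tensorRight G)).Exact :=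
    hS.exact.map_of_epi_of_preservesCokernel (tensorRight G) heS inferInstance
  have h2 : Mono ((tensorRight G).map S.f) := pMono_whiskerRight O hS hF.1 G
  have h3 : Epi ((tensorRight G).map S.g) := inferInstance
  exact ShortComplex.ShortExact.mk' h1 h2 h3

end Presheaf

end Groth.Agent.Helper17.MT
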