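import Mathlib

set_option autoImplicit false
universe v u
open CategoryTheory Limits

namespace Groth.Agent.Helper17.MU

section WP

variable {𝒞 : Type u} [Category.{v} 𝒞] [HasPullbacks 𝒞] {S P : 𝒞} (p : P ⟶ S)

theorem wp_zero_isIso [HasWidePullback S (fun _ : Fin 0 => P) (fun _ => p)] :
    IsIso (WidePullback.base (fun _ : Fin 0 => p)) := by
  refine ⟨WidePullback.lift (𝟙 S) (fun j => j.elim0) (fun j => j.elim0), ?_, ?_⟩
  · apply WidePullback.hom_ext
    · intro j; exact j.elim0
    · rw [Category.assoc, WidePullback.lift_base (fun _ : Fin 0 => p), Category.comp_id,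
        Category.id_comp]
  · exact WidePullback.lift_base _ _ _ _

theorem wp_succ_iso (n : ℕ) [HasWidePullback S (fun _ : Fin n => P) (fun _ => p)]
    [HasWidePullback S (fun _ : Fin (n + 1) => P) (fun _ => p)] :
    ∃ e : widePullback S (fun _ : Fin (n + 1) => P) (fun _ => p) ≅
        pullback p (WidePullback.base (fun _ : Fin n => p)),
      e.hom ≫ pullback.fst p (WidePullback.base (fun _ : Fin n => p)) ≫ p =
        WidePullback.base (fun _ : Fin (n + 1) => p) := by
  obtain ⟨b, hb⟩ : ∃ b : widePullback S (fun _ : Fin n => P) (fun _ => p) ⟶ S,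
      b = WidePullback.base (fun _ : Fin n => p) := ⟨_, rfl⟩
  obtain ⟨b', hb'⟩ : ∃ b' : widePullback S (fun _ : Fin (n + 1) => P) (fun _ => p) ⟶ S,
      b' = WidePullback.base (fun _ : Fin (n + 1) => p) := ⟨_, rfl⟩
  have hπ : ∀ j : Fin n, WidePullback.π (fun _ : Fin n => p) j ≫ p = b := by
    intro j; rw [hb]; exact WidePullback.π_arrow _ j
  have hπ' : ∀ j : Fin (n + 1), WidePullback.π (fun _ : Fin (n + 1) => p) j ≫ p = b' := by
    intro j; rw [hb']; exact WidePullback.π_arrow _ j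
  -- hom
  obtain ⟨t, ht1, ht2⟩ : ∃ t : widePullback S (fun _ : Fin (n + 1) => P) (fun _ => p) ⟶
      widePullback S (fun _ : Fin n => P) (fun _ => p),
      (∀ j : Fin n, t ≫ WidePullback.π (fun _ : Fin n => p) j =
        WidePullback.π (fun _ : Fin (n + 1) => p) j.succ) ∧ t ≫ b = b' := by
    refine ⟨WidePullback.lift b' (fun j => WidePullback.π (fun _ : Fin (n + 1) => p) j.succ)
      (fun j => hπ' j.succ), fun j => WidePullback.lift_π _ _ _ _ j, ?_⟩
    rw [hb]; exact WidePullback.lift_base _ _ _ _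
  have hw : WidePullback.π (fun _ : Fin (n + 1) => p) 0 ≫ p = t ≫ b := by
    rw [ht2]; exact hπ' 0
  obtain ⟨f, hf1, hf2⟩ : ∃ f : widePullback S (fun _ : Fin (n + 1) => P) (fun _ => p) ⟶
      pullback p b, f ≫ pullback.fst p b = WidePullback.π (fun _ : Fin (n + 1) => p) 0 ∧
        f ≫ pullback.snd p b = t :=
    ⟨pullback.lift _ _ hw, pullback.lift_fst _ _ _, pullback.lift_snd _ _ _⟩
  -- inverse
  obtain ⟨gs, hgs0, hgss⟩ : ∃ gs : Fin (n + 1) → (pullback p b ⟶ P),
      gs 0 = pullback.fst p b ∧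
      ∀ j : Fin n, gs j.succ = pullback.snd p b ≫ WidePullback.π (fun _ : Fin n => p) j :=
    ⟨fun j => Fin.cases (motive := fun _ => pullback p b ⟶ P) (pullback.fst p b)
      (fun j => pullback.snd p b ≫ WidePullback.π (fun _ : Fin n => p) j) j, rfl,
      fun j => rfl⟩
  have hgw : ∀ j : Fin (n + 1), gs j ≫ p = pullback.fst p b ≫ p := by
    intro j
    refine Fin.cases ?_ (fun j => ?_) j
    · rw [hgs0]
    · rw [hgss, Category.assoc, hπ j, pullback.condition]
  obtain ⟨g, hg1, hg2⟩ : ∃ g : pullback p b ⟶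
      widePullback S (fun _ : Fin (n + 1) => P) (fun _ => p),
      (∀ j, g ≫ WidePullback.π (fun _ : Fin (n + 1) => p) j = gs j) ∧
        g ≫ b' = pullback.fst p b ≫ p := by
    refine ⟨WidePullback.lift (pullback.fst p b ≫ p) gs hgw,
      fun j => WidePullback.lift_π _ _ _ _ j, ?_⟩
    rw [hb']; exact WidePullback.lift_base _ _ _ _
  have hfg : f ≫ g = 𝟙 _ := by
    apply WidePullback.hom_ext
    · intro j
      rw [Category.assoc, hg1, Category.id_comp]
      refine Fin.cases ?_ (fun j => ?_) j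
      · rw [hgs0, hf1]
      · rw [hgss, ← Category.assoc, hf2, ht1]
    · rw [Category.id_comp, ← hb', Category.assoc, hg2, ← Category.assoc, hf1, hπ' 0]
  have hgf : g ≫ f = 𝟙 _ := by
    apply pullback.hom_ext
    · rw [Category.assoc, hf1, hg1, hgs0, Category.id_comp]
    · rw [Category.assoc, hf2, Category.id_comp]
      apply WidePullback.hom_ext
      · intro j
        rw [Category.assoc, ht1, hg1, hgss]
      · rw [← hb, Category.assoc, ht2, hg2, pullback.condition]
  subst hb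
  refine ⟨⟨f, g, hfg, hgf⟩, ?_⟩
  show f ≫ pullback.fst p _ ≫ p = _
  rw [← Category.assoc, hf1, hπ' 0, hb']

end WP

section Induct

variable {𝒞 : Type u} [Category.{v} 𝒞] [HasPullbacks 𝒞] {S P : 𝒞} (p : P ⟶ S)
  [∀ n : ℕ, HasWidePullback S (fun _ : Fin n => P) (fun _ => p)]

theorem induct_abstract (W : MorphismProperty 𝒞) [W.IsStableUnderBaseChange]
    [W.IsMultiplicative] [W.RespectsIso]
    (Q : ℕ → 𝒞) (q : ∀ n, Q n ⟶ S) (h0 : IsIso (q 0))
    (hμ : ∀ n, ∃ μ : pullback p (q n) ⟶ Q (n + 1), W μ ∧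
      μ ≫ q (n + 1) = pullback.fst p (q n) ≫ p) (n : ℕ) :
    ∃ φ : widePullback S (fun _ : Fin n => P) (fun _ => p) ⟶ Q n,
      W φ ∧ φ ≫ q n = WidePullback.base (fun _ : Fin n => p) := by
  induction n with
  | zero =>
    haveI := h0
    haveI := wp_zero_isIso p
    refine ⟨WidePullback.base (fun _ : Fin 0 => p) ≫ inv (q 0), ?_, ?_⟩
    · exact W.of_isIso _
    · rw [Category.assoc, IsIso.inv_hom_id, Category.comp_id]
  | succ n ih =>
    obtain ⟨φ, hφ1, hφ2⟩ := ih
    obtain ⟨μ, hμ1, hμ2⟩ := hμ n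
    obtain ⟨e, he⟩ := wp_succ_iso p n
    have e₁ : p = 𝟙 P ≫ p := (Category.id_comp _).symm
    have hψ : W (pullback.map p (WidePullback.base (fun _ : Fin n => p)) p (q n) (𝟙 P) φ (𝟙 S) ((Category.comp_id _).trans e₁)
        ((Category.comp_id _).trans hφ2.symm)) :=
      MorphismProperty.pullbackMap (W.id_mem P) hφ1 e₁ hφ2.symm
    refine ⟨e.hom ≫ pullback.map p (WidePullback.base (fun _ : Fin n => p)) p (q n) (𝟙 P) φ (𝟙 S) ((Category.comp_id _).trans e₁)
        ((Category.comp_id _).trans hφ2.symm) ≫ μ, ?_, ?_⟩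
    · exact W.comp_mem _ _ (W.of_isIso _) (W.comp_mem _ _ hψ hμ1)
    · rw [Category.assoc, Category.assoc, hμ2, ← he]
      congr 1
      rw [← Category.assoc, pullback.lift_fst, Category.assoc, Category.id_comp]

end Induct

end Groth.Agent.Helper17.MU
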