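import Mathlib
import Groth.Agent.Lib.Helper17.SG7

set_option autoImplicit false
universe u
open CategoryTheory AlgebraicGeometry Limits HomogeneousLocalization MvPolynomial

namespace Groth.Agent.Helper17.MU

open Groth.Agent.Helper17.SG

variable (R : Type u) [CommRing R]

theorem fin01 (k : Fin (0 + 1)) : k = 0 := by
  apply Fin.ext
  have := k.isLt
  simp only [Fin.val_zero]
  omega

theorem strA_zero_bijective : Function.Bijective (strA 0 R 0) := by
  constructor
  · have hu : IsUnit ((eval₂Hom (RingHom.id R) (fun _ : Fin (0 + 1) => (1 : R)))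
        (X 0 : MvPolynomial (Fin (0 + 1)) R)) := by
      rw [eval₂Hom_X']; exact isUnit_one
    intro a b hab
    have h := congrArg (evalAway (CohB1.polyGrading 0 R) _ (X 0) hu) hab
    unfold strA at h
    rw [RingHom.comp_apply, RingHom.comp_apply, evalAway_fromZero, evalAway_fromZero] at h
    have e : ∀ r : R, ((algebraMap R (CohB1.polyGrading 0 R 0) r : CohB1.polyGrading 0 R 0) :
        MvPolynomial (Fin (0 + 1)) R) = C r := fun _ => rfl
    rw [e, e, eval₂Hom_C, eval₂Hom_C] at h
    exact h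
  · intro z
    obtain ⟨p, rfl⟩ := ev_surjective 0 R 0 z
    induction p using MvPolynomial.induction_on with
    | C r => exact ⟨r, (ev_C 0 R 0 r).symm⟩
    | add p q hp hq =>
      obtain ⟨a, ha⟩ := hp
      obtain ⟨b, hb⟩ := hq
      exact ⟨a + b, by rw [map_add, map_add, ha, hb]⟩
    | mul_X p k hp =>
      obtain ⟨a, ha⟩ := hp
      refine ⟨a, ?_⟩
      rw [map_mul, ev_X, fin01 k, fr_self, mul_one, ha]

theorem isIso_πP_zero : IsIso (πP 0 R) := by
  haveI : Surjective (Proj.awayι (CohB1.polyGrading 0 R) (X 0) (X_mem 0 R 0) one_pos) := by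
    refine ⟨fun p => ?_⟩
    obtain ⟨i, x, hx⟩ := (coverP 0 R).exists_eq p
    have hi : ∀ (i : Fin (0 + 1)) (x : ↥((coverP 0 R).X i)), (coverP 0 R).f i x = p →
        ∃ y, (Proj.awayι (CohB1.polyGrading 0 R) (X 0) (X_mem 0 R 0) one_pos) y = p := by
      intro i
      rw [fin01 i]
      intro x hx
      exact ⟨x, hx⟩
    exact hi i x hx
  haveI hι : IsIso (Proj.awayι (CohB1.polyGrading 0 R) (X 0) (X_mem 0 R 0) one_pos) :=
    (isIso_iff_isOpenImmersion_and_surjective _).mpr ⟨inferInstance, inferInstance⟩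
  have h2 : IsIso (Spec.map (CommRingCat.ofHom (strA 0 R 0))) := by
    have : IsIso (CommRingCat.ofHom (strA 0 R 0)) := by
      let e := (RingEquiv.ofBijective _ (strA_zero_bijective R)).toCommRingCatIso
      exact ⟨e.inv, e.hom_inv_id, e.inv_hom_id⟩
    infer_instance
  rw [← awayι_πP 0 R 0] at h2
  exact IsIso.of_isIso_comp_left
    (Proj.awayι (CohB1.polyGrading 0 R) (X 0) (X_mem 0 R 0) one_pos) (πP 0 R)

theorem isIso_toBase_zero (S : Scheme.{u}) : IsIso (CohB1.ProjSpaceOver.toBase 0 S) := by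
  haveI : IsIso (CohB1.ProjSpace.toSpec 0 (ULift.{u} ℤ)) := isIso_πP_zero (ULift.{u} ℤ)
  unfold CohB1.ProjSpaceOver.toBase
  exact pullback_snd_iso_of_left_iso _ _

end Groth.Agent.Helper17.MU
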