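import Mathlib
import Groth.Agent.Lib.Helper17.SG7

set_option autoImplicit false
universe u
open CategoryTheory AlgebraicGeometry Limits HomogeneousLocalization MvPolynomial

namespace Groth.Agent.Helper17.MU

open Groth.Agent.Helper17.SG
open Groth.Agent.Helper17.JT (iot iot_surj toSpec_ext comp_appTop_apply)

theorem isUnit_of_basicOpen_eq_top {Y : Scheme.{u}} (g : Γ(Y, ⊤)) (h : Y.basicOpen g = ⊤) :
    IsUnit g := by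
  refine RingedSpace.isUnit_of_isUnit_germ (X := Y.toLocallyRingedSpace.toRingedSpace) ⊤ g ?_
  intro x hx
  have hm : x ∈ Y.basicOpen g := by rw [h]; trivial
  exact (Y.mem_basicOpen g x hx).mp hm

theorem isUnit_ι_appTop {X : Scheme.{u}} (f : Γ(X, ⊤)) :
    IsUnit ((X.basicOpen f).ι.appTop.hom f) := by
  apply isUnit_of_basicOpen_eq_top
  have h := Scheme.preimage_basicOpen_top (X.basicOpen f).ι f
  have h2 : (X.basicOpen f).ι ⁻¹ᵁ X.basicOpen f = ⊤ := Scheme.Opens.ι_preimage_self _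
  rw [h2] at h
  exact h.symm

section Refine

variable {C : Type u} {σC : Type*} [CommRing C] [SetLike σC C] [AddSubgroupClass σC C]
  (𝒞 : ℕ → σC) [GradedRing 𝒞]

theorem compat_refine {X : Scheme.{u}} (𝒰 : X.OpenCover) (𝒲 : X.OpenCover) (c : 𝒲.I₀ → 𝒰.I₀)
    (ρ : ∀ a, 𝒲.X a ⟶ 𝒰.X (c a)) (hρ : ∀ a, ρ a ≫ 𝒰.f (c a) = 𝒲.f a)
    (s : ∀ t, C →+* Γ(𝒰.X t, ⊤))
    (hcompat : ∀ t t', ∃ u : Γ(pullback (𝒰.f t) (𝒰.f t'), ⊤), IsUnit u ∧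
      ∀ (k : ℕ) (a : C), a ∈ 𝒞 k →
        ((pullback.snd (𝒰.f t) (𝒰.f t')).appTop.hom.comp (s t')) a =
          u ^ k * ((pullback.fst (𝒰.f t) (𝒰.f t')).appTop.hom.comp (s t)) a) :
    ∀ a b, ∃ u : Γ(pullback (𝒲.f a) (𝒲.f b), ⊤), IsUnit u ∧
      ∀ (k : ℕ) (x : C), x ∈ 𝒞 k →
        ((pullback.snd (𝒲.f a) (𝒲.f b)).appTop.hom.comp ((ρ b).appTop.hom.comp (s (c b)))) x =
          u ^ k * ((pullback.fst (𝒲.f a) (𝒲.f b)).appTop.hom.comp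
            ((ρ a).appTop.hom.comp (s (c a)))) x := by
  intro a b
  obtain ⟨u, hu, hs⟩ := hcompat (c a) (c b)
  have hw : (pullback.fst (𝒲.f a) (𝒲.f b) ≫ ρ a) ≫ 𝒰.f (c a) =
      (pullback.snd (𝒲.f a) (𝒲.f b) ≫ ρ b) ≫ 𝒰.f (c b) := by
    rw [Category.assoc, Category.assoc, hρ, hρ, pullback.condition]
  obtain ⟨lam, h1, h2⟩ : ∃ lam : pullback (𝒲.f a) (𝒲.f b) ⟶ pullback (𝒰.f (c a)) (𝒰.f (c b)),
      lam ≫ pullback.fst (𝒰.f (c a)) (𝒰.f (c b)) = pullback.fst (𝒲.f a) (𝒲.f b) ≫ ρ a ∧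
      lam ≫ pullback.snd (𝒰.f (c a)) (𝒰.f (c b)) = pullback.snd (𝒲.f a) (𝒲.f b) ≫ ρ b :=
    ⟨pullback.lift _ _ hw, pullback.lift_fst _ _ _, pullback.lift_snd _ _ _⟩
  refine ⟨lam.appTop.hom u, hu.map _, ?_⟩
  intro k x hx
  have h3 : lam.appTop.hom ((pullback.snd (𝒰.f (c a)) (𝒰.f (c b))).appTop.hom (s (c b) x)) =
      lam.appTop.hom u ^ k *
        lam.appTop.hom ((pullback.fst (𝒰.f (c a)) (𝒰.f (c b))).appTop.hom (s (c a) x)) := by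
    have h4 := congrArg lam.appTop.hom (hs k x hx)
    rw [map_mul, map_pow] at h4
    exact h4
  have eL : (pullback.snd (𝒲.f a) (𝒲.f b)).appTop.hom ((ρ b).appTop.hom (s (c b) x)) =
      lam.appTop.hom ((pullback.snd (𝒰.f (c a)) (𝒰.f (c b))).appTop.hom (s (c b) x)) := by
    rw [← comp_appTop_apply, ← comp_appTop_apply, h2]
  have eR : (pullback.fst (𝒲.f a) (𝒲.f b)).appTop.hom ((ρ a).appTop.hom (s (c a) x)) =
      lam.appTop.hom ((pullback.fst (𝒰.f (c a)) (𝒰.f (c b))).appTop.hom (s (c a) x)) := by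
    rw [← comp_appTop_apply, ← comp_appTop_apply, h1]
  show (pullback.snd (𝒲.f a) (𝒲.f b)).appTop.hom ((ρ b).appTop.hom (s (c b) x)) =
    lam.appTop.hom u ^ k *
      (pullback.fst (𝒲.f a) (𝒲.f b)).appTop.hom ((ρ a).appTop.hom (s (c a) x))
  rw [eL, eR]
  exact h3

theorem glue_refine {X : Scheme.{u}} (𝒰 : X.OpenCover) (𝒲 : X.OpenCover) (c : 𝒲.I₀ → 𝒰.I₀)
    (ρ : ∀ a, 𝒲.X a ⟶ 𝒰.X (c a)) (hρ : ∀ a, ρ a ≫ 𝒰.f (c a) = 𝒲.f a)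
    (h : 𝒲.I₀ → C) (hh : ∀ a, h a ∈ 𝒞 1)
    (s : ∀ t, C →+* Γ(𝒰.X t, ⊤))
    (hu : ∀ a, IsUnit (((ρ a).appTop.hom.comp (s (c a))) (h a)))
    (hcompat : ∀ t t', ∃ u : Γ(pullback (𝒰.f t) (𝒰.f t'), ⊤), IsUnit u ∧
      ∀ (k : ℕ) (a : C), a ∈ 𝒞 k →
        ((pullback.snd (𝒰.f t) (𝒰.f t')).appTop.hom.comp (s t')) a =
          u ^ k * ((pullback.fst (𝒰.f t) (𝒰.f t')).appTop.hom.comp (s t)) a)
    {R : Type u} [CommRing R] (alg : R →+* 𝒞 0) (pX : X ⟶ Spec (CommRingCat.of R))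
    (hp : ∀ t r, s t ((alg r : 𝒞 0) : C) = flat (𝒰.f t ≫ pX) r) :
    ∃ φ : X ⟶ Proj 𝒞,
      φ ≫ Proj.toSpecZero 𝒞 ≫ Spec.map (CommRingCat.ofHom alg) = pX ∧
      ∀ a, 𝒲.f a ≫ φ = chart 𝒞 (𝒲.X a) (h a) (hh a) one_pos
        (evalAway 𝒞 ((ρ a).appTop.hom.comp (s (c a))) (h a) (hu a)) := by
  obtain ⟨φ, hφ⟩ := exists_glue 𝒞 𝒲 h hh (fun a => (ρ a).appTop.hom.comp (s (c a))) hu
    (compat_refine 𝒞 𝒰 𝒲 c ρ hρ s hcompat)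
  refine ⟨φ, ?_, hφ⟩
  refine glue_over 𝒞 𝒲 alg h hh _ hu φ hφ pX ?_
  intro a r
  show (ρ a).appTop.hom (s (c a) ((alg r : 𝒞 0) : C)) = flat (𝒲.f a ≫ pX) r
  rw [hp, ← hρ a, Category.assoc, flat_comp]
  rfl

theorem glue_span {X : Scheme.{u}} (𝒰 : X.OpenCover) {L : Type} (h : L → C)
    (hh : ∀ l, h l ∈ 𝒞 1) (s : ∀ t, C →+* Γ(𝒰.X t, ⊤))
    (hspan : ∀ t, Ideal.span (Set.range fun l => s t (h l)) = ⊤)
    (hcompat : ∀ t t', ∃ u : Γ(pullback (𝒰.f t) (𝒰.f t'), ⊤), IsUnit u ∧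
      ∀ (k : ℕ) (a : C), a ∈ 𝒞 k →
        ((pullback.snd (𝒰.f t) (𝒰.f t')).appTop.hom.comp (s t')) a =
          u ^ k * ((pullback.fst (𝒰.f t) (𝒰.f t')).appTop.hom.comp (s t)) a)
    {R : Type u} [CommRing R] (alg : R →+* 𝒞 0) (pX : X ⟶ Spec (CommRingCat.of R))
    (hp : ∀ t r, s t ((alg r : 𝒞 0) : C) = flat (𝒰.f t ≫ pX) r) :
    ∃ φ : X ⟶ Proj 𝒞,
      φ ≫ Proj.toSpecZero 𝒞 ≫ Spec.map (CommRingCat.ofHom alg) = pX ∧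
      ∀ (t : 𝒰.I₀) (l : L)
        (hu : IsUnit ((((𝒰.X t).basicOpen (s t (h l))).ι.appTop.hom.comp (s t)) (h l))),
        ((𝒰.X t).basicOpen (s t (h l))).ι ≫ 𝒰.f t ≫ φ =
          chart 𝒞 _ (h l) (hh l) one_pos
            (evalAway 𝒞 (((𝒰.X t).basicOpen (s t (h l))).ι.appTop.hom.comp (s t)) (h l) hu) := by
  have hcov : ∀ t, TopologicalSpace.IsOpenCover (fun l : L => (𝒰.X t).basicOpen (s t (h l))) := by
    intro t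
    have h1 := iSup_basicOpen_of_span_eq_top (X := 𝒰.X t) ⊤ (Set.range fun l => s t (h l))
      (hspan t)
    rw [iSup_range] at h1
    exact h1
  obtain ⟨φ, hφ1, hφ2⟩ := glue_refine 𝒞 𝒰
    (𝒰.bind (fun t => (𝒰.X t).openCoverOfIsOpenCover _ (hcov t)))
    (fun a : (Σ _ : 𝒰.I₀, L) => a.1)
    (fun a : (Σ _ : 𝒰.I₀, L) => ((𝒰.X a.1).basicOpen (s a.1 (h a.2))).ι)
    (fun a : (Σ _ : 𝒰.I₀, L) => rfl)
    (fun a : (Σ _ : 𝒰.I₀, L) => h a.2) (fun a : (Σ _ : 𝒰.I₀, L) => hh a.2) s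
    (fun a : (Σ _ : 𝒰.I₀, L) => isUnit_ι_appTop _) hcompat alg pX hp
  refine ⟨φ, hφ1, ?_⟩
  intro t l hu'
  have h3 := hφ2 ⟨t, l⟩
  rw [← Category.assoc]
  exact h3

end Refine

end Groth.Agent.Helper17.MU
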