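import Mathlib
import Groth.Agent.Lib.Helper17.MU3

set_option autoImplicit false
universe u
open CategoryTheory AlgebraicGeometry Limits HomogeneousLocalization MvPolynomial

namespace Groth.Agent.Helper17.MU

open Groth.Agent.Helper17.SG

theorem span_lemma {G : Type*} [CommRing G] (k : ℕ) (x0 x1 : G) (a : ℕ → G)
    (hx : x0 = 1 ∨ x1 = 1) (j : ℕ) (hj : j ≤ k) (haj : a j = 1) (I : Ideal G)
    (hI : ∀ l, l ≤ k + 1 →
      (if l ≤ k then x0 * a l else 0) + (if 0 < l then x1 * a (l - 1) else 0) ∈ I) :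
    I = ⊤ := by
  rw [Ideal.eq_top_iff_one, ← haj]
  rcases hx with hx | hx
  · have key : ∀ m, m ≤ k → a m ∈ I := by
      intro m
      induction m with
      | zero =>
        intro _
        have h := hI 0 (Nat.zero_le _)
        rw [if_pos (Nat.zero_le k), if_neg (lt_irrefl 0), add_zero, hx, one_mul] at h
        exact h
      | succ m ih =>
        intro hm
        have h := hI (m + 1) (by omega)
        rw [if_pos hm, if_pos (Nat.succ_pos m), hx, one_mul, Nat.add_sub_cancel] at h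
        have h2 := I.mul_mem_left x1 (ih (by omega))
        exact (I.add_mem_iff_left h2).mp h
    exact key j hj
  · have key : ∀ d, d ≤ k → a (k - d) ∈ I := by
      intro d
      induction d with
      | zero =>
        intro _
        have h := hI (k + 1) le_rfl
        rw [if_neg (show ¬ k + 1 ≤ k by omega), if_pos (Nat.succ_pos k), zero_add, hx, one_mul,
          Nat.add_sub_cancel] at h
        exact h
      | succ d ih =>
        intro hd
        have h := hI (k - d) (by omega)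
        rw [if_pos (show k - d ≤ k by omega), if_pos (show 0 < k - d by omega), hx, one_mul] at h
        have e : k - d - 1 = k - (d + 1) := by omega
        rw [e] at h
        have h2 := I.mul_mem_left x0 (ih (by omega))
        exact (I.add_mem_iff_right h2).mp h
    have h3 := key (k - j) (by omega)
    have e : k - (k - j) = j := by omega
    rw [e] at h3
    exact h3

section Mul

variable (k : ℕ) (R : Type u) [CommRing R]

/-- the linear form `z_{0,l} + z_{1,l-1}` -/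
noncomputable def ell (l : Fin (k + 1 + 1)) : MvPolynomial (Fin (1 * k + 1 + k + 1)) R :=
  (if h : (l : ℕ) ≤ k then X (idx 1 k (0, ⟨l, Nat.lt_succ_of_le h⟩)) else 0) +
  (if _h : 0 < (l : ℕ) then X (idx 1 k (1, ⟨(l : ℕ) - 1, by have := l.isLt; omega⟩)) else 0)

theorem ell_mem (l : Fin (k + 1 + 1)) :
    ell k R l ∈ CohB1.polyGrading (1 * k + 1 + k) R 1 := by
  unfold ell
  refine add_mem ?_ ?_
  · split_ifs
    · exact X_mem _ R _
    · exact zero_mem _
  · split_ifs
    · exact X_mem _ R _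
    · exact zero_mem _

noncomputable def lam :
    MvPolynomial (Fin (k + 1 + 1)) R →+* MvPolynomial (Fin (1 * k + 1 + k + 1)) R :=
  eval₂Hom C (ell k R)

theorem lam_C (r : R) : lam k R (C r) = C r := by
  unfold lam; rw [eval₂Hom_C]

theorem lam_X (l : Fin (k + 1 + 1)) : lam k R (X l) = ell k R l := by
  unfold lam; rw [eval₂Hom_X']

theorem lam_mem (d : ℕ) (a : MvPolynomial (Fin (k + 1 + 1)) R)
    (ha : a ∈ CohB1.polyGrading (k + 1) R d) :
    lam k R a ∈ CohB1.polyGrading (1 * k + 1 + k) R d := by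
  have h1 : a.IsHomogeneous d := ha
  have h2 := h1.eval₂ (C : R →+* MvPolynomial (Fin (1 * k + 1 + k + 1)) R) (ell k R) (n := 1)
    (fun r => isHomogeneous_C _ r) (fun i => ell_mem k R i)
  have h3 : 1 * d = d := one_mul d
  rw [h3] at h2
  exact h2

variable {V V' : Scheme.{u}}

/-- the multiplication ring hom on a chart -/
noncomputable def mulS (ρ : R →+* Γ(V, ⊤)) (i : Fin (1 + 1)) (j : Fin (k + 1))
    (e₁ : V ⟶ Spec (CommRingCat.of (Aw 1 R i))) (e₂ : V ⟶ Spec (CommRingCat.of (Aw k R j))) :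
    MvPolynomial (Fin (k + 1 + 1)) R →+* Γ(V, ⊤) :=
  (segS 1 k R ρ i j e₁ e₂).comp (lam k R)

variable (ρ : R →+* Γ(V, ⊤)) (i : Fin (1 + 1)) (j : Fin (k + 1))
  (e₁ : V ⟶ Spec (CommRingCat.of (Aw 1 R i))) (e₂ : V ⟶ Spec (CommRingCat.of (Aw k R j)))

theorem mulS_apply (a : MvPolynomial (Fin (k + 1 + 1)) R) :
    mulS k R ρ i j e₁ e₂ a = segS 1 k R ρ i j e₁ e₂ (lam k R a) := rfl

theorem mulS_C (r : R) : mulS k R ρ i j e₁ e₂ (C r) = ρ r := by
  rw [mulS_apply, lam_C, segS_C]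

theorem comp_mulS (g : V' ⟶ V) :
    g.appTop.hom.comp (mulS k R ρ i j e₁ e₂) =
      mulS k R (g.appTop.hom.comp ρ) i j (g ≫ e₁) (g ≫ e₂) := by
  unfold mulS
  rw [← RingHom.comp_assoc, comp_segS]

theorem mulS_scale (i' : Fin (1 + 1)) (j' : Fin (k + 1))
    (e₁' : V ⟶ Spec (CommRingCat.of (Aw 1 R i'))) (e₂' : V ⟶ Spec (CommRingCat.of (Aw k R j')))
    (hA : e₁ ≫ Proj.awayι (CohB1.polyGrading 1 R) (X i) (X_mem 1 R i) one_pos =
      e₁' ≫ Proj.awayι (CohB1.polyGrading 1 R) (X i') (X_mem 1 R i') one_pos)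
    (hB : e₂ ≫ Proj.awayι (CohB1.polyGrading k R) (X j) (X_mem k R j) one_pos =
      e₂' ≫ Proj.awayι (CohB1.polyGrading k R) (X j') (X_mem k R j') one_pos) :
    ∃ u : Γ(V, ⊤), IsUnit u ∧ ∀ (d : ℕ) (a : MvPolynomial (Fin (k + 1 + 1)) R),
      a ∈ CohB1.polyGrading (k + 1) R d →
        mulS k R ρ i' j' e₁' e₂' a = u ^ d * mulS k R ρ i j e₁ e₂ a := by
  obtain ⟨u, hu, h⟩ := segS_scale 1 k R ρ i j e₁ e₂ i' j' e₁' e₂' hA hB
  exact ⟨u, hu, fun d a ha => h d (lam k R a) (lam_mem k R d a ha)⟩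

/-- the `P^k` coordinates on a chart, extended by zero -/
noncomputable def aN (j : Fin (k + 1)) (e₂ : V ⟶ Spec (CommRingCat.of (Aw k R j))) (m : ℕ) :
    Γ(V, ⊤) :=
  if h : m ≤ k then flat e₂ (fr k R j ⟨m, Nat.lt_succ_of_le h⟩) else 0

theorem mulS_X_eq (l : Fin (k + 1 + 1)) :
    mulS k R ρ i j e₁ e₂ (X l) =
      (if (l : ℕ) ≤ k then flat e₁ (fr 1 R i 0) * aN k R j e₂ l else 0) +
      (if 0 < (l : ℕ) then flat e₁ (fr 1 R i 1) * aN k R j e₂ ((l : ℕ) - 1) else 0) := by
  rw [mulS_apply, lam_X]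
  unfold ell
  rw [map_add]
  congr 1
  · split_ifs with h
    · rw [segS_X]; unfold aN; rw [dif_pos h]
    · rw [map_zero]
  · split_ifs with h
    · rw [segS_X]; unfold aN
      rw [dif_pos (show (l : ℕ) - 1 ≤ k by have := l.isLt; omega)]
    · rw [map_zero]

theorem fin2_cases (i : Fin (1 + 1)) : i = 0 ∨ i = 1 := by
  have h := i.isLt
  rcases Nat.lt_or_ge (i : ℕ) 1 with h1 | h1
  · left; apply Fin.ext; simp only [Fin.val_zero]; omega
  · right; apply Fin.ext
    have h2 : ((1 : Fin (1 + 1)) : ℕ) = 1 := rfl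
    omega

theorem mulS_span :
    Ideal.span (Set.range fun l : Fin (k + 1 + 1) => mulS k R ρ i j e₁ e₂ (X l)) = ⊤ := by
  refine span_lemma k (flat e₁ (fr 1 R i 0)) (flat e₁ (fr 1 R i 1)) (aN k R j e₂) ?_ (j : ℕ)
    (Nat.le_of_lt_succ j.isLt) ?_ _ ?_
  · rcases fin2_cases i with rfl | rfl
    · left; rw [fr_self, map_one]
    · right; rw [fr_self, map_one]
  · unfold aN
    rw [dif_pos (Nat.le_of_lt_succ j.isLt), Fin.eta, fr_self, map_one]
  · intro l hl
    have h1 : mulS k R ρ i j e₁ e₂ (X (⟨l, by omega⟩ : Fin (k + 1 + 1))) ∈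
        Ideal.span (Set.range fun l : Fin (k + 1 + 1) => mulS k R ρ i j e₁ e₂ (X l)) :=
      Ideal.subset_span ⟨(⟨l, by omega⟩ : Fin (k + 1 + 1)), rfl⟩
    rw [mulS_X_eq] at h1
    exact h1

end Mul

end Groth.Agent.Helper17.MU
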