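import Mathlib
import Groth.Agent.Lib.Helper17.MU5

set_option autoImplicit false
universe u
open CategoryTheory AlgebraicGeometry Limits HomogeneousLocalization MvPolynomial

namespace Groth.Agent.Helper17.MU

open Groth.Agent.Helper17.SG

variable (k : ℕ) (R : Type u) [CommRing R]

theorem mult_abstract {Z : Scheme.{u}}
    (p₁ : Z ⟶ Proj (CohB1.polyGrading 1 R)) (p₂ : Z ⟶ Proj (CohB1.polyGrading k R))
    (pZ : Z ⟶ Spec (CommRingCat.of R)) (𝒰 : Z.OpenCover)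
    (ii : 𝒰.I₀ → Fin (1 + 1)) (jj : 𝒰.I₀ → Fin (k + 1))
    (hsurj : ∀ i j, ∃ t, ii t = i ∧ jj t = j)
    (e₁ : ∀ t, 𝒰.X t ⟶ Spec (CommRingCat.of (Aw 1 R (ii t))))
    (e₂ : ∀ t, 𝒰.X t ⟶ Spec (CommRingCat.of (Aw k R (jj t))))
    (H1 : ∀ t, 𝒰.f t ≫ p₁ = e₁ t ≫
      Proj.awayι (CohB1.polyGrading 1 R) (X (ii t)) (X_mem 1 R (ii t)) one_pos)
    (H1' : ∀ t, 𝒰.f t ≫ p₂ = e₂ t ≫
      Proj.awayι (CohB1.polyGrading k R) (X (jj t)) (X_mem k R (jj t)) one_pos)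
    (H2 : ∀ t, IsPullback (e₁ t) (e₂ t) (Spec.map (CommRingCat.ofHom (strA 1 R (ii t))))
      (Spec.map (CommRingCat.ofHom (strA k R (jj t)))))
    (H3 : ∀ t (p : Z),
      p₁ p ∈ Proj.basicOpen (CohB1.polyGrading 1 R) (X (ii t) : MvPolynomial (Fin (1 + 1)) R) →
      p₂ p ∈ Proj.basicOpen (CohB1.polyGrading k R) (X (jj t) : MvPolynomial (Fin (k + 1)) R) →
      p ∈ Set.range (𝒰.f t))
    (H4 : ∀ t, 𝒰.f t ≫ pZ = e₁ t ≫ Spec.map (CommRingCat.ofHom (strA 1 R (ii t))))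
    (H5 : ∀ t, IsAffine (𝒰.X t))
    (s : ∀ t, MvPolynomial (Fin (k + 1 + 1)) R →+* Γ(𝒰.X t, ⊤))
    (hs : ∀ t, s t = mulS k R (flat (𝒰.f t ≫ pZ)) (ii t) (jj t) (e₁ t) (e₂ t)) :
    ∃ μ : Z ⟶ Proj (CohB1.polyGrading (k + 1) R),
      IsAffineHom μ ∧
      μ ≫ Proj.toSpecZero (CohB1.polyGrading (k + 1) R) ≫
        Spec.map (CommRingCat.ofHom (algebraMap R (CohB1.polyGrading (k + 1) R 0))) = pZ ∧
      ∀ (t : 𝒰.I₀) (l : Fin (k + 1 + 1))
        (hu : IsUnit ((((𝒰.X t).basicOpen (s t (X l))).ι.appTop.hom.comp (s t)) (X l))),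
        ((𝒰.X t).basicOpen (s t (X l))).ι ≫ 𝒰.f t ≫ μ =
          chart (CohB1.polyGrading (k + 1) R) _ (X l) (X_mem (k + 1) R l) one_pos
            (evalAway (CohB1.polyGrading (k + 1) R)
              (((𝒰.X t).basicOpen (s t (X l))).ι.appTop.hom.comp (s t)) (X l) hu) := by
  have hspan : ∀ t, Ideal.span (Set.range fun l : Fin (k + 1 + 1) => s t (X l)) = ⊤ := by
    intro t
    rw [hs t]
    exact mulS_span k R _ _ _ _ _
  have hcompat : ∀ t t', ∃ u : Γ(pullback (𝒰.f t) (𝒰.f t'), ⊤), IsUnit u ∧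
      ∀ (d : ℕ) (a : MvPolynomial (Fin (k + 1 + 1)) R), a ∈ CohB1.polyGrading (k + 1) R d →
        ((pullback.snd (𝒰.f t) (𝒰.f t')).appTop.hom.comp (s t')) a =
          u ^ d * ((pullback.fst (𝒰.f t) (𝒰.f t')).appTop.hom.comp (s t)) a := by
    intro t t'
    rw [hs t, hs t', comp_mulS, comp_mulS]
    have hρ' : (pullback.snd (𝒰.f t) (𝒰.f t')).appTop.hom.comp (flat (𝒰.f t' ≫ pZ)) =
        (pullback.fst (𝒰.f t) (𝒰.f t')).appTop.hom.comp (flat (𝒰.f t ≫ pZ)) := by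
      rw [← flat_comp, ← flat_comp, ← Category.assoc, ← Category.assoc, pullback.condition]
    rw [hρ']
    have hA : (pullback.fst (𝒰.f t) (𝒰.f t') ≫ e₁ t) ≫
        Proj.awayι (CohB1.polyGrading 1 R) (X (ii t)) (X_mem 1 R (ii t)) one_pos =
        (pullback.snd (𝒰.f t) (𝒰.f t') ≫ e₁ t') ≫
        Proj.awayι (CohB1.polyGrading 1 R) (X (ii t')) (X_mem 1 R (ii t')) one_pos := by
      rw [Category.assoc, ← H1 t, Category.assoc, ← H1 t', ← Category.assoc, ← Category.assoc,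
        pullback.condition]
    have hB : (pullback.fst (𝒰.f t) (𝒰.f t') ≫ e₂ t) ≫
        Proj.awayι (CohB1.polyGrading k R) (X (jj t)) (X_mem k R (jj t)) one_pos =
        (pullback.snd (𝒰.f t) (𝒰.f t') ≫ e₂ t') ≫
        Proj.awayι (CohB1.polyGrading k R) (X (jj t')) (X_mem k R (jj t')) one_pos := by
      rw [Category.assoc, ← H1' t, Category.assoc, ← H1' t', ← Category.assoc, ← Category.assoc,
        pullback.condition]
    exact mulS_scale k R _ (ii t) (jj t) (pullback.fst (𝒰.f t) (𝒰.f t') ≫ e₁ t)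
      (pullback.fst (𝒰.f t) (𝒰.f t') ≫ e₂ t) (ii t') (jj t')
      (pullback.snd (𝒰.f t) (𝒰.f t') ≫ e₁ t') (pullback.snd (𝒰.f t) (𝒰.f t') ≫ e₂ t') hA hB
  have hp : ∀ t r, s t ((algebraMap R (CohB1.polyGrading (k + 1) R 0) r :
      CohB1.polyGrading (k + 1) R 0) : MvPolynomial (Fin (k + 1 + 1)) R) =
      flat (𝒰.f t ≫ pZ) r := by
    intro t r
    rw [hs t]
    exact mulS_C k R _ _ _ _ _ r
  obtain ⟨μ, hμ1, hμ2⟩ := glue_span (CohB1.polyGrading (k + 1) R) 𝒰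
    (fun l : Fin (k + 1 + 1) => (X l : MvPolynomial (Fin (k + 1 + 1)) R))
    (fun l => X_mem (k + 1) R l) s hspan hcompat
    (algebraMap R (CohB1.polyGrading (k + 1) R 0)) pZ hp
  obtain ⟨σ, hσ1, -, hσ3⟩ := segre_abstract2 1 k R p₁ p₂ pZ 𝒰 ii jj hsurj e₁ e₂ H1 H1' H2 H3
    H4 H5 (fun t => segS 1 k R (flat (𝒰.f t ≫ pZ)) (ii t) (jj t) (e₁ t) (e₂ t)) (fun t => rfl)
  refine ⟨μ, ?_, hμ1, hμ2⟩
  have hmem := glue_span_mem (CohB1.polyGrading (k + 1) R) 𝒰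
    (fun l : Fin (k + 1 + 1) => (X l : MvPolynomial (Fin (k + 1 + 1)) R))
    (fun l => X_mem (k + 1) R l) s hspan μ hμ2
  have hpre : ∀ l : Fin (k + 1 + 1),
      μ ⁻¹ᵁ (Proj.basicOpen (CohB1.polyGrading (k + 1) R)
        (X l : MvPolynomial (Fin (k + 1 + 1)) R)) =
      σ ⁻¹ᵁ (Proj.basicOpen (CohB1.polyGrading (1 * k + 1 + k) R) (ell k R l)) := by
    intro l
    ext p
    obtain ⟨t, w, rfl⟩ := 𝒰.exists_eq p
    have hone : segS 1 k R (flat (𝒰.f t ≫ pZ)) (ii t) (jj t) (e₁ t) (e₂ t)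
        (X (idx 1 k (ii t, jj t))) = 1 := segS_self 1 k R _ _ _ _ _
    have hu : IsUnit (segS 1 k R (flat (𝒰.f t ≫ pZ)) (ii t) (jj t) (e₁ t) (e₂ t)
        (X (idx 1 k (ii t, jj t)))) := by
      rw [hone]; exact isUnit_one
    have h1 : σ (𝒰.f t w) = chart (CohB1.polyGrading (1 * k + 1 + k) R) (𝒰.X t)
        (X (idx 1 k (ii t, jj t))) (X_mem (1 * k + 1 + k) R _) one_pos
        (evalAway (CohB1.polyGrading (1 * k + 1 + k) R)
          (segS 1 k R (flat (𝒰.f t ≫ pZ)) (ii t) (jj t) (e₁ t) (e₂ t))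
          (X (idx 1 k (ii t, jj t))) hu) w := by
      rw [← hσ3 t hu]; rfl
    have h2 := chart_mem_basicOpen (CohB1.polyGrading (1 * k + 1 + k) R)
      (segS 1 k R (flat (𝒰.f t ≫ pZ)) (ii t) (jj t) (e₁ t) (e₂ t))
      (X_mem (1 * k + 1 + k) R (idx 1 k (ii t, jj t))) (ell_mem k R l) hu w
    have h3 : s t (X l) =
        segS 1 k R (flat (𝒰.f t ≫ pZ)) (ii t) (jj t) (e₁ t) (e₂ t) (ell k R l) := by
      rw [hs t, mulS_apply, lam_X]
    show μ (𝒰.f t w) ∈ Proj.basicOpen (CohB1.polyGrading (k + 1) R)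
        (X l : MvPolynomial (Fin (k + 1 + 1)) R) ↔
      σ (𝒰.f t w) ∈ Proj.basicOpen (CohB1.polyGrading (1 * k + 1 + k) R) (ell k R l)
    rw [hmem t w l, h1, h2, h3]
  apply isAffineHom_of_forall_exists_isAffineOpen
  intro y
  have hcovY := Proj.iSup_basicOpen_eq_top (CohB1.polyGrading (k + 1) R)
    (fun l : Fin (k + 1 + 1) => (X l : MvPolynomial (Fin (k + 1 + 1)) R))
    (irrelevant_le_span (k + 1) R)
  have hy : y ∈ ⨆ l : Fin (k + 1 + 1), Proj.basicOpen (CohB1.polyGrading (k + 1) R)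
      (X l : MvPolynomial (Fin (k + 1 + 1)) R) := by
    rw [hcovY]; trivial
  obtain ⟨l, hl⟩ := TopologicalSpace.Opens.mem_iSup.mp hy
  refine ⟨Proj.basicOpen (CohB1.polyGrading (k + 1) R) (X l : MvPolynomial (Fin (k + 1 + 1)) R),
    hl, Proj.isAffineOpen_basicOpen _ (X l) (X_mem (k + 1) R l) one_pos, ?_⟩
  rw [hpre l]
  haveI := hσ1
  exact (Proj.isAffineOpen_basicOpen _ (ell k R l) (ell_mem k R l) one_pos).preimage σ

end Groth.Agent.Helper17.MU
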