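import Mathlib
import Groth.Agent.Lib.Helper17.MU6

set_option autoImplicit false
universe u
open CategoryTheory AlgebraicGeometry Limits HomogeneousLocalization MvPolynomial

namespace Groth.Agent.Helper17.MU

open Groth.Agent.Helper17.SG

variable (k : ℕ) (R : Type u) [CommRing R]

/-- `∏_{i ≥ 1} (T + r_i)` -/
noncomputable def Qpoly : Polynomial (MvPolynomial (Fin (k + 1)) R) :=
  ∏ i : Fin k, (Polynomial.X + Polynomial.C (X i.succ))

theorem Qpoly_monic : (Qpoly k R).Monic :=
  Polynomial.monic_prod_of_monic _ _ (fun _ _ => Polynomial.monic_X_add_C _)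

theorem Qpoly_natDegree [Nontrivial R] : (Qpoly k R).natDegree = k := by
  unfold Qpoly
  rw [Polynomial.natDegree_prod_of_monic _ _ (fun _ _ => Polynomial.monic_X_add_C _)]
  simp

theorem Qcoeff_top [Nontrivial R] : (Qpoly k R).coeff k = 1 := by
  have h := (Qpoly_monic k R).coeff_natDegree
  rwa [Qpoly_natDegree] at h

theorem Qcoeff_gt [Nontrivial R] (m : ℕ) (h : k < m) : (Qpoly k R).coeff m = 0 :=
  Polynomial.coeff_eq_zero_of_natDegree_lt (by rw [Qpoly_natDegree]; exact h)

theorem key_identity (l : ℕ) (hl : l ≤ k + 1) :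
    X 0 * (Qpoly k R).coeff l + (if 0 < l then (Qpoly k R).coeff (l - 1) else 0) =
      esymm (Fin (k + 1)) R (k + 1 - l) := by
  have h1 := MvPolynomial.prod_X_add_C_coeff (σ := Fin (k + 1)) (R := R) l
    (by rw [Fintype.card_fin]; exact hl)
  rw [Fintype.card_fin] at h1
  rw [← h1, Fin.prod_univ_succ]
  have h2 : (∏ i : Fin k, (Polynomial.X + Polynomial.C (X i.succ :
      MvPolynomial (Fin (k + 1)) R))) = Qpoly k R := rfl
  rw [h2, add_mul, Polynomial.coeff_add, Polynomial.coeff_C_mul]
  cases l with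
  | zero =>
    rw [Polynomial.coeff_X_mul_zero, if_neg (lt_irrefl 0), add_zero, zero_add]
  | succ l =>
    rw [Polynomial.coeff_X_mul, if_pos (Nat.succ_pos l), Nat.add_sub_cancel]
    exact add_comm _ _

theorem evalAway_injective_of_esymm
    (Ψ : MvPolynomial (Fin (k + 1 + 1)) R →+* MvPolynomial (Fin (k + 1)) R)
    (hC : ∀ r, Ψ (C r) = C r)
    (hX : ∀ l : Fin (k + 1 + 1), Ψ (X l) = esymm (Fin (k + 1)) R (k + 1 - l))
    (hu : IsUnit (Ψ (X (Fin.last (k + 1))))) :
    Function.Injective
      (evalAway (CohB1.polyGrading (k + 1) R) Ψ (X (Fin.last (k + 1))) hu) := by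
  rw [injective_iff_map_eq_zero]
  intro a ha
  obtain ⟨p, rfl⟩ := ev_surjective (k + 1) R (Fin.last (k + 1)) a
  have hlast : Ψ (X (Fin.last (k + 1))) = 1 := by
    rw [hX, Fin.val_last, Nat.sub_self, esymm_zero]
  have hcomp : (evalAway (CohB1.polyGrading (k + 1) R) Ψ (X (Fin.last (k + 1))) hu).comp
      (ev (k + 1) R (Fin.last (k + 1))) = Ψ := by
    apply MvPolynomial.ringHom_ext
    · intro r
      rw [RingHom.comp_apply, ev_C]
      unfold strA
      rw [RingHom.comp_apply, evalAway_fromZero]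
      rfl
    · intro l
      rw [RingHom.comp_apply, ev_X]
      have h1 := evalAway_mk (CohB1.polyGrading (k + 1) R) Ψ (X (Fin.last (k + 1))) hu
        (X_mem (k + 1) R _) 1 (X l) (X_mem' (k + 1) R l)
      rw [hlast, one_pow, mul_one] at h1
      exact h1
  have hΨp : Ψ p = 0 := by
    rw [← hcomp]; exact ha
  obtain ⟨D, hD⟩ : ∃ D : MvPolynomial (Fin (k + 1 + 1)) R →+* MvPolynomial (Fin (k + 1)) R,
      D = eval₂Hom (C : R →+* MvPolynomial (Fin (k + 1)) R)
        (fun l : Fin (k + 1 + 1) => if h : (l : ℕ) < k + 1 then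
          (X ⟨k - l, by omega⟩ : MvPolynomial (Fin (k + 1)) R) else 1) := ⟨_, rfl⟩
  have hDC : ∀ r, D (C r) = C r := by
    intro r; rw [hD, eval₂Hom_C]
  have hDX1 : ∀ (l : Fin (k + 1 + 1)) (h : (l : ℕ) < k + 1),
      D (X l) = X ⟨k - l, by omega⟩ := by
    intro l h; rw [hD, eval₂Hom_X', dif_pos h]
  have hDX2 : ∀ (l : Fin (k + 1 + 1)) (_ : ¬ (l : ℕ) < k + 1), D (X l) = 1 := by
    intro l h; rw [hD, eval₂Hom_X', dif_neg h]
  have hΨD : ∀ q, Ψ q =
      aeval (fun i : Fin (k + 1) => esymm (Fin (k + 1)) R (i + 1)) (D q) := by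
    have h1 : Ψ = (RingHomClass.toRingHom (aeval (fun i : Fin (k + 1) =>
        esymm (Fin (k + 1)) R (i + 1)) :
        MvPolynomial (Fin (k + 1)) R →ₐ[R] MvPolynomial (Fin (k + 1)) R)).comp D := by
      apply MvPolynomial.ringHom_ext
      · intro r
        rw [hC, RingHom.comp_apply, hDC]
        exact (aeval_C _ r).symm
      · intro l
        rw [hX, RingHom.comp_apply]
        by_cases h : (l : ℕ) < k + 1
        · rw [hDX1 l h]
          show _ = aeval (fun i : Fin (k + 1) => esymm (Fin (k + 1)) R (i + 1)) (X _)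
          rw [aeval_X]
          congr 1
          show k + 1 - (l : ℕ) = k - (l : ℕ) + 1
          omega
        · rw [hDX2 l h]
          have h2 : (l : ℕ) = k + 1 := by have := l.isLt; omega
          rw [h2, Nat.sub_self, esymm_zero]
          exact (map_one _).symm
    intro q
    rw [h1]
    rfl
  have hDp : D p = 0 := by
    have h1 : aeval (fun i : Fin (k + 1) => esymm (Fin (k + 1)) R (i + 1)) (D p) = 0 := by
      rw [← hΨD]; exact hΨp
    have h2 : esymmAlgHom (Fin (k + 1)) R (k + 1) (D p) = 0 := by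
      apply Subtype.ext
      rw [esymmAlgHom_apply]
      exact h1
    exact (injective_iff_map_eq_zero _).mp (esymmAlgHom_fin_injective R le_rfl) _ h2
  obtain ⟨incl, hincl⟩ : ∃ incl : MvPolynomial (Fin (k + 1)) R →+*
      MvPolynomial (Fin (k + 1 + 1)) R,
      incl = eval₂Hom (C : R →+* MvPolynomial (Fin (k + 1 + 1)) R)
        (fun i : Fin (k + 1) => (X ⟨k - i, by omega⟩ : MvPolynomial (Fin (k + 1 + 1)) R)) :=
    ⟨_, rfl⟩
  have hev : ev (k + 1) R (Fin.last (k + 1)) =
      ((ev (k + 1) R (Fin.last (k + 1))).comp incl).comp D := by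
    apply MvPolynomial.ringHom_ext
    · intro r
      rw [RingHom.comp_apply, RingHom.comp_apply, hDC, hincl, eval₂Hom_C]
    · intro l
      rw [RingHom.comp_apply, RingHom.comp_apply]
      by_cases h : (l : ℕ) < k + 1
      · rw [hDX1 l h, hincl, eval₂Hom_X']
        congr 2
        apply Fin.ext
        show (l : ℕ) = k - (k - (l : ℕ))
        omega
      · rw [hDX2 l h, map_one, map_one]
        have h2 : l = Fin.last (k + 1) := by
          apply Fin.ext
          rw [Fin.val_last]
          have := l.isLt; omega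
        rw [h2, ev_X, fr_self]
  rw [hev, RingHom.comp_apply, hDp, map_zero]

end Groth.Agent.Helper17.MU
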