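import Mathlib
import Groth.Agent.Lib.Helper17.MU7

set_option autoImplicit false
universe u
open CategoryTheory AlgebraicGeometry Limits HomogeneousLocalization MvPolynomial

namespace Groth.Agent.Helper17.MU

open Groth.Agent.Helper17.SG
open Groth.Agent.Helper17.JT (iot iot_surj toSpec_ext comp_appTop_apply)

theorem iot_injective (E : Type u) [CommRing E] : Function.Injective (iot E) :=
  Function.LeftInverse.injective (g := (Scheme.ΓSpecIso (CommRingCat.of E)).hom.hom)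
    (fun a => Iso.inv_hom_id_apply (C := CommRingCat) _ a)

theorem ι_appTop_injective_of_eq_top {X : Scheme.{u}} (U : X.Opens) (hU : U = ⊤) :
    Function.Injective U.ι.appTop.hom := by
  subst hU
  intro a b hab
  have h1 := congrArg X.topIso.inv.appTop.hom hab
  rw [← comp_appTop_apply, ← comp_appTop_apply, Scheme.toIso_inv_ι] at h1
  simpa using h1

theorem evalAway_congr {C σC : Type*} [CommRing C] [SetLike σC C] [AddSubgroupClass σC C]
    (𝒞 : ℕ → σC) [GradedRing 𝒞] {G : Type*} [CommRing G] (f g : C →+* G) (hfg : f = g) (h : C)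
    (hf : IsUnit (f h)) (hg : IsUnit (g h)) : evalAway 𝒞 f h hf = evalAway 𝒞 g h hg := by
  subst hfg
  rfl

variable (k : ℕ) (R : Type u) [CommRing R]

theorem fr_eq_one (n : ℕ) (i c : Fin (n + 1)) (h : i = c) : fr n R i c = 1 := by
  subst h
  exact fr_self n R i

theorem aN_self {V : Scheme.{u}} (j : Fin (k + 1)) (e₂ : V ⟶ Spec (CommRingCat.of (Aw k R j)))
    (m : ℕ) (hm : (j : ℕ) = m) : aN k R j e₂ m = 1 := by
  subst hm
  unfold aN
  rw [dif_pos (Nat.le_of_lt_succ j.isLt), Fin.eta, fr_self, map_one]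

theorem mulS_injective [Nontrivial R] {V : Scheme.{u}} (ρ : R →+* Γ(V, ⊤)) (i : Fin (1 + 1))
    (j : Fin (k + 1))
    (e₁ : V ⟶ Spec (CommRingCat.of (Aw 1 R i))) (e₂ : V ⟶ Spec (CommRingCat.of (Aw k R j)))
    (H2 : IsPullback e₁ e₂ (Spec.map (CommRingCat.ofHom (strA 1 R i)))
      (Spec.map (CommRingCat.ofHom (strA k R j))))
    (hρ₁ : ∀ r, ρ r = flat e₁ (strA 1 R i r))
    (hi : i = 1) (hj : j = Fin.last k)
    (hu : IsUnit (mulS k R ρ i j e₁ e₂ (X (Fin.last (k + 1))))) :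
    Function.Injective (evalAway (CohB1.polyGrading (k + 1) R) (mulS k R ρ i j e₁ e₂)
      (X (Fin.last (k + 1))) hu) := by
  subst hi hj
  obtain ⟨s₁, hs₁⟩ : ∃ s₁ : MvPolynomial (Fin (1 + 1)) R →+* MvPolynomial (Fin (k + 1)) R,
      s₁ = eval₂Hom C (fun c : Fin (1 + 1) =>
        if c = 0 then (X 0 : MvPolynomial (Fin (k + 1)) R) else 1) := ⟨_, rfl⟩
  have hs₁C : ∀ r, s₁ (C r) = C r := by
    intro r; rw [hs₁, eval₂Hom_C]
  have hs₁0 : s₁ (X 0) = X 0 := by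
    rw [hs₁, eval₂Hom_X', if_pos rfl]
  have hs₁1 : s₁ (X 1) = 1 := by
    rw [hs₁, eval₂Hom_X', if_neg (by decide)]
  have hu₁ : IsUnit (s₁ (X 1)) := by
    rw [hs₁1]; exact isUnit_one
  obtain ⟨α₁, hα₁⟩ : ∃ α₁ : Aw 1 R 1 →+* MvPolynomial (Fin (k + 1)) R,
      α₁ = evalAway (CohB1.polyGrading 1 R) s₁ (X 1) hu₁ := ⟨_, rfl⟩
  have hα₁fr : ∀ c, α₁ (fr 1 R 1 c) = s₁ (X c) := by
    intro c
    have h1 := evalAway_mk (CohB1.polyGrading 1 R) s₁ (X 1) hu₁ (X_mem 1 R 1) 1 (X c)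
      (X_mem' 1 R c)
    rw [hs₁1, one_pow, mul_one] at h1
    rw [hα₁]; exact h1
  have hα₁str : ∀ r, α₁ (strA 1 R 1 r) = C r := by
    intro r
    rw [hα₁]; unfold strA
    rw [RingHom.comp_apply, evalAway_fromZero]
    exact hs₁C r
  obtain ⟨s₂, hs₂⟩ : ∃ s₂ : MvPolynomial (Fin (k + 1)) R →+* MvPolynomial (Fin (k + 1)) R,
      s₂ = eval₂Hom C (fun m : Fin (k + 1) => (Qpoly k R).coeff m) := ⟨_, rfl⟩
  have hs₂C : ∀ r, s₂ (C r) = C r := by
    intro r; rw [hs₂, eval₂Hom_C]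
  have hs₂X : ∀ m : Fin (k + 1), s₂ (X m) = (Qpoly k R).coeff m := by
    intro m; rw [hs₂, eval₂Hom_X']
  have hs₂last : s₂ (X (Fin.last k)) = 1 := by
    rw [hs₂X, Fin.val_last, Qcoeff_top]
  have hu₂ : IsUnit (s₂ (X (Fin.last k))) := by
    rw [hs₂last]; exact isUnit_one
  obtain ⟨α₂, hα₂⟩ : ∃ α₂ : Aw k R (Fin.last k) →+* MvPolynomial (Fin (k + 1)) R,
      α₂ = evalAway (CohB1.polyGrading k R) s₂ (X (Fin.last k)) hu₂ := ⟨_, rfl⟩
  have hα₂fr : ∀ m : Fin (k + 1), α₂ (fr k R (Fin.last k) m) = (Qpoly k R).coeff m := by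
    intro m
    have h1 := evalAway_mk (CohB1.polyGrading k R) s₂ (X (Fin.last k)) hu₂
      (X_mem k R (Fin.last k)) 1 (X m) (X_mem' k R m)
    rw [hs₂last, one_pow, mul_one, hs₂X] at h1
    rw [hα₂]; exact h1
  have hα₂str : ∀ r, α₂ (strA k R (Fin.last k) r) = C r := by
    intro r
    rw [hα₂]; unfold strA
    rw [RingHom.comp_apply, evalAway_fromZero]
    exact hs₂C r
  have hcomm : Spec.map (CommRingCat.ofHom α₁) ≫ Spec.map (CommRingCat.ofHom (strA 1 R 1)) =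
      Spec.map (CommRingCat.ofHom α₂) ≫
        Spec.map (CommRingCat.ofHom (strA k R (Fin.last k))) := by
    rw [← Spec.map_comp, ← Spec.map_comp]
    congr 1
    apply CommRingCat.hom_ext
    apply RingHom.ext
    intro r
    show α₁ (strA 1 R 1 r) = α₂ (strA k R (Fin.last k) r)
    rw [hα₁str, hα₂str]
  obtain ⟨τ, hτ1, hτ2⟩ : ∃ τ : Spec (CommRingCat.of (MvPolynomial (Fin (k + 1)) R)) ⟶ V,
      τ ≫ e₁ = Spec.map (CommRingCat.ofHom α₁) ∧ τ ≫ e₂ = Spec.map (CommRingCat.ofHom α₂) :=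
    ⟨H2.lift _ _ hcomm, H2.lift_fst _ _ _, H2.lift_snd _ _ _⟩
  obtain ⟨Ψ, hΨ⟩ : ∃ Ψ : MvPolynomial (Fin (k + 1 + 1)) R →+* MvPolynomial (Fin (k + 1)) R,
      Ψ = eval₂Hom C (fun l : Fin (k + 1 + 1) => X 0 * (Qpoly k R).coeff l +
        (if 0 < (l : ℕ) then (Qpoly k R).coeff ((l : ℕ) - 1) else 0)) := ⟨_, rfl⟩
  have hΨC : ∀ r, Ψ (C r) = C r := by
    intro r; rw [hΨ, eval₂Hom_C]
  have hΨX' : ∀ l : Fin (k + 1 + 1), Ψ (X l) = X 0 * (Qpoly k R).coeff l +
      (if 0 < (l : ℕ) then (Qpoly k R).coeff ((l : ℕ) - 1) else 0) := by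
    intro l; rw [hΨ, eval₂Hom_X']
  have hΨX : ∀ l : Fin (k + 1 + 1), Ψ (X l) = esymm (Fin (k + 1)) R (k + 1 - l) := by
    intro l
    rw [hΨX']
    exact key_identity k R l (Nat.le_of_lt_succ l.isLt)
  have hA0 : flat (Spec.map (CommRingCat.ofHom α₁)) (fr 1 R 1 0) =
      iot (MvPolynomial (Fin (k + 1)) R) (X 0) := by
    rw [flat_SpecMap, RingHom.comp_apply, hα₁fr, hs₁0]
  have hA1 : flat (Spec.map (CommRingCat.ofHom α₁)) (fr 1 R 1 1) = 1 := by
    rw [fr_self, map_one]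
  have haN : ∀ m, aN k R (Fin.last k) (Spec.map (CommRingCat.ofHom α₂)) m =
      iot (MvPolynomial (Fin (k + 1)) R) ((Qpoly k R).coeff m) := by
    intro m
    unfold aN
    by_cases h : m ≤ k
    · rw [dif_pos h, flat_SpecMap, RingHom.comp_apply, hα₂fr]
    · rw [dif_neg h, Qcoeff_gt k R m (by omega), map_zero]
  have hmain : τ.appTop.hom.comp (mulS k R ρ 1 (Fin.last k) e₁ e₂) =
      (iot (MvPolynomial (Fin (k + 1)) R)).comp Ψ := by
    rw [comp_mulS, hτ1, hτ2]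
    apply MvPolynomial.ringHom_ext
    · intro r
      rw [mulS_C, RingHom.comp_apply, RingHom.comp_apply, hΨC, hρ₁]
      have h1 : τ.appTop.hom (flat e₁ (strA 1 R 1 r)) = flat (τ ≫ e₁) (strA 1 R 1 r) := by
        rw [flat_comp]; rfl
      rw [h1, hτ1, flat_SpecMap, RingHom.comp_apply, hα₁str]
    · intro l
      rw [mulS_X_eq, RingHom.comp_apply, hΨX', hA0, hA1, haN, haN, one_mul, map_add, map_mul]
      congr 1
      · by_cases h : (l : ℕ) ≤ k
        · rw [if_pos h]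
        · rw [if_neg h, Qcoeff_gt k R l (by omega), map_zero, mul_zero]
      · by_cases h : 0 < (l : ℕ)
        · rw [if_pos h, if_pos h]
        · rw [if_neg h, if_neg h, map_zero]
  rw [injective_iff_map_eq_zero]
  intro a ha
  have hu' : IsUnit ((τ.appTop.hom.comp (mulS k R ρ 1 (Fin.last k) e₁ e₂))
      (X (Fin.last (k + 1)))) := hu.map τ.appTop.hom
  have h1 := comp_evalAway (CohB1.polyGrading (k + 1) R) τ.appTop.hom
    (mulS k R ρ 1 (Fin.last k) e₁ e₂) (X (Fin.last (k + 1))) hu (X_mem (k + 1) R _) hu'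
  have hu'' : IsUnit (((iot (MvPolynomial (Fin (k + 1)) R)).comp Ψ)
      (X (Fin.last (k + 1)))) := by
    rw [← hmain]; exact hu'
  have huΨ : IsUnit (Ψ (X (Fin.last (k + 1)))) := by
    rw [hΨX, Fin.val_last, Nat.sub_self, esymm_zero]; exact isUnit_one
  have h2 := comp_evalAway (CohB1.polyGrading (k + 1) R) (iot (MvPolynomial (Fin (k + 1)) R)) Ψ
    (X (Fin.last (k + 1))) huΨ (X_mem (k + 1) R _) hu''
  have h3 := evalAway_congr (CohB1.polyGrading (k + 1) R) _ _ hmain (X (Fin.last (k + 1)))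
    hu' hu''
  have h4 : iot (MvPolynomial (Fin (k + 1)) R)
      (evalAway (CohB1.polyGrading (k + 1) R) Ψ (X (Fin.last (k + 1))) huΨ a) = 0 := by
    have h5 := congrArg (fun f => f a) (h2.trans (h3.symm.trans h1.symm))
    simp only [RingHom.comp_apply] at h5
    rw [h5, ha, map_zero]
  have h5 : evalAway (CohB1.polyGrading (k + 1) R) Ψ (X (Fin.last (k + 1))) huΨ a = 0 :=
    iot_injective _ (h4.trans (map_zero _).symm)
  exact (injective_iff_map_eq_zero _).mp (evalAway_injective_of_esymm k R Ψ hΨC hΨX huΨ) a h5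

end Groth.Agent.Helper17.MU
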