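import Mathlib
import Groth.Agent.Lib.Helper17.MU8

set_option autoImplicit false
universe u
open CategoryTheory AlgebraicGeometry Limits HomogeneousLocalization MvPolynomial

namespace Groth.Agent.Helper17.MU

open Groth.Agent.Helper17.SG
open Groth.Agent.Helper17.JT (iot iot_surj toSpec_ext comp_appTop_apply)

section Dense

variable {A : Type u} {σA : Type*} [CommRing A] [IsDomain A] [SetLike σA A]
  [AddSubgroupClass σA A] (𝒜 : ℕ → σA) [GradedRing 𝒜]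

theorem basicOpen_nonempty {h : A} {e : ℕ} (hh : h ∈ 𝒜 e) (he : 0 < e) (h0 : h ≠ 0) :
    ∃ y : Proj 𝒜, y ∈ Proj.basicOpen 𝒜 h := by
  haveI : Nontrivial (Away 𝒜 h) := by
    refine ⟨⟨0, 1, ?_⟩⟩
    intro h01
    have h1 := congrArg HomogeneousLocalization.val h01
    rw [HomogeneousLocalization.val_zero, HomogeneousLocalization.val_one] at h1
    have hinj : Function.Injective (algebraMap A (Localization.Away h)) :=
      IsLocalization.injective (Localization.Away h)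
        (powers_le_nonZeroDivisors_of_noZeroDivisors h0)
    have h2 : (0 : A) = 1 := hinj (by rw [map_zero, map_one]; exact h1)
    exact zero_ne_one h2
  obtain ⟨x⟩ : Nonempty (PrimeSpectrum (Away 𝒜 h)) := inferInstance
  refine ⟨(Proj.awayι 𝒜 h hh he) x, ?_⟩
  have h3 : (Proj.awayι 𝒜 h hh he) x ∈ (Proj.awayι 𝒜 h hh he).opensRange := ⟨x, rfl⟩
  rw [Proj.opensRange_awayι] at h3
  exact h3

theorem dense_basicOpen {f : A} {d : ℕ} (hf : f ∈ 𝒜 d) (hd : 0 < d) (f0 : f ≠ 0) :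
    Dense ((Proj.basicOpen 𝒜 f : (Proj 𝒜).Opens) : Set (Proj 𝒜)) := by
  rw [dense_iff_inter_open]
  rintro U hU ⟨y, hy⟩
  obtain ⟨_, ⟨g, rfl⟩, hyg, hgU⟩ :=
    TopologicalSpace.Opens.isBasis_iff_nbhd.mp (Proj.isBasis_basicOpen 𝒜)
      (U := ⟨U, hU⟩) (x := y) hy
  rw [Proj.basicOpen_eq_iSup_proj] at hyg
  obtain ⟨i, hi⟩ := TopologicalSpace.Opens.mem_iSup.mp hyg
  have hgi : GradedRing.proj 𝒜 i g ∈ 𝒜 i := by
    rw [GradedRing.proj_apply]; exact SetLike.coe_mem _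
  have hgi0 : GradedRing.proj 𝒜 i g ≠ 0 := by
    intro h0
    rw [h0, Proj.basicOpen_zero] at hi
    exact hi
  have hle : Proj.basicOpen 𝒜 (GradedRing.proj 𝒜 i g) ≤ Proj.basicOpen 𝒜 g := by
    rw [Proj.basicOpen_eq_iSup_proj 𝒜 g]
    exact le_iSup (fun i => Proj.basicOpen 𝒜 (GradedRing.proj 𝒜 i g)) i
  obtain ⟨z, hz⟩ := basicOpen_nonempty 𝒜 (SetLike.mul_mem_graded hgi hf) (by omega)
    (mul_ne_zero hgi0 f0)
  rw [Proj.basicOpen_mul] at hz
  exact ⟨z, hgU (hle hz.1), hz.2⟩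

end Dense

variable (k : ℕ) (R : Type u) [CommRing R]

theorem mult_surj [IsDomain R] {Z : Scheme.{u}}
    (pZ : Z ⟶ Spec (CommRingCat.of R)) (𝒰 : Z.OpenCover)
    (ii : 𝒰.I₀ → Fin (1 + 1)) (jj : 𝒰.I₀ → Fin (k + 1))
    (e₁ : ∀ t, 𝒰.X t ⟶ Spec (CommRingCat.of (Aw 1 R (ii t))))
    (e₂ : ∀ t, 𝒰.X t ⟶ Spec (CommRingCat.of (Aw k R (jj t))))
    (H2 : ∀ t, IsPullback (e₁ t) (e₂ t) (Spec.map (CommRingCat.ofHom (strA 1 R (ii t))))
      (Spec.map (CommRingCat.ofHom (strA k R (jj t)))))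
    (H4 : ∀ t, 𝒰.f t ≫ pZ = e₁ t ≫ Spec.map (CommRingCat.ofHom (strA 1 R (ii t))))
    (H5 : ∀ t, IsAffine (𝒰.X t))
    (s : ∀ t, MvPolynomial (Fin (k + 1 + 1)) R →+* Γ(𝒰.X t, ⊤))
    (hs : ∀ t, s t = mulS k R (flat (𝒰.f t ≫ pZ)) (ii t) (jj t) (e₁ t) (e₂ t))
    (μ : Z ⟶ Proj (CohB1.polyGrading (k + 1) R))
    (hμ : ∀ (t : 𝒰.I₀) (l : Fin (k + 1 + 1))
        (hu : IsUnit ((((𝒰.X t).basicOpen (s t (X l))).ι.appTop.hom.comp (s t)) (X l))),
        ((𝒰.X t).basicOpen (s t (X l))).ι ≫ 𝒰.f t ≫ μ =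
          chart (CohB1.polyGrading (k + 1) R) _ (X l) (X_mem (k + 1) R l) one_pos
            (evalAway (CohB1.polyGrading (k + 1) R)
              (((𝒰.X t).basicOpen (s t (X l))).ι.appTop.hom.comp (s t)) (X l) hu))
    (hcl : IsClosedMap μ)
    (t₀ : 𝒰.I₀) (hi : ii t₀ = 1) (hj : jj t₀ = Fin.last k) : Surjective μ := by
  have hone : s t₀ (X (Fin.last (k + 1))) = 1 := by
    rw [hs t₀, mulS_X_eq, Fin.val_last, if_neg (show ¬ k + 1 ≤ k by omega),
      if_pos (Nat.succ_pos k), zero_add, fr_eq_one R 1 (ii t₀) 1 hi, map_one, one_mul]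
    exact aN_self k R (jj t₀) (e₂ t₀) _ (by rw [hj, Fin.val_last]; omega)
  have hu₀ : IsUnit (s t₀ (X (Fin.last (k + 1)))) := by
    rw [hone]; exact isUnit_one
  have key : ∀ (f : MvPolynomial (Fin (k + 1 + 1)) R →+* Γ(𝒰.X t₀, ⊤))
      (_ : f = mulS k R (flat (𝒰.f t₀ ≫ pZ)) (ii t₀) (jj t₀) (e₁ t₀) (e₂ t₀))
      (huf : IsUnit (f (X (Fin.last (k + 1))))),
      Function.Injective (evalAway (CohB1.polyGrading (k + 1) R) f
        (X (Fin.last (k + 1))) huf) := by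
    intro f hf huf
    subst hf
    refine mulS_injective k R _ (ii t₀) (jj t₀) (e₁ t₀) (e₂ t₀) (H2 t₀) ?_ hi hj huf
    intro r
    rw [H4 t₀, flat_comp_SpecMap]
    rfl
  have hϑ := key (s t₀) (hs t₀) hu₀
  have hU₀ : (𝒰.X t₀).basicOpen (s t₀ (X (Fin.last (k + 1)))) = ⊤ :=
    Scheme.basicOpen_of_isUnit _ hu₀
  have hinjι := ι_appTop_injective_of_eq_top _ hU₀
  have hu : IsUnit ((((𝒰.X t₀).basicOpen (s t₀ (X (Fin.last (k + 1))))).ι.appTop.hom.comp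
      (s t₀)) (X (Fin.last (k + 1)))) := isUnit_ι_appTop (s t₀ (X (Fin.last (k + 1))))
  have hchart := hμ t₀ (Fin.last (k + 1)) hu
  have hθ₀ : Function.Injective (evalAway (CohB1.polyGrading (k + 1) R)
      (((𝒰.X t₀).basicOpen (s t₀ (X (Fin.last (k + 1))))).ι.appTop.hom.comp (s t₀))
      (X (Fin.last (k + 1))) hu) := by
    rw [← comp_evalAway (CohB1.polyGrading (k + 1) R) _ (s t₀) (X (Fin.last (k + 1))) hu₀
      (X_mem (k + 1) R _) hu]
    exact hinjι.comp hϑ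
  obtain ⟨θ₀, hθdef⟩ : ∃ θ₀, θ₀ = evalAway (CohB1.polyGrading (k + 1) R)
      (((𝒰.X t₀).basicOpen (s t₀ (X (Fin.last (k + 1))))).ι.appTop.hom.comp (s t₀))
      (X (Fin.last (k + 1))) hu := ⟨_, rfl⟩
  rw [← hθdef] at hθ₀ hchart
  have hT : IsClosed (Set.range μ) := hcl.isClosed_range
  haveI : IsAffine ((𝒰.X t₀).basicOpen (s t₀ (X (Fin.last (k + 1)))) : Scheme.{u}) := by
    haveI := H5 t₀
    exact (isAffineOpen_top (𝒰.X t₀)).basicOpen _
  -- Claim A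
  have hA : ∀ x : Spec (CommRingCat.of Γ(((𝒰.X t₀).basicOpen
      (s t₀ (X (Fin.last (k + 1)))) : Scheme.{u}), ⊤)),
      (Proj.awayι (CohB1.polyGrading (k + 1) R) (X (Fin.last (k + 1))) (X_mem (k + 1) R _)
        one_pos) (Spec.map (CommRingCat.ofHom θ₀) x) ∈ Set.range μ := by
    intro x
    obtain ⟨v, rfl⟩ := (inferInstance : Surjective
      ((𝒰.X t₀).basicOpen (s t₀ (X (Fin.last (k + 1)))) : Scheme.{u}).toSpecΓ).surj x
    refine ⟨(𝒰.f t₀) (((𝒰.X t₀).basicOpen (s t₀ (X (Fin.last (k + 1))))).ι v), ?_⟩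
    have h1 : μ ((𝒰.f t₀) (((𝒰.X t₀).basicOpen (s t₀ (X (Fin.last (k + 1))))).ι v)) =
        (((𝒰.X t₀).basicOpen (s t₀ (X (Fin.last (k + 1))))).ι ≫ 𝒰.f t₀ ≫ μ) v := rfl
    rw [h1, hchart]
    rfl
  -- Claim B
  have hdense : DenseRange (PrimeSpectrum.comap θ₀) := by
    rw [PrimeSpectrum.denseRange_comap_iff_ker_le_nilRadical,
      (RingHom.injective_iff_ker_eq_bot θ₀).mp hθ₀]
    exact bot_le
  have hB : ∀ q : Spec (CommRingCat.of (Away (CohB1.polyGrading (k + 1) R)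
      (X (Fin.last (k + 1)) : MvPolynomial (Fin (k + 1 + 1)) R))),
      (Proj.awayι (CohB1.polyGrading (k + 1) R) (X (Fin.last (k + 1))) (X_mem (k + 1) R _)
        one_pos) q ∈ Set.range μ := by
    have hcl2 : IsClosed ((Proj.awayι (CohB1.polyGrading (k + 1) R) (X (Fin.last (k + 1)))
        (X_mem (k + 1) R _) one_pos) ⁻¹' Set.range μ) :=
      hT.preimage (Proj.awayι (CohB1.polyGrading (k + 1) R) (X (Fin.last (k + 1)))
        (X_mem (k + 1) R _) one_pos).continuous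
    have hsub : Set.range (PrimeSpectrum.comap θ₀) ⊆
        (Proj.awayι (CohB1.polyGrading (k + 1) R) (X (Fin.last (k + 1)))
          (X_mem (k + 1) R _) one_pos) ⁻¹' Set.range μ := by
      rintro _ ⟨x, rfl⟩
      exact hA x
    have h2 := hcl2.closure_subset_iff.mpr hsub
    intro q
    exact h2 (hdense q)
  -- Claim C
  have hX0 : (X (Fin.last (k + 1)) : MvPolynomial (Fin (k + 1 + 1)) R) ≠ 0 := X_ne_zero _
  have hD := dense_basicOpen (CohB1.polyGrading (k + 1) R) (X_mem (k + 1) R (Fin.last (k + 1)))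
    one_pos hX0
  have hsub2 : ((Proj.basicOpen (CohB1.polyGrading (k + 1) R)
      (X (Fin.last (k + 1)) : MvPolynomial (Fin (k + 1 + 1)) R) :
      (Proj (CohB1.polyGrading (k + 1) R)).Opens) : Set (Proj (CohB1.polyGrading (k + 1) R))) ⊆
      Set.range μ := by
    intro y hy
    rw [← Proj.opensRange_awayι (CohB1.polyGrading (k + 1) R) (X (Fin.last (k + 1)))
      (X_mem (k + 1) R _) one_pos] at hy
    obtain ⟨q, rfl⟩ := hy
    exact hB q
  have h3 := hT.closure_subset_iff.mpr hsub2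
  exact ⟨fun y => h3 (hD y)⟩

end Groth.Agent.Helper17.MU
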