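import Mathlib
import Groth.Agent.Lib.Helper17.MU9
import Groth.Agent.Lib.Helper17.MU2
import Groth.Agent.Lib.Helper17.MU1
import Groth.Agent.Lib.Helper17.SG8
import Groth.Agent.Lib.Helper15.ProjSpaceProper

set_option autoImplicit false
universe u
open CategoryTheory AlgebraicGeometry Limits HomogeneousLocalization MvPolynomial

namespace Groth.Agent.Helper17.MU

open Groth.Agent.Helper17.SG

variable (k : ℕ) (R : Type u) [CommRing R]

theorem mult_ring [IsDomain R] :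
    ∃ μ : pullback (πP 1 R) (πP k R) ⟶ Proj (CohB1.polyGrading (k + 1) R),
      IsFinite μ ∧ Surjective μ ∧
        μ ≫ πP (k + 1) R = pullback.fst (πP 1 R) (πP k R) ≫ πP 1 R := by
  have hH1 : ∀ t : Fin (1 + 1) × Fin (k + 1),
      (Scheme.Pullback.openCoverOfLeftRight (coverP 1 R) (coverP k R) (πP 1 R) (πP k R)).f t ≫
        pullback.fst (πP 1 R) (πP k R) =
      pullback.fst ((coverP 1 R).f t.1 ≫ πP 1 R) ((coverP k R).f t.2 ≫ πP k R) ≫
        Proj.awayι (CohB1.polyGrading 1 R) (X t.1) (X_mem 1 R t.1) one_pos :=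
    fun t => pullback.lift_fst _ _ _
  have hH1' : ∀ t : Fin (1 + 1) × Fin (k + 1),
      (Scheme.Pullback.openCoverOfLeftRight (coverP 1 R) (coverP k R) (πP 1 R) (πP k R)).f t ≫
        pullback.snd (πP 1 R) (πP k R) =
      pullback.snd ((coverP 1 R).f t.1 ≫ πP 1 R) ((coverP k R).f t.2 ≫ πP k R) ≫
        Proj.awayι (CohB1.polyGrading k R) (X t.2) (X_mem k R t.2) one_pos :=
    fun t => pullback.lift_snd _ _ _
  have hH2 : ∀ t : Fin (1 + 1) × Fin (k + 1), IsPullback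
      (pullback.fst ((coverP 1 R).f t.1 ≫ πP 1 R) ((coverP k R).f t.2 ≫ πP k R))
      (pullback.snd ((coverP 1 R).f t.1 ≫ πP 1 R) ((coverP k R).f t.2 ≫ πP k R))
      (Spec.map (CommRingCat.ofHom (strA 1 R t.1)))
      (Spec.map (CommRingCat.ofHom (strA k R t.2))) := by
    intro t
    exact isPullback_congr (IsPullback.of_hasPullback _ _) (awayι_πP 1 R t.1) (awayι_πP k R t.2)
  have hH3 : ∀ (t : Fin (1 + 1) × Fin (k + 1)) (p : ↥(pullback (πP 1 R) (πP k R))),
      (pullback.fst (πP 1 R) (πP k R)) p ∈ Proj.basicOpen (CohB1.polyGrading 1 R)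
        (X t.1 : MvPolynomial (Fin (1 + 1)) R) →
      (pullback.snd (πP 1 R) (πP k R)) p ∈ Proj.basicOpen (CohB1.polyGrading k R)
        (X t.2 : MvPolynomial (Fin (k + 1)) R) →
      p ∈ Set.range ((Scheme.Pullback.openCoverOfLeftRight (coverP 1 R) (coverP k R)
        (πP 1 R) (πP k R)).f t) := by
    intro t p hp₁ hp₂
    have hr := Scheme.Pullback.range_map ((coverP 1 R).f t.1 ≫ πP 1 R)
      ((coverP k R).f t.2 ≫ πP k R) (πP 1 R) (πP k R) ((coverP 1 R).f t.1) ((coverP k R).f t.2)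
      (𝟙 _) (Category.comp_id _) (Category.comp_id _)
    show p ∈ Set.range (pullback.map ((coverP 1 R).f t.1 ≫ πP 1 R)
      ((coverP k R).f t.2 ≫ πP k R) (πP 1 R) (πP k R) ((coverP 1 R).f t.1) ((coverP k R).f t.2)
      (𝟙 _) (Category.comp_id _) (Category.comp_id _))
    rw [hr]
    refine ⟨?_, ?_⟩
    · have h2 : (pullback.fst (πP 1 R) (πP k R)) p ∈
          (Proj.awayι (CohB1.polyGrading 1 R) (X t.1) (X_mem 1 R t.1) one_pos).opensRange := by
        rw [Proj.opensRange_awayι]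
        exact hp₁
      exact h2
    · have h2 : (pullback.snd (πP 1 R) (πP k R)) p ∈
          (Proj.awayι (CohB1.polyGrading k R) (X t.2) (X_mem k R t.2) one_pos).opensRange := by
        rw [Proj.opensRange_awayι]
        exact hp₂
      exact h2
  have hH4 : ∀ t : Fin (1 + 1) × Fin (k + 1),
      (Scheme.Pullback.openCoverOfLeftRight (coverP 1 R) (coverP k R) (πP 1 R) (πP k R)).f t ≫
        (pullback.fst (πP 1 R) (πP k R) ≫ πP 1 R) =
      pullback.fst ((coverP 1 R).f t.1 ≫ πP 1 R) ((coverP k R).f t.2 ≫ πP k R) ≫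
        Spec.map (CommRingCat.ofHom (strA 1 R t.1)) := by
    intro t
    exact ((Category.assoc _ _ _).symm.trans (congrArg (· ≫ πP 1 R) (hH1 t))).trans
      ((Category.assoc _ _ _).trans (congrArg (fun q => pullback.fst ((coverP 1 R).f t.1 ≫ πP 1 R)
        ((coverP k R).f t.2 ≫ πP k R) ≫ q) (awayι_πP 1 R t.1)))
  have hH5 : ∀ t : Fin (1 + 1) × Fin (k + 1),
      IsAffine (pullback ((coverP 1 R).f t.1 ≫ πP 1 R) ((coverP k R).f t.2 ≫ πP k R)) := by
    intro t
    haveI : IsAffine ((coverP 1 R).X t.1) := by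
      rw [coverP_X]; infer_instance
    haveI : IsAffine ((coverP k R).X t.2) := by
      rw [coverP_X]; infer_instance
    infer_instance
  obtain ⟨μ, hμ1, hμ2, hμ3⟩ := mult_abstract k R (Z := pullback (πP 1 R) (πP k R))
    (pullback.fst (πP 1 R) (πP k R)) (pullback.snd (πP 1 R) (πP k R))
    (pullback.fst (πP 1 R) (πP k R) ≫ πP 1 R)
    (Scheme.Pullback.openCoverOfLeftRight (coverP 1 R) (coverP k R) (πP 1 R) (πP k R))
    (fun t => t.1) (fun t => t.2) (fun i j => ⟨(i, j), rfl, rfl⟩)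
    (fun t => pullback.fst ((coverP 1 R).f t.1 ≫ πP 1 R) ((coverP k R).f t.2 ≫ πP k R))
    (fun t => pullback.snd ((coverP 1 R).f t.1 ≫ πP 1 R) ((coverP k R).f t.2 ≫ πP k R))
    hH1 hH1' hH2 hH3 hH4 hH5 _ (fun _ => rfl)
  have hover : μ ≫ πP (k + 1) R = pullback.fst (πP 1 R) (πP k R) ≫ πP 1 R := hμ2
  haveI hp1 : IsProper (πP 1 R) := Groth.Agent.Helper15.isProper_projSpace_toSpec 1 R
  haveI hpk : IsProper (πP k R) := Groth.Agent.Helper15.isProper_projSpace_toSpec k R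
  haveI hpk1 : IsProper (πP (k + 1) R) := Groth.Agent.Helper15.isProper_projSpace_toSpec (k + 1) R
  haveI : IsProper (μ ≫ πP (k + 1) R) := by
    rw [hover]; infer_instance
  haveI hprop : IsProper μ := IsProper.of_comp μ (πP (k + 1) R)
  haveI := hμ1
  refine ⟨μ, IsFinite.iff_isProper_and_isAffineHom.mpr ⟨hprop, hμ1⟩, ?_, hover⟩
  exact mult_surj k R (pullback.fst (πP 1 R) (πP k R) ≫ πP 1 R)
    (Scheme.Pullback.openCoverOfLeftRight (coverP 1 R) (coverP k R) (πP 1 R) (πP k R))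
    (fun t => t.1) (fun t => t.2)
    (fun t => pullback.fst ((coverP 1 R).f t.1 ≫ πP 1 R) ((coverP k R).f t.2 ≫ πP k R))
    (fun t => pullback.snd ((coverP 1 R).f t.1 ≫ πP 1 R) ((coverP k R).f t.2 ≫ πP k R))
    hH2 hH4 hH5 _ (fun _ => rfl) μ hμ3 μ.isClosedMap
    (((1 : Fin (1 + 1)), Fin.last k) : Fin (1 + 1) × Fin (k + 1)) rfl rfl

theorem main13502 (S : Scheme.{u}) (n : ℕ) :
    ∃ φ : widePullback S (fun _ : Fin n => CohB1.ProjSpaceOver 1 S)
        (fun _ => CohB1.ProjSpaceOver.toBase 1 S) ⟶ CohB1.ProjSpaceOver n S,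
      IsFinite φ ∧ Surjective φ ∧
        φ ≫ CohB1.ProjSpaceOver.toBase n S =
          WidePullback.base (fun _ => CohB1.ProjSpaceOver.toBase 1 S) := by
  have h := induct_abstract (CohB1.ProjSpaceOver.toBase 1 S)
    (@IsFinite ⊓ @Surjective : MorphismProperty Scheme.{u})
    (fun n => CohB1.ProjSpaceOver n S) (fun n => CohB1.ProjSpaceOver.toBase n S)
    (isIso_toBase_zero S) ?_ n
  · obtain ⟨φ, ⟨h1, h2⟩, h3⟩ := h
    exact ⟨φ, h1, h2, h3⟩
  · intro m
    haveI : IsDomain (ULift.{u} ℤ) := MulEquiv.isDomain ℤ (ULift.ringEquiv : ULift.{u} ℤ ≃+* ℤ).toMulEquiv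
    obtain ⟨σ, hσ1, hσ2, hσ3⟩ := mult_ring m (ULift.{u} ℤ)
    obtain ⟨ξ, φ, h1, h2⟩ := bc_abstract (πP 1 (ULift.{u} ℤ)) (πP m (ULift.{u} ℤ))
      (πP (m + 1) (ULift.{u} ℤ)) (specULiftZIsTerminal.from S) σ hσ3
    exact ⟨φ, ⟨MorphismProperty.of_isPullback (P := @IsFinite) h2 hσ1,
      MorphismProperty.of_isPullback (P := @Surjective) h2 hσ2⟩, h1⟩

end Groth.Agent.Helper17.MU
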