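import Mathlib
import Groth.Agent.Lib.Helper19.ArtRegSeq
import Groth.Agent.Lib.Helper26.HomTildeRes

/-!
# Depth two for flat algebras over an Artinian local ring with normal closed fibre (helper17)
-/

set_option autoImplicit false

namespace Groth.Agent.Helper17.NF1

open IsLocalRing RingTheory.Sequence Groth.Agent.Helper19.Hartogs

universe u

/-- a Noetherian normal local domain of height at least two has a weakly regular pair in its
maximal ideal. -/
theorem exists_regPair_of_normal (A : Type u) [CommRing A] [IsLocalRing A] [IsNoetherianRing A]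
    [IsDomain A] [IsIntegrallyClosed A] (h : (2 : ℕ∞) ≤ (maximalIdeal A).height) :
    ∃ x y : A, x ∈ maximalIdeal A ∧ y ∈ maximalIdeal A ∧ IsWeaklyRegular A [x, y] := by
  have hSk := (Groth.Agent.Lead.Fib.normal_RS A).2
  have hmin := Groth.Agent.Lead.Fib.hasSk_self_local 2 hSk
  have h3 : min ((2 : ℕ) : ℕ∞) (maximalIdeal A).height = 2 :=
    min_eq_left (by exact_mod_cast h)
  rw [h3] at hmin
  have htop : (maximalIdeal A) • (⊤ : Submodule A A) ≠ ⊤ := by
    intro hcon
    have h1 : (1 : A) ∈ (maximalIdeal A) • (⊤ : Submodule A A) := by rw [hcon]; trivial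
    have h2 : (1 : A) ∈ maximalIdeal A := by
      refine Submodule.smul_induction_on h1 ?_ ?_
      · intro a ha b _
        exact (maximalIdeal A).mul_mem_right b ha
      · intro a b ha hb
        exact (maximalIdeal A).add_mem ha hb
    exact (Ideal.ne_top_iff_one _).1 (maximalIdeal.isMaximal A).ne_top h2
  obtain ⟨rs, hlen, hreg, hmem⟩ :=
    Groth.Agent.Lead.Depth.exists_of_le_idealDepth (maximalIdeal A) A htop 2
      (by exact_mod_cast hmin)
  match rs, hlen, hreg, hmem with
  | [x, y], _, hreg, hmem =>
    exact ⟨x, y, hmem x (by simp), hmem y (by simp), hreg⟩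

/-- heights do not drop when passing to the quotient by an ideal contained in every prime. -/
theorem height_le_height_map_mk {A : Type u} [CommRing A] (I : Ideal A)
    (hI : ∀ P : Ideal A, P.IsPrime → I ≤ P) (p : Ideal A) [hp : p.IsPrime] :
    p.height ≤ (p.map (Ideal.Quotient.mk I)).height := by
  have hker : ∀ P : Ideal A, P.IsPrime → RingHom.ker (Ideal.Quotient.mk I) ≤ P := by
    intro P hP
    rw [Ideal.mk_ker]
    exact hI P hP
  let f : PrimeSpectrum A → PrimeSpectrum (A ⧸ I) := fun P =>
    ⟨P.asIdeal.map (Ideal.Quotient.mk I),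
      Ideal.map_isPrime_of_surjective Ideal.Quotient.mk_surjective (hker _ P.2)⟩
  have hcm : ∀ P : PrimeSpectrum A,
      (P.asIdeal.map (Ideal.Quotient.mk I)).comap (Ideal.Quotient.mk I) = P.asIdeal := by
    intro P
    rw [Ideal.comap_map_of_surjective _ Ideal.Quotient.mk_surjective]
    have : Ideal.comap (Ideal.Quotient.mk I) ⊥ ≤ P.asIdeal := hker _ P.2
    exact sup_eq_left.2 this
  have hf : StrictMono f := by
    intro P Q hPQ
    refine lt_of_le_of_ne ?_ ?_
    · exact Ideal.map_mono (show P.asIdeal ≤ Q.asIdeal from hPQ.le)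
    · intro heq
      have h1 : (f P).asIdeal = (f Q).asIdeal := congrArg PrimeSpectrum.asIdeal heq
      have h2 := congrArg (Ideal.comap (Ideal.Quotient.mk I)) h1
      change (P.asIdeal.map (Ideal.Quotient.mk I)).comap (Ideal.Quotient.mk I) =
        (Q.asIdeal.map (Ideal.Quotient.mk I)).comap (Ideal.Quotient.mk I) at h2
      rw [hcm P, hcm Q] at h2
      exact hPQ.ne (PrimeSpectrum.ext h2)
  have h1 := PrimeSpectrum.height_eq_orderHeight (⟨p, hp⟩ : PrimeSpectrum A)
  have h2 := PrimeSpectrum.height_eq_orderHeight (f ⟨p, hp⟩)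
  change p.height = _ at h1
  change (p.map (Ideal.Quotient.mk I)).height = _ at h2
  rw [h1, h2]
  exact Order.height_le_height_apply_of_strictMono f hf ⟨p, hp⟩

/-- A Noetherian local ring flat over a local ring with nilpotent maximal ideal, whose closed
fibre is a normal domain of height at least two, has depth at least two. -/
theorem dep2_of_flat (C : Type u) [CommRing C] [IsLocalRing C]
    (hm : IsNilpotent (maximalIdeal C))
    (B : Type u) [CommRing B] [IsLocalRing B] [IsNoetherianRing B] [Algebra C B]
    [Module.Flat C B]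
    (J : Ideal B) (hJ : J = (maximalIdeal C).map (algebraMap C B))
    [IsLocalRing (B ⧸ J)] [IsDomain (B ⧸ J)] [IsIntegrallyClosed (B ⧸ J)]
    (hht : (2 : ℕ∞) ≤ (maximalIdeal (B ⧸ J)).height) : Dep2 B := by
  obtain ⟨x', y', hx', hy', hreg⟩ := exists_regPair_of_normal (B ⧸ J) hht
  obtain ⟨x, rfl⟩ := Ideal.Quotient.mk_surjective x'
  obtain ⟨y, rfl⟩ := Ideal.Quotient.mk_surjective y'
  have hmem : ∀ z : B, Ideal.Quotient.mk J z ∈ maximalIdeal (B ⧸ J) → z ∈ maximalIdeal B := by
    intro z hz
    rw [IsLocalRing.mem_maximalIdeal, mem_nonunits_iff] at hz ⊢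
    intro hu
    exact hz (hu.map _)
  have hx := hmem x hx'
  have hy := hmem y hy'
  have h1 : IsWeaklyRegular (B ⧸ J) ([x, y].map (algebraMap B (B ⧸ J))) := by
    simpa using hreg
  have h2 : IsWeaklyRegular (B ⧸ J) [x, y] :=
    (isWeaklyRegular_map_algebraMap_iff (B ⧸ J) (B ⧸ J) [x, y]).mp h1
  have hJ' : (J : Submodule B B) =
      (maximalIdeal C).map (algebraMap C B) • (⊤ : Submodule B B) := by
    rw [hJ]
    simp
  let e : (B ⧸ J) ≃ₗ[B]
      (B ⧸ ((maximalIdeal C).map (algebraMap C B) • (⊤ : Submodule B B))) :=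
    Submodule.quotEquivOfEq _ _ hJ'
  have h3 := (e.isWeaklyRegular_congr [x, y]).mp h2
  haveI : Nontrivial (B ⧸ ((maximalIdeal C).map (algebraMap C B) • (⊤ : Submodule B B))) :=
    e.symm.toEquiv.nontrivial
  have h4 : IsRegular (B ⧸ ((maximalIdeal C).map (algebraMap C B) • (⊤ : Submodule B B)))
      [x, y] :=
    (IsLocalRing.isRegular_iff_isWeaklyRegular_of_subset_maximalIdeal
      (by
        intro r hr
        simp only [List.mem_cons, List.not_mem_nil, or_false] at hr
        rcases hr with rfl | rfl
        · exact hx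
        · exact hy)).mpr h3
  have h5 : IsRegular B [x, y] :=
    (Groth.Agent.Helper19.ArtReg.isRegular_iff_isRegular_quot hm (maximalIdeal C)
      (Ideal.IsPrime.ne_top inferInstance) [x, y] B).mpr h4
  exact dep2_of_isWeaklyRegular x y hx hy h5.toIsWeaklyRegular

section loc

variable (C : Type u) [CommRing C] [IsLocalRing C]
  (A : Type u) [CommRing A] [Algebra C A]

theorem le_prime_of_nilpotent (hm : IsNilpotent (maximalIdeal C)) (P : Ideal A) (hP : P.IsPrime) :
    (maximalIdeal C).map (algebraMap C A) ≤ P := by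
  obtain ⟨k, hk⟩ := hm
  have h : ((maximalIdeal C).map (algebraMap C A)) ^ k = ⊥ := by
    rw [← Ideal.map_pow, hk, Ideal.zero_eq_bot, Ideal.map_bot]
  exact hP.le_of_pow_le (h ▸ bot_le)

theorem submonoid_eq (I : Ideal A) (p : Ideal A) [hp : p.IsPrime] (hIp : I ≤ p)
    [hq : (p.map (Ideal.Quotient.mk I)).IsPrime] :
    Algebra.algebraMapSubmonoid (A ⧸ I) p.primeCompl =
      (p.map (Ideal.Quotient.mk I)).primeCompl := by
  ext x
  obtain ⟨a, rfl⟩ := Ideal.Quotient.mk_surjective x
  simp only [Algebra.algebraMapSubmonoid, Submonoid.mem_map, Ideal.mem_primeCompl_iff]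
  constructor
  · rintro ⟨b, hb, hab⟩ h
    rw [← hab] at h
    exact hb ((Ideal.mem_quotient_iff_mem hIp).1 h)
  · intro h
    exact ⟨a, fun ha => h (Ideal.mem_map_of_mem _ ha), rfl⟩

theorem dep2_localization (hm : IsNilpotent (maximalIdeal C))
    [IsNoetherianRing A] [Module.Flat C A]
    (hnorm : ∀ (q : Ideal (A ⧸ (maximalIdeal C).map (algebraMap C A))) [q.IsPrime],
       IsDomain (Localization.AtPrime q) ∧ IsIntegrallyClosed (Localization.AtPrime q))
    (p : Ideal A) [hp : p.IsPrime] (h2 : (2 : ℕ∞) ≤ p.height) :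
    Dep2 (Localization.AtPrime p) := by
  have hIle := le_prime_of_nilpotent C A hm
  haveI hq : (p.map (Ideal.Quotient.mk ((maximalIdeal C).map (algebraMap C A)))).IsPrime :=
    Ideal.map_isPrime_of_surjective Ideal.Quotient.mk_surjective
      (by rw [Ideal.mk_ker]; exact hIle p hp)
  have hJ : ((maximalIdeal C).map (algebraMap C A)).map (algebraMap A (Localization.AtPrime p)) =
      (maximalIdeal C).map (algebraMap C (Localization.AtPrime p)) := by
    rw [Ideal.map_map, ← IsScalarTower.algebraMap_eq]
  haveI hloc : IsLocalization.AtPrime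
      (Localization.AtPrime p ⧸
        ((maximalIdeal C).map (algebraMap C A)).map (algebraMap A (Localization.AtPrime p)))
      (p.map (Ideal.Quotient.mk ((maximalIdeal C).map (algebraMap C A)))) := by
    have : IsLocalization (Algebra.algebraMapSubmonoid
        (A ⧸ (maximalIdeal C).map (algebraMap C A)) p.primeCompl)
        (Localization.AtPrime p ⧸
          ((maximalIdeal C).map (algebraMap C A)).map (algebraMap A (Localization.AtPrime p))) :=
      inferInstance
    rwa [submonoid_eq A _ p (hIle p hp)] at this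
  haveI : IsLocalRing (Localization.AtPrime p ⧸
        ((maximalIdeal C).map (algebraMap C A)).map (algebraMap A (Localization.AtPrime p))) :=
    IsLocalization.AtPrime.isLocalRing _
      (p.map (Ideal.Quotient.mk ((maximalIdeal C).map (algebraMap C A))))
  obtain ⟨hd, hic⟩ := hnorm (p.map (Ideal.Quotient.mk ((maximalIdeal C).map (algebraMap C A))))
  let σ : Localization.AtPrime (p.map (Ideal.Quotient.mk ((maximalIdeal C).map (algebraMap C A))))
      ≃ₐ[A ⧸ (maximalIdeal C).map (algebraMap C A)]
      (Localization.AtPrime p ⧸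
        ((maximalIdeal C).map (algebraMap C A)).map (algebraMap A (Localization.AtPrime p))) :=
    IsLocalization.algEquiv
      (p.map (Ideal.Quotient.mk ((maximalIdeal C).map (algebraMap C A)))).primeCompl _ _
  haveI : IsDomain (Localization.AtPrime p ⧸
        ((maximalIdeal C).map (algebraMap C A)).map (algebraMap A (Localization.AtPrime p))) :=
    σ.symm.toMulEquiv.isDomain
  haveI : IsIntegrallyClosed (Localization.AtPrime p ⧸
        ((maximalIdeal C).map (algebraMap C A)).map (algebraMap A (Localization.AtPrime p))) :=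
    IsIntegrallyClosed.of_equiv σ.toRingEquiv
  have hht : (2 : ℕ∞) ≤ (maximalIdeal (Localization.AtPrime p ⧸
        ((maximalIdeal C).map (algebraMap C A)).map
          (algebraMap A (Localization.AtPrime p)))).height := by
    have h1 := IsLocalization.AtPrime.ringKrullDim_eq_height
      (p.map (Ideal.Quotient.mk ((maximalIdeal C).map (algebraMap C A))))
      (Localization.AtPrime p ⧸
        ((maximalIdeal C).map (algebraMap C A)).map (algebraMap A (Localization.AtPrime p)))
    rw [← IsLocalRing.maximalIdeal_height_eq_ringKrullDim] at h1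
    rw [WithBot.coe_eq_coe.1 h1]
    exact h2.trans (height_le_height_map_mk _ hIle p)
  haveI : Module.Flat C (Localization.AtPrime p) := Module.Flat.trans C A _
  exact dep2_of_flat C hm (Localization.AtPrime p) _ hJ hht

end loc

end Groth.Agent.Helper17.NF1
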