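import Mathlib
import Groth.Agent.Lib.Helper17.NF1
import Groth.Prelude.Def_Pi1

/-!
# S11462: Hartogs for flat algebras over Artinian local rings with normal closed fibre (helper17)
-/

set_option autoImplicit false

namespace Groth.Agent.Helper17.NF2

open IsLocalRing AlgebraicGeometry CategoryTheory Groth.Agent.Helper19.Hartogs
open Groth.Agent.Helper17.NF1

universe u

/-- localizations of a ring whose spectrum is a normal scheme are normal domains. -/
theorem normal_localization (R : Type u) [CommRing R]
    (hnorm : Pi1.IsNormalScheme (Spec (CommRingCat.of R)))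
    (q : Ideal R) [hq : q.IsPrime] :
    IsDomain (Localization.AtPrime q) ∧ IsIntegrallyClosed (Localization.AtPrime q) := by
  let z : PrimeSpectrum R := ⟨q, hq⟩
  obtain ⟨hd, hic⟩ := hnorm (show ↥(Spec (CommRingCat.of R)) from z)
  letI k : Algebra R ((Spec (CommRingCat.of R)).presheaf.stalk z) :=
    StructureSheaf.stalkAlgebra R z
  haveI : IsLocalization.AtPrime ((Spec (CommRingCat.of R)).presheaf.stalk z) z.asIdeal :=
    StructureSheaf.IsLocalization.to_stalk R z
  let σ : Localization.AtPrime q ≃ₐ[R] (Spec (CommRingCat.of R)).presheaf.stalk z :=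
    IsLocalization.algEquiv q.primeCompl _ _
  exact ⟨σ.toMulEquiv.isDomain, IsIntegrallyClosed.of_equiv σ.symm.toRingEquiv⟩

theorem main11462 (C : Type u) [CommRing C]
    [IsLocalRing C] [IsArtinianRing C] (A : Type u) [CommRing A] [IsNoetherianRing A] [Algebra C A]
    [Module.Flat C A]
    (hnorm : Pi1.IsNormalScheme (Spec (CommRingCat.of (A ⧸ (IsLocalRing.maximalIdeal C).map (algebraMap C A)))))
    (U : (Spec (CommRingCat.of A)).Opens)
    (hU : ∀ p : ↥(Spec (CommRingCat.of A)), p ∉ U → (2 : ℕ∞) ≤ p.asIdeal.height) :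
    Function.Bijective ((Spec (CommRingCat.of A)).presheaf.map (homOfLE (le_top : U ≤ ⊤)).op) := by
  have hm : IsNilpotent (maximalIdeal C) :=
    (isArtinianRing_iff_isNilpotent_maximalIdeal C).1 inferInstance
  haveI : TopologicalSpace.NoetherianSpace (Spec (CommRingCat.of A)) :=
    inferInstanceAs (TopologicalSpace.NoetherianSpace (PrimeSpectrum A))
  refine Groth.Agent.Helper19.Hartogs.bijective_res (isAffineOpen_top _) U le_top
    (TopologicalSpace.NoetherianSpace.isCompact _) ?_
  intro z _ hz
  have h2 := hU z hz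
  letI k : Algebra A ((Spec (CommRingCat.of A)).presheaf.stalk z) :=
    StructureSheaf.stalkAlgebra A z
  haveI : IsLocalization.AtPrime ((Spec (CommRingCat.of A)).presheaf.stalk z) z.asIdeal :=
    StructureSheaf.IsLocalization.to_stalk A z
  let σ : Localization.AtPrime z.asIdeal ≃ₐ[A] (Spec (CommRingCat.of A)).presheaf.stalk z :=
    IsLocalization.algEquiv z.asIdeal.primeCompl _ _
  have hdep : Dep2 (Localization.AtPrime z.asIdeal) :=
    dep2_localization C A hm
      (fun q _ => normal_localization _ hnorm q) z.asIdeal h2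
  exact hdep.of_ringEquiv σ.toRingEquiv

end Groth.Agent.Helper17.NF2
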