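import Mathlib

set_option autoImplicit false
universe u

namespace Groth.Agent.Helper17.NG

variable {A : Type u} [CommRing A] [IsDomain A] {P : Set A}

/-- splitting a product of primes between two factors -/
theorem split (hP : ∀ p ∈ P, Prime p) {s : A} (hs : s ∈ Submonoid.closure P) :
    ∀ a b x : A, x * s = a * b → ∃ a' b' s₁ s₂, s₁ ∈ Submonoid.closure P ∧
      s₂ ∈ Submonoid.closure P ∧ a = a' * s₁ ∧ b = b' * s₂ ∧ x = a' * b' := by
  induction hs using Submonoid.closure_induction with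
  | mem p hp =>
    intro a b x h
    have hpp := hP p hp
    rcases hpp.dvd_or_dvd (Dvd.intro_left x h : p ∣ a * b) with ⟨a'', rfl⟩ | ⟨b'', rfl⟩
    · refine ⟨a'', b, p, 1, Submonoid.subset_closure hp, one_mem _, mul_comm _ _,
        (mul_one _).symm, ?_⟩
      exact mul_right_cancel₀ hpp.ne_zero (by rw [h]; ring)
    · refine ⟨a, b'', 1, p, one_mem _, Submonoid.subset_closure hp, (mul_one _).symm,
        mul_comm _ _, ?_⟩
      exact mul_right_cancel₀ hpp.ne_zero (by rw [h]; ring)
  | one =>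
    intro a b x h
    exact ⟨a, b, 1, 1, one_mem _, one_mem _, (mul_one _).symm, (mul_one _).symm,
      by rw [← h, mul_one]⟩
  | mul s s' hs hs' ih ih' =>
    intro a b x h
    obtain ⟨a₁, b₁, t₁, t₂, ht₁, ht₂, rfl, rfl, h1⟩ := ih' a b (x * s) (by rw [← h]; ring)
    obtain ⟨a₂, b₂, u₁, u₂, hu₁, hu₂, rfl, rfl, h2⟩ := ih a₁ b₁ x h1
    exact ⟨a₂, b₂, u₁ * t₁, u₂ * t₂, mul_mem hu₁ ht₁, mul_mem hu₂ ht₂, by ring, by ring, h2⟩

theorem dvd_of_mul_eq (hP : ∀ p ∈ P, Prime p) {q : A} (hq : ∀ p ∈ P, ¬ p ∣ q) {s : A}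
    (hs : s ∈ Submonoid.closure P) : ∀ c x : A, q * c = x * s → q ∣ x := by
  induction hs using Submonoid.closure_induction with
  | mem p hp =>
    intro c x h
    have hpp := hP p hp
    have h1 : p ∣ q * c := Dvd.intro_left x h.symm
    rcases (hpp.dvd_or_dvd h1).resolve_left (hq p hp) with ⟨c', rfl⟩
    exact ⟨c', mul_right_cancel₀ hpp.ne_zero (by rw [← h]; ring)⟩
  | one => intro c x h; exact ⟨c, by rw [h, mul_one]⟩
  | mul s s' hs hs' ih ih' =>
    intro c x h
    obtain ⟨c'', hc''⟩ := ih' c (x * s) (by rw [h]; ring)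
    exact ih c'' x hc''.symm

variable (T : Type u) [CommRing T] [Algebra A T] [IsLocalization (Submonoid.closure P) T]

theorem dvd_of_map_dvd (hP : ∀ p ∈ P, Prime p) (hinj : Function.Injective (algebraMap A T))
    {q : A} (hq : ∀ p ∈ P, ¬ p ∣ q) {x : A} (h : algebraMap A T q ∣ algebraMap A T x) : q ∣ x := by
  obtain ⟨w, hw⟩ := h
  obtain ⟨c, s, rfl⟩ := IsLocalization.exists_mk'_eq (Submonoid.closure P) w
  rw [IsLocalization.mul_mk'_eq_mk'_of_mul, eq_comm, IsLocalization.mk'_eq_iff_eq_mul,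
    ← map_mul] at hw
  exact dvd_of_mul_eq hP hq s.2 c x (hinj hw)

theorem isUnit_mk' {x : A} (s : Submonoid.closure P) (hx : IsUnit (algebraMap A T x)) :
    IsUnit (IsLocalization.mk' T x s) := by
  have h := IsLocalization.mk'_spec T x s
  exact isUnit_of_mul_isUnit_left (h ▸ hx)

theorem irreducible_map (hP : ∀ p ∈ P, Prime p) (hinj : Function.Injective (algebraMap A T))
    {q : A} (hqi : Irreducible q) (hq : ∀ p ∈ P, ¬ p ∣ q) : Irreducible (algebraMap A T q) := by
  refine ⟨fun hu => ?_, ?_⟩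
  · have h1 : algebraMap A T q ∣ algebraMap A T 1 := by rw [map_one]; exact hu.dvd
    exact hqi.not_isUnit (isUnit_of_dvd_one (dvd_of_map_dvd T hP hinj hq h1))
  · intro u v huv
    obtain ⟨a, s, rfl⟩ := IsLocalization.exists_mk'_eq (Submonoid.closure P) u
    obtain ⟨b, t, rfl⟩ := IsLocalization.exists_mk'_eq (Submonoid.closure P) v
    rw [← IsLocalization.mk'_mul, eq_comm, IsLocalization.mk'_eq_iff_eq_mul, ← map_mul] at huv
    have h := hinj huv
    obtain ⟨a', b', s₁, s₂, hs₁, hs₂, rfl, rfl, hq'⟩ := split hP (s * t).2 a b q h.symm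
    rcases hqi.isUnit_or_isUnit hq' with hu | hu
    · left
      refine isUnit_mk' T s ?_
      rw [map_mul]
      exact (hu.map _).mul (IsLocalization.map_units T ⟨s₁, hs₁⟩)
    · right
      refine isUnit_mk' T t ?_
      rw [map_mul]
      exact (hu.map _).mul (IsLocalization.map_units T ⟨s₂, hs₂⟩)

theorem prime_of_irreducible [IsDomain T] [UniqueFactorizationMonoid T] (hP : ∀ p ∈ P, Prime p)
    {q : A} (hqi : Irreducible q) : Prime q := by
  have hSle : Submonoid.closure P ≤ nonZeroDivisors A :=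
    (Submonoid.closure_le).mpr fun p hp => mem_nonZeroDivisors_of_ne_zero (hP p hp).ne_zero
  have hinj : Function.Injective (algebraMap A T) := IsLocalization.injective T hSle
  by_cases hc : ∃ p ∈ P, p ∣ q
  · obtain ⟨p, hp, c, rfl⟩ := hc
    rcases hqi.isUnit_or_isUnit rfl with hu | hu
    · exact absurd hu (hP p hp).not_isUnit
    · exact (associated_mul_unit_right p c hu).prime (hP p hp)
  · push Not at hc
    have hprime : Prime (algebraMap A T q) :=
      UniqueFactorizationMonoid.irreducible_iff_prime.mp (irreducible_map T hP hinj hqi hc)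
    refine ⟨hqi.ne_zero, hqi.not_isUnit, fun x y hxy => ?_⟩
    have h1 : algebraMap A T q ∣ algebraMap A T x * algebraMap A T y := by
      rw [← map_mul]; exact map_dvd _ hxy
    rcases hprime.dvd_or_dvd h1 with h | h
    · exact Or.inl (dvd_of_map_dvd T hP hinj hc h)
    · exact Or.inr (dvd_of_map_dvd T hP hinj hc h)

theorem main2119 {A : Type u} [CommRing A] [IsDomain A]
    (hfac : ∀ a : A, a ≠ 0 → ¬ IsUnit a → ∃ f : Multiset A, (∀ b ∈ f, Irreducible b) ∧ Associated f.prod a) (P : Set A)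
    (hP : ∀ p ∈ P, Prime p) [IsDomain (Localization (Submonoid.closure P))]
    (hS : UniqueFactorizationMonoid (Localization (Submonoid.closure P))) : UniqueFactorizationMonoid A := by
  refine UniqueFactorizationMonoid.of_exists_prime_factors fun a ha => ?_
  by_cases hu : IsUnit a
  · exact ⟨0, by simp, by simpa using (associated_one_iff_isUnit.mpr hu).symm⟩
  · obtain ⟨f, hf, hfa⟩ := hfac a ha hu
    exact ⟨f, fun b hb => prime_of_irreducible (Localization (Submonoid.closure P)) hP (hf b hb), hfa⟩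

end Groth.Agent.Helper17.NG
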