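import Mathlib
import Groth.Agent.S11091

/-!
# Valuation of the norm in a finite extension of a complete DVR: `v(N x) = f · w(x)`
-/

set_option autoImplicit false

universe u

namespace Groth.Agent.Helper17.NM

open UniqueFactorizationMonoid

attribute [local instance] FractionRing.liftAlgebra

theorem norm_mult (A B : Type u) [CommRing A] [IsDomain A] [IsDiscreteValuationRing A]
    [IsAdicComplete (IsLocalRing.maximalIdeal A) A]
    [CommRing B] [IsDedekindDomain B] [Algebra A B] [Module.Finite A B] [Module.IsTorsionFree A B]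
    [Algebra.IsSeparable (FractionRing A) (FractionRing B)]
    (M : Ideal B) [M.IsMaximal] (x : B) (hx : x ≠ 0) :
    emultiplicity (IsLocalRing.maximalIdeal A) (Ideal.span {Algebra.intNorm A B x}) =
      (M.inertiaDeg A : ℕ∞) * emultiplicity M (Ideal.span {x}) := by
  classical
  obtain ⟨m, hm⟩ : ∃ m : Ideal A, m = IsLocalRing.maximalIdeal A := ⟨_, rfl⟩
  rw [← hm]
  have hmmax : m.IsMaximal := hm ▸ inferInstance
  have hm0 : m ≠ ⊥ := hm ▸ IsDiscreteValuationRing.not_a_field A
  have hmtop : m ≠ ⊤ := Ideal.IsMaximal.ne_top hmmax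
  obtain ⟨M₀, hM₀, huniq⟩ := Groth.Agent.S11091.result A B
  have hMeq : ∀ N : Ideal B, N.IsMaximal → N = M := fun N hN =>
    (huniq N hN).trans (huniq M inferInstance).symm
  have hinj : Function.Injective (algebraMap A B) := FaithfulSMul.algebraMap_injective A B
  have hint : Algebra.IsIntegral A B := Algebra.IsIntegral.of_finite A B
  have hMcomap : M.comap (algebraMap A B) = m := by
    have : (M.comap (algebraMap A B)).IsMaximal :=
      Ideal.isMaximal_comap_of_isIntegral_of_isMaximal M
    rw [hm]
    exact IsLocalRing.eq_maximalIdeal this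
  have hover : M.LiesOver m := ⟨hMcomap.symm⟩
  have hmB0 : m.map (algebraMap A B) ≠ ⊥ := by
    rw [Ne, Ideal.map_eq_bot_iff_of_injective hinj]
    exact hm0
  have hM0 : M ≠ ⊥ := fun h =>
    hmB0 (le_bot_iff.mp (h ▸ Ideal.map_le_iff_le_comap.mpr hMcomap.ge))
  have hMtop : M ≠ ⊤ := Ideal.IsMaximal.ne_top inferInstance
  have hpow : ∀ I : Ideal B, I ≠ ⊥ → ∃ w : ℕ, I = M ^ w := by
    intro I hI
    refine ⟨Multiset.card (normalizedFactors I), ?_⟩
    have hrep : normalizedFactors I =
        Multiset.replicate (Multiset.card (normalizedFactors I)) M := by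
      rw [Multiset.eq_replicate]
      refine ⟨rfl, fun Q hQ => ?_⟩
      have hQprime := prime_of_normalized_factor Q hQ
      have hQ' : Q.IsPrime := Ideal.isPrime_of_prime hQprime
      exact hMeq Q (hQ'.isMaximal hQprime.ne_zero)
    conv_lhs => rw [← Ideal.prod_normalizedFactors_eq_self hI, hrep, Multiset.prod_replicate]
  obtain ⟨w, hw⟩ := hpow (Ideal.span {x}) (by simpa using hx)
  obtain ⟨e, he⟩ := hpow (m.map (algebraMap A B)) hmB0
  obtain ⟨s, hs⟩ := Ideal.exists_relNorm_eq_pow_of_isPrime M m
  have hmult : ∀ n : ℕ, emultiplicity M (M ^ n) = n := fun n =>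
    emultiplicity_pow_self hM0 (by rwa [Ideal.isUnit_iff]) n
  have hmult' : ∀ n : ℕ, emultiplicity m (m ^ n) = n := fun n =>
    emultiplicity_pow_self hm0 (by rwa [Ideal.isUnit_iff]) n
  have h1 : m ^ Module.finrank A B = m ^ (s * e) := by
    rw [← Ideal.relNorm_algebraMap B m, he, map_pow, hs, ← pow_mul]
  have h1' : Module.finrank A B = s * e := by
    have := congrArg (emultiplicity m) h1
    rw [hmult', hmult'] at this
    exact_mod_cast this
  have he' : M.ramificationIdx A = e := by
    rw [Ideal.IsDedekindDomain.ramificationIdx_eq_multiplicity m M hmB0, he]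
    exact multiplicity_eq_of_emultiplicity_eq_some (hmult e)
  have hset : m.primesOver B = {M} := by
    ext Q
    constructor
    · rintro ⟨hQp, hQo⟩
      have : Q.IsMaximal := Ideal.IsMaximal.of_liesOver_isMaximal Q m
      exact hMeq Q this
    · rintro rfl
      exact ⟨inferInstance, hover⟩
  have hfinset : (m.primesOver B).Finite := hset ▸ Set.finite_singleton M
  have : Fintype (m.primesOver B) := hfinset.fintype
  have hsum := Ideal.sum_ramification_inertia_eq_finrank m B
  have hMmem : M ∈ m.primesOver B := hset ▸ Set.mem_singleton M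
  rw [Fintype.sum_eq_single (⟨M, hMmem⟩ : m.primesOver B) (by
    intro q hq
    exfalso
    apply hq
    apply Subtype.ext
    exact Set.mem_singleton_iff.mp (hset.le q.2))] at hsum
  have hsf : s = M.inertiaDeg A := by
    have hepos : 0 < e := by rw [← he']; exact Ideal.ramificationIdx_pos M A
    have h2 : e * M.inertiaDeg A = e * s := by
      rw [← he']
      show M.ramificationIdx A * M.inertiaDeg A = M.ramificationIdx A * s
      rw [hsum, h1', he', mul_comm]
    exact (Nat.eq_of_mul_eq_mul_left hepos h2).symm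
  rw [← Ideal.relNorm_singleton, hw, map_pow, hs, ← pow_mul, hmult', hmult, hsf]
  push_cast
  rfl

end Groth.Agent.Helper17.NM
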