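import Mathlib
import Groth.Agent.S0536

/-!
# Sections of a smooth scheme over a strictly henselian DVR are dense in the special fibre
(helper17)
-/

set_option autoImplicit false
set_option linter.style.haveILetI false

namespace Groth.Agent.Helper17.NS1

open CategoryTheory AlgebraicGeometry IsLocalRing Function

universe u

/-- algebraic core: a smooth algebra over a henselian local ring with algebraically closed residue
field, having a prime over the maximal ideal, admits a retraction. -/
theorem exists_retraction (R : Type u) [CommRing R] [IsLocalRing R] [HenselianLocalRing R]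
    [IsAlgClosed (ResidueField R)] (S : Type u) [CommRing S] (φ : R →+* S) (hφ : φ.Smooth)
    (q : Ideal S) [q.IsPrime] (hq : q.comap φ = maximalIdeal R) :
    ∃ τ : S →+* R, τ.comp φ = RingHom.id R := by
  classical
  -- a maximal ideal over the maximal ideal
  obtain ⟨n, hn, hqn⟩ := Ideal.exists_le_maximal q (Ideal.IsPrime.ne_top inferInstance)
  haveI := hn
  have hle : maximalIdeal R ≤ n.comap φ := by
    rw [← hq]; exact Ideal.comap_mono hqn
  have hne : n.comap φ ≠ ⊤ := (Ideal.IsPrime.comap φ).ne_top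
  letI : Field (S ⧸ n) := Ideal.Quotient.field n
  letI : Field (R ⧸ maximalIdeal R) := Ideal.Quotient.field _
  let ι : (R ⧸ maximalIdeal R) →+* (S ⧸ n) := Ideal.quotientMap n φ hle
  have hιmk : ∀ r : R, ι (Ideal.Quotient.mk _ r) = Ideal.Quotient.mk n (φ r) := fun r => by
    simp [ι]
  -- finite type
  have hft : ι.FiniteType := by
    have h1 : ((Ideal.Quotient.mk n).comp φ).FiniteType :=
      (RingHom.FiniteType.of_surjective _ Ideal.Quotient.mk_surjective).comp
        (RingHom.FiniteType.of_finitePresentation hφ.finitePresentation)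
    have h2 : (Ideal.Quotient.mk n).comp φ = ι.comp (Ideal.Quotient.mk (maximalIdeal R)) := by
      ext r
      simp [ι]
    rw [h2] at h1
    exact RingHom.FiniteType.of_comp_finiteType h1
  letI : Algebra (R ⧸ maximalIdeal R) (S ⧸ n) := ι.toAlgebra
  haveI : Algebra.FiniteType (R ⧸ maximalIdeal R) (S ⧸ n) := hft
  haveI : Module.Finite (R ⧸ maximalIdeal R) (S ⧸ n) :=
    finite_of_finite_type_of_isJacobsonRing _ _
  haveI : IsAlgClosed (R ⧸ maximalIdeal R) := ‹IsAlgClosed (ResidueField R)›
  have hbij : Bijective ι :=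
    IsAlgClosed.algebraMap_bijective_of_isIntegral (k := R ⧸ maximalIdeal R) (K := S ⧸ n)
  let e : (R ⧸ maximalIdeal R) ≃+* (S ⧸ n) := RingEquiv.ofBijective ι hbij
  let σ₀ : S →+* (R ⧸ maximalIdeal R) := e.symm.toRingHom.comp (Ideal.Quotient.mk n)
  have hσ₀ : ∀ r : R, σ₀ (φ r) = Ideal.Quotient.mk _ r := by
    intro r
    change e.symm (Ideal.Quotient.mk n (φ r)) = _
    rw [← hιmk r]
    exact e.symm_apply_apply (Ideal.Quotient.mk (maximalIdeal R) r)
  letI : Algebra R S := φ.toAlgebra
  haveI : Algebra.Smooth R S := hφ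
  let σ : S →ₐ[R] (R ⧸ maximalIdeal R) :=
    { σ₀ with
      commutes' := fun r => hσ₀ r }
  obtain ⟨τ, -⟩ := Groth.Agent.S0536.result R S R (maximalIdeal R) σ
  refine ⟨τ.toRingHom, ?_⟩
  ext r
  exact τ.commutes r

theorem main11108 (R : Type u) [CommRing R] [IsDomain R]
    [IsDiscreteValuationRing R] [HenselianLocalRing R] [IsAlgClosed (IsLocalRing.ResidueField R)]
    {X : Scheme.{u}} (p : X ⟶ Spec (CommRingCat.of R)) [Smooth p]
    (x : X) (hx : p.base x = IsLocalRing.closedPoint R) :
    x ∈ closure {y : X | ∃ s : Spec (CommRingCat.of R) ⟶ X, s ≫ p = 𝟙 _ ∧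
      s.base (IsLocalRing.closedPoint R) = y} := by
  rw [mem_closure_iff]
  intro o ho hxo
  let W : X.Opens := ⟨o, ho⟩
  obtain ⟨V, hV, hxV, hVW⟩ := (TopologicalSpace.Opens.isBasis_iff_nbhd.mp X.isBasis_affineOpens)
    (show x ∈ W from hxo)
  have hVaff : IsAffineOpen V := hV
  -- the point of Spec Γ(X, V)
  have hxr : x ∈ Set.range hVaff.fromSpec.base := by
    rw [hVaff.range_fromSpec]; exact hxV
  obtain ⟨x', hx'⟩ := hxr
  let g : Spec Γ(X, V) ⟶ Spec (CommRingCat.of R) := hVaff.fromSpec ≫ p
  have hgsm : Smooth g :=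
    MorphismProperty.RespectsLeft.precomp (P := @Smooth) (Q := @IsOpenImmersion)
      hVaff.fromSpec inferInstance p inferInstance
  let φ : CommRingCat.of R ⟶ Γ(X, V) := Spec.preimage g
  have hφg : Spec.map φ = g := Spec.map_preimage g
  have hφsm : φ.hom.Smooth := by
    rw [← hφg] at hgsm
    exact (HasRingHomProperty.Spec_iff (P := @Smooth)).mp hgsm
  have hq : x'.asIdeal.comap φ.hom = maximalIdeal R := by
    have h1 : (Spec.map φ).base x' = IsLocalRing.closedPoint R := by
      rw [hφg]
      change p.base (hVaff.fromSpec.base x') = _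
      rw [hx', hx]
    have h2 := congrArg PrimeSpectrum.asIdeal h1
    exact h2
  obtain ⟨τ, hτ⟩ := exists_retraction R Γ(X, V) φ.hom hφsm x'.asIdeal hq
  let s : Spec (CommRingCat.of R) ⟶ X := Spec.map (CommRingCat.ofHom τ) ≫ hVaff.fromSpec
  have hs : s ≫ p = 𝟙 _ := by
    change (Spec.map (CommRingCat.ofHom τ) ≫ hVaff.fromSpec) ≫ p = 𝟙 _
    rw [Category.assoc]
    change Spec.map (CommRingCat.ofHom τ) ≫ g = 𝟙 _
    rw [← hφg, ← Spec.map_comp]
    have : φ ≫ CommRingCat.ofHom τ = 𝟙 _ := by
      ext r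
      exact congrArg (fun h : R →+* R => h r) hτ
    rw [this, Spec.map_id]
  refine ⟨s.base (IsLocalRing.closedPoint R), hVW ?_, s, hs, rfl⟩
  change (Spec.map (CommRingCat.ofHom τ) ≫ hVaff.fromSpec).base _ ∈ (V : Set X)
  rw [← hVaff.range_fromSpec]
  exact ⟨(Spec.map (CommRingCat.ofHom τ)).base (IsLocalRing.closedPoint R), rfl⟩

end Groth.Agent.Helper17.NS1
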