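import Mathlib
import Groth.Prelude.Def_W4bk4hartshdef114Obs

/-!
# Obstruction theories: general lemmas on small extensions
-/

set_option autoImplicit false

universe u

namespace Groth.Agent.Helper17.OB

open W4bk4hartshdef114 IsLocalRing
open scoped TensorProduct

theorem map_mem_nonunits {R S : Type*} [CommRing R] [IsLocalRing R] [CommRing S] [Nontrivial S]
    (f : R →+* S) (hf : Function.Surjective f) {a : R} (ha : a ∈ nonunits R) :
    f a ∈ nonunits S := by
  intro hu
  obtain ⟨b', hb'⟩ := hu.exists_right_inv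
  obtain ⟨b, rfl⟩ := hf b'
  have hab : a * b ∈ nonunits R :=
    (IsLocalRing.mem_maximalIdeal _).mp
      (Ideal.mul_mem_right _ _ ((IsLocalRing.mem_maximalIdeal _).mpr ha))
  have h1 : IsUnit (1 - a * b) := IsLocalRing.isUnit_one_sub_self_of_mem_nonunits _ hab
  have h2 : f (1 - a * b) = 0 := by rw [map_sub, map_one, map_mul, hb', sub_self]
  have h3 := h1.map f
  rw [h2] at h3
  exact not_isUnit_zero h3

variable {k : Type u} [Field k]

theorem isSmallExt_quot {C' : Type u} [CommRing C'] [Algebra k C'] {J K : Ideal C'}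
    (h : IsSmallExt k C' J) (hK : K ≤ J) :
    IsSmallExt k (C' ⧸ K) (J.map (Ideal.Quotient.mkₐ k K)) := by
  obtain ⟨hloc, hart, hres, hkill, hne⟩ := h
  have := hloc
  have := hart
  have hKne : K ≠ ⊤ := fun hK' => hne (top_le_iff.mp (hK' ▸ hK))
  have : Nontrivial (C' ⧸ K) := Ideal.Quotient.nontrivial_iff.mpr hKne
  have hsurj : Function.Surjective (Ideal.Quotient.mk K) := Ideal.Quotient.mk_surjective
  have hsurj' : Function.Surjective (Ideal.Quotient.mkₐ k K) := Ideal.Quotient.mkₐ_surjective k K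
  refine ⟨IsLocalRing.of_surjective' (Ideal.Quotient.mk K) hsurj, inferInstance, ?_, ?_, ?_⟩
  · intro x
    obtain ⟨y, rfl⟩ := hsurj x
    obtain ⟨c, hc⟩ := hres y
    refine ⟨c, ?_⟩
    have : Ideal.Quotient.mk K y - algebraMap k (C' ⧸ K) c =
        Ideal.Quotient.mk K (y - algebraMap k C' c) := by
      rw [map_sub]; rfl
    rw [this]
    exact map_mem_nonunits _ hsurj hc
  · intro x j hx hj
    obtain ⟨y, rfl⟩ := hsurj x
    obtain ⟨j', hj', rfl⟩ := (Ideal.mem_map_iff_of_surjective (Ideal.Quotient.mkₐ k K) hsurj').mp hj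
    have hy : y ∈ nonunits C' := fun hu => hx (hu.map (Ideal.Quotient.mk K))
    show Ideal.Quotient.mk K y * Ideal.Quotient.mk K j' = 0
    rw [← map_mul, hkill y j' hy hj', map_zero]
  · intro htop
    have h1 : (1 : C' ⧸ K) ∈ J.map (Ideal.Quotient.mkₐ k K) := by rw [htop]; trivial
    obtain ⟨j', hj', hj1⟩ :=
      (Ideal.mem_map_iff_of_surjective (Ideal.Quotient.mkₐ k K) hsurj').mp h1
    have h2 : j' - 1 ∈ K := by
      have : Ideal.Quotient.mk K j' = Ideal.Quotient.mk K 1 := by rw [map_one]; exact hj1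
      exact Ideal.Quotient.eq.mp this
    apply hne
    rw [Ideal.eq_top_iff_one]
    have := J.sub_mem hj' (hK h2)
    simpa using this

/-- If the obstruction space is smaller than `J`, the map `u` lifts over a proper sub-ideal. -/
theorem exists_lift_quot {A V : Type u} [CommRing A] [Algebra k A] [AddCommGroup V] [Module k V]
    [Module.Finite k V] (T : ObsTheory k A V) {C' : Type u} [CommRing C'] [Algebra k C']
    {J : Ideal C'} (h : IsSmallExt k C' J) (u : A →ₐ[k] C' ⧸ J)
    (hlt : Module.finrank k V < Module.finrank k J) :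
    ∃ (K : Ideal C') (hK : K ≤ J), K ≠ J ∧ ∃ u'' : A →ₐ[k] C' ⧸ K,
      (Ideal.Quotient.mkₐ k (J.map (Ideal.Quotient.mkₐ k K))).comp u'' =
        ((DoubleQuot.quotQuotEquivQuotOfLEₐ k hK).symm : (C' ⧸ J) →ₐ[k] _).comp u := by
  have hsm := h
  obtain ⟨hloc, hart, hres, hkill, hne⟩ := h
  have : Module.Finite k J := Module.finite_of_finrank_pos (by omega)
  obtain ⟨ob, hob_def⟩ : ∃ ob, ob = T.obs C' J u := ⟨_, rfl⟩
  let Φ : Module.Dual k J →ₗ[k] V :=
    (TensorProduct.rid k V).toLinearMap ∘ₗ (LinearMap.applyₗ ob) ∘ₗ (LinearMap.lTensorHom V)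
  have hΦ : LinearMap.ker Φ ≠ ⊥ := by
    apply LinearMap.ker_ne_bot_of_finrank_lt
    rw [Subspace.dual_finrank_eq]
    exact hlt
  obtain ⟨φ, hφker, hφne⟩ := Submodule.exists_mem_ne_zero_of_ne_bot hΦ
  have hφ : LinearMap.lTensor V φ ob = 0 := by
    have h1 : Φ φ = 0 := hφker
    have h2 : Φ φ = TensorProduct.rid k V (LinearMap.lTensor V φ ob) := rfl
    rw [h2] at h1
    exact (LinearEquiv.map_eq_zero_iff _).mp h1
  let K : Ideal C' :=
    { carrier := {x | ∃ hx : x ∈ J, φ ⟨x, hx⟩ = 0}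
      zero_mem' := ⟨J.zero_mem, map_zero φ⟩
      add_mem' := by
        rintro a b ⟨ha, ha'⟩ ⟨hb, hb'⟩
        refine ⟨J.add_mem ha hb, ?_⟩
        have : (⟨a + b, J.add_mem ha hb⟩ : J) = ⟨a, ha⟩ + ⟨b, hb⟩ := rfl
        rw [this, map_add, ha', hb', add_zero]
      smul_mem' := by
        rintro c x ⟨hx, hx'⟩
        refine ⟨J.mul_mem_left c hx, ?_⟩
        obtain ⟨c₀, hc₀⟩ := hres c
        have hcx : c * x = algebraMap k C' c₀ * x := by
          have := hkill (c - algebraMap k C' c₀) x hc₀ hx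
          rw [sub_mul, sub_eq_zero] at this
          exact this
        have : (⟨c • x, J.mul_mem_left c hx⟩ : J) = c₀ • (⟨x, hx⟩ : J) := by
          apply Subtype.ext
          show c * x = c₀ • x
          rw [hcx, Algebra.smul_def]
        rw [this, map_smul, hx', smul_zero] }
  have hKJ : K ≤ J := fun x hx => hx.1
  have hKne : K ≠ J := by
    intro hKJ'
    obtain ⟨j, hj⟩ : ∃ j, φ j ≠ 0 := by
      by_contra hcon
      push Not at hcon
      exact hφne (LinearMap.ext hcon)
    have : (j : C') ∈ K := by rw [hKJ']; exact j.2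
    obtain ⟨hx, hx'⟩ := this
    exact hj hx'
  have hf : Function.Surjective (idealToQuot k J K) := by
    rintro ⟨y, hy⟩
    obtain ⟨j, hj, rfl⟩ := (Ideal.mem_map_iff_of_surjective (Ideal.Quotient.mkₐ k K)
      (Ideal.Quotient.mkₐ_surjective k K)).mp hy
    exact ⟨⟨j, hj⟩, rfl⟩
  have hker : ∀ j : J, idealToQuot k J K j = 0 → φ j = 0 := by
    intro j hj
    have h1 : Ideal.Quotient.mk K (j : C') = 0 := congrArg Subtype.val hj
    rw [Ideal.Quotient.eq_zero_iff_mem] at h1
    obtain ⟨hx, hx'⟩ := h1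
    exact hx'
  have hker' : ∀ j : J, φ j = 0 → idealToQuot k J K j = 0 := by
    intro j hj
    apply Subtype.ext
    show Ideal.Quotient.mk K (j : C') = 0
    rw [Ideal.Quotient.eq_zero_iff_mem]
    exact ⟨j.2, hj⟩
  obtain ⟨s, hs⟩ := (idealToQuot k J K).exists_rightInverse_of_surjective
    (LinearMap.range_eq_top.mpr hf)
  have hs' : ∀ y, idealToQuot k J K (s y) = y := fun y => LinearMap.congr_fun hs y
  have hcomp : (φ ∘ₗ s) ∘ₗ (idealToQuot k J K) = φ := by
    apply LinearMap.ext
    intro j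
    simp only [LinearMap.comp_apply]
    have h1 : idealToQuot k J K (s (idealToQuot k J K j) - j) = 0 := by
      rw [map_sub, hs', sub_self]
    have h2 := hker _ h1
    rw [map_sub, sub_eq_zero] at h2
    exact h2
  have hinj : Function.Injective (φ ∘ₗ s) := by
    rw [injective_iff_map_eq_zero]
    intro y hy
    rw [← hs' y]
    exact hker' _ hy
  have hob : LinearMap.lTensor V (idealToQuot k J K) ob = 0 := by
    apply Module.Flat.lTensor_preserves_injective_linearMap (M := V) (φ ∘ₗ s) hinj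
    rw [map_zero, ← LinearMap.comp_apply, ← LinearMap.lTensor_comp, hcomp]
    exact hφ
  refine ⟨K, hKJ, hKne, ?_⟩
  have hsmK := isSmallExt_quot hsm hKJ
  have h1 := T.obs_quot C' J K hsm hKJ u
  rw [← hob_def, hob] at h1
  exact (T.obs_eq_zero_iff (C' ⧸ K) (J.map (Ideal.Quotient.mkₐ k K)) hsmK _).mp h1

end Groth.Agent.Helper17.OB
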