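import Mathlib
import Groth.Prelude.Def_W4bk4hartshdef114Obs
import Groth.Agent.Lib.Helper17.OB1

/-!
# Obstruction theories: the number of generators of `I` in `P/I`
-/

set_option autoImplicit false

universe u

namespace Groth.Agent.Helper17.OB

open W4bk4hartshdef114 IsLocalRing
open scoped TensorProduct

variable {k : Type u} [Field k]

/-- A lift over `C'/K` forces `K = J` (derivation argument, uses `I ≤ m²`). -/
theorem le_of_lift {P : Type u} [CommRing P] [IsLocalRing P] [Algebra k P] {I 𝔞 : Ideal P}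
    (hI : I ≤ maximalIdeal P ^ 2)
    (hsm : IsSmallExt k (P ⧸ 𝔞) (I.map (Ideal.Quotient.mk 𝔞)))
    (u : P ⧸ I →ₐ[k] (P ⧸ 𝔞) ⧸ I.map (Ideal.Quotient.mk 𝔞))
    (hu : ∀ p, u (Ideal.Quotient.mk I p) = Ideal.Quotient.mk _ (Ideal.Quotient.mk 𝔞 p))
    {K : Ideal (P ⧸ 𝔞)} (hK : K ≤ I.map (Ideal.Quotient.mk 𝔞))
    (u'' : P ⧸ I →ₐ[k] (P ⧸ 𝔞) ⧸ K)
    (hu'' : (Ideal.Quotient.mkₐ k
        ((I.map (Ideal.Quotient.mk 𝔞)).map (Ideal.Quotient.mkₐ k K))).comp u'' =
        ((DoubleQuot.quotQuotEquivQuotOfLEₐ k hK).symm : _ →ₐ[k] _).comp u) :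
    I.map (Ideal.Quotient.mk 𝔞) ≤ K := by
  obtain ⟨hloc', hart', hres', hkill', hne'⟩ := isSmallExt_quot hsm hK
  have := hloc'
  have hD : ∀ p : P, u'' (Ideal.Quotient.mk I p) -
      Ideal.Quotient.mk K (Ideal.Quotient.mk 𝔞 p) ∈
        (I.map (Ideal.Quotient.mk 𝔞)).map (Ideal.Quotient.mkₐ k K) := by
    intro p
    have h1 := AlgHom.congr_fun hu'' (Ideal.Quotient.mk I p)
    simp only [AlgHom.comp_apply] at h1
    rw [hu] at h1
    have h2 : ((DoubleQuot.quotQuotEquivQuotOfLEₐ k hK).symm : _ →ₐ[k] _)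
        (Ideal.Quotient.mk (I.map (Ideal.Quotient.mk 𝔞)) (Ideal.Quotient.mk 𝔞 p)) =
        Ideal.Quotient.mk ((I.map (Ideal.Quotient.mk 𝔞)).map (Ideal.Quotient.mkₐ k K))
          (Ideal.Quotient.mk K (Ideal.Quotient.mk 𝔞 p)) := rfl
    rw [h2] at h1
    exact Ideal.Quotient.eq.mp h1
  have hsurj : Function.Surjective ((Ideal.Quotient.mk K).comp (Ideal.Quotient.mk 𝔞)) :=
    Ideal.Quotient.mk_surjective.comp Ideal.Quotient.mk_surjective
  have hπ : ∀ a ∈ maximalIdeal P,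
      Ideal.Quotient.mk K (Ideal.Quotient.mk 𝔞 a) ∈ nonunits ((P ⧸ 𝔞) ⧸ K) := by
    intro a ha
    exact map_mem_nonunits ((Ideal.Quotient.mk K).comp (Ideal.Quotient.mk 𝔞)) hsurj
      ((mem_maximalIdeal a).mp ha)
  have hJnon : ∀ x ∈ (I.map (Ideal.Quotient.mk 𝔞)).map (Ideal.Quotient.mkₐ k K),
      x ∈ nonunits ((P ⧸ 𝔞) ⧸ K) := by
    intro x hx hxu
    exact hne' (Ideal.eq_top_of_isUnit_mem _ hx hxu)
  have hg : ∀ a ∈ maximalIdeal P, u'' (Ideal.Quotient.mk I a) ∈ nonunits ((P ⧸ 𝔞) ⧸ K) := by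
    intro a ha
    have e : u'' (Ideal.Quotient.mk I a) =
        (u'' (Ideal.Quotient.mk I a) - Ideal.Quotient.mk K (Ideal.Quotient.mk 𝔞 a)) +
          Ideal.Quotient.mk K (Ideal.Quotient.mk 𝔞 a) := by ring
    rw [e]
    exact IsLocalRing.nonunits_add (hJnon _ (hD a)) (hπ a ha)
  have hD2 : ∀ p ∈ maximalIdeal P ^ 2,
      u'' (Ideal.Quotient.mk I p) - Ideal.Quotient.mk K (Ideal.Quotient.mk 𝔞 p) = 0 := by
    intro p hp
    rw [pow_two] at hp
    refine Submodule.smul_induction_on hp ?_ ?_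
    · intro a ha b hb
      have e : u'' (Ideal.Quotient.mk I (a • b)) -
          Ideal.Quotient.mk K (Ideal.Quotient.mk 𝔞 (a • b)) =
          u'' (Ideal.Quotient.mk I a) *
            (u'' (Ideal.Quotient.mk I b) - Ideal.Quotient.mk K (Ideal.Quotient.mk 𝔞 b)) +
          Ideal.Quotient.mk K (Ideal.Quotient.mk 𝔞 b) *
            (u'' (Ideal.Quotient.mk I a) - Ideal.Quotient.mk K (Ideal.Quotient.mk 𝔞 a)) := by
        simp only [smul_eq_mul, map_mul]
        ring
      rw [e, hkill' _ _ (hg a ha) (hD b), hkill' _ _ (hπ b hb) (hD a), add_zero]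
    · intro x y hx hy
      have e : u'' (Ideal.Quotient.mk I (x + y)) -
          Ideal.Quotient.mk K (Ideal.Quotient.mk 𝔞 (x + y)) =
          (u'' (Ideal.Quotient.mk I x) - Ideal.Quotient.mk K (Ideal.Quotient.mk 𝔞 x)) +
          (u'' (Ideal.Quotient.mk I y) - Ideal.Quotient.mk K (Ideal.Quotient.mk 𝔞 y)) := by
        simp only [map_add]
        ring
      rw [e, hx, hy, add_zero]
  rw [Ideal.map_le_iff_le_comap]
  intro i hi
  rw [Ideal.mem_comap]
  have h1 := hD2 i (hI hi)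
  have h2 : Ideal.Quotient.mk I i = 0 := Ideal.Quotient.eq_zero_iff_mem.mpr hi
  rw [h2, map_zero, zero_sub, neg_eq_zero] at h1
  exact Ideal.Quotient.eq_zero_iff_mem.mp h1

/-- The canonical small extension attached to `I ⊆ P`. -/
theorem isSmallExt_main {P : Type u} [CommRing P] [IsLocalRing P] [IsNoetherianRing P]
    [Algebra k P] (hres : Function.Surjective (algebraMap k (IsLocalRing.ResidueField P)))
    (I 𝔞 : Ideal P) (hIm : I ≤ maximalIdeal P) (n : ℕ) (h𝔞m : 𝔞 ≤ maximalIdeal P)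
    (h1 : maximalIdeal P * I ≤ 𝔞) (h2 : maximalIdeal P ^ n ≤ 𝔞) :
    IsSmallExt k (P ⧸ 𝔞) (I.map (Ideal.Quotient.mk 𝔞)) := by
  have h𝔞ne : 𝔞 ≠ ⊤ := fun h => (Ideal.IsMaximal.ne_top (inferInstance :
    (maximalIdeal P).IsMaximal)) (top_le_iff.mp (h ▸ h𝔞m))
  have : Nontrivial (P ⧸ 𝔞) := Ideal.Quotient.nontrivial_iff.mpr h𝔞ne
  have hsurj : Function.Surjective (Ideal.Quotient.mk 𝔞) := Ideal.Quotient.mk_surjective
  have hloc : IsLocalRing (P ⧸ 𝔞) := IsLocalRing.of_surjective' (Ideal.Quotient.mk 𝔞) hsurj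
  have hnon : ∀ x ∈ nonunits (P ⧸ 𝔞), ∃ p ∈ maximalIdeal P, Ideal.Quotient.mk 𝔞 p = x := by
    intro x hx
    obtain ⟨p, rfl⟩ := hsurj x
    exact ⟨p, (mem_maximalIdeal p).mpr (fun hu => hx (hu.map _)), rfl⟩
  have hart : IsArtinianRing (P ⧸ 𝔞) := by
    rw [isArtinianRing_iff_isNilpotent_maximalIdeal]
    refine ⟨n, ?_⟩
    rw [Ideal.zero_eq_bot, eq_bot_iff]
    have hle : maximalIdeal (P ⧸ 𝔞) ≤ (maximalIdeal P).map (Ideal.Quotient.mk 𝔞) := by
      intro x hx
      obtain ⟨p, hp, rfl⟩ := hnon x ((mem_maximalIdeal x).mp hx)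
      exact Ideal.mem_map_of_mem _ hp
    calc maximalIdeal (P ⧸ 𝔞) ^ n ≤ ((maximalIdeal P).map (Ideal.Quotient.mk 𝔞)) ^ n :=
          Ideal.pow_right_mono hle n
      _ = (maximalIdeal P ^ n).map (Ideal.Quotient.mk 𝔞) := (Ideal.map_pow _ _ _).symm
      _ ≤ ⊥ := by
          rw [Ideal.map_le_iff_le_comap]
          intro x hx
          rw [Ideal.mem_comap, Ideal.mem_bot, Ideal.Quotient.eq_zero_iff_mem]
          exact h2 hx
  refine ⟨hloc, hart, ?_, ?_, ?_⟩
  · intro x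
    obtain ⟨p, rfl⟩ := hsurj x
    obtain ⟨c, hc⟩ := hres (residue P p)
    refine ⟨c, ?_⟩
    have e : Ideal.Quotient.mk 𝔞 p - algebraMap k (P ⧸ 𝔞) c =
        Ideal.Quotient.mk 𝔞 (p - algebraMap k P c) := by
      rw [map_sub]; rfl
    rw [e]
    apply map_mem_nonunits _ hsurj
    rw [← mem_maximalIdeal, ← residue_eq_zero_iff, map_sub, ← hc, sub_eq_zero,
      IsScalarTower.algebraMap_apply k P (ResidueField P) c, ResidueField.algebraMap_eq]
  · intro x j hx hj
    obtain ⟨p, hp, rfl⟩ := hnon x hx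
    obtain ⟨i, hi, rfl⟩ := (Ideal.mem_map_iff_of_surjective _ hsurj).mp hj
    rw [← map_mul, Ideal.Quotient.eq_zero_iff_mem]
    exact h1 (Ideal.mul_mem_mul hp hi)
  · intro htop
    have h1' : (1 : P ⧸ 𝔞) ∈ I.map (Ideal.Quotient.mk 𝔞) := by rw [htop]; trivial
    obtain ⟨i, hi, hi1⟩ := (Ideal.mem_map_iff_of_surjective _ hsurj).mp h1'
    have h3 : i - 1 ∈ 𝔞 := by
      have : Ideal.Quotient.mk 𝔞 i = Ideal.Quotient.mk 𝔞 1 := by rw [map_one]; exact hi1
      exact Ideal.Quotient.eq.mp this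
    have h4 : (1 : P) ∈ maximalIdeal P := by
      have := (maximalIdeal P).sub_mem (hIm hi) (h𝔞m h3)
      simp at this
    exact (Ideal.ne_top_iff_one _).mp (Ideal.IsMaximal.ne_top inferInstance) h4

/-- `I` is generated by `dim_k J` elements. -/
theorem spanFinrank_le {P : Type u} [CommRing P] [IsLocalRing P] [IsNoetherianRing P]
    [Algebra k P] (I 𝔞 : Ideal P) (h𝔞 : I ⊓ 𝔞 ≤ maximalIdeal P • I)
    (hsm : IsSmallExt k (P ⧸ 𝔞) (I.map (Ideal.Quotient.mk 𝔞))) :
    I.spanFinrank ≤ Module.finrank k ↥(I.map (Ideal.Quotient.mk 𝔞)) := by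
  classical
  obtain ⟨hloc, hart, hres, hkill, hne⟩ := hsm
  have hsurj : Function.Surjective (Ideal.Quotient.mk 𝔞) := Ideal.Quotient.mk_surjective
  have hIfg : I.FG := IsNoetherian.noetherian I
  -- scalar action on `J` through the residue field
  have hact : ∀ (x : P ⧸ 𝔞) (j : P ⧸ 𝔞), j ∈ I.map (Ideal.Quotient.mk 𝔞) →
      ∃ c : k, x * j = c • j := by
    intro x j hj
    obtain ⟨c, hc⟩ := hres x
    refine ⟨c, ?_⟩
    have := hkill _ j hc hj
    rw [sub_mul, sub_eq_zero] at this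
    rw [this, Algebra.smul_def]
  -- finiteness
  have hfin : Module.Finite k ↥(I.map (Ideal.Quotient.mk 𝔞)) := by
    obtain ⟨m, g, hg⟩ := Submodule.fg_iff_exists_fin_generating_family.mp hIfg
    have hgI : ∀ t, g t ∈ I := fun t => hg ▸ Submodule.subset_span ⟨t, rfl⟩
    let v : Fin m → ↥(I.map (Ideal.Quotient.mk 𝔞)) :=
      fun t => ⟨Ideal.Quotient.mk 𝔞 (g t), Ideal.mem_map_of_mem _ (hgI t)⟩
    apply Module.Finite.of_surjective (Fintype.linearCombination k v)
    rintro ⟨y, hy⟩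
    obtain ⟨i, hi, rfl⟩ := (Ideal.mem_map_iff_of_surjective _ hsurj).mp hy
    rw [← hg] at hi
    obtain ⟨c, hc⟩ := (Submodule.mem_span_range_iff_exists_fun P).mp hi
    choose d hd using fun t => hact (Ideal.Quotient.mk 𝔞 (c t)) (Ideal.Quotient.mk 𝔞 (g t))
      (Ideal.mem_map_of_mem _ (hgI t))
    refine ⟨d, ?_⟩
    apply Subtype.ext
    rw [Fintype.linearCombination_apply]
    simp only [Submodule.coe_sum, v]
    rw [← hc, map_sum]
    refine Finset.sum_congr rfl (fun t _ => ?_)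
    rw [smul_eq_mul, map_mul, hd t]
    rfl
  -- a basis of `J`, lifted to `I`
  have hb := Module.finBasis k ↥(I.map (Ideal.Quotient.mk 𝔞))
  have hlift : ∀ t, ∃ y ∈ I, Ideal.Quotient.mk 𝔞 y = (hb t : P ⧸ 𝔞) := fun t =>
    (Ideal.mem_map_iff_of_surjective _ hsurj).mp (hb t).2
  choose y hyI hy using hlift
  have hle : I ≤ Ideal.span (Set.range y) := by
    apply Submodule.le_of_le_smul_of_le_jacobson_bot (I := maximalIdeal P) hIfg
    · rw [IsLocalRing.jacobson_eq_maximalIdeal ⊥ bot_ne_top]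
    · intro i hi
      let j : ↥(I.map (Ideal.Quotient.mk 𝔞)) :=
        ⟨Ideal.Quotient.mk 𝔞 i, Ideal.mem_map_of_mem _ hi⟩
      have hrepr := hb.sum_repr j
      have hrepr' : Ideal.Quotient.mk 𝔞 i =
          Ideal.Quotient.mk 𝔞 (∑ t, algebraMap k P (hb.repr j t) * y t) := by
        have := congrArg Subtype.val hrepr
        simp only [Submodule.coe_sum] at this
        rw [map_sum]
        rw [show (j : P ⧸ 𝔞) = Ideal.Quotient.mk 𝔞 i from rfl] at this
        rw [← this]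
        refine Finset.sum_congr rfl (fun t _ => ?_)
        rw [map_mul, hy t]
        show (hb.repr j t) • (hb t : P ⧸ 𝔞) = _
        rw [Algebra.smul_def]
        rfl
      have hmem : i - ∑ t, algebraMap k P (hb.repr j t) * y t ∈ I ⊓ 𝔞 := by
        refine ⟨I.sub_mem hi (I.sum_mem (fun t _ => I.mul_mem_left _ (hyI t))), ?_⟩
        exact Ideal.Quotient.eq.mp hrepr'
      have hsum : ∑ t, algebraMap k P (hb.repr j t) * y t ∈ Ideal.span (Set.range y) :=
        Ideal.sum_mem _ (fun t _ => Ideal.mul_mem_left _ _ (Ideal.subset_span ⟨t, rfl⟩))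
      have : i = ∑ t, algebraMap k P (hb.repr j t) * y t +
          (i - ∑ t, algebraMap k P (hb.repr j t) * y t) := by ring
      rw [this]
      exact Submodule.add_mem_sup hsum (h𝔞 hmem)
  have hge : Ideal.span (Set.range y) ≤ I := by
    rw [Ideal.span_le]
    rintro _ ⟨t, rfl⟩
    exact hyI t
  have hIeq : I = Ideal.span ((Finset.univ.image y : Finset P) : Set P) := by
    rw [Finset.coe_image, Finset.coe_univ, Set.image_univ]
    exact le_antisymm hle hge
  calc I.spanFinrank = (Ideal.span ((Finset.univ.image y : Finset P) : Set P)).spanFinrank := by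
        rw [← hIeq]
    _ ≤ ((Finset.univ.image y : Finset P) : Set P).ncard :=
        Submodule.spanFinrank_span_le_ncard_of_finite (Finset.finite_toSet _)
    _ = (Finset.univ.image y).card := Set.ncard_coe_finset _
    _ ≤ (Finset.univ : Finset (Fin (Module.finrank k ↥(I.map (Ideal.Quotient.mk 𝔞))))).card :=
        Finset.card_image_le
    _ = Module.finrank k ↥(I.map (Ideal.Quotient.mk 𝔞)) := by
        rw [Finset.card_univ, Fintype.card_fin]

end Groth.Agent.Helper17.OB
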