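import Mathlib
import Groth.Prelude.Def_W4bk4hartshdef114Obs
import Groth.Agent.Lib.Helper17.OB2

/-!
# Obstruction theories: bound on the number of generators and on the dimension
-/

set_option autoImplicit false

universe u

namespace Groth.Agent.Helper17.OB

open W4bk4hartshdef114 IsLocalRing
open scoped TensorProduct

variable {k : Type u} [Field k]

theorem spanFinrank_le_finrank {P : Type u} [CommRing P] [IsLocalRing P] [IsNoetherianRing P]
    [Algebra k P] (hres : Function.Surjective (algebraMap k (IsLocalRing.ResidueField P)))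
    (I : Ideal P) (hI : I ≤ maximalIdeal P ^ 2)
    (V : Type u) [AddCommGroup V] [Module k V] [Module.Finite k V]
    (T : ObsTheory k (P ⧸ I) V) : I.spanFinrank ≤ Module.finrank k V := by
  obtain ⟨n0, hn0⟩ := Ideal.exists_pow_inf_eq_pow_smul (maximalIdeal P) (I : Submodule P P)
  have hIm : I ≤ maximalIdeal P := hI.trans (Ideal.pow_le_self two_ne_zero)
  have hAR : I ⊓ maximalIdeal P ^ (n0 + 1) ≤ maximalIdeal P • I := by
    have h := hn0 (n0 + 1) (Nat.le_succ n0)
    rw [Nat.add_sub_cancel_left, pow_one] at h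
    intro x hx
    have hx' : x ∈ maximalIdeal P ^ (n0 + 1) • (⊤ : Submodule P P) ⊓ I := by
      refine ⟨?_, hx.1⟩
      rw [smul_eq_mul, Ideal.mul_top]
      exact hx.2
    rw [h] at hx'
    exact Submodule.smul_mono (le_refl _) inf_le_right hx'
  obtain ⟨𝔞, h𝔞def⟩ : ∃ 𝔞 : Ideal P, 𝔞 = maximalIdeal P * I ⊔ maximalIdeal P ^ (n0 + 1) :=
    ⟨_, rfl⟩
  have h1 : maximalIdeal P * I ≤ 𝔞 := h𝔞def ▸ le_sup_left
  have h2 : maximalIdeal P ^ (n0 + 1) ≤ 𝔞 := h𝔞def ▸ le_sup_right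
  have h𝔞m : 𝔞 ≤ maximalIdeal P := by
    rw [h𝔞def]
    exact sup_le Ideal.mul_le_left (Ideal.pow_le_self (Nat.succ_ne_zero n0))
  have h𝔞 : I ⊓ 𝔞 ≤ maximalIdeal P • I := by
    rintro x ⟨hxI, hx𝔞⟩
    rw [h𝔞def] at hx𝔞
    obtain ⟨a, ha, b, hb, rfl⟩ := Submodule.mem_sup.mp hx𝔞
    have haI : a ∈ I := Ideal.mul_le_right ha
    have hbI : b ∈ I := by
      have := I.sub_mem hxI haI
      simpa using this
    have hb' := hAR ⟨hbI, hb⟩
    exact Submodule.add_mem _ ha hb'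
  have hsm := isSmallExt_main hres I 𝔞 hIm (n0 + 1) h𝔞m h1 h2
  have hle := spanFinrank_le I 𝔞 h𝔞 hsm
  by_contra hlt
  push Not at hlt
  let u : P ⧸ I →ₐ[k] (P ⧸ 𝔞) ⧸ I.map (Ideal.Quotient.mk 𝔞) :=
    Ideal.Quotient.liftₐ I ((Ideal.Quotient.mkₐ k _).comp (Ideal.Quotient.mkₐ k 𝔞)) (by
      intro i hi
      show Ideal.Quotient.mk _ (Ideal.Quotient.mk 𝔞 i) = 0
      rw [Ideal.Quotient.eq_zero_iff_mem]
      exact Ideal.mem_map_of_mem _ hi)
  have hu : ∀ p, u (Ideal.Quotient.mk I p) =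
      Ideal.Quotient.mk _ (Ideal.Quotient.mk 𝔞 p) := fun p => rfl
  obtain ⟨K, hK, hKne, u'', hu''⟩ := exists_lift_quot T hsm u (lt_of_lt_of_le hlt hle)
  exact hKne (le_antisymm hK (le_of_lift hI hsm u hu hK u'' hu''))

theorem dim_bound {P : Type u} [CommRing P] [IsLocalRing P] [IsNoetherianRing P]
    [Algebra k P] (hres : Function.Surjective (algebraMap k (IsLocalRing.ResidueField P)))
    (I : Ideal P) (hI : I ≤ maximalIdeal P ^ 2)
    (V : Type u) [AddCommGroup V] [Module k V] [Module.Finite k V]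
    (T : ObsTheory k (P ⧸ I) V) :
    ringKrullDim P ≤ ringKrullDim (P ⧸ I) + (Module.finrank k V : WithBot ℕ∞) ∧
      (ringKrullDim (P ⧸ I) + (Module.finrank k V : WithBot ℕ∞) = ringKrullDim P →
        ∃ s : Finset P, Ideal.span (s : Set P) = I ∧
          ringKrullDim (P ⧸ I) + (s.card : WithBot ℕ∞) = ringKrullDim P) := by
  have hIm : I ≤ maximalIdeal P := hI.trans (Ideal.pow_le_self two_ne_zero)
  have h1 : ringKrullDim P ≤ ringKrullDim (P ⧸ I) + (I.spanFinrank : WithBot ℕ∞) :=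
    ringKrullDim_le_ringKrullDim_quotient_add_spanFinrank I
      (by rw [IsLocalRing.ringJacobson_eq_maximalIdeal]; exact hIm)
  have h2 := spanFinrank_le_finrank hres I hI V T
  have h3 : ringKrullDim (P ⧸ I) + (I.spanFinrank : WithBot ℕ∞) ≤
      ringKrullDim (P ⧸ I) + (Module.finrank k V : WithBot ℕ∞) := by
    gcongr
  refine ⟨h1.trans h3, ?_⟩
  intro heq
  obtain ⟨s, hcard, hs⟩ :=
    Submodule.FG.exists_span_finset_card_eq_spanFinrank (IsNoetherian.noetherian I)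
  refine ⟨s, hs, ?_⟩
  rw [hcard]
  exact le_antisymm (h3.trans heq.le) h1

end Groth.Agent.Helper17.OB
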