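import Mathlib

/-!
# Obstruction theory helpers (1): flat quotients, nilpotent Nakayama (helper17)
-/

set_option autoImplicit false

namespace Groth.Agent.Helper17.OBS1

open TensorProduct Function

universe u

section FlatKer

variable {A : Type*} [CommRing A] {M P : Type*} [AddCommGroup M] [Module A M]
  [AddCommGroup P] [Module A P]

/-- If `P = M / K` is flat then `𝔞 M ∩ K = 𝔞 K`. -/
theorem mem_smul_ker_of_flat [Module.Flat A P] (g : M →ₗ[A] P) (hg : Surjective g) (𝔞 : Ideal A)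
    {x : M} (hx : x ∈ 𝔞 • (⊤ : Submodule A M)) (hgx : g x = 0) :
    x ∈ 𝔞 • LinearMap.ker g := by
  have key : ∀ ζ : 𝔞 ⊗[A] LinearMap.ker g,
      ((TensorProduct.lid A M).toLinearMap ∘ₗ (𝔞.subtype.rTensor M))
        ((LinearMap.ker g).subtype.lTensor 𝔞 ζ) ∈ 𝔞 • LinearMap.ker g := by
    intro ζ
    induction ζ using TensorProduct.induction_on with
    | zero => simp
    | tmul a k =>
      simp only [LinearMap.lTensor_tmul, Submodule.subtype_apply, LinearMap.coe_comp,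
        LinearEquiv.coe_coe, comp_apply, LinearMap.rTensor_tmul, TensorProduct.lid_tmul]
      exact Submodule.smul_mem_smul a.2 k.2
    | add y z hy hz =>
      simp only [map_add]
      exact Submodule.add_mem _ hy hz
  rw [← Ideal.subtype_rTensor_range] at hx
  obtain ⟨ξ, rfl⟩ := hx
  have hnat : ((TensorProduct.lid A P).toLinearMap ∘ₗ (𝔞.subtype.rTensor P)) ∘ₗ (g.lTensor 𝔞) =
      g ∘ₗ ((TensorProduct.lid A M).toLinearMap ∘ₗ (𝔞.subtype.rTensor M)) := by
    refine TensorProduct.ext' fun a m => ?_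
    simp
  have h1 : (TensorProduct.lid A P) ((𝔞.subtype.rTensor P) (g.lTensor 𝔞 ξ)) = 0 := by
    have := congrArg (fun f => f ξ) hnat
    simp only [LinearMap.coe_comp, LinearEquiv.coe_coe, comp_apply] at this
    rw [this]
    exact hgx
  have hinj : Injective (𝔞.subtype.rTensor P) :=
    Module.Flat.rTensor_preserves_injective_linearMap _ (Submodule.injective_subtype _)
  have h2 : g.lTensor 𝔞 ξ = 0 := by
    apply hinj
    rw [map_zero]
    exact (TensorProduct.lid A P).injective (by rw [h1, map_zero])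
  have hex : Function.Exact ((LinearMap.ker g).subtype.lTensor 𝔞) (g.lTensor 𝔞) :=
    lTensor_exact 𝔞 (LinearMap.exact_subtype_ker_map g) hg
  obtain ⟨ζ, rfl⟩ := (hex ξ).1 h2
  exact key ζ

end FlatKer

section NilNak

variable {A : Type*} [CommRing A] {M : Type*} [AddCommGroup M] [Module A M]

theorem le_sup_pow_smul (N : Submodule A M) (𝔪 : Ideal A)
    (h : N ⊔ 𝔪 • (⊤ : Submodule A M) = ⊤) (n : ℕ) :
    (⊤ : Submodule A M) ≤ N ⊔ (𝔪 ^ n) • (⊤ : Submodule A M) := by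
  induction n with
  | zero => simp
  | succ n ih =>
    calc (⊤ : Submodule A M) = N ⊔ 𝔪 • (⊤ : Submodule A M) := h.symm
      _ ≤ N ⊔ 𝔪 • (N ⊔ (𝔪 ^ n) • (⊤ : Submodule A M)) :=
        sup_le_sup_left (Submodule.smul_mono le_rfl ih) _
      _ = N ⊔ (𝔪 • N ⊔ 𝔪 • (𝔪 ^ n) • (⊤ : Submodule A M)) := by rw [Submodule.smul_sup]
      _ ≤ N ⊔ (𝔪 ^ (n + 1)) • (⊤ : Submodule A M) := by
        rw [← Submodule.mul_smul, ← pow_succ']
        exact sup_le le_sup_left (sup_le (le_sup_of_le_left Submodule.smul_le_right) le_sup_right)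

/-- Nakayama for a nilpotent ideal. -/
theorem eq_top_of_sup_smul_eq_top (N : Submodule A M) (𝔪 : Ideal A) (hm : IsNilpotent 𝔪)
    (h : N ⊔ 𝔪 • (⊤ : Submodule A M) = ⊤) : N = ⊤ := by
  obtain ⟨n, hn⟩ := hm
  have := le_sup_pow_smul N 𝔪 h n
  rw [hn, Ideal.zero_eq_bot, Submodule.bot_smul, sup_bot_eq] at this
  exact top_le_iff.1 this

theorem le_sup_pow_smul' (N K : Submodule A M) (𝔪 : Ideal A)
    (h : K ≤ N ⊔ 𝔪 • K) (n : ℕ) : K ≤ N ⊔ (𝔪 ^ n) • K := by
  induction n with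
  | zero => simp
  | succ n ih =>
    calc K ≤ N ⊔ 𝔪 • K := h
      _ ≤ N ⊔ 𝔪 • (N ⊔ (𝔪 ^ n) • K) :=
        sup_le_sup_left (Submodule.smul_mono le_rfl ih) _
      _ = N ⊔ (𝔪 • N ⊔ 𝔪 • (𝔪 ^ n) • K) := by rw [Submodule.smul_sup]
      _ ≤ N ⊔ (𝔪 ^ (n + 1)) • K := by
        rw [← Submodule.mul_smul, ← pow_succ']
        exact sup_le le_sup_left (sup_le (le_sup_of_le_left Submodule.smul_le_right) le_sup_right)

/-- relative Nakayama for a nilpotent ideal. -/
theorem le_of_le_sup_smul (N K : Submodule A M) (𝔪 : Ideal A) (hm : IsNilpotent 𝔪)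
    (h : K ≤ N ⊔ 𝔪 • K) : K ≤ N := by
  obtain ⟨n, hn⟩ := hm
  have := le_sup_pow_smul' N K 𝔪 h n
  rw [hn, Ideal.zero_eq_bot, Submodule.bot_smul, sup_bot_eq] at this
  exact this

end NilNak

end Groth.Agent.Helper17.OBS1
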