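import Mathlib
import Groth.Agent.Lib.Helper17.OBS1
import Groth.Agent.Lib.Helper17.RG1

/-!
# Obstruction theory helpers (2): polynomial rings over a small extension (helper17)
-/

set_option autoImplicit false

namespace Groth.Agent.Helper17.OBS2

open IsLocalRing Function MvPolynomial

universe u

section OneRing

variable {k : Type u} [Field k] {A : Type u} [CommRing A] [IsLocalRing A] [Algebra k A]
  (e : A →ₐ[k] k) {ι : Type u}

/-- reduction of coefficients -/
noncomputable abbrev red : MvPolynomial ι A →+* MvPolynomial ι k := MvPolynomial.map (e : A →+* k)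

/-- constant-coefficient lift -/
noncomputable abbrev inc : MvPolynomial ι k →+* MvPolynomial ι A :=
  MvPolynomial.map (algebraMap k A)

theorem red_inc (r : MvPolynomial ι k) : red e (inc (A := A) r) = r := by
  rw [red, inc, MvPolynomial.map_map]
  have : (e : A →+* k).comp (algebraMap k A) = RingHom.id k := by
    ext c
    simp
  rw [this, MvPolynomial.map_id]

theorem coeff_mem_of_red_eq_zero {x : MvPolynomial ι A} (hx : red e x = 0) (m : ι →₀ ℕ) :
    coeff m x ∈ maximalIdeal A := by
  rw [← Groth.Agent.Helper17.RG1.ker_e_eq e, RingHom.mem_ker]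
  have := congrArg (coeff m) hx
  rwa [red, MvPolynomial.coeff_map, coeff_zero] at this

theorem red_eq_zero_of_coeff_mem {x : MvPolynomial ι A}
    (hx : ∀ m, coeff m x ∈ maximalIdeal A) : red e x = 0 := by
  ext m
  rw [red, MvPolynomial.coeff_map, coeff_zero]
  have := hx m
  rwa [← Groth.Agent.Helper17.RG1.ker_e_eq e, RingHom.mem_ker] at this

/-- polynomials reducing to zero lie in `m • ⊤`. -/
theorem mem_smul_top_of_red_eq_zero {x : MvPolynomial ι A} (hx : red e x = 0) :
    x ∈ (maximalIdeal A) • (⊤ : Submodule A (MvPolynomial ι A)) := by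
  rw [← MvPolynomial.support_sum_monomial_coeff x]
  refine Submodule.sum_mem _ fun m _ => ?_
  have : monomial m (coeff m x) = coeff m x • monomial m (1 : A) := by
    rw [MvPolynomial.smul_monomial, smul_eq_mul, mul_one]
  rw [this]
  exact Submodule.smul_mem_smul (coeff_mem_of_red_eq_zero e hx m) Submodule.mem_top

theorem red_smul (a : A) (x : MvPolynomial ι A) : red e (a • x) = e a • red e x := by
  rw [MvPolynomial.smul_eq_C_mul, map_mul, red, MvPolynomial.map_C, MvPolynomial.smul_eq_C_mul]
  rfl

theorem red_eq_zero_of_mem_smul {N : Submodule A (MvPolynomial ι A)} {x : MvPolynomial ι A}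
    (hx : x ∈ (maximalIdeal A) • N) : red e x = 0 := by
  refine Submodule.smul_induction_on hx (fun a ha n _ => ?_) (fun x y hx hy => ?_)
  · rw [red_smul]
    have : e a = 0 := by
      rwa [← Groth.Agent.Helper17.RG1.ker_e_eq e, RingHom.mem_ker] at ha
    rw [this, zero_smul]
  · rw [map_add, hx, hy, add_zero]

variable {σ : Type u} [Fintype σ]

/-- tuples reducing to zero lie in `m • ⊤`. -/
theorem tuple_mem_smul_top {D : σ → MvPolynomial ι A} (hD : ∀ s, red e (D s) = 0) :
    D ∈ (maximalIdeal A) • (⊤ : Submodule A (σ → MvPolynomial ι A)) := by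
  classical
  have h1 : D = ∑ s, (LinearMap.single A (fun _ : σ => MvPolynomial ι A) s) (D s) := by
    ext s' m
    simp [Finset.sum_apply, Pi.single_apply]
  rw [h1]
  refine Submodule.sum_mem _ fun s _ => ?_
  have h2 := mem_smul_top_of_red_eq_zero e (hD s)
  have h3 : (LinearMap.single A (fun _ : σ => MvPolynomial ι A) s) (D s) ∈
      Submodule.map (LinearMap.single A (fun _ : σ => MvPolynomial ι A) s)
        ((maximalIdeal A) • (⊤ : Submodule A (MvPolynomial ι A))) :=
    Submodule.mem_map_of_mem h2
  rw [Submodule.map_smul''] at h3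
  exact Submodule.smul_mono le_rfl le_top h3

end OneRing

section TwoRings

variable {k : Type u} [Field k] {A' A : Type u} [CommRing A'] [CommRing A] [IsLocalRing A']
  [IsLocalRing A] [Algebra k A'] [Algebra k A]
  (e' : A' →ₐ[k] k) (e : A →ₐ[k] k) (p : A' →ₐ[k] A) (hpe : e.comp p = e')
  (t : A') (hker : RingHom.ker (p : A' →+* A) = Ideal.span {t}) (ht0 : t ≠ 0)
  (hmt : ∀ a ∈ maximalIdeal A', a * t = 0) {ι : Type u}

/-- the coefficient map `A'[X] → A[X]` -/
noncomputable abbrev pm : MvPolynomial ι A' →+* MvPolynomial ι A :=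
  MvPolynomial.map (p : A' →+* A)

include hpe in
theorem red_pm (x : MvPolynomial ι A') : red e (pm p x) = red e' x := by
  rw [red, pm, MvPolynomial.map_map]
  have : (e : A →+* k).comp (p : A' →+* A) = (e' : A' →+* k) := by
    rw [← hpe]
    rfl
  rw [this]

theorem pm_inc (r : MvPolynomial ι k) : pm p (inc (A := A') r) = inc (A := A) r := by
  rw [pm, inc, MvPolynomial.map_map]
  have : (p : A' →+* A).comp (algebraMap k A') = algebraMap k A := by
    ext c
    simp
  rw [this]

include hker in
theorem exists_of_pm_eq_zero {x : MvPolynomial ι A'} (hx : pm p x = 0) :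
    ∃ z, x = C t * z := by
  have h1 : x ∈ RingHom.ker (pm (ι := ι) p) := hx
  rw [pm, MvPolynomial.ker_map, hker, Ideal.map_span, Set.image_singleton,
    Ideal.mem_span_singleton'] at h1
  obtain ⟨z, hz⟩ := h1
  exact ⟨z, by rw [← hz, mul_comm]⟩

include hker in
theorem pm_C_t : pm (ι := ι) p (C t) = 0 := by
  rw [pm, MvPolynomial.map_C]
  have : (p : A' →+* A) t = 0 := by
    have : t ∈ RingHom.ker (p : A' →+* A) := by
      rw [hker]
      exact Ideal.subset_span rfl
    exact this
  rw [this, map_zero]

include ht0 in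
theorem red_eq_zero_of_C_mul_eq_zero {z : MvPolynomial ι A'} (hz : C t * z = 0) :
    red e' z = 0 := by
  apply red_eq_zero_of_coeff_mem
  intro m
  have h1 := congrArg (coeff m) hz
  rw [MvPolynomial.coeff_C_mul, coeff_zero] at h1
  by_contra hc
  have hu : IsUnit (coeff m z) := by
    by_contra hnu
    exact hc ((IsLocalRing.mem_maximalIdeal _).2 hnu)
  exact ht0 (by
    have := congrArg (fun y => y * (hu.unit⁻¹ : A'ˣ).1) h1
    simp only [zero_mul, mul_assoc] at this
    rwa [IsUnit.mul_val_inv, mul_one] at this)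

include hmt in
theorem C_mul_eq_zero_of_red_eq_zero {z : MvPolynomial ι A'} (hz : red e' z = 0) :
    C t * z = 0 := by
  ext m
  rw [MvPolynomial.coeff_C_mul, coeff_zero, mul_comm]
  exact hmt _ (coeff_mem_of_red_eq_zero e' hz m)

include hmt in
theorem C_mul_eq_of_red_eq {z z' : MvPolynomial ι A'} (hz : red e' z = red e' z') :
    C t * z = C t * z' := by
  have : red e' (z - z') = 0 := by rw [map_sub, hz, sub_self]
  have := C_mul_eq_zero_of_red_eq_zero e' t hmt this
  rwa [mul_sub, sub_eq_zero] at this

include ht0 in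
theorem red_eq_of_C_mul_eq {z z' : MvPolynomial ι A'} (hz : C t * z = C t * z') :
    red e' z = red e' z' := by
  have : C t * (z - z') = 0 := by rw [mul_sub, hz, sub_self]
  have := red_eq_zero_of_C_mul_eq_zero e' t ht0 this
  rwa [map_sub, sub_eq_zero] at this

end TwoRings

end Groth.Agent.Helper17.OBS2
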