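import Mathlib
import Groth.Agent.Lib.Helper17.OBS2
import Groth.Agent.Lib.Helper22.ArtFlat

/-!
# Obstruction theory helpers (3): presenting a flat deformation over an Artinian base (helper17)
-/

set_option autoImplicit false
set_option linter.unusedSectionVars false

namespace Groth.Agent.Helper17.OBS3

open IsLocalRing Function MvPolynomial Groth.Agent.Helper17.OBS2

universe u

variable {k : Type u} [Field k] {A : Type u} [CommRing A] [IsLocalRing A] [Algebra k A]
  (e : A →ₐ[k] k) (hm : IsNilpotent (maximalIdeal A))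
  {B₀ : Type u} [CommRing B₀] [Algebra k B₀] {ι σ : Type u} [Fintype σ]
  (π₀ : MvPolynomial ι k →+* B₀) (hπ₀surj : Surjective π₀)
  (hπ₀C : ∀ c, π₀ (C c) = algebraMap k B₀ c)
  (f : σ → MvPolynomial ι k) (hf : RingHom.ker π₀ = Ideal.span (Set.range f))
  {B : Type u} [CommRing B] [Algebra A B] [Module.Flat A B]
  (π : B →+* B₀) (hπsurj : Surjective π)
  (hπα : ∀ a, π (algebraMap A B a) = algebraMap k B₀ (e a))
  (hkerπ : RingHom.ker π = (maximalIdeal A).map (algebraMap A B))

/-- the data extracted from a flat deformation -/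
structure Pres (Ψ : MvPolynomial ι A →ₐ[A] B) (F : σ → MvPolynomial ι A) : Prop where
  surj : Surjective Ψ
  compat : ∀ x, π (Ψ x) = π₀ (red e x)
  redF : ∀ s, red e (F s) = f s
  ker_iff : ∀ x, Ψ x = 0 ↔ x ∈ Ideal.span (Set.range F)
  rl : ∀ q : σ → MvPolynomial ι k, ∑ s, q s * f s = 0 →
    ∃ C : σ → MvPolynomial ι A, (∀ s, red e (C s) = q s) ∧ ∑ s, C s * F s = 0
  l0 : ∀ D : σ → MvPolynomial ι A, (∀ s, red e (D s) = 0) → ∑ s, D s * F s = 0 →
    D ∈ (maximalIdeal A) •
      LinearMap.ker ((Fintype.linearCombination (MvPolynomial ι A) F).restrictScalars A)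

include hkerπ in
theorem mem_smul_top_of_π_eq_zero {y : B} (hy : π y = 0) :
    y ∈ (maximalIdeal A) • (⊤ : Submodule A B) := by
  rw [Ideal.smul_top_eq_map, Submodule.restrictScalars_mem, ← hkerπ]
  exact hy

include hm hπ₀surj hπ₀C hf hπsurj hπα hkerπ in
theorem exists_pres : ∃ (Ψ : MvPolynomial ι A →ₐ[A] B) (F : σ → MvPolynomial ι A),
    Pres e π₀ f π Ψ F := by
  classical
  -- generators
  have hb : ∀ i : ι, ∃ b : B, π b = π₀ (X i) := fun i => hπsurj _
  choose b hb using hb
  let Ψ : MvPolynomial ι A →ₐ[A] B := MvPolynomial.aeval b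
  have hcompat : ∀ x, π (Ψ x) = π₀ (red e x) := by
    have : π.comp (Ψ : MvPolynomial ι A →+* B) = π₀.comp (red e) := by
      refine MvPolynomial.ringHom_ext (fun a => ?_) (fun i => ?_)
      · simp only [RingHom.coe_comp, comp_apply]
        rw [show (Ψ : MvPolynomial ι A →+* B) (C a) = algebraMap A B a from by
          simp [Ψ, MvPolynomial.algebraMap_eq], hπα, red, MvPolynomial.map_C, hπ₀C]
        rfl
      · simp only [RingHom.coe_comp, comp_apply]
        rw [show (Ψ : MvPolynomial ι A →+* B) (X i) = b i from by simp [Ψ], hb, red,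
          MvPolynomial.map_X]
    intro x
    exact congrArg (fun g => g x) this
  -- surjectivity
  have hsurj : Surjective Ψ := by
    have h1 : LinearMap.range Ψ.toLinearMap ⊔ (maximalIdeal A) • (⊤ : Submodule A B) = ⊤ := by
      rw [eq_top_iff]
      intro y _
      obtain ⟨r, hr⟩ := hπ₀surj (π y)
      have h2 : π (y - Ψ (inc r)) = 0 := by
        rw [map_sub, hcompat, red_inc, hr, sub_self]
      rw [Submodule.mem_sup]
      exact ⟨Ψ (inc r), ⟨inc r, rfl⟩, y - Ψ (inc r),
        mem_smul_top_of_π_eq_zero π hkerπ h2, by abel⟩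
    have h3 := Groth.Agent.Helper17.OBS1.eq_top_of_sup_smul_eq_top _ _ hm h1
    intro y
    have : y ∈ LinearMap.range Ψ.toLinearMap := by rw [h3]; trivial
    obtain ⟨x, hx⟩ := this
    exact ⟨x, hx⟩
  -- lifting elements of `m B`
  have hlift : ∀ y ∈ (maximalIdeal A) • (⊤ : Submodule A B),
      ∃ E, red e E = 0 ∧ Ψ E = y := by
    intro y hy
    refine Submodule.smul_induction_on hy (fun a ha y' _ => ?_) (fun y₁ y₂ h₁ h₂ => ?_)
    · obtain ⟨s', hs'⟩ := hsurj y'
      refine ⟨a • s', ?_, ?_⟩
      · rw [red_smul]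
        have : e a = 0 := by
          rwa [← Groth.Agent.Helper17.RG1.ker_e_eq e, RingHom.mem_ker] at ha
        rw [this, zero_smul]
      · rw [map_smul, hs']
    · obtain ⟨E₁, h1, h1'⟩ := h₁
      obtain ⟨E₂, h2, h2'⟩ := h₂
      exact ⟨E₁ + E₂, by rw [map_add, h1, h2, add_zero], by rw [map_add, h1', h2']⟩
  have hf0 : ∀ s, π₀ (f s) = 0 := by
    intro s
    have : f s ∈ RingHom.ker π₀ := by
      rw [hf]
      exact Ideal.subset_span ⟨s, rfl⟩
    exact this
  have hE : ∀ s, ∃ E, red e E = 0 ∧ Ψ E = Ψ (inc (f s)) := by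
    intro s
    apply hlift
    apply mem_smul_top_of_π_eq_zero π hkerπ
    rw [hcompat, red_inc, hf0]
  choose E hE0 hE1 using hE
  let F : σ → MvPolynomial ι A := fun s => inc (f s) - E s
  have hredF : ∀ s, red e (F s) = f s := by
    intro s
    simp only [F]
    rw [map_sub, red_inc, hE0, sub_zero]
  have hΨF : ∀ s, Ψ (F s) = 0 := by
    intro s
    simp only [F]
    rw [map_sub, hE1, sub_self]
  have hflatker := fun {x : MvPolynomial ι A} (h1 : red e x = 0) (h2 : Ψ x = 0) =>
    Groth.Agent.Helper17.OBS1.mem_smul_ker_of_flat Ψ.toLinearMap hsurj (maximalIdeal A)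
      (mem_smul_top_of_red_eq_zero e h1) h2
  -- the kernel
  have hspanle : Ideal.span (Set.range F) ≤ RingHom.ker (Ψ : MvPolynomial ι A →+* B) := by
    rw [Ideal.span_le]
    rintro _ ⟨s, rfl⟩
    exact hΨF s
  have hker : ∀ x, Ψ x = 0 → x ∈ Ideal.span (Set.range F) := by
    have h1 : LinearMap.ker Ψ.toLinearMap ≤
        (Ideal.span (Set.range F)).restrictScalars A := by
      apply Groth.Agent.Helper17.OBS1.le_of_le_sup_smul _ _ (maximalIdeal A) hm
      intro x hx
      have hx0 : Ψ x = 0 := hx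
      have h2 : red e x ∈ RingHom.ker π₀ := by
        rw [RingHom.mem_ker, ← hcompat, hx0, map_zero]
      rw [hf, Ideal.mem_span_range_iff_exists_fun] at h2
      obtain ⟨c, hc⟩ := h2
      have h3 : ∑ s, inc (A := A) (c s) * F s ∈ Ideal.span (Set.range F) :=
        Ideal.sum_mem _ fun s _ => Ideal.mul_mem_left _ _ (Ideal.subset_span ⟨s, rfl⟩)
      have h4 : red e (x - ∑ s, inc (A := A) (c s) * F s) = 0 := by
        rw [map_sub, map_sum, ← hc, sub_eq_zero]
        refine Finset.sum_congr rfl fun s _ => ?_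
        rw [map_mul, red_inc, hredF]
      have h5 : Ψ (x - ∑ s, inc (A := A) (c s) * F s) = 0 := by
        rw [map_sub, hx0, map_sum, zero_sub, neg_eq_zero]
        refine Finset.sum_eq_zero fun s _ => ?_
        rw [map_mul, hΨF, mul_zero]
      rw [Submodule.mem_sup]
      exact ⟨_, h3, _, hflatker h4 h5, by abel⟩
    intro x hx
    exact h1 hx
  -- lifting elements of `m I` to tuples
  have hElift : ∀ y ∈ (maximalIdeal A) • LinearMap.ker Ψ.toLinearMap,
      ∃ E' : σ → MvPolynomial ι A, (∀ s, red e (E' s) = 0) ∧ ∑ s, E' s * F s = y := by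
    intro y hy
    refine Submodule.smul_induction_on hy (fun a ha j hj => ?_) (fun y₁ y₂ h₁ h₂ => ?_)
    · have hj' := hker j hj
      rw [Ideal.mem_span_range_iff_exists_fun] at hj'
      obtain ⟨c, hc⟩ := hj'
      refine ⟨fun s => a • c s, fun s => ?_, ?_⟩
      · rw [red_smul]
        have : e a = 0 := by
          rwa [← Groth.Agent.Helper17.RG1.ker_e_eq e, RingHom.mem_ker] at ha
        rw [this, zero_smul]
      · rw [← hc, Finset.smul_sum]
        refine Finset.sum_congr rfl fun s _ => ?_
        rw [smul_mul_assoc]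
    · obtain ⟨E₁, h1, h1'⟩ := h₁
      obtain ⟨E₂, h2, h2'⟩ := h₂
      refine ⟨fun s => E₁ s + E₂ s, fun s => by rw [map_add, h1, h2, add_zero], ?_⟩
      rw [← h1', ← h2', ← Finset.sum_add_distrib]
      refine Finset.sum_congr rfl fun s _ => ?_
      rw [add_mul]
  refine ⟨Ψ, F, hsurj, hcompat, hredF, fun x => ⟨hker x, fun hx => hspanle hx⟩, ?_, ?_⟩
  · -- relations lift
    intro q hq
    have h1 : red e (∑ s, inc (A := A) (q s) * F s) = 0 := by
      rw [map_sum, ← hq]
      refine Finset.sum_congr rfl fun s _ => ?_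
      rw [map_mul, red_inc, hredF]
    have h2 : Ψ (∑ s, inc (A := A) (q s) * F s) = 0 := by
      rw [map_sum]
      refine Finset.sum_eq_zero fun s _ => ?_
      rw [map_mul, hΨF, mul_zero]
    obtain ⟨E', hE'0, hE'1⟩ := hElift _ (hflatker h1 h2)
    refine ⟨fun s => inc (q s) - E' s, fun s => by rw [map_sub, red_inc, hE'0, sub_zero], ?_⟩
    rw [← sub_eq_zero.2 hE'1.symm, ← Finset.sum_sub_distrib]
    refine Finset.sum_congr rfl fun s _ => ?_
    rw [sub_mul]
  · -- Lemma 0
    intro D hD0 hDF
    let K := LinearMap.ker Ψ.toLinearMap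
    haveI : Module.Flat A K :=
      Groth.Agent.Helper22.ArtFlat.flat_of_exact_of_flat K.subtype Ψ.toLinearMap
        (Submodule.injective_subtype _) hsurj (LinearMap.exact_subtype_ker_map _)
    let g := (Fintype.linearCombination (MvPolynomial ι A) F).restrictScalars A
    have hgK : ∀ C', g C' ∈ K := by
      intro C'
      change Ψ (Fintype.linearCombination (MvPolynomial ι A) F C') = 0
      rw [Fintype.linearCombination_apply, map_sum]
      refine Finset.sum_eq_zero fun s _ => ?_
      rw [smul_eq_mul, map_mul, hΨF, mul_zero]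
    let g' : (σ → MvPolynomial ι A) →ₗ[A] K := LinearMap.codRestrict K g hgK
    have hg'surj : Surjective g' := by
      rintro ⟨x, hx⟩
      have hx' := hker x hx
      rw [Ideal.mem_span_range_iff_exists_fun] at hx'
      obtain ⟨c, hc⟩ := hx'
      refine ⟨c, Subtype.ext ?_⟩
      change Fintype.linearCombination (MvPolynomial ι A) F c = x
      rw [Fintype.linearCombination_apply, ← hc]
      rfl
    have hg'D : g' D = 0 := by
      apply Subtype.ext
      change Fintype.linearCombination (MvPolynomial ι A) F D = 0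
      rw [Fintype.linearCombination_apply, ← hDF]
      rfl
    have := Groth.Agent.Helper17.OBS1.mem_smul_ker_of_flat g' hg'surj (maximalIdeal A)
      (tuple_mem_smul_top e hD0) hg'D
    rwa [LinearMap.ker_codRestrict] at this

end Groth.Agent.Helper17.OBS3
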