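import Mathlib
import Groth.Prelude.Def_CotT

/-!
# Obstruction theory helpers (4): using the vanishing of `T²` (helper17)
-/

set_option autoImplicit false

namespace Groth.Agent.Helper17.OBS4

open TensorProduct Function

universe u

variable {k : Type u} [Field k] {B₀ : Type u} [CommRing B₀] [Algebra k B₀] {ι σ : Type u}
  [Fintype σ] (P : Algebra.Presentation k B₀ ι σ)

/-- If `T² = 0`, every linear map on the relation module killing the trivial relations is given
by a family of elements of `B₀`. -/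
theorem exists_g_of_T2 (hT2 : Subsingleton (CotT.T2 P B₀))
    (h₀ : CotT.relKer P →ₗ[P.toExtension.Ring] B₀)
    (hh₀ : ∀ x : CotT.relKer P, (x : CotT.relMod P) ∈ CotT.trivRel P → h₀ x = 0) :
    ∃ g : σ → B₀, ∀ q : CotT.relKer P,
      h₀ q = ∑ s, algebraMap P.toExtension.Ring B₀ ((q : CotT.relMod P) s) * g s := by
  classical
  let hL : B₀ ⊗[P.toExtension.Ring] CotT.relKer P →ₗ[B₀] B₀ := LinearMap.liftBaseChange B₀ h₀
  have hle : LinearMap.range ((CotT.trivRelKer P).subtype.baseChange B₀) ≤ LinearMap.ker hL := by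
    rw [LinearMap.range_le_ker_iff]
    refine TensorProduct.AlgebraTensorModule.ext fun b x => ?_
    simp only [LinearMap.coe_comp, comp_apply, LinearMap.baseChange_tmul, Submodule.coe_subtype,
      LinearMap.zero_apply, hL, LinearMap.liftBaseChange_tmul]
    have hx : ((x : CotT.relKer P) : CotT.relMod P) ∈ CotT.trivRel P := x.2
    rw [hh₀ _ hx, smul_zero]
  let h : CotT.L2 P →ₗ[B₀] B₀ := Submodule.liftQ _ hL hle
  have h0 : CotT.toT2 P B₀ h = 0 := Subsingleton.elim _ _
  have h1 : h ∈ LinearMap.range (CotT.d2Star P B₀) := by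
    have := (Submodule.Quotient.mk_eq_zero (LinearMap.range (CotT.d2Star P B₀))).1 h0
    exact this
  obtain ⟨ψ, hψ⟩ := h1
  rw [CotT.d2Star_apply] at hψ
  refine ⟨fun s => ψ ((1 : B₀) ⊗ₜ Finsupp.single s (1 : P.toExtension.Ring)), fun q => ?_⟩
  have e1 : h₀ q = h (Submodule.Quotient.mk ((1 : B₀) ⊗ₜ q)) := by
    change h₀ q = hL ((1 : B₀) ⊗ₜ q)
    simp only [hL, LinearMap.liftBaseChange_tmul, one_smul]
  have e2 : h (Submodule.Quotient.mk ((1 : B₀) ⊗ₜ q)) = ψ ((1 : B₀) ⊗ₜ (q : CotT.relMod P)) := by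
    rw [← hψ, LinearMap.comp_apply, CotT.d2_mk_tmul]
  have e3 : ((1 : B₀) ⊗ₜ[P.toExtension.Ring] (q : CotT.relMod P) : CotT.L1 P) =
      ∑ s, algebraMap P.toExtension.Ring B₀ ((q : CotT.relMod P) s) •
        ((1 : B₀) ⊗ₜ[P.toExtension.Ring] Finsupp.single s (1 : P.toExtension.Ring)) := by
    conv_lhs => rw [← Finsupp.univ_sum_single (q : CotT.relMod P)]
    rw [TensorProduct.tmul_sum]
    refine Finset.sum_congr rfl fun s _ => ?_
    have : Finsupp.single s ((q : CotT.relMod P) s) =
        ((q : CotT.relMod P) s) • Finsupp.single s (1 : P.toExtension.Ring) := by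
      rw [Finsupp.smul_single, smul_eq_mul, mul_one]
    rw [this, TensorProduct.tmul_smul, TensorProduct.smul_tmul', TensorProduct.smul_tmul',
      Algebra.smul_def, mul_one, smul_eq_mul, mul_one]
  rw [e1, e2, e3, map_sum]
  refine Finset.sum_congr rfl fun s _ => ?_
  rw [map_smul, smul_eq_mul]

end Groth.Agent.Helper17.OBS4
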