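import Mathlib
import Groth.Prelude.Def_CotT
import Groth.Agent.Lib.Helper17.OBS4

/-!
# Obstruction theory helpers (6): `T² = 0` kills additive, equivariant relations on the relation
module that vanish on Koszul relations (helper17)
-/

set_option autoImplicit false

namespace Groth.Agent.Helper17.OBS6

open TensorProduct Function MvPolynomial

universe u

variable {k : Type u} [Field k] {B₀ : Type u} [CommRing B₀] [Algebra k B₀] {ι σ : Type u}
  [Fintype σ] (P : Algebra.Presentation k B₀ ι σ)

/-- the underlying function of an element of the relation module -/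
noncomputable def toFun (x : CotT.relMod P) : σ → MvPolynomial ι k := fun s => x s

theorem jmap_eq (x : CotT.relMod P) :
    (CotT.jmap P x : MvPolynomial ι k) = ∑ s, toFun P x s * P.relation s := by
  have : CotT.jmap P x = ∑ s, x s • CotT.rel P s := by
    rw [CotT.jmap, Finsupp.linearCombination_apply, Finsupp.sum_fintype]
    intro i
    exact zero_smul _ _
  exact this

theorem sum_eq_zero_of_mem (x : CotT.relMod P) (hx : x ∈ CotT.relKer P) :
    ∑ s, toFun P x s * P.relation s = 0 := by
  rw [← jmap_eq]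
  exact hx

/-- a function as an element of the free module -/
noncomputable def ofFun (q : σ → MvPolynomial ι k) : CotT.relMod P :=
  Finsupp.equivFunOnFinite.symm q

theorem toFun_ofFun (q : σ → MvPolynomial ι k) : toFun P (ofFun P q) = q := by
  funext s
  rfl

theorem ofFun_mem (q : σ → MvPolynomial ι k) (hq : ∑ s, q s * P.relation s = 0) :
    ofFun P q ∈ CotT.relKer P := by
  change CotT.jmap P (ofFun P q) = 0
  have := jmap_eq P (ofFun P q)
  rw [toFun_ofFun, hq] at this
  exact this

theorem exists_g_rel (hT2 : Subsingleton (CotT.T2 P B₀))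
    (Ob : (σ → MvPolynomial ι k) → B₀ → Prop)
    (htot : ∀ q, ∑ s, q s * P.relation s = 0 → ∃ b, Ob q b)
    (huniq : ∀ q b₁ b₂, Ob q b₁ → Ob q b₂ → b₁ = b₂)
    (hadd : ∀ q q' b b', Ob q b → Ob q' b' → Ob (fun s => q s + q' s) (b + b'))
    (hsmul : ∀ r q b, Ob q b → Ob (fun s => r * q s) (aeval P.val r * b))
    (hkos : ∀ a b : σ → MvPolynomial ι k,
      Ob (fun s => (∑ u, a u * P.relation u) * b s - (∑ u, b u * P.relation u) * a s) 0) :
    ∃ g : σ → B₀, ∀ q b, ∑ s, q s * P.relation s = 0 → Ob q b →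
      b = ∑ s, aeval P.val (q s) * g s := by
  classical
  have hex : ∀ x : CotT.relKer P, ∃ b, Ob (toFun P x.1) b := fun x =>
    htot _ (sum_eq_zero_of_mem P x.1 x.2)
  choose h hh using hex
  have hzero : ∀ b, Ob (fun _ => 0) b → b = 0 := by
    intro b hb
    have h2 := hadd _ _ _ _ hb hb
    have h3 : (fun s : σ => (0 : MvPolynomial ι k) + 0) = fun _ => 0 := by
      funext s; rw [add_zero]
    rw [h3] at h2
    have := huniq _ _ _ hb h2
    have h4 : b + b = b + 0 := by rw [add_zero]; exact this.symm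
    exact add_left_cancel h4
  let h₀ : CotT.relKer P →ₗ[P.toExtension.Ring] B₀ :=
    { toFun := h
      map_add' := fun x y => by
        refine huniq _ _ _ (hh (x + y)) ?_
        exact hadd _ _ _ _ (hh x) (hh y)
      map_smul' := fun r x => by
        have h1 := hsmul r _ _ (hh x)
        have h2 := huniq _ _ _ (hh (r • x)) h1
        rw [h2, RingHom.id_apply, Algebra.smul_def, CotT.algebraMap_toExtension] }
  have hh₀ : ∀ x : CotT.relKer P, (x : CotT.relMod P) ∈ CotT.trivRel P → h₀ x = 0 := by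
    intro x hx
    have key : ∀ y (hy : y ∈ CotT.trivRel P) (hyk : y ∈ CotT.relKer P), h₀ ⟨y, hyk⟩ = 0 := by
      intro y hy
      refine Submodule.span_induction (p := fun y _ => ∀ hyk : y ∈ CotT.relKer P,
        h₀ ⟨y, hyk⟩ = 0) ?_ ?_ ?_ ?_ hy
      · rintro y ⟨a, b, rfl⟩ hyk
        have h1 := hkos (toFun P a) (toFun P b)
        have h2 : toFun P (CotT.jmap P a • b - CotT.jmap P b • a) =
            fun s => (∑ u, toFun P a u * P.relation u) * toFun P b s -
              (∑ u, toFun P b u * P.relation u) * toFun P a s := by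
          funext s
          rw [← jmap_eq, ← jmap_eq]
          rfl
        rw [← h2] at h1
        exact huniq _ _ _ (hh ⟨_, hyk⟩) h1
      · intro hyk
        exact map_zero h₀
      · intro y₁ y₂ hy₁ hy₂ h₁ h₂ hyk
        have k₁ := CotT.trivRel_le_relKer P hy₁
        have k₂ := CotT.trivRel_le_relKer P hy₂
        have : (⟨y₁ + y₂, hyk⟩ : CotT.relKer P) = ⟨y₁, k₁⟩ + ⟨y₂, k₂⟩ := rfl
        rw [this, map_add, h₁ k₁, h₂ k₂, add_zero]
      · intro r y hy₁ h₁ hyk
        have k₁ := CotT.trivRel_le_relKer P hy₁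
        have : (⟨r • y, hyk⟩ : CotT.relKer P) = r • ⟨y, k₁⟩ := rfl
        rw [this, map_smul, h₁ k₁, smul_zero]
    exact key x.1 hx x.2
  obtain ⟨g, hg⟩ := Groth.Agent.Helper17.OBS4.exists_g_of_T2 P hT2 h₀ hh₀
  refine ⟨g, fun q b hq hb => ?_⟩
  have h1 := hh ⟨ofFun P q, ofFun_mem P q hq⟩
  rw [toFun_ofFun] at h1
  have h2 := huniq _ _ _ hb h1
  rw [h2]
  have h3 := hg ⟨ofFun P q, ofFun_mem P q hq⟩
  change h ⟨ofFun P q, ofFun_mem P q hq⟩ = _ at h3
  rw [h3]
  refine Finset.sum_congr rfl fun s _ => ?_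
  rw [CotT.algebraMap_toExtension]
  rfl

end Groth.Agent.Helper17.OBS6
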