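import Mathlib
import Groth.Agent.Lib.Helper17.OBS2

/-!
# Obstruction theory helpers (5): the obstruction to lifting relations along a small extension
(helper17)
-/

set_option autoImplicit false
set_option linter.unusedSectionVars false

namespace Groth.Agent.Helper17.OBS5

open IsLocalRing Function MvPolynomial Groth.Agent.Helper17.OBS2

universe u

variable {k : Type u} [Field k] {A' A : Type u} [CommRing A'] [CommRing A] [IsLocalRing A']
  [IsLocalRing A] [Algebra k A'] [Algebra k A]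
  (e' : A' →ₐ[k] k) (e : A →ₐ[k] k) (p : A' →ₐ[k] A) (hp : Surjective p) (hpe : e.comp p = e')
  (t : A') (hker : RingHom.ker (p : A' →+* A) = Ideal.span {t}) (ht0 : t ≠ 0)
  (hmt : ∀ a ∈ maximalIdeal A', a * t = 0)
  {B₀ : Type u} [CommRing B₀] {ι σ : Type u} [Fintype σ]
  (π₀ : MvPolynomial ι k →+* B₀)
  (f : σ → MvPolynomial ι k) (hf0 : ∀ s, π₀ (f s) = 0)
  (F : σ → MvPolynomial ι A) (hredF : ∀ s, red e (F s) = f s)
  (F0 : σ → MvPolynomial ι A') (hF0 : ∀ s, pm p (F0 s) = F s)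

/-- the obstruction relation -/
def ObRel (q : σ → MvPolynomial ι k) (b₀ : B₀) : Prop :=
  ∃ (c : σ → MvPolynomial ι A) (c' : σ → MvPolynomial ι A') (z : MvPolynomial ι A'),
    (∀ s, red e (c s) = q s) ∧ ∑ s, c s * F s = 0 ∧ (∀ s, pm p (c' s) = c s) ∧
      ∑ s, c' s * F0 s = C t * z ∧ π₀ (red e' z) = b₀

include hp in
theorem pm_surjective : Surjective (pm (ι := ι) p) := MvPolynomial.map_surjective _ hp

include hp in
theorem exists_lift_tuple (c : σ → MvPolynomial ι A) :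
    ∃ c' : σ → MvPolynomial ι A', ∀ s, pm p (c' s) = c s := by
  choose c' hc' using fun s => pm_surjective p hp (c s)
  exact ⟨c', hc'⟩

include hpe hredF hF0 in
theorem red_F0 (s : σ) : red e' (F0 s) = f s := by
  rw [← red_pm e' e p hpe, hF0, hredF]

include hpe hker in
theorem e'_t : e' t = 0 := by
  have h1 : (p : A' →+* A) t = 0 := by
    have : t ∈ RingHom.ker (p : A' →+* A) := by
      rw [hker]
      exact Ideal.subset_span rfl
    exact this
  have h2 : e' t = e (p t) := by rw [← hpe]; rfl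
  rw [h2]
  have : p t = 0 := h1
  rw [this, map_zero]

include hpe hker in
theorem red_C_t : red e' (C t : MvPolynomial ι A') = 0 := by
  rw [red, MvPolynomial.map_C]
  have : (e' : A' →+* k) t = 0 := e'_t e' e p hpe t hker
  rw [this, map_zero]

theorem pm_smul (a' : A') (x : MvPolynomial ι A') : pm p (a' • x) = p a' • pm p x := by
  rw [MvPolynomial.smul_eq_C_mul, map_mul, pm, MvPolynomial.map_C, MvPolynomial.smul_eq_C_mul]
  rfl

include hpe hker hf0 hredF hF0 in
theorem H1 (D' : σ → MvPolynomial ι A') (hD' : ∀ s, pm p (D' s) = 0) :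
    ∃ w, ∑ s, D' s * F0 s = C t * w ∧ π₀ (red e' w) = 0 := by
  choose u hu using fun s => exists_of_pm_eq_zero p t hker (hD' s)
  refine ⟨∑ s, u s * F0 s, ?_, ?_⟩
  · rw [Finset.mul_sum]
    refine Finset.sum_congr rfl fun s _ => ?_
    rw [hu s, mul_assoc]
  · rw [map_sum, map_sum]
    refine Finset.sum_eq_zero fun s _ => ?_
    rw [map_mul, map_mul, red_F0 e' e p hpe f F hredF F0 hF0, hf0, mul_zero]

include hp hpe hker hmt hf0 hredF hF0 in
theorem H2 (D : σ → MvPolynomial ι A)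
    (hD : D ∈ (maximalIdeal A) •
      LinearMap.ker ((Fintype.linearCombination (MvPolynomial ι A) F).restrictScalars A)) :
    ∀ D' : σ → MvPolynomial ι A', (∀ s, pm p (D' s) = D s) →
      ∃ w, ∑ s, D' s * F0 s = C t * w ∧ π₀ (red e' w) = 0 := by
  refine Submodule.smul_induction_on hD (fun a ha E hE => ?_) (fun D₁ D₂ h₁ h₂ => ?_)
  · intro D' hD'
    have hE0 : ∑ s, E s * F s = 0 := by
      have := hE
      rw [LinearMap.mem_ker, LinearMap.restrictScalars_apply,
        Fintype.linearCombination_apply] at this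
      simpa [smul_eq_mul] using this
    obtain ⟨a', ha'⟩ := hp a
    have ha'm : a' ∈ maximalIdeal A' := by
      rw [← Groth.Agent.Helper17.RG1.ker_e_eq e', RingHom.mem_ker]
      have h2 : e' a' = e (p a') := by rw [← hpe]; rfl
      change e' a' = 0
      rw [h2, ha']
      have : a ∈ RingHom.ker (e : A →+* k) := by
        rw [Groth.Agent.Helper17.RG1.ker_e_eq e]
        exact ha
      exact this
    obtain ⟨E', hE'⟩ := exists_lift_tuple p hp E
    have h1 : pm p (∑ s, E' s * F0 s) = 0 := by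
      rw [map_sum, ← hE0]
      refine Finset.sum_congr rfl fun s _ => ?_
      rw [map_mul, hE', hF0]
    obtain ⟨v, hv⟩ := exists_of_pm_eq_zero p t hker h1
    obtain ⟨w₂, hw₂, hw₂'⟩ := H1 e' e p hpe t hker π₀ f hf0 F hredF F0 hF0
      (fun s => D' s - a' • E' s) (fun s => by
        rw [map_sub, hD', pm_smul, hE', ha']
        simp)
    refine ⟨w₂, ?_, hw₂'⟩
    rw [← hw₂]
    have h3 : ∑ s, (a' • E' s) * F0 s = 0 := by
      have : ∑ s, (a' • E' s) * F0 s = a' • ∑ s, E' s * F0 s := by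
        rw [Finset.smul_sum]
        refine Finset.sum_congr rfl fun s _ => ?_
        rw [smul_mul_assoc]
      rw [this, hv, MvPolynomial.smul_eq_C_mul, ← mul_assoc, ← C_mul, hmt a' ha'm, C_0, zero_mul]
    rw [← add_zero (∑ s, (D' s - a' • E' s) * F0 s), ← h3, ← Finset.sum_add_distrib]
    refine Finset.sum_congr rfl fun s _ => ?_
    ring
  · intro D' hD'
    obtain ⟨D'₁, hD'₁⟩ := exists_lift_tuple p hp D₁
    obtain ⟨w₁, hw₁, hw₁'⟩ := h₁ D'₁ hD'₁
    obtain ⟨w₂, hw₂, hw₂'⟩ := h₂ (fun s => D' s - D'₁ s) (fun s => by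
      rw [map_sub, hD', hD'₁]
      simp)
    refine ⟨w₁ + w₂, ?_, by rw [map_add, map_add, hw₁', hw₂', add_zero]⟩
    rw [mul_add, ← hw₁, ← hw₂, ← Finset.sum_add_distrib]
    refine Finset.sum_congr rfl fun s _ => ?_
    ring

variable (hl0 : ∀ D : σ → MvPolynomial ι A, (∀ s, red e (D s) = 0) → ∑ s, D s * F s = 0 →
    D ∈ (maximalIdeal A) •
      LinearMap.ker ((Fintype.linearCombination (MvPolynomial ι A) F).restrictScalars A))

include hp hpe hker ht0 hmt hf0 hredF hF0 hl0 in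
theorem obRel_unique {q : σ → MvPolynomial ι k} {b₁ b₂ : B₀}
    (h₁ : ObRel e' e p t π₀ F F0 q b₁) (h₂ : ObRel e' e p t π₀ F F0 q b₂) : b₁ = b₂ := by
  obtain ⟨c₁, c'₁, z₁, hc₁, hcF₁, hc'₁, hz₁, hb₁⟩ := h₁
  obtain ⟨c₂, c'₂, z₂, hc₂, hcF₂, hc'₂, hz₂, hb₂⟩ := h₂
  have hD : (fun s => c₁ s - c₂ s) ∈ (maximalIdeal A) •
      LinearMap.ker ((Fintype.linearCombination (MvPolynomial ι A) F).restrictScalars A) := by
    apply hl0
    · intro s
      rw [map_sub, hc₁, hc₂, sub_self]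
    · rw [← sub_self (0 : MvPolynomial ι A)]
      nth_rewrite 1 [← hcF₁]
      nth_rewrite 1 [← hcF₂]
      rw [← Finset.sum_sub_distrib]
      refine Finset.sum_congr rfl fun s _ => ?_
      ring
  obtain ⟨w, hw, hw'⟩ := H2 e' e p hp hpe t hker hmt π₀ f hf0 F hredF F0 hF0 _ hD
    (fun s => c'₁ s - c'₂ s) (fun s => by rw [map_sub, hc'₁, hc'₂])
  have h3 : C t * (z₁ - z₂) = C t * w := by
    rw [mul_sub, ← hz₁, ← hz₂, ← hw, ← Finset.sum_sub_distrib]
    refine Finset.sum_congr rfl fun s _ => ?_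
    ring
  have h4 := red_eq_of_C_mul_eq e' t ht0 h3
  rw [← hb₁, ← hb₂, ← sub_eq_zero, ← map_sub, ← map_sub, h4, hw']

include hp hker hredF hF0 in
theorem obRel_exists (hrl : ∀ q : σ → MvPolynomial ι k, ∑ s, q s * f s = 0 →
      ∃ c : σ → MvPolynomial ι A, (∀ s, red e (c s) = q s) ∧ ∑ s, c s * F s = 0)
    (q : σ → MvPolynomial ι k) (hq : ∑ s, q s * f s = 0) :
    ∃ b₀, ObRel e' e p t π₀ F F0 q b₀ := by
  obtain ⟨c, hc, hcF⟩ := hrl q hq
  obtain ⟨c', hc'⟩ := exists_lift_tuple p hp c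
  have h1 : pm p (∑ s, c' s * F0 s) = 0 := by
    rw [map_sum, ← hcF]
    refine Finset.sum_congr rfl fun s _ => ?_
    rw [map_mul, hc', hF0]
  obtain ⟨z, hz⟩ := exists_of_pm_eq_zero p t hker h1
  exact ⟨_, c, c', z, hc, hcF, hc', hz, rfl⟩

theorem obRel_add {q q' : σ → MvPolynomial ι k} {b b' : B₀}
    (h : ObRel e' e p t π₀ F F0 q b) (h' : ObRel e' e p t π₀ F F0 q' b') :
    ObRel e' e p t π₀ F F0 (fun s => q s + q' s) (b + b') := by
  obtain ⟨c₁, c'₁, z₁, hc₁, hcF₁, hc'₁, hz₁, hb₁⟩ := h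
  obtain ⟨c₂, c'₂, z₂, hc₂, hcF₂, hc'₂, hz₂, hb₂⟩ := h'
  refine ⟨fun s => c₁ s + c₂ s, fun s => c'₁ s + c'₂ s, z₁ + z₂,
    fun s => by rw [map_add, hc₁, hc₂], ?_, fun s => by rw [map_add, hc'₁, hc'₂], ?_,
    by rw [map_add, map_add, hb₁, hb₂]⟩
  · have : ∑ s, (c₁ s + c₂ s) * F s = ∑ s, c₁ s * F s + ∑ s, c₂ s * F s := by
      rw [← Finset.sum_add_distrib]
      exact Finset.sum_congr rfl fun s _ => by ring
    change ∑ s, (c₁ s + c₂ s) * F s = 0
    rw [this, hcF₁, hcF₂, add_zero]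
  · rw [mul_add, ← hz₁, ← hz₂, ← Finset.sum_add_distrib]
    refine Finset.sum_congr rfl fun s _ => ?_
    ring

include hpe in
theorem obRel_smul (r : MvPolynomial ι k) {q : σ → MvPolynomial ι k} {b : B₀}
    (h : ObRel e' e p t π₀ F F0 q b) :
    ObRel e' e p t π₀ F F0 (fun s => r * q s) (π₀ r * b) := by
  obtain ⟨c₁, c'₁, z₁, hc₁, hcF₁, hc'₁, hz₁, hb₁⟩ := h
  refine ⟨fun s => inc r * c₁ s, fun s => inc r * c'₁ s, inc r * z₁,
    fun s => by rw [map_mul, red_inc, hc₁], ?_, fun s => by rw [map_mul, pm_inc, hc'₁], ?_,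
    by rw [map_mul, map_mul, red_inc, hb₁]⟩
  · have : ∑ s, inc (A := A) r * c₁ s * F s = inc r * ∑ s, c₁ s * F s := by
      rw [Finset.mul_sum]
      refine Finset.sum_congr rfl fun s _ => ?_
      ring
    rw [this, hcF₁, mul_zero]
  · have : ∑ s, inc (A := A') r * c'₁ s * F0 s = inc r * ∑ s, c'₁ s * F0 s := by
      rw [Finset.mul_sum]
      refine Finset.sum_congr rfl fun s _ => ?_
      ring
    rw [this, hz₁]
    ring

theorem koszul_sum {T : Type*} [CommRing T] (x y G : σ → T) :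
    ∑ s, ((∑ u, x u * G u) * y s - (∑ u, y u * G u) * x s) * G s = 0 := by
  have h : ∀ s, ((∑ u, x u * G u) * y s - (∑ u, y u * G u) * x s) * G s =
      (∑ u, x u * G u) * (y s * G s) - (∑ u, y u * G u) * (x s * G s) := fun s => by ring
  rw [Finset.sum_congr rfl fun s _ => h s, Finset.sum_sub_distrib, ← Finset.mul_sum,
    ← Finset.mul_sum, mul_comm, sub_self]

include hF0 hredF in
theorem obRel_koszul (a b : σ → MvPolynomial ι k) :
    ObRel e' e p t π₀ F F0
      (fun s => (∑ u, a u * f u) * b s - (∑ u, b u * f u) * a s) 0 := by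
  refine ⟨fun s => (∑ u, inc (a u) * F u) * inc (b s) - (∑ u, inc (b u) * F u) * inc (a s),
    fun s => (∑ u, inc (a u) * F0 u) * inc (b s) - (∑ u, inc (b u) * F0 u) * inc (a s), 0,
    fun s => ?_, ?_, fun s => ?_, ?_, by rw [map_zero, map_zero]⟩
  · simp only [map_sub, map_mul, map_sum, red_inc, hredF]
  · exact koszul_sum (fun u => inc (a u)) (fun u => inc (b u)) F
  · simp only [map_sub, map_mul, map_sum, pm_inc, hF0]
  · rw [mul_zero]
    exact koszul_sum (fun u => inc (a u)) (fun u => inc (b u)) F0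

end Groth.Agent.Helper17.OBS5
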