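import Mathlib
import Groth.Agent.Lib.Helper17.OBS5

/-!
# Obstruction theory helpers (7): correcting the lifted relations (helper17)
-/

set_option autoImplicit false
set_option linter.unusedSectionVars false

namespace Groth.Agent.Helper17.OBS7

open IsLocalRing Function MvPolynomial Groth.Agent.Helper17.OBS2 Groth.Agent.Helper17.OBS5

universe u

variable {k : Type u} [Field k] {A' A : Type u} [CommRing A'] [CommRing A] [IsLocalRing A']
  [IsLocalRing A] [Algebra k A'] [Algebra k A]
  (e' : A' →ₐ[k] k) (e : A →ₐ[k] k) (p : A' →ₐ[k] A) (hp : Surjective p) (hpe : e.comp p = e')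
  (t : A') (hker : RingHom.ker (p : A' →+* A) = Ideal.span {t}) (ht0 : t ≠ 0)
  (hmt : ∀ a ∈ maximalIdeal A', a * t = 0)
  {B₀ : Type u} [CommRing B₀] {ι σ : Type u} [Fintype σ]
  (π₀ : MvPolynomial ι k →+* B₀) (hπ₀surj : Surjective π₀)
  (f : σ → MvPolynomial ι k) (hf : RingHom.ker π₀ = Ideal.span (Set.range f))
  (F : σ → MvPolynomial ι A) (hredF : ∀ s, red e (F s) = f s)
  (F0 : σ → MvPolynomial ι A') (hF0 : ∀ s, pm p (F0 s) = F s)

include hp hpe hker hmt hπ₀surj hf hredF hF0 in
/-- If the obstruction is a "coboundary" `g`, the lifted relations can be corrected so that all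
relations lift. -/
theorem exists_good_lift
    (hrl : ∀ q : σ → MvPolynomial ι k, ∑ s, q s * f s = 0 →
      ∃ c : σ → MvPolynomial ι A, (∀ s, red e (c s) = q s) ∧ ∑ s, c s * F s = 0)
    (g : σ → B₀)
    (hg : ∀ q b, ∑ s, q s * f s = 0 → ObRel e' e p t π₀ F F0 q b → b = ∑ s, π₀ (q s) * g s) :
    ∃ F' : σ → MvPolynomial ι A', (∀ s, pm p (F' s) = F s) ∧ (∀ s, red e' (F' s) = f s) ∧
      ∀ q : σ → MvPolynomial ι k, ∑ s, q s * f s = 0 →
        ∃ c'' : σ → MvPolynomial ι A', (∀ s, red e' (c'' s) = q s) ∧ ∑ s, c'' s * F' s = 0 := by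
  classical
  choose G hG using fun s => hπ₀surj (g s)
  have hredCt : red e' (C t : MvPolynomial ι A') = 0 := red_C_t e' e p hpe t hker
  have hredF0 : ∀ s, red e' (F0 s) = f s := red_F0 e' e p hpe f F hredF F0 hF0
  refine ⟨fun s => F0 s - C t * inc (G s), fun s => ?_, fun s => ?_, fun q hq => ?_⟩
  · rw [map_sub, map_mul, pm_C_t p t hker, zero_mul, sub_zero, hF0]
  · rw [map_sub, map_mul, hredCt, zero_mul, sub_zero, hredF0]
  · obtain ⟨b, c, c', z, hc, hcF, hc', hz, hb⟩ :=
      obRel_exists e' e p hp t hker π₀ f F hredF F0 hF0 hrl q hq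
    have hb2 := hg q b hq ⟨c, c', z, hc, hcF, hc', hz, hb⟩
    have hredc' : ∀ s, red e' (c' s) = q s := fun s => by
      rw [← red_pm e' e p hpe, hc', hc]
    have h1 : red e' z - ∑ s, q s * G s ∈ RingHom.ker π₀ := by
      rw [RingHom.mem_ker, map_sub, hb, hb2, map_sum, sub_eq_zero]
      refine Finset.sum_congr rfl fun s _ => ?_
      rw [map_mul, hG]
    rw [hf] at h1
    obtain ⟨d, hd⟩ := (Ideal.mem_span_range_iff_exists_fun).1 h1
    set F' : σ → MvPolynomial ι A' := fun s => F0 s - C t * inc (G s) with hF'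
    have hredF' : ∀ s, red e' (F' s) = f s := fun s => by
      simp only [hF']
      rw [map_sub, map_mul, hredCt, zero_mul, sub_zero, hredF0]
    have h2 : ∑ s, c' s * F' s = C t * (z - ∑ s, c' s * inc (G s)) := by
      rw [mul_sub, ← hz, Finset.mul_sum, ← Finset.sum_sub_distrib]
      refine Finset.sum_congr rfl fun s _ => ?_
      simp only [hF']
      ring
    have h3 : red e' (z - ∑ s, c' s * inc (G s)) = red e' (∑ s, inc (d s) * F' s) := by
      have : ∑ s, red e' (c' s * inc (G s)) = ∑ s, q s * G s := by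
        refine Finset.sum_congr rfl fun s _ => ?_
        rw [map_mul, hredc', red_inc]
      rw [map_sub, map_sum, map_sum, this, ← hd]
      refine Finset.sum_congr rfl fun s _ => ?_
      rw [map_mul, red_inc, hredF']
    have h4 := C_mul_eq_of_red_eq e' t hmt h3
    refine ⟨fun s => c' s - C t * inc (d s), fun s => ?_, ?_⟩
    · rw [map_sub, map_mul, hredCt, zero_mul, sub_zero, hredc']
    · have : ∑ s, (c' s - C t * inc (d s)) * F' s =
          ∑ s, c' s * F' s - C t * ∑ s, inc (d s) * F' s := by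
        rw [Finset.mul_sum, ← Finset.sum_sub_distrib]
        refine Finset.sum_congr rfl fun s _ => ?_
        ring
      rw [this, h2, h4, sub_self]

end Groth.Agent.Helper17.OBS7
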