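import Mathlib
import Groth.Agent.Lib.Helper17.OBS2
import Groth.Agent.Lib.Helper22.ArtFlat

/-!
# Obstruction theory helpers (8): flatness of a quotient of a polynomial ring whose relations
all lift (helper17)
-/

set_option autoImplicit false
set_option linter.unusedSectionVars false

namespace Groth.Agent.Helper17.OBS8

open IsLocalRing Function MvPolynomial TensorProduct Groth.Agent.Helper17.OBS2

universe u

variable {k : Type u} [Field k] {A' : Type u} [CommRing A'] [IsLocalRing A'] [Algebra k A']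
  (e' : A' →ₐ[k] k) (hm' : IsNilpotent (maximalIdeal A'))
  {ι σ : Type u} [Fintype σ] (f : σ → MvPolynomial ι k)
  (F' : σ → MvPolynomial ι A') (hredF' : ∀ s, red e' (F' s) = f s)
  (hrl' : ∀ q : σ → MvPolynomial ι k, ∑ s, q s * f s = 0 →
    ∃ c'' : σ → MvPolynomial ι A', (∀ s, red e' (c'' s) = q s) ∧ ∑ s, c'' s * F' s = 0)

include hredF' hrl' in
theorem mem_smul_top_sub (x : (Ideal.span (Set.range F')).restrictScalars A')
    (hx : (x : MvPolynomial ι A') ∈ (maximalIdeal A') • (⊤ : Submodule A' (MvPolynomial ι A'))) :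
    x ∈ (maximalIdeal A') •
      (⊤ : Submodule A' ((Ideal.span (Set.range F')).restrictScalars A')) := by
  classical
  let N : Submodule A' (MvPolynomial ι A') := (Ideal.span (Set.range F')).restrictScalars A'
  have hx2 : (x : MvPolynomial ι A') ∈ Ideal.span (Set.range F') := x.2
  obtain ⟨a, ha⟩ := (Ideal.mem_span_range_iff_exists_fun).1 hx2
  have hredx : red e' (x : MvPolynomial ι A') = 0 := red_eq_zero_of_mem_smul e' hx
  have hq : ∑ s, red e' (a s) * f s = 0 := by
    rw [← hredx, ← ha, map_sum]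
    refine Finset.sum_congr rfl fun s _ => ?_
    rw [map_mul, hredF']
  obtain ⟨c'', hc'', hc''F⟩ := hrl' _ hq
  have hD : ∀ s, a s - c'' s ∈ (maximalIdeal A') • (⊤ : Submodule A' (MvPolynomial ι A')) :=
    fun s => mem_smul_top_of_red_eq_zero e' (by rw [map_sub, hc'', sub_self])
  let μ : σ → MvPolynomial ι A' →ₗ[A'] N := fun s =>
    LinearMap.codRestrict N (LinearMap.mulRight A' (F' s)) (fun w => by
      change w * F' s ∈ Ideal.span (Set.range F')
      exact Ideal.mul_mem_left _ _ (Ideal.subset_span ⟨s, rfl⟩))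
  have hxsum : x = ∑ s, μ s (a s - c'' s) := by
    apply Subtype.ext
    rw [AddSubmonoidClass.coe_finset_sum]
    change (x : MvPolynomial ι A') = ∑ s, (a s - c'' s) * F' s
    rw [← ha, ← sub_zero (∑ s, a s * F' s), ← hc''F, ← Finset.sum_sub_distrib]
    refine Finset.sum_congr rfl fun s _ => ?_
    ring
  rw [hxsum]
  refine Submodule.sum_mem _ fun s _ => ?_
  have h3 : μ s (a s - c'' s) ∈ Submodule.map (μ s)
      ((maximalIdeal A') • (⊤ : Submodule A' (MvPolynomial ι A'))) :=
    Submodule.mem_map_of_mem (hD s)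
  rw [Submodule.map_smul''] at h3
  exact Submodule.smul_mono le_rfl le_top h3

include hm' hredF' hrl' in
theorem flat_quot : Module.Flat A' (MvPolynomial ι A' ⧸ Ideal.span (Set.range F')) := by
  set I' : Ideal (MvPolynomial ι A') := Ideal.span (Set.range F') with hI'
  let N : Submodule A' (MvPolynomial ι A') := I'.restrictScalars A'
  let u : N →ₗ[A'] MvPolynomial ι A' := N.subtype
  let g : MvPolynomial ι A' →ₗ[A'] (MvPolynomial ι A' ⧸ I') :=
    (Ideal.Quotient.mkₐ A' I').toLinearMap
  have hex : Exact u g := by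
    intro y
    change Ideal.Quotient.mk I' y = 0 ↔ _
    rw [Ideal.Quotient.eq_zero_iff_mem]
    constructor
    · intro hy
      exact ⟨⟨y, hy⟩, rfl⟩
    · rintro ⟨x, rfl⟩
      exact x.2
  have hg : Surjective g := Ideal.Quotient.mk_surjective
  refine Groth.Agent.Helper22.ArtFlat.flat_of_exact hm' u g hex hg ?_
  rw [injective_iff_map_eq_zero]
  intro z hz
  obtain ⟨x, rfl⟩ := Groth.Agent.Helper22.ArtFlat.exists_one_tmul_eq' (R := A') (N := N) z
  rw [LinearMap.lTensor_tmul, Groth.Agent.Helper22.ArtFlat.one_tmul_eq_zero_iff'] at hz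
  rw [Groth.Agent.Helper22.ArtFlat.one_tmul_eq_zero_iff']
  exact mem_smul_top_sub e' f F' hredF' hrl' x hz

end Groth.Agent.Helper17.OBS8
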