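import Mathlib
import Groth.Agent.Lib.Helper17.OBS3
import Groth.Agent.Lib.Helper17.OBS6
import Groth.Agent.Lib.Helper17.OBS7
import Groth.Agent.Lib.Helper17.OBS8

/-!
# Obstruction theory helpers (9): lifting a flat deformation of a presented algebra with
`T² = 0` along a small extension, ring level (helper17)
-/

set_option autoImplicit false
set_option linter.unusedSectionVars false

namespace Groth.Agent.Helper17.OBS9

open IsLocalRing Function MvPolynomial Groth.Agent.Helper17.OBS2 Groth.Agent.Helper17.OBS5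

universe u

theorem ring_level {k : Type u} [Field k] {A' A : Type u} [CommRing A'] [CommRing A]
    [IsLocalRing A'] [IsLocalRing A] [Algebra k A'] [Algebra k A]
    (e' : A' →ₐ[k] k) (e : A →ₐ[k] k) (p : A' →ₐ[k] A) (hp : Surjective p)
    (hpe : e.comp p = e')
    (t : A') (hker : RingHom.ker (p : A' →+* A) = Ideal.span {t}) (ht0 : t ≠ 0)
    (hmt : ∀ a ∈ maximalIdeal A', a * t = 0)
    (hm : IsNilpotent (maximalIdeal A)) (hm' : IsNilpotent (maximalIdeal A'))
    {B₀ : Type u} [CommRing B₀] [Algebra k B₀] {ι σ : Type u} [Fintype σ]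
    (P : Algebra.Presentation k B₀ ι σ) (hT2 : Subsingleton (CotT.T2 P B₀))
    {B : Type u} [CommRing B] [Algebra A B] [Module.Flat A B]
    (π : B →+* B₀) (hπsurj : Surjective π)
    (hπα : ∀ a, π (algebraMap A B a) = algebraMap k B₀ (e a))
    (hkerπ : RingHom.ker π = (maximalIdeal A).map (algebraMap A B)) :
    ∃ (B'' : Type u) (_ : CommRing B'') (_ : Algebra A' B'') (_ : Module.Flat A' B'')
      (ψ : B'' →+* B), Surjective ψ ∧
        (∀ a', ψ (algebraMap A' B'' a') = algebraMap A B (p a')) ∧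
        RingHom.ker ψ ≤ (RingHom.ker (p : A' →+* A)).map (algebraMap A' B'') := by
  classical
  let π₀ : MvPolynomial ι k →+* B₀ := (aeval P.val : MvPolynomial ι k →ₐ[k] B₀)
  have hπ₀surj : Surjective π₀ := by
    intro b
    obtain ⟨x, hx⟩ := P.algebraMap_surjective b
    refine ⟨x, ?_⟩
    rw [← hx, P.algebraMap_apply]
    rfl
  have hπ₀C : ∀ c, π₀ (C c) = algebraMap k B₀ c := fun c => by
    change aeval P.val (C c) = _
    rw [aeval_C]
  have hf : RingHom.ker π₀ = Ideal.span (Set.range P.relation) := by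
    rw [P.span_range_relation_eq_ker, P.ker_eq_ker_aeval_val]
    rfl
  obtain ⟨Ψ, F, hPres⟩ := Groth.Agent.Helper17.OBS3.exists_pres e hm π₀ hπ₀surj hπ₀C P.relation hf
    π hπsurj hπα hkerπ
  obtain ⟨F0, hF0⟩ := exists_lift_tuple p hp F
  have hf0 : ∀ s, π₀ (P.relation s) = 0 := by
    intro s
    have : P.relation s ∈ RingHom.ker π₀ := by
      rw [hf]
      exact Ideal.subset_span ⟨s, rfl⟩
    exact this
  obtain ⟨g, hg⟩ := Groth.Agent.Helper17.OBS6.exists_g_rel P hT2
    (ObRel e' e p t π₀ F F0)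
    (fun q hq => obRel_exists e' e p hp t hker π₀ P.relation F hPres.redF F0 hF0 hPres.rl q hq)
    (fun q b₁ b₂ h₁ h₂ => obRel_unique e' e p hp hpe t hker ht0 hmt π₀ P.relation hf0 F
      hPres.redF F0 hF0 hPres.l0 h₁ h₂)
    (fun q q' b b' h h' => obRel_add e' e p t π₀ F F0 h h')
    (fun r q b h => obRel_smul e' e p hpe t π₀ F F0 r h)
    (fun a b => obRel_koszul e' e p t π₀ P.relation F hPres.redF F0 hF0 a b)
  obtain ⟨F', hpmF', hredF', hrl'⟩ := Groth.Agent.Helper17.OBS7.exists_good_lift e' e p hp hpe t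
    hker hmt π₀ hπ₀surj P.relation hf F hPres.redF F0 hF0 hPres.rl g hg
  have hflat := Groth.Agent.Helper17.OBS8.flat_quot e' hm' P.relation F' hredF' hrl'
  set I' : Ideal (MvPolynomial ι A') := Ideal.span (Set.range F') with hI'
  let φ : MvPolynomial ι A' →+* B := (Ψ : MvPolynomial ι A →+* B).comp (pm p)
  have hΨF : ∀ s, Ψ (F s) = 0 := fun s =>
    (hPres.ker_iff _).2 (Ideal.subset_span ⟨s, rfl⟩)
  have hφI : ∀ x ∈ I', φ x = 0 := by
    intro x hx
    have : I' ≤ RingHom.ker φ := by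
      rw [hI', Ideal.span_le]
      rintro _ ⟨s, rfl⟩
      change Ψ (pm p (F' s)) = 0
      rw [hpmF', hΨF]
    exact this hx
  let ψ : MvPolynomial ι A' ⧸ I' →+* B := Ideal.Quotient.lift I' φ hφI
  refine ⟨MvPolynomial ι A' ⧸ I', inferInstance, inferInstance, hflat, ψ, ?_, ?_, ?_⟩
  · intro b
    obtain ⟨y, hy⟩ := hPres.surj b
    obtain ⟨x, hx⟩ := pm_surjective p hp y
    exact ⟨Ideal.Quotient.mk I' x, by
      change Ψ (pm p x) = b
      rw [hx, hy]⟩
  · intro a'
    change Ψ (pm p (C a')) = _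
    rw [pm, MvPolynomial.map_C, ← MvPolynomial.algebraMap_eq, Ψ.commutes]
    rfl
  · intro y hy
    obtain ⟨x, rfl⟩ := Ideal.Quotient.mk_surjective y
    have h1 : Ψ (pm p x) = 0 := hy
    rw [hPres.ker_iff] at h1
    obtain ⟨a, ha⟩ := (Ideal.mem_span_range_iff_exists_fun).1 h1
    obtain ⟨a', ha'⟩ := exists_lift_tuple p hp a
    have h2 : pm p (x - ∑ s, a' s * F' s) = 0 := by
      rw [map_sub, map_sum, ← ha, sub_eq_zero]
      refine Finset.sum_congr rfl fun s _ => ?_
      rw [map_mul, ha', hpmF']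
    obtain ⟨z, hz⟩ := exists_of_pm_eq_zero p t hker h2
    have h3 : Ideal.Quotient.mk I' x = Ideal.Quotient.mk I' (C t) * Ideal.Quotient.mk I' z := by
      have h4 : Ideal.Quotient.mk I' (∑ s, a' s * F' s) = 0 := by
        rw [Ideal.Quotient.eq_zero_iff_mem]
        refine Ideal.sum_mem _ fun s _ => ?_
        exact Ideal.mul_mem_left _ _ (Ideal.subset_span ⟨s, rfl⟩)
      rw [← map_mul, ← hz, map_sub, h4, sub_zero]
    rw [h3]
    refine Ideal.mul_mem_right _ _ ?_
    have ht : t ∈ RingHom.ker (p : A' →+* A) := by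
      rw [hker]
      exact Ideal.subset_span rfl
    exact Ideal.mem_map_of_mem _ ht

end Groth.Agent.Helper17.OBS9
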