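import Mathlib
import Groth.Agent.Lib.Helper17.OBS9
import Groth.Agent.Lib.Helper17.RG3

/-!
# Obstruction theory helpers (10): lifting deformations along a small extension, spectra
(helper17)
-/

set_option autoImplicit false

namespace Groth.Agent.Helper17.OBS10

open AlgebraicGeometry CategoryTheory CategoryTheory.Limits IsLocalRing Function

universe u

/-- a commutative square of rings whose two parallel sides are surjections, the kernel of the
second being generated by the kernel of the first, is a pushout -/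
theorem isPushout_of_surj {R S R' S' : CommRingCat.{u}} (φ : R ⟶ S) (p : R ⟶ R') (ψ : S ⟶ S')
    (φ' : R' ⟶ S') (hcomm : φ ≫ ψ = p ≫ φ') (hp : Surjective p.hom) (hψ : Surjective ψ.hom)
    (hker : RingHom.ker ψ.hom ≤ (RingHom.ker p.hom).map φ.hom) : IsPushout φ p ψ φ' := by
  have hle : ∀ s : PushoutCocone φ p, RingHom.ker ψ.hom ≤ RingHom.ker s.inl.hom := by
    intro s
    refine le_trans hker (Ideal.map_le_iff_le_comap.2 fun r hr => ?_)
    rw [Ideal.mem_comap, RingHom.mem_ker]
    have h1 : s.inl.hom (φ.hom r) = s.inr.hom (p.hom r) :=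
      congrArg (fun f => f.hom r) s.condition
    rw [h1, (RingHom.mem_ker).1 hr, map_zero]
  refine ⟨⟨hcomm⟩, ⟨PushoutCocone.IsColimit.mk _
    (fun s => CommRingCat.ofHom (RingHom.liftOfSurjective ψ.hom hψ ⟨s.inl.hom, hle s⟩))
    ?_ ?_ ?_⟩⟩
  · intro s
    refine CommRingCat.hom_ext (RingHom.ext fun x => ?_)
    exact RingHom.liftOfSurjective_comp_apply ψ.hom hψ ⟨s.inl.hom, hle s⟩ x
  · intro s
    refine CommRingCat.hom_ext (RingHom.ext fun x => ?_)
    obtain ⟨r, rfl⟩ := hp x
    have h1 : φ'.hom (p.hom r) = ψ.hom (φ.hom r) :=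
      (congrArg (fun f => f.hom r) hcomm).symm
    change (RingHom.liftOfSurjective ψ.hom hψ ⟨s.inl.hom, hle s⟩) (φ'.hom (p.hom r)) = _
    rw [h1, RingHom.liftOfSurjective_comp_apply]
    exact congrArg (fun f => f.hom r) s.condition
  · intro s m hm _
    refine CommRingCat.hom_ext (RingHom.ext fun x => ?_)
    obtain ⟨y, rfl⟩ := hψ x
    change m.hom (ψ.hom y) = (RingHom.liftOfSurjective ψ.hom hψ ⟨s.inl.hom, hle s⟩) (ψ.hom y)
    rw [RingHom.liftOfSurjective_comp_apply]
    exact congrArg (fun f => f.hom y) hm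

variable {k : Type u} [Field k] {A' A : Type u} [CommRing A'] [CommRing A]
  [IsLocalRing A'] [IsLocalRing A] [IsArtinianRing A'] [IsArtinianRing A]
  [Algebra k A'] [Algebra k A]
  (e' : A' →ₐ[k] k) (e : A →ₐ[k] k) (p : A' →ₐ[k] A) (hp : Surjective p)
  (hpe : e.comp p = e')
  (t : A') (hker : RingHom.ker (p : A' →+* A) = Ideal.span {t}) (ht0 : t ≠ 0)
  (hmt : ∀ a ∈ maximalIdeal A', a * t = 0)
  {B₀ : Type u} [CommRing B₀] [Algebra k B₀] {ι σ : Type u} [Fintype σ]
  (P : Algebra.Presentation k B₀ ι σ) (hT2 : Subsingleton (CotT.T2 P B₀))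

include hp hpe hker ht0 hmt hT2 in
theorem spec_version (B' : CommRingCat.{u}) (α : CommRingCat.of A ⟶ B')
    (π : B' ⟶ CommRingCat.of B₀) [Flat (Spec.map α)]
    (hsq : IsPullback (Spec.map π) (Spec.map (CommRingCat.ofHom (algebraMap k B₀))) (Spec.map α)
      (Spec.map (CommRingCat.ofHom e.toRingHom))) :
    ∃ (B'' : CommRingCat.{u}) (α' : CommRingCat.of A' ⟶ B'') (ψ : B'' ⟶ B'),
      Flat (Spec.map α') ∧
      IsPullback (Spec.map ψ) (Spec.map α) (Spec.map α')
        (Spec.map (CommRingCat.ofHom (p : A' →+* A))) := by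
  have hm : IsNilpotent (maximalIdeal A) :=
    (isArtinianRing_iff_isNilpotent_maximalIdeal A).1 inferInstance
  have hm' : IsNilpotent (maximalIdeal A') :=
    (isArtinianRing_iff_isNilpotent_maximalIdeal A').1 inferInstance
  set κ : CommRingCat.of k ⟶ CommRingCat.of B₀ := CommRingCat.ofHom (algebraMap k B₀) with hκ
  have hcomm : α ≫ π = CommRingCat.ofHom e.toRingHom ≫ κ := by
    apply Spec.map_injective
    rw [Spec.map_comp, Spec.map_comp]
    exact hsq.w
  have hcomm' : ∀ a : A, π.hom (α.hom a) = algebraMap k B₀ (e a) := fun a =>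
    congrArg (fun f => f.hom a) hcomm
  letI algAB' : Algebra A B' := α.hom.toAlgebra
  haveI : Module.Flat A B' := (Flat.SpecMap_iff.1 inferInstance : α.hom.Flat)
  have hesurj : Function.Surjective (CommRingCat.ofHom e.toRingHom).hom :=
    fun c => ⟨algebraMap k A c, by simp⟩
  haveI : IsClosedImmersion (Spec.map (CommRingCat.ofHom e.toRingHom)) :=
    IsClosedImmersion.spec_of_surjective _ hesurj
  haveI : IsClosedImmersion (Spec.map π) := MorphismProperty.of_isPullback hsq.flip inferInstance
  have hπsurj := Groth.Agent.Helper17.RG3.surjective_of_isClosedImmersion_spec π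
  have hkerπ : RingHom.ker π.hom = (maximalIdeal A).map (algebraMap A B') := by
    apply le_antisymm
    · intro b' hb'
      have hb0 : π.hom b' = 0 := hb'
      let q : B' ⟶ CommRingCat.of (B' ⧸ (maximalIdeal A).map (algebraMap A B')) :=
        CommRingCat.ofHom (Ideal.Quotient.mk _)
      let ebar : CommRingCat.of k ⟶ CommRingCat.of (B' ⧸ (maximalIdeal A).map (algebraMap A B')) :=
        CommRingCat.ofHom (algebraMap k A) ≫ α ≫ q
      have hq : α ≫ q = CommRingCat.ofHom e.toRingHom ≫ ebar := by
        refine CommRingCat.hom_ext (RingHom.ext fun a => ?_)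
        change Ideal.Quotient.mk _ (α.hom a) =
          Ideal.Quotient.mk _ (α.hom (algebraMap k A (e a)))
        rw [Ideal.Quotient.eq, ← map_sub]
        exact Ideal.mem_map_of_mem _ (Groth.Agent.Helper17.RG1.sub_mem_maximalIdeal e a)
      let t := hsq.lift (Spec.map q) (Spec.map ebar)
        (by rw [← Spec.map_comp, ← Spec.map_comp, hq])
      have ht : t ≫ Spec.map π = Spec.map q := hsq.lift_fst _ _ _
      have hτ : π ≫ Spec.preimage t = q := by
        apply Spec.map_injective
        rw [Spec.map_comp, Spec.map_preimage, ht]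
      have h3 : q.hom b' = 0 := by
        rw [← hτ]
        change (Spec.preimage t).hom (π.hom b') = 0
        rw [hb0, map_zero]
      exact Ideal.Quotient.eq_zero_iff_mem.1 h3
    · rw [Ideal.map_le_iff_le_comap]
      intro a ha
      rw [Ideal.mem_comap, RingHom.mem_ker]
      change π.hom (α.hom a) = 0
      rw [hcomm']
      have : e a = 0 := by
        have := Groth.Agent.Helper17.RG1.ker_e_eq e
        rw [← this] at ha
        exact ha
      rw [this, map_zero]
  obtain ⟨B'', _, _, hflat, ψ, hψsurj, hψα, hkerψ⟩ :=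
    Groth.Agent.Helper17.OBS9.ring_level e' e p hp hpe t hker ht0 hmt hm hm' P hT2
      (B := B') π.hom hπsurj hcomm' hkerπ
  refine ⟨CommRingCat.of B'', CommRingCat.ofHom (algebraMap A' B''), CommRingCat.ofHom ψ, ?_, ?_⟩
  · rw [Flat.SpecMap_iff]
    change (algebraMap A' B'').Flat
    exact (RingHom.flat_algebraMap_iff).2 hflat
  · refine isPullback_SpecMap_of_isPushout _ _ _ _ ?_
    refine isPushout_of_surj _ _ _ _ ?_ hp hψsurj hkerψ
    refine CommRingCat.hom_ext (RingHom.ext fun a' => ?_)
    exact hψα a'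

end Groth.Agent.Helper17.OBS10
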