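import Mathlib
import Groth.Prelude.Def_ArtFun4
import Groth.Agent.Lib.Helper17.OBS10
import Groth.Agent.Lib.Helper6.ThickAffB

/-!
# Obstruction theory helpers (11): `T² = 0` implies unobstructedness of `Spec B₀` (helper17)
-/

set_option autoImplicit false

namespace Groth.Agent.Helper17.OBS11

open AlgebraicGeometry CategoryTheory CategoryTheory.Limits IsLocalRing Function ArtFun ArtFun.Art

universe u

theorem scheme_version {k : Type u} [Field k] (B₀ : Type u) [CommRing B₀] [Algebra k B₀]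
    {ι σ : Type u} [Fintype σ]
    (P : Algebra.Presentation k B₀ ι σ) (hT2 : Subsingleton (CotT.T2 P B₀))
    {A' A : ArtFun.Art k k} (p : A' ⟶ A) (hpsurj : Function.Surjective p.toAlgHom)
    (t : A') (hker : RingHom.ker (p.toAlgHom : A' →+* A) = Ideal.span {t}) (ht0 : t ≠ 0)
    (hmt : ∀ a ∈ maximalIdeal A', a * t = 0)
    (ξ : DefSch (Spec (CommRingCat.of B₀)) (Spec.map (CommRingCat.ofHom (algebraMap k B₀))) A) :
    ∃ ξ' : DefSch (Spec (CommRingCat.of B₀)) (Spec.map (CommRingCat.ofHom (algebraMap k B₀))) A',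
      Nonempty (DefSch.Iso (ξ'.baseChange p) ξ) := by
  have hsq := ξ.isPullback
  have hesurj : Function.Surjective (CommRingCat.ofHom A.res.toRingHom).hom :=
    fun c => ⟨algebraMap k A c, by simp⟩
  haveI : IsClosedImmersion (specRes A) :=
    IsClosedImmersion.spec_of_surjective _ hesurj
  haveI : IsClosedImmersion ξ.i := MorphismProperty.of_isPullback hsq.flip inferInstance
  haveI : Subsingleton ↥(Spec (CommRingCat.of A)) :=
    inferInstanceAs (Subsingleton (PrimeSpectrum A))
  haveI : Nonempty ↥(Spec (CommRingCat.of k)) :=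
    inferInstanceAs (Nonempty (PrimeSpectrum k))
  haveI : AlgebraicGeometry.Surjective (specRes A) := inferInstance
  haveI : AlgebraicGeometry.Surjective ξ.i := MorphismProperty.of_isPullback hsq.flip inferInstance
  haveI : IsAffine ξ.total :=
    Groth.Agent.Helper6.ThickAff.isAffine_of_isClosedImmersion_of_surjective ξ.i ξ.i.surjective
  let α : CommRingCat.of A ⟶ Γ(ξ.total, ⊤) :=
    (Scheme.ΓSpecIso (CommRingCat.of A)).inv ≫ ξ.f.appTop
  have hg : ξ.total.isoSpec.hom ≫ Spec.map α = ξ.f := by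
    rw [Spec.map_comp, Scheme.isoSpec_hom_naturality_assoc, Scheme.isoSpec_Spec_hom,
      ← Spec.map_comp, Iso.inv_hom_id, Spec.map_id, Category.comp_id]
  let π : Γ(ξ.total, ⊤) ⟶ CommRingCat.of B₀ := Spec.preimage (ξ.i ≫ ξ.total.isoSpec.hom)
  have hπ : Spec.map π = ξ.i ≫ ξ.total.isoSpec.hom := Spec.map_preimage _
  have hsq' : IsPullback (Spec.map π) (Spec.map (CommRingCat.ofHom (algebraMap k B₀)))
      (Spec.map α) (Spec.map (CommRingCat.ofHom A.res.toRingHom)) :=
    IsPullback.of_iso hsq (Iso.refl _) ξ.total.isoSpec (Iso.refl _) (Iso.refl _)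
      (by simp [hπ]) (by simp) (by simp [hg])
      (by rw [Iso.refl_hom, Iso.refl_hom, Category.comp_id, Category.id_comp]; try rfl)
  haveI : Flat (Spec.map α) := by
    have : Spec.map α = ξ.total.isoSpec.inv ≫ ξ.f := by rw [← hg, Iso.inv_hom_id_assoc]
    rw [this]
    infer_instance
  obtain ⟨B'', α', ψ, hflat, hpb⟩ := Groth.Agent.Helper17.OBS10.spec_version A'.res A.res
    p.toAlgHom hpsurj p.res_comp t hker ht0 hmt P hT2 Γ(ξ.total, ⊤) α π hsq'
  have hright : IsPullback (ξ.total.isoSpec.hom ≫ Spec.map ψ) ξ.f (Spec.map α') (specMap p) :=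
    IsPullback.of_iso hpb ξ.total.isoSpec.symm (Iso.refl _) (Iso.refl _) (Iso.refl _)
      (by simp) (by simp [← hg]) (by simp)
      (by rw [Iso.refl_hom, Iso.refl_hom, Category.comp_id, Category.id_comp]; try rfl)
  have hpaste := hsq.paste_horiz hright
  rw [specRes_comp] at hpaste
  let ξ' : DefSch (Spec (CommRingCat.of B₀))
      (Spec.map (CommRingCat.ofHom (algebraMap k B₀))) A' :=
    { total := Spec B''
      f := Spec.map α'
      flat := hflat
      i := ξ.i ≫ ξ.total.isoSpec.hom ≫ Spec.map ψ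
      isPullback := hpaste }
  refine ⟨ξ', ⟨⟨hright.isoPullback.symm, ?_, ?_⟩⟩⟩
  · exact hright.isoPullback_inv_snd
  · rw [Iso.symm_hom, Iso.comp_inv_eq]
    apply pullback.hom_ext
    · rw [DefSch.baseChange_i_fst, Category.assoc, hright.isoPullback_hom_fst]
    · rw [Category.assoc, hright.isoPullback_hom_snd, ξ.i_f]
      exact pullback.lift_snd _ _ _

theorem main12264 {k : Type u} [Field k] [IsAlgClosed k] (B₀ : Type u) [CommRing B₀]
    [Algebra k B₀] {ι σ : Type u} [Finite ι] [Finite σ]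
    (P : Algebra.Presentation k B₀ ι σ)
    (hT2 : Subsingleton (CotT.T2 P B₀))
    {A' A : ArtFun.Art k k} (p : A' ⟶ A) (hp : ArtFun.Art.IsSmallExt p) :
    Function.Surjective ((ArtFun.defFunctor (Λ := k) (Spec (CommRingCat.of B₀))
      (Spec.map (CommRingCat.ofHom (algebraMap k B₀)))).map p) := by
  classical
  haveI := Fintype.ofFinite σ
  obtain ⟨hpsurj, hkne, hkprin, hmk⟩ := hp
  obtain ⟨t, ht⟩ := hkprin.principal
  have ht' : RingHom.ker p.toAlgHom = Ideal.span {t} := ht
  have ht0 : t ≠ 0 := by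
    rintro rfl
    apply hkne
    rw [ht']
    simp
  have htmem : t ∈ RingHom.ker p.toAlgHom := by
    rw [ht']
    exact Ideal.subset_span rfl
  have hmt : ∀ a ∈ maximalIdeal A', a * t = 0 := fun a ha => by
    have : a * t ∈ maximalIdeal A' * RingHom.ker p.toAlgHom := Ideal.mul_mem_mul ha htmem
    rw [hmk] at this
    exact this
  have hker : RingHom.ker (p.toAlgHom : A' →+* A) = Ideal.span {t} := by
    rw [← ht']
    rfl
  intro y
  induction y using Quotient.inductionOn with
  | h ξ =>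
    obtain ⟨ξ', ⟨iso⟩⟩ := scheme_version B₀ P hT2 p hpsurj t hker ht0 hmt ξ
    exact ⟨ξ'.cl, Quotient.sound ⟨iso⟩⟩

end Groth.Agent.Helper17.OBS11
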