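import Mathlib
import Groth.Prelude.Def_CohB1
import Groth.Agent.Lib.Helper17.SG3

set_option autoImplicit false
universe u
open CategoryTheory AlgebraicGeometry Limits HomogeneousLocalization

namespace Groth.Agent.Helper17.PM

open Groth.Agent.Helper17.SG

section General

variable {A B : Type u} {σA σB : Type u} [CommRing A] [CommRing B] [SetLike σA A]
  [AddSubgroupClass σA A] [SetLike σB B] [AddSubgroupClass σB B]
  (𝒜 : ℕ → σA) (ℬ : ℕ → σB) [GradedRing 𝒜] [GradedRing ℬ]
  (f : 𝒜 →+*ᵍ ℬ)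
  (hf : HomogeneousIdeal.irrelevant ℬ ≤ (HomogeneousIdeal.irrelevant 𝒜).map f)

theorem awayMap_surjective
    (hsurj : ∀ (k : ℕ) (b : B), b ∈ ℬ k → ∃ a ∈ 𝒜 k, f a = b) {s : A} {d : ℕ} (hs : s ∈ 𝒜 d) :
    Function.Surjective (Away.map f s) := by
  intro z
  obtain ⟨k, b, hb, rfl⟩ := Away.mk_surjective ℬ (f.map_mem hs) z
  obtain ⟨a, ha, rfl⟩ := hsurj (k • d) b hb
  exact ⟨Away.mk 𝒜 hs k a ha, Away.map_mk f s hs k a ha⟩

/-- `Proj` of a graded ring hom which is surjective in each degree is a closed immersion. -/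
theorem isClosedImmersion_projMap
    (hsurj : ∀ (k : ℕ) (b : B), b ∈ ℬ k → ∃ a ∈ 𝒜 k, f a = b)
    {ι : Type*} (h : ι → A) (hh : ∀ i, h i ∈ 𝒜 1)
    (hcov : (HomogeneousIdeal.irrelevant 𝒜).toIdeal ≤ Ideal.span (Set.range h)) :
    IsClosedImmersion (Proj.map f hf) := by
  refine of_openCover_isPullback' (P := @IsClosedImmersion) (Proj.map f hf)
    (Proj.affineOpenCoverOfIrrelevantLESpan 𝒜 h hh (fun _ => one_pos) hcov).openCover
    (fun i => Spec (CommRingCat.of (Away ℬ (f (h i)))))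
    (fun i => Spec.map (CommRingCat.ofHom (Away.map f (h i))))
    (fun i => Proj.awayι ℬ (f (h i)) (f.map_mem (hh i)) one_pos) ?_ ?_
  · intro i
    apply IsOpenImmersion.isPullback
    · exact Proj.awayι_comp_map f hf one_pos (h i) (hh i)
    · show Proj.map f hf ⁻¹ᵁ (Proj.awayι 𝒜 (h i) (hh i) one_pos).opensRange =
        (Proj.awayι ℬ (f (h i)) (f.map_mem (hh i)) one_pos).opensRange
      rw [Proj.opensRange_awayι, Proj.opensRange_awayι]
      exact Proj.map_preimage_basicOpen _ _ _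
  · intro i
    exact IsClosedImmersion.spec_of_surjective _ (awayMap_surjective 𝒜 ℬ f hsurj (hh i))

theorem awayMap_fromZero {s : A} (c : 𝒜 0) (c' : ℬ 0) (hc : f (c : A) = (c' : B)) :
    Away.map f s (fromZeroRingHom 𝒜 (Submonoid.powers s) c) =
      fromZeroRingHom ℬ (Submonoid.powers (f s)) c' := by
  apply HomogeneousLocalization.val_injective
  show Localization.mk (f (c : A)) ⟨f 1, _⟩ = Localization.mk (c' : B) ⟨1, _⟩
  rw [Localization.mk_eq_mk_iff, Localization.r_iff_exists]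
  refine ⟨1, ?_⟩
  simp only [OneMemClass.coe_one, one_mul, map_one]
  exact hc

theorem projMap_toSpecZero {R : Type u} [CommRing R] (algA : R →+* 𝒜 0) (algB : R →+* ℬ 0)
    (hcompat : ∀ r, f (algA r : A) = (algB r : B)) :
    Proj.map f hf ≫ Proj.toSpecZero 𝒜 ≫ Spec.map (CommRingCat.ofHom algA) =
      Proj.toSpecZero ℬ ≫ Spec.map (CommRingCat.ofHom algB) := by
  apply (Proj.mapAffineOpenCover f hf).openCover.hom_ext
  intro (s : (i : ℕ+) × ↥(𝒜 ↑i))
  have h1 : (Proj.mapAffineOpenCover f hf).openCover.f s =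
      Proj.awayι ℬ (f s.2) (f.map_mem s.2.2) s.1.2 := rfl
  have e1 := Proj.awayι_comp_map_assoc f hf s.1.2 (s.2 : A) s.2.2
    (Proj.toSpecZero 𝒜 ≫ Spec.map (CommRingCat.ofHom algA))
  rw [h1]
  have e2 : Proj.awayι 𝒜 (s.2 : A) s.2.2 s.1.2 ≫ Proj.toSpecZero 𝒜 ≫
      Spec.map (CommRingCat.ofHom algA) =
      Spec.map (CommRingCat.ofHom (fromZeroRingHom 𝒜 (Submonoid.powers (s.2 : A)))) ≫
        Spec.map (CommRingCat.ofHom algA) := by
    rw [Proj.awayι_toSpecZero_assoc]
  have e3 : Proj.awayι ℬ (f s.2) (f.map_mem s.2.2) s.1.2 ≫ Proj.toSpecZero ℬ ≫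
      Spec.map (CommRingCat.ofHom algB) =
      Spec.map (CommRingCat.ofHom (fromZeroRingHom ℬ (Submonoid.powers (f s.2)))) ≫
        Spec.map (CommRingCat.ofHom algB) := by
    rw [Proj.awayι_toSpecZero_assoc]
  have e4 : Spec.map (CommRingCat.ofHom (Away.map f (s.2 : A))) ≫
      Spec.map (CommRingCat.ofHom (fromZeroRingHom 𝒜 (Submonoid.powers (s.2 : A)))) ≫
        Spec.map (CommRingCat.ofHom algA) =
      Spec.map (CommRingCat.ofHom (fromZeroRingHom ℬ (Submonoid.powers (f s.2)))) ≫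
        Spec.map (CommRingCat.ofHom algB) := by
    rw [← Spec.map_comp, ← Spec.map_comp, ← Spec.map_comp]
    congr 1
    ext r
    exact congrArg HomogeneousLocalization.val
      (awayMap_fromZero 𝒜 ℬ f (s := (s.2 : A)) (algA r) (algB r) (hcompat r))
  exact e1.trans ((congrArg (fun t => Spec.map (CommRingCat.ofHom (Away.map f (s.2 : A))) ≫ t)
    e2).trans (e4.trans e3.symm))

end General

section Coprod

theorem isClosedImmersion_coprodDesc {X₁ X₂ P : Scheme.{u}} (f : X₁ ⟶ P) (g : X₂ ⟶ P)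
    [IsClosedImmersion f] [IsClosedImmersion g] (hdisj : ∀ x y, f x ≠ g y) :
    IsClosedImmersion (coprod.desc f g) := by
  have hstalk : SurjectiveOnStalks (coprod.desc f g) := by
    apply IsZariskiLocalAtSource.of_openCover (P := @SurjectiveOnStalks) (coprodOpenCover.{u, 0} X₁ X₂)
    rintro (⟨⟩ | ⟨⟩)
    · show SurjectiveOnStalks (coprod.inl ≫ coprod.desc f g)
      rw [coprod.inl_desc]
      infer_instance
    · show SurjectiveOnStalks (coprod.inr ≫ coprod.desc f g)
      rw [coprod.inr_desc]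
      infer_instance
  have hsum : Topology.IsClosedEmbedding (Sum.elim f g) := by
    apply Topology.IsClosedEmbedding.sumElim f.isClosedEmbedding g.isClosedEmbedding
    rintro (x | x) (y | y) hxy
    · exact congrArg Sum.inl (f.isClosedEmbedding.injective hxy)
    · exact absurd hxy (hdisj x y)
    · exact absurd hxy.symm (hdisj y x)
    · exact congrArg Sum.inr (g.isClosedEmbedding.injective hxy)
  have hcomp : ∀ z, (coprod.desc f g) z = Sum.elim f g ((coprodMk X₁ X₂).symm z) := by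
    intro z
    obtain ⟨w, rfl⟩ := (coprodMk X₁ X₂).surjective z
    rw [Homeomorph.symm_apply_apply]
    rcases w with x | y
    · rw [coprodMk_inl, Sum.elim_inl, ← Scheme.Hom.comp_apply, coprod.inl_desc]
    · rw [coprodMk_inr, Sum.elim_inr, ← Scheme.Hom.comp_apply, coprod.inr_desc]
  have hemb : Topology.IsClosedEmbedding (coprod.desc f g) := by
    have h2 : (⇑(coprod.desc f g) : ↥(X₁ ⨿ X₂) → ↥P) =
        Sum.elim f g ∘ (coprodMk X₁ X₂).symm := funext hcomp
    rw [h2]
    exact hsum.comp (coprodMk X₁ X₂).symm.isClosedEmbedding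
  exact { toSurjectiveOnStalks := hstalk, isClosedEmbedding := hemb }

end Coprod

end Groth.Agent.Helper17.PM
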