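import Mathlib
import Groth.Prelude.Def_CohB1
import Groth.Agent.Lib.Helper17.PM1

set_option autoImplicit false
universe u
open CategoryTheory AlgebraicGeometry Limits HomogeneousLocalization MvPolynomial

namespace Groth.Agent.Helper17.PM

open Groth.Agent.Helper17.SG

section Lin

variable (R : Type u) [CommRing R] (N n : ℕ) (r : Fin (N + 1) → Option (Fin (n + 1)))
  (e : Fin (n + 1) → Fin (N + 1)) (hre : ∀ i, r (e i) = some i)

/-- the images of the variables under a coordinate projection -/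
noncomputable def linVal (u : Fin (N + 1)) : MvPolynomial (Fin (n + 1)) R :=
  (r u).elim 0 X

theorem linVal_none (u : Fin (N + 1)) (h : r u = none) : linVal R N n r u = 0 := by
  unfold linVal
  rw [h]
  rfl

theorem linVal_some (u : Fin (N + 1)) (i : Fin (n + 1)) (h : r u = some i) :
    linVal R N n r u = X i := by
  unfold linVal
  rw [h]
  rfl

theorem linVal_hom (u : Fin (N + 1)) : (linVal R N n r u).IsHomogeneous 1 := by
  rcases h : r u with _ | i
  · rw [linVal_none R N n r u h]
    exact isHomogeneous_zero _ _ _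
  · rw [linVal_some R N n r u i h]
    exact isHomogeneous_X R i

/-- the graded ring hom `R[z_0..z_N] → R[x_0..x_n]` of a coordinate subspace -/
noncomputable def linGr : CohB1.polyGrading N R →+*ᵍ CohB1.polyGrading n R :=
  ⟨(aeval (linVal R N n r) :
      MvPolynomial (Fin (N + 1)) R →ₐ[R] MvPolynomial (Fin (n + 1)) R).toRingHom,
    fun {k a} ha => by
      have h1 := MvPolynomial.IsHomogeneous.aeval (R := R) ha (linVal R N n r)
        (linVal_hom R N n r)
      rw [one_mul] at h1
      exact h1⟩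

theorem linGr_apply (a : MvPolynomial (Fin (N + 1)) R) :
    linGr R N n r a = aeval (linVal R N n r) a := rfl

theorem linGr_X (u : Fin (N + 1)) : linGr R N n r (X u) = linVal R N n r u := by
  rw [linGr_apply, aeval_X]

theorem linGr_C (c : R) : linGr R N n r (C c) = C c := by
  rw [linGr_apply, aeval_C]
  rfl

include hre in
theorem linGr_rename (b : MvPolynomial (Fin (n + 1)) R) :
    linGr R N n r (rename e b) = b := by
  rw [linGr_apply, aeval_rename]
  have h1 : (linVal R N n r) ∘ e = X := by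
    funext i
    exact linVal_some R N n r (e i) i (hre i)
  rw [h1, aeval_X_left_apply]

include hre in
theorem linGr_surj (k : ℕ) (b : MvPolynomial (Fin (n + 1)) R)
    (hb : b ∈ CohB1.polyGrading n R k) :
    ∃ a ∈ CohB1.polyGrading N R k, linGr R N n r a = b :=
  ⟨rename e b, IsHomogeneous.rename_isHomogeneous hb, linGr_rename R N n r e hre b⟩

include hre in
theorem irrelevant_le_map_lin :
    HomogeneousIdeal.irrelevant (CohB1.polyGrading n R) ≤
      (HomogeneousIdeal.irrelevant (CohB1.polyGrading N R)).map (linGr R N n r) := by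
  intro a ha
  have h1 : a ∈ Ideal.span (Set.range
      (fun k : Fin (n + 1) => (X k : MvPolynomial (Fin (n + 1)) R))) :=
    irrelevant_le_span n R ha
  have h2 : Ideal.span (Set.range
      (fun k : Fin (n + 1) => (X k : MvPolynomial (Fin (n + 1)) R))) ≤
      Ideal.map (linGr R N n r)
        (HomogeneousIdeal.irrelevant (CohB1.polyGrading N R)).toIdeal := by
    rw [Ideal.span_le]
    rintro _ ⟨k, rfl⟩
    have h3 : (X (e k) : MvPolynomial (Fin (N + 1)) R) ∈
        (HomogeneousIdeal.irrelevant (CohB1.polyGrading N R)).toIdeal :=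
      HomogeneousIdeal.mem_irrelevant_of_mem _ one_pos (X_mem N R (e k))
    have h4 := Ideal.mem_map_of_mem (linGr R N n r) h3
    rw [linGr_X, linVal_some R N n r (e k) k (hre k)] at h4
    exact h4
  exact h2 h1

/-- the linear embedding `P^n_R → P^N_R` of a coordinate subspace -/
noncomputable def linMap :
    Proj (CohB1.polyGrading n R) ⟶ Proj (CohB1.polyGrading N R) :=
  Proj.map (linGr R N n r) (irrelevant_le_map_lin R N n r e hre)

theorem linMap_closed : IsClosedImmersion (linMap R N n r e hre) :=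
  isClosedImmersion_projMap (CohB1.polyGrading N R) (CohB1.polyGrading n R) (linGr R N n r)
    (irrelevant_le_map_lin R N n r e hre) (linGr_surj R N n r e hre)
    (fun u : Fin (N + 1) => (X u : MvPolynomial (Fin (N + 1)) R)) (X_mem N R)
    (irrelevant_le_span N R)

theorem linMap_toSpec :
    linMap R N n r e hre ≫ CohB1.ProjSpace.toSpec N R = CohB1.ProjSpace.toSpec n R := by
  unfold CohB1.ProjSpace.toSpec
  exact projMap_toSpecZero (CohB1.polyGrading N R) (CohB1.polyGrading n R) (linGr R N n r)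
    (irrelevant_le_map_lin R N n r e hre) (algebraMap R (CohB1.polyGrading N R 0))
    (algebraMap R (CohB1.polyGrading n R 0)) (fun c => linGr_C R N n r c)

theorem mem_linMap_iff (p : Proj (CohB1.polyGrading n R)) (z : MvPolynomial (Fin (N + 1)) R) :
    z ∈ ((linMap R N n r e hre) p).asHomogeneousIdeal ↔
      linGr R N n r z ∈ p.asHomogeneousIdeal := by
  have h : p ∈ (linMap R N n r e hre) ⁻¹ᵁ Proj.basicOpen (CohB1.polyGrading N R) z ↔
      p ∈ Proj.basicOpen (CohB1.polyGrading n R) (linGr R N n r z) := by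
    unfold linMap
    rw [Proj.map_preimage_basicOpen]
  exact not_iff_not.mp h

end Lin

section Disjoint

variable (R : Type u) [CommRing R] (N n m : ℕ)
  (r₁ : Fin (N + 1) → Option (Fin (n + 1))) (e₁ : Fin (n + 1) → Fin (N + 1))
  (hre₁ : ∀ i, r₁ (e₁ i) = some i)
  (r₂ : Fin (N + 1) → Option (Fin (m + 1))) (e₂ : Fin (m + 1) → Fin (N + 1))
  (hre₂ : ∀ i, r₂ (e₂ i) = some i)

theorem linMap_disjoint (hcompl : ∀ u, r₁ u = none ∨ r₂ u = none)
    (p : Proj (CohB1.polyGrading n R)) (q : Proj (CohB1.polyGrading m R)) :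
    linMap R N n r₁ e₁ hre₁ p ≠ linMap R N m r₂ e₂ hre₂ q := by
  intro heq
  obtain ⟨w, hw⟩ : ∃ w, w = linMap R N n r₁ e₁ hre₁ p := ⟨_, rfl⟩
  apply w.not_irrelevant_le
  intro a ha
  show a ∈ w.asHomogeneousIdeal.toIdeal
  have h1 := irrelevant_le_span N R ha
  refine (Ideal.span_le.mpr ?_) h1
  rintro _ ⟨u, rfl⟩
  show (X u : MvPolynomial (Fin (N + 1)) R) ∈ w.asHomogeneousIdeal
  rcases hcompl u with h | h
  · rw [hw, mem_linMap_iff, linGr_X, linVal_none R N n r₁ u h]
    exact zero_mem _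
  · rw [hw, heq, mem_linMap_iff, linGr_X, linVal_none R N m r₂ u h]
    exact zero_mem _

end Disjoint

section Main

variable (n m : ℕ)

/-- first block of coordinates -/
def rA (u : Fin (n + m + 1 + 1)) : Option (Fin (n + 1)) :=
  if h : u.val < n + 1 then some ⟨u.val, h⟩ else none

/-- inclusion of the first block -/
def eA (i : Fin (n + 1)) : Fin (n + m + 1 + 1) := ⟨i.val, by omega⟩

theorem rA_eA (i : Fin (n + 1)) : rA n m (eA n m i) = some i := by
  unfold rA eA
  rw [dif_pos i.isLt]

/-- second block of coordinates -/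
def rB (u : Fin (n + m + 1 + 1)) : Option (Fin (m + 1)) :=
  if h : n + 1 ≤ u.val then some ⟨u.val - (n + 1), by omega⟩ else none

/-- inclusion of the second block -/
def eB (j : Fin (m + 1)) : Fin (n + m + 1 + 1) := ⟨n + 1 + j.val, by omega⟩

theorem rB_eB (j : Fin (m + 1)) : rB n m (eB n m j) = some j := by
  unfold rB eB
  rw [dif_pos (by simp)]
  congr 1
  apply Fin.ext
  simp

theorem rA_rB (u : Fin (n + m + 1 + 1)) : rA n m u = none ∨ rB n m u = none := by
  by_cases h : u.val < n + 1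
  · right
    unfold rB
    rw [dif_neg (by omega)]
  · left
    unfold rA
    rw [dif_neg h]

theorem main14066 (k : Type u) [CommRing k] (X₁ X₂ : Scheme.{u})
    (p₁ : X₁ ⟶ Spec (CommRingCat.of k)) (p₂ : X₂ ⟶ Spec (CommRingCat.of k))
    (i₁ : X₁ ⟶ CohB1.ProjSpace n k) [IsClosedImmersion i₁]
    (h₁ : i₁ ≫ CohB1.ProjSpace.toSpec n k = p₁)
    (i₂ : X₂ ⟶ CohB1.ProjSpace m k) [IsClosedImmersion i₂]
    (h₂ : i₂ ≫ CohB1.ProjSpace.toSpec m k = p₂) :
    ∃ j : X₁ ⨿ X₂ ⟶ CohB1.ProjSpace (n + m + 1) k, IsClosedImmersion j ∧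
      j ≫ CohB1.ProjSpace.toSpec (n + m + 1) k = coprod.desc p₁ p₂ := by
  obtain ⟨a, ha⟩ : ∃ a : CohB1.ProjSpace n k ⟶ CohB1.ProjSpace (n + m + 1) k,
      a = linMap k (n + m + 1) n (rA n m) (eA n m) (rA_eA n m) := ⟨_, rfl⟩
  obtain ⟨b, hb⟩ : ∃ b : CohB1.ProjSpace m k ⟶ CohB1.ProjSpace (n + m + 1) k,
      b = linMap k (n + m + 1) m (rB n m) (eB n m) (rB_eB n m) := ⟨_, rfl⟩
  haveI hac : IsClosedImmersion a := by
    rw [ha]
    exact linMap_closed k (n + m + 1) n (rA n m) (eA n m) (rA_eA n m)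
  haveI hbc : IsClosedImmersion b := by
    rw [hb]
    exact linMap_closed k (n + m + 1) m (rB n m) (eB n m) (rB_eB n m)
  have hat : a ≫ CohB1.ProjSpace.toSpec (n + m + 1) k = CohB1.ProjSpace.toSpec n k := by
    rw [ha]
    exact linMap_toSpec k (n + m + 1) n (rA n m) (eA n m) (rA_eA n m)
  have hbt : b ≫ CohB1.ProjSpace.toSpec (n + m + 1) k = CohB1.ProjSpace.toSpec m k := by
    rw [hb]
    exact linMap_toSpec k (n + m + 1) m (rB n m) (eB n m) (rB_eB n m)
  have hdisj : ∀ x y, (i₁ ≫ a) x ≠ (i₂ ≫ b) y := by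
    intro x y
    rw [Scheme.Hom.comp_apply, Scheme.Hom.comp_apply, ha, hb]
    exact linMap_disjoint k (n + m + 1) n m (rA n m) (eA n m) (rA_eA n m) (rB n m) (eB n m)
      (rB_eB n m) (rA_rB n m) (i₁ x) (i₂ y)
  refine ⟨coprod.desc (i₁ ≫ a) (i₂ ≫ b), isClosedImmersion_coprodDesc _ _ hdisj, ?_⟩
  apply coprod.hom_ext
  · rw [← Category.assoc, coprod.inl_desc, coprod.inl_desc, Category.assoc, hat, h₁]
  · rw [← Category.assoc, coprod.inr_desc, coprod.inr_desc, Category.assoc, hbt, h₂]

end Main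

end Groth.Agent.Helper17.PM
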