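import Mathlib

/-!
# Helper17: subrings of finite products of domains closed under supports — atoms.
-/

set_option autoImplicit false
set_option linter.unusedSectionVars false
universe u

namespace Groth.Agent.Helper17.PN

open scoped Classical

variable {ι : Type u} [Fintype ι] {D : ι → Type u} [∀ i, CommRing (D i)]

/-- indicator idempotent of a finite set of indices. -/
noncomputable def ee (D : ι → Type u) [∀ i, CommRing (D i)] (T : Finset ι) : Π i, D i :=
  fun i => if i ∈ T then 1 else 0

/-- support of an element of the product. -/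
noncomputable def supp (a : Π i, D i) : Finset ι := Finset.univ.filter (fun i => a i ≠ 0)

theorem mem_supp (a : Π i, D i) (i : ι) : i ∈ supp a ↔ a i ≠ 0 := by
  simp [supp]

theorem ee_apply (T : Finset ι) (i : ι) : ee D T i = if i ∈ T then 1 else 0 := rfl

theorem ee_mul (T T' : Finset ι) : ee D T * ee D T' = ee D (T ∩ T') := by
  funext i
  simp only [Pi.mul_apply, ee_apply, Finset.mem_inter]
  by_cases h : i ∈ T <;> by_cases h' : i ∈ T' <;> simp [h, h']

theorem ee_univ : ee D (Finset.univ : Finset ι) = 1 := by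
  funext i
  simp [ee_apply]

theorem ee_empty : ee D (∅ : Finset ι) = 0 := by
  funext i
  simp [ee_apply]

theorem ee_sdiff (T T' : Finset ι) : ee D (T \ T') = ee D T - ee D T * ee D T' := by
  funext i
  simp only [Pi.sub_apply, Pi.mul_apply, ee_apply, Finset.mem_sdiff]
  by_cases h : i ∈ T <;> by_cases h' : i ∈ T' <;> simp [h, h']

theorem mul_ee_of_supp_subset (a : Π i, D i) (T : Finset ι) (h : supp a ⊆ T) : a * ee D T = a := by
  funext i
  simp only [Pi.mul_apply, ee_apply]
  by_cases hi : i ∈ T
  · simp [hi]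
  · have : a i = 0 := by
      by_contra h0
      exact hi (h ((mem_supp a i).mpr h0))
    simp [hi, this]

theorem supp_mul_ee_subset (a : Π i, D i) (T : Finset ι) : supp (a * ee D T) ⊆ T := by
  intro i hi
  rw [mem_supp] at hi
  by_contra h
  apply hi
  simp [ee_apply, h]

theorem eq_zero_of_supp_eq_empty (a : Π i, D i) (h : supp a = ∅) : a = 0 := by
  funext i
  by_contra h0
  have : i ∈ supp a := (mem_supp a i).mpr h0
  rw [h] at this
  exact absurd this (Finset.notMem_empty i)

variable (A : Subring (Π i, D i))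

/-- atoms of the Boolean algebra of idempotents `ee T` lying in `A`. -/
def IsAt (T : Finset ι) : Prop :=
  ee D T ∈ A ∧ T.Nonempty ∧ ∀ T' : Finset ι, ee D T' ∈ A → T' ⊆ T → T' = ∅ ∨ T' = T

theorem exists_atom (i : ι) : ∃ T, IsAt A T ∧ i ∈ T := by
  have hne : (Finset.univ.filter (fun T : Finset ι => ee D T ∈ A ∧ i ∈ T)).Nonempty :=
    ⟨Finset.univ, by simp [ee_univ, A.one_mem]⟩
  obtain ⟨T, hT, hmin⟩ := Finset.exists_min_image _ Finset.card hne
  simp only [Finset.mem_filter, Finset.mem_univ, true_and] at hT hmin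
  refine ⟨T, ⟨hT.1, ⟨i, hT.2⟩, ?_⟩, hT.2⟩
  intro T' hT' hsub
  by_cases hi : i ∈ T'
  · right
    exact Finset.eq_of_subset_of_card_le hsub (hmin T' ⟨hT', hi⟩)
  · left
    have h1 : ee D (T \ T') ∈ A := by
      rw [ee_sdiff]
      exact A.sub_mem hT.1 (A.mul_mem hT.1 hT')
    have h2 : i ∈ T \ T' := Finset.mem_sdiff.mpr ⟨hT.2, hi⟩
    have h3 := hmin (T \ T') ⟨h1, h2⟩
    have h4 : T \ T' = T := Finset.eq_of_subset_of_card_le Finset.sdiff_subset h3
    rw [Finset.sdiff_eq_self_iff_disjoint] at h4
    rw [← Finset.disjoint_self_iff_empty]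
    exact h4.mono_left hsub

theorem atom_disjoint {T T' : Finset ι} (hT : IsAt A T) (hT' : IsAt A T') (hne : T ≠ T') :
    Disjoint T T' := by
  have h1 : ee D (T ∩ T') ∈ A := by
    rw [← ee_mul]
    exact A.mul_mem hT.1 hT'.1
  rcases hT.2.2 (T ∩ T') h1 Finset.inter_subset_left with h | h
  · exact Finset.disjoint_iff_inter_eq_empty.mpr h
  · exfalso
    have hsub : T ⊆ T' := by
      rw [← h]
      exact Finset.inter_subset_right
    rcases hT'.2.2 T hT.1 hsub with h' | h'
    · exact hT.2.1.ne_empty h'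
    · exact hne h'

end Groth.Agent.Helper17.PN
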