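import Mathlib

/-!
# Helper17: integral closedness through scaled roots.
-/

set_option autoImplicit false
universe u

namespace Groth.Agent.Helper17.PN

open Polynomial

/-- In an integrally closed domain, if `a` is a root of `scaleRoots q b` with `q` monic and `b ≠ 0`,
then `b ∣ a`. -/
theorem exists_mul_eq_of_scaleRoots {D : Type u} [CommRing D] [IsDomain D] [IsIntegrallyClosed D]
    (a b : D) (hb : b ≠ 0) (q : D[X]) (hq : q.Monic) (h : eval a (scaleRoots q b) = 0) :
    ∃ c : D, c * b = a := by
  let K := FractionRing D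
  let f : D →+* K := algebraMap D K
  have hfb : f b ≠ 0 := (map_ne_zero_iff f (IsFractionRing.injective D K)).mpr hb
  have h1 : eval₂ f (f b * (f a / f b)) (scaleRoots q b) = f b ^ q.natDegree * eval₂ f (f a / f b) q :=
    scaleRoots_eval₂_mul f (f a / f b) b
  have h2 : f b * (f a / f b) = f a := by
    rw [mul_comm, div_mul_cancel₀ _ hfb]
  rw [h2] at h1
  have h3 : eval₂ f (f a) (scaleRoots q b) = f (eval a (scaleRoots q b)) := by
    exact Polynomial.eval₂_at_apply f a
  rw [h3, h, map_zero] at h1
  have h4 : eval₂ f (f a / f b) q = 0 :=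
    (mul_eq_zero.mp h1.symm).resolve_left (pow_ne_zero _ hfb)
  have hint : IsIntegral D (f a / f b) := ⟨q, hq, h4⟩
  obtain ⟨c, hc⟩ := (isIntegrallyClosed_iff K).mp inferInstance hint
  refine ⟨c, ?_⟩
  apply IsFractionRing.injective D K
  rw [map_mul]
  change f c * f b = f a
  have : f c = f a / f b := hc
  rw [this, div_mul_cancel₀ _ hfb]

/-- A domain in which `b ∣ a` whenever `a` is a root of some `scaleRoots p b` (`p` monic, `b ≠ 0`) is
integrally closed. -/
theorem isIntegrallyClosed_of_scaleRoots {R : Type u} [CommRing R] [IsDomain R]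
    (h : ∀ (a b : R), b ≠ 0 → ∀ p : R[X], p.Monic → eval a (scaleRoots p b) = 0 → ∃ c : R, c * b = a) :
    IsIntegrallyClosed R := by
  rw [isIntegrallyClosed_iff (FractionRing R)]
  intro x hx
  obtain ⟨a, b, hb, rfl⟩ := IsFractionRing.div_surjective (A := R) x
  obtain ⟨p, hp, hpx⟩ := hx
  have hb0 : b ≠ 0 := nonZeroDivisors.ne_zero hb
  have h1 := scaleRoots_eval₂_eq_zero_of_eval₂_div_eq_zero (IsFractionRing.injective R (FractionRing R))
    hpx hb
  have h3 : eval₂ (algebraMap R (FractionRing R)) (algebraMap R (FractionRing R) a) (scaleRoots p b) =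
      algebraMap R (FractionRing R) (eval a (scaleRoots p b)) := by
    exact Polynomial.eval₂_at_apply _ a
  rw [h3] at h1
  have h4 : eval a (scaleRoots p b) = 0 :=
    IsFractionRing.injective R (FractionRing R) (by rw [h1, map_zero])
  obtain ⟨c, hc⟩ := h a b hb0 p hp h4
  refine ⟨c, ?_⟩
  have hbK : algebraMap R (FractionRing R) b ≠ 0 :=
    (map_ne_zero_iff _ (IsFractionRing.injective R (FractionRing R))).mpr hb0
  rw [eq_div_iff hbK, ← map_mul, hc]

end Groth.Agent.Helper17.PN
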