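import Groth.Agent.Lib.Helper17.PN1
import Groth.Agent.Lib.Helper17.PN2

/-!
# Helper17: structure of subrings of finite products of normal domains closed under supports and
division.
-/

set_option autoImplicit false
set_option linter.unusedSectionVars false
universe u

namespace Groth.Agent.Helper17.PN

open scoped Classical
open Polynomial

variable {ι : Type u} [Fintype ι] {D : ι → Type u} [∀ i, CommRing (D i)]

/-- restriction to the indices in `T`. -/
def res (D : ι → Type u) [∀ i, CommRing (D i)] (T : Finset ι) :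
    (Π i, D i) →+* Π i : {i // i ∈ T}, D i.1 :=
  RingHom.pi fun i => Pi.evalRingHom D i.1

theorem res_apply (T : Finset ι) (a : Π i, D i) (i : {i // i ∈ T}) : res D T a i = a i.1 := rfl

theorem res_ee_self (T : Finset ι) : res D T (ee D T) = 1 := by
  funext i
  simp [res_apply, ee_apply, i.2]

theorem res_ee_of_disjoint {T T' : Finset ι} (h : Disjoint T T') : res D T (ee D T') = 0 := by
  funext i
  have : i.1 ∉ T' := Finset.disjoint_left.mp h i.2
  simp [res_apply, ee_apply, this]

variable (A : Subring (Π i, D i))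

/-- the factor of `A` attached to `T`. -/
def EE (T : Finset ι) : Subring (Π i : {i // i ∈ T}, D i.1) := A.map (res D T)

/-- the comparison map. -/
def Phi : A →+* Π j : {T : Finset ι // IsAt A T}, EE A j.1 :=
  RingHom.pi fun j => ((res D j.1).comp A.subtype).codRestrict (EE A j.1) (fun a => ⟨a.1, a.2, rfl⟩)

theorem Phi_apply (a : A) (j : {T : Finset ι // IsAt A T}) (i : {i // i ∈ j.1}) :
    ((Phi A a j : EE A j.1) : Π i : {i // i ∈ j.1}, D i.1) i = (a : Π i, D i) i.1 := rfl

theorem Phi_injective : Function.Injective (Phi A) := by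
  rw [injective_iff_map_eq_zero]
  intro a ha
  ext i
  obtain ⟨T, hT, hi⟩ := exists_atom A i
  have := congrFun ha ⟨T, hT⟩
  have h2 := congrArg (fun z : EE A T => (z : Π i : {i // i ∈ T}, D i.1) ⟨i, hi⟩) this
  exact h2

theorem Phi_surjective : Function.Surjective (Phi A) := by
  intro y
  have hy : ∀ j : {T : Finset ι // IsAt A T}, ∃ a : Π i, D i, a ∈ A ∧
      res D j.1 a = ((y j : EE A j.1) : Π i : {i // i ∈ j.1}, D i.1) := fun j => (y j).2
  choose a haA ha using hy
  refine ⟨⟨∑ j, ee D j.1 * a j, A.sum_mem fun j _ => A.mul_mem j.2.1 (haA j)⟩, ?_⟩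
  funext k
  apply Subtype.ext
  funext i
  rw [Phi_apply]
  change (∑ j : {T : Finset ι // IsAt A T}, ee D j.1 * a j) i.1 = _
  rw [Finset.sum_apply, Finset.sum_eq_single k]
  · rw [← ha k, res_apply, Pi.mul_apply, ee_apply, if_pos i.2, one_mul]
  · intro j _ hjk
    have hdis : Disjoint k.1 j.1 := atom_disjoint A k.2 j.2 (fun h => hjk (Subtype.ext h).symm)
    have : i.1 ∉ j.1 := Finset.disjoint_left.mp hdis i.2
    rw [Pi.mul_apply, ee_apply, if_neg this, zero_mul]
  · intro h
    exact absurd (Finset.mem_univ k) h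

/-- The decomposition of `A` as the product of its atomic factors. -/
noncomputable def PhiEquiv : A ≃+* Π j : {T : Finset ι // IsAt A T}, EE A j.1 :=
  RingEquiv.ofBijective (Phi A) ⟨Phi_injective A, Phi_surjective A⟩

section Factors

variable [∀ i, IsDomain (D i)]
variable (hP1 : ∀ a ∈ A, ee D (supp a) ∈ A)
variable {T : Finset ι} (hT : IsAt A T)

include hP1 hT

theorem exists_rep (x : EE A T) : ∃ a : Π i, D i, a ∈ A ∧ supp a ⊆ T ∧
    res D T a = (x : Π i : {i // i ∈ T}, D i.1) := by
  obtain ⟨a₀, ha₀, hx⟩ := x.2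
  refine ⟨a₀ * ee D T, A.mul_mem ha₀ hT.1, supp_mul_ee_subset a₀ T, ?_⟩
  rw [map_mul, res_ee_self, mul_one, hx]

theorem eq_zero_or_full (x : EE A T) : x = 0 ∨ ∀ i, (x : Π i : {i // i ∈ T}, D i.1) i ≠ 0 := by
  obtain ⟨a, haA, hsub, hx⟩ := exists_rep A hP1 hT x
  rcases hT.2.2 (supp a) (hP1 a haA) hsub with h | h
  · left
    apply Subtype.ext
    rw [← hx, eq_zero_of_supp_eq_empty a h, map_zero]
    rfl
  · right
    intro i
    rw [← hx, res_apply]
    have : i.1 ∈ supp a := h ▸ i.2
    exact (mem_supp a i.1).mp this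

theorem EE_isDomain : IsDomain (EE A T) := by
  obtain ⟨i₀, hi₀⟩ := hT.2.1
  have : Nontrivial (EE A T) := by
    refine ⟨⟨0, 1, fun h => ?_⟩⟩
    have := congrArg (fun z : EE A T => (z : Π i : {i // i ∈ T}, D i.1) ⟨i₀, hi₀⟩) h
    exact zero_ne_one this
  have : NoZeroDivisors (EE A T) := by
    refine ⟨fun {x y} hxy => ?_⟩
    rcases eq_zero_or_full A hP1 hT x with hx | hx
    · exact Or.inl hx
    · rcases eq_zero_or_full A hP1 hT y with hy | hy
      · exact Or.inr hy
      · exfalso
        have := congrArg (fun z : EE A T => (z : Π i : {i // i ∈ T}, D i.1) ⟨i₀, hi₀⟩) hxy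
        exact mul_ne_zero (hx ⟨i₀, hi₀⟩) (hy ⟨i₀, hi₀⟩) this
  exact NoZeroDivisors.to_isDomain _

end Factors

end Groth.Agent.Helper17.PN
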