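import Groth.Agent.Lib.Helper17.PN3

/-!
# Helper17: the atomic factors are integrally closed; final structure theorem.
-/

set_option autoImplicit false
set_option linter.unusedSectionVars false
universe u

namespace Groth.Agent.Helper17.PN

open scoped Classical
open Polynomial

variable {ι : Type u} [Fintype ι] {D : ι → Type u} [∀ i, CommRing (D i)]
variable (A : Subring (Π i, D i))
variable [∀ i, IsDomain (D i)] [∀ i, IsIntegrallyClosed (D i)]
variable (hP1 : ∀ a ∈ A, ee D (supp a) ∈ A)
variable (hP2 : ∀ b ∈ A, ∀ c : Π i, D i, c * b ∈ A → (∀ i, b i = 0 → c i = 0) → c ∈ A)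
variable {T : Finset ι} (hT : IsAt A T)

include hP1 hP2 hT in
theorem EE_isIntegrallyClosed :
    haveI := EE_isDomain A hP1 hT
    IsIntegrallyClosed (EE A T) := by
  have := EE_isDomain A hP1 hT
  apply isIntegrallyClosed_of_scaleRoots
  intro x y hy p hp hroot
  have hyfull : ∀ i, (y : Π i : {i // i ∈ T}, D i.1) i ≠ 0 :=
    (eq_zero_or_full A hP1 hT y).resolve_left hy
  have hc : ∀ i : {i // i ∈ T}, ∃ c : D i.1,
      c * (y : Π i : {i // i ∈ T}, D i.1) i = (x : Π i : {i // i ∈ T}, D i.1) i := by
    intro i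
    let π : EE A T →+* D i.1 :=
      (Pi.evalRingHom (fun i : {i // i ∈ T} => D i.1) i).comp (EE A T).subtype
    have hπx : π x = (x : Π i : {i // i ∈ T}, D i.1) i := rfl
    have hπy : π y = (y : Π i : {i // i ∈ T}, D i.1) i := rfl
    rw [← hπx, ← hπy]
    apply exists_mul_eq_of_scaleRoots (π x) (π y) (hyfull i) (p.map π) (hp.map π)
    rw [← Polynomial.map_scaleRoots p y π (by rw [hp.leadingCoeff, map_one]; exact one_ne_zero)]
    rw [Polynomial.eval_map, Polynomial.eval₂_at_apply, hroot, map_zero]
  choose c hc using hc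
  obtain ⟨a, haA, hasub, hax⟩ := exists_rep A hP1 hT x
  obtain ⟨b, hbA, hbsub, hby⟩ := exists_rep A hP1 hT y
  let ct : Π i, D i := fun i => if h : i ∈ T then c ⟨i, h⟩ else 0
  have hct : ct ∈ A := by
    apply hP2 b hbA ct
    · have : ct * b = a := by
        funext i
        by_cases hi : i ∈ T
        · simp only [Pi.mul_apply, ct, dif_pos hi]
          have h1 := hc ⟨i, hi⟩
          rw [← hax, ← hby, res_apply, res_apply] at h1
          exact h1
        · have ha0 : a i = 0 := by
            by_contra h0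
            exact hi (hasub ((mem_supp a i).mpr h0))
          simp [ct, hi, ha0]
      rw [this]
      exact haA
    · intro i hbi
      by_cases hi : i ∈ T
      · exfalso
        have := hyfull ⟨i, hi⟩
        rw [← hby, res_apply] at this
        exact this hbi
      · simp [ct, hi]
  refine ⟨⟨res D T ct, ct, hct, rfl⟩, ?_⟩
  apply Subtype.ext
  funext i
  change (res D T ct) i * (y : Π i : {i // i ∈ T}, D i.1) i = (x : Π i : {i // i ∈ T}, D i.1) i
  rw [res_apply]
  simp only [ct, dif_pos i.2]
  exact hc i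

include hP1 hP2 in
theorem exists_prod_normal :
    ∃ (κ : Type u) (_ : Fintype κ) (E : κ → Type u) (_ : ∀ j, CommRing (E j)) (_ : ∀ j, IsDomain (E j))
      (_ : ∀ j, IsIntegrallyClosed (E j)), Nonempty (A ≃+* Π j, E j) :=
  ⟨{T : Finset ι // IsAt A T}, inferInstance, fun j => EE A j.1, fun _ => inferInstance,
    fun j => EE_isDomain A hP1 j.2, fun j => EE_isIntegrallyClosed A hP1 hP2 j.2, ⟨PhiEquiv A⟩⟩

end Groth.Agent.Helper17.PN
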