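import Mathlib
import Groth.Prelude.Def_W4bk4grossh111Obs

set_option autoImplicit false
universe u
open CategoryTheory MonoidalCategory CartesianMonoidalCategory MonObj GrpObj AlgebraicGeometry
open scoped TensorProduct

namespace Groth.Agent.Helper17.PT

noncomputable section

variable {k : Type u} [CommRing k]

/-- the `k`-algebra structure on the global functions of a scheme over `Spec k` -/
@[reducible] def algΓ (X : Over (Spec (CommRingCat.of k))) : Algebra k Γ(X.left, ⊤) :=
  RingHom.toAlgebra ((X.hom.appTop.hom).comp (Scheme.ΓSpecIso (CommRingCat.of k)).inv.hom)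

attribute [local instance] algΓ

lemma algebraMap_eq (X : Over (Spec (CommRingCat.of k))) (c : k) :
    algebraMap k Γ(X.left, ⊤) c =
      X.hom.appTop.hom ((Scheme.ΓSpecIso (CommRingCat.of k)).inv.hom c) := rfl

lemma univ_w (X : Over (Spec (CommRingCat.of k))) [IsAffine X.left] :
    X.left.isoSpec.inv ≫ X.hom =
      Spec.map (CommRingCat.ofHom (algebraMap k Γ(X.left, ⊤))) := by
  have h1 := Scheme.isoSpec_inv_naturality X.hom
  rw [← h1, Scheme.isoSpec_Spec_inv, ← Spec.map_comp]
  rfl

/-- the universal point of an affine scheme over `Spec k` -/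
def univ (X : Over (Spec (CommRingCat.of k))) [IsAffine X.left] :
    VecGrp.pt k Γ(X.left, ⊤) ⟶ X :=
  Over.homMk (X.left.isoSpec.inv) (univ_w X)

lemma univ_left (X : Over (Spec (CommRingCat.of k))) [IsAffine X.left] :
    (univ X).left = X.left.isoSpec.inv := rfl

/-- the algebra map of a point -/
def phi {X : Over (Spec (CommRingCat.of k))} {B : Type u} [CommRing B] [Algebra k B]
    (x : VecGrp.pt k B ⟶ X) : Γ(X.left, ⊤) →ₐ[k] B :=
  { toRingHom := ((Scheme.ΓSpecIso (CommRingCat.of B)).hom.hom).comp x.left.appTop.hom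
    commutes' := fun c => by
      have hw : x.left ≫ X.hom = Spec.map (CommRingCat.ofHom (algebraMap k B)) := Over.w x
      have h2 : X.hom.appTop ≫ x.left.appTop =
          (Spec.map (CommRingCat.ofHom (algebraMap k B))).appTop := by
        rw [← Scheme.Hom.comp_appTop, hw]
      have h3 := Scheme.ΓSpecIso_naturality (CommRingCat.ofHom (algebraMap k B))
      have key : (Scheme.ΓSpecIso (CommRingCat.of k)).inv ≫ X.hom.appTop ≫ x.left.appTop ≫
          (Scheme.ΓSpecIso (CommRingCat.of B)).hom = CommRingCat.ofHom (algebraMap k B) := by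
        rw [← Category.assoc X.hom.appTop, h2, h3, Iso.inv_hom_id_assoc]
      exact congrArg (fun t => t.hom c) key }

lemma phi_apply {X : Over (Spec (CommRingCat.of k))} {B : Type u} [CommRing B] [Algebra k B]
    (x : VecGrp.pt k B ⟶ X) (f : Γ(X.left, ⊤)) :
    phi x f = (Scheme.ΓSpecIso (CommRingCat.of B)).hom.hom (x.left.appTop.hom f) := rfl

lemma phi_comp {X Y : Over (Spec (CommRingCat.of k))} {B : Type u} [CommRing B] [Algebra k B]
    (x : VecGrp.pt k B ⟶ X) (t : X ⟶ Y) (f : Γ(Y.left, ⊤)) :
    phi (x ≫ t) f = phi x (t.left.appTop.hom f) := by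
  rw [phi_apply, phi_apply]
  have : (x ≫ t).left.appTop = t.left.appTop ≫ x.left.appTop := by
    rw [Over.comp_left, Scheme.Hom.comp_appTop]
  rw [this]
  rfl

lemma fac {X : Over (Spec (CommRingCat.of k))} [IsAffine X.left] {B : Type u} [CommRing B]
    [Algebra k B] (x : VecGrp.pt k B ⟶ X) :
    VecGrp.ptMap (phi x) ≫ univ X = x := by
  apply Over.OverMorphism.ext
  show Spec.map (CommRingCat.ofHom (phi x).toRingHom) ≫ X.left.isoSpec.inv = x.left
  have h1 := Scheme.isoSpec_inv_naturality (X := Spec (CommRingCat.of B)) (Y := X.left) x.left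
  have h2 : CommRingCat.ofHom (phi x).toRingHom =
      x.left.appTop ≫ (Scheme.ΓSpecIso (CommRingCat.of B)).hom := rfl
  rw [h2, Spec.map_comp, Category.assoc]
  erw [h1]
  rw [Scheme.isoSpec_Spec_inv, ← Category.assoc, ← Spec.map_comp, Iso.inv_hom_id, Spec.map_id,
    Category.id_comp]

lemma phi_univ_injective (X : Over (Spec (CommRingCat.of k))) [IsAffine X.left] :
    Function.Injective (phi (univ X)) := by
  intro f₁ f₂ h
  rw [phi_apply, phi_apply] at h
  have h1 : Function.Injective (Scheme.ΓSpecIso (CommRingCat.of Γ(X.left, ⊤))).hom.hom :=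
    (ConcreteCategory.bijective_of_isIso (Scheme.ΓSpecIso (CommRingCat.of Γ(X.left, ⊤))).hom).1
  have h2 : Function.Injective (univ X).left.appTop.hom := by
    haveI : IsIso (univ X).left := by rw [univ_left]; infer_instance
    haveI : IsIso (univ X).left.appTop := by
      show IsIso ((univ X).left.app ⊤)
      infer_instance
    exact (ConcreteCategory.bijective_of_isIso (univ X).left.appTop).1
  exact h2 (h1 h)

/-- two morphisms pull a function back to the same function as soon as they do so on the
universal point -/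
lemma appTop_eq_of_phi_univ {X Y : Over (Spec (CommRingCat.of k))} [IsAffine X.left]
    (t₁ t₂ : X ⟶ Y) (f : Γ(Y.left, ⊤))
    (h : phi (univ X ≫ t₁) f = phi (univ X ≫ t₂) f) :
    t₁.left.appTop.hom f = t₂.left.appTop.hom f := by
  rw [phi_comp, phi_comp] at h
  exact phi_univ_injective X h

end

end Groth.Agent.Helper17.PT
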