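import Groth.Agent.Lib.Helper17.PT1

set_option autoImplicit false
universe u
open CategoryTheory MonoidalCategory CartesianMonoidalCategory MonObj GrpObj AlgebraicGeometry
open scoped TensorProduct

namespace Groth.Agent.Helper17.PT

noncomputable section

attribute [local instance] algΓ

variable {k : Type u} [Field k]

section Lin

variable {M : Type u} [AddCommGroup M] [Module k M]

/-- evaluation of a functional on the second factor -/
def ev (l : M →ₗ[k] k) (B : Type u) [CommRing B] [Algebra k B] : B ⊗[k] M →ₗ[k] B :=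
  (TensorProduct.rid k B).toLinearMap ∘ₗ (l.lTensor B)

lemma ev_tmul (l : M →ₗ[k] k) (B : Type u) [CommRing B] [Algebra k B] (b : B) (m : M) :
    ev l B (b ⊗ₜ[k] m) = l m • b := by
  simp [ev]

lemma ev_Wmap (l : M →ₗ[k] k) {B B' : Type u} [CommRing B] [Algebra k B] [CommRing B']
    [Algebra k B'] (φ : B →ₐ[k] B') (z : B ⊗[k] M) :
    ev l B' (VecGrp.Wmap φ z) = φ (ev l B z) := by
  induction z using TensorProduct.induction_on with
  | zero => simp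
  | tmul b m => rw [VecGrp.Wmap_tmul, ev_tmul, ev_tmul, map_smul]
  | add x y hx hy => simp only [map_add, hx, hy]

lemma eq_zero_of_ev (d : k ⊗[k] M) (h : ∀ l : M →ₗ[k] k, ev l k d = 0) : d = 0 := by
  have hd : d = (1 : k) ⊗ₜ[k] (TensorProduct.lid k M d) := by
    have := (TensorProduct.lid k M).symm_apply_apply d
    rw [TensorProduct.lid_symm_apply] at this
    exact this.symm
  have hm : TensorProduct.lid k M d = 0 := by
    refine (Module.forall_dual_apply_eq_zero_iff k _).1 (fun l => ?_)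
    have := h l
    rw [hd, ev_tmul] at this
    simpa using this
  rw [hd, hm, TensorProduct.tmul_zero]

end Lin

section GM

variable {G : Over (Spec (CommRingCat.of k))} [GrpObj G] [IsAffine G.left]
  {M : Type u} [AddCommGroup M] [Module k M] (ρ : VecGrp.GMod G M) (a : M)

lemma rho_eq {B : Type u} [CommRing B] [Algebra k B] (x : VecGrp.pt k B ⟶ G) :
    ρ.ρ B x ((1 : B) ⊗ₜ[k] a) =
      VecGrp.Wmap (phi x) (ρ.ρ Γ(G.left, ⊤) (univ G) ((1 : Γ(G.left, ⊤)) ⊗ₜ[k] a)) := by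
  have h := ρ.naturality (phi x) (univ G) ((1 : Γ(G.left, ⊤)) ⊗ₜ[k] a)
  rw [fac x, VecGrp.Wmap_tmul, map_one] at h
  exact h.symm

/-- the matrix coefficient of `a` against the functional `l` -/
def F (l : M →ₗ[k] k) : Γ(G.left, ⊤) :=
  ev l Γ(G.left, ⊤) (ρ.ρ Γ(G.left, ⊤) (univ G) ((1 : Γ(G.left, ⊤)) ⊗ₜ[k] a))

lemma ev_rho (l : M →ₗ[k] k) {B : Type u} [CommRing B] [Algebra k B] (x : VecGrp.pt k B ⟶ G) :
    ev l B (ρ.ρ B x ((1 : B) ⊗ₜ[k] a)) = phi x (F ρ a l) := by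
  rw [rho_eq, ev_Wmap]
  rfl

lemma isRTransInv_F {H : Over (Spec (CommRingCat.of k))} [GrpObj H] [IsAffine H.left]
    (i : H ⟶ G) (ha : a ∈ ρ.fixedUnder i) (l : M →ₗ[k] k) :
    AGF.IsRTransInv i (F ρ a l) := by
  haveI : IsAffine (G ⊗ H).left := by
    show IsAffine (Limits.pullback G.hom H.hom)
    infer_instance
  have ha' : ∀ (B : Type u) [CommRing B] [Algebra k B] (h : VecGrp.pt k B ⟶ H),
      ρ.ρ B (h ≫ i) ((1 : B) ⊗ₜ[k] a) = (1 : B) ⊗ₜ[k] a := ha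
  refine appTop_eq_of_phi_univ ((G ◁ i) ≫ μ[G]) (fst G H) (F ρ a l) ?_
  rw [← ev_rho ρ a l (univ (G ⊗ H) ≫ (G ◁ i) ≫ μ[G]), ← ev_rho ρ a l (univ (G ⊗ H) ≫ fst G H)]
  congr 1
  have hmul : univ (G ⊗ H) ≫ (G ◁ i) ≫ μ[G] =
      (univ (G ⊗ H) ≫ fst G H) * ((univ (G ⊗ H) ≫ snd G H) ≫ i) := by
    rw [Hom.mul_def, ← Category.assoc]
    congr 1
    apply CartesianMonoidalCategory.hom_ext <;> simp
  rw [hmul, map_mul, LinearEquiv.mul_apply, ha']

omit [IsAffine G.left] in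
lemma phi_eq_of_isRTransInv (g : VecGrp.pt k k ⟶ G) (f : Γ(G.left, ⊤))
    (h : AGF.IsRTransInv g f) :
    phi g f = phi (1 : VecGrp.pt k k ⟶ G) f := by
  have h1 : (lift 1 (𝟙 _) : VecGrp.pt k k ⟶ G ⊗ VecGrp.pt k k) ≫ (G ◁ g) ≫ μ[G] = g := by
    have : (lift 1 (𝟙 _) : VecGrp.pt k k ⟶ G ⊗ VecGrp.pt k k) ≫ (G ◁ g) = lift 1 g := by
      apply CartesianMonoidalCategory.hom_ext <;> simp
    rw [← Category.assoc, this, ← Hom.mul_def, _root_.one_mul]
  have h2 : (lift 1 (𝟙 _) : VecGrp.pt k k ⟶ G ⊗ VecGrp.pt k k) ≫ fst G (VecGrp.pt k k) = 1 := by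
    simp
  have h' : phi ((lift 1 (𝟙 _) : VecGrp.pt k k ⟶ G ⊗ VecGrp.pt k k) ≫ (G ◁ g) ≫ μ[G]) f =
      phi ((lift 1 (𝟙 _) : VecGrp.pt k k ⟶ G ⊗ VecGrp.pt k k) ≫ fst G _) f := by
    rw [phi_comp, phi_comp]
    exact congrArg (phi (lift 1 (𝟙 _) : VecGrp.pt k k ⟶ G ⊗ VecGrp.pt k k)) h
  rwa [h1, h2] at h'

end GM

theorem main11191 (k : Type u) [Field k]
    (G : Over (Spec (CommRingCat.of k))) [GrpObj G] [IsAffine G.left]
    (H : Over (Spec (CommRingCat.of k))) [GrpObj H] (i : H ⟶ G) [IsClosedImmersion i.left]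
    (M : Type u) [AddCommGroup M] [Module k M] (ρ : VecGrp.GMod G M)
    (g : VecGrp.pt k k ⟶ G) (hg : ∀ f : Γ(G.left, ⊤), AGF.IsRTransInv i f → AGF.IsRTransInv g f)
    (a : M) (ha : a ∈ ρ.fixedUnder i) :
    ρ.ρ k g ((1 : k) ⊗ₜ[k] a) = (1 : k) ⊗ₜ[k] a := by
  haveI : IsAffine H.left := isAffine_of_isAffineHom i.left
  have h1 : ρ.ρ k (1 : VecGrp.pt k k ⟶ G) ((1 : k) ⊗ₜ[k] a) = (1 : k) ⊗ₜ[k] a := by
    rw [map_one]
    rfl
  rw [← sub_eq_zero]
  apply eq_zero_of_ev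
  intro l
  rw [map_sub, sub_eq_zero]
  conv_rhs => rw [← h1]
  rw [ev_rho, ev_rho]
  exact phi_eq_of_isRTransInv g _ (hg _ (isRTransInv_F ρ a i ha l))

end

end Groth.Agent.Helper17.PT
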