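import Groth.Agent.Lib.Helper17.PT2

set_option autoImplicit false
universe u
open CategoryTheory MonoidalCategory CartesianMonoidalCategory MonObj GrpObj AlgebraicGeometry
open scoped TensorProduct

namespace Groth.Agent.Helper17.PT

noncomputable section

attribute [local instance] algΓ

variable {k : Type u} [Field k]

lemma ptMap_comp {B B' B'' : Type u} [CommRing B] [Algebra k B] [CommRing B'] [Algebra k B']
    [CommRing B''] [Algebra k B''] (φ : B →ₐ[k] B') (ψ : B' →ₐ[k] B'') :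
    VecGrp.ptMap (ψ.comp φ) = VecGrp.ptMap ψ ≫ VecGrp.ptMap φ := by
  apply Over.OverMorphism.ext
  show Spec.map (CommRingCat.ofHom (ψ.comp φ).toRingHom) =
    Spec.map (CommRingCat.ofHom ψ.toRingHom) ≫ Spec.map (CommRingCat.ofHom φ.toRingHom)
  rw [← Spec.map_comp]
  rfl

lemma phi_ptMap {X : Over (Spec (CommRingCat.of k))} {B B' : Type u} [CommRing B] [Algebra k B]
    [CommRing B'] [Algebra k B'] (ψ : B →ₐ[k] B') (v : VecGrp.pt k B ⟶ X) (f : Γ(X.left, ⊤)) :
    phi (VecGrp.ptMap ψ ≫ v) f = ψ (phi v f) := by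
  rw [phi_apply, phi_apply]
  have h1 : (VecGrp.ptMap ψ ≫ v).left.appTop =
      v.left.appTop ≫ (Spec.map (CommRingCat.ofHom ψ.toRingHom)).appTop := by
    rw [Over.comp_left, Scheme.Hom.comp_appTop]
    rfl
  have h3 := Scheme.ΓSpecIso_naturality (CommRingCat.ofHom ψ.toRingHom)
  rw [h1]
  exact congrArg (fun t => t.hom (v.left.appTop.hom f)) h3

lemma pt_kk_hom_ext {Z : Over (Spec (CommRingCat.of k))} (y y' : Z ⟶ VecGrp.pt k k) : y = y' := by
  apply Over.OverMorphism.ext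
  have h := Over.w y
  have h' := Over.w y'
  have hid : (VecGrp.pt k k).hom = 𝟙 _ := by
    show Spec.map (CommRingCat.ofHom (RingHom.id k)) = 𝟙 _
    rw [CommRingCat.ofHom_id, Spec.map_id]
  rw [hid, Category.comp_id] at h h'
  rw [h, h']

section Grp

variable (G : Over (Spec (CommRingCat.of k))) [GrpObj G] [IsAffine G.left]

/-- first universal point over `A ⊗ A` -/
def u₁ : VecGrp.pt k (Γ(G.left, ⊤) ⊗[k] Γ(G.left, ⊤)) ⟶ G :=
  VecGrp.ptMap (Algebra.TensorProduct.includeLeft : Γ(G.left, ⊤) →ₐ[k] _) ≫ univ G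

/-- second universal point over `A ⊗ A` -/
def u₂ : VecGrp.pt k (Γ(G.left, ⊤) ⊗[k] Γ(G.left, ⊤)) ⟶ G :=
  VecGrp.ptMap (Algebra.TensorProduct.includeRight : Γ(G.left, ⊤) →ₐ[k] _) ≫ univ G

/-- the comultiplication on elements -/
def Δ (f : Γ(G.left, ⊤)) : Γ(G.left, ⊤) ⊗[k] Γ(G.left, ⊤) := phi (u₁ G * u₂ G) f

lemma phi_mul {B : Type u} [CommRing B] [Algebra k B] (x z : VecGrp.pt k B ⟶ G)
    (f : Γ(G.left, ⊤)) :
    phi (x * z) f = Algebra.TensorProduct.productMap (phi x) (phi z) (Δ G f) := by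
  have hx : VecGrp.ptMap (Algebra.TensorProduct.productMap (phi x) (phi z)) ≫ u₁ G = x := by
    unfold u₁
    rw [← Category.assoc, ← ptMap_comp, Algebra.TensorProduct.productMap_left]
    exact fac x
  have hz : VecGrp.ptMap (Algebra.TensorProduct.productMap (phi x) (phi z)) ≫ u₂ G = z := by
    unfold u₂
    rw [← Category.assoc, ← ptMap_comp, Algebra.TensorProduct.productMap_right]
    exact fac z
  unfold Δ
  rw [← phi_ptMap, MonObj.comp_mul, hx, hz]

/-- evaluate the second factor at the rational point `g` -/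
def T (g : VecGrp.pt k k ⟶ G) : Γ(G.left, ⊤) ⊗[k] Γ(G.left, ⊤) →ₐ[k] Γ(G.left, ⊤) :=
  Algebra.TensorProduct.productMap (AlgHom.id k _) ((Algebra.ofId k _).comp (phi g))

lemma T_tmul (g : VecGrp.pt k k ⟶ G) (a₁ a₂ : Γ(G.left, ⊤)) :
    T G g (a₁ ⊗ₜ[k] a₂) = a₁ * algebraMap k _ (phi g a₂) := rfl

lemma productMap_eq {B : Type u} [CommRing B] [Algebra k B] (x : VecGrp.pt k B ⟶ G)
    (g : VecGrp.pt k k ⟶ G) (w : Γ(G.left, ⊤) ⊗[k] Γ(G.left, ⊤)) :
    Algebra.TensorProduct.productMap (phi x) (phi (VecGrp.ptMap (Algebra.ofId k B) ≫ g)) w =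
      phi x (T G g w) := by
  induction w using TensorProduct.induction_on with
  | zero => simp
  | tmul a₁ a₂ =>
    rw [Algebra.TensorProduct.productMap_apply_tmul, phi_ptMap, T_tmul, map_mul,
      AlgHom.commutes, Algebra.ofId_apply]
  | add x y hx hy => simp only [map_add, hx, hy]

lemma phi_mul_pt {B : Type u} [CommRing B] [Algebra k B] (x : VecGrp.pt k B ⟶ G)
    (g : VecGrp.pt k k ⟶ G) (f : Γ(G.left, ⊤)) :
    phi (x * (VecGrp.ptMap (Algebra.ofId k B) ≫ g)) f = phi x (T G g (Δ G f)) := by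
  rw [phi_mul, productMap_eq]

lemma isRTransInv_iff (g : VecGrp.pt k k ⟶ G) (f : Γ(G.left, ⊤)) :
    AGF.IsRTransInv g f ↔ T G g (Δ G f) = f := by
  constructor
  · intro h
    have h' : phi (lift (univ G) (VecGrp.ptMap (Algebra.ofId k Γ(G.left, ⊤))) ≫ (G ◁ g) ≫ μ[G]) f =
        phi (lift (univ G) (VecGrp.ptMap (Algebra.ofId k Γ(G.left, ⊤))) ≫
          fst G (VecGrp.pt k k)) f := by
      rw [phi_comp, phi_comp]
      exact congrArg (phi (lift (univ G) (VecGrp.ptMap (Algebra.ofId k Γ(G.left, ⊤))))) h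
    have h1 : lift (univ G) (VecGrp.ptMap (Algebra.ofId k Γ(G.left, ⊤))) ≫ (G ◁ g) ≫ μ[G] =
        univ G * (VecGrp.ptMap (Algebra.ofId k Γ(G.left, ⊤)) ≫ g) := by
      rw [Hom.mul_def, ← Category.assoc]
      congr 1
      apply CartesianMonoidalCategory.hom_ext <;> simp
    rw [h1, lift_fst, phi_mul_pt] at h'
    exact phi_univ_injective G h'
  · intro h
    haveI : IsAffine (VecGrp.pt k k).left :=
      inferInstanceAs (IsAffine (Spec (CommRingCat.of k)))
    haveI : IsAffine (G ⊗ VecGrp.pt k k).left := by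
      show IsAffine (Limits.pullback G.hom (VecGrp.pt k k).hom)
      infer_instance
    refine appTop_eq_of_phi_univ ((G ◁ g) ≫ μ[G]) (fst G (VecGrp.pt k k)) f ?_
    have hmul : univ (G ⊗ VecGrp.pt k k) ≫ (G ◁ g) ≫ μ[G] =
        (univ (G ⊗ VecGrp.pt k k) ≫ fst G (VecGrp.pt k k)) *
          (VecGrp.ptMap (Algebra.ofId k Γ((G ⊗ VecGrp.pt k k).left, ⊤)) ≫ g) := by
      rw [Hom.mul_def, ← Category.assoc]
      congr 1
      apply CartesianMonoidalCategory.hom_ext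
      · simp
      · simp only [Category.assoc, whiskerLeft_snd, lift_snd]
        rw [← Category.assoc]
        congr 1
        exact pt_kk_hom_ext _ _
    rw [hmul, phi_mul_pt, h]

/-- apply a functional to the first factor -/
def sl (l : Γ(G.left, ⊤) →ₗ[k] k) : Γ(G.left, ⊤) ⊗[k] Γ(G.left, ⊤) →ₗ[k] Γ(G.left, ⊤) :=
  (TensorProduct.lid k Γ(G.left, ⊤)).toLinearMap ∘ₗ (l.rTensor Γ(G.left, ⊤))

lemma sl_tmul (l : Γ(G.left, ⊤) →ₗ[k] k) (a₁ a₂ : Γ(G.left, ⊤)) :
    sl G l (a₁ ⊗ₜ[k] a₂) = l a₁ • a₂ := by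
  simp [sl]

lemma l_T (g : VecGrp.pt k k ⟶ G) (l : Γ(G.left, ⊤) →ₗ[k] k)
    (w : Γ(G.left, ⊤) ⊗[k] Γ(G.left, ⊤)) :
    l (T G g w) = phi g (sl G l w) := by
  induction w using TensorProduct.induction_on with
  | zero => simp
  | tmul a₁ a₂ =>
    rw [T_tmul, sl_tmul, map_smul, mul_comm, ← Algebra.smul_def, map_smul, smul_eq_mul,
      smul_eq_mul, mul_comm]
  | add x y hx hy => simp only [map_add, hx, hy]

lemma T_eq_zero_iff (g : VecGrp.pt k k ⟶ G) (w : Γ(G.left, ⊤) ⊗[k] Γ(G.left, ⊤)) :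
    T G g w = 0 ↔ ∀ l : Γ(G.left, ⊤) →ₗ[k] k, phi g (sl G l w) = 0 := by
  constructor
  · intro h l
    rw [← l_T, h, map_zero]
  · intro h
    refine (Module.forall_dual_apply_eq_zero_iff k _).1 (fun l => ?_)
    exact (l_T G g l w).trans (h l)

/-- the defect of right invariance -/
def Wd (f : Γ(G.left, ⊤)) : Γ(G.left, ⊤) ⊗[k] Γ(G.left, ⊤) := Δ G f - f ⊗ₜ[k] 1

/-- the ideal cutting out the stabiliser of `f` under right translation -/
def J (f : Γ(G.left, ⊤)) : Ideal Γ(G.left, ⊤) :=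
  Ideal.span (Set.range (fun l : Γ(G.left, ⊤) →ₗ[k] k => sl G l (Wd G f)))

lemma isRTransInv_iff_J (g : VecGrp.pt k k ⟶ G) (f : Γ(G.left, ⊤)) :
    AGF.IsRTransInv g f ↔ J G f ≤ RingHom.ker (phi g) := by
  rw [isRTransInv_iff]
  have h1 : T G g (Δ G f) = f ↔ T G g (Wd G f) = 0 := by
    unfold Wd
    rw [map_sub, T_tmul, map_one, map_one, _root_.mul_one, sub_eq_zero]
  rw [h1, T_eq_zero_iff]
  unfold J
  rw [Ideal.span_le, Set.range_subset_iff]
  exact Iff.rfl

end Grp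

lemma noeth (G : Over (Spec (CommRingCat.of k))) [IsAffine G.left] [LocallyOfFiniteType G.hom] :
    IsNoetherianRing Γ(G.left, ⊤) := by
  haveI : IsLocallyNoetherian G.left := LocallyOfFiniteType.isLocallyNoetherian G.hom
  exact IsLocallyNoetherian.component_noetherian ⟨⊤, isAffineOpen_top G.left⟩

theorem main11199 (k : Type u) [Field k]
    (G : Over (Spec (CommRingCat.of k))) [GrpObj G] [IsAffine G.left] [LocallyOfFiniteType G.hom]
    (H : Over (Spec (CommRingCat.of k))) [GrpObj H] (i : H ⟶ G) :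
    ∃ s : Finset Γ(G.left, ⊤), (∀ f ∈ s, AGF.IsRTransInv i f) ∧
      ∀ g : VecGrp.pt k k ⟶ G, (∀ f ∈ s, AGF.IsRTransInv g f) →
        ∀ f : Γ(G.left, ⊤), AGF.IsRTransInv i f → AGF.IsRTransInv g f := by
  classical
  haveI : IsNoetherianRing Γ(G.left, ⊤) := noeth G
  have hfg : (⨆ f : {f : Γ(G.left, ⊤) // AGF.IsRTransInv i f}, J G f.1).FG :=
    IsNoetherian.noetherian _
  obtain ⟨s, hs⟩ := CompleteLattice.IsCompactElement.exists_finset_of_le_iSup _
    ((Submodule.fg_iff_compact _).1 hfg)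
    (fun f : {f : Γ(G.left, ⊤) // AGF.IsRTransInv i f} => J G f.1) le_rfl
  refine ⟨s.image Subtype.val, ?_, ?_⟩
  · intro f hf
    obtain ⟨f', _, rfl⟩ := Finset.mem_image.1 hf
    exact f'.2
  · intro g hg f hf
    rw [isRTransInv_iff_J]
    have h1 : (⨆ f : {f : Γ(G.left, ⊤) // AGF.IsRTransInv i f}, J G f.1) ≤
        RingHom.ker (phi g) := by
      refine hs.trans ?_
      refine iSup₂_le (fun f' hf' => ?_)
      rw [← isRTransInv_iff_J]
      exact hg _ (Finset.mem_image_of_mem _ hf')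
    exact (le_iSup (fun f : {f : Γ(G.left, ⊤) // AGF.IsRTransInv i f} => J G f.1) ⟨f, hf⟩).trans h1

end

end Groth.Agent.Helper17.PT
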