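import Mathlib
import Groth.Agent.Lib.Helper17.RG1
import Groth.Agent.Lib.Helper17.RG3

/-!
# Sections through a rational point lift along flat deformations of a smooth affine scheme:
spectra (helper17)
-/

set_option autoImplicit false

namespace Groth.Agent.Helper17.PTS1

open AlgebraicGeometry CategoryTheory IsLocalRing TensorProduct

universe u

variable (k : Type u) [Field k] (A : Type u) [CommRing A] [IsLocalRing A] [IsArtinianRing A]
  [Algebra k A] (e : A →ₐ[k] k)

theorem spec_section
    (B B' : CommRingCat.{u}) (α : CommRingCat.of A ⟶ B') (κ : CommRingCat.of k ⟶ B) (π : B' ⟶ B)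
    [Flat (Spec.map α)] [Smooth (Spec.map κ)]
    (hsq : IsPullback (Spec.map π) (Spec.map κ) (Spec.map α)
      (Spec.map (CommRingCat.ofHom e.toRingHom)))
    (q : B ⟶ CommRingCat.of k) (hq : κ ≫ q = 𝟙 _) :
    ∃ σ : B' ⟶ CommRingCat.of A, α ≫ σ = 𝟙 _ ∧
      σ ≫ CommRingCat.ofHom e.toRingHom = π ≫ q := by
  have hm : IsNilpotent (maximalIdeal A) :=
    (isArtinianRing_iff_isNilpotent_maximalIdeal A).1 inferInstance
  have hcomm : α ≫ π = CommRingCat.ofHom e.toRingHom ≫ κ := by
    apply Spec.map_injective
    rw [Spec.map_comp, Spec.map_comp]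
    exact hsq.w
  have hcomm' : ∀ a : A, π.hom (α.hom a) = κ.hom (e a) := fun a =>
    congrArg (fun f => f.hom a) hcomm
  letI algAB' : Algebra A B' := α.hom.toAlgebra
  letI algkB' : Algebra k B' := (α.hom.comp (algebraMap k A)).toAlgebra
  haveI : IsScalarTower k A B' := IsScalarTower.of_algebraMap_eq (fun _ => rfl)
  letI algkB : Algebra k B := κ.hom.toAlgebra
  haveI : Module.Flat A B' := (Flat.SpecMap_iff.1 inferInstance : α.hom.Flat)
  haveI : Algebra.Smooth k B :=
    (show κ.hom.Smooth from (HasRingHomProperty.Spec_iff (P := @Smooth)).1 inferInstance)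
  have hesurj : Function.Surjective (CommRingCat.ofHom e.toRingHom).hom :=
    fun c => ⟨algebraMap k A c, by simp⟩
  haveI : IsClosedImmersion (Spec.map (CommRingCat.ofHom e.toRingHom)) :=
    IsClosedImmersion.spec_of_surjective _ hesurj
  haveI : IsClosedImmersion (Spec.map π) := MorphismProperty.of_isPullback hsq.flip inferInstance
  have hπsurj := Groth.Agent.Helper17.RG3.surjective_of_isClosedImmersion_spec π
  let πa : B' →ₐ[k] B :=
    { π.hom with
      commutes' := fun c => by
        change π.hom (α.hom (algebraMap k A c)) = κ.hom c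
        rw [hcomm']
        simp }
  have hπa : ∀ x : B', πa x = π.hom x := fun _ => rfl
  have hπe : ∀ a : A, πa (algebraMap A B' a) = algebraMap k B (e a) := fun a => hcomm' a
  have hker : RingHom.ker (πa : B' →+* B) = (maximalIdeal A).map (algebraMap A B') := by
    apply le_antisymm
    · intro b' hb'
      have hb0 : π.hom b' = 0 := hb'
      let q' : B' ⟶ CommRingCat.of (B' ⧸ (maximalIdeal A).map (algebraMap A B')) :=
        CommRingCat.ofHom (Ideal.Quotient.mk _)
      let ebar : CommRingCat.of k ⟶ CommRingCat.of (B' ⧸ (maximalIdeal A).map (algebraMap A B')) :=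
        CommRingCat.ofHom (algebraMap k A) ≫ α ≫ q'
      have hq' : α ≫ q' = CommRingCat.ofHom e.toRingHom ≫ ebar := by
        refine CommRingCat.hom_ext (RingHom.ext fun a => ?_)
        change Ideal.Quotient.mk _ (α.hom a) =
          Ideal.Quotient.mk _ (α.hom (algebraMap k A (e a)))
        rw [Ideal.Quotient.eq, ← map_sub]
        exact Ideal.mem_map_of_mem _ (Groth.Agent.Helper17.RG1.sub_mem_maximalIdeal e a)
      let t := hsq.lift (Spec.map q') (Spec.map ebar)
        (by rw [← Spec.map_comp, ← Spec.map_comp, hq'])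
      have ht : t ≫ Spec.map π = Spec.map q' := hsq.lift_fst _ _ _
      have hτ : π ≫ Spec.preimage t = q' := by
        apply Spec.map_injective
        rw [Spec.map_comp, Spec.map_preimage, ht]
      have h3 : q'.hom b' = 0 := by
        rw [← hτ]
        change (Spec.preimage t).hom (π.hom b') = 0
        rw [hb0, map_zero]
      exact Ideal.Quotient.eq_zero_iff_mem.1 h3
    · rw [Ideal.map_le_iff_le_comap]
      intro a ha
      rw [Ideal.mem_comap, RingHom.mem_ker]
      change πa (algebraMap A B' a) = 0
      rw [hπe]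
      have : e a = 0 := by
        have := Groth.Agent.Helper17.RG1.ker_e_eq e
        rw [← this] at ha
        exact ha
      rw [this, map_zero]
  have hnil : IsNilpotent (RingHom.ker (πa : B' →+* B)) := by
    rw [hker]
    obtain ⟨n, hn⟩ := hm
    exact ⟨n, by rw [← Ideal.map_pow, hn, Ideal.zero_eq_bot, Ideal.map_bot]; rfl⟩
  let s : B →ₐ[k] B' := Algebra.FormallySmooth.liftOfSurjective (AlgHom.id k B) πa hπsurj hnil
  have hπs : ∀ b : B, πa (s b) = b := fun b =>
    Algebra.FormallySmooth.liftOfSurjective_apply (AlgHom.id k B) πa hπsurj hnil b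
  have hbij := Groth.Agent.Helper17.RG1.comp_bijective (e := e) (π := πa) (s := s) hm hπe hπs hker
  -- the rational point as an algebra map
  have hqκ : ∀ c : k, q.hom (κ.hom c) = c := fun c => congrArg (fun f => f.hom c) hq
  let qa : B →ₐ[k] k :=
    { q.hom with
      commutes' := fun c => hqκ c }
  let σ' : A ⊗[k] B →ₐ[A] A :=
    Algebra.TensorProduct.lift (AlgHom.id A A) ((Algebra.ofId k A).comp qa)
      (fun _ _ => Commute.all _ _)
  have hσ' : ∀ (a : A) (b : B), σ' (a ⊗ₜ b) = a * algebraMap k A (q.hom b) := fun a b => by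
    simp [σ', Algebra.ofId_apply, qa]
  let E : (A ⊗[k] B) ≃ₐ[A] B' :=
    AlgEquiv.ofBijective (Groth.Agent.Helper17.RG1.comp A s) hbij
  let σ : B' →ₐ[A] A := σ'.comp (E.symm : B' →ₐ[A] A ⊗[k] B)
  refine ⟨CommRingCat.ofHom σ.toRingHom, ?_, ?_⟩
  · refine CommRingCat.hom_ext (RingHom.ext fun a => ?_)
    change σ (algebraMap A B' a) = a
    rw [σ.commutes]
    rfl
  · refine CommRingCat.hom_ext (RingHom.ext fun b' => ?_)
    change e (σ b') = q.hom (π.hom b')
    have key : ∀ t : A ⊗[k] B,
        e (σ' t) = q.hom (π.hom (Groth.Agent.Helper17.RG1.comp A s t)) := by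
      intro t
      induction t using TensorProduct.induction_on with
      | zero => simp
      | tmul a b =>
        rw [hσ', Groth.Agent.Helper17.RG1.comp_tmul, map_mul, map_mul, map_mul]
        have h2 : π.hom (algebraMap A B' a) = κ.hom (e a) := hcomm' a
        have h3 : π.hom (s b) = b := hπs b
        rw [h2, h3, hqκ]
        simp
      | add x y hx hy =>
        rw [map_add, map_add, map_add, map_add, map_add, hx, hy]
    obtain ⟨t, rfl⟩ := hbij.2 b'
    have h1 : σ (Groth.Agent.Helper17.RG1.comp A s t) = σ' t := by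
      change σ' (E.symm (E t)) = σ' t
      rw [AlgEquiv.symm_apply_apply]
    rw [h1]
    exact key t

end Groth.Agent.Helper17.PTS1
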