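import Mathlib
import Groth.Prelude.Def_PtDefo
import Groth.Agent.Lib.Helper17.PTS1

/-!
# Sections through a rational point lift along flat deformations of a smooth scheme (helper17)
-/

set_option autoImplicit false

namespace Groth.Agent.Helper17.PTS2

open AlgebraicGeometry CategoryTheory CategoryTheory.Limits IsLocalRing ArtFun ArtFun.Art

universe u

theorem exists_section {k : Type u} [Field k] (X : Scheme.{u}) (x : X ⟶ specPt k) [Smooth x]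
    (P : specPt k ⟶ X) (hP : P ≫ x = 𝟙 _) (A : ArtFun.Art k k) (ξ : ArtFun.DefSch X x A) :
    ∃ σ : spec A ⟶ ξ.total, σ ≫ ξ.f = 𝟙 _ ∧ P ≫ ξ.i = specRes A ≫ σ := by
  have hsq := ξ.isPullback
  have hesurj : Function.Surjective (CommRingCat.ofHom A.res.toRingHom).hom :=
    fun c => ⟨algebraMap k A c, by simp⟩
  haveI : IsClosedImmersion (specRes A) :=
    IsClosedImmersion.spec_of_surjective _ hesurj
  haveI : IsClosedImmersion ξ.i := MorphismProperty.of_isPullback hsq.flip inferInstance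
  -- the point
  let pt : ↥(specPt k) := (⊥ : PrimeSpectrum k)
  let y : ξ.total := ξ.i (P pt)
  obtain ⟨_, ⟨(U' : ξ.total.Opens), hU', rfl⟩, hyU', -⟩ :=
    (ξ.total.isBasis_affineOpens).exists_subset_of_mem_open (Set.mem_univ y) isOpen_univ
  -- the restricted square
  have hsqU : IsPullback (ξ.i ∣_ U') ((ξ.i ⁻¹ᵁ U').ι ≫ x) (U'.ι ≫ ξ.f) (specRes A) :=
    (isPullback_morphismRestrict ξ.i U').paste_vert hsq
  haveI : IsClosedImmersion (ξ.i ∣_ U') :=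
    MorphismProperty.of_isPullback (isPullback_morphismRestrict ξ.i U').flip inferInstance
  haveI : IsAffine (U' : Scheme) := hU'
  haveI : IsAffine ((ξ.i ⁻¹ᵁ U' : X.Opens) : Scheme) := isAffine_of_isAffineHom (ξ.i ∣_ U')
  -- the point factors through the open
  have hPU : Set.range P ⊆ Set.range (ξ.i ⁻¹ᵁ U').ι := by
    rintro _ ⟨z, rfl⟩
    have hz : z = pt := Subsingleton.elim _ _
    rw [hz, Scheme.Opens.range_ι]
    exact hyU'
  let PU : specPt k ⟶ ((ξ.i ⁻¹ᵁ U' : X.Opens) : Scheme) :=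
    IsOpenImmersion.lift (ξ.i ⁻¹ᵁ U').ι P hPU
  have hPUι : PU ≫ (ξ.i ⁻¹ᵁ U').ι = P := IsOpenImmersion.lift_fac _ _ _
  -- rings
  let α : CommRingCat.of A ⟶ Γ((U' : Scheme), ⊤) := Spec.preimage ((U' : Scheme).isoSpec.inv ≫ U'.ι ≫ ξ.f)
  have hα : Spec.map α = (U' : Scheme).isoSpec.inv ≫ U'.ι ≫ ξ.f := Spec.map_preimage _
  let κ : CommRingCat.of k ⟶ Γ(((ξ.i ⁻¹ᵁ U' : X.Opens) : Scheme), ⊤) := Spec.preimage (((ξ.i ⁻¹ᵁ U' : X.Opens) : Scheme).isoSpec.inv ≫ (ξ.i ⁻¹ᵁ U').ι ≫ x)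
  have hκ : Spec.map κ = ((ξ.i ⁻¹ᵁ U' : X.Opens) : Scheme).isoSpec.inv ≫ (ξ.i ⁻¹ᵁ U').ι ≫ x := Spec.map_preimage _
  let π : Γ((U' : Scheme), ⊤) ⟶ Γ(((ξ.i ⁻¹ᵁ U' : X.Opens) : Scheme), ⊤) := Spec.preimage (((ξ.i ⁻¹ᵁ U' : X.Opens) : Scheme).isoSpec.inv ≫ (ξ.i ∣_ U') ≫ (U' : Scheme).isoSpec.hom)
  have hπ : Spec.map π = ((ξ.i ⁻¹ᵁ U' : X.Opens) : Scheme).isoSpec.inv ≫ (ξ.i ∣_ U') ≫ (U' : Scheme).isoSpec.hom := Spec.map_preimage _
  let q : Γ(((ξ.i ⁻¹ᵁ U' : X.Opens) : Scheme), ⊤) ⟶ CommRingCat.of k := Spec.preimage (PU ≫ ((ξ.i ⁻¹ᵁ U' : X.Opens) : Scheme).isoSpec.hom)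
  have hq : Spec.map q = PU ≫ ((ξ.i ⁻¹ᵁ U' : X.Opens) : Scheme).isoSpec.hom := Spec.map_preimage _
  have hsq' : IsPullback (Spec.map π) (Spec.map κ) (Spec.map α)
      (Spec.map (CommRingCat.ofHom A.res.toRingHom)) :=
    IsPullback.of_iso hsqU ((ξ.i ⁻¹ᵁ U' : X.Opens) : Scheme).isoSpec (U' : Scheme).isoSpec (Iso.refl _) (Iso.refl _)
      (by simp [hπ]) (by simp [hκ]) (by simp [hα])
      (by rw [Iso.refl_hom, Iso.refl_hom, Category.comp_id, Category.id_comp]; try rfl)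
  haveI : Flat (Spec.map α) := by
    rw [hα]
    infer_instance
  haveI : Smooth (Spec.map κ) := by
    rw [hκ]
    infer_instance
  have hκq : κ ≫ q = 𝟙 _ := by
    apply Spec.map_injective
    rw [Spec.map_comp, hq, hκ, Spec.map_id, Category.assoc, Iso.hom_inv_id_assoc,
      ← Category.assoc, hPUι, hP]
  obtain ⟨σr, hσ1, hσ2⟩ := Groth.Agent.Helper17.PTS1.spec_section k A A.res Γ(((ξ.i ⁻¹ᵁ U' : X.Opens) : Scheme), ⊤) Γ((U' : Scheme), ⊤)
    α κ π hsq' q hκq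
  refine ⟨Spec.map σr ≫ (U' : Scheme).isoSpec.inv ≫ U'.ι, ?_, ?_⟩
  · rw [Category.assoc, Category.assoc, ← hα, ← Spec.map_comp, hσ1, Spec.map_id]
  · have h1 : specRes A ≫ Spec.map σr = Spec.map q ≫ Spec.map π := by
      rw [← Spec.map_comp, ← Spec.map_comp, hσ2]
    rw [← Category.assoc, h1, hq, hπ]
    simp only [Category.assoc, Iso.hom_inv_id_assoc, Iso.hom_inv_id, Category.comp_id]
    rw [morphismRestrict_ι, ← Category.assoc, hPUι]

end Groth.Agent.Helper17.PTS2
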