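import Mathlib
import Groth.Prelude.Def_PtDefo
import Groth.Prelude.Def_Curve
import Groth.Agent.Lib.Helper17.PTS2

/-!
# The forgetful map from pointed deformations to deformations of a smooth scheme is surjective
(helper17)
-/

set_option autoImplicit false

namespace Groth.Agent.Helper17.PTS3

open AlgebraicGeometry CategoryTheory CategoryTheory.Limits ArtFun ArtFun.Art

universe u

theorem forgetPts_surjective {k : Type u} [Field k] (X : Scheme.{u}) (x : X ⟶ specPt k)
    [Smooth x] (P : specPt k ⟶ X) (hP : P ≫ x = 𝟙 _) (A : ArtFun.Art k k) :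
    Function.Surjective ((PtDefo.forgetPts (Λ := k) X x (fun _ : PUnit.{u + 1} => P)).app A) := by
  intro y
  induction y using Quotient.inductionOn with
  | h ξ =>
    obtain ⟨σ, h1, h2⟩ := Groth.Agent.Helper17.PTS2.exists_section X x P hP A ξ
    let ξ' : PtDefo.DefSch X x (fun _ : PUnit.{u + 1} => P) A :=
      { toDefSch := ξ
        sect := fun _ => σ
        sect_f := fun _ => h1
        pt_sect := fun _ => h2 }
    exact ⟨ξ'.cl, rfl⟩

end Groth.Agent.Helper17.PTS3
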