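import Mathlib

set_option autoImplicit false
universe v u v' u'
open CategoryTheory CategoryTheory.Limits CategoryTheory.Pretriangulated CategoryTheory.Triangulated
open ZeroObject

namespace Groth.Agent.Helper17.PV

variable {C : Type u} [Category.{v} C] [Preadditive C] [HasZeroObject C] [HasShift C ℤ]
  [∀ n : ℤ, (shiftFunctor C n).Additive] [Pretriangulated C] (t : TStructure C)
  {H : Type u'} [Category.{v'} H] [Preadditive H] [t.Heart H]


lemma exists_iso_of_heart (Z : C) (h1 : t.IsLE Z 0) (h2 : t.IsGE Z 0) :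
    ∃ (K : H), Nonempty ((t.ιHeart (H := H)).obj K ≅ Z) := by
  have hZ : (t.ιHeart (H := H)).essImage Z := by
    rw [t.essImage_ιHeart H]
    exact (t.mem_heart_iff Z).mpr ⟨h1, h2⟩
  exact hZ

lemma hom_shift_neg_eq_zero ⦃X Y : H⦄ ⦃n : ℤ⦄
    (f : (t.ιHeart (H := H)).obj X ⟶ ((t.ιHeart (H := H)).obj Y)⟦n⟧) (hn : n < 0) : f = 0 := by
  have h2 : t.IsGE (((t.ιHeart (H := H)).obj Y)⟦n⟧) (-n) :=
    t.isGE_shift _ 0 n (-n) (by omega)
  exact t.zero_of_isLE_of_isGE f 0 (-n) (by omega) inferInstance h2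

lemma cone_bounds {X₁ X₂ : H} (f₁ : X₁ ⟶ X₂) {X₃ : C}
    (f₂ : (t.ιHeart (H := H)).obj X₂ ⟶ X₃) (f₃ : X₃ ⟶ ((t.ιHeart (H := H)).obj X₁)⟦(1 : ℤ)⟧)
    (hT : Triangle.mk ((t.ιHeart (H := H)).map f₁) f₂ f₃ ∈ distTriang C) :
    t.IsLE X₃ 0 ∧ t.IsGE X₃ (-1) := by
  have hrot := rot_of_distTriang _ hT
  constructor
  · refine t.isLE₂ _ hrot 0 ?_ ?_
    · show t.IsLE ((t.ιHeart (H := H)).obj X₂) 0
      infer_instance
    · show t.IsLE (((t.ιHeart (H := H)).obj X₁)⟦(1 : ℤ)⟧) 0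
      have : t.IsLE (((t.ιHeart (H := H)).obj X₁)⟦(1 : ℤ)⟧) (-1) :=
        t.isLE_shift _ 0 1 (-1) (by omega)
      exact t.isLE_of_le _ (-1) 0 (by omega)
  · refine t.isGE₂ _ hrot (-1) ?_ ?_
    · show t.IsGE ((t.ιHeart (H := H)).obj X₂) (-1)
      exact t.isGE_of_ge _ (-1) 0 (by omega)
    · show t.IsGE (((t.ιHeart (H := H)).obj X₁)⟦(1 : ℤ)⟧) (-1)
      exact t.isGE_shift _ 0 1 (-1) (by omega)

lemma admissible {X₁ X₂ : H} (f₁ : X₁ ⟶ X₂) :
    AbelianSubcategory.admissibleMorphism (t.ιHeart (H := H)) f₁ := by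
  intro X₃ f₂ f₃ hT
  obtain ⟨hle, hge⟩ := cone_bounds t f₁ f₂ f₃ hT
  obtain ⟨X, Y, hX, hY, f, g, h, hT'⟩ := t.exists_triangle X₃ (-1) 0 (by omega)
  have : t.IsLE X (-1) := ⟨hX⟩
  have : t.IsGE Y 0 := ⟨hY⟩
  have hXge : t.IsGE X (-1) := by
    have hinv := inv_rot_of_distTriang _ hT'
    refine t.isGE₂ _ hinv (-1) ?_ ?_
    · show t.IsGE (Y⟦(-1 : ℤ)⟧) (-1)
      have : t.IsGE (Y⟦(-1 : ℤ)⟧) 1 := t.isGE_shift Y 0 (-1) 1 (by omega)
      exact t.isGE_of_ge _ (-1) 1 (by omega)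
    · exact hge
  have hYle : t.IsLE Y 0 := by
    have hrot := rot_of_distTriang _ hT'
    refine t.isLE₂ _ hrot 0 ?_ ?_
    · exact hle
    · show t.IsLE (X⟦(1 : ℤ)⟧) 0
      have : t.IsLE (X⟦(1 : ℤ)⟧) (-2) := t.isLE_shift X (-1) 1 (-2) (by omega)
      exact t.isLE_of_le _ (-2) 0 (by omega)
  have hZ1 : t.IsLE (X⟦(-1 : ℤ)⟧) 0 := t.isLE_shift X (-1) (-1) 0 (by omega)
  have hZ2 : t.IsGE (X⟦(-1 : ℤ)⟧) 0 := t.isGE_shift X (-1) (-1) 0 (by omega)
  obtain ⟨K, ⟨eK⟩⟩ := exists_iso_of_heart (H := H) t _ hZ1 hZ2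
  obtain ⟨Q, ⟨eQ⟩⟩ := exists_iso_of_heart (H := H) t Y hYle inferInstance
  let eK' : ((t.ιHeart (H := H)).obj K)⟦(1 : ℤ)⟧ ≅ X :=
    (shiftFunctor C (1 : ℤ)).mapIso eK ≪≫ (shiftEquiv C (1 : ℤ)).counitIso.app X
  refine ⟨K, Q, eK'.hom ≫ f, g ≫ eQ.inv, eQ.hom ≫ h ≫ eK'.inv⟦(1 : ℤ)⟧', ?_⟩
  refine isomorphic_distinguished _ hT' _ ?_
  refine Triangle.isoMk _ _ eK' (Iso.refl _) eQ ?_ ?_ ?_
  · show (eK'.hom ≫ f) ≫ 𝟙 X₃ = eK'.hom ≫ f
    rw [Category.comp_id]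
  · show (g ≫ eQ.inv) ≫ eQ.hom = 𝟙 X₃ ≫ g
    rw [Category.assoc, Iso.inv_hom_id, Category.comp_id, Category.id_comp]
  · show (eQ.hom ≫ h ≫ (shiftFunctor C (1 : ℤ)).map eK'.inv) ≫
        (shiftFunctor C (1 : ℤ)).map eK'.hom = eQ.hom ≫ h
    rw [Category.assoc, Category.assoc, ← Functor.map_comp, Iso.inv_hom_id, CategoryTheory.Functor.map_id,
      Category.comp_id]

include t in
lemma hasZeroObject : HasZeroObject H := by
  obtain ⟨O, ⟨e⟩⟩ := exists_iso_of_heart (H := H) t (0 : C) inferInstance inferInstance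
  refine ⟨⟨O, ?_⟩⟩
  rw [IsZero.iff_id_eq_zero]
  apply (t.ιHeart (H := H)).map_injective
  rw [CategoryTheory.Functor.map_id, Functor.map_zero]
  have hz : IsZero ((t.ιHeart (H := H)).obj O) := (isZero_zero C).of_iso e
  exact (IsZero.iff_id_eq_zero _).mp hz

include t in
lemma hasBinaryBiproducts : HasBinaryBiproducts H := by
  refine ⟨fun X Y => ?_⟩
  have h1 : t.IsLE ((t.ιHeart (H := H)).obj X ⊞ (t.ιHeart (H := H)).obj Y) 0 :=
    t.isLE₂ _ (binaryBiproductTriangle_distinguished ((t.ιHeart (H := H)).obj X) ((t.ιHeart (H := H)).obj Y)) 0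
      (by show t.IsLE ((t.ιHeart (H := H)).obj X) 0; infer_instance) (by show t.IsLE ((t.ιHeart (H := H)).obj Y) 0; infer_instance)
  have h2 : t.IsGE ((t.ιHeart (H := H)).obj X ⊞ (t.ιHeart (H := H)).obj Y) 0 :=
    t.isGE₂ _ (binaryBiproductTriangle_distinguished ((t.ιHeart (H := H)).obj X) ((t.ιHeart (H := H)).obj Y)) 0
      (by show t.IsGE ((t.ιHeart (H := H)).obj X) 0; infer_instance) (by show t.IsGE ((t.ιHeart (H := H)).obj Y) 0; infer_instance)
  obtain ⟨W, ⟨e⟩⟩ := exists_iso_of_heart (H := H) t _ h1 h2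
  let b : BinaryBicone X Y :=
    { pt := W
      fst := (t.ιHeart (H := H)).preimage (e.hom ≫ biprod.fst)
      snd := (t.ιHeart (H := H)).preimage (e.hom ≫ biprod.snd)
      inl := (t.ιHeart (H := H)).preimage (biprod.inl ≫ e.inv)
      inr := (t.ιHeart (H := H)).preimage (biprod.inr ≫ e.inv)
      inl_fst := (t.ιHeart (H := H)).map_injective (by simp)
      inl_snd := (t.ιHeart (H := H)).map_injective (by simp)
      inr_fst := (t.ιHeart (H := H)).map_injective (by simp)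
      inr_snd := (t.ιHeart (H := H)).map_injective (by simp) }
  refine hasBinaryBiproduct_of_total b ?_
  apply (t.ιHeart (H := H)).map_injective
  rw [Functor.map_add, Functor.map_comp, Functor.map_comp, CategoryTheory.Functor.map_id]
  simp only [b, Functor.map_preimage]
  have h3 : (e.hom ≫ biprod.fst) ≫ (biprod.inl ≫ e.inv) +
      (e.hom ≫ biprod.snd) ≫ (biprod.inr ≫ e.inv) =
      e.hom ≫ (biprod.fst ≫ biprod.inl + biprod.snd ≫ biprod.inr) ≫ e.inv := by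
    simp only [Preadditive.comp_add, Preadditive.add_comp, Category.assoc]
  rw [h3, biprod.total, Category.id_comp, Iso.hom_inv_id]

theorem main11520 {C : Type u} [Category.{v} C] [Preadditive C] [HasZeroObject C] [HasShift C ℤ]
    [∀ n : ℤ, (shiftFunctor C n).Additive] [Pretriangulated C] [IsTriangulated C]
    (t : TStructure C) {H : Type u'} [Category.{v'} H] [inst : Preadditive H] [t.Heart H] :
    ∃ a : Abelian H, @Abelian.toPreadditive H _ a = inst := by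
  have := hasZeroObject (H := H) t
  have := hasBinaryBiproducts (H := H) t
  have : HasFiniteProducts H := hasFiniteProducts_of_has_binary_and_terminal
  have hA : AbelianSubcategory.admissibleMorphism (t.ιHeart (H := H)) = ⊤ := by
    apply MorphismProperty.ext
    intro X₁ X₂ f₁
    exact ⟨fun _ => by simp, fun _ => admissible t f₁⟩
  exact ⟨AbelianSubcategory.abelian (ι := t.ιHeart (H := H)) (hι := hom_shift_neg_eq_zero t)
    (hA := hA), rfl⟩

end Groth.Agent.Helper17.PV
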