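import Mathlib
import Groth.Agent.Lib.Helper17.PV1

set_option autoImplicit false
universe v u v' u'
open CategoryTheory CategoryTheory.Limits CategoryTheory.Pretriangulated CategoryTheory.Triangulated
open ZeroObject

namespace Groth.Agent.Helper17.PV

lemma admissible_eq_top {C : Type u} [Category.{v} C] [Preadditive C] [HasZeroObject C]
    [HasShift C ℤ] [∀ n : ℤ, (shiftFunctor C n).Additive] [Pretriangulated C]
    (t : TStructure C) {H : Type u'} [Category.{v'} H] [Preadditive H] [t.Heart H] :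
    AbelianSubcategory.admissibleMorphism (t.ιHeart (H := H)) = ⊤ := by
  apply MorphismProperty.ext
  intro X₁ X₂ f₁
  exact ⟨fun _ => by simp, fun _ => admissible t f₁⟩

theorem main11521 {C : Type u} [Category.{v} C] [Preadditive C] [HasZeroObject C] [HasShift C ℤ]
    [∀ n : ℤ, (shiftFunctor C n).Additive] [Pretriangulated C] [IsTriangulated C]
    (t : TStructure C) {H : Type u'} [Category.{v'} H] [Abelian H] [t.Heart H] {X Y Z : H}
    (u : X ⟶ Y) (v : Y ⟶ Z) :
    (∃ huv : u ≫ v = 0, (ShortComplex.mk u v huv).ShortExact) ↔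
      ∃ (w : t.ιHeart.obj Z ⟶ (t.ιHeart.obj X)⟦(1 : ℤ)⟧),
        Triangle.mk (t.ιHeart.map u) (t.ιHeart.map v) w ∈ distTriang C := by
  have hι := hom_shift_neg_eq_zero (H := H) t
  have hA := admissible_eq_top (H := H) t
  constructor
  · rintro ⟨huv, hS⟩
    have : Epi v := hS.epi_g
    obtain ⟨X', i, δ, hT⟩ := AbelianSubcategory.exists_distinguished_triangle_of_epi hι hA v
    have hker := AbelianSubcategory.isLimitKernelForkOfDistTriang hι i v δ hT
    have hker' := hS.fIsKernel
    let c : X ≅ X' := IsLimit.conePointUniqueUpToIso hker' hker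
    have hc : c.hom ≫ i = u :=
      IsLimit.conePointUniqueUpToIso_hom_comp hker' hker WalkingParallelPair.zero
    refine ⟨δ ≫ ((t.ιHeart (H := H)).map c.inv)⟦(1 : ℤ)⟧', ?_⟩
    refine isomorphic_distinguished _ hT _ ?_
    refine Triangle.isoMk _ _ ((t.ιHeart (H := H)).mapIso c) (Iso.refl _) (Iso.refl _) ?_ ?_ ?_
    · show (t.ιHeart (H := H)).map u ≫ 𝟙 _ =
        (t.ιHeart (H := H)).map c.hom ≫ (t.ιHeart (H := H)).map i
      rw [Category.comp_id, ← CategoryTheory.Functor.map_comp, hc]
    · show (t.ιHeart (H := H)).map v ≫ 𝟙 _ = 𝟙 _ ≫ (t.ιHeart (H := H)).map v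
      rw [Category.comp_id, Category.id_comp]
    · show (δ ≫ ((t.ιHeart (H := H)).map c.inv)⟦(1 : ℤ)⟧') ≫
        ((t.ιHeart (H := H)).map c.hom)⟦(1 : ℤ)⟧' = 𝟙 _ ≫ δ
      rw [Category.assoc, ← CategoryTheory.Functor.map_comp, ← CategoryTheory.Functor.map_comp,
        Iso.inv_hom_id, CategoryTheory.Functor.map_id, CategoryTheory.Functor.map_id,
        Category.comp_id, Category.id_comp]
  · rintro ⟨w, hT⟩
    have hker := AbelianSubcategory.isLimitKernelForkOfDistTriang hι u v w hT
    have hcoker := AbelianSubcategory.isColimitCokernelCoforkOfDistTriang hι u v w hT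
    have huv : u ≫ v = 0 := (t.ιHeart (H := H)).map_injective (by
      have h0 : (t.ιHeart (H := H)).map u ≫ (t.ιHeart (H := H)).map v = 0 :=
        comp_distTriang_mor_zero₁₂ _ hT
      rw [CategoryTheory.Functor.map_comp, h0, CategoryTheory.Functor.map_zero])
    refine ⟨huv, ?_⟩
    refine ShortComplex.ShortExact.mk' ?_ ?_ ?_
    · exact ShortComplex.exact_of_f_is_kernel _ hker
    · exact mono_of_isLimit_fork hker
    · exact epi_of_isColimit_cofork hcoker

end Groth.Agent.Helper17.PV
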