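import Mathlib

set_option autoImplicit false
universe v u v' u'
open CategoryTheory CategoryTheory.Limits

namespace Groth.Agent.Helper17.PV3

section simpleCoker

variable {A : Type u} [Category.{v} A] [Abelian A]

lemma simple_cokernel_of_isCoatom {Z : A} (M : Subobject Z) (hM : IsCoatom M) :
    Simple (cokernel M.arrow) := by
  constructor
  intro Y f hf
  constructor
  · intro hiso hf0
    have hY : IsZero Y := IsZero.of_mono_eq_zero f hf0
    have hQ : IsZero (cokernel M.arrow) := hY.of_iso (asIso f).symm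
    have hπ : cokernel.π M.arrow = 0 := hQ.eq_of_tgt _ _
    have hepi : Epi M.arrow := Abelian.epi_of_cokernel_π_eq_zero _ hπ
    have : IsIso M.arrow := isIso_of_mono_of_epi _
    exact hM.1 (Subobject.eq_top_of_isIso_arrow M)
  · intro hf0
    have hMN : M ≤ Subobject.mk (pullback.snd f (cokernel.π M.arrow)) := by
      refine Subobject.le_mk_of_comm
        (pullback.lift 0 M.arrow (by rw [zero_comp, cokernel.condition])) ?_
      exact pullback.lift_snd _ _ _
    rcases eq_or_lt_of_le hMN with h | h
    · exfalso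
      have hNM : Subobject.mk (pullback.snd f (cokernel.π M.arrow)) ≤ M := h.symm.le
      have hφ : Subobject.ofMkLE (pullback.snd f (cokernel.π M.arrow)) M hNM ≫ M.arrow =
          pullback.snd f (cokernel.π M.arrow) := Subobject.ofMkLE_arrow hNM
      have h1 : pullback.fst f (cokernel.π M.arrow) ≫ f = 0 := by
        rw [pullback.condition, ← hφ, Category.assoc, cokernel.condition, comp_zero]
      have h2 : pullback.fst f (cokernel.π M.arrow) = 0 := by
        rw [← cancel_mono f, h1, zero_comp]
      have hY : IsZero Y := IsZero.of_epi_eq_zero (pullback.fst f (cokernel.π M.arrow)) h2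
      exact hf0 (hY.eq_of_src _ _)
    · have hN : Subobject.mk (pullback.snd f (cokernel.π M.arrow)) = ⊤ := hM.2 _ h
      have hiso : IsIso (pullback.snd f (cokernel.π M.arrow)) :=
        (Subobject.isIso_iff_mk_eq_top _).mpr hN
      have hp : cokernel.π M.arrow =
          (inv (pullback.snd f (cokernel.π M.arrow)) ≫ pullback.fst f (cokernel.π M.arrow)) ≫ f := by
        rw [Category.assoc, pullback.condition, IsIso.inv_hom_id_assoc]
      have hepi' : Epi ((inv (pullback.snd f (cokernel.π M.arrow)) ≫
          pullback.fst f (cokernel.π M.arrow)) ≫ f) := by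
        rw [← hp]; infer_instance
      have hepi : Epi f := epi_of_epi (inv (pullback.snd f (cokernel.π M.arrow)) ≫
          pullback.fst f (cokernel.π M.arrow)) f
      exact isIso_of_mono_of_epi f

end simpleCoker

section main

variable {A : Type u} [Category.{v} A] [Abelian A] {B : Type u'} [Category.{v'} B] [Abelian B]
    (u : A ⥤ B) [u.Full] [u.Faithful] [PreservesFiniteLimits u] [PreservesFiniteColimits u]
    [u.PreservesZeroMorphisms]
    (hlen : ∀ X : A, IsArtinianObject X ∧ IsNoetherianObject X)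
    (hsimple : ∀ X : A, Simple X → Simple (u.obj X))

omit [u.Full] [u.Faithful] in
include hlen hsimple in
lemma key (X : A) (P : Subobject X) : ∀ (Z : A) (z : Z ⟶ X) [Mono z], Subobject.mk z = P →
    ∀ (K : B) (k : K ⟶ u.obj Z) [Mono k], ¬ IsZero K →
      ∃ (S : A) (f : u.obj S ⟶ K), f ≠ 0 := by
  have := (hlen X).1
  refine WellFoundedLT.induction (motive := fun P => ∀ (Z : A) (z : Z ⟶ X) [Mono z],
    Subobject.mk z = P → ∀ (K : B) (k : K ⟶ u.obj Z) [Mono k], ¬ IsZero K →
      ∃ (S : A) (f : u.obj S ⟶ K), f ≠ 0) P ?_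
  intro P ih Z z _ hP K k _ hK
  have hZ : ¬ IsZero Z := fun hZ => hK (IsZero.of_mono k (u.map_isZero hZ))
  have := (hlen Z).2
  have : Nontrivial (Subobject Z) := Subobject.nontrivial_of_not_isZero hZ
  have : IsCoatomic (Subobject Z) := isCoatomic_of_orderTop_gt_wellFounded wellFounded_gt
  obtain ⟨M, hM, -⟩ :=
    (eq_top_or_exists_le_coatom (⊥ : Subobject Z)).resolve_left bot_ne_top
  have hQ : Simple (cokernel M.arrow) := simple_cokernel_of_isCoatom M hM
  have hQ' : Simple (u.obj (cokernel M.arrow)) := hsimple _ hQ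
  -- the smaller subobject
  have hlt : Subobject.mk (M.arrow ≫ z) < P := by
    rw [← hP]
    refine lt_of_le_of_ne (Subobject.mk_le_mk_of_comm M.arrow rfl) ?_
    intro heq
    have hle : Subobject.mk z ≤ Subobject.mk (M.arrow ≫ z) := heq.symm.le
    have hφ : Subobject.ofMkLEMk z (M.arrow ≫ z) hle ≫ (M.arrow ≫ z) = z :=
      Subobject.ofMkLEMk_comp hle
    have h1 : Subobject.ofMkLEMk z (M.arrow ≫ z) hle ≫ M.arrow = 𝟙 Z := by
      rw [← cancel_mono z, Category.assoc, hφ, Category.id_comp]
    have : IsSplitEpi M.arrow := IsSplitEpi.mk' ⟨_, h1⟩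
    have : IsIso M.arrow := isIso_of_mono_of_epi _
    exact hM.1 (Subobject.eq_top_of_isIso_arrow M)
  by_cases hK' : IsZero (pullback k (u.map M.arrow))
  · -- `K → u Q` is mono
    have hS : (ShortComplex.mk M.arrow (cokernel.π M.arrow) (cokernel.condition _)).ShortExact :=
      ShortComplex.ShortExact.mk'
        (ShortComplex.exact_of_g_is_cokernel _ (cokernelIsCokernel M.arrow))
        (inferInstanceAs (Mono M.arrow)) (inferInstanceAs (Epi (cokernel.π M.arrow)))
    have hker := (hS.map_of_exact u).fIsKernel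
    have hmono : Mono (k ≫ u.map (cokernel.π M.arrow)) := by
      refine Preadditive.mono_of_cancel_zero _ (fun {W} g hg => ?_)
      rw [← Category.assoc] at hg
      obtain ⟨l, hl⟩ := KernelFork.IsLimit.lift' hker (g ≫ k) hg
      have hl' : l ≫ u.map M.arrow = g ≫ k := hl
      have h3 : pullback.lift g l hl'.symm ≫ pullback.fst k (u.map M.arrow) = g :=
        pullback.lift_fst _ _ _
      have h4 : pullback.lift g l hl'.symm = 0 := hK'.eq_of_tgt _ _
      calc g = pullback.lift g l hl'.symm ≫ pullback.fst k (u.map M.arrow) := h3.symm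
        _ = 0 := by rw [h4]; exact zero_comp
    have hne : k ≫ u.map (cokernel.π M.arrow) ≠ 0 :=
      fun h0 => hK (IsZero.of_mono_eq_zero _ h0)
    have : IsIso (k ≫ u.map (cokernel.π M.arrow)) := isIso_of_mono_of_nonzero hne
    refine ⟨cokernel M.arrow, inv (k ≫ u.map (cokernel.π M.arrow)), fun h0 => hK ?_⟩
    rw [IsZero.iff_id_eq_zero, ← IsIso.hom_inv_id (k ≫ u.map (cokernel.π M.arrow)), h0, comp_zero]
  · obtain ⟨S, f, hf⟩ := ih _ hlt (M : A) (M.arrow ≫ z) rfl
      (pullback k (u.map M.arrow)) (pullback.snd k (u.map M.arrow)) hK'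
    refine ⟨S, f ≫ pullback.fst k (u.map M.arrow), fun h0 => hf ?_⟩
    rw [← cancel_mono (pullback.fst k (u.map M.arrow)), h0, zero_comp]

end main

theorem main11523 {A : Type u} [Category.{v} A] [Abelian A] {B : Type u'} [Category.{v'} B]
    [Abelian B]
    (u : A ⥤ B) [u.Full] [u.Faithful] [PreservesFiniteLimits u] [PreservesFiniteColimits u]
    [u.IsRightAdjoint]
    (uStar : B ⥤ A) (adj : u ⊣ uStar)
    (hlen : ∀ X : A, IsArtinianObject X ∧ IsNoetherianObject X)
    (hsimple : ∀ X : A, Simple X → Simple (u.obj X)) (Y : B) :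
    Mono (adj.counit.app Y) := by
  have : u.IsLeftAdjoint := adj.isLeftAdjoint
  by_contra hmono
  have hK : ¬ IsZero (kernel (adj.counit.app Y)) := by
    intro h0
    apply hmono
    exact Preadditive.mono_of_kernel_zero (h0.eq_of_src _ _)
  obtain ⟨S, f, hf⟩ := key u hlen hsimple (uStar.obj Y) ⊤ (uStar.obj Y) (𝟙 _)
    (Subobject.mk_eq_top_of_isIso _) (kernel (adj.counit.app Y)) (kernel.ι (adj.counit.app Y)) hK
  apply hf
  have hg : u.map (u.preimage (f ≫ kernel.ι (adj.counit.app Y))) =
      f ≫ kernel.ι (adj.counit.app Y) := u.map_preimage _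
  have h1 : u.map (u.preimage (f ≫ kernel.ι (adj.counit.app Y))) ≫ adj.counit.app Y = 0 := by
    rw [hg, Category.assoc, kernel.condition, comp_zero]
  have h2 : u.preimage (f ≫ kernel.ι (adj.counit.app Y)) = 0 := by
    have h3 : (adj.homEquiv S Y).symm (u.preimage (f ≫ kernel.ι (adj.counit.app Y))) =
        (adj.homEquiv S Y).symm 0 := by
      rw [Adjunction.homEquiv_counit, Adjunction.homEquiv_counit, h1,
        CategoryTheory.Functor.map_zero, zero_comp]
    exact (adj.homEquiv S Y).symm.injective h3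
  rw [← cancel_mono (kernel.ι (adj.counit.app Y)), zero_comp, ← hg, h2,
    CategoryTheory.Functor.map_zero]

end Groth.Agent.Helper17.PV3
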