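import Mathlib
import Groth.Prelude.Def_CohB1
import Groth.Agent.Lib.Helper17.QP2

set_option autoImplicit false
universe u
open CategoryTheory AlgebraicGeometry Limits

namespace Groth.Agent.Helper17.QP

theorem main10940 (k : Type u) [Field k] (n r : ℕ) {X : Scheme.{u}}
    (j : X ⟶ CohB1.ProjSpace n k) [IsImmersion j]
    (hX : topologicalKrullDim ↥X = r) :
    ∃ U : Fin (r + 1) → X.Opens, (∀ i, IsAffineOpen (U i)) ∧ ⨆ i, U i = ⊤ := by
  haveI : @IsImmersion X (Proj (CohB1.polyGrading n k)) j := ‹IsImmersion j›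
  exact affine_cover_abstract (CohB1.polyGrading n k)
    (j : X ⟶ Proj (CohB1.polyGrading n k)) r (le_of_eq hX)

end Groth.Agent.Helper17.QP
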