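import Mathlib
import Groth.Prelude.Def_CohB1
import Groth.Agent.Lib.Helper17.QP2

set_option autoImplicit false
universe u
open CategoryTheory AlgebraicGeometry Limits

namespace Groth.Agent.Helper17.QP

section Linear

variable {k : Type u} [Field k] [Infinite k] {A : Type u} [CommRing A] [Algebra k A]
  (𝒜 : ℕ → Submodule k A) [GradedAlgebra 𝒜]

/-- degree-one elements lying in an ideal, as a subspace of the degree-one part -/
def linSub (I : Ideal A) : Submodule k (𝒜 1) where
  carrier := {l | (l : A) ∈ I}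
  add_mem' := fun {a b} ha hb => by
    show ((a + b : 𝒜 1) : A) ∈ I
    rw [Submodule.coe_add]
    exact I.add_mem ha hb
  zero_mem' := by
    show ((0 : 𝒜 1) : A) ∈ I
    rw [Submodule.coe_zero]
    exact I.zero_mem
  smul_mem' := fun c a ha => by
    show ((c • a : 𝒜 1) : A) ∈ I
    rw [Submodule.coe_smul, Algebra.smul_def]
    exact I.mul_mem_left _ ha

theorem mem_linSub (I : Ideal A) (l : 𝒜 1) : l ∈ linSub 𝒜 I ↔ (l : A) ∈ I := Iff.rfl

/-- linear prime avoidance over an infinite field -/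
theorem avoid_linear {ι : Type*} [Finite ι] (P : ι → Ideal A)
    (hP : ∀ t, ∃ l ∈ 𝒜 1, l ∉ P t) : ∃ l ∈ 𝒜 1, ∀ t, l ∉ P t := by
  have h : ∀ t, linSub 𝒜 (P t) ≠ ⊤ := by
    intro t htop
    obtain ⟨l, hl, hlP⟩ := hP t
    have h1 : (⟨l, hl⟩ : 𝒜 1) ∈ linSub 𝒜 (P t) := by
      rw [htop]
      exact Submodule.mem_top
    exact hlP ((mem_linSub 𝒜 (P t) ⟨l, hl⟩).mp h1)
  obtain ⟨x, hx⟩ :=
    Submodule.exists_forall_notMem_of_forall_ne_top (fun t => linSub 𝒜 (P t)) h
  exact ⟨x.1, x.2, fun t hmem => hx t ((mem_linSub 𝒜 (P t) x).mpr hmem)⟩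

variable {X : Scheme.{u}} (j : X ⟶ Proj 𝒜)

/-- A scheme of dimension at most `r` immersed in `Proj` of a Noetherian graded algebra generated
in degree one over an infinite field misses the common zero locus of `r + 1` suitable linear
forms. -/
theorem linear_cover [IsNoetherianRing A] [IsImmersion j]
    (hgen : ∀ p : ProjectiveSpectrum 𝒜, ∃ l ∈ 𝒜 1, l ∉ p.asHomogeneousIdeal.toIdeal)
    (r : ℕ) (hX : topologicalKrullDim X ≤ (r : WithBot ℕ∞)) :
    ∃ fs : Fin (r + 1) → A, (∀ t, fs t ∈ 𝒜 1) ∧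
      ∀ x : X, ∃ t, fs t ∉ (j x).asHomogeneousIdeal := by
  classical
  haveI hNP : TopologicalSpace.NoetherianSpace (Proj 𝒜) :=
    noetherianSpace_projectiveSpectrum 𝒜
  haveI hNX : TopologicalSpace.NoetherianSpace X := j.isEmbedding.isInducing.noetherianSpace
  have key : ∀ i : ℕ, ∃ fs : Fin i → A, (∀ t, fs t ∈ 𝒜 1) ∧
      ∀ Z : TopologicalSpace.IrreducibleCloseds X,
        (∀ x ∈ Z, ∀ t, fs t ∈ (j x).asHomogeneousIdeal) →
        Order.height Z + (i : ℕ∞) ≤ (r : ℕ∞) := by
    intro i
    induction i with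
    | zero =>
      refine ⟨fun t => t.elim0, fun t => t.elim0, ?_⟩
      intro Z _
      have h1 : ((Order.height Z : ℕ∞) : WithBot ℕ∞) ≤ (r : WithBot ℕ∞) :=
        (Order.height_le_krullDim Z).trans hX
      simp only [Nat.cast_zero, add_zero]
      exact_mod_cast h1
    | succ i ih =>
      obtain ⟨fs, hfs, hht⟩ := ih
      obtain ⟨Y, hY⟩ : ∃ Y : Set X, Y = {x : X | ∀ t, fs t ∈ (j x).asHomogeneousIdeal} :=
        ⟨_, rfl⟩
      have hYc : IsClosed Y := by rw [hY]; exact isClosed_vanish 𝒜 j fs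
      obtain ⟨S, hSf, hSc, hSi, hSU⟩ :=
        TopologicalSpace.NoetherianSpace.exists_finite_set_isClosed_irreducible hYc
      lift S to Finset (Set X) using hSf
      choose η hη using fun t : {t // t ∈ S} =>
        QuasiSober.sober (hSi t.1 (Finset.mem_coe.mpr t.2)) (hSc t.1 (Finset.mem_coe.mpr t.2))
      obtain ⟨f, hf, hfT⟩ := avoid_linear 𝒜
        (fun t : {t // t ∈ S} => (j (η t)).asHomogeneousIdeal.toIdeal)
        (fun t => hgen (j (η t)))
      refine ⟨Fin.cons f fs, ?_, ?_⟩
      · intro t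
        refine Fin.cases ?_ (fun t' => ?_) t
        · rw [Fin.cons_zero]; exact hf
        · rw [Fin.cons_succ]; exact hfs t'
      · intro Z hZ
        have hZf : ∀ x ∈ Z, f ∈ (j x).asHomogeneousIdeal := by
          intro x hx
          have := hZ x hx 0
          rwa [Fin.cons_zero] at this
        have hZY : (Z : Set X) ⊆ Y := by
          intro x hx
          rw [hY]
          intro t
          have := hZ x hx t.succ
          rwa [Fin.cons_succ] at this
        obtain ⟨t, htS, hZt⟩ := isIrreducible_iff_sUnion_isClosed.1 Z.isIrreducible S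
          (fun z hz => hSc z (Finset.mem_coe.mpr hz)) (by rw [← hSU]; exact hZY)
        have htY : t ⊆ Y := by
          rw [hSU]; exact Set.subset_sUnion_of_mem (Finset.mem_coe.mpr htS)
        obtain ⟨t', ht'⟩ : ∃ t' : TopologicalSpace.IrreducibleCloseds X, (t' : Set X) = t :=
          ⟨⟨t, hSi t (Finset.mem_coe.mpr htS), hSc t (Finset.mem_coe.mpr htS)⟩, rfl⟩
        have hηt : η ⟨t, htS⟩ ∈ t := (hη ⟨t, htS⟩).mem
        have hηZ : η ⟨t, htS⟩ ∉ (Z : Set X) := by
          intro hmem
          exact hfT ⟨t, htS⟩ (hZf _ hmem)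
        have hlt : Z < t' := by
          rw [lt_iff_le_not_ge]
          constructor
          · rw [← SetLike.coe_subset_coe, ht']; exact hZt
          · intro hle
            rw [← SetLike.coe_subset_coe, ht'] at hle
            exact hηZ (hle hηt)
        have h1 : Order.height Z + 1 ≤ Order.height t' := Order.height_add_one_le hlt
        have h2 : Order.height t' + (i : ℕ∞) ≤ (r : ℕ∞) := by
          apply hht t'
          intro x hx t₀
          have hx' : x ∈ t := by rw [← ht']; exact hx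
          have := htY hx'
          rw [hY] at this
          exact this t₀
        calc Order.height Z + ((i + 1 : ℕ) : ℕ∞) = (Order.height Z + 1) + (i : ℕ∞) := by
              push_cast; ring
          _ ≤ Order.height t' + (i : ℕ∞) := by gcongr
          _ ≤ (r : ℕ∞) := h2
  obtain ⟨fs, hfs, hht⟩ := key (r + 1)
  refine ⟨fs, hfs, ?_⟩
  intro x
  by_contra hcon
  push_neg at hcon
  obtain ⟨Z, hZ⟩ : ∃ Z : TopologicalSpace.IrreducibleCloseds X,
      (Z : Set X) = closure {x} :=
    ⟨⟨closure {x}, isIrreducible_singleton.closure, isClosed_closure⟩, rfl⟩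
  have hZY : ∀ y ∈ Z, ∀ t, fs t ∈ (j y).asHomogeneousIdeal := by
    intro y hy
    have hcl : closure {x} ⊆ {y : X | ∀ t, fs t ∈ (j y).asHomogeneousIdeal} :=
      closure_minimal (Set.singleton_subset_iff.mpr hcon) (isClosed_vanish 𝒜 j fs)
    have hy' : y ∈ closure {x} := by rw [← hZ]; exact hy
    exact hcl hy'
  have h1 := hht Z hZY
  have h2 : ((r + 1 : ℕ) : ℕ∞) ≤ (r : ℕ∞) := le_trans le_add_self h1
  have h3 : r + 1 ≤ r := by exact_mod_cast h2
  omega

end Linear

end Groth.Agent.Helper17.QP
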