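import Mathlib
import Groth.Prelude.Def_CohB1
import Groth.Agent.Lib.Helper17.SG6

set_option autoImplicit false
universe u
open CategoryTheory AlgebraicGeometry Limits HomogeneousLocalization MvPolynomial

namespace Groth.Agent.Helper17.QP

open Groth.Agent.Helper17.SG

section Charts

variable {C : Type u} {σC : Type*} [CommRing C] [SetLike σC C] [AddSubgroupClass σC C]
  (𝒞 : ℕ → σC) [GradedRing 𝒞]

/-- a property local at the target can be checked on charts of a glued morphism to `Proj` -/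
theorem prop_of_charts {P : MorphismProperty Scheme.{u}} [IsZariskiLocalAtTarget P]
    {X : Scheme.{u}} (𝒰 : X.OpenCover) (h : 𝒰.I₀ → C)
    (hh : ∀ i, h i ∈ 𝒞 1)
    (hcov : (HomogeneousIdeal.irrelevant 𝒞).toIdeal ≤ Ideal.span (Set.range h))
    (θ : ∀ i, Away 𝒞 (h i) →+* Γ(𝒰.X i, ⊤)) (φ : X ⟶ Proj 𝒞)
    (hφ : ∀ i, 𝒰.f i ≫ φ = chart 𝒞 (𝒰.X i) (h i) (hh i) one_pos (θ i))
    (hP : ∀ i, P (ofRing (𝒰.X i) (θ i)))
    (hpre : ∀ i (p : X), φ p ∈ Proj.basicOpen 𝒞 (h i) → p ∈ Set.range (𝒰.f i)) :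
    P φ := by
  refine of_openCover_isPullback' (P := P) φ
    (Proj.affineOpenCoverOfIrrelevantLESpan 𝒞 h hh (fun _ => one_pos) hcov).openCover
    (fun i => 𝒰.X i) (fun i => ofRing (𝒰.X i) (θ i)) (fun i => 𝒰.f i) ?_ ?_
  · intro i
    apply IsOpenImmersion.isPullback
    · exact hφ i
    · show φ ⁻¹ᵁ (Proj.awayι 𝒞 (h i) (hh i) one_pos).opensRange = (𝒰.f i).opensRange
      rw [Proj.opensRange_awayι]
      apply le_antisymm
      · intro p hp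
        exact hpre i p hp
      · rintro _ ⟨w, rfl⟩
        show φ ((𝒰.f i) w) ∈ Proj.basicOpen 𝒞 (h i)
        rw [← Scheme.Hom.comp_apply, hφ i, ← Proj.opensRange_awayι 𝒞 (h i) (hh i) one_pos]
        exact ⟨ofRing _ (θ i) w, rfl⟩
  · intro i
    exact hP i

theorem isLocElem_eq' {f g : C} (hf : f ∈ 𝒞 1) (hg : g ∈ 𝒞 1) (hg' : g ∈ 𝒞 (1 • 1)) :
    Away.isLocalizationElem hf hg = Away.mk 𝒞 hf 1 g hg' := by
  apply val_injective
  show (Away.mk 𝒞 hf 1 (g ^ 1) _).val = _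
  rw [Away.val_mk, Away.val_mk]
  simp only [pow_one]

theorem mem_basicOpen_of_flat' {W : Scheme.{u}} {f g : C} (hf : f ∈ 𝒞 1) (hg : g ∈ 𝒞 1)
    (hg' : g ∈ 𝒞 (1 • 1)) (e : W ⟶ Spec (CommRingCat.of (Away 𝒞 f))) (w : W)
    (hw : w ∈ W.basicOpen (flat e (Away.mk 𝒞 hf 1 g hg'))) :
    (e ≫ Proj.awayι 𝒞 f hf one_pos) w ∈ Proj.basicOpen 𝒞 g := by
  rw [← preimage_basicOpen, ← isLocElem_eq' 𝒞 hf hg hg',
    ← Proj.awayι_preimage_basicOpen 𝒞 hf one_pos hg one_pos] at hw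
  exact hw

end Charts

section ProjS

variable {A : Type u} {σA : Type*} [CommRing A] [SetLike σA A] [AddSubgroupClass σA A]
  (𝒜 : ℕ → σA) [GradedRing 𝒜]
variable (d : ℕ) (R : Type u) [CommRing R]
variable {V V' : Scheme.{u}}

/-- the ring hom `R[y_0..y_d] → Γ(V)` sending `y_u ↦ l_u / f` -/
noncomputable def prS (ρ : R →+* Γ(V, ⊤)) (l : Fin (d + 1) → A) (hl : ∀ u, l u ∈ 𝒜 (1 • 1))
    {f : A} (hf : f ∈ 𝒜 1) (e : V ⟶ Spec (CommRingCat.of (Away 𝒜 f))) :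
    MvPolynomial (Fin (d + 1)) R →+* Γ(V, ⊤) :=
  eval₂Hom ρ (fun u => flat e (Away.mk 𝒜 hf 1 (l u) (hl u)))

variable (ρ : R →+* Γ(V, ⊤)) (l : Fin (d + 1) → A) (hl : ∀ u, l u ∈ 𝒜 (1 • 1))

theorem prS_C {f : A} (hf : f ∈ 𝒜 1) (e : V ⟶ Spec (CommRingCat.of (Away 𝒜 f))) (r : R) :
    prS 𝒜 d R ρ l hl hf e (C r) = ρ r := by
  unfold prS
  rw [eval₂Hom_C]

theorem prS_X {f : A} (hf : f ∈ 𝒜 1) (e : V ⟶ Spec (CommRingCat.of (Away 𝒜 f)))
    (u : Fin (d + 1)) :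
    prS 𝒜 d R ρ l hl hf e (X u) = flat e (Away.mk 𝒜 hf 1 (l u) (hl u)) := by
  unfold prS
  rw [eval₂Hom_X']

theorem comp_prS {f : A} (hf : f ∈ 𝒜 1) (e : V ⟶ Spec (CommRingCat.of (Away 𝒜 f)))
    (g : V' ⟶ V) :
    g.appTop.hom.comp (prS 𝒜 d R ρ l hl hf e) =
      prS 𝒜 d R (g.appTop.hom.comp ρ) l hl hf (g ≫ e) := by
  apply MvPolynomial.ringHom_ext
  · intro r
    rw [RingHom.comp_apply, prS_C, prS_C]
    rfl
  · intro q
    rw [RingHom.comp_apply, prS_X, prS_X, flat_comp]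
    rfl

theorem prS_scale {f f' : A} (hf : f ∈ 𝒜 1) (hf' : f' ∈ 𝒜 1)
    (hf1 : f ∈ 𝒜 (1 • 1)) (hf1' : f' ∈ 𝒜 (1 • 1))
    (e : V ⟶ Spec (CommRingCat.of (Away 𝒜 f))) (e' : V ⟶ Spec (CommRingCat.of (Away 𝒜 f')))
    (hA : e ≫ Proj.awayι 𝒜 f hf one_pos = e' ≫ Proj.awayι 𝒜 f' hf' one_pos) :
    ∃ u : Γ(V, ⊤), IsUnit u ∧ ∀ (k : ℕ) (a : MvPolynomial (Fin (d + 1)) R),
      a ∈ CohB1.polyGrading d R k →
        prS 𝒜 d R ρ l hl hf' e' a = u ^ k * prS 𝒜 d R ρ l hl hf e a := by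
  have hl1 : ∀ u, l u ∈ 𝒜 1 := fun u => by
    have := hl u
    rwa [one_smul] at this
  have hinv := (flat_rel 𝒜 hf hf' hf hf1 hf1' hf1 e e' hA).2
  refine ⟨flat e' (Away.mk 𝒜 hf' 1 f hf1), ?_, ?_⟩
  · refine IsUnit.of_mul_eq_one (flat e (Away.mk 𝒜 hf 1 f' hf1')) ?_
    rw [mul_comm]
    exact hinv
  · intro k a ha
    refine scale_of_homogeneous _ _ _ ?_ ?_ k a ha
    · intro r
      rw [prS_C, prS_C]
    · intro q
      rw [prS_X, prS_X, (flat_rel 𝒜 hf hf' (hl1 q) hf1 hf1' (hl q) e e' hA).1]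
      ring

end ProjS

section Main

variable {A : Type u} {σA : Type*} [CommRing A] [SetLike σA A] [AddSubgroupClass σA A]
  (𝒜 : ℕ → σA) [GradedRing 𝒜]

theorem proj_charts {R : Type u} [CommRing R] (alg : R →+* 𝒜 0) (d : ℕ) {Z : Scheme.{u}}
    (j : Z ⟶ Proj 𝒜) (l : Fin (d + 1) → A) (hl : ∀ t, l t ∈ 𝒜 1)
    (𝒰 : Z.OpenCover) (ii : 𝒰.I₀ → Fin (d + 1)) (hsurj : ∀ u, ∃ t, ii t = u)
    (e : ∀ t, 𝒰.X t ⟶ Spec (CommRingCat.of (Away 𝒜 (l (ii t)))))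
    (H1 : ∀ t, 𝒰.f t ≫ j = e t ≫ Proj.awayι 𝒜 (l (ii t)) (hl (ii t)) one_pos)
    (H3 : ∀ t (p : Z), j p ∈ Proj.basicOpen 𝒜 (l (ii t)) → p ∈ Set.range (𝒰.f t))
    (H5 : ∀ t, IsAffine (𝒰.X t)) :
    ∃ φ : Z ⟶ Proj (CohB1.polyGrading d R), IsAffineHom φ ∧
      φ ≫ Proj.toSpecZero (CohB1.polyGrading d R) ≫
        Spec.map (CommRingCat.ofHom (algebraMap R (CohB1.polyGrading d R 0))) =
      j ≫ Proj.toSpecZero 𝒜 ≫ Spec.map (CommRingCat.ofHom alg) := by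
  obtain ⟨pX, hpX⟩ : ∃ pX : Z ⟶ Spec (CommRingCat.of R),
      pX = j ≫ Proj.toSpecZero 𝒜 ≫ Spec.map (CommRingCat.ofHom alg) := ⟨_, rfl⟩
  rw [← hpX]
  have hl' : ∀ u, l u ∈ 𝒜 (1 • 1) := fun u => by rw [one_smul]; exact hl u
  obtain ⟨ρ, hρ⟩ : ∃ ρ : ∀ t, R →+* Γ(𝒰.X t, ⊤), ∀ t, ρ t = flat (𝒰.f t ≫ pX) :=
    ⟨_, fun _ => rfl⟩
  obtain ⟨s, hs⟩ : ∃ s : ∀ t, MvPolynomial (Fin (d + 1)) R →+* Γ(𝒰.X t, ⊤),
      ∀ t, s t = prS 𝒜 d R (ρ t) l hl' (hl (ii t)) (e t) := ⟨_, fun _ => rfl⟩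
  obtain ⟨h, hdef⟩ : ∃ h : 𝒰.I₀ → MvPolynomial (Fin (d + 1)) R,
      ∀ t, h t = X (ii t) := ⟨_, fun _ => rfl⟩
  have hh : ∀ t, h t ∈ CohB1.polyGrading d R 1 := by
    intro t
    rw [hdef]
    exact X_mem d R _
  have hone : ∀ t, s t (h t) = 1 := by
    intro t
    rw [hs, hdef, prS_X, mk_self, map_one]
  have hu : ∀ t, IsUnit (s t (h t)) := by
    intro t
    rw [hone]
    exact isUnit_one
  have hcompat : ∀ t t', ∃ u : Γ(pullback (𝒰.f t) (𝒰.f t'), ⊤), IsUnit u ∧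
      ∀ (k : ℕ) (a : MvPolynomial (Fin (d + 1)) R), a ∈ CohB1.polyGrading d R k →
        ((pullback.snd (𝒰.f t) (𝒰.f t')).appTop.hom.comp (s t')) a =
          u ^ k * ((pullback.fst (𝒰.f t) (𝒰.f t')).appTop.hom.comp (s t)) a := by
    intro t t'
    rw [hs t, hs t', comp_prS, comp_prS]
    have hρ' : (pullback.snd (𝒰.f t) (𝒰.f t')).appTop.hom.comp (ρ t') =
        (pullback.fst (𝒰.f t) (𝒰.f t')).appTop.hom.comp (ρ t) := by
      rw [hρ, hρ, ← flat_comp, ← flat_comp, ← Category.assoc, ← Category.assoc,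
        pullback.condition]
    rw [hρ']
    have hA : (pullback.fst (𝒰.f t) (𝒰.f t') ≫ e t) ≫
        Proj.awayι 𝒜 (l (ii t)) (hl (ii t)) one_pos =
        (pullback.snd (𝒰.f t) (𝒰.f t') ≫ e t') ≫
        Proj.awayι 𝒜 (l (ii t')) (hl (ii t')) one_pos := by
      rw [Category.assoc, ← H1 t, Category.assoc, ← H1 t', ← Category.assoc, ← Category.assoc,
        pullback.condition]
    exact prS_scale 𝒜 d R _ l hl' (hl (ii t)) (hl (ii t')) (hl' (ii t)) (hl' (ii t')) _ _ hA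
  obtain ⟨φ, hφ⟩ := exists_glue (CohB1.polyGrading d R) 𝒰 h hh s hu hcompat
  obtain ⟨θ, hθ⟩ : ∃ θ : ∀ t, Away (CohB1.polyGrading d R) (h t) →+* Γ(𝒰.X t, ⊤),
      ∀ t, θ t = evalAway (CohB1.polyGrading d R) (s t) (h t) (hu t) :=
    ⟨_, fun _ => rfl⟩
  have hφ' : ∀ t, 𝒰.f t ≫ φ =
      chart (CohB1.polyGrading d R) (𝒰.X t) (h t) (hh t) one_pos (θ t) := by
    intro t
    rw [hθ]
    exact hφ t
  have hval : ∀ t' t, θ t' (Away.isLocalizationElem (hh t') (hh t)) =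
      flat (e t') (Away.mk 𝒜 (hl (ii t')) 1 (l (ii t)) (hl' (ii t))) := by
    intro t' t
    have h1 := evalAway_mk (CohB1.polyGrading d R) (s t') (h t') (hu t') (hh t') 1
      (h t ^ 1) (SetLike.pow_mem_graded 1 (hh t))
    have e1 : s t' (h t ^ 1) = s t' (h t) := by rw [pow_one]
    have e2 : s t' (h t') ^ 1 = 1 := by rw [hone t', one_pow]
    have e3 : s t' (h t) =
        flat (e t') (Away.mk 𝒜 (hl (ii t')) 1 (l (ii t)) (hl' (ii t))) := by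
      rw [hs t', hdef t]
      exact prS_X 𝒜 d R _ _ _ _ _ (ii t)
    rw [e1, e2, mul_one, e3] at h1
    rw [hθ t']
    exact h1
  have hcov : (HomogeneousIdeal.irrelevant (CohB1.polyGrading d R)).toIdeal ≤
      Ideal.span (Set.range h) := by
    refine le_trans (irrelevant_le_span d R) (Ideal.span_mono ?_)
    rintro _ ⟨q, rfl⟩
    obtain ⟨t, rfl⟩ := hsurj q
    exact ⟨t, hdef t⟩
  refine ⟨φ, ?_, ?_⟩
  · refine prop_of_charts (P := @IsAffineHom) (CohB1.polyGrading d R) 𝒰 h hh hcov θ φ hφ' ?_ ?_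
    · intro t
      haveI := H5 t
      infer_instance
    · intro t p hp
      obtain ⟨t', w, rfl⟩ := 𝒰.exists_eq p
      have hφw : φ (𝒰.f t' w) =
          (Proj.awayι (CohB1.polyGrading d R) (h t') (hh t') one_pos)
            (ofRing (𝒰.X t') (θ t') w) := by
        rw [← Scheme.Hom.comp_apply, hφ' t']
        rfl
      rw [hφw] at hp
      have hp2 : ofRing (𝒰.X t') (θ t') w ∈
          (Proj.awayι (CohB1.polyGrading d R) (h t') (hh t') one_pos) ⁻¹ᵁ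
            Proj.basicOpen (CohB1.polyGrading d R) (h t) := hp
      rw [Proj.awayι_preimage_basicOpen (CohB1.polyGrading d R) (hh t') one_pos
        (hh t) one_pos] at hp2
      have hp3 : w ∈ (ofRing (𝒰.X t') (θ t')) ⁻¹ᵁ
          PrimeSpectrum.basicOpen (Away.isLocalizationElem (hh t') (hh t)) := hp2
      rw [preimage_basicOpen, flat_ofRing, hval t' t] at hp3
      apply H3 t
      have h6 := mem_basicOpen_of_flat' 𝒜 (hl (ii t')) (hl (ii t)) (hl' (ii t)) (e t') w hp3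
      rw [← H1 t'] at h6
      exact h6
  · refine glue_over (CohB1.polyGrading d R) 𝒰
      (algebraMap R (CohB1.polyGrading d R 0)) h hh s hu φ hφ pX ?_
    intro t r
    rw [hs, ← hρ]
    exact prS_C 𝒜 d R _ _ _ _ _ r

/-- The linear projection from `Proj 𝒜` to `P^d_R` defined by `d + 1` degree-one elements without
common zero on `X`. -/
theorem proj_abstract {R : Type u} [CommRing R] (alg : R →+* 𝒜 0) (d : ℕ) {X : Scheme.{u}}
    (j : X ⟶ Proj 𝒜) [IsAffineHom j]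
    (l : Fin (d + 1) → A) (hl : ∀ t, l t ∈ 𝒜 1)
    (hcov : ∀ x : X, ∃ t, l t ∉ (j x).asHomogeneousIdeal) :
    ∃ φ : X ⟶ Proj (CohB1.polyGrading d R), IsAffineHom φ ∧
      φ ≫ Proj.toSpecZero (CohB1.polyGrading d R) ≫
        Spec.map (CommRingCat.ofHom (algebraMap R (CohB1.polyGrading d R 0))) =
      j ≫ Proj.toSpecZero 𝒜 ≫ Spec.map (CommRingCat.ofHom alg) := by
  obtain ⟨U, hUdef⟩ : ∃ U : Fin (d + 1) → X.Opens,
      ∀ t, U t = j ⁻¹ᵁ Proj.basicOpen 𝒜 (l t) := ⟨_, fun _ => rfl⟩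
  have hUmem : ∀ t (x : X), x ∈ U t ↔ l t ∉ (j x).asHomogeneousIdeal := by
    intro t x
    rw [hUdef]
    exact Iff.rfl
  have hU : TopologicalSpace.IsOpenCover U := by
    rw [TopologicalSpace.IsOpenCover, eq_top_iff]
    intro x _
    rw [TopologicalSpace.Opens.mem_iSup]
    obtain ⟨t, ht⟩ := hcov x
    exact ⟨t, (hUmem t x).mpr ht⟩
  have hUaff : ∀ t, IsAffineOpen (U t) := by
    intro t
    rw [hUdef]
    exact (Proj.isAffineOpen_basicOpen 𝒜 (l t) (hl t) one_pos).preimage j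
  have hrange : ∀ t, Set.range ((U t).ι ≫ j) ⊆
      Set.range (Proj.awayι 𝒜 (l t) (hl t) one_pos) := by
    intro t
    rintro _ ⟨w, rfl⟩
    have hw : ((U t).ι w) ∈ U t := w.2
    have h2 : j ((U t).ι w) ∈ Proj.basicOpen 𝒜 (l t) := (hUmem t _).mp hw
    rw [← Proj.opensRange_awayι 𝒜 (l t) (hl t) one_pos] at h2
    exact h2
  refine proj_charts 𝒜 alg d j l hl (X.openCoverOfIsOpenCover U hU) (fun t => t)
    (fun u => ⟨u, rfl⟩)
    (fun t => IsOpenImmersion.lift (Proj.awayι 𝒜 (l t) (hl t) one_pos) ((U t).ι ≫ j)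
      (hrange t))
    (fun t => (IsOpenImmersion.lift_fac _ _ _).symm) ?_ ?_
  · intro (t : Fin (d + 1)) p hp
    show p ∈ Set.range ((U t).ι)
    rw [Scheme.Opens.range_ι, hUdef]
    exact hp
  · intro (t : Fin (d + 1))
    exact hUaff t

end Main

end Groth.Agent.Helper17.QP
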