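import Mathlib
import Groth.Prelude.Def_CohB1
import Groth.Agent.Lib.Helper17.QP6
import Groth.Agent.Lib.Helper17.QP7
import Groth.Agent.Lib.Helper15.TopDim
import Groth.Agent.Lib.Helper15.ProjSpaceProper

set_option autoImplicit false
universe u
open CategoryTheory AlgebraicGeometry Limits

namespace Groth.Agent.Helper17.QP

/-- extension of a function by a value at the top -/
def extTop {α β : Type*} (t : β) (g : α → β) (a : WithTop α) : β :=
  @WithTop.recTopCoe α (fun _ => β) t g a

/-- extension of a function by a value at the bottom -/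
def extBot {α β : Type*} (t : β) (g : α → β) (a : WithBot α) : β :=
  @WithBot.recBotCoe α (fun _ => β) t g a

section Spec

attribute [local instance] specializationOrder

/-- If the points of `X` map strictly increasingly (along generization) to primes strictly
between two given primes of `S`, then `dim X + 2 ≤ dim S`. -/
theorem topDim_add_two_le {X : Type*} [TopologicalSpace X] [QuasiSober X] [T0Space X]
    [Nonempty X] {S : Type*} [CommRing S] (G : X → PrimeSpectrum S) (P0 Pm : PrimeSpectrum S)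
    (hG : ∀ x y : X, x ⤳ y → x ≠ y → G x < G y) (h0 : ∀ x, P0 < G x) (hm : ∀ x, G x < Pm) :
    topologicalKrullDim X + 1 + 1 ≤ ringKrullDim S := by
  rw [Groth.Agent.Helper15.topologicalKrullDim_eq_krullDim_specialization]
  have hGd : StrictMono (fun a : Xᵒᵈ => G (OrderDual.ofDual a)) := by
    intro a b hab
    have hlt : OrderDual.ofDual b < OrderDual.ofDual a := hab
    have hsp : OrderDual.ofDual a ⤳ OrderDual.ofDual b := hlt.le
    refine hG _ _ hsp ?_
    intro heq
    rw [heq] at hlt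
    exact lt_irrefl _ hlt
  have hG' : StrictMono (extTop Pm (fun a : Xᵒᵈ => G (OrderDual.ofDual a))) := by
    rw [WithTop.strictMono_iff]
    exact ⟨hGd, fun x => hm _⟩
  have hF : StrictMono (extBot P0 (extTop Pm (fun a : Xᵒᵈ => G (OrderDual.ofDual a)))) := by
    rw [WithBot.strictMono_iff]
    refine ⟨hG', fun b => ?_⟩
    show P0 < extTop Pm (fun a : Xᵒᵈ => G (OrderDual.ofDual a)) b
    induction b using WithTop.recTopCoe with
    | top =>
      obtain ⟨x⟩ := ‹Nonempty X›
      exact (h0 x).trans (hm x)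
    | coe x => exact h0 _
  have h1 := Order.krullDim_le_of_strictMono _ hF
  rw [Order.krullDim_withBot, Order.krullDim_WithTop, Order.krullDim_orderDual] at h1
  exact h1

end Spec

section Proj

variable {A : Type u} {σ : Type*} [CommRing A] [SetLike σ A] [AddSubgroupClass σ A]
  (𝒜 : ℕ → σ) [GradedRing 𝒜]

theorem toIdeal_le_of_specializes (x y : ProjectiveSpectrum 𝒜) (h : x ⤳ y) :
    x.asHomogeneousIdeal.toIdeal ≤ y.asHomogeneousIdeal.toIdeal := by
  have h1 : x ≤ y :=
    (ProjectiveSpectrum.le_iff_mem_closure 𝒜 x y).mpr (specializes_iff_mem_closure.mp h)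
  intro a ha
  exact h1 ha

theorem specializes_of_toIdeal_eq_bot (x y : ProjectiveSpectrum 𝒜)
    (hx : x.asHomogeneousIdeal.toIdeal = ⊥) : y ∈ closure ({x} : Set (ProjectiveSpectrum 𝒜)) := by
  rw [← ProjectiveSpectrum.le_iff_mem_closure]
  show x.asHomogeneousIdeal ≤ y.asHomogeneousIdeal
  intro a ha
  have h1 : a ∈ x.asHomogeneousIdeal.toIdeal := ha
  rw [hx, Ideal.mem_bot] at h1
  rw [h1]
  exact zero_mem _

end Proj

section Poly

open MvPolynomial

variable (k : Type u) [Field k] (d : ℕ)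

theorem homogeneous_le_ker (p : Ideal (MvPolynomial (Fin (d + 1)) k))
    (hp : p.IsHomogeneous (CohB1.polyGrading d k)) (hne : p ≠ ⊤) :
    p ≤ RingHom.ker (constantCoeff : MvPolynomial (Fin (d + 1)) k →+* k) := by
  intro a ha
  rw [RingHom.mem_ker]
  by_contra hc
  apply hne
  rw [Ideal.eq_top_iff_one]
  have h0 : ((DirectSum.decompose (CohB1.polyGrading d k) a 0 : CohB1.polyGrading d k 0) :
      MvPolynomial (Fin (d + 1)) k) ∈ p := hp 0 ha
  have h1 : ((DirectSum.decompose (CohB1.polyGrading d k) a 0 : CohB1.polyGrading d k 0) :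
      MvPolynomial (Fin (d + 1)) k) = homogeneousComponent 0 a :=
    decomposition.decompose'_apply a 0
  rw [h1, homogeneousComponent_zero] at h0
  have hc' : coeff 0 a ≠ 0 := by
    rw [constantCoeff_eq] at hc
    exact hc
  have h2 : (C (coeff 0 a)⁻¹ : MvPolynomial (Fin (d + 1)) k) * C (coeff 0 a) = 1 := by
    rw [← C_mul, inv_mul_cancel₀ hc', C_1]
  rw [← h2]
  exact p.mul_mem_left _ h0

theorem irrelevant_le_ker :
    (HomogeneousIdeal.irrelevant (CohB1.polyGrading d k)).toIdeal ≤
      RingHom.ker (constantCoeff : MvPolynomial (Fin (d + 1)) k →+* k) := by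
  refine le_trans (Groth.Agent.Helper17.SG.irrelevant_le_span d k) (Ideal.span_le.mpr ?_)
  rintro _ ⟨j, rfl⟩
  show (X j : MvPolynomial (Fin (d + 1)) k) ∈
    RingHom.ker (constantCoeff : MvPolynomial (Fin (d + 1)) k →+* k)
  rw [RingHom.mem_ker, constantCoeff_X]

theorem toIdeal_lt_ker (y : ProjectiveSpectrum (CohB1.polyGrading d k)) :
    y.asHomogeneousIdeal.toIdeal <
      RingHom.ker (constantCoeff : MvPolynomial (Fin (d + 1)) k →+* k) := by
  rw [lt_iff_le_and_ne]
  refine ⟨homogeneous_le_ker k d _ y.asHomogeneousIdeal.isHomogeneous y.isPrime.ne_top, ?_⟩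
  intro heq
  apply y.not_irrelevant_le
  intro a ha
  show a ∈ y.asHomogeneousIdeal.toIdeal
  rw [heq]
  exact irrelevant_le_ker k d ha

theorem exists_linear_notMem (p : ProjectiveSpectrum (CohB1.polyGrading d k)) :
    ∃ l ∈ CohB1.polyGrading d k 1, l ∉ p.asHomogeneousIdeal.toIdeal := by
  by_contra hcon
  push_neg at hcon
  apply p.not_irrelevant_le
  intro a ha
  show a ∈ p.asHomogeneousIdeal.toIdeal
  have h1 := Groth.Agent.Helper17.SG.irrelevant_le_span d k ha
  refine (Ideal.span_le.mpr ?_) h1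
  rintro _ ⟨j, rfl⟩
  exact hcon _ (Groth.Agent.Helper17.SG.X_mem d k j)

/-- A finite morphism from a `d`-dimensional scheme to `P^d_k` is surjective. -/
theorem surjective_of_dim {Z : Scheme.{u}} (φ : Z ⟶ Proj (CohB1.polyGrading d k)) [IsFinite φ]
    (hd : topologicalKrullDim Z = d) : Surjective φ := by
  classical
  by_contra hns
  have hne : ∀ x : Z, (φ x).asHomogeneousIdeal.toIdeal ≠ ⊥ := by
    intro x hx
    apply hns
    constructor
    intro y
    have hcl : IsClosed (Set.range φ) := φ.isClosedMap.isClosed_range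
    have hy : y ∈ closure ({φ x} : Set (ProjectiveSpectrum (CohB1.polyGrading d k))) :=
      specializes_of_toIdeal_eq_bot (CohB1.polyGrading d k) (φ x) y hx
    exact (closure_minimal (Set.singleton_subset_iff.mpr (Set.mem_range_self x)) hcl) hy
  haveI hZne : Nonempty Z := by
    by_contra hemp
    rw [not_nonempty_iff] at hemp
    haveI : IsEmpty (TopologicalSpace.IrreducibleCloseds Z) :=
      ⟨fun c => hemp.false c.isIrreducible.nonempty.some⟩
    have h1 : topologicalKrullDim Z = ⊥ := by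
      unfold topologicalKrullDim
      exact Order.krullDim_eq_bot
    rw [h1] at hd
    exact absurd hd (by simp)
  obtain ⟨P0, hP0⟩ : ∃ P0 : PrimeSpectrum (MvPolynomial (Fin (d + 1)) k), P0.asIdeal = ⊥ :=
    ⟨⟨⊥, Ideal.isPrime_bot⟩, rfl⟩
  obtain ⟨Pm, hPm⟩ : ∃ Pm : PrimeSpectrum (MvPolynomial (Fin (d + 1)) k),
      Pm.asIdeal = RingHom.ker (constantCoeff : MvPolynomial (Fin (d + 1)) k →+* k) :=
    ⟨⟨RingHom.ker (constantCoeff : MvPolynomial (Fin (d + 1)) k →+* k),
      RingHom.ker_isPrime _⟩, rfl⟩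
  obtain ⟨G, hG⟩ : ∃ G : Z → PrimeSpectrum (MvPolynomial (Fin (d + 1)) k),
      ∀ x, (G x).asIdeal = (φ x).asHomogeneousIdeal.toIdeal :=
    ⟨fun x => ⟨(φ x).asHomogeneousIdeal.toIdeal, (φ x).isPrime⟩, fun _ => rfl⟩
  have hG1 : ∀ x y : Z, x ⤳ y → x ≠ y → G x < G y := by
    intro x y hsp hxy
    have h1 : φ x ⤳ φ y := hsp.map φ.continuous
    have h2 := toIdeal_le_of_specializes (CohB1.polyGrading d k) (φ x) (φ y) h1
    rw [lt_iff_le_and_ne]
    constructor
    · show (G x).asIdeal ≤ (G y).asIdeal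
      rw [hG, hG]
      exact h2
    · intro heq
      have h3 : (φ x).asHomogeneousIdeal.toIdeal = (φ y).asHomogeneousIdeal.toIdeal := by
        rw [← hG x, ← hG y, heq]
      have h4 : φ x = φ y :=
        ProjectiveSpectrum.ext (HomogeneousIdeal.toIdeal_injective h3)
      exact hxy ((φ.isDiscrete_preimage_singleton (φ y)).eq_of_specializes hsp h4 rfl)
  have hG0 : ∀ x, P0 < G x := by
    intro x
    rw [lt_iff_le_and_ne]
    constructor
    · show P0.asIdeal ≤ (G x).asIdeal
      rw [hP0]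
      exact bot_le
    · intro heq
      apply hne x
      rw [← hG x, ← heq, hP0]
  have hGm : ∀ x, G x < Pm := by
    intro x
    show (G x).asIdeal < Pm.asIdeal
    rw [hG, hPm]
    exact toIdeal_lt_ker k d (φ x)
  have h1 := topDim_add_two_le G P0 Pm hG1 hG0 hGm
  rw [hd, MvPolynomial.ringKrullDim_of_isNoetherianRing, ringKrullDim_eq_zero_of_field,
    zero_add, Nat.card_eq_fintype_card, Fintype.card_fin] at h1
  have h2 : ((d + 1 + 1 : ℕ) : WithBot ℕ∞) ≤ ((d + 1 : ℕ) : WithBot ℕ∞) := by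
    push_cast
    exact h1
  have h3 : d + 1 + 1 ≤ d + 1 := by exact_mod_cast h2
  omega

end Poly

theorem main10864 (k : Type u) [Field k] [Infinite k] (X : Scheme.{u})
    (n : ℕ) (ι : X ⟶ CohB1.ProjSpace n k) [IsClosedImmersion ι] (d : ℕ)
    (hd : topologicalKrullDim X = d) :
    ∃ π : X ⟶ CohB1.ProjSpace d k,
      π ≫ CohB1.ProjSpace.toSpec d k = ι ≫ CohB1.ProjSpace.toSpec n k ∧
      IsFinite π ∧ Surjective π := by
  haveI hcl : @IsClosedImmersion X (Proj (CohB1.polyGrading n k)) ι := ‹IsClosedImmersion ι›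
  haveI himm : @IsImmersion X (Proj (CohB1.polyGrading n k)) ι := inferInstance
  haveI haff : @IsAffineHom X (Proj (CohB1.polyGrading n k)) ι := inferInstance
  obtain ⟨l, hl, hcov⟩ := linear_cover (CohB1.polyGrading n k)
    (ι : X ⟶ Proj (CohB1.polyGrading n k)) (exists_linear_notMem k n) d (le_of_eq hd)
  obtain ⟨φ, hφaff, hφover⟩ := proj_abstract (CohB1.polyGrading n k)
    (algebraMap k (CohB1.polyGrading n k 0)) d
    (ι : X ⟶ Proj (CohB1.polyGrading n k)) l hl hcov
  have hover : (φ : X ⟶ CohB1.ProjSpace d k) ≫ CohB1.ProjSpace.toSpec d k =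
      ι ≫ CohB1.ProjSpace.toSpec n k := hφover
  haveI hprop : IsProper ((φ : X ⟶ CohB1.ProjSpace d k) ≫ CohB1.ProjSpace.toSpec d k) := by
    rw [hover]
    infer_instance
  haveI hφprop : IsProper (φ : X ⟶ CohB1.ProjSpace d k) :=
    IsProper.of_comp (φ : X ⟶ CohB1.ProjSpace d k) (CohB1.ProjSpace.toSpec d k)
  haveI hφfin : IsFinite (φ : X ⟶ CohB1.ProjSpace d k) :=
    IsFinite.iff_isProper_and_isAffineHom.mpr ⟨hφprop, hφaff⟩
  exact ⟨φ, hover, hφfin, surjective_of_dim k d φ hd⟩

end Groth.Agent.Helper17.QP
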