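import Mathlib

/-!
# Roberts' derivation: invariants of positive degree have no constant term in x, y, z (helper17)
-/

set_option autoImplicit false

namespace Groth.Agent.Helper17.RB

open MvPolynomial Finsupp

universe u

variable {k : Type u} [Field k]

theorem coeff_monomial_mul_pderiv {σ : Type*} (e γ : σ →₀ ℕ) (i : σ) (f : MvPolynomial σ k) :
    coeff e (monomial γ (1 : k) * pderiv i f) =
      if γ ≤ e then coeff (e - γ + single i 1) f * (((e - γ) i : k) + 1) else 0 := by
  classical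
  rw [coeff_monomial_mul', coeff_pderiv, one_mul]

theorem roberts [CharZero k] (m : ℕ) (hm : 2 ≤ m) (n : ℕ) (hn : 1 ≤ n)
    (f : MvPolynomial (Fin 7) k)
    (hf : MvPolynomial.IsWeightedHomogeneous (![0, 0, 0, 1, 1, 1, 1] : Fin 7 → ℕ) f n)
    (hδ : MvPolynomial.mkDerivation k
      (![0, 0, 0, MvPolynomial.X 0 ^ (m + 1), MvPolynomial.X 1 ^ (m + 1), MvPolynomial.X 2 ^ (m + 1),
        (MvPolynomial.X 0 * MvPolynomial.X 1 * MvPolynomial.X 2) ^ m] :
          Fin 7 → MvPolynomial (Fin 7) k) f = 0) :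
    ∀ d ∈ f.support, 0 < d 0 + d 1 + d 2 := by
  classical
  intro d hd
  by_contra hcon
  have hd0 : d 0 = 0 := by omega
  have hd1 : d 1 = 0 := by omega
  have hd2 : d 2 = 0 := by omega
  have hcoef : coeff d f ≠ 0 := MvPolynomial.mem_support_iff.mp hd
  have hw := hf hcoef
  have hsum : d 3 + d 4 + d 5 + d 6 = n := by
    rw [Finsupp.weight_apply, Finsupp.sum_fintype _ _ (by simp), Fin.sum_univ_seven] at hw
    simpa using hw
  set γ3 : Fin 7 →₀ ℕ := single 0 (m + 1) with hγ3
  set γ4 : Fin 7 →₀ ℕ := single 1 (m + 1) with hγ4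
  set γ5 : Fin 7 →₀ ℕ := single 2 (m + 1) with hγ5
  set γ6 : Fin 7 →₀ ℕ := single 0 m + single 1 m + single 2 m with hγ6
  have hD : ∀ p : MvPolynomial (Fin 7) k, MvPolynomial.mkDerivation k
      (![0, 0, 0, MvPolynomial.X 0 ^ (m + 1), MvPolynomial.X 1 ^ (m + 1), MvPolynomial.X 2 ^ (m + 1),
        (MvPolynomial.X 0 * MvPolynomial.X 1 * MvPolynomial.X 2) ^ m] :
          Fin 7 → MvPolynomial (Fin 7) k) p =
      monomial γ3 (1 : k) * pderiv 3 p + monomial γ4 (1 : k) * pderiv 4 p +
        monomial γ5 (1 : k) * pderiv 5 p + monomial γ6 (1 : k) * pderiv 6 p := by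
    intro p
    have hder : MvPolynomial.mkDerivation k
        (![0, 0, 0, MvPolynomial.X 0 ^ (m + 1), MvPolynomial.X 1 ^ (m + 1),
          MvPolynomial.X 2 ^ (m + 1),
          (MvPolynomial.X 0 * MvPolynomial.X 1 * MvPolynomial.X 2) ^ m] :
            Fin 7 → MvPolynomial (Fin 7) k) =
        (monomial γ3 (1 : k)) • (pderiv 3 : Derivation k (MvPolynomial (Fin 7) k) _) +
          (monomial γ4 (1 : k)) • (pderiv 4 : Derivation k (MvPolynomial (Fin 7) k) _) +
          (monomial γ5 (1 : k)) • (pderiv 5 : Derivation k (MvPolynomial (Fin 7) k) _) +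
          (monomial γ6 (1 : k)) • (pderiv 6 : Derivation k (MvPolynomial (Fin 7) k) _) := by
      apply derivation_ext
      intro i
      fin_cases i <;>
        simp [pderiv_X, X_pow_eq_monomial, mul_pow, monomial_mul, hγ3, hγ4, hγ5,
          hγ6]
    rw [hder]
    simp [smul_eq_mul]
  have key : ∀ e : Fin 7 →₀ ℕ,
      (if γ3 ≤ e then coeff (e - γ3 + single 3 1) f * (((e - γ3) 3 : k) + 1) else 0) +
      (if γ4 ≤ e then coeff (e - γ4 + single 4 1) f * (((e - γ4) 4 : k) + 1) else 0) +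
      (if γ5 ≤ e then coeff (e - γ5 + single 5 1) f * (((e - γ5) 5 : k) + 1) else 0) +
      (if γ6 ≤ e then coeff (e - γ6 + single 6 1) f * (((e - γ6) 6 : k) + 1) else 0) = 0 := by
    intro e
    have h1 := congrArg (coeff e) hδ
    rw [hD f, coeff_add, coeff_add, coeff_add, coeff_monomial_mul_pderiv,
      coeff_monomial_mul_pderiv, coeff_monomial_mul_pderiv, coeff_monomial_mul_pderiv,
      coeff_zero] at h1
    exact h1
  -- final contradiction given the relevant index
  have fin : ∀ (j : Fin 7) (γ : Fin 7 →₀ ℕ), 1 ≤ d j →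
      coeff ((d - single j 1 + γ - γ : Fin 7 →₀ ℕ) + single j 1) f *
        ((((d - single j 1 + γ - γ : Fin 7 →₀ ℕ) j : ℕ) : k) + 1) = 0 → False := by
    intro j γ hj h
    rw [add_tsub_cancel_right, tsub_add_cancel_of_le (single_le_iff.mpr hj)] at h
    rcases mul_eq_zero.mp h with h | h
    · exact hcoef h
    · exact Nat.cast_add_one_ne_zero _ h
  have hmpos : 1 ≤ m := by omega
  rcases (by omega : 1 ≤ d 3 ∨ 1 ≤ d 4 ∨ 1 ≤ d 5 ∨ 1 ≤ d 6) with hj | hj | hj | hj
  · have hk := key (d - single 3 1 + γ3)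
    have n4 : ¬ γ4 ≤ d - single 3 1 + γ3 := fun hle => by
      have := hle 1; simp [hγ3, hγ4, hd1] at this
    have n5 : ¬ γ5 ≤ d - single 3 1 + γ3 := fun hle => by
      have := hle 2; simp [hγ3, hγ5, hd2] at this
    have n6 : ¬ γ6 ≤ d - single 3 1 + γ3 := fun hle => by
      have := hle 1; simp [hγ3, hγ6, hd1] at this; omega
    rw [if_pos (le_add_left le_rfl), if_neg n4, if_neg n5, if_neg n6, add_zero, add_zero,
      add_zero] at hk
    exact fin 3 γ3 hj hk
  · have hk := key (d - single 4 1 + γ4)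
    have n3 : ¬ γ3 ≤ d - single 4 1 + γ4 := fun hle => by
      have := hle 0; simp [hγ3, hγ4, hd0] at this
    have n5 : ¬ γ5 ≤ d - single 4 1 + γ4 := fun hle => by
      have := hle 2; simp [hγ4, hγ5, hd2] at this
    have n6 : ¬ γ6 ≤ d - single 4 1 + γ4 := fun hle => by
      have := hle 0; simp [hγ4, hγ6, hd0] at this; omega
    rw [if_neg n3, if_pos (le_add_left le_rfl), if_neg n5, if_neg n6, zero_add, add_zero,
      add_zero] at hk
    exact fin 4 γ4 hj hk
  · have hk := key (d - single 5 1 + γ5)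
    have n3 : ¬ γ3 ≤ d - single 5 1 + γ5 := fun hle => by
      have := hle 0; simp [hγ3, hγ5, hd0] at this
    have n4 : ¬ γ4 ≤ d - single 5 1 + γ5 := fun hle => by
      have := hle 1; simp [hγ4, hγ5, hd1] at this
    have n6 : ¬ γ6 ≤ d - single 5 1 + γ5 := fun hle => by
      have := hle 0; simp [hγ5, hγ6, hd0] at this; omega
    rw [if_neg n3, if_neg n4, if_pos (le_add_left le_rfl), if_neg n6, zero_add, zero_add,
      add_zero] at hk
    exact fin 5 γ5 hj hk
  · have hk := key (d - single 6 1 + γ6)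
    have n3 : ¬ γ3 ≤ d - single 6 1 + γ6 := fun hle => by
      have := hle 0; simp [hγ3, hγ6, hd0] at this
    have n4 : ¬ γ4 ≤ d - single 6 1 + γ6 := fun hle => by
      have := hle 1; simp [hγ4, hγ6, hd1] at this
    have n5 : ¬ γ5 ≤ d - single 6 1 + γ6 := fun hle => by
      have := hle 2; simp [hγ5, hγ6, hd2] at this
    rw [if_neg n3, if_neg n4, if_neg n5, if_pos (le_add_left le_rfl), zero_add, zero_add,
      zero_add] at hk
    exact fin 6 γ6 hj hk

end Groth.Agent.Helper17.RB
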