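import Mathlib
import Groth.Agent.Lib.Helper17.RG3
import Groth.Agent.Lib.Helper6.ThickAffB

/-!
# S11452: flat deformations of regular affine schemes over local Artinian algebras are trivial
(helper17)
-/

set_option autoImplicit false

namespace Groth.Agent.Helper17.RG4

open AlgebraicGeometry CategoryTheory IsLocalRing

universe u

theorem regular_localization (X : Scheme.{u}) [IsAffine X]
    (hreg : ∀ x : X, IsRegularLocalRing (X.presheaf.stalk x))
    (p : Ideal Γ(X, ⊤)) [hp : p.IsPrime] : IsRegularLocalRing (Localization.AtPrime p) := by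
  have hy : (isAffineOpen_top X).fromSpec (⟨p, hp⟩ : PrimeSpectrum Γ(X, ⊤)) ∈ (⊤ : X.Opens) :=
    trivial
  letI := TopCat.Presheaf.algebra_section_stalk X.presheaf
    (⟨(isAffineOpen_top X).fromSpec (⟨p, hp⟩ : PrimeSpectrum Γ(X, ⊤)), hy⟩ : (⊤ : X.Opens))
  haveI hloc : IsLocalization.AtPrime
      (X.presheaf.stalk ((isAffineOpen_top X).fromSpec (⟨p, hp⟩ : PrimeSpectrum Γ(X, ⊤)))) p :=
    (isAffineOpen_top X).isLocalization_stalk' ⟨p, hp⟩ hy
  haveI := hreg ((isAffineOpen_top X).fromSpec (⟨p, hp⟩ : PrimeSpectrum Γ(X, ⊤)))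
  exact IsRegularLocalRing.of_ringEquiv
    (IsLocalization.algEquiv p.primeCompl
      (X.presheaf.stalk ((isAffineOpen_top X).fromSpec (⟨p, hp⟩ : PrimeSpectrum Γ(X, ⊤))))
      (Localization.AtPrime p)).toRingEquiv

theorem main11452 (k : Type u) [Field k] [IsAlgClosed k] (X : Scheme.{u})
    (hX : X ⟶ Spec (CommRingCat.of k)) [IsAffine X]
    [LocallyOfFiniteType hX] (hreg : ∀ x : X, IsRegularLocalRing (X.presheaf.stalk x))
    (A : Type u) [CommRing A] [IsLocalRing A] [IsArtinianRing A] [Algebra k A] (e : A →ₐ[k] k)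
    (X' : Scheme.{u}) (g : X' ⟶ Spec (CommRingCat.of A)) [Flat g] (i : X ⟶ X')
    (hsq : IsPullback i hX g (Spec.map (CommRingCat.ofHom e.toRingHom))) :
    ∃ φ : X' ≅ Limits.pullback hX (Spec.map (CommRingCat.ofHom (algebraMap k A))),
      φ.hom ≫ Limits.pullback.snd hX (Spec.map (CommRingCat.ofHom (algebraMap k A))) = g := by
  have hm : IsNilpotent (maximalIdeal A) :=
    (isArtinianRing_iff_isNilpotent_maximalIdeal A).1 inferInstance
  have hesurj : Function.Surjective (CommRingCat.ofHom e.toRingHom).hom :=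
    fun c => ⟨algebraMap k A c, by simp⟩
  haveI : IsClosedImmersion (Spec.map (CommRingCat.ofHom e.toRingHom)) :=
    IsClosedImmersion.spec_of_surjective _ hesurj
  haveI : IsClosedImmersion i := MorphismProperty.of_isPullback hsq.flip inferInstance
  haveI : Subsingleton ↥(Spec (CommRingCat.of A)) :=
    inferInstanceAs (Subsingleton (PrimeSpectrum A))
  haveI : Nonempty ↥(Spec (CommRingCat.of k)) :=
    inferInstanceAs (Nonempty (PrimeSpectrum k))
  haveI : Surjective (Spec.map (CommRingCat.ofHom e.toRingHom)) := inferInstance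
  haveI : Surjective i := MorphismProperty.of_isPullback hsq.flip inferInstance
  haveI : IsAffine X' :=
    Groth.Agent.Helper6.ThickAff.isAffine_of_isClosedImmersion_of_surjective i i.surjective
  let α : CommRingCat.of A ⟶ Γ(X', ⊤) := (Scheme.ΓSpecIso (CommRingCat.of A)).inv ≫ g.appTop
  let κ : CommRingCat.of k ⟶ Γ(X, ⊤) := (Scheme.ΓSpecIso (CommRingCat.of k)).inv ≫ hX.appTop
  have hg : X'.isoSpec.hom ≫ Spec.map α = g := by
    rw [Spec.map_comp, Scheme.isoSpec_hom_naturality_assoc, Scheme.isoSpec_Spec_hom,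
      ← Spec.map_comp, Iso.inv_hom_id, Spec.map_id, Category.comp_id]
  have hhX : X.isoSpec.hom ≫ Spec.map κ = hX := by
    rw [Spec.map_comp, Scheme.isoSpec_hom_naturality_assoc, Scheme.isoSpec_Spec_hom,
      ← Spec.map_comp, Iso.inv_hom_id, Spec.map_id, Category.comp_id]
  have hi : i ≫ X'.isoSpec.hom = X.isoSpec.hom ≫ Spec.map i.appTop :=
    (Scheme.isoSpec_hom_naturality i).symm
  have hsq' : IsPullback (Spec.map i.appTop) (Spec.map κ) (Spec.map α)
      (Spec.map (CommRingCat.ofHom e.toRingHom)) :=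
    IsPullback.of_iso hsq X.isoSpec X'.isoSpec (Iso.refl _) (Iso.refl _) hi
      (by simp [hhX]) (by simp [hg]) (by simp)
  haveI : Flat (Spec.map α) := by
    have : Spec.map α = X'.isoSpec.inv ≫ g := by rw [← hg, Iso.inv_hom_id_assoc]
    rw [this]
    infer_instance
  haveI : LocallyOfFiniteType (Spec.map κ) := by
    have : Spec.map κ = X.isoSpec.inv ≫ hX := by rw [← hhX, Iso.inv_hom_id_assoc]
    rw [this]
    infer_instance
  obtain ⟨s, hs⟩ := Groth.Agent.Helper17.RG3.spec_version k A e hm Γ(X, ⊤) Γ(X', ⊤) α κ i.appTop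
    (fun p _ => regular_localization X hreg p) hsq'
  have hfinal : IsPullback (X'.isoSpec.hom ≫ Spec.map s ≫ X.isoSpec.inv) g hX
      (Spec.map (CommRingCat.ofHom (algebraMap k A))) :=
    IsPullback.of_iso hs X'.isoSpec.symm X.isoSpec.symm (Iso.refl _) (Iso.refl _)
      (by simp) (by simp [← hg]) (by simp [← hhX]) (by simp)
  exact ⟨hfinal.isoPullback, hfinal.isoPullback_hom_snd⟩

end Groth.Agent.Helper17.RG4
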