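import Mathlib
import Groth.Agent.Lib.Helper6.ThickAffB

/-!
# S17661: a ribbon (square-zero thickening) on a smooth affine scheme over a field is split
(helper17)
-/

set_option autoImplicit false

namespace Groth.Agent.Helper17.RIB1

open AlgebraicGeometry CategoryTheory

universe u

theorem surjective_subschemeι {C : Scheme.{u}} (I : C.IdealSheafData) (hI : I ^ 2 = ⊥) :
    Function.Surjective I.subschemeι.base := by
  intro x
  have h1 : Set.range I.subschemeι = I.support := I.range_subschemeι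
  have h2 : I.support = (⊤ : TopologicalSpace.Closeds C) := by
    rw [← Scheme.IdealSheafData.support_pow I 2 (by norm_num), hI]
    rfl
  have hx : x ∈ Set.range I.subschemeι := by
    rw [h1, h2]
    trivial
  exact hx

theorem main17661 (k : Type u) [Field k] (C : Scheme.{u}) (sC : C ⟶ Spec (CommRingCat.of k))
    (I : C.IdealSheafData) (hI : I ^ 2 = ⊥) [IsAffine I.subscheme]
    [Smooth (I.subschemeι ≫ sC)] :
    ∃ r : C ⟶ I.subscheme, I.subschemeι ≫ r = 𝟙 I.subscheme ∧
      r ≫ I.subschemeι ≫ sC = sC := by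
  have hsurj := surjective_subschemeι I hI
  haveI : IsAffine C :=
    Groth.Agent.Helper6.ThickAff.isAffine_of_isClosedImmersion_of_surjective I.subschemeι hsurj
  let U : C.affineOpens := ⟨⊤, isAffineOpen_top C⟩
  let φ : Γ(C, ⊤) ⟶ Γ(I.subscheme, ⊤) := I.subschemeι.appTop
  have hφsurj : Function.Surjective φ.hom := I.subschemeι_app_surjective U
  have hφker : RingHom.ker φ.hom = I.ideal U := I.ker_subschemeι_app U
  have hsq : (RingHom.ker φ.hom) ^ 2 = ⊥ := by
    rw [hφker]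
    have h := congrArg (fun J : C.IdealSheafData => J.ideal U) hI
    simpa using h
  let κ : CommRingCat.of k ⟶ Γ(C, ⊤) := (Scheme.ΓSpecIso (CommRingCat.of k)).inv ≫ sC.appTop
  have hsC : C.isoSpec.hom ≫ Spec.map κ = sC := by
    rw [Spec.map_comp, Scheme.isoSpec_hom_naturality_assoc, Scheme.isoSpec_Spec_hom,
      ← Spec.map_comp, Iso.inv_hom_id, Spec.map_id, Category.comp_id]
  have hnat : I.subschemeι ≫ C.isoSpec.hom = I.subscheme.isoSpec.hom ≫ Spec.map φ :=
    (Scheme.isoSpec_hom_naturality I.subschemeι).symm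
  have hsD : I.subscheme.isoSpec.hom ≫ Spec.map (κ ≫ φ) = I.subschemeι ≫ sC := by
    rw [Spec.map_comp, ← Category.assoc, ← hnat, Category.assoc, hsC]
  haveI : Smooth (Spec.map (κ ≫ φ)) := by
    have : Spec.map (κ ≫ φ) = I.subscheme.isoSpec.inv ≫ I.subschemeι ≫ sC := by
      rw [← hsD, Iso.inv_hom_id_assoc]
    rw [this]
    infer_instance
  letI algR : Algebra k Γ(C, ⊤) := κ.hom.toAlgebra
  letI algS : Algebra k Γ(I.subscheme, ⊤) := (κ ≫ φ).hom.toAlgebra
  haveI : Algebra.Smooth k Γ(I.subscheme, ⊤) :=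
    (show (κ ≫ φ).hom.Smooth from
      (HasRingHomProperty.Spec_iff (P := @Smooth)).1 inferInstance)
  let φa : Γ(C, ⊤) →ₐ[k] Γ(I.subscheme, ⊤) :=
    { φ.hom with commutes' := fun c => rfl }
  have hnil : IsNilpotent (RingHom.ker (φa : Γ(C, ⊤) →+* Γ(I.subscheme, ⊤))) := ⟨2, hsq⟩
  let σ : Γ(I.subscheme, ⊤) →ₐ[k] Γ(C, ⊤) :=
    Algebra.FormallySmooth.liftOfSurjective (AlgHom.id k _) φa hφsurj hnil
  have hσ : φa.comp σ = AlgHom.id k _ :=
    Algebra.FormallySmooth.comp_liftOfSurjective (AlgHom.id k _) φa hφsurj hnil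
  let σc : Γ(I.subscheme, ⊤) ⟶ Γ(C, ⊤) := CommRingCat.ofHom σ.toRingHom
  have h1 : σc ≫ φ = 𝟙 _ := by
    refine CommRingCat.hom_ext (RingHom.ext fun x => ?_)
    exact congrArg (fun f : Γ(I.subscheme, ⊤) →ₐ[k] Γ(I.subscheme, ⊤) => f x) hσ
  have h2 : (κ ≫ φ) ≫ σc = κ := by
    refine CommRingCat.hom_ext (RingHom.ext fun c => ?_)
    exact σ.commutes c
  refine ⟨C.isoSpec.hom ≫ Spec.map σc ≫ I.subscheme.isoSpec.inv, ?_, ?_⟩
  · rw [← Category.assoc, hnat, Category.assoc, ← Category.assoc (Spec.map φ), ← Spec.map_comp, h1,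
      Spec.map_id, Category.id_comp, Iso.hom_inv_id]
  · rw [Category.assoc, Category.assoc, ← hsD, Iso.inv_hom_id_assoc, ← Spec.map_comp, h2, hsC]

end Groth.Agent.Helper17.RIB1
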