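import Mathlib
import Groth.Agent.Lib.Helper17.RQ3

set_option autoImplicit false

universe u

open scoped TensorProduct Pointwise

namespace Groth.Agent.Helper17.RQ

open IsLocalRing RingTheory.Sequence

variable {C : Type u} [CommRing C] {A : Type u} [CommRing A] [Algebra C A]
  [IsLocalRing C] [IsNoetherianRing C] [IsLocalRing A] [IsNoetherianRing A]

/-- descending flatness along a regular sequence in the maximal ideal -/
theorem flat_of_weaklyRegular (hm : IsNilpotent (maximalIdeal C)) (rs : List A)
    (hrs : ∀ r ∈ rs, r ∈ maximalIdeal A) :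
    ∀ (M : Type u) [AddCommGroup M] [Module A M] [Module C M] [IsScalarTower C A M]
      [Module.Finite A M], IsWeaklyRegular M rs →
      Module.Flat C (M ⧸ (Ideal.ofList rs • ⊤ : Submodule A M)) → Module.Flat C M := by
  induction rs with
  | nil =>
    intro M _ _ _ _ _ _ hflat
    have h0 : (Ideal.ofList ([] : List A) • ⊤ : Submodule A M) = ⊥ := by
      rw [Ideal.ofList_nil, Submodule.bot_smul]
    exact Module.Flat.of_linearEquiv
      ((Submodule.quotEquivOfEqBot _ h0).symm.restrictScalars C)
  | cons r rs ih =>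
    intro M _ _ _ _ _ hw hflat
    rw [isWeaklyRegular_cons_iff] at hw
    obtain ⟨hr, hw'⟩ := hw
    have hflat' : Module.Flat C
        (QuotSMulTop r M ⧸ (Ideal.ofList rs • ⊤ : Submodule A (QuotSMulTop r M))) :=
      Module.Flat.of_linearEquiv
        ((Submodule.quotOfListConsSMulTopEquivQuotSMulTopInner M r rs).symm.restrictScalars C)
    have h1 : Module.Flat C (QuotSMulTop r M) :=
      ih (fun x hx => hrs x (List.mem_cons_of_mem _ hx)) (QuotSMulTop r M) hw' hflat'
    exact flat_of_regular_of_flat_quot hm r (hrs r List.mem_cons_self) hr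

/-- a regular sequence with flat quotient stays regular modulo the maximal ideal of the base -/
theorem weaklyRegular_mod (hm : IsNilpotent (maximalIdeal C)) (rs : List A)
    (hrs : ∀ r ∈ rs, r ∈ maximalIdeal A) :
    ∀ (M : Type u) [AddCommGroup M] [Module A M] [Module C M] [IsScalarTower C A M]
      [Module.Finite A M], IsWeaklyRegular M rs →
      Module.Flat C (M ⧸ (Ideal.ofList rs • ⊤ : Submodule A M)) →
      IsWeaklyRegular (M ⧸ ((maximalIdeal C).map (algebraMap C A) • ⊤ : Submodule A M)) rs := by
  induction rs with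
  | nil =>
    intro M _ _ _ _ _ _ _
    exact IsWeaklyRegular.nil A _
  | cons r rs ih =>
    intro M _ _ _ _ _ hw hflat
    rw [isWeaklyRegular_cons_iff] at hw
    obtain ⟨hr, hw'⟩ := hw
    have hrs' : ∀ x ∈ rs, x ∈ maximalIdeal A := fun x hx => hrs x (List.mem_cons_of_mem _ hx)
    have hflat' : Module.Flat C
        (QuotSMulTop r M ⧸ (Ideal.ofList rs • ⊤ : Submodule A (QuotSMulTop r M))) :=
      Module.Flat.of_linearEquiv
        ((Submodule.quotOfListConsSMulTopEquivQuotSMulTopInner M r rs).symm.restrictScalars C)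
    have h1 : Module.Flat C (QuotSMulTop r M) :=
      flat_of_weaklyRegular hm rs hrs' (QuotSMulTop r M) hw' hflat'
    have h2 := regular_mod (maximalIdeal C) r hr
    have h3 := ih hrs' (QuotSMulTop r M) hw' hflat'
    have h4 := ((quotSwap ((maximalIdeal C).map (algebraMap C A)) r).isWeaklyRegular_congr rs).mpr h3
    exact (isWeaklyRegular_cons_iff _ r rs).mpr ⟨h2, h4⟩

end Groth.Agent.Helper17.RQ
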