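import Mathlib
import Groth.Agent.Lib.Helper17.RQ2
import Groth.Agent.Lib.Helper17.RQ4

/-!
# Lifting a regular sequence with flat quotient across a small extension of the base
-/

set_option autoImplicit false

universe u

open scoped TensorProduct Pointwise

namespace Groth.Agent.Helper17.RQ

open IsLocalRing RingTheory.Sequence Groth.Agent.Helper22.ArtFlat

theorem isNoetherianRing_of_nilpotent {R : Type*} [CommRing R] (N : Ideal R) (hN : IsNilpotent N)
    (hfg : N.FG) [IsNoetherianRing (R ⧸ N)] : IsNoetherianRing R := by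
  refine IsNoetherianRing.of_prime fun P hP => ?_
  have hNP : N ≤ P := by
    obtain ⟨n, hn⟩ := hN
    have := hP
    refine Ideal.IsPrime.le_of_pow_le (P := P) (n := n) ?_
    rw [hn, Ideal.zero_eq_bot]
    exact bot_le
  refine Ideal.fg_of_fg_map_of_fg_inf_ker_of_surjective (f := Ideal.Quotient.mk N) ?_ ?_
    Ideal.Quotient.mk_surjective
  · exact IsNoetherian.noetherian _
  · rw [Ideal.mk_ker, inf_eq_right.mpr hNP]
    exact hfg

theorem isLocalRing_of_nilpotent {R : Type*} [CommRing R] (N : Ideal R) (hN : IsNilpotent N)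
    [IsLocalRing (R ⧸ N)] : IsLocalRing R := by
  have : Nontrivial R := (Ideal.Quotient.mk N).domain_nontrivial
  refine IsLocalRing.of_isUnit_or_isUnit_one_sub_self fun a => ?_
  rcases IsLocalRing.isUnit_or_isUnit_one_sub_self (Ideal.Quotient.mk N a) with h | h
  · exact Or.inl (hN.isUnit_quotient_mk_iff.mp h)
  · right
    rw [← map_one (Ideal.Quotient.mk N), ← map_sub] at h
    exact hN.isUnit_quotient_mk_iff.mp h

theorem ofList_ofFn {R : Type*} [CommRing R] {n : ℕ} (a : Fin n → R) :
    Ideal.ofList (List.ofFn a) = Ideal.span (Set.range a) := by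
  unfold Ideal.ofList
  congr 1
  ext x
  simp [List.mem_ofFn]

lemma smul_top_eq {R : Type*} [CommRing R] (I : Ideal R) : (I • ⊤ : Submodule R R) = I := by
  rw [smul_eq_mul, Ideal.mul_top]

/-- `(R/S)/(T(R/S)) ≃ R/T` as `R`-modules, for ideals `S ≤ T`. -/
noncomputable def quotQuot {R : Type*} [CommRing R] (S T : Ideal R) (h : S ≤ T) :
    ((R ⧸ S) ⧸ ((T.map (Ideal.Quotient.mk S)) • ⊤ : Submodule (R ⧸ S) (R ⧸ S))) ≃ₗ[R]
      R ⧸ (T • ⊤ : Submodule R R) :=
  (Submodule.Quotient.restrictScalarsEquiv R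
      ((T.map (Ideal.Quotient.mk S)) • ⊤ : Submodule (R ⧸ S) (R ⧸ S))).symm ≪≫ₗ
    Submodule.quotEquivOfEq _ (Submodule.map (Submodule.mkQ S) (T • ⊤ : Submodule R R)) (by
      ext x
      rw [Submodule.restrictScalars_mem, smul_top_eq, smul_top_eq, Submodule.mem_map,
        Ideal.mem_map_iff_of_surjective _ Ideal.Quotient.mk_surjective]
      rfl) ≪≫ₗ
    Submodule.quotientQuotientEquivQuotient S (T • ⊤ : Submodule R R)
      (by rw [smul_top_eq]; exact h)

theorem main5 (C' : Type u) [CommRing C'] [IsLocalRing C'] [IsArtinianRing C'] (J : Ideal C')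
    (hJne : J ≠ ⊤) (A' : Type u) [CommRing A'] [Algebra C' A'] [Module.Flat C' A']
    [IsNoetherianRing (A' ⧸ (maximalIdeal C').map (algebraMap C' A'))]
    [IsLocalRing (A' ⧸ (maximalIdeal C').map (algebraMap C' A'))]
    (r : ℕ) (a' : Fin r → A')
    (hreg : IsRegular (A' ⧸ J.map (algebraMap C' A'))
      (List.ofFn (fun i => Ideal.Quotient.mk (J.map (algebraMap C' A')) (a' i))))
    [Module.Flat (C' ⧸ J) ((A' ⧸ J.map (algebraMap C' A')) ⧸
      Ideal.span (Set.range (fun i => Ideal.Quotient.mk (J.map (algebraMap C' A')) (a' i))))] :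
    IsRegular A' (List.ofFn a') ∧ Module.Flat C' (A' ⧸ Ideal.span (Set.range a')) := by
  have hm' : IsNilpotent (maximalIdeal C') := isNilpotent_maximalIdeal C'
  have hK'nil : IsNilpotent ((maximalIdeal C').map (algebraMap C' A')) := by
    obtain ⟨n, hn⟩ := hm'
    exact ⟨n, by rw [← Ideal.map_pow, hn, Ideal.zero_eq_bot, Ideal.map_bot, Ideal.zero_eq_bot]⟩
  have hK'fg : ((maximalIdeal C').map (algebraMap C' A')).FG :=
    Ideal.FG.map (IsNoetherian.noetherian _) _
  have hA'N : IsNoetherianRing A' := isNoetherianRing_of_nilpotent _ hK'nil hK'fg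
  have hA'L : IsLocalRing A' := isLocalRing_of_nilpotent _ hK'nil
  have hJle : J ≤ maximalIdeal C' := IsLocalRing.le_maximalIdeal hJne
  have hK'le : (maximalIdeal C').map (algebraMap C' A') ≤ maximalIdeal A' := by
    obtain ⟨n, hn⟩ := hK'nil
    refine Ideal.IsPrime.le_of_pow_le (n := n) ?_
    rw [hn, Ideal.zero_eq_bot]
    exact bot_le
  have hJK : J.map (algebraMap C' A') ≤ (maximalIdeal C').map (algebraMap C' A') :=
    Ideal.map_mono hJle
  have hJA'ne : J.map (algebraMap C' A') ≠ ⊤ := by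
    intro h
    have h1 := hJK.trans hK'le
    rw [h, top_le_iff] at h1
    exact (maximalIdeal.isMaximal A').ne_top h1
  have hCnt : Nontrivial (C' ⧸ J) := Ideal.Quotient.nontrivial_iff.mpr hJne
  have hCL : IsLocalRing (C' ⧸ J) :=
    IsLocalRing.of_surjective' (Ideal.Quotient.mk J) Ideal.Quotient.mk_surjective
  have hAnt : Nontrivial (A' ⧸ J.map (algebraMap C' A')) :=
    Ideal.Quotient.nontrivial_iff.mpr hJA'ne
  have hAL : IsLocalRing (A' ⧸ J.map (algebraMap C' A')) :=
    IsLocalRing.of_surjective' (Ideal.Quotient.mk _) Ideal.Quotient.mk_surjective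
  have hmC : IsNilpotent (maximalIdeal (C' ⧸ J)) := isNilpotent_maximalIdeal (C' ⧸ J)
  have hLH : IsLocalHom (Ideal.Quotient.mk J) :=
    IsLocalHom.of_surjective _ Ideal.Quotient.mk_surjective
  have hmC_eq : (maximalIdeal C').map (Ideal.Quotient.mk J) = maximalIdeal (C' ⧸ J) := by
    have h := Ideal.map_comap_of_surjective (Ideal.Quotient.mk J) Ideal.Quotient.mk_surjective
      (maximalIdeal (C' ⧸ J))
    rwa [IsLocalRing.maximalIdeal_comap] at h
  have hcomp : (algebraMap (C' ⧸ J) (A' ⧸ J.map (algebraMap C' A'))).comp (Ideal.Quotient.mk J) =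
      (Ideal.Quotient.mk (J.map (algebraMap C' A'))).comp (algebraMap C' A') := by
    ext c
    rfl
  have hKC : (maximalIdeal (C' ⧸ J)).map (algebraMap (C' ⧸ J) (A' ⧸ J.map (algebraMap C' A'))) =
      ((maximalIdeal C').map (algebraMap C' A')).map
        (Ideal.Quotient.mk (J.map (algebraMap C' A'))) := by
    rw [← hmC_eq, Ideal.map_map, Ideal.map_map, hcomp]
  have hrsmem : ∀ x ∈ List.ofFn (fun i => Ideal.Quotient.mk (J.map (algebraMap C' A')) (a' i)),
      x ∈ maximalIdeal (A' ⧸ J.map (algebraMap C' A')) := by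
    intro x hx
    by_contra hnot
    rw [mem_maximalIdeal, mem_nonunits_iff, not_not] at hnot
    apply hreg.top_ne_smul
    rw [smul_top_eq]
    have hx' : x ∈ Ideal.ofList
        (List.ofFn (fun i => Ideal.Quotient.mk (J.map (algebraMap C' A')) (a' i))) := by
      unfold Ideal.ofList
      exact Ideal.subset_span hx
    exact (Ideal.eq_top_of_isUnit_mem _ hx' hnot).symm
  have hofb := ofList_ofFn (fun i => Ideal.Quotient.mk (J.map (algebraMap C' A')) (a' i))
  have hflatC : Module.Flat (C' ⧸ J) ((A' ⧸ J.map (algebraMap C' A')) ⧸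
      (Ideal.ofList (List.ofFn (fun i => Ideal.Quotient.mk (J.map (algebraMap C' A')) (a' i))) • ⊤ :
        Submodule (A' ⧸ J.map (algebraMap C' A')) (A' ⧸ J.map (algebraMap C' A')))) := by
    have heq : (Ideal.ofList
        (List.ofFn (fun i => Ideal.Quotient.mk (J.map (algebraMap C' A')) (a' i))) • ⊤ :
        Submodule (A' ⧸ J.map (algebraMap C' A')) (A' ⧸ J.map (algebraMap C' A'))) =
        Ideal.span (Set.range (fun i => Ideal.Quotient.mk (J.map (algebraMap C' A')) (a' i))) := by
      rw [hofb, smul_top_eq]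
    exact Module.Flat.of_linearEquiv ((Submodule.quotEquivOfEq _ _ heq).restrictScalars (C' ⧸ J))
  have h7 := weaklyRegular_mod (C := C' ⧸ J) (A := A' ⧸ J.map (algebraMap C' A')) hmC _ hrsmem
    (A' ⧸ J.map (algebraMap C' A')) hreg.toIsWeaklyRegular hflatC
  rw [hKC] at h7
  have hlist : (List.ofFn a').map (algebraMap A' (A' ⧸ J.map (algebraMap C' A'))) =
      List.ofFn (fun i => Ideal.Quotient.mk (J.map (algebraMap C' A')) (a' i)) := by
    rw [List.map_ofFn]
    rfl
  rw [← hlist, isWeaklyRegular_map_algebraMap_iff] at h7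
  have h8 := ((quotQuot _ _ hJK).isWeaklyRegular_congr _).mp h7
  obtain ⟨hw, hfl⟩ := weaklyRegular_lift (C := C') hm' (List.ofFn a') A' h8
  refine ⟨⟨hw, ?_⟩, ?_⟩
  · intro htop
    apply hreg.top_ne_smul
    rw [ofList_ofFn, smul_top_eq] at htop
    rw [hofb, smul_top_eq]
    have : Ideal.span (Set.range fun i => Ideal.Quotient.mk (J.map (algebraMap C' A')) (a' i)) =
        (Ideal.span (Set.range a')).map (Ideal.Quotient.mk (J.map (algebraMap C' A'))) := by
      rw [Ideal.map_span, ← Set.range_comp]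
      rfl
    rw [this, ← htop]
    exact (Ideal.map_top _).symm
  · have heq : (Ideal.ofList (List.ofFn a') • ⊤ : Submodule A' A') =
        Ideal.span (Set.range a') := by
      rw [ofList_ofFn, smul_top_eq]
    exact Module.Flat.of_linearEquiv ((Submodule.quotEquivOfEq _ _ heq).symm.restrictScalars C')

end Groth.Agent.Helper17.RQ
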