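import Mathlib

/-!
Helper17: regular sequences on cyclic modules `A ⧸ 𝔟` in terms of ideals.
-/

namespace Groth.Agent.Helper17.RS

open RingTheory.Sequence

variable {A : Type*} [CommRing A]

theorem mk_mem_smul_top_iff (𝔟 𝔞 : Ideal A) (a : A) :
    (Ideal.Quotient.mk 𝔟 a : A ⧸ 𝔟) ∈ (𝔞 • (⊤ : Submodule A (A ⧸ 𝔟))) ↔ a ∈ 𝔟 ⊔ 𝔞 := by
  constructor
  · intro h
    have hle : 𝔞 • (⊤ : Submodule A (A ⧸ 𝔟)) ≤ Submodule.map (Submodule.mkQ 𝔟) (𝔟 ⊔ 𝔞) := by
      rw [Submodule.smul_le]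
      intro r hr n _
      obtain ⟨a', rfl⟩ := Submodule.mkQ_surjective 𝔟 n
      refine ⟨r * a', ?_, rfl⟩
      exact Ideal.mul_mem_right _ _ (Submodule.mem_sup_right hr)
    obtain ⟨y, hy, hya⟩ := hle h
    have h1 : a - y ∈ 𝔟 := by
      have h2 : (Ideal.Quotient.mk 𝔟 y : A ⧸ 𝔟) = Ideal.Quotient.mk 𝔟 a := hya
      rw [← Ideal.Quotient.eq]
      exact h2.symm
    have : a = (a - y) + y := by ring
    rw [this]
    exact add_mem (Submodule.mem_sup_left h1) hy
  · intro h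
    obtain ⟨b, hb, c, hc, rfl⟩ := Submodule.mem_sup.1 h
    have h1 : (Ideal.Quotient.mk 𝔟 (b + c) : A ⧸ 𝔟) = c • (Ideal.Quotient.mk 𝔟 1 : A ⧸ 𝔟) := by
      rw [map_add, Ideal.Quotient.eq_zero_iff_mem.2 hb, zero_add]
      change _ = Ideal.Quotient.mk 𝔟 (c * 1)
      rw [mul_one]
    rw [h1]
    exact Submodule.smul_mem_smul hc Submodule.mem_top

theorem isWeaklyRegular_quotient_iff (𝔟 : Ideal A) (rs : List A) :
    IsWeaklyRegular (A ⧸ 𝔟) rs ↔ ∀ (i : ℕ) (h : i < rs.length) (a : A),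
      rs[i] * a ∈ 𝔟 ⊔ Ideal.ofList (rs.take i) → a ∈ 𝔟 ⊔ Ideal.ofList (rs.take i) := by
  rw [isWeaklyRegular_iff]
  refine forall_congr' fun i => forall_congr' fun h => ?_
  rw [isSMulRegular_quotient_iff_mem_of_smul_mem]
  constructor
  · intro H a ha
    have := H (Ideal.Quotient.mk 𝔟 a) (by
      have h1 : rs[i] • (Ideal.Quotient.mk 𝔟 a : A ⧸ 𝔟) = Ideal.Quotient.mk 𝔟 (rs[i] * a) := rfl
      rw [h1, mk_mem_smul_top_iff]
      exact ha)
    rwa [mk_mem_smul_top_iff] at this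
  · intro H x hx
    obtain ⟨a, rfl⟩ := Ideal.Quotient.mk_surjective x
    rw [mk_mem_smul_top_iff]
    apply H a
    have h1 : rs[i] • (Ideal.Quotient.mk 𝔟 a : A ⧸ 𝔟) = Ideal.Quotient.mk 𝔟 (rs[i] * a) := rfl
    rw [h1, mk_mem_smul_top_iff] at hx
    exact hx

theorem top_ne_smul_quotient_iff (𝔟 : Ideal A) (rs : List A) :
    (⊤ : Submodule A (A ⧸ 𝔟)) ≠ Ideal.ofList rs • ⊤ ↔ (1 : A) ∉ 𝔟 ⊔ Ideal.ofList rs := by
  rw [← mk_mem_smul_top_iff, not_iff_not]
  constructor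
  · intro h
    rw [← h]
    exact Submodule.mem_top
  · intro h
    symm
    rw [eq_top_iff]
    intro x _
    obtain ⟨a, rfl⟩ := Ideal.Quotient.mk_surjective x
    have h1 : (Ideal.Quotient.mk 𝔟 a : A ⧸ 𝔟) = a • (Ideal.Quotient.mk 𝔟 1 : A ⧸ 𝔟) := by
      change _ = Ideal.Quotient.mk 𝔟 (a * 1)
      rw [mul_one]
    rw [h1]
    exact Submodule.smul_mem _ a h

theorem isWeaklyRegular_inf (I J : Ideal A) (rs : List A) (m : ℕ) (hm : rs.length ≤ m + 1)
    (hI : IsWeaklyRegular (A ⧸ I) rs) (hJ : IsWeaklyRegular (A ⧸ J) rs)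
    (hIJ : IsWeaklyRegular (A ⧸ (I ⊔ J)) (rs.take m)) :
    IsWeaklyRegular (A ⧸ (I ⊓ J)) rs := by
  rw [isWeaklyRegular_quotient_iff] at hI hJ hIJ ⊢
  -- reformulate hIJ
  have hIJ' : ∀ (i : ℕ) (h : i < rs.length) (_ : i < m) (a : A),
      rs[i] * a ∈ (I ⊔ J) ⊔ Ideal.ofList (rs.take i) → a ∈ (I ⊔ J) ⊔ Ideal.ofList (rs.take i) := by
    intro i h him a ha
    have hlen : i < (rs.take m).length := by
      rw [List.length_take]
      exact lt_min him h
    have h1 := hIJ i hlen a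
    have h2 : (rs.take m)[i] = rs[i] := List.getElem_take
    have h3 : (rs.take m).take i = rs.take i := by
      rw [List.take_take, min_eq_left him.le]
    rw [h2, h3] at h1
    exact h1 ha
  have hK : ∀ i : ℕ, i ≤ m → i ≤ rs.length →
      (I ⊔ Ideal.ofList (rs.take i)) ⊓ (J ⊔ Ideal.ofList (rs.take i)) ≤
        (I ⊓ J) ⊔ Ideal.ofList (rs.take i) := by
    intro i
    induction i with
    | zero =>
      intro _ _
      simp
    | succ i ih =>
      intro him hil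
      have hil' : i < rs.length := hil
      have him' : i < m := him
      have ih' := ih him'.le hil'.le
      have htake : Ideal.ofList (rs.take (i + 1)) =
          Ideal.ofList (rs.take i) ⊔ Ideal.span {rs[i]} := by
        rw [List.take_succ_eq_append_getElem hil', Ideal.ofList_append, Ideal.ofList_singleton]
      rw [htake, ← sup_assoc, ← sup_assoc, ← sup_assoc]
      intro x hx
      obtain ⟨hx1, hx2⟩ := hx
      obtain ⟨u, hu, z, hz, rfl⟩ := Submodule.mem_sup.1 hx1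
      obtain ⟨v, hv, z', hz', hvz⟩ := Submodule.mem_sup.1 hx2
      obtain ⟨a, rfl⟩ := Ideal.mem_span_singleton'.1 hz
      obtain ⟨b, rfl⟩ := Ideal.mem_span_singleton'.1 hz'
      -- r (a - b) = v - u
      have h1 : rs[i] * (a - b) ∈ (I ⊔ J) ⊔ Ideal.ofList (rs.take i) := by
        have h2 : rs[i] * (a - b) = v - u := by linear_combination -hvz
        rw [h2]
        apply sub_mem
        · exact (sup_le (le_sup_of_le_left le_sup_right) le_sup_right :
            J ⊔ Ideal.ofList (rs.take i) ≤ (I ⊔ J) ⊔ Ideal.ofList (rs.take i)) hv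
        · exact (sup_le (le_sup_of_le_left le_sup_left) le_sup_right :
            I ⊔ Ideal.ofList (rs.take i) ≤ (I ⊔ J) ⊔ Ideal.ofList (rs.take i)) hu
      have h3 := hIJ' i hil' him' (a - b) h1
      obtain ⟨ij, hij, α, hα, hsum⟩ := Submodule.mem_sup.1 h3
      obtain ⟨i', hi', j', hj', rfl⟩ := Submodule.mem_sup.1 hij
      -- y := u + r i'
      have hy1 : u + rs[i] * i' ∈ I ⊔ Ideal.ofList (rs.take i) :=
        add_mem hu (Submodule.mem_sup_left (Ideal.mul_mem_left _ _ hi'))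
      have hy2 : u + rs[i] * i' ∈ J ⊔ Ideal.ofList (rs.take i) := by
        have h4 : u + rs[i] * i' = v - rs[i] * j' - rs[i] * α := by
          linear_combination -hvz + rs[i] * hsum
        rw [h4]
        exact sub_mem (sub_mem hv (Submodule.mem_sup_left (Ideal.mul_mem_left _ _ hj')))
          (Submodule.mem_sup_right (Ideal.mul_mem_left _ _ hα))
      have hy := ih' ⟨hy1, hy2⟩
      have h5 : u + a * rs[i] = (u + rs[i] * i') + (a - i') * rs[i] := by ring
      rw [h5]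
      exact add_mem (Submodule.mem_sup_left hy)
        (Submodule.mem_sup_right (Ideal.mem_span_singleton'.2 ⟨_, rfl⟩))
  intro i h a ha
  have him : i ≤ m := by omega
  apply hK i him h.le
  constructor
  · apply hI i h a
    exact (sup_le_sup_right inf_le_left _ : (I ⊓ J) ⊔ Ideal.ofList (rs.take i) ≤ _) ha
  · apply hJ i h a
    exact (sup_le_sup_right inf_le_right _ : (I ⊓ J) ⊔ Ideal.ofList (rs.take i) ≤ _) ha

theorem isRegular_inf (I J : Ideal A) (rs : List A) (m : ℕ) (hm : rs.length ≤ m + 1)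
    (hI : IsRegular (A ⧸ I) rs) (hJ : IsRegular (A ⧸ J) rs)
    (hIJ : IsWeaklyRegular (A ⧸ (I ⊔ J)) (rs.take m)) :
    IsRegular (A ⧸ (I ⊓ J)) rs := by
  refine ⟨isWeaklyRegular_inf I J rs m hm hI.toIsWeaklyRegular hJ.toIsWeaklyRegular hIJ, ?_⟩
  rw [top_ne_smul_quotient_iff]
  have h1 := (top_ne_smul_quotient_iff I rs).1 hI.top_ne_smul
  intro h2
  exact h1 ((sup_le_sup_right inf_le_left _ : (I ⊓ J) ⊔ Ideal.ofList rs ≤ _) h2)

end Groth.Agent.Helper17.RS
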