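import Mathlib

/-! Helper17 SB1: presheaves on the affine opens of a scheme; from the two-basic-open
gluing condition to finite standard covers (used for S9513). -/

set_option autoImplicit false
universe u

namespace Groth.Agent.Helper17.SB1

open AlgebraicGeometry CategoryTheory TopologicalSpace Opposite

variable {X : Scheme.{u}} (F : (X.affineOpens)ᵒᵖ ⥤ Type u)

/-- restriction along an inclusion of affine opens -/
def res {V U : X.affineOpens} (h : V ≤ U) (s : F.obj (op U)) : F.obj (op V) :=
  F.map (homOfLE h).op s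

theorem res_res {W V U : X.affineOpens} (h1 : W ≤ V) (h2 : V ≤ U) (s : F.obj (op U)) :
    res F h1 (res F h2 s) = res F (h1.trans h2) s := by
  unfold res
  rw [← Functor.map_comp_apply]
  rfl

theorem res_self {U : X.affineOpens} (h : U ≤ U) (s : F.obj (op U)) : res F h s = s := by
  unfold res
  have : (homOfLE h).op = 𝟙 (op U) := rfl
  rw [this, Functor.map_id_apply]

/-- the two-basic-open gluing condition -/
def TwoCover : Prop :=
  ∀ (U V W VW : X.affineOpens) (f g : Γ(X, (U : X.Opens))),
    (V : X.Opens) = X.basicOpen f → (W : X.Opens) = X.basicOpen g →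
    (VW : X.Opens) = X.basicOpen (f * g) → (U : X.Opens) = (V : X.Opens) ⊔ (W : X.Opens) →
    ∀ (hV : V ≤ U) (hW : W ≤ U) (h1 : VW ≤ V) (h2 : VW ≤ W),
    Function.Injective (fun s : F.obj (op U) =>
      (F.map (homOfLE hV).op s, F.map (homOfLE hW).op s)) ∧
    Set.range (fun s : F.obj (op U) => (F.map (homOfLE hV).op s, F.map (homOfLE hW).op s)) =
      {p | F.map (homOfLE h1).op p.1 = F.map (homOfLE h2).op p.2}

variable {F}

theorem basicOpen_sup_of_eq_one {U : X.affineOpens} (c f g : Γ(X, (U : X.Opens)))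
    (h : c * f + g = 1) : (U : X.Opens) = X.basicOpen f ⊔ X.basicOpen g := by
  apply le_antisymm
  · have h1 : X.basicOpen (c * f + g) = (U : X.Opens) := by rw [h]; exact X.basicOpen_one
    have h2 : X.basicOpen (c * f) ≤ X.basicOpen f := by
      rw [X.basicOpen_mul]; exact inf_le_right
    calc (U : X.Opens) = X.basicOpen (c * f + g) := h1.symm
      _ ≤ X.basicOpen (c * f) ⊔ X.basicOpen g := X.basicOpen_add_le _ _
      _ ≤ X.basicOpen f ⊔ X.basicOpen g := sup_le_sup_right h2 _
  · exact sup_le (X.basicOpen_le f) (X.basicOpen_le g)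

theorem mul_le_left {U : X.affineOpens} (f g : Γ(X, (U : X.Opens))) :
    X.affineBasicOpen (f * g) ≤ X.affineBasicOpen f := by
  show X.basicOpen (f * g) ≤ X.basicOpen f
  rw [X.basicOpen_mul]; exact inf_le_left

theorem mul_le_right {U : X.affineOpens} (f g : Γ(X, (U : X.Opens))) :
    X.affineBasicOpen (f * g) ≤ X.affineBasicOpen g := by
  show X.basicOpen (f * g) ≤ X.basicOpen g
  rw [X.basicOpen_mul]; exact inf_le_right

theorem two_inj (hb : TwoCover F) {U : X.affineOpens} (f g : Γ(X, (U : X.Opens)))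
    (hcov : (U : X.Opens) = X.basicOpen f ⊔ X.basicOpen g) (s t : F.obj (op U))
    (h1 : res F (X.affineBasicOpen_le f) s = res F (X.affineBasicOpen_le f) t)
    (h2 : res F (X.affineBasicOpen_le g) s = res F (X.affineBasicOpen_le g) t) : s = t := by
  have := (hb U (X.affineBasicOpen f) (X.affineBasicOpen g) (X.affineBasicOpen (f * g)) f g
    rfl rfl rfl hcov (X.affineBasicOpen_le f) (X.affineBasicOpen_le g) (mul_le_left f g)
    (mul_le_right f g)).1
  exact this (Prod.ext h1 h2)

theorem two_glue (hb : TwoCover F) {U : X.affineOpens} (f g : Γ(X, (U : X.Opens)))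
    (hcov : (U : X.Opens) = X.basicOpen f ⊔ X.basicOpen g)
    (x : F.obj (op (X.affineBasicOpen f))) (y : F.obj (op (X.affineBasicOpen g)))
    (h : res F (mul_le_left f g) x = res F (mul_le_right f g) y) :
    ∃ s : F.obj (op U), res F (X.affineBasicOpen_le f) s = x ∧
      res F (X.affineBasicOpen_le g) s = y := by
  have hr := (hb U (X.affineBasicOpen f) (X.affineBasicOpen g) (X.affineBasicOpen (f * g)) f g
    rfl rfl rfl hcov (X.affineBasicOpen_le f) (X.affineBasicOpen_le g) (mul_le_left f g)
    (mul_le_right f g)).2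
  have hm : (x, y) ∈ {p : F.obj (op (X.affineBasicOpen f)) × F.obj (op (X.affineBasicOpen g)) |
      F.map (homOfLE (mul_le_left f g)).op p.1 = F.map (homOfLE (mul_le_right f g)).op p.2} := h
  rw [← hr] at hm
  obtain ⟨s, hs⟩ := hm
  exact ⟨s, congrArg Prod.fst hs, congrArg Prod.snd hs⟩

/-- restriction of functions -/
noncomputable def rr {U' U : X.affineOpens} (h : U' ≤ U) :
    Γ(X, (U : X.Opens)) →+* Γ(X, (U' : X.Opens)) :=
  (X.presheaf.map (homOfLE (show (U' : X.Opens) ≤ U from h)).op).hom

theorem basicOpen_rr {U' U : X.affineOpens} (h : U' ≤ U) (f : Γ(X, (U : X.Opens))) :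
    X.basicOpen (rr h f) = (U' : X.Opens) ⊓ X.basicOpen f :=
  X.basicOpen_res f _

theorem rr_le {U' U : X.affineOpens} (h : U' ≤ U) (f : Γ(X, (U : X.Opens))) :
    X.affineBasicOpen (rr h f) ≤ X.affineBasicOpen f := by
  show X.basicOpen (rr h f) ≤ X.basicOpen f
  rw [basicOpen_rr]; exact inf_le_right

theorem rr_rr {W V U : X.affineOpens} (h1 : W ≤ V) (h2 : V ≤ U) (a : Γ(X, (U : X.Opens))) :
    rr h1 (rr h2 a) = rr (h1.trans h2) a := by
  unfold rr
  rw [← CommRingCat.comp_apply, ← X.presheaf.map_comp]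
  rfl

theorem isUnit_rr {U : X.affineOpens} (g : Γ(X, (U : X.Opens))) :
    IsUnit (rr (X.affineBasicOpen_le g) g) :=
  X.toRingedSpace.isUnit_res_basicOpen g

theorem span_res_eq_top {U' U : X.affineOpens} (h : U' ≤ U) {n : ℕ}
    (f : Fin n → Γ(X, (U : X.Opens))) (g : Γ(X, (U : X.Opens)))
    (hg : g ∈ Ideal.span (Set.range f)) (hu : IsUnit (rr h g)) :
    Ideal.span (Set.range (fun i => rr h (f i))) = ⊤ := by
  refine Ideal.eq_top_of_isUnit_mem _ ?_ hu
  have := Ideal.mem_map_of_mem (rr h) hg
  rw [Ideal.map_span, ← Set.range_comp] at this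
  exact this

variable (F)

def PInj (n : ℕ) : Prop :=
  ∀ (U : X.affineOpens) (f : Fin n → Γ(X, (U : X.Opens))), Ideal.span (Set.range f) = ⊤ →
    ∀ s t : F.obj (op U), (∀ i, res F (X.affineBasicOpen_le (f i)) s =
      res F (X.affineBasicOpen_le (f i)) t) → s = t

def PGlue (n : ℕ) : Prop :=
  ∀ (U : X.affineOpens) (f : Fin n → Γ(X, (U : X.Opens))), Ideal.span (Set.range f) = ⊤ →
    ∀ x : (∀ i, F.obj (op (X.affineBasicOpen (f i)))),
      (∀ i j (W : X.affineOpens) (hi : W ≤ X.affineBasicOpen (f i))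
        (hj : W ≤ X.affineBasicOpen (f j)), res F hi (x i) = res F hj (x j)) →
      ∃ s : F.obj (op U), ∀ i, res F (X.affineBasicOpen_le (f i)) s = x i

variable {F}

theorem eq_E_of_span_empty {E U : X.affineOpens} (hE : (E : X.Opens) = ⊥)
    (f : Fin 0 → Γ(X, (U : X.Opens))) (h : Ideal.span (Set.range f) = ⊤) : U = E := by
  have h1 : (1 : Γ(X, (U : X.Opens))) = 0 := by
    have : (1 : Γ(X, (U : X.Opens))) ∈ Ideal.span (Set.range f) := by rw [h]; trivial
    rw [Set.range_eq_empty, Ideal.span_empty] at this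
    exact this
  apply Subtype.ext
  calc (U : X.Opens) = X.basicOpen (1 : Γ(X, (U : X.Opens))) := (X.basicOpen_one).symm
    _ = X.basicOpen (0 : Γ(X, (U : X.Opens))) := by rw [h1]
    _ = ⊥ := X.basicOpen_zero _
    _ = E := hE.symm

theorem P_zero {E : X.affineOpens} (hE : (E : X.Opens) = ⊥)
    (ha : Nonempty (F.obj (op E)) ∧ Subsingleton (F.obj (op E))) : PInj F 0 ∧ PGlue F 0 := by
  constructor
  · intro U f hspan s t _
    obtain rfl := eq_E_of_span_empty hE f hspan
    exact ha.2.elim s t
  · intro U f hspan x _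
    obtain rfl := eq_E_of_span_empty hE f hspan
    obtain ⟨s⟩ := ha.1
    exact ⟨s, fun i => i.elim0⟩

theorem P_succ (hb : TwoCover F) (n : ℕ) (hP : PInj F n ∧ PGlue F n) :
    PInj F (n + 1) ∧ PGlue F (n + 1) := by
  have setup : ∀ (U : X.affineOpens) (f : Fin (n + 1) → Γ(X, (U : X.Opens))),
      Ideal.span (Set.range f) = ⊤ → ∃ c g : Γ(X, (U : X.Opens)),
        g ∈ Ideal.span (Set.range (fun k : Fin n => f k.succ)) ∧ c * f 0 + g = 1 := by
    intro U f hspan
    have hr : Set.range f = insert (f 0) (Set.range (fun k : Fin n => f k.succ)) := by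
      ext y
      constructor
      · rintro ⟨i, rfl⟩
        refine Fin.cases ?_ (fun k => ?_) i
        · exact Or.inl rfl
        · exact Or.inr ⟨k, rfl⟩
      · rintro (rfl | ⟨k, rfl⟩)
        · exact ⟨0, rfl⟩
        · exact ⟨k.succ, rfl⟩
    have h1 : (1 : Γ(X, (U : X.Opens))) ∈ Ideal.span (Set.range f) := by rw [hspan]; trivial
    rw [hr, Ideal.mem_span_insert] at h1
    obtain ⟨a, z, hz, e⟩ := h1
    exact ⟨a, z, hz, e.symm⟩
  constructor
  · intro U f hspan s t hst
    obtain ⟨c, g, hg, h1⟩ := setup U f hspan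
    have hcov := basicOpen_sup_of_eq_one c (f 0) g h1
    refine two_inj hb (f 0) g hcov s t (hst 0) ?_
    have hU' : X.affineBasicOpen g ≤ U := X.affineBasicOpen_le g
    have hspan' := span_res_eq_top hU' (fun k : Fin n => f k.succ) g hg (isUnit_rr g)
    refine hP.1 (X.affineBasicOpen g) (fun k => rr hU' (f k.succ)) hspan' _ _ ?_
    intro k
    rw [res_res, res_res]
    calc res F _ s = res F (rr_le hU' (f k.succ)) (res F (X.affineBasicOpen_le (f k.succ)) s) :=
          (res_res F _ _ s).symm
      _ = res F (rr_le hU' (f k.succ)) (res F (X.affineBasicOpen_le (f k.succ)) t) := by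
          rw [hst k.succ]
      _ = res F _ t := res_res F _ _ t
  · intro U f hspan x hx
    obtain ⟨c, g, hg, h1⟩ := setup U f hspan
    have hcov := basicOpen_sup_of_eq_one c (f 0) g h1
    have hU' : X.affineBasicOpen g ≤ U := X.affineBasicOpen_le g
    have hspan' := span_res_eq_top hU' (fun k : Fin n => f k.succ) g hg (isUnit_rr g)
    -- the family on U' = D(g)
    let y : ∀ k : Fin n, F.obj (op (X.affineBasicOpen (rr hU' (f k.succ)))) :=
      fun k => res F (rr_le hU' (f k.succ)) (x k.succ)
    have hy : ∀ k l (W : X.affineOpens) (hk : W ≤ X.affineBasicOpen (rr hU' (f k.succ)))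
        (hl : W ≤ X.affineBasicOpen (rr hU' (f l.succ))), res F hk (y k) = res F hl (y l) := by
      intro k l W hk hl
      show res F hk (res F _ (x k.succ)) = res F hl (res F _ (x l.succ))
      rw [res_res, res_res]
      exact hx k.succ l.succ W _ _
    obtain ⟨y₀, hy₀⟩ := hP.2 (X.affineBasicOpen g) (fun k => rr hU' (f k.succ)) hspan' y hy
    -- agreement on U'' = D(f 0 * g)
    have hU'' : X.affineBasicOpen (f 0 * g) ≤ U := X.affineBasicOpen_le _
    have hunit : IsUnit (rr hU'' g) := by
      have := (isUnit_rr g).map (rr (mul_le_right (f 0) g))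
      rwa [rr_rr] at this
    have hspan'' := span_res_eq_top hU'' (fun k : Fin n => f k.succ) g hg hunit
    have hagree : res F (mul_le_left (f 0) g) (x 0) = res F (mul_le_right (f 0) g) y₀ := by
      refine hP.1 (X.affineBasicOpen (f 0 * g)) (fun k => rr hU'' (f k.succ)) hspan'' _ _ ?_
      intro k
      rw [res_res, res_res]
      have hk1 : X.affineBasicOpen (rr hU'' (f k.succ)) ≤ X.affineBasicOpen (f k.succ) :=
        rr_le hU'' (f k.succ)
      have hk2 : X.affineBasicOpen (rr hU'' (f k.succ)) ≤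
          X.affineBasicOpen (rr hU' (f k.succ)) := by
        show X.basicOpen (rr hU'' (f k.succ)) ≤ X.basicOpen (rr hU' (f k.succ))
        rw [basicOpen_rr, basicOpen_rr]
        exact inf_le_inf_right _ (mul_le_right (f 0) g)
      calc res F _ (x 0) = res F hk1 (x k.succ) := hx 0 k.succ _ _ hk1
        _ = res F hk2 (y k) := (res_res F _ _ _).symm
        _ = res F hk2 (res F (X.affineBasicOpen_le (rr hU' (f k.succ))) y₀) := by rw [hy₀ k]
        _ = res F _ y₀ := res_res F _ _ y₀
    obtain ⟨s, hs0, hsg⟩ := two_glue hb (f 0) g hcov (x 0) y₀ hagree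
    refine ⟨s, ?_⟩
    intro i
    refine Fin.cases hs0 (fun k => ?_) i
    have hV : X.affineBasicOpen (f k.succ) ≤ U := X.affineBasicOpen_le _
    have hcovV : ((X.affineBasicOpen (f k.succ) : X.affineOpens) : X.Opens) =
        X.basicOpen (rr hV (f 0)) ⊔ X.basicOpen (rr hV g) :=
      basicOpen_sup_of_eq_one (rr hV c) _ _ (by rw [← map_mul, ← map_add, h1, map_one])
    refine two_inj hb (rr hV (f 0)) (rr hV g) hcovV _ _ ?_ ?_
    · rw [res_res]
      have hA0 : X.affineBasicOpen (rr hV (f 0)) ≤ X.affineBasicOpen (f 0) := rr_le hV (f 0)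
      calc res F _ s = res F hA0 (res F (X.affineBasicOpen_le (f 0)) s) :=
            (res_res F _ _ s).symm
        _ = res F hA0 (x 0) := by rw [hs0]
        _ = res F (X.affineBasicOpen_le _) (x k.succ) := hx 0 k.succ _ hA0 _
    · rw [res_res]
      have hB1 : X.affineBasicOpen (rr hV g) ≤ X.affineBasicOpen g := rr_le hV g
      have hB2 : X.affineBasicOpen (rr hV g) ≤ X.affineBasicOpen (rr hU' (f k.succ)) := by
        show X.basicOpen (rr hV g) ≤ X.basicOpen (rr hU' (f k.succ))
        rw [basicOpen_rr, basicOpen_rr]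
        exact le_inf inf_le_right inf_le_left
      calc res F _ s = res F hB1 (res F hU' s) := (res_res F _ _ s).symm
        _ = res F hB1 y₀ := by rw [hsg]
        _ = res F hB2 (res F (X.affineBasicOpen_le (rr hU' (f k.succ))) y₀) :=
            (res_res F _ _ y₀).symm
        _ = res F hB2 (y k) := by rw [hy₀ k]
        _ = res F _ (x k.succ) := res_res F _ _ _

theorem P_all {E : X.affineOpens} (hE : (E : X.Opens) = ⊥)
    (ha : Nonempty (F.obj (op E)) ∧ Subsingleton (F.obj (op E))) (hb : TwoCover F) :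
    ∀ n, PInj F n ∧ PGlue F n := by
  intro n
  induction n with
  | zero => exact P_zero hE ha
  | succ n ih => exact P_succ hb n ih

end Groth.Agent.Helper17.SB1
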