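import Groth.Agent.Lib.Helper17.SB1

/-! Helper17 SB2: gluing over a downward closed covering family of affine opens (for S9513). -/

set_option autoImplicit false
universe u

namespace Groth.Agent.Helper17.SB2

open AlgebraicGeometry CategoryTheory TopologicalSpace Opposite
open Groth.Agent.Helper17.SB1

variable {X : Scheme.{u}} {F : (X.affineOpens)ᵒᵖ ⥤ Type u}

theorem exists_family {U : X.affineOpens} (S : Set X.affineOpens)
    (hSdown : ∀ V ∈ S, ∀ V' : X.affineOpens, V' ≤ V → V' ∈ S)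
    (hScov : ∀ p ∈ (U : X.Opens), ∃ V ∈ S, p ∈ (V : X.Opens)) :
    ∃ (n : ℕ) (f : Fin n → Γ(X, (U : X.Opens))), Ideal.span (Set.range f) = ⊤ ∧
      ∀ i, X.affineBasicOpen (f i) ∈ S := by
  classical
  let T : Set Γ(X, (U : X.Opens)) := {f | X.affineBasicOpen f ∈ S}
  have hT : Ideal.span T = ⊤ := by
    rw [← U.2.self_le_iSup_basicOpen_iff]
    intro p hp
    obtain ⟨V, hVS, hpV⟩ := hScov p hp
    obtain ⟨f, hfV, hpf⟩ := U.2.exists_basicOpen_le (V := (V : X.Opens)) ⟨p, hpV⟩ hp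
    have hfS : X.affineBasicOpen f ∈ S := hSdown V hVS _ hfV
    exact Opens.mem_iSup.mpr ⟨⟨f, hfS⟩, hpf⟩
  obtain ⟨t, htT, ht⟩ := (Ideal.span_eq_top_iff_finite T).mp hT
  refine ⟨t.card, fun i => (t.equivFin.symm i).1, ?_, fun i => htT (t.equivFin.symm i).2⟩
  have : Set.range (fun i => ((t.equivFin.symm i).1 : Γ(X, (U : X.Opens)))) = (t : Set _) := by
    ext y
    constructor
    · rintro ⟨i, rfl⟩
      exact (t.equivFin.symm i).2
    · intro hy
      exact ⟨t.equivFin ⟨y, hy⟩, by simp⟩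
  rw [this]; exact ht

theorem existsUnique_glue {E : X.affineOpens} (hE : (E : X.Opens) = ⊥)
    (ha : Nonempty (F.obj (op E)) ∧ Subsingleton (F.obj (op E))) (hb : TwoCover F)
    (U : X.affineOpens) (S : Set X.affineOpens)
    (hSle : ∀ V ∈ S, V ≤ U)
    (hSdown : ∀ V ∈ S, ∀ V' : X.affineOpens, V' ≤ V → V' ∈ S)
    (hScov : ∀ p ∈ (U : X.Opens), ∃ V ∈ S, p ∈ (V : X.Opens))
    (x : ∀ V : X.affineOpens, V ∈ S → F.obj (op V))
    (hx : ∀ (V V' : X.affineOpens) (hV : V ∈ S) (hV' : V' ∈ S) (h : V' ≤ V),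
      res F h (x V hV) = x V' hV') :
    ∃! t : F.obj (op U), ∀ (V : X.affineOpens) (hV : V ∈ S), res F (hSle V hV) t = x V hV := by
  obtain ⟨n, f, hspan, hfS⟩ := exists_family (U := U) S hSdown hScov
  obtain ⟨hinj, hglue⟩ := P_all hE ha hb n
  have hle : ∀ i, X.affineBasicOpen (f i) ≤ U := fun i => X.affineBasicOpen_le (f i)
  obtain ⟨s, hs⟩ := hglue U f hspan (fun i => x _ (hfS i)) (by
    intro i j W hi hj
    have hW : W ∈ S := hSdown _ (hfS i) W hi
    exact (hx _ W (hfS i) hW hi).trans (hx _ W (hfS j) hW hj).symm)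
  have hs' : ∀ i, res F (hle i) s = x _ (hfS i) := hs
  refine ⟨s, ?_, ?_⟩
  · intro V hV
    have hVU : V ≤ U := hSle V hV
    have hspanV : Ideal.span (Set.range (fun i => rr hVU (f i))) = ⊤ := by
      refine span_res_eq_top hVU f 1 ?_ ?_
      · rw [hspan]; trivial
      · rw [map_one]; exact isUnit_one
    refine hinj V (fun i => rr hVU (f i)) hspanV _ _ ?_
    intro i
    have hi1 : X.affineBasicOpen (rr hVU (f i)) ≤ X.affineBasicOpen (f i) := rr_le hVU (f i)
    have hi2 : X.affineBasicOpen (rr hVU (f i)) ≤ V := X.affineBasicOpen_le _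
    have hWS : X.affineBasicOpen (rr hVU (f i)) ∈ S := hSdown V hV _ hi2
    rw [res_res]
    calc res F _ s = res F hi1 (res F (hle i) s) := (res_res F _ _ s).symm
      _ = res F hi1 (x _ (hfS i)) := by rw [hs' i]
      _ = x _ hWS := hx _ _ (hfS i) hWS hi1
      _ = res F hi2 (x V hV) := (hx _ _ hV hWS hi2).symm
  · intro t ht
    refine hinj U f hspan t s ?_
    intro i
    rw [hs' i]
    exact ht _ (hfS i)

end Groth.Agent.Helper17.SB2
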