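import Groth.Agent.Lib.Helper17.SB2

/-! Helper17 SB3: a presheaf on the affine opens satisfying the two-basic-open gluing condition
extends to a sheaf, and conversely (S9513). -/

set_option autoImplicit false
universe u

namespace Groth.Agent.Helper17.SB3

open AlgebraicGeometry CategoryTheory TopologicalSpace Opposite
open Groth.Agent.Helper17.SB1 Groth.Agent.Helper17.SB2

variable {X : Scheme.{u}} (F : (X.affineOpens)ᵒᵖ ⥤ Type u)

/-- the inclusion functor of affine opens into opens -/
abbrev incl (X : Scheme.{u}) : X.affineOpens ⥤ X.Opens :=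
  Monotone.functor (f := fun U : X.affineOpens => (U : X.Opens)) (fun _ _ h => h)

/-- compatible families of sections of `F` over the affine opens contained in `W` -/
@[ext]
structure Sec (W : X.Opens) : Type u where
  val : ∀ V : X.affineOpens, (V : X.Opens) ≤ W → F.obj (op V)
  compat : ∀ (V V' : X.affineOpens) (h : V' ≤ V) (hV : (V : X.Opens) ≤ W),
    res F h (val V hV) = val V' (le_trans (show (V' : X.Opens) ≤ V from h) hV)

variable {F}

/-- restriction of compatible families -/
def Sec.restrict {W W' : X.Opens} (h : W' ≤ W) (s : Sec F W) : Sec F W' where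
  val V hV := s.val V (hV.trans h)
  compat V V' hh hV := s.compat V V' hh (hV.trans h)

variable (F)

/-- the presheaf of compatible families -/
def G : (X.Opens)ᵒᵖ ⥤ Type u where
  obj W := Sec F W.unop
  map f := TypeCat.ofHom (Sec.restrict (leOfHom f.unop))
  map_id W := by
    refine ConcreteCategory.hom_ext _ _ (fun s => ?_)
    rfl
  map_comp f g := by
    refine ConcreteCategory.hom_ext _ _ (fun s => ?_)
    rfl

/-- sections over an affine open -/
def secEquiv (U : X.affineOpens) : Sec F (U : X.Opens) ≃ F.obj (op U) where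
  toFun s := s.val U le_rfl
  invFun t := ⟨fun V hV => res F hV t, fun V V' h hV => res_res F h hV t⟩
  left_inv s := by
    apply Sec.ext
    funext V hV
    exact s.compat U V hV le_rfl
  right_inv t := res_self F _ t

/-- the restriction of `G F` to the affine opens is `F` -/
def secIso : (incl X).op ⋙ G F ≅ F :=
  NatIso.ofComponents (fun U => (secEquiv F U.unop).toIso) (by
    intro U U' f
    refine ConcreteCategory.hom_ext _ _ (fun s => ?_)
    have h1 : (((incl X).op ⋙ G F).map f ≫ (secEquiv F U'.unop).toIso.hom) s =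
        Sec.val (F := F) s U'.unop (leOfHom f.unop) := rfl
    have h2 : ((secEquiv F U.unop).toIso.hom ≫ F.map f) s =
        F.map f (Sec.val (F := F) s U.unop le_rfl) := rfl
    exact h1.trans ((Sec.compat (F := F) s U.unop U'.unop (leOfHom f.unop) le_rfl).symm.trans
      h2.symm))

variable {F}

theorem key {E : X.affineOpens} (hE : (E : X.Opens) = ⊥)
    (ha : Nonempty (F.obj (op E)) ∧ Subsingleton (F.obj (op E))) (hb : TwoCover F)
    {ι : Type u} (W : ι → X.Opens) (sf : ∀ i, Sec F (W i))
    (indep : ∀ (i j : ι) (V : X.affineOpens) (hi : (V : X.Opens) ≤ W i)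
      (hj : (V : X.Opens) ≤ W j), (sf i).val V hi = (sf j).val V hj)
    (V : X.affineOpens) (hV : (V : X.Opens) ≤ iSup W) :
    ∃! t : F.obj (op V), ∀ (V' : X.affineOpens) (h : V' ≤ V) (i : ι)
      (hi : (V' : X.Opens) ≤ W i), res F h t = (sf i).val V' hi := by
  classical
  let S : Set X.affineOpens := {V' | V' ≤ V ∧ ∃ i, (V' : X.Opens) ≤ W i}
  have hSle : ∀ V' ∈ S, V' ≤ V := fun V' h => h.1
  have hSdown : ∀ V' ∈ S, ∀ V'' : X.affineOpens, V'' ≤ V' → V'' ∈ S := by
    intro V' h V'' hle
    obtain ⟨h1, i, hi⟩ := h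
    exact ⟨hle.trans h1, i, le_trans (show (V'' : X.Opens) ≤ V' from hle) hi⟩
  have hScov : ∀ p ∈ (V : X.Opens), ∃ V' ∈ S, p ∈ (V' : X.Opens) := by
    intro p hp
    obtain ⟨i, hi⟩ := Opens.mem_iSup.mp (hV hp)
    have hp' : p ∈ (((V : X.Opens) ⊓ W i : X.Opens) : Set X) := ⟨hp, hi⟩
    obtain ⟨_, ⟨V', hV', rfl⟩, hpV', hsub⟩ :=
      X.isBasis_affineOpens.exists_subset_of_mem_open hp' ((V : X.Opens) ⊓ W i).2
    refine ⟨⟨V', hV'⟩, ⟨?_, i, ?_⟩, hpV'⟩
    · intro q hq
      exact (hsub hq).1
    · intro q hq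
      exact (hsub hq).2
  let x : ∀ V' : X.affineOpens, V' ∈ S → F.obj (op V') :=
    fun V' h => (sf (Classical.choose h.2)).val V' (Classical.choose_spec h.2)
  have hx : ∀ (V' V'' : X.affineOpens) (hV' : V' ∈ S) (hV'' : V'' ∈ S) (h : V'' ≤ V'),
      res F h (x V' hV') = x V'' hV'' := by
    intro V' V'' hV' hV'' h
    show res F h ((sf _).val V' _) = (sf _).val V'' _
    rw [(sf _).compat V' V'' h _]
    exact indep _ _ V'' _ _
  obtain ⟨t, ht, htu⟩ := existsUnique_glue hE ha hb V S hSle hSdown hScov x hx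
  refine ⟨t, ?_, ?_⟩
  · intro V' h i hi
    have m : V' ∈ S := ⟨h, i, hi⟩
    have := ht V' m
    rw [this]
    exact indep _ _ V' _ _
  · intro t' ht'
    apply htu
    intro V' m
    exact ht' V' (hSle V' m) _ _

variable (F)

theorem G_isSheaf {E : X.affineOpens} (hE : (E : X.Opens) = ⊥)
    (ha : Nonempty (F.obj (op E)) ∧ Subsingleton (F.obj (op E))) (hb : TwoCover F) :
    TopCat.Presheaf.IsSheaf (G F : TopCat.Presheaf (Type u) X.carrier) := by
  rw [TopCat.Presheaf.isSheaf_iff_isSheafUniqueGluing_types]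
  intro ι W sf hsf
  have indep : ∀ (i j : ι) (V : X.affineOpens) (hi : (V : X.Opens) ≤ W i)
      (hj : (V : X.Opens) ≤ W j),
      Sec.val (F := F) (sf i) V hi = Sec.val (F := F) (sf j) V hj := by
    intro i j V hi hj
    have := congrArg (fun s : Sec F (W i ⊓ W j) => s.val V (le_inf hi hj)) (hsf i j)
    exact this
  have hk := key hE ha hb W sf indep
  let s : Sec F (iSup W) :=
    { val := fun V hV => (hk V hV).exists.choose
      compat := by
        intro V V' h hV
        have hV' : (V' : X.Opens) ≤ iSup W := le_trans (show (V' : X.Opens) ≤ V from h) hV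
        refine (hk V' hV').unique ?_ (hk V' hV').exists.choose_spec
        intro V'' h'' i hi
        rw [res_res]
        exact (hk V hV).exists.choose_spec V'' (h''.trans h) i hi }
  refine ⟨s, ?_, ?_⟩
  · intro i
    apply Sec.ext
    funext V hV
    have hV2 : (V : X.Opens) ≤ iSup W := le_trans hV (le_iSup W i)
    show s.val V hV2 = Sec.val (F := F) (sf i) V hV
    symm
    refine (hk V hV2).unique ?_ (hk V hV2).exists.choose_spec
    intro V' h j hj
    rw [Sec.compat (F := F) (sf i) V V' h hV]
    exact indep i j V' _ hj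
  · intro s' hs'
    apply Sec.ext
    funext V hV
    refine (hk V hV).unique ?_ (hk V hV).exists.choose_spec
    intro V' h i hi
    rw [Sec.compat (F := F) s' V V' h hV]
    have := congrArg (fun r : Sec F (W i) => r.val V' hi) (hs' i)
    exact this

variable {F}

/-- the two-element family of opens -/
def two (A B : X.Opens) : Bool → X.Opens := fun b => cond b A B

/-- the two-element family of sections -/
def twoSec (P : (X.Opens)ᵒᵖ ⥤ Type u) {A B : X.Opens} (a : P.obj (op A)) (b : P.obj (op B)) :
    ∀ i : Bool, P.obj (op (two A B i))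
  | true => a
  | false => b

theorem glue_two (P : TopCat.Sheaf (Type u) X.carrier) {A B C D : X.Opens} (hA : A ≤ C)
    (hB : B ≤ C) (hcov : C ≤ A ⊔ B) (hDA : D ≤ A) (hDB : D ≤ B) (hD : A ⊓ B ≤ D)
    (a : P.1.obj (op A)) (b : P.1.obj (op B))
    (hab : P.1.map (homOfLE hDA).op a = P.1.map (homOfLE hDB).op b) :
    ∃ s : P.1.obj (op C), P.1.map (homOfLE hA).op s = a ∧ P.1.map (homOfLE hB).op s = b := by
  have hgen : ∀ (Q : X.Opens) (hQA : Q ≤ A) (hQB : Q ≤ B),
      P.1.map (homOfLE hQA).op a = P.1.map (homOfLE hQB).op b := by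
    intro Q hQA hQB
    have hQD : Q ≤ D := (le_inf hQA hQB).trans hD
    have := congrArg (P.1.map (homOfLE hQD).op) hab
    rw [← Functor.map_comp_apply, ← Functor.map_comp_apply] at this
    exact this
  have hcompat : TopCat.Presheaf.IsCompatible P.1 (two A B) (twoSec P.1 a b) := by
    rintro (_ | _) (_ | _)
    · rfl
    · exact (hgen (B ⊓ A) inf_le_right inf_le_left).symm
    · exact hgen (A ⊓ B) inf_le_left inf_le_right
    · rfl
  obtain ⟨s, hs, -⟩ :=
    TopCat.Presheaf.IsSheaf.isSheafUniqueGluing_types P.property (twoSec P.1 a b) hcompat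
  have hC : C ≤ iSup (two A B) :=
    hcov.trans (sup_le (le_iSup (two A B) true) (le_iSup (two A B) false))
  refine ⟨P.1.map (homOfLE hC).op s, ?_, ?_⟩
  · rw [← Functor.map_comp_apply]
    exact hs true
  · rw [← Functor.map_comp_apply]
    exact hs false

theorem forward (P : TopCat.Sheaf (Type u) X.carrier) (e : (incl X).op ⋙ P.1 ≅ F)
    {E : X.affineOpens} (hE : (E : X.Opens) = ⊥) :
    (Nonempty (F.obj (op E)) ∧ Subsingleton (F.obj (op E))) ∧ TwoCover F := by
  let eq : ∀ A : X.affineOpens, P.1.obj (op (A : X.Opens)) ≃ F.obj (op A) :=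
    fun A => (e.app (op A)).toEquiv
  have nat : ∀ {A B : X.affineOpens} (h : B ≤ A) (a : P.1.obj (op (A : X.Opens))),
      eq B (P.1.map (homOfLE (show (B : X.Opens) ≤ A from h)).op a) =
        F.map (homOfLE h).op (eq A a) :=
    fun h a => NatTrans.naturality_apply e.hom (homOfLE h).op a
  have natinv : ∀ {A B : X.affineOpens} (h : B ≤ A) (b : F.obj (op A)),
      (eq B).symm (F.map (homOfLE h).op b) =
        P.1.map (homOfLE (show (B : X.Opens) ≤ A from h)).op ((eq A).symm b) := by
    intro A B h b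
    apply (eq B).injective
    rw [Equiv.apply_symm_apply, nat, Equiv.apply_symm_apply]
  refine ⟨?_, ?_⟩
  · have hT : Limits.IsTerminal (P.1.obj (op (E : X.Opens))) := P.isTerminalOfEqEmpty hE
    have hU : Unique (P.1.obj (op (E : X.Opens))) := (Limits.Types.isTerminalEquivUnique _) hT
    exact ⟨⟨eq E default⟩, (eq E).symm.subsingleton⟩
  · intro U V W VW f g hVf hWg hVWfg hcov hV hW h1 h2
    have hV' : (V : X.Opens) ≤ U := hV
    have hW' : (W : X.Opens) ≤ U := hW
    constructor
    · intro s t hst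
      have hs1 : F.map (homOfLE hV).op s = F.map (homOfLE hV).op t := congrArg Prod.fst hst
      have hs2 : F.map (homOfLE hW).op s = F.map (homOfLE hW).op t := congrArg Prod.snd hst
      apply (eq U).symm.injective
      refine TopCat.Sheaf.eq_of_locally_eq₂ P (homOfLE hV') (homOfLE hW') (le_of_eq hcov) _ _ ?_ ?_
      · rw [← natinv hV, ← natinv hV, hs1]
      · rw [← natinv hW, ← natinv hW, hs2]
    · apply Set.Subset.antisymm
      · rintro _ ⟨s, rfl⟩
        show F.map (homOfLE h1).op (F.map (homOfLE hV).op s) =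
          F.map (homOfLE h2).op (F.map (homOfLE hW).op s)
        rw [← Functor.map_comp_apply, ← Functor.map_comp_apply]
        rfl
      · rintro ⟨a, b⟩ hab
        have hab' : F.map (homOfLE h1).op a = F.map (homOfLE h2).op b := hab
        have hab2 : P.1.map (homOfLE (show (VW : X.Opens) ≤ V from h1)).op ((eq V).symm a) =
            P.1.map (homOfLE (show (VW : X.Opens) ≤ W from h2)).op ((eq W).symm b) := by
          rw [← natinv h1, ← natinv h2, hab']
        have hk : (V : X.Opens) ⊓ W ≤ VW := by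
          rw [hVWfg, X.basicOpen_mul, hVf, hWg]
        obtain ⟨s', hs1, hs2⟩ := glue_two P hV' hW' (le_of_eq hcov)
          (show (VW : X.Opens) ≤ V from h1) (show (VW : X.Opens) ≤ W from h2) hk _ _ hab2
        refine ⟨eq U s', Prod.ext ?_ ?_⟩
        · show F.map (homOfLE hV).op (eq U s') = a
          rw [← nat hV, hs1]
          exact (eq V).apply_symm_apply a
        · show F.map (homOfLE hW).op (eq U s') = b
          rw [← nat hW, hs2]
          exact (eq W).apply_symm_apply b

theorem main9513 (X : Scheme.{u})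
    (F : (X.affineOpens)ᵒᵖ ⥤ Type u) (E : X.affineOpens) (hE : (E : X.Opens) = ⊥) :
    (∃ G : TopCat.Sheaf (Type u) X.carrier,
        Nonempty ((Monotone.functor (f := fun U : X.affineOpens => (U : X.Opens)) (fun _ _ h => h)).op ⋙ G.1 ≅ F)) ↔
    ((Nonempty (F.obj (op E)) ∧ Subsingleton (F.obj (op E))) ∧
      ∀ (U V W VW : X.affineOpens) (f g : Γ(X, (U : X.Opens))),
        (V : X.Opens) = X.basicOpen f → (W : X.Opens) = X.basicOpen g →
        (VW : X.Opens) = X.basicOpen (f * g) → (U : X.Opens) = (V : X.Opens) ⊔ (W : X.Opens) →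
        ∀ (hV : V ≤ U) (hW : W ≤ U) (h1 : VW ≤ V) (h2 : VW ≤ W),
        Function.Injective (fun s : F.obj (op U) => (F.map (homOfLE hV).op s, F.map (homOfLE hW).op s)) ∧
        Set.range (fun s : F.obj (op U) => (F.map (homOfLE hV).op s, F.map (homOfLE hW).op s)) =
          {p | F.map (homOfLE h1).op p.1 = F.map (homOfLE h2).op p.2}) := by
  constructor
  · rintro ⟨P, ⟨e⟩⟩
    exact forward P e hE
  · rintro ⟨ha, hb⟩
    exact ⟨⟨G F, G_isSheaf F hE ha hb⟩, ⟨secIso F⟩⟩

end Groth.Agent.Helper17.SB3
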