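import Mathlib

/-!
# A semi-exact linear functor killing the residue fields kills all finite modules
-/

set_option autoImplicit false

universe u

open CategoryTheory Limits

namespace Groth.Agent.Helper17.SE

variable {B : Type u} [CommRing B] (F : ModuleCat.{u} B ⥤ ModuleCat.{u} B) [F.Additive]
  [F.Linear B]

omit [F.Additive] in
theorem smul_eq_map (X : ModuleCat.{u} B) (b : B) (n : F.obj X) :
    b • n = (F.map (b • 𝟙 X)) n := by
  rw [Functor.map_smul, F.map_id]
  rfl

omit [F.Linear B] in
theorem isZero_mid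
    (hex : ∀ S : ShortComplex (ModuleCat.{u} B), S.ShortExact → Module.Finite B S.X₂ →
      (S.map F).Exact)
    {N₁ N₂ N₃ : Type u} [AddCommGroup N₁] [Module B N₁] [AddCommGroup N₂] [Module B N₂]
    [AddCommGroup N₃] [Module B N₃] [Module.Finite B N₂]
    (f : N₁ →ₗ[B] N₂) (g : N₂ →ₗ[B] N₃) (hf : Function.Injective f) (hg : Function.Surjective g)
    (hfg : Function.Exact f g)
    (h1 : IsZero (F.obj (ModuleCat.of B N₁))) (h3 : IsZero (F.obj (ModuleCat.of B N₃))) :
    IsZero (F.obj (ModuleCat.of B N₂)) := by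
  have hS : (ModuleCat.shortComplexOfCompEqZero f g hfg.linearMap_comp_eq_zero).ShortExact :=
    ModuleCat.shortComplex_shortExact _ hfg hf hg
  have hE := hex _ hS (inferInstanceAs (Module.Finite B N₂))
  have hE' := (ShortComplex.ShortExact.moduleCat_exact_iff_function_exact _).mp hE
  have s1 := ModuleCat.subsingleton_of_isZero h1
  have s3 := ModuleCat.subsingleton_of_isZero h3
  rw [ModuleCat.isZero_iff_subsingleton]
  have hzero : ∀ a : F.obj (ModuleCat.of B N₂), a = 0 := by
    intro a
    have ha : ((ModuleCat.shortComplexOfCompEqZero f g hfg.linearMap_comp_eq_zero).map F).g a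
        = 0 := Subsingleton.elim (α := F.obj (ModuleCat.of B N₃)) _ _
    obtain ⟨a', ha'⟩ := (hE' a).mp ha
    have : a' = 0 := Subsingleton.elim (α := F.obj (ModuleCat.of B N₁)) _ _
    rw [← ha', this, map_zero]
    rfl
  exact ⟨fun a b => (hzero a).trans (hzero b).symm⟩

variable [IsNoetherianRing B]

/-- If `F(B/q) = 0` for all primes `q` strictly containing `p`, then `F` kills all finite modules
annihilated by an ideal strictly containing `p`. -/
theorem isZero_of_annihilator
    (hex : ∀ S : ShortComplex (ModuleCat.{u} B), S.ShortExact → Module.Finite B S.X₂ →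
      (S.map F).Exact)
    (p I : Ideal B) (hpI : p < I)
    (IH : ∀ q : Ideal B, p < q → q.IsPrime → IsZero (F.obj (ModuleCat.of B (B ⧸ q))))
    (N : Type u) [AddCommGroup N] [Module B N] (hN : Module.Finite B N)
    (hI : I ≤ Module.annihilator B N) : IsZero (F.obj (ModuleCat.of B N)) := by
  revert hI
  induction hN using IsNoetherianRing.induction_on_isQuotientEquivQuotientPrime B with
  | subsingleton N =>
    intro _
    exact F.map_isZero (ModuleCat.isZero_of_subsingleton _)
  | quotient N q e =>
    intro hI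
    have hann : Module.annihilator B N = q.1 := by
      rw [e.annihilator_eq, Ideal.annihilator_quotient]
    have hq : p < q.1 := lt_of_lt_of_le hpI (hann ▸ hI)
    have hz := IH q.1 hq q.2
    exact hz.of_iso (F.mapIso e.toModuleIso)
  | exact N₁ N₂ N₃ f g hf hg hfg h1 h3 =>
    intro hI
    refine isZero_mid F hex f g hf hg hfg (h1 ?_) (h3 ?_)
    · intro x hx
      rw [Module.mem_annihilator]
      intro n
      apply hf
      rw [map_smul, map_zero]
      exact Module.mem_annihilator.mp (hI hx) (f n)
    · intro x hx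
      rw [Module.mem_annihilator]
      intro n
      obtain ⟨n', rfl⟩ := hg n
      rw [← map_smul, Module.mem_annihilator.mp (hI hx) n', map_zero]

theorem isZero_prime
    (hfg : ∀ M : ModuleCat.{u} B, Module.Finite B M → Module.Finite B (F.obj M))
    (hex : ∀ S : ShortComplex (ModuleCat.{u} B), S.ShortExact → Module.Finite B S.X₂ →
      (S.map F).Exact)
    (h0 : ∀ m : Ideal B, m.IsMaximal → IsZero (F.obj (ModuleCat.of B (B ⧸ m))))
    (p : Ideal B) : p.IsPrime → IsZero (F.obj (ModuleCat.of B (B ⧸ p))) := by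
  induction p using IsNoetherian.induction with
  | hgt p IH =>
    intro hp
    by_cases hmax : Ideal.IsMaximal p
    · exact h0 p hmax
    have hfin : Module.Finite B (F.obj (ModuleCat.of B (B ⧸ p))) :=
      hfg _ (inferInstanceAs (Module.Finite B (B ⧸ p)))
    rw [ModuleCat.isZero_iff_subsingleton]
    by_contra hsub
    rw [not_subsingleton_iff_nontrivial] at hsub
    have hann : Module.annihilator B (F.obj (ModuleCat.of B (B ⧸ p))) ≠ ⊤ := by
      intro htop
      obtain ⟨n, hn⟩ := exists_ne (0 : F.obj (ModuleCat.of B (B ⧸ p)))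
      have h1 : (1 : B) ∈ Module.annihilator B (F.obj (ModuleCat.of B (B ⧸ p))) := by
        rw [htop]; trivial
      have := Module.mem_annihilator.mp h1 n
      rw [one_smul] at this
      exact hn this
    obtain ⟨𝔪, h𝔪max, h𝔪⟩ := Ideal.exists_le_maximal _ hann
    -- `p` kills `F(B/p)`
    have hpann : p ≤ Module.annihilator B (F.obj (ModuleCat.of B (B ⧸ p))) := by
      intro b hb
      rw [Module.mem_annihilator]
      intro n
      rw [smul_eq_map F]
      have : b • 𝟙 (ModuleCat.of B (B ⧸ p)) = 0 := by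
        apply ModuleCat.hom_ext
        apply LinearMap.ext
        intro y
        obtain ⟨y, rfl⟩ := Ideal.Quotient.mk_surjective y
        show b • (Ideal.Quotient.mk p y) = 0
        rw [Algebra.smul_def]
        show Ideal.Quotient.mk p b * Ideal.Quotient.mk p y = 0
        rw [Ideal.Quotient.eq_zero_iff_mem.mpr hb, zero_mul]
      rw [this, F.map_zero]
      rfl
    have hp𝔪 : p < 𝔪 := lt_of_le_of_ne (hpann.trans h𝔪) (fun h => hmax (h ▸ h𝔪max))
    obtain ⟨x, hx𝔪, hxp⟩ := SetLike.exists_of_lt hp𝔪
    -- the short exact sequence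
    have hle : p ≤ p ⊔ Ideal.span {x} := le_sup_left
    have hlt : p < p ⊔ Ideal.span {x} := lt_of_le_of_ne hle (fun h => hxp (by
      rw [h]; exact Ideal.mem_sup_right (Ideal.subset_span (Set.mem_singleton x))))
    let f : (B ⧸ p) →ₗ[B] (B ⧸ p) := x • LinearMap.id
    let g : (B ⧸ p) →ₗ[B] (B ⧸ (p ⊔ Ideal.span {x})) :=
      Submodule.mapQ p (p ⊔ Ideal.span {x}) LinearMap.id hle
    have hf : Function.Injective f := by
      rw [injective_iff_map_eq_zero]
      intro y hy
      obtain ⟨y, rfl⟩ := Ideal.Quotient.mk_surjective y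
      have hy' : Ideal.Quotient.mk p (x * y) = 0 := by
        rw [map_mul]
        exact hy
      rw [Ideal.Quotient.eq_zero_iff_mem] at hy' ⊢
      exact (hp.mem_or_mem hy').resolve_left hxp
    have hg : Function.Surjective g := by
      intro y
      obtain ⟨y, rfl⟩ := Ideal.Quotient.mk_surjective y
      exact ⟨Ideal.Quotient.mk p y, rfl⟩
    have hfg' : Function.Exact f g := by
      intro y
      obtain ⟨y, rfl⟩ := Ideal.Quotient.mk_surjective y
      constructor
      · intro hy
        have hy' : Ideal.Quotient.mk (p ⊔ Ideal.span {x}) y = 0 := hy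
        rw [Ideal.Quotient.eq_zero_iff_mem] at hy'
        obtain ⟨a, ha, c, hc, rfl⟩ := Submodule.mem_sup.mp hy'
        obtain ⟨c', rfl⟩ := Ideal.mem_span_singleton'.mp hc
        refine ⟨Ideal.Quotient.mk p c', ?_⟩
        show x • Ideal.Quotient.mk p c' = _
        rw [map_add, Ideal.Quotient.eq_zero_iff_mem.mpr ha, zero_add, Algebra.smul_def, map_mul,
          mul_comm]
        rfl
      · rintro ⟨z, hz⟩
        rw [← hz]
        obtain ⟨z, rfl⟩ := Ideal.Quotient.mk_surjective z
        show Ideal.Quotient.mk (p ⊔ Ideal.span {x}) (x • z) = 0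
        rw [Ideal.Quotient.eq_zero_iff_mem]
        exact Ideal.mem_sup_right (Ideal.mul_mem_right _ _
          (Ideal.subset_span (Set.mem_singleton x)))
    have hZ3 : IsZero (F.obj (ModuleCat.of B (B ⧸ (p ⊔ Ideal.span {x})))) :=
      isZero_of_annihilator F hex p (p ⊔ Ideal.span {x}) hlt (fun q hq hqp => IH q hq hqp) _
        (inferInstanceAs (Module.Finite B (B ⧸ (p ⊔ Ideal.span {x}))))
        (by rw [Ideal.annihilator_quotient])
    have hS : (ModuleCat.shortComplexOfCompEqZero f g hfg'.linearMap_comp_eq_zero).ShortExact :=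
      ModuleCat.shortComplex_shortExact _ hfg' hf hg
    have hE := hex _ hS (inferInstanceAs (Module.Finite B (B ⧸ p)))
    have hE' := (ShortComplex.ShortExact.moduleCat_exact_iff_function_exact _).mp hE
    have s3 := ModuleCat.subsingleton_of_isZero hZ3
    have hsurj : ∀ n : F.obj (ModuleCat.of B (B ⧸ p)), ∃ n', n = x • n' := by
      intro n
      have hn : ((ModuleCat.shortComplexOfCompEqZero f g
          hfg'.linearMap_comp_eq_zero).map F).g n = 0 :=
        Subsingleton.elim (α := F.obj (ModuleCat.of B (B ⧸ (p ⊔ Ideal.span {x})))) _ _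
      obtain ⟨n', hn'⟩ := (hE' n).mp hn
      refine ⟨n', ?_⟩
      have h := smul_eq_map F (ModuleCat.of B (B ⧸ p)) x n'
      have hfx : ModuleCat.ofHom f = x • 𝟙 (ModuleCat.of B (B ⧸ p)) := rfl
      rw [← hfx] at h
      rw [← hn']
      exact h.symm
    have htop : (⊤ : Submodule B (F.obj (ModuleCat.of B (B ⧸ p)))) ≤ 𝔪 • ⊤ := by
      intro n _
      obtain ⟨n', rfl⟩ := hsurj n
      exact Submodule.smul_mem_smul hx𝔪 Submodule.mem_top
    obtain ⟨r, hr1, hr⟩ := Submodule.exists_sub_one_mem_and_smul_eq_zero_of_fg_of_le_smul 𝔪 ⊤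
      Module.Finite.fg_top htop
    have hr𝔪 : r ∈ 𝔪 := h𝔪 (Module.mem_annihilator.mpr (fun n => hr n Submodule.mem_top))
    have : (1 : B) ∈ 𝔪 := by
      have := 𝔪.sub_mem hr𝔪 hr1
      simpa using this
    exact h𝔪max.ne_top ((Ideal.eq_top_iff_one _).mpr this)

theorem isZero_all
    (hfg : ∀ M : ModuleCat.{u} B, Module.Finite B M → Module.Finite B (F.obj M))
    (hex : ∀ S : ShortComplex (ModuleCat.{u} B), S.ShortExact → Module.Finite B S.X₂ →
      (S.map F).Exact)
    (h0 : ∀ m : Ideal B, m.IsMaximal → IsZero (F.obj (ModuleCat.of B (B ⧸ m))))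
    (N : Type u) [AddCommGroup N] [Module B N] (hN : Module.Finite B N) :
    IsZero (F.obj (ModuleCat.of B N)) := by
  induction hN using IsNoetherianRing.induction_on_isQuotientEquivQuotientPrime B with
  | subsingleton N => exact F.map_isZero (ModuleCat.isZero_of_subsingleton _)
  | quotient N q e =>
    exact (isZero_prime F hfg hex h0 q.1 q.2).of_iso (F.mapIso e.toModuleIso)
  | exact N₁ N₂ N₃ f g hf hg hfg' h1 h3 => exact isZero_mid F hex f g hf hg hfg' h1 h3

end Groth.Agent.Helper17.SE
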