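import Mathlib

set_option autoImplicit false
universe u
open CategoryTheory CategoryTheory.Limits

namespace Groth.Agent.Helper17.SF

variable {A : Type u} [CommRing A]

/-- vanishing of `Ext¹(X, -)` transfers along isomorphisms. -/
lemma ext_vanish_of_iso {X N N' : ModuleCat.{u} A} (e : N ≅ N')
    (h : ∀ y : Abelian.Ext X N 1, y = 0) (y : Abelian.Ext X N' 1) : y = 0 := by
  have h1 : (y.comp (Abelian.Ext.mk₀ e.inv) (add_zero 1)).comp (Abelian.Ext.mk₀ e.hom)
      (add_zero 1) = y := by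
    rw [Abelian.Ext.comp_assoc_of_third_deg_zero, Abelian.Ext.mk₀_comp_mk₀, e.inv_hom_id,
      Abelian.Ext.comp_mk₀_id]
  rw [← h1, h (y.comp (Abelian.Ext.mk₀ e.inv) (add_zero 1)), Abelian.Ext.zero_comp]

lemma ext_vanish_biproduct {X : ModuleCat.{u} A} {p : ℕ} (f : Fin p → ModuleCat.{u} A)
    (h : ∀ i, ∀ y : Abelian.Ext X (f i) 1, y = 0) (y : Abelian.Ext X (⨁ f) 1) : y = 0 := by
  apply (Abelian.Ext.addEquivBiproduct X (biproduct.isBilimit f) 1).injective
  funext i
  rw [map_zero]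
  exact h i _

theorem main11493 (A : Type u) [CommRing A] [IsNoetherianRing A] [IsLocalRing A]
    (I : Ideal A)
    (hres : ∃ (q : ℕ) (φ : (Fin q → A) →ₗ[A] ↥I), Function.Surjective φ ∧
      Module.Free A ↥(LinearMap.ker φ))
    (S : ShortComplex (ModuleCat.{u} A)) (hS : S.ShortExact)
    (h₁ : Nonempty (S.X₁ ≅ ModuleCat.of A A)) (h₃ : Nonempty (S.X₃ ≅ ModuleCat.of A ↥I)) :
    Module.Free A S.X₂ ↔
      ∀ x : Abelian.Ext S.X₃ S.X₁ 1, ∃ f : S.X₁ ⟶ S.X₁,
        hS.extClass.comp (Abelian.Ext.mk₀ f) (add_zero 1) = x := by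
  obtain ⟨i₁⟩ := h₁
  obtain ⟨i₃⟩ := h₃
  have hP1 : Projective S.X₁ := Projective.of_iso i₁.symm inferInstance
  have hB : (∀ x : Abelian.Ext S.X₃ S.X₁ 1, ∃ f : S.X₁ ⟶ S.X₁,
      hS.extClass.comp (Abelian.Ext.mk₀ f) (add_zero 1) = x) ↔
      ∀ y : Abelian.Ext S.X₂ S.X₁ 1, y = 0 := by
    constructor
    · intro h y
      obtain ⟨x₁, hx₁⟩ := Abelian.Ext.contravariant_sequence_exact₂ hS S.X₁ y
        (Abelian.Ext.eq_zero_of_projective _)
      obtain ⟨f, hf⟩ := h x₁
      rw [← hx₁, ← hf]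
      exact hS.comp_extClass_assoc (Abelian.Ext.mk₀ f) (add_zero 1)
    · intro h x
      obtain ⟨x₁, hx₁⟩ := Abelian.Ext.contravariant_sequence_exact₃ hS S.X₁ x (h _)
        (n₀ := 0) (by norm_num)
      obtain ⟨f, rfl⟩ := (Abelian.Ext.mk₀_bijective _ _).2 x₁
      exact ⟨f, hx₁⟩
  rw [hB]
  constructor
  · intro hfree y
    have hp : Module.Projective A S.X₂ := Module.Projective.of_free
    have hp' : Projective S.X₂ := (IsProjective.iff_projective (R := A) S.X₂).mp hp
    exact Abelian.Ext.eq_zero_of_projective y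
  · intro hvan
    obtain ⟨q, φ, hφ, hfreeK⟩ := hres
    have hf : Function.Injective S.f.hom := hS.moduleCat_injective_f
    have hg : Function.Surjective S.g.hom := hS.moduleCat_surjective_g
    have hex : Function.Exact S.f.hom S.g.hom :=
      (ShortComplex.ShortExact.moduleCat_exact_iff_function_exact S).mp hS.exact
    let e₃ : S.X₃ ≃ₗ[A] I := i₃.toLinearEquiv
    let e₁ : S.X₁ ≃ₗ[A] A := i₁.toLinearEquiv
    obtain ⟨ψ, hψ⟩ := Module.projective_lifting_property S.g.hom
      (e₃.symm.toLinearMap ∘ₗ φ) hg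
    have hψ' : ∀ v, S.g.hom (ψ v) = e₃.symm (φ v) := fun v => LinearMap.congr_fun hψ v
    let Φ : (S.X₁ × (Fin q → A)) →ₗ[A] S.X₂ := S.f.hom.coprod ψ
    have hΦapp : ∀ a v, Φ (a, v) = S.f.hom a + ψ v := fun a v => LinearMap.coprod_apply _ _ _
    have hΦ : Function.Surjective Φ := by
      intro m
      obtain ⟨v, hv⟩ := hφ (e₃ (S.g.hom m))
      have h1 : S.g.hom (m - ψ v) = 0 := by
        rw [map_sub, hψ', hv, LinearEquiv.symm_apply_apply, sub_self]
      obtain ⟨a, ha⟩ := (hex _).mp h1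
      exact ⟨(a, v), by rw [hΦapp, ha, sub_add_cancel]⟩
    let θ : LinearMap.ker Φ →ₗ[A] (Fin q → A) :=
      (LinearMap.snd A S.X₁ (Fin q → A)) ∘ₗ (LinearMap.ker Φ).subtype
    have hθinj : Function.Injective θ := by
      rw [← LinearMap.ker_eq_bot, LinearMap.ker_eq_bot']
      rintro ⟨⟨a, v⟩, hav⟩ h0
      have hv : v = 0 := h0
      subst hv
      have h2 : S.f.hom a = 0 := by
        have := LinearMap.mem_ker.mp hav
        rw [hΦapp, map_zero, add_zero] at this
        exact this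
      have ha : a = 0 := hf (by rw [h2, map_zero])
      subst ha
      rfl
    have hθrange : LinearMap.range θ = LinearMap.ker φ := by
      ext v
      constructor
      · rintro ⟨⟨⟨a, w⟩, haw⟩, rfl⟩
        have h1 : S.f.hom a + ψ w = 0 := by
          have := LinearMap.mem_ker.mp haw
          rwa [hΦapp] at this
        have h2 : S.g.hom (ψ w) = 0 := by
          have := congrArg S.g.hom h1
          rwa [map_add, map_zero, hex.apply_apply_eq_zero, zero_add] at this
        rw [hψ'] at h2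
        show φ w = 0
        exact e₃.symm.injective (by rw [h2, map_zero])
      · intro hv
        have h1 : S.g.hom (ψ v) = 0 := by
          rw [hψ', LinearMap.mem_ker.mp hv, map_zero]
        obtain ⟨a, ha⟩ := (hex _).mp h1
        refine ⟨⟨(-a, v), ?_⟩, rfl⟩
        rw [LinearMap.mem_ker, hΦapp, map_neg, ha, neg_add_cancel]
    have : Module.Free A (LinearMap.ker Φ) :=
      Module.Free.of_equiv
        ((LinearEquiv.ofInjective θ hθinj).trans (LinearEquiv.ofEq _ _ hθrange)).symm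
    have : Module.Finite A S.X₁ := Module.Finite.equiv e₁.symm
    have : IsNoetherian A (S.X₁ × (Fin q → A)) := isNoetherian_of_isNoetherianRing_of_finite A _
    have : Module.Finite A (LinearMap.ker Φ) := Module.IsNoetherian.finite A _
    let eK : LinearMap.ker Φ ≃ₗ[A] (Fin (Module.finrank A (LinearMap.ker Φ)) → A) :=
      (Module.finBasis A _).equivFun
    have hvanA : ∀ y : Abelian.Ext S.X₂ (ModuleCat.of A A) 1, y = 0 := ext_vanish_of_iso i₁ hvan
    have hvanK : ∀ y : Abelian.Ext S.X₂ (ModuleCat.of A (LinearMap.ker Φ)) 1, y = 0 := by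
      have hb := ext_vanish_biproduct (X := S.X₂)
        (fun _ : Fin (Module.finrank A (LinearMap.ker Φ)) => ModuleCat.of A A) (fun _ => hvanA)
      exact ext_vanish_of_iso (ModuleCat.biproductIsoPi _ ≪≫ eK.symm.toModuleIso) hb
    have hT := LinearMap.shortExact_shortComplexKer hΦ
    obtain ⟨x₂, hx₂⟩ := Abelian.Ext.covariant_sequence_exact₃ (ModuleCat.of A S.X₂) hT
      (Abelian.Ext.mk₀ (𝟙 _)) (n₁ := 1) (by norm_num) (hvanK _)
    obtain ⟨s, rfl⟩ := (Abelian.Ext.mk₀_bijective _ _).2 x₂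
    have hs : s ≫ ModuleCat.ofHom Φ = 𝟙 _ :=
      (Abelian.Ext.mk₀_bijective _ _).1 ((Abelian.Ext.mk₀_comp_mk₀ _ _).symm.trans hx₂)
    have hs' : Φ ∘ₗ s.hom = LinearMap.id := by
      have := congrArg ModuleCat.Hom.hom hs
      simpa using this
    have : Module.Free A S.X₁ := Module.Free.of_equiv e₁.symm
    have : Module.Projective A (S.X₁ × (Fin q → A)) := inferInstance
    have : Module.Projective A S.X₂ := Module.Projective.of_split s.hom Φ hs'
    have : Module.Finite A S.X₂ := Module.Finite.of_surjective Φ hΦ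
    exact Module.free_of_flat_of_isLocalRing

end Groth.Agent.Helper17.SF
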