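import Mathlib
import Groth.Agent.Lib.Helper17.SG8
import Groth.Agent.Lib.Helper15.HProjBaseChange

set_option autoImplicit false
universe u
open CategoryTheory AlgebraicGeometry Limits

namespace Groth.Agent.Helper17.SG

open Groth.Agent.Helper15 (projSpaceOverMap isPullback_projSpaceOverMap)

theorem main9692 {X Y Z : Scheme.{u}} (f : X ⟶ Y) (g : Y ⟶ Z)
    (hf : RelProj.IsHProjective f) (hg : RelProj.IsHProjective g) :
    RelProj.IsHProjective (f ≫ g) := by
  obtain ⟨n, i, hi, hif⟩ := hf
  obtain ⟨m, j, hj, hjg⟩ := hg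
  obtain ⟨φ, hφ1, hφ2⟩ := main1616 Z n m
  have sq1 := isPullback_projSpaceOverMap n j
  have sq2 := isPullback_projSpaceOverMap n (CohB1.ProjSpaceOver.toBase m Z)
  have h1 : IsClosedImmersion (projSpaceOverMap n j) :=
    MorphismProperty.of_isPullback (P := @IsClosedImmersion) sq1.flip hj
  refine ⟨n * m + n + m, i ≫ projSpaceOverMap n j ≫ sq2.isoPullback.hom ≫ φ, ?_, ?_⟩
  · haveI := hi
    haveI := h1
    haveI := hφ1
    infer_instance
  · calc (i ≫ projSpaceOverMap n j ≫ sq2.isoPullback.hom ≫ φ) ≫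
          CohB1.ProjSpaceOver.toBase (n * m + n + m) Z
        = i ≫ projSpaceOverMap n j ≫ sq2.isoPullback.hom ≫
            pullback.fst (CohB1.ProjSpaceOver.toBase n Z) (CohB1.ProjSpaceOver.toBase m Z) ≫
              CohB1.ProjSpaceOver.toBase n Z := by
          simp only [Category.assoc]
          rw [hφ2]
      _ = i ≫ projSpaceOverMap n j ≫ projSpaceOverMap n (CohB1.ProjSpaceOver.toBase m Z) ≫
            CohB1.ProjSpaceOver.toBase n Z := by
          rw [sq2.isoPullback_hom_fst_assoc]
      _ = i ≫ projSpaceOverMap n j ≫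
            CohB1.ProjSpaceOver.toBase n (CohB1.ProjSpaceOver m Z) ≫
              CohB1.ProjSpaceOver.toBase m Z := by
          rw [sq2.w]
      _ = i ≫ CohB1.ProjSpaceOver.toBase n Y ≫ j ≫ CohB1.ProjSpaceOver.toBase m Z := by
          rw [reassoc_of% sq1.w]
      _ = f ≫ g := by
          rw [hjg, ← Category.assoc, hif]

end Groth.Agent.Helper17.SG
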