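import Mathlib
import Groth.Agent.Lib.Helper17.SMK2
import Groth.Agent.Lib.Helper6.ThickAffB

/-!
# S15991: first-order deformations of smooth affine schemes with marked points are trivial
(helper17)
-/

set_option autoImplicit false

namespace Groth.Agent.Helper17.SMK3

open AlgebraicGeometry CategoryTheory IsLocalRing

universe u v

theorem main15991
    (k : Type u) [Field k] (X : Scheme.{u}) (hX : X ⟶ Spec (CommRingCat.of k)) [IsAffine X] [Smooth hX]
    {ι : Type v} [Finite ι] (p : ι → (Spec (CommRingCat.of k) ⟶ X)) (hp : ∀ j, p j ≫ hX = 𝟙 _)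
    (hinj : Function.Injective p)
    (X' : Scheme.{u}) (g : X' ⟶ Spec (CommRingCat.of (DualNumber k))) [Flat g] (i : X ⟶ X')
    (hsq : IsPullback i hX g
      (Spec.map (CommRingCat.ofHom (TrivSqZeroExt.fstHom k k k).toRingHom)))
    (p' : ι → (Spec (CommRingCat.of (DualNumber k)) ⟶ X')) (hp' : ∀ j, p' j ≫ g = 𝟙 _)
    (hpp' : ∀ j, p j ≫ i = Spec.map (CommRingCat.ofHom (TrivSqZeroExt.fstHom k k k).toRingHom) ≫ p' j) :
    ∃ φ : X' ≅ Limits.pullback hX (Spec.map (CommRingCat.ofHom (algebraMap k (DualNumber k)))),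
      φ.hom ≫ Limits.pullback.snd hX (Spec.map (CommRingCat.ofHom (algebraMap k (DualNumber k)))) = g ∧
        i ≫ φ.hom ≫ Limits.pullback.fst hX (Spec.map (CommRingCat.ofHom (algebraMap k (DualNumber k)))) = 𝟙 X ∧
          ∀ j, p' j ≫ φ.hom ≫
              Limits.pullback.fst hX (Spec.map (CommRingCat.ofHom (algebraMap k (DualNumber k)))) =
            Spec.map (CommRingCat.ofHom (algebraMap k (DualNumber k))) ≫ p j := by
  set e : DualNumber k →ₐ[k] k := TrivSqZeroExt.fstHom k k k with he
  have hesurj : Function.Surjective (CommRingCat.ofHom e.toRingHom).hom :=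
    fun c => ⟨algebraMap k (DualNumber k) c, by simp [he]⟩
  haveI : IsClosedImmersion (Spec.map (CommRingCat.ofHom e.toRingHom)) :=
    IsClosedImmersion.spec_of_surjective _ hesurj
  haveI : IsClosedImmersion i := MorphismProperty.of_isPullback hsq.flip inferInstance
  haveI : IsArtinianRing (DualNumber k) :=
    (isArtinianRing_iff_isNilpotent_maximalIdeal _).2
      (Groth.Agent.Helper17.SMK2.isNilpotent_maximalIdeal k)
  haveI : Subsingleton ↥(Spec (CommRingCat.of (DualNumber k))) :=
    inferInstanceAs (Subsingleton (PrimeSpectrum (DualNumber k)))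
  haveI : Nonempty ↥(Spec (CommRingCat.of k)) :=
    inferInstanceAs (Nonempty (PrimeSpectrum k))
  haveI : Surjective (Spec.map (CommRingCat.ofHom e.toRingHom)) := inferInstance
  haveI : Surjective i := MorphismProperty.of_isPullback hsq.flip inferInstance
  haveI : IsAffine X' :=
    Groth.Agent.Helper6.ThickAff.isAffine_of_isClosedImmersion_of_surjective i i.surjective
  let α : CommRingCat.of (DualNumber k) ⟶ Γ(X', ⊤) :=
    (Scheme.ΓSpecIso (CommRingCat.of (DualNumber k))).inv ≫ g.appTop
  let κ : CommRingCat.of k ⟶ Γ(X, ⊤) := (Scheme.ΓSpecIso (CommRingCat.of k)).inv ≫ hX.appTop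
  have hg : X'.isoSpec.hom ≫ Spec.map α = g := by
    rw [Spec.map_comp, Scheme.isoSpec_hom_naturality_assoc, Scheme.isoSpec_Spec_hom,
      ← Spec.map_comp, Iso.inv_hom_id, Spec.map_id, Category.comp_id]
  have hhX : X.isoSpec.hom ≫ Spec.map κ = hX := by
    rw [Spec.map_comp, Scheme.isoSpec_hom_naturality_assoc, Scheme.isoSpec_Spec_hom,
      ← Spec.map_comp, Iso.inv_hom_id, Spec.map_id, Category.comp_id]
  have hi : i ≫ X'.isoSpec.hom = X.isoSpec.hom ≫ Spec.map i.appTop :=
    (Scheme.isoSpec_hom_naturality i).symm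
  have hsq' : IsPullback (Spec.map i.appTop) (Spec.map κ) (Spec.map α)
      (Spec.map (CommRingCat.ofHom e.toRingHom)) :=
    IsPullback.of_iso hsq X.isoSpec X'.isoSpec (Iso.refl _) (Iso.refl _) hi
      (by simp [hhX]) (by simp [hg]) (by simp)
  haveI : Flat (Spec.map α) := by
    have : Spec.map α = X'.isoSpec.inv ≫ g := by rw [← hg, Iso.inv_hom_id_assoc]
    rw [this]
    infer_instance
  haveI : Smooth (Spec.map κ) := by
    have : Spec.map κ = X.isoSpec.inv ≫ hX := by rw [← hhX, Iso.inv_hom_id_assoc]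
    rw [this]
    infer_instance
  -- marked points
  let q : ι → (Γ(X, ⊤) ⟶ CommRingCat.of k) := fun j => Spec.preimage (p j ≫ X.isoSpec.hom)
  let q' : ι → (Γ(X', ⊤) ⟶ CommRingCat.of (DualNumber k)) :=
    fun j => Spec.preimage (p' j ≫ X'.isoSpec.hom)
  have hqm : ∀ j, Spec.map (q j) = p j ≫ X.isoSpec.hom := fun j => Spec.map_preimage _
  have hq'm : ∀ j, Spec.map (q' j) = p' j ≫ X'.isoSpec.hom := fun j => Spec.map_preimage _
  have hq : ∀ j, κ ≫ q j = 𝟙 _ := by
    intro j
    apply Spec.map_injective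
    rw [Spec.map_comp, hqm, Category.assoc, hhX, hp, Spec.map_id]
  have hq' : ∀ j, α ≫ q' j = 𝟙 _ := by
    intro j
    apply Spec.map_injective
    rw [Spec.map_comp, hq'm, Category.assoc, hg, hp', Spec.map_id]
  have hqinj : Function.Injective q := by
    intro j l hjl
    apply hinj
    have h1 : Spec.map (q j) = Spec.map (q l) := by rw [hjl]
    rw [hqm, hqm] at h1
    exact (cancel_mono X.isoSpec.hom).1 h1
  have hqq' : ∀ j, i.appTop ≫ q j = q' j ≫ CommRingCat.ofHom e.toRingHom := by
    intro j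
    apply Spec.map_injective
    rw [Spec.map_comp, Spec.map_comp, hqm, hq'm, Category.assoc, ← hi, ← Category.assoc, hpp',
      Category.assoc]
  obtain ⟨s, hs, hsπ, hmark⟩ := Groth.Agent.Helper17.SMK2.spec_version_marked k Γ(X, ⊤) Γ(X', ⊤)
    α κ i.appTop hsq' q hq hqinj q' hq' hqq'
  have hfinal : IsPullback (X'.isoSpec.hom ≫ Spec.map s ≫ X.isoSpec.inv) g hX
      (Spec.map (CommRingCat.ofHom (algebraMap k (DualNumber k)))) :=
    IsPullback.of_iso hs X'.isoSpec.symm X.isoSpec.symm (Iso.refl _) (Iso.refl _)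
      (by simp) (by simp [← hg]) (by simp [← hhX]) (by simp)
  refine ⟨hfinal.isoPullback, hfinal.isoPullback_hom_snd, ?_, fun j => ?_⟩
  · rw [hfinal.isoPullback_hom_fst, ← Category.assoc, hi, Category.assoc, ← Category.assoc (Spec.map _),
      ← Spec.map_comp, hsπ, Spec.map_id, Category.id_comp, Iso.hom_inv_id]
  · rw [hfinal.isoPullback_hom_fst, ← Category.assoc, ← hq'm, ← Category.assoc, ← Spec.map_comp,
      hmark, Spec.map_comp, Category.assoc, hqm, Category.assoc, Iso.hom_inv_id, Category.comp_id]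

end Groth.Agent.Helper17.SMK3
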