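import Mathlib

set_option autoImplicit false
universe u
open Polynomial

namespace Groth.Agent.Helper17.SPL

/-- finite, flat, finitely presented ring homs -/
def Good {R S : Type*} [CommRing R] [CommRing S] (α : R →+* S) : Prop :=
  α.Finite ∧ α.Flat ∧ α.FinitePresentation

theorem good_id (R : Type*) [CommRing R] : Good (RingHom.id R) :=
  ⟨RingHom.Finite.id R, RingHom.Flat.id R, RingHom.FinitePresentation.id R⟩

theorem good_comp {R S T : Type*} [CommRing R] [CommRing S] [CommRing T] {α : R →+* S}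
    {β : S →+* T} (hα : Good α) (hβ : Good β) : Good (β.comp α) :=
  ⟨hβ.1.comp hα.1, hα.2.1.comp hβ.2.1, hβ.2.2.comp hα.2.2⟩

theorem good_of {R : Type*} [CommRing R] (P : R[X]) (hP : P.Monic) : Good (AdjoinRoot.of P) := by
  haveI := hP.free_adjoinRoot
  haveI := hP.finite_adjoinRoot
  have h : AdjoinRoot.of P = algebraMap R (AdjoinRoot P) := rfl
  rw [h]
  exact ⟨RingHom.finite_algebraMap.2 inferInstance, RingHom.flat_algebraMap_iff.2 inferInstance,
    RingHom.finitePresentation_algebraMap.2 inferInstance⟩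

theorem of_injective {R : Type*} [CommRing R] (P : R[X]) (hP : P.Monic) (hd : 0 < P.natDegree) :
    Function.Injective (AdjoinRoot.of P) := by
  rw [injective_iff_map_eq_zero]
  intro a ha
  by_contra hne
  have hC : (C a : R[X]) ≠ 0 := by rwa [Ne, C_eq_zero]
  have hlt : (C a : R[X]).natDegree < P.natDegree := by rw [natDegree_C]; exact hd
  exact AdjoinRoot.mk_ne_zero_of_natDegree_lt hP hC hlt ha

/-- the split polynomial with the given roots -/
noncomputable def sp {K : Type*} [CommRing K] (l : List K) : K[X] :=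
  (l.map (fun t => X - C t)).prod

theorem sp_nil {K : Type*} [CommRing K] : sp ([] : List K) = 1 := by simp [sp]

theorem sp_cons {K : Type*} [CommRing K] (t : K) (l : List K) :
    sp (t :: l) = (X - C t) * sp l := by simp [sp]

theorem sp_monic {K : Type*} [CommRing K] (l : List K) : (sp l).Monic := by
  induction l with
  | nil => rw [sp_nil]; exact monic_one
  | cons t l ih => rw [sp_cons]; exact (monic_X_sub_C t).mul ih

theorem sp_map {K K' : Type*} [CommRing K] [CommRing K'] (g : K →+* K') (l : List K) :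
    (sp l).map g = sp (l.map g) := by
  induction l with
  | nil => rw [List.map_nil, sp_nil, sp_nil, Polynomial.map_one]
  | cons t l ih =>
    rw [List.map_cons, sp_cons, sp_cons, Polynomial.map_mul, ih, Polynomial.map_sub,
      Polynomial.map_X, Polynomial.map_C]

theorem eval₂_sp {K S : Type*} [CommRing K] [CommRing S] (g : K →+* S) (x : S) (l : List K) :
    (sp l).eval₂ g x = (l.map (fun t => x - g t)).prod := by
  induction l with
  | nil => rw [sp_nil, eval₂_one]; rfl
  | cons t l ih =>
    rw [sp_cons, eval₂_mul, ih, eval₂_sub, eval₂_X, eval₂_C, List.map_cons, List.prod_cons]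

theorem eval₂_sp_of_mem {K S : Type*} [CommRing K] [CommRing S] (g : K →+* S) (l : List K)
    (t : K) (ht : t ∈ l) : (sp l).eval₂ g (g t) = 0 := by
  rw [eval₂_sp]
  apply List.prod_eq_zero
  exact List.mem_map.2 ⟨t, ht, sub_self _⟩

theorem exists_mem_of_prod_mem {S ι : Type*} [CommRing S] (q : Ideal S) (hq : q.IsPrime)
    (f : ι → S) (l : List ι) (h : (l.map f).prod ∈ q) : ∃ t ∈ l, f t ∈ q := by
  induction l with
  | nil =>
    exfalso
    rw [List.map_nil, List.prod_nil] at h
    exact hq.ne_top ((Ideal.eq_top_iff_one q).2 h)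
  | cons t l ih =>
    rw [List.map_cons, List.prod_cons] at h
    rcases hq.mem_or_mem h with h1 | h1
    · exact ⟨t, by simp, h1⟩
    · obtain ⟨t', ht', h2⟩ := ih h1
      exact ⟨t', List.mem_cons_of_mem _ ht', h2⟩

/-- Step 1: a monic polynomial splits after a good injective extension. -/
theorem exists_split (n : ℕ) : ∀ {R : Type u} [CommRing R] (P : R[X]), P.Monic →
    P.natDegree = n →
    ∃ (R' : Type u) (_ : CommRing R') (α : R →+* R') (l : List R'),
      Good α ∧ Function.Injective α ∧ P.map α = sp l := by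
  induction n with
  | zero =>
    intro R _ P hP hn
    refine ⟨R, inferInstance, RingHom.id R, [], good_id R, fun _ _ h => h, ?_⟩
    rw [Polynomial.map_id, sp_nil]
    exact eq_one_of_monic_natDegree_zero hP hn
  | succ n ih =>
    intro R _ P hP hn
    rcases subsingleton_or_nontrivial R with hR | hR
    · refine ⟨R, inferInstance, RingHom.id R, [], good_id R, fun _ _ h => h, ?_⟩
      haveI : Subsingleton R[X] := subsingleton_iff_subsingleton.2 hR
      exact Subsingleton.elim _ _
    · have hinj : Function.Injective (AdjoinRoot.of P) := of_injective P hP (by omega)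
      haveI : Nontrivial (AdjoinRoot P) := hinj.nontrivial
      obtain ⟨Q, hQ⟩ : X - C (AdjoinRoot.root P) ∣ P.map (AdjoinRoot.of P) :=
        dvd_iff_isRoot.2 (AdjoinRoot.isRoot_root P)
      have hPm : (P.map (AdjoinRoot.of P)).Monic := hP.map _
      have hQm : Q.Monic := by
        rw [hQ] at hPm
        exact (monic_X_sub_C _).of_mul_monic_left hPm
      have hdeg : Q.natDegree = n := by
        have h1 : (P.map (AdjoinRoot.of P)).natDegree = n + 1 := by
          rw [hP.natDegree_map, hn]
        rw [hQ, (monic_X_sub_C _).natDegree_mul hQm, natDegree_X_sub_C] at h1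
        omega
      obtain ⟨R', iR', α₂, l, hα₂, hinj₂, hl⟩ := ih Q hQm hdeg
      refine ⟨R', iR', α₂.comp (AdjoinRoot.of P), α₂ (AdjoinRoot.root P) :: l,
        good_comp (good_of P hP) hα₂, hinj₂.comp hinj, ?_⟩
      rw [← Polynomial.map_map, hQ, Polynomial.map_mul, hl, sp_cons, Polynomial.map_sub,
        Polynomial.map_X, Polynomial.map_C]

/-- Step 2: a finite list of monic polynomials splits after a good injective extension. -/
theorem exists_split_list (n : ℕ) : ∀ {R : Type u} [CommRing R] (Ps : List R[X]),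
    Ps.length = n → (∀ P ∈ Ps, P.Monic) →
    ∃ (R' : Type u) (_ : CommRing R') (α : R →+* R'), Good α ∧ Function.Injective α ∧
      ∀ P ∈ Ps, ∃ l : List R', P.map α = sp l := by
  induction n with
  | zero =>
    intro R _ Ps hlen _
    refine ⟨R, inferInstance, RingHom.id R, good_id R, fun _ _ h => h, ?_⟩
    intro P hP
    have hnil : Ps = [] := List.eq_nil_of_length_eq_zero hlen
    rw [hnil] at hP
    exact absurd hP (by simp)
  | succ n ih =>
    intro R _ Ps hlen hmon
    cases Ps with
    | nil => exact absurd hlen (by simp)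
    | cons P Ps =>
      obtain ⟨R₁, iR₁, α₁, l₁, hα₁, hinj₁, hl₁⟩ :=
        exists_split P.natDegree P (hmon P (by simp)) rfl
      have hlen' : (Ps.map (Polynomial.map α₁)).length = n := by
        rw [List.length_map]; simpa using hlen
      have hmon' : ∀ Q ∈ Ps.map (Polynomial.map α₁), Q.Monic := by
        intro Q hQ
        obtain ⟨Q₀, hQ₀, rfl⟩ := List.mem_map.1 hQ
        exact (hmon Q₀ (List.mem_cons_of_mem _ hQ₀)).map _
      obtain ⟨R', iR', α₂, hα₂, hinj₂, hl₂⟩ := ih (Ps.map (Polynomial.map α₁)) hlen' hmon'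
      refine ⟨R', iR', α₂.comp α₁, good_comp hα₁ hα₂, hinj₂.comp hinj₁, ?_⟩
      intro Q hQ
      rcases List.mem_cons.1 hQ with hQP | hQ
      · refine ⟨l₁.map α₂, ?_⟩
        rw [hQP, ← Polynomial.map_map, hl₁, sp_map]
      · obtain ⟨l, hl⟩ := hl₂ (Q.map α₁) (List.mem_map.2 ⟨Q, hQ, rfl⟩)
        exact ⟨l, by rw [← Polynomial.map_map]; exact hl⟩

/-- kernel of a lifted section lies in an ideal -/
theorem lift_factor {C₀ K D : Type*} [CommRing C₀] [CommRing K] [CommRing D] (p : C₀[X])
    (s : C₀ →+* K) (t : K) (h : p.eval₂ s t = 0) (γ₀ : K →+* C₀)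
    (hs : s.comp γ₀ = RingHom.id K) (π : AdjoinRoot p →+* D)
    (hπ₀ : ∀ c, s c = 0 → π (AdjoinRoot.of p c) = 0)
    (hπr : π (AdjoinRoot.root p) = π (AdjoinRoot.of p (γ₀ t)))
    (z : AdjoinRoot p) (hz : AdjoinRoot.lift s t h z = 0) : π z = 0 := by
  obtain ⟨g, rfl⟩ := AdjoinRoot.mk_surjective z
  have hz' : g.eval₂ s t = 0 := by
    rwa [AdjoinRoot.lift_mk] at hz
  have hπ : ∀ c : C₀, π (AdjoinRoot.of p c) = π (AdjoinRoot.of p (γ₀ (s c))) := by
    intro c
    have h1 : s (c - γ₀ (s c)) = 0 := by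
      rw [map_sub]
      have : s (γ₀ (s c)) = s c := RingHom.congr_fun hs (s c)
      rw [this, sub_self]
    have h2 := hπ₀ _ h1
    rw [map_sub, map_sub, sub_eq_zero] at h2
    exact h2
  have hcomp : π.comp (AdjoinRoot.of p) = ((π.comp (AdjoinRoot.of p)).comp γ₀).comp s :=
    RingHom.ext fun c => hπ c
  have hmk : AdjoinRoot.mk p g = g.eval₂ (AdjoinRoot.of p) (AdjoinRoot.root p) := by
    rw [← AdjoinRoot.aeval_eq, aeval_def, AdjoinRoot.algebraMap_eq]
  have e1 : g.eval₂ (((π.comp (AdjoinRoot.of p)).comp γ₀).comp s)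
      (((π.comp (AdjoinRoot.of p)).comp γ₀) t) = 0 := by
    rw [← hom_eval₂, hz', map_zero]
  rw [hmk, hom_eval₂, hπr, hcomp]
  exact e1

theorem ker_lift_le {C₀ K : Type*} [CommRing C₀] [CommRing K] (p : C₀[X]) (s : C₀ →+* K) (t : K)
    (h : p.eval₂ s t = 0) (γ₀ : K →+* C₀) (hs : s.comp γ₀ = RingHom.id K)
    (q : Ideal (AdjoinRoot p)) (hq₀ : RingHom.ker s ≤ q.comap (AdjoinRoot.of p))
    (hr : AdjoinRoot.root p - AdjoinRoot.of p (γ₀ t) ∈ q) :
    RingHom.ker (AdjoinRoot.lift s t h) ≤ q := by
  intro z hz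
  have hz0 : AdjoinRoot.lift s t h z = 0 := hz
  have := lift_factor p s t h γ₀ hs (Ideal.Quotient.mk q)
    (fun c hc => Ideal.Quotient.eq_zero_iff_mem.2 (hq₀ hc))
    (Ideal.Quotient.eq.2 hr) z hz0
  exact Ideal.Quotient.eq_zero_iff_mem.1 this

end Groth.Agent.Helper17.SPL
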