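import Mathlib
import Groth.Agent.Lib.Helper17.SPL1

set_option autoImplicit false
universe u
open Polynomial

namespace Groth.Agent.Helper17.SPL

/-- Step 3: the tower adjoining one root of each split polynomial. -/
theorem exists_tower {K : Type u} [CommRing K] (L : List (List K)) :
    ∃ (C : Type u) (_ : CommRing C) (γ : K →+* C) (T : List C) (m : ℕ)
      (σ : Fin m → (C →+* K)),
      Good γ ∧ (∀ j, (σ j).comp γ = RingHom.id K) ∧
      (∀ q : Ideal C, q.IsPrime → ∃ j, RingHom.ker (σ j) ≤ q) ∧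
      ∀ (T' : Type u) [CommRing T'] (β : K →+* T') (y : List T'),
        List.Forall₂ (fun l y₀ => (sp l).eval₂ β y₀ = 0) L y →
        ∃ ψ : C →+* T', ψ.comp γ = β ∧ T.map ψ = y := by
  induction L with
  | nil =>
    refine ⟨K, inferInstance, RingHom.id K, [], 1, fun _ => RingHom.id K, good_id K,
      fun _ => rfl, ?_, ?_⟩
    · intro q _
      refine ⟨0, ?_⟩
      intro z hz
      have hz0 : z = 0 := hz
      rw [hz0]
      exact q.zero_mem
    · intro T' _ β y hy
      have hy' : y = [] := List.forall₂_nil_left_iff.1 hy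
      exact ⟨β, RingHom.comp_id β, by rw [hy']; rfl⟩
  | cons l L ih =>
    obtain ⟨C₀, iC₀, γ₀, T₀, m₀, σ₀, hγ₀, hσ₀, hcov₀, hU₀⟩ := ih
    obtain ⟨p, hp⟩ : ∃ p : C₀[X], p = (sp l).map γ₀ := ⟨_, rfl⟩
    have hpm : p.Monic := by rw [hp]; exact (sp_monic l).map γ₀
    have hev : ∀ {S : Type u} [CommRing S] (g : C₀ →+* S) (x : S),
        p.eval₂ g x = (sp l).eval₂ (g.comp γ₀) x := by
      intro S _ g x
      rw [hp, eval₂_map]
    have hsec : ∀ (a : Fin l.length) (j : Fin m₀), p.eval₂ (σ₀ j) (l.get a) = 0 := by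
      intro a j
      rw [hev, hσ₀ j]
      exact eval₂_sp_of_mem (RingHom.id K) l (l.get a) (List.get_mem l a)
    obtain ⟨σp, hσp⟩ : ∃ σp : Fin l.length × Fin m₀ → (AdjoinRoot p →+* K),
        ∀ a j, σp (a, j) = AdjoinRoot.lift (σ₀ j) (l.get a) (hsec a j) :=
      ⟨fun aj => AdjoinRoot.lift (σ₀ aj.2) (l.get aj.1) (hsec aj.1 aj.2), fun a j => rfl⟩
    have hσp1 : ∀ aj, (σp aj).comp ((AdjoinRoot.of p).comp γ₀) = RingHom.id K := by
      rintro ⟨a, j⟩
      rw [hσp, ← RingHom.comp_assoc, AdjoinRoot.lift_comp_of]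
      exact hσ₀ j
    refine ⟨AdjoinRoot p, inferInstance, (AdjoinRoot.of p).comp γ₀,
      AdjoinRoot.root p :: T₀.map (AdjoinRoot.of p), l.length * m₀,
      fun k => σp (finProdFinEquiv.symm k),
      good_comp hγ₀ (good_of p hpm), fun k => hσp1 _, ?_, ?_⟩
    · intro q hq
      haveI := hq
      obtain ⟨j, hj⟩ := hcov₀ (q.comap (AdjoinRoot.of p)) inferInstance
      have h0 : (sp l).eval₂ ((AdjoinRoot.of p).comp γ₀) (AdjoinRoot.root p) = 0 := by
        rw [← hev]
        exact AdjoinRoot.eval₂_root p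
      rw [eval₂_sp] at h0
      have h1 : (l.map (fun t => AdjoinRoot.root p - ((AdjoinRoot.of p).comp γ₀) t)).prod ∈ q := by
        rw [h0]
        exact q.zero_mem
      obtain ⟨t, ht, htq⟩ := exists_mem_of_prod_mem q hq _ l h1
      obtain ⟨a, rfl⟩ := List.mem_iff_get.1 ht
      refine ⟨finProdFinEquiv (a, j), ?_⟩
      show RingHom.ker (σp (finProdFinEquiv.symm (finProdFinEquiv (a, j)))) ≤ q
      rw [Equiv.symm_apply_apply, hσp]
      exact ker_lift_le p (σ₀ j) (l.get a) (hsec a j) γ₀ (hσ₀ j) q hj htq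
    · intro T' _ β y hy
      obtain ⟨y₀, ys, h1, h2, rfl⟩ := List.forall₂_cons_left_iff.1 hy
      obtain ⟨ψ₀, hψ₀, hT₀⟩ := hU₀ T' β ys h2
      have hlift : p.eval₂ ψ₀ y₀ = 0 := by
        rw [hev, hψ₀]
        exact h1
      refine ⟨AdjoinRoot.lift ψ₀ y₀ hlift, ?_, ?_⟩
      · rw [← RingHom.comp_assoc, AdjoinRoot.lift_comp_of]
        exact hψ₀
      · have hmap : (T₀.map (AdjoinRoot.of p)).map (AdjoinRoot.lift ψ₀ y₀ hlift) = T₀.map ψ₀ := by
          rw [List.map_map]
          apply List.map_congr_left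
          intro t _
          exact AdjoinRoot.lift_of hlift
        rw [List.map_cons, AdjoinRoot.lift_root, hmap, hT₀]

/-- Step 4: the algebra behind the statement. -/
theorem alg_main {A B : Type u} [CommRing A] [CommRing B] (φ : A →+* B) (hφ : φ.Finite) :
    ∃ (A' : Type u) (_ : CommRing A') (α : A →+* A') (C : Type u) (_ : CommRing C)
      (γ : A' →+* C) (m : ℕ) (σ : Fin m → (C →+* A')),
      Good α ∧ Function.Injective α ∧ Good γ ∧ (∀ j, (σ j).comp γ = RingHom.id A') ∧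
      (∀ q : Ideal C, q.IsPrime → ∃ j, RingHom.ker (σ j) ≤ q) ∧
      ∀ (T' : Type u) [CommRing T'] (β : A' →+* T') (φ' : B →+* T'), β.comp α = φ'.comp φ →
        (∀ T : Subring T', (∀ a, β a ∈ T) → (∀ b, φ' b ∈ T) → ∀ d, d ∈ T) →
        ∃ ψ : C →+* T', Function.Surjective ψ ∧ ψ.comp γ = β := by
  have hint : ∀ b : B, ∃ p : A[X], p.Monic ∧ p.eval₂ φ b = 0 := hφ.to_isIntegral
  obtain ⟨s, hs⟩ : ∃ s : Finset B, ∀ (pr : B → Prop), (∀ b ∈ s, pr b) → pr 0 →
      (∀ x y, pr x → pr y → pr (x + y)) → (∀ (a : A) (b : B), pr b → pr (φ a * b)) →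
      ∀ b, pr b := by
    letI := φ.toAlgebra
    have hfin : Module.Finite A B := hφ
    obtain ⟨s, hs⟩ := Module.finite_def.1 hfin
    refine ⟨s, fun pr h1 h0 hadd h2 b => ?_⟩
    have hb : b ∈ Submodule.span A (s : Set B) := by rw [hs]; exact Submodule.mem_top
    induction hb using Submodule.span_induction with
    | mem x hx => exact h1 x hx
    | zero => exact h0
    | add x y _ _ hx hy => exact hadd x y hx hy
    | smul a x _ hx =>
      have hax : a • x = φ a * x := Algebra.smul_def a x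
      rw [hax]
      exact h2 a x hx
  choose Pf hPf using hint
  obtain ⟨A', iA', α, hα, hinj, hsplit⟩ := exists_split_list _ (s.toList.map Pf) rfl (by
    intro P hP
    obtain ⟨b, _, rfl⟩ := List.mem_map.1 hP
    exact (hPf b).1)
  have hl : ∀ b : B, ∃ l : List A', b ∈ s → (Pf b).map α = sp l := by
    intro b
    by_cases hb : b ∈ s
    · obtain ⟨l, hl⟩ := hsplit (Pf b) (List.mem_map.2 ⟨b, Finset.mem_toList.2 hb, rfl⟩)
      exact ⟨l, fun _ => hl⟩
    · exact ⟨[], fun h => absurd h hb⟩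
  choose lf hlf using hl
  obtain ⟨C, iC, γ, T, m, σ, hγ, hσ, hcov, hU⟩ := exists_tower (s.toList.map lf)
  refine ⟨A', iA', α, C, iC, γ, m, σ, hα, hinj, hγ, hσ, hcov, ?_⟩
  intro T' _ β φ' hcomm hgen
  have hy : List.Forall₂ (fun l y₀ => (sp l).eval₂ β y₀ = 0) (s.toList.map lf)
      (s.toList.map φ') := by
    rw [List.forall₂_map_left_iff, List.forall₂_map_right_iff, List.forall₂_same]
    intro b hb
    have hb' : b ∈ s := Finset.mem_toList.1 hb
    show (sp (lf b)).eval₂ β (φ' b) = 0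
    rw [← hlf b hb', eval₂_map, hcomm, ← hom_eval₂, (hPf b).2, map_zero]
  obtain ⟨ψ, hψ, hT⟩ := hU T' β _ hy
  refine ⟨ψ, ?_, hψ⟩
  have hβ : ∀ a, β a ∈ ψ.range := fun a => ⟨γ a, RingHom.congr_fun hψ a⟩
  have hφ' : ∀ b, φ' b ∈ ψ.range := by
    intro b
    refine hs (fun b => φ' b ∈ ψ.range) ?_ ?_ ?_ ?_ b
    · intro b' hb'
      have hmem : φ' b' ∈ s.toList.map φ' := List.mem_map.2 ⟨b', Finset.mem_toList.2 hb', rfl⟩
      rw [← hT] at hmem
      obtain ⟨t, _, ht⟩ := List.mem_map.1 hmem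
      exact ⟨t, ht⟩
    · show φ' 0 ∈ ψ.range
      rw [map_zero]
      exact ψ.range.zero_mem
    · intro x y hx hy
      show φ' (x + y) ∈ ψ.range
      rw [map_add]
      exact ψ.range.add_mem hx hy
    · intro a b' hb'
      show φ' (φ a * b') ∈ ψ.range
      rw [map_mul]
      have hab : φ' (φ a) = β (α a) := (RingHom.congr_fun hcomm a).symm
      rw [hab]
      exact ψ.range.mul_mem (hβ _) hb'
  intro d
  exact hgen ψ.range hβ hφ' d

end Groth.Agent.Helper17.SPL
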