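import Mathlib
import Groth.Prelude.Def_Mor2
import Groth.Agent.Lib.Helper17.SPL2
import Groth.Agent.Lib.Helper17.SG4

set_option autoImplicit false
universe u
open CategoryTheory CategoryTheory.Limits AlgebraicGeometry

namespace Groth.Agent.Helper17.SPL

open Groth.Agent.Helper17.SG (flat ofRing flat_ofRing flat_injective flat_comp_SpecMap
  mem_of_isPullback flat_apply)
open Groth.Agent.Helper17.JT (iot iot_surj)

theorem finLocFree_SpecMap {R S : Type u} [CommRing R] [CommRing S] (α : R →+* S)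
    (hα : Good α) : Mor2.IsFinLocFree (Spec.map (CommRingCat.ofHom α)) :=
  ⟨(IsFinite.SpecMap_iff _).2 hα.1, Flat.SpecMap_iff.2 hα.2.1,
    (LocallyOfFinitePresentation.SpecMap_iff _).2 hα.2.2⟩

theorem surjective_SpecMap {R S : Type u} [CommRing R] [CommRing S] (α : R →+* S)
    (hαs : Function.Surjective (PrimeSpectrum.comap α)) :
    Surjective (Spec.map (CommRingCat.ofHom α)) := by
  refine ⟨fun x => ?_⟩
  obtain ⟨y, hy⟩ := hαs x
  exact ⟨y, hy⟩

theorem packaging {X Y : Scheme.{u}} [IsAffine X] (f : Y ⟶ X) [IsFinite f]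
    (A' : Type u) [CommRing A'] (α : Γ(X, ⊤) →+* A') (hα : Good α)
    (hαs : Function.Surjective (PrimeSpectrum.comap α))
    (C : Type u) [CommRing C] (γ : A' →+* C) (hγ : Good γ) (m : ℕ) (σ : Fin m → (C →+* A'))
    (hσ : ∀ j, (σ j).comp γ = RingHom.id A')
    (hcov : ∀ q : Ideal C, q.IsPrime → ∃ j, RingHom.ker (σ j) ≤ q)
    (hU : ∀ (T' : Type u) [CommRing T'] (β : A' →+* T') (φ' : Γ(Y, ⊤) →+* T'),
      β.comp α = φ'.comp f.appTop.hom →
      (∀ T : Subring T', (∀ a, β a ∈ T) → (∀ b, φ' b ∈ T) → ∀ d, d ∈ T) →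
      ∃ ψ : C →+* T', Function.Surjective ψ ∧ ψ.comp γ = β) :
    ∃ (X' : Scheme.{u}) (b : X' ⟶ X) (Z' : Scheme.{u}) (c : Z' ⟶ X') (i : pullback f b ⟶ Z'),
      Mor2.IsFinLocFree b ∧ Surjective b ∧ Mor2.IsFinLocFree c ∧ IsClosedImmersion i ∧
      i ≫ c = pullback.snd f b ∧
      ∃ (m : ℕ) (Zj : Fin m → Scheme.{u}) (ιj : ∀ j, Zj j ⟶ Z'),
        (∀ j, IsClosedImmersion (ιj j)) ∧ (∀ j, IsIso (ιj j ≫ c)) ∧
        (⋃ j, Set.range (ιj j).base) = Set.univ := by
  haveI : IsAffine Y := isAffine_of_isAffineHom f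
  obtain ⟨b, hb⟩ : ∃ b : Spec (CommRingCat.of A') ⟶ X,
      b = Spec.map (CommRingCat.ofHom α) ≫ X.isoSpec.inv := ⟨_, rfl⟩
  have hb₁ : b ≫ X.isoSpec.hom = Spec.map (CommRingCat.ofHom α) := by
    rw [hb, Category.assoc, Iso.inv_hom_id, Category.comp_id]
  obtain ⟨h1, h2, h3⟩ := finLocFree_SpecMap α hα
  have hbF : Mor2.IsFinLocFree b := by
    rw [hb]
    exact ⟨(MorphismProperty.cancel_right_of_respectsIso @IsFinite _ _).2 h1,
      (MorphismProperty.cancel_right_of_respectsIso @Flat _ _).2 h2,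
      (MorphismProperty.cancel_right_of_respectsIso @LocallyOfFinitePresentation _ _).2 h3⟩
  have hbS : Surjective b := by
    haveI := surjective_SpecMap α hαs
    rw [hb]
    infer_instance
  have hpb0 : IsPullback (pullback.fst f b) (pullback.snd f b) f b := IsPullback.of_hasPullback f b
  have hpb : IsPullback (pullback.fst f b ≫ Y.isoSpec.hom) (pullback.snd f b)
      (Spec.map (CommRingCat.ofHom f.appTop.hom)) (Spec.map (CommRingCat.ofHom α)) := by
    refine IsPullback.of_iso hpb0 (Iso.refl _) Y.isoSpec (Iso.refl _) X.isoSpec ?_ ?_ ?_ ?_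
    · rw [Iso.refl_hom, Category.id_comp]
    · simp only [Iso.refl_hom, Category.id_comp, Category.comp_id]
    · exact (Scheme.isoSpec_hom_naturality f).symm
    · rw [Iso.refl_hom, Category.id_comp]
      exact hb₁
  obtain ⟨e₁, he₁⟩ : ∃ e₁ : pullback f b ⟶ Spec (CommRingCat.of Γ(Y, ⊤)),
      e₁ = pullback.fst f b ≫ Y.isoSpec.hom := ⟨_, rfl⟩
  rw [← he₁] at hpb
  -- the ring maps
  have hcomm : (flat (pullback.snd f b)).comp α = (flat e₁).comp f.appTop.hom := by
    rw [← flat_comp_SpecMap, ← flat_comp_SpecMap, hpb.w]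
  have hgen : ∀ T : Subring Γ(pullback f b, ⊤), (∀ a, flat (pullback.snd f b) a ∈ T) →
      (∀ y, flat e₁ y ∈ T) → ∀ d, d ∈ T := by
    intro T hT1 hT2
    exact mem_of_isPullback f.appTop.hom α e₁ (pullback.snd f b) hpb T hT2 hT1
  obtain ⟨ψ, hψs, hψ⟩ := hU Γ(pullback f b, ⊤) (flat (pullback.snd f b)) (flat e₁) hcomm hgen
  -- the closed immersion
  obtain ⟨i, hi⟩ : ∃ i : pullback f b ⟶ Spec (CommRingCat.of C), i = ofRing (pullback f b) ψ :=
    ⟨_, rfl⟩
  have hfi : flat i = ψ := by rw [hi, flat_ofRing]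
  have hic : i ≫ Spec.map (CommRingCat.ofHom γ) = pullback.snd f b := by
    apply flat_injective
    rw [flat_comp_SpecMap, hfi, hψ]
  have hicl : IsClosedImmersion i := by
    apply IsClosedImmersion.of_surjective_of_isAffine
    intro d
    obtain ⟨c, hc⟩ := hψs d
    refine ⟨iot C c, ?_⟩
    rw [← hc, ← hfi]
    rfl
  refine ⟨Spec (CommRingCat.of A'), b, Spec (CommRingCat.of C), Spec.map (CommRingCat.ofHom γ), i,
    hbF, hbS, finLocFree_SpecMap γ hγ, hicl, hic, m, fun _ => Spec (CommRingCat.of A'),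
    fun j => Spec.map (CommRingCat.ofHom (σ j)), ?_, ?_, ?_⟩
  · intro j
    apply IsClosedImmersion.spec_of_surjective
    intro a
    exact ⟨γ a, RingHom.congr_fun (hσ j) a⟩
  · intro j
    have h : Spec.map (CommRingCat.ofHom (σ j)) ≫ Spec.map (CommRingCat.ofHom γ) = 𝟙 _ := by
      rw [← Spec.map_comp, ← CommRingCat.ofHom_comp, hσ j]
      exact Spec.map_id _
    rw [h]
    infer_instance
  · apply Set.eq_univ_of_forall
    intro z
    obtain ⟨j, hj⟩ := hcov (z : PrimeSpectrum C).asIdeal (z : PrimeSpectrum C).isPrime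
    have hsurj : Function.Surjective (σ j) := fun a => ⟨γ a, RingHom.congr_fun (hσ j) a⟩
    have hmem : (z : PrimeSpectrum C) ∈ Set.range (PrimeSpectrum.comap (σ j)) := by
      rw [_root_.range_comap_of_surjective _ _ hsurj]
      exact (PrimeSpectrum.mem_zeroLocus _ _).mpr (fun a ha => hj ha)
    obtain ⟨w, hw⟩ := hmem
    exact Set.mem_iUnion.2 ⟨j, ⟨w, hw⟩⟩

theorem main9703 {X Y : Scheme.{u}} [IsAffine X] (f : Y ⟶ X) [IsFinite f] :
    ∃ (X' : Scheme.{u}) (b : X' ⟶ X) (Z' : Scheme.{u}) (c : Z' ⟶ X') (i : pullback f b ⟶ Z'),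
      Mor2.IsFinLocFree b ∧ Surjective b ∧ Mor2.IsFinLocFree c ∧ IsClosedImmersion i ∧
      i ≫ c = pullback.snd f b ∧
      ∃ (m : ℕ) (Zj : Fin m → Scheme.{u}) (ιj : ∀ j, Zj j ⟶ Z'),
        (∀ j, IsClosedImmersion (ιj j)) ∧ (∀ j, IsIso (ιj j ≫ c)) ∧
        (⋃ j, Set.range (ιj j).base) = Set.univ := by
  haveI : IsAffine Y := isAffine_of_isAffineHom f
  have hfin : f.appTop.hom.Finite := by
    have h := (HasAffineProperty.iff_of_isAffine (P := @IsFinite) (f := f)).1 inferInstance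
    exact h.2
  obtain ⟨A', iA', α, C, iC, γ, m, σ, hα, hinj, hγ, hσ, hcov, hU⟩ := alg_main f.appTop.hom hfin
  exact packaging f A' α hα (hα.1.to_isIntegral.comap_surjective hinj) C γ hγ m σ hσ hcov hU

end Groth.Agent.Helper17.SPL
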