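import Mathlib

set_option autoImplicit false
universe u v

open scoped Classical
open Finset

noncomputable section

namespace Groth.Agent.Helper17.SR

variable {L : Type v}

/-- indicator vector of `C`. -/
def ones (C : Finset L) : L →₀ ℕ := Finsupp.indicator C (fun _ _ => 1)

lemma ones_apply (C : Finset L) (a : L) : ones C a = if a ∈ C then 1 else 0 := by
  unfold ones
  rw [Finsupp.indicator_apply]
  split_ifs <;> rfl

lemma ones_le {C : Finset L} {s : L →₀ ℕ} (h : s.support = C) : ones C ≤ s := by
  intro a
  rw [ones_apply]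
  split_ifs with ha
  · rw [← h, Finsupp.mem_support_iff] at ha
    exact Nat.one_le_iff_ne_zero.mpr ha
  · exact Nat.zero_le _

lemma support_ones (C : Finset L) : (ones C).support = C := by
  ext a
  rw [Finsupp.mem_support_iff, ones_apply]
  split_ifs with ha <;> simp [ha]

lemma degree_ones (C : Finset L) : (ones C).degree = C.card := by
  rw [Finsupp.degree_apply, support_ones]
  rw [Finset.sum_congr rfl (fun a ha => by rw [ones_apply, if_pos ha])]
  simp

/-- exponent vectors of degree `m` with support exactly `C`. -/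
def fiber (C : Finset L) (m : ℕ) : Finset (L →₀ ℕ) :=
  (C.finsuppAntidiag m).filter (fun s => s.support = C)

lemma mem_fiber {C : Finset L} {m : ℕ} {s : L →₀ ℕ} :
    s ∈ fiber C m ↔ s.degree = m ∧ s.support = C := by
  unfold fiber
  rw [Finset.mem_filter, Finset.mem_finsuppAntidiag]
  constructor
  · rintro ⟨⟨h1, _⟩, h3⟩
    refine ⟨?_, h3⟩
    rw [Finsupp.degree_apply, h3]; exact h1
  · rintro ⟨h1, h3⟩
    refine ⟨⟨?_, h3.subset⟩, h3⟩
    rw [← h1, Finsupp.degree_apply, h3]

lemma degree_tsub_ones {C : Finset L} {s : L →₀ ℕ} (h : s.support = C) :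
    (s - ones C).degree + C.card = s.degree := by
  rw [← degree_ones C, ← map_add, tsub_add_cancel_of_le (ones_le h)]

lemma card_fiber {C : Finset L} (hC : C.Nonempty) {m : ℕ} (hm : 1 ≤ m) :
    (fiber C m).card = (m - 1).choose (C.card - 1) := by
  have hCpos : 1 ≤ C.card := Finset.card_pos.mpr hC
  by_cases hCm : C.card ≤ m
  · have hbij : (C.finsuppAntidiag (m - C.card)).card = (fiber C m).card := by
      refine Finset.card_nbij' (fun t => t + ones C) (fun s => s - ones C) ?_ ?_ ?_ ?_
      · intro t ht
        rw [Finset.mem_coe, Finset.mem_finsuppAntidiag] at ht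
        rw [Finset.mem_coe, mem_fiber]
        obtain ⟨ht1, ht2⟩ := ht
        constructor
        · rw [map_add, degree_ones, Finsupp.degree_apply]
          have h3 : ∑ i ∈ t.support, t i = C.sum t :=
            Finset.sum_subset ht2
              (fun a _ ha => by simpa [Finsupp.mem_support_iff] using ha)
          rw [h3, ht1]; omega
        · ext a
          rw [Finsupp.mem_support_iff, Finsupp.add_apply, ones_apply]
          constructor
          · intro h
            by_contra ha
            rw [if_neg ha, add_zero] at h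
            exact ha (ht2 (Finsupp.mem_support_iff.mpr h))
          · intro ha
            rw [if_pos ha]; omega
      · intro s hs
        rw [Finset.mem_coe, mem_fiber] at hs
        rw [Finset.mem_coe, Finset.mem_finsuppAntidiag]
        obtain ⟨hs1, hs2⟩ := hs
        have hsub : (s - ones C).support ⊆ C := by
          rw [← hs2]; exact Finsupp.support_tsub
        constructor
        · have h1 := degree_tsub_ones hs2
          rw [hs1] at h1
          have h2 : C.sum (s - ones C) = (s - ones C).degree := by
            rw [Finsupp.degree_apply]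
            symm
            exact Finset.sum_subset hsub
              (fun a _ ha => by simpa [Finsupp.mem_support_iff] using ha)
          rw [h2]; omega
        · exact hsub
      · intro t _
        exact add_tsub_cancel_right t (ones C)
      · intro s hs
        rw [Finset.mem_coe, mem_fiber] at hs
        exact tsub_add_cancel_of_le (ones_le hs.2)
    rw [← hbij, Finset.card_finsuppAntidiag_nat_eq_choose]
    have e1 : C.card + (m - C.card) - 1 = m - 1 := by omega
    have e2 : m - C.card = (m - 1) - (C.card - 1) := by omega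
    rw [e1, e2, Nat.choose_symm (by omega)]
  · push Not at hCm
    have hempty : fiber C m = ∅ := by
      rw [Finset.eq_empty_iff_forall_notMem]
      intro s hs
      rw [mem_fiber] at hs
      have h1 := degree_tsub_ones hs.2
      rw [hs.1] at h1
      omega
    rw [hempty, Finset.card_empty, Nat.choose_eq_zero_of_lt (by omega)]

variable [Preorder L] [Fintype L]

/-- nonempty chains of `L`. -/
def chains : Finset (Finset L) :=
  Finset.univ.filter (fun C => C.Nonempty ∧ IsChain (fun a b : L => a ≤ b) (↑C : Set L))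

lemma mem_chains {C : Finset L} :
    C ∈ chains ↔ C.Nonempty ∧ IsChain (fun a b : L => a ≤ b) (↑C : Set L) := by
  unfold chains; simp

/-- standard monomials of degree `m`. -/
def Std (m : ℕ) : Finset (L →₀ ℕ) := (chains (L := L)).biUnion (fun C => fiber C m)

lemma mem_Std {m : ℕ} (hm : 1 ≤ m) {s : L →₀ ℕ} :
    s ∈ Std m ↔ s.degree = m ∧ IsChain (fun a b : L => a ≤ b) (↑s.support : Set L) := by
  unfold Std
  rw [Finset.mem_biUnion]
  constructor
  · rintro ⟨C, hC, hs⟩
    rw [mem_fiber] at hs
    rw [mem_chains] at hC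
    refine ⟨hs.1, ?_⟩
    rw [hs.2]; exact hC.2
  · rintro ⟨h1, h2⟩
    refine ⟨s.support, ?_, mem_fiber.mpr ⟨h1, rfl⟩⟩
    rw [mem_chains]
    refine ⟨?_, h2⟩
    rw [Finset.nonempty_iff_ne_empty]
    intro h0
    rw [Finsupp.support_eq_empty] at h0
    rw [h0, map_zero] at h1
    omega

lemma card_Std {m : ℕ} (hm : 1 ≤ m) :
    (Std (L := L) m).card = ∑ C ∈ chains (L := L), (m - 1).choose (C.card - 1) := by
  unfold Std
  rw [Finset.card_biUnion]
  · refine Finset.sum_congr rfl (fun C hC => ?_)
    exact card_fiber (mem_chains.mp hC).1 hm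
  · intro C _ D _ hCD
    change Disjoint (fiber C m) (fiber D m)
    rw [Finset.disjoint_left]
    intro s hs hs'
    rw [mem_fiber] at hs hs'
    exact hCD (hs.2.symm.trans hs'.2)

/-- exponent vectors of the generators `x_a x_b`, `a`, `b` incomparable. -/
def gens : Set (L →₀ ℕ) :=
  {s | ∃ a b : L, ¬ a ≤ b ∧ ¬ b ≤ a ∧ s = Finsupp.single a 1 + Finsupp.single b 1}

omit [Fintype L] in
lemma exists_gen_le_iff (s : L →₀ ℕ) :
    (∃ g ∈ gens (L := L), g ≤ s) ↔
      ¬ IsChain (fun a b : L => a ≤ b) (↑s.support : Set L) := by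
  constructor
  · rintro ⟨g, ⟨a, b, h1, h2, rfl⟩, hle⟩ hchain
    have hab : a ≠ b := by rintro rfl; exact h1 le_rfl
    have ha : a ∈ s.support := by
      rw [Finsupp.mem_support_iff]
      have := hle a
      rw [Finsupp.add_apply, Finsupp.single_eq_same] at this
      omega
    have hb : b ∈ s.support := by
      rw [Finsupp.mem_support_iff]
      have := hle b
      rw [Finsupp.add_apply, Finsupp.single_eq_same] at this
      omega
    rcases hchain (Finset.mem_coe.mpr ha) (Finset.mem_coe.mpr hb) hab with h | h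
    · exact h1 h
    · exact h2 h
  · intro hnot
    by_contra hno
    apply hnot
    intro a ha b hb hab
    by_contra h
    rw [not_or] at h
    apply hno
    refine ⟨Finsupp.single a 1 + Finsupp.single b 1, ⟨a, b, h.1, h.2, rfl⟩, ?_⟩
    intro c
    rw [Finset.mem_coe, Finsupp.mem_support_iff] at ha hb
    have e1 : (Finsupp.single a 1 : L →₀ ℕ) c = if a = c then 1 else 0 := Finsupp.single_apply
    have e2 : (Finsupp.single b 1 : L →₀ ℕ) c = if b = c then 1 else 0 := Finsupp.single_apply
    rw [Finsupp.add_apply, e1, e2]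
    by_cases hca : a = c
    · have h3 : s c ≠ 0 := hca ▸ ha
      rw [if_pos hca, if_neg (fun h => hab (hca.trans h.symm))]
      omega
    · by_cases hcb : b = c
      · have h3 : s c ≠ 0 := hcb ▸ hb
        rw [if_neg hca, if_pos hcb]
        omega
      · rw [if_neg hca, if_neg hcb]
        omega

variable (K : Type u) [Field K]

/-- the Stanley–Reisner ideal of the order complex. -/
def srIdeal : Ideal (MvPolynomial L K) :=
  Ideal.span {f : MvPolynomial L K | ∃ a b : L, ¬ a ≤ b ∧ ¬ b ≤ a ∧
          f = MvPolynomial.X a * MvPolynomial.X b}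

omit [Fintype L] in
lemma srIdeal_eq : srIdeal (L := L) K =
    Ideal.span ((fun s => MvPolynomial.monomial s (1 : K)) '' gens (L := L)) := by
  unfold srIdeal
  congr 1
  ext f
  constructor
  · rintro ⟨a, b, h1, h2, rfl⟩
    refine ⟨Finsupp.single a 1 + Finsupp.single b 1, ⟨a, b, h1, h2, rfl⟩, ?_⟩
    show MvPolynomial.monomial (Finsupp.single a 1 + Finsupp.single b 1) (1 : K) =
      MvPolynomial.monomial (Finsupp.single a 1) 1 * MvPolynomial.monomial (Finsupp.single b 1) 1
    rw [MvPolynomial.monomial_mul, one_mul]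
  · rintro ⟨s, ⟨a, b, h1, h2, rfl⟩, rfl⟩
    refine ⟨a, b, h1, h2, ?_⟩
    show MvPolynomial.monomial (Finsupp.single a 1 + Finsupp.single b 1) (1 : K) =
      MvPolynomial.monomial (Finsupp.single a 1) 1 * MvPolynomial.monomial (Finsupp.single b 1) 1
    rw [MvPolynomial.monomial_mul, one_mul]

lemma mem_srIdeal_iff (p : MvPolynomial L K) :
    p ∈ srIdeal (L := L) K ↔
      ∀ s ∈ p.support, ¬ IsChain (fun a b : L => a ≤ b) (↑s.support : Set L) := by
  rw [srIdeal_eq, MvPolynomial.mem_ideal_span_monomial_image]
  refine forall₂_congr (fun s _ => ?_)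
  exact exists_gen_le_iff s

/-- the linear combination map on standard monomials. -/
def Ψ (m : ℕ) : (↥(Std (L := L) m) → K) →ₗ[K] MvPolynomial L K :=
  Fintype.linearCombination K
    (fun s : ↥(Std (L := L) m) => MvPolynomial.monomial s.1 (1 : K))

lemma coeff_Ψ (m : ℕ) (c : ↥(Std (L := L) m) → K) (t : L →₀ ℕ) :
    MvPolynomial.coeff t (Ψ K m c) = if h : t ∈ Std (L := L) m then c ⟨t, h⟩ else 0 := by
  unfold Ψ
  rw [Fintype.linearCombination_apply, MvPolynomial.coeff_sum]
  simp_rw [MvPolynomial.coeff_smul, MvPolynomial.coeff_monomial]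
  split_ifs with h
  · rw [Finset.sum_eq_single ⟨t, h⟩]
    · simp
    · intro b _ hb
      have : ¬ (b.1 = t) := fun h' => hb (Subtype.ext h')
      simp [this]
    · intro h'; exact absurd (Finset.mem_univ _) h'
  · refine Finset.sum_eq_zero (fun b _ => ?_)
    have : ¬ (b.1 = t) := fun h' => h (h' ▸ b.2)
    simp [this]

lemma Ψ_mem {m : ℕ} (hm : 1 ≤ m) (c : ↥(Std (L := L) m) → K) :
    Ψ K m c ∈ MvPolynomial.homogeneousSubmodule L K m := by
  unfold Ψ
  rw [Fintype.linearCombination_apply]
  refine Submodule.sum_mem _ (fun s _ => Submodule.smul_mem _ _ ?_)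
  rw [MvPolynomial.mem_homogeneousSubmodule]
  exact MvPolynomial.isHomogeneous_monomial _ ((mem_Std hm).mp s.2).1

lemma finrank_eq {m : ℕ} (hm : 1 ≤ m) :
    Module.finrank K ((MvPolynomial.homogeneousSubmodule L K m).map
        (Ideal.Quotient.mkₐ K (srIdeal (L := L) K)).toLinearMap) = (Std (L := L) m).card := by
  set π : MvPolynomial L K →ₗ[K] (MvPolynomial L K ⧸ srIdeal (L := L) K) :=
    (Ideal.Quotient.mkₐ K (srIdeal (L := L) K)).toLinearMap with hπ
  have hπ0 : ∀ p, π p = 0 ↔ p ∈ srIdeal (L := L) K := by
    intro p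
    have : π p = Ideal.Quotient.mk (srIdeal (L := L) K) p := rfl
    rw [this]; exact Ideal.Quotient.eq_zero_iff_mem
  have hinj : Function.Injective (π ∘ₗ Ψ K m) := by
    rw [← LinearMap.ker_eq_bot, LinearMap.ker_eq_bot']
    intro c hc
    rw [LinearMap.comp_apply, hπ0, mem_srIdeal_iff] at hc
    funext s
    by_contra hs
    have hs' : s.1 ∈ (Ψ K m c).support := by
      rw [MvPolynomial.mem_support_iff, coeff_Ψ, dif_pos s.2]
      exact hs
    exact hc s.1 hs' ((mem_Std hm).mp s.2).2
  have hrange : LinearMap.range (π ∘ₗ Ψ K m) =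
      (MvPolynomial.homogeneousSubmodule L K m).map π := by
    apply le_antisymm
    · rintro _ ⟨c, rfl⟩
      exact Submodule.mem_map_of_mem (Ψ_mem K hm c)
    · rintro _ ⟨p, hp, rfl⟩
      have hp' : p.IsHomogeneous m := (MvPolynomial.mem_homogeneousSubmodule m p).mp hp
      refine ⟨fun s => MvPolynomial.coeff s.1 p, ?_⟩
      rw [LinearMap.comp_apply]
      rw [← sub_eq_zero, ← map_sub, hπ0, mem_srIdeal_iff]
      intro t ht
      rw [MvPolynomial.mem_support_iff, MvPolynomial.coeff_sub, coeff_Ψ] at ht
      intro hchain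
      apply ht
      by_cases hpt : MvPolynomial.coeff t p = 0
      · split_ifs <;> simp [hpt]
      · have hdeg : t.degree = m :=
          (DFunLike.congr_fun Finsupp.degree_eq_weight_one t).trans (hp' hpt)
        have htS : t ∈ Std (L := L) m := (mem_Std hm).mpr ⟨hdeg, hchain⟩
        rw [dif_pos htS, sub_self]
  rw [← hrange, LinearMap.finrank_range_of_inj hinj, Module.finrank_fintype_fun_eq_card,
    Fintype.card_coe]

end Groth.Agent.Helper17.SR

namespace Groth.Agent.Helper17.SR

theorem main11262 (K : Type u) [Field K] (L : Type v) [DistribLattice L]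
    [Fintype L] (m : ℕ) (hm : 1 ≤ m) :
    Module.finrank K ((MvPolynomial.homogeneousSubmodule L K m).map
        (Ideal.Quotient.mkₐ K (Ideal.span {f : MvPolynomial L K | ∃ a b : L, ¬ a ≤ b ∧ ¬ b ≤ a ∧
          f = MvPolynomial.X a * MvPolynomial.X b})).toLinearMap) =
      ∑ᶠ C : {C : Finset L // C.Nonempty ∧ IsChain (fun a b : L => a ≤ b) (↑C : Set L)},
        Nat.choose (m - 1) (C.1.card - 1) := by
  have h1 := finrank_eq (L := L) K hm
  unfold srIdeal at h1
  rw [h1, card_Std hm, finsum_eq_sum_of_fintype]
  exact Finset.sum_subtype chains (fun C => mem_chains) (fun C => (m - 1).choose (C.card - 1))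

end Groth.Agent.Helper17.SR
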