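import Mathlib
import Groth.Prelude.Def_ModSite
import Groth.Prelude.Def_ModSite2
import Groth.Agent.Lib.Helper17.MT25
import Groth.Agent.Lib.Helper17.ST1

/-!
# The stalk functor is exact
-/

open CategoryTheory Limits Opposite

namespace Groth.Agent.Helper17.ST

universe u

variable {C : Type u} [SmallCategory C] {J : GrothendieckTopology C}
  (p : GrothendieckTopology.Point.{u} J) (O : Sheaf J CommRingCat.{u})

/-- the stalk functor to abelian groups -/
noncomputable def stalkFun : ModSite.Mod O ⥤ AddCommGrpCat.{u} :=
  SheafOfModules.toSheaf.{u} (ModSite.ringSh O) ⋙ p.sheafFiber (A := AddCommGrpCat.{u})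

instance : PreservesFiniteLimits (stalkFun p O) := by
  unfold stalkFun
  infer_instance

instance : PreservesFiniteColimits (stalkFun p O) := by
  have : PreservesFiniteColimits (SheafOfModules.toSheaf.{u} (ModSite.ringSh O)) :=
    PreservesColimitsOfSize.preservesFiniteColimits _
  unfold stalkFun
  infer_instance

instance : (stalkFun p O).Additive := Functor.additive_of_preserves_binary_products _

theorem stalkMap_hom_apply {F G : ModSite.Mod O} (φ : F ⟶ G) (x : ModSite.stalkMod p F) :
    (ModSite.stalkMap p φ).hom x = ((stalkFun p O).map φ).hom x := rfl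

theorem main9112 (S : ShortComplex (ModSite.Mod O)) (hS : S.ShortExact) :
    Function.Injective (ModSite.stalkMap p S.f).hom ∧
      Function.Surjective (ModSite.stalkMap p S.g).hom ∧
      LinearMap.range (ModSite.stalkMap p S.f).hom = LinearMap.ker (ModSite.stalkMap p S.g).hom := by
  have hS' : (S.map (stalkFun p O)).ShortExact := hS.map_of_exact (stalkFun p O)
  have h1 : Function.Injective ((stalkFun p O).map S.f).hom :=
    (AddCommGrpCat.mono_iff_injective _).mp hS'.mono_f
  have h2 : Function.Surjective ((stalkFun p O).map S.g).hom :=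
    (AddCommGrpCat.epi_iff_surjective _).mp hS'.epi_g
  have h3 := (ShortComplex.ab_exact_iff _).mp hS'.exact
  refine ⟨h1, h2, ?_⟩
  ext y
  rw [LinearMap.mem_range, LinearMap.mem_ker]
  constructor
  · rintro ⟨x, rfl⟩
    have hz : (stalkFun p O).map S.f ≫ (stalkFun p O).map S.g = 0 := (S.map (stalkFun p O)).zero
    exact congrArg (fun (φ : (stalkFun p O).obj S.X₁ ⟶ (stalkFun p O).obj S.X₃) => φ.hom x) hz
  · intro hy
    exact h3 y hy

end Groth.Agent.Helper17.ST
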