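import Mathlib
import Groth.Prelude.Def_ModSite
import Groth.Prelude.Def_ModSite2

/-!
# Localisation of a locally ringed site is locally ringed
-/

open CategoryTheory Limits Opposite

namespace Groth.Agent.Helper17.ST

universe u

variable {C : Type u} [SmallCategory C] {J : GrothendieckTopology C}
  (O : Sheaf J CommRingCat.{u})

theorem main9105 (hO : ModSite.IsLocallyRinged J O) (U : C) :
    ModSite.IsLocallyRinged (J.over U) (O.over U) := by
  refine ⟨?_, ?_⟩
  · intro W f
    obtain ⟨S, hS, h⟩ := hO.1 W.left f
    refine ⟨(Sieve.overEquiv W).symm S, J.overEquiv_symm_mem_over W S hS, ?_⟩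
    intro V g hg
    exact h g.left ((Sieve.overEquiv_symm_iff S g).mp hg)
  · intro W h01
    have := hO.2 W.left h01
    rw [J.mem_over_iff]
    have e : Sieve.overEquiv W (⊥ : Sieve W) = ⊥ := map_bot _
    rw [e]
    exact this

end Groth.Agent.Helper17.ST
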