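import Mathlib

/-!
# The skyscraper sheaf functor of a point is exact
-/

open CategoryTheory Limits Opposite

namespace Groth.Agent.Helper17.ST

universe u

variable {C : Type u} [SmallCategory C] {J : GrothendieckTopology C}
  (p : GrothendieckTopology.Point.{u} J)

theorem epi_pi_map_ab {I : Type u} {X Y : I → AddCommGrpCat.{u}} (f : ∀ i, X i ⟶ Y i)
    [∀ i, Epi (f i)] : Epi (Limits.Pi.map f) := by
  have h1 : Epi (Discrete.natTrans (F := Discrete.functor X) (G := Discrete.functor Y)
      (fun i : Discrete I => f i.as)) := by
    have : ∀ j : Discrete I, Epi ((Discrete.natTrans (F := Discrete.functor X)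
        (G := Discrete.functor Y) (fun i : Discrete I => f i.as)).app j) := by
      intro j
      change Epi (f j.as)
      infer_instance
    exact NatTrans.epi_of_epi_app _
  have h2 : PreservesFiniteColimits (lim : (Discrete I ⥤ AddCommGrpCat.{u}) ⥤ AddCommGrpCat.{u}) :=
    inferInstance
  exact inferInstanceAs (Epi (lim.map (Discrete.natTrans (F := Discrete.functor X)
    (G := Discrete.functor Y) (fun i : Discrete I => f i.as))))

theorem epi_skyscraper_map {M N : AddCommGrpCat.{u}} (g : M ⟶ N) [Epi g] :
    Epi ((p.skyscraperSheafFunctor (A := AddCommGrpCat.{u})).map g) := by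
  apply (sheafToPresheaf J AddCommGrpCat.{u}).epi_of_epi_map
  change Epi (p.skyscraperPresheafFunctor.map g)
  have : ∀ X : Cᵒᵖ, Epi ((p.skyscraperPresheafFunctor.map g).app X) := by
    intro X
    change Epi (Limits.Pi.map (fun _ : p.fiber.obj X.unop => g))
    exact epi_pi_map_ab _
  exact NatTrans.epi_of_epi_app _

theorem main9109 :
    PreservesFiniteColimits (p.skyscraperSheafFunctor (A := AddCommGrpCat.{u})) := by
  have hl : PreservesFiniteLimits (p.skyscraperSheafFunctor (A := AddCommGrpCat.{u})) := by
    have : PreservesLimitsOfSize.{0, 0} (p.skyscraperSheafFunctor (A := AddCommGrpCat.{u})) :=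
      (p.skyscraperSheafAdjunction (A := AddCommGrpCat.{u})).rightAdjoint_preservesLimits
    exact PreservesLimitsOfSize.preservesFiniteLimits _
  have hadd : (p.skyscraperSheafFunctor (A := AddCommGrpCat.{u})).Additive :=
    Functor.additive_of_preserves_binary_products _
  rw [Functor.preservesFiniteColimits_iff_forall_exact_map_and_epi]
  intro S hS
  have := hS.epi_g
  have := hS.mono_f
  refine ⟨?_, epi_skyscraper_map p S.g⟩
  exact hS.exact.map_of_mono_of_preservesKernel _ inferInstance inferInstance

end Groth.Agent.Helper17.ST
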