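import Mathlib
import Groth.Prelude.Def_ModSite
import Groth.Prelude.Def_ModSite2
import Groth.Agent.Lib.Helper17.MT13
import Groth.Agent.Lib.Helper17.ST2

/-!
# The stalk of an extension by zero
-/

open CategoryTheory Limits Opposite DirectSum

namespace Groth.Agent.Helper17.ST

open Groth.Agent.Helper17.MT

universe u

open scoped Classical

variable {C : Type u} [SmallCategory C] {J : GrothendieckTopology C}
  (p : GrothendieckTopology.Point.{u} J) (O : Sheaf J CommRingCat.{u}) (U : C)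
  (G : PSh (O.over U))

/-- the stalk of `G` at the point over `x` -/
noncomputable abbrev Fx (x : p.fiber.obj U) : AddCommGrpCat.{u} :=
  (p.over x).presheafFiber.obj G.presheaf

/-- the coproduct of the stalks -/
noncomputable abbrev TT : AddCommGrpCat.{u} := ∐ (fun x : p.fiber.obj U => Fx p O U G x)

/-- the germ map on the summand `φ`, landing in the coproduct of the stalks -/
noncomputable def γ {V : C} (φ : V ⟶ U) (v : p.fiber.obj V) (x : p.fiber.obj U)
    (h : p.fiber.map φ v = x) : G.presheaf.obj (op (Over.mk φ)) ⟶ TT p O U G :=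
  (p.over x).toPresheafFiber (Over.mk φ) ⟨v, h⟩ G.presheaf ≫
    Sigma.ι (fun x : p.fiber.obj U => Fx p O U G x) x

theorem γ_congr {V : C} (φ : V ⟶ U) (v : p.fiber.obj V) (x x' : p.fiber.obj U)
    (h : p.fiber.map φ v = x) (h' : p.fiber.map φ v = x') :
    γ p O U G φ v x h = γ p O U G φ v x' h' := by
  have e : x = x' := h.symm.trans h'
  subst e
  rfl

theorem γ_nat {V V' : C} (g : V' ⟶ V) (φ : V ⟶ U) (v' : p.fiber.obj V') (x : p.fiber.obj U)
    (h : p.fiber.map φ (p.fiber.map g v') = x) (h' : p.fiber.map (g ≫ φ) v' = x) :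
    G.presheaf.map (Over.homMk g : Over.mk (g ≫ φ) ⟶ Over.mk φ).op ≫ γ p O U G (g ≫ φ) v' x h' =
      γ p O U G φ (p.fiber.map g v') x h := by
  unfold γ
  rw [← Category.assoc]
  congr 1
  exact (p.over x).toPresheafFiber_w (Over.homMk g : Over.mk (g ≫ φ) ⟶ Over.mk φ)
    ⟨v', h'⟩ G.presheaf

/-- forward map on sections over `V` -/
noncomputable def fwdV (V : C) (v : p.fiber.obj V) : (ePAb O U G).obj (op V) ⟶ TT p O U G :=
  AddCommGrpCat.ofHom (DirectSum.toAddMonoid
    (fun φ : V ⟶ U => (γ p O U G φ v (p.fiber.map φ v) rfl).hom))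

theorem fwdV_of (V : C) (v : p.fiber.obj V) (φ : V ⟶ U)
    (a : G.presheaf.obj (op (Over.mk φ))) :
    fwdV p O U G V v (DirectSum.of (fun φ : (V ⟶ U) => ePc O U G (op V) φ) φ a) =
      γ p O U G φ v (p.fiber.map φ v) rfl a := by
  unfold fwdV
  exact DirectSum.toAddMonoid_of _ _ _

theorem fwdV_compat {V V' : C} (g : V' ⟶ V) (v' : p.fiber.obj V') :
    (ePAb O U G).map g.op ≫ fwdV p O U G V' v' = fwdV p O U G V (p.fiber.map g v') := by
  ext : 1
  refine DirectSum.addHom_ext (fun φ a => ?_)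
  change fwdV p O U G V' v' (ePAbMap O U G g.op (DirectSum.of _ φ a)) =
    fwdV p O U G V (p.fiber.map g v') (DirectSum.of _ φ a)
  rw [ePAbMap_of]
  have e1 := fwdV_of p O U G V' v' (g ≫ φ)
    (G.presheaf.map (Over.homMk g : Over.mk (g ≫ φ) ⟶ Over.mk φ).op a)
  have e2 := fwdV_of p O U G V (p.fiber.map g v') φ a
  refine e1.trans (Eq.trans ?_ e2.symm)
  have hx : p.fiber.map (g ≫ φ) v' = p.fiber.map φ (p.fiber.map g v') := by
    rw [Functor.map_comp]
    rfl
  rw [γ_congr p O U G (g ≫ φ) v' _ _ rfl hx]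
  exact ConcreteCategory.congr_hom (γ_nat p O U G g φ v' _ rfl hx) a

/-- the forward map -/
noncomputable def fwd : p.presheafFiber.obj (ePAb O U G) ⟶ TT p O U G :=
  p.presheafFiberDesc (fun V v => fwdV p O U G V v)
    (fun _ _ g v' => fwdV_compat p O U G g v')

theorem toPresheafFiber_fwd (V : C) (v : p.fiber.obj V) :
    p.toPresheafFiber V v (ePAb O U G) ≫ fwd p O U G = fwdV p O U G V v :=
  p.toPresheafFiber_presheafFiberDesc _ _ V v

/-- backward map on the component `Y` -/
noncomputable def δ (Y : Over U) (v : p.fiber.obj Y.left) :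
    G.presheaf.obj (op Y) ⟶ p.presheafFiber.obj (ePAb O U G) :=
  (AddCommGrpCat.ofHom (DirectSum.of (fun φ : (Y.left ⟶ U) => ePc O U G (op Y.left) φ) Y.hom) :
    G.presheaf.obj (op Y) ⟶ (ePAb O U G).obj (op Y.left)) ≫
    p.toPresheafFiber Y.left v (ePAb O U G)

/-- inclusion of the summand `Y.hom` -/
noncomputable def ofY (Y : Over U) : G.presheaf.obj (op Y) ⟶ (ePAb O U G).obj (op Y.left) :=
  AddCommGrpCat.ofHom (DirectSum.of (fun φ : (Y.left ⟶ U) => ePc O U G (op Y.left) φ) Y.hom)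

theorem ofY_nat {Y Y' : Over U} (k : Y' ⟶ Y) :
    G.presheaf.map k.op ≫ ofY O U G Y' = ofY O U G Y ≫ (ePAb O U G).map k.left.op := by
  ext a
  change DirectSum.of (fun φ : (Y'.left ⟶ U) => ePc O U G (op Y'.left) φ) Y'.hom
      (G.presheaf.map k.op a) =
    ePAbMap O U G k.left.op (DirectSum.of (fun φ : (Y.left ⟶ U) => ePc O U G (op Y.left) φ) Y.hom a)
  rw [ePAbMap_of]
  exact of_map_eq O U G (W := op Y'.left) (Y := Y) (ψ := Y'.hom) (ψ' := k.left ≫ Y.hom)
    k (Over.homMk k.left) rfl a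

theorem δ_eq (Y : Over U) (v : p.fiber.obj Y.left) :
    δ p O U G Y v = ofY O U G Y ≫ p.toPresheafFiber Y.left v (ePAb O U G) := rfl

theorem δ_compat {Y Y' : Over U} (k : Y' ⟶ Y) (v' : p.fiber.obj Y'.left) :
    G.presheaf.map k.op ≫ δ p O U G Y' v' = δ p O U G Y (p.fiber.map k.left v') := by
  rw [δ_eq, δ_eq, ← p.toPresheafFiber_w k.left v' (ePAb O U G), ← Category.assoc, ofY_nat,
    Category.assoc]

/-- the backward map -/
noncomputable def bwd : TT p O U G ⟶ p.presheafFiber.obj (ePAb O U G) :=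
  Sigma.desc (fun x : p.fiber.obj U =>
    (p.over x).presheafFiberDesc (P := G.presheaf) (fun Y y => δ p O U G Y y.1)
      (fun _ _ k y' => δ_compat p O U G k y'.1))

theorem ι_bwd (x : p.fiber.obj U) (Y : Over U) (y : (p.over x).fiber.obj Y) :
    (p.over x).toPresheafFiber Y y G.presheaf ≫
      Sigma.ι (fun x : p.fiber.obj U => Fx p O U G x) x ≫ bwd p O U G = δ p O U G Y y.1 := by
  unfold bwd
  rw [Sigma.ι_desc]
  exact (p.over x).toPresheafFiber_presheafFiberDesc _ _ Y y

theorem fwd_bwd : fwd p O U G ≫ bwd p O U G = 𝟙 _ := by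
  apply p.presheafFiber_hom_ext
  intro V v
  rw [← Category.assoc, toPresheafFiber_fwd, Category.comp_id]
  ext : 1
  refine DirectSum.addHom_ext (fun φ a => ?_)
  change bwd p O U G (fwdV p O U G V v (DirectSum.of _ φ a)) =
    p.toPresheafFiber V v (ePAb O U G) (DirectSum.of _ φ a)
  rw [fwdV_of]
  have h := ι_bwd p O U G (p.fiber.map φ v) (Over.mk φ) ⟨v, rfl⟩
  exact ConcreteCategory.congr_hom h a

theorem bwd_fwd : bwd p O U G ≫ fwd p O U G = 𝟙 _ := by
  apply Sigma.hom_ext
  intro x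
  apply (p.over x).presheafFiber_hom_ext
  intro Y y
  rw [Category.comp_id, ← Category.assoc, ← Category.assoc]
  have h := ι_bwd p O U G x Y y
  rw [← Category.assoc] at h
  rw [h, δ_eq, Category.assoc, toPresheafFiber_fwd]
  ext a
  change fwdV p O U G Y.left y.1 (DirectSum.of _ Y.hom a) = _
  rw [fwdV_of]
  rw [γ_congr p O U G Y.hom y.1 _ x rfl y.2]
  rfl

/-- the stalk of the presheaf extension by zero -/
noncomputable def coreIso : p.presheafFiber.obj (ePAb O U G) ≅ TT p O U G where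
  hom := fwd p O U G
  inv := bwd p O U G
  hom_inv_id := fwd_bwd p O U G
  inv_hom_id := bwd_fwd p O U G

theorem main9113 (G : ModSite.Mod (O.over U)) :
    Nonempty (ModSite.stalkAb p ((ModSite.extZero O U).obj G) ≅
      ∐ fun x : p.fiber.obj U => ModSite.stalkAb (p.over x) G) := by
  let e1 : ModSite.stalkAb p ((ModSite.extZero O U).obj G) ≅
      ModSite.stalkAb p ((eS O U).obj G) :=
    (stalkFun p O).mapIso ((extZeroIso O U).app G)
  let P' : PSh O := (eP O U).obj ((fgt (O.over U)).obj G)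
  let e2 : ModSite.stalkAb p ((eS O U).obj G) ≅ p.presheafFiber.obj P'.presheaf :=
    (p.presheafToSheafCompSheafFiberIso AddCommGrpCat.{u}).app P'.presheaf
  let e3 : p.presheafFiber.obj P'.presheaf ≅
      ∐ fun x : p.fiber.obj U => ModSite.stalkAb (p.over x) G :=
    coreIso p O U ((fgt (O.over U)).obj G)
  exact ⟨e1 ≪≫ e2 ≪≫ e3⟩

end Groth.Agent.Helper17.ST
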