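import Mathlib

/-!
# Direct image of abelian sheaves is exact when it preserves epimorphisms of sheaves of sets
-/

open CategoryTheory Limits Opposite

namespace Groth.Agent.Helper17.ST

universe u

variable {C D : Type u} [SmallCategory C] [SmallCategory D]
  (J : GrothendieckTopology C) (K : GrothendieckTopology D) (u : D ⥤ C) [u.IsContinuous K J]

theorem epi_pushforward_ab
    [(u.sheafPushforwardContinuous (Type u) K J).PreservesEpimorphisms]
    {F G : Sheaf J AddCommGrpCat.{u}} (φ : F ⟶ G) [Epi φ] :
    Epi ((u.sheafPushforwardContinuous AddCommGrpCat.{u} K J).map φ) := by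
  have h1 : Sheaf.IsLocallySurjective φ := (Sheaf.isLocallySurjective_iff_epi' AddCommGrpCat.{u} φ).mpr inferInstance
  have h2 : Sheaf.IsLocallySurjective ((sheafCompose J (forget AddCommGrpCat.{u})).map φ) :=
    inferInstance
  have h3 : Epi ((sheafCompose J (forget AddCommGrpCat.{u})).map φ) :=
    (Sheaf.isLocallySurjective_iff_epi _).mp h2
  have h4 : Epi ((u.sheafPushforwardContinuous (Type u) K J).map
      ((sheafCompose J (forget AddCommGrpCat.{u})).map φ)) := inferInstance
  have h5 : Sheaf.IsLocallySurjective ((u.sheafPushforwardContinuous (Type u) K J).map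
      ((sheafCompose J (forget AddCommGrpCat.{u})).map φ)) :=
    (Sheaf.isLocallySurjective_iff_epi _).mpr h4
  have h6 : Sheaf.IsLocallySurjective ((u.sheafPushforwardContinuous AddCommGrpCat.{u} K J).map φ) := by
    change Presheaf.IsLocallySurjective K _
    rw [Presheaf.isLocallySurjective_iff_whisker_forget]
    exact h5
  exact (Sheaf.isLocallySurjective_iff_epi' AddCommGrpCat.{u} _).mp h6

theorem main9121 [PreservesFiniteLimits (u.sheafPullback (Type u) K J)]
    [(u.sheafPushforwardContinuous (Type u) K J).PreservesEpimorphisms] :
    PreservesFiniteColimits (u.sheafPushforwardContinuous AddCommGrpCat.{u} K J) := by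
  have hl : PreservesFiniteLimits (u.sheafPushforwardContinuous AddCommGrpCat.{u} K J) := by
    have : PreservesLimitsOfSize.{0, 0} (u.sheafPushforwardContinuous AddCommGrpCat.{u} K J) :=
      (u.sheafAdjunctionContinuous AddCommGrpCat.{u} K J).rightAdjoint_preservesLimits
    exact PreservesLimitsOfSize.preservesFiniteLimits _
  have hadd : (u.sheafPushforwardContinuous AddCommGrpCat.{u} K J).Additive :=
    Functor.additive_of_preserves_binary_products _
  rw [Functor.preservesFiniteColimits_iff_forall_exact_map_and_epi]
  intro S hS
  have := hS.epi_g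
  have := hS.mono_f
  refine ⟨?_, epi_pushforward_ab J K u S.g⟩
  exact hS.exact.map_of_mono_of_preservesKernel _ inferInstance inferInstance

end Groth.Agent.Helper17.ST
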