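import Mathlib
import Groth.Prelude.Def_RegImm
import Groth.Agent.Lib.Helper17.QT1
import Groth.Agent.Lib.Helper17.SPL1

/-!
# Presentations with as many relations as generators, along root towers
-/

set_option autoImplicit false
universe u
open Polynomial

namespace Groth.Agent.Helper17.SYN

open Groth.Agent.Helper17.QT (Tower tower_zero tower_succ)
open Groth.Agent.Helper17.SPL (Good good_of good_comp)

theorem good_of_bijective {A B : Type*} [CommRing A] [CommRing B] (φ : A →+* B)
    (h : Function.Bijective φ) : Good φ :=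
  ⟨RingHom.Finite.of_surjective φ h.2, RingHom.Flat.of_bijective h,
    RingHom.FinitePresentation.of_bijective h⟩

theorem tower_good (p : ℕ) (hp : p ≠ 0) : ∀ (n : ℕ) {A B : Type u} [CommRing A] [CommRing B]
    (φ : A →+* B), Tower p n φ → Good φ := by
  intro n
  induction n with
  | zero =>
    intro A B _ _ φ h
    rw [tower_zero] at h
    exact good_of_bijective φ h
  | succ n ih =>
    intro A B _ _ φ h
    rw [tower_succ] at h
    obtain ⟨a, ψ, hψ, h⟩ := h
    rw [← hψ]
    exact good_comp (good_of _ (monic_X_pow_sub_C a hp)) (ih ψ h)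

/-- `κ : K → R'` has a presentation with `m` generators and `m` relations. -/
def HasCI {K R' : Type u} [CommRing K] [CommRing R'] (κ : K →+* R') (m : ℕ) : Prop :=
  ∃ (φ : MvPolynomial (Fin m) K →+* R') (r : Fin m → MvPolynomial (Fin m) K),
    φ.comp MvPolynomial.C = κ ∧ Function.Surjective φ ∧ RingHom.ker φ = Ideal.span (Set.range r)

theorem hasCI_bij {K R' B' : Type u} [CommRing K] [CommRing R'] [CommRing B'] {κ : K →+* R'}
    {m : ℕ} (h : HasCI κ m) (τ : R' →+* B') (hτ : Function.Bijective τ) :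
    HasCI (τ.comp κ) m := by
  obtain ⟨φ, r, hφC, hφs, hφk⟩ := h
  refine ⟨τ.comp φ, r, ?_, ?_, ?_⟩
  · rw [RingHom.comp_assoc, hφC]
  · rw [RingHom.coe_comp]
    exact hτ.2.comp hφs
  · rw [RingHom.ker_comp_of_injective φ hτ.1, hφk]

theorem hasCI_adjoin {K R' : Type u} [CommRing K] [CommRing R'] {κ : K →+* R'} {m : ℕ}
    (h : HasCI κ m) (f : R'[X]) : HasCI ((AdjoinRoot.of f).comp κ) (m + 1) := by
  obtain ⟨φ, r, hφC, hφs, hφk⟩ := h
  obtain ⟨F, hF⟩ := Polynomial.map_surjective φ hφs f
  let e : MvPolynomial (Fin (m + 1)) K ≃+* (MvPolynomial (Fin m) K)[X] :=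
    (MvPolynomial.finSuccEquiv K m).toRingEquiv
  let Ψ : (MvPolynomial (Fin m) K)[X] →+* AdjoinRoot f :=
    (AdjoinRoot.mk f).comp (Polynomial.mapRingHom φ)
  have hmapS : Function.Surjective (Polynomial.mapRingHom φ) := by
    rw [Polynomial.coe_mapRingHom]
    exact Polynomial.map_surjective φ hφs
  have hΨs : Function.Surjective Ψ := by
    show Function.Surjective ((AdjoinRoot.mk f).comp (Polynomial.mapRingHom φ))
    rw [RingHom.coe_comp]
    exact AdjoinRoot.mk_surjective.comp hmapS
  have hΨk : RingHom.ker Ψ =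
      Ideal.span (insert F (Set.range fun i => Polynomial.C (r i))) := by
    have h1 : RingHom.ker (AdjoinRoot.mk f) = Ideal.span {f} := Ideal.mk_ker
    have h2 : Ideal.span ({f} : Set R'[X]) =
        Ideal.map (Polynomial.mapRingHom φ) (Ideal.span {F}) := by
      rw [Ideal.map_span, Set.image_singleton, Polynomial.coe_mapRingHom, hF]
    have h3 : Ideal.comap (Polynomial.mapRingHom φ) ⊥ =
        Ideal.span (Set.range fun i => Polynomial.C (r i)) := by
      rw [← RingHom.ker_eq_comap_bot, Polynomial.ker_mapRingHom, hφk, Ideal.map_span,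
        ← Set.range_comp]
      rfl
    show RingHom.ker ((AdjoinRoot.mk f).comp (Polynomial.mapRingHom φ)) = _
    rw [← RingHom.comap_ker, h1, h2, Ideal.comap_map_of_surjective _ hmapS, h3]
    exact (Ideal.span_insert F _).symm
  refine ⟨Ψ.comp e.toRingHom,
    Fin.cons (e.symm F) (fun i => e.symm (Polynomial.C (r i))), ?_, ?_, ?_⟩
  · apply RingHom.ext
    intro k
    have h1 : e (MvPolynomial.C k) = Polynomial.C (MvPolynomial.C k) :=
      (MvPolynomial.finSuccEquiv K m).commutes k
    show (AdjoinRoot.mk f) (Polynomial.map φ (e (MvPolynomial.C k))) = AdjoinRoot.of f (κ k)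
    rw [h1, Polynomial.map_C, AdjoinRoot.mk_C]
    congr 1
    exact RingHom.congr_fun hφC k
  · rw [RingHom.coe_comp]
    exact hΨs.comp e.surjective
  · rw [← RingHom.comap_ker, hΨk]
    have h4 : ∀ I : Ideal (MvPolynomial (Fin m) K)[X],
        Ideal.comap e.toRingHom I = Ideal.map e.symm I := by
      intro I
      rw [Ideal.map_symm]
      rfl
    rw [h4, Ideal.map_span]
    congr 1
    rw [Fin.range_cons, Set.image_insert_eq, ← Set.range_comp]
    rfl

theorem hasCI_tower (p : ℕ) : ∀ (n : ℕ) {K R' B' : Type u} [CommRing K] [CommRing R']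
    [CommRing B'] (κ : K →+* R') (τ : R' →+* B') (m : ℕ), HasCI κ m → Tower p n τ →
    HasCI (τ.comp κ) (m + n) := by
  intro n
  induction n with
  | zero =>
    intro K R' B' _ _ _ κ τ m h ht
    rw [tower_zero] at ht
    exact hasCI_bij h τ ht
  | succ n ih =>
    intro K R' B' _ _ _ κ τ m h ht
    rw [tower_succ] at ht
    obtain ⟨a, ψ, hψ, ht⟩ := ht
    have h1 := hasCI_adjoin h (X ^ p - C a : R'[X])
    have h2 := ih ((AdjoinRoot.of (X ^ p - C a : R'[X])).comp κ) ψ (m + 1) h1 ht
    have e1 : ψ.comp ((AdjoinRoot.of (X ^ p - C a : R'[X])).comp κ) = τ.comp κ := by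
      rw [← RingHom.comp_assoc, hψ]
    have e2 : m + 1 + n = m + (n + 1) := by omega
    rw [e1, e2] at h2
    exact h2

theorem hasCI_of_presentation {K L : Type u} [CommRing K] [CommRing L] [Algebra K L] {m : ℕ}
    (P : Algebra.Presentation K L (Fin m) (Fin m)) : HasCI (algebraMap K L) m := by
  refine ⟨(MvPolynomial.aeval P.val : MvPolynomial (Fin m) K →ₐ[K] L).toRingHom, P.relation,
    ?_, P.aeval_val_surjective, ?_⟩
  · apply RingHom.ext
    intro k
    exact MvPolynomial.aeval_C _ k
  · have h1 := P.span_range_relation_eq_ker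
    have h2 := P.toGenerators.ker_eq_ker_aeval_val
    rw [h1, h2]
    rfl

theorem isGlobalCI_of_hasCI {K S : Type u} [Field K] [CommRing S] [Algebra K S] (m : ℕ)
    (h : HasCI (algebraMap K S) m) [Module.Finite K S] : Synt.IsGlobalCI K S := by
  by_cases hS : Subsingleton S
  · exact Or.inl hS
  · right
    rw [not_subsingleton_iff_nontrivial] at hS
    obtain ⟨φ, r, hφC, hφs, hφk⟩ := h
    refine ⟨m, m, le_rfl, ?_⟩
    refine ⟨{ φ with commutes' := fun k => RingHom.congr_fun hφC k }, r, hφs, hφk, ?_⟩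
    haveI : IsArtinianRing S := IsArtinianRing.of_finite K S
    rw [Nat.sub_self, Nat.cast_zero]
    exact ringKrullDimZero_iff_ringKrullDim_eq_zero.mp inferInstance

end Groth.Agent.Helper17.SYN
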