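import Mathlib
import Groth.Agent.Lib.Helper17.QT1

/-!
# Two pushout squares of commutative rings: base change and localisation
-/

set_option autoImplicit false
universe u
open TensorProduct

namespace Groth.Agent.Helper17.SYN

open Groth.Agent.Helper17.QT (PO)

/-- base change of an algebra map along `A → K` is a pushout -/
theorem po_tensor {A K C B : Type u} [CommRing A] [CommRing K] [CommRing C] [CommRing B]
    [Algebra A K] [Algebra A C] [Algebra A B] (τ : C →ₐ[A] B)
    (φ' : K ⊗[A] C →+* K ⊗[A] B) (hφ' : ∀ k c, φ' (k ⊗ₜ c) = k ⊗ₜ τ c) :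
    PO τ.toRingHom (Algebra.TensorProduct.includeRight : C →ₐ[A] K ⊗[A] C).toRingHom φ'
      (Algebra.TensorProduct.includeRight : B →ₐ[A] K ⊗[A] B).toRingHom := by
  have hbal : ∀ a : A, (1 : K) ⊗ₜ[A] (algebraMap A C a) = (algebraMap A K a) ⊗ₜ[A] (1 : C) := by
    intro a
    rw [Algebra.algebraMap_eq_smul_one, Algebra.algebraMap_eq_smul_one, TensorProduct.tmul_smul,
      TensorProduct.smul_tmul']
  refine ⟨?_, ?_, ?_⟩
  · apply RingHom.ext
    intro c
    show φ' ((1 : K) ⊗ₜ c) = (1 : K) ⊗ₜ τ c
    exact hφ' 1 c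
  · intro T _ β γ hβγ
    letI : Algebra A T := (β.comp (algebraMap A (K ⊗[A] C))).toAlgebra
    have hβγ' : ∀ c, β ((1 : K) ⊗ₜ c) = γ (τ c) := fun c => RingHom.congr_fun hβγ c
    let f₁ : K →ₐ[A] T :=
      { β.comp (Algebra.TensorProduct.includeLeft : K →ₐ[A] K ⊗[A] C).toRingHom with
        commutes' := fun a => by
          show β ((algebraMap A K a) ⊗ₜ (1 : C)) = β (algebraMap A (K ⊗[A] C) a)
          rw [Algebra.TensorProduct.algebraMap_apply] }
    let f₂ : B →ₐ[A] T :=
      { γ with
        commutes' := fun a => by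
          show γ (algebraMap A B a) = β (algebraMap A (K ⊗[A] C) a)
          rw [← τ.commutes a, ← hβγ', hbal, Algebra.TensorProduct.algebraMap_apply] }
    have hf₁ : ∀ k, f₁ k = β (k ⊗ₜ (1 : C)) := fun k => rfl
    have hf₂ : ∀ b, f₂ b = γ b := fun b => rfl
    refine ⟨(Algebra.TensorProduct.lift f₁ f₂ (fun _ _ => Commute.all _ _)).toRingHom, ?_, ?_⟩
    · apply RingHom.ext
      intro x
      induction x using TensorProduct.induction_on with
      | zero => rw [map_zero, map_zero]
      | tmul k c =>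
        show (Algebra.TensorProduct.lift f₁ f₂ (fun _ _ => Commute.all _ _)) (φ' (k ⊗ₜ c)) =
          β (k ⊗ₜ c)
        rw [hφ', Algebra.TensorProduct.lift_tmul, hf₁, hf₂, ← hβγ', ← map_mul,
          Algebra.TensorProduct.tmul_mul_tmul, mul_one, one_mul]
      | add x y hx hy => rw [map_add, map_add, hx, hy]
    · apply RingHom.ext
      intro b
      show (Algebra.TensorProduct.lift f₁ f₂ (fun _ _ => Commute.all _ _)) ((1 : K) ⊗ₜ b) = γ b
      rw [Algebra.TensorProduct.lift_tmul, map_one, one_mul, hf₂]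
  · intro T _ δ₁ δ₂ h1 h2
    apply RingHom.ext
    intro x
    induction x using TensorProduct.induction_on with
    | zero => rw [map_zero, map_zero]
    | tmul k b =>
      have e1 : (k ⊗ₜ[A] b : K ⊗[A] B) = φ' (k ⊗ₜ 1) * (1 : K) ⊗ₜ b := by
        rw [hφ', map_one, Algebra.TensorProduct.tmul_mul_tmul, mul_one, one_mul]
      have e2 : δ₁ (φ' (k ⊗ₜ 1)) = δ₂ (φ' (k ⊗ₜ 1)) := RingHom.congr_fun h1 _
      have e3 : δ₁ ((1 : K) ⊗ₜ b) = δ₂ ((1 : K) ⊗ₜ b) := RingHom.congr_fun h2 b
      rw [e1, map_mul, map_mul, e2, e3]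
    | add x y hx hy => rw [map_add, map_add, hx, hy]

/-- localisation of a ring map at an element is a pushout -/
theorem po_away {C B : Type u} [CommRing C] [CommRing B] (φ : C →+* B) (f : C) :
    PO φ (algebraMap C (Localization.Away f)) (Localization.awayMap φ f)
      (algebraMap B (Localization.Away (φ f))) := by
  have hcomm : (Localization.awayMap φ f).comp (algebraMap C (Localization.Away f)) =
      (algebraMap B (Localization.Away (φ f))).comp φ :=
    IsLocalization.map_comp _
  refine ⟨hcomm, ?_, ?_⟩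
  · intro T _ β γ hβγ
    have hunit : IsUnit (γ (φ f)) := by
      have h1 : γ (φ f) = β (algebraMap C (Localization.Away f) f) :=
        (RingHom.congr_fun hβγ f).symm
      rw [h1]
      exact (IsLocalization.Away.algebraMap_isUnit f).map β
    refine ⟨IsLocalization.Away.lift (φ f) hunit, ?_,
      IsLocalization.Away.lift_comp (φ f) hunit⟩
    apply IsLocalization.ringHom_ext (Submonoid.powers f)
    rw [RingHom.comp_assoc, hcomm, ← RingHom.comp_assoc, IsLocalization.Away.lift_comp, hβγ]
  · intro T _ δ₁ δ₂ _ h2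
    exact IsLocalization.ringHom_ext (Submonoid.powers (φ f)) h2

end Groth.Agent.Helper17.SYN
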