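import Mathlib
import Groth.Prelude.Def_RegImm
import Groth.Agent.Lib.Helper17.SYN1
import Groth.Agent.Lib.Helper17.SYN2

/-!
# An étale map followed by a root tower is syntomic
-/

set_option autoImplicit false
universe u
open TensorProduct

namespace Groth.Agent.Helper17.SYN

open Groth.Agent.Helper17.QT (Tower tower_po)

theorem fibre_isLCI (p : ℕ) (hp : p ≠ 0) (n : ℕ) {A C B K : Type u} [CommRing A] [CommRing C]
    [CommRing B] [Field K] [Algebra A C] [Algebra C B] [Algebra A B] [IsScalarTower A C B]
    [Algebra A K] [Algebra.Etale A C] (hτ : Tower p n (algebraMap C B))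
    (q : Ideal (K ⊗[A] B)) [q.IsPrime] :
    ∃ g : K ⊗[A] B, g ∉ q ∧ Synt.IsGlobalCI K (Localization.Away g) := by
  let τA : C →ₐ[A] B := IsScalarTower.toAlgHom A C B
  let τK : K ⊗[A] C →ₐ[K] K ⊗[A] B := Algebra.TensorProduct.map (AlgHom.id K K) τA
  have hτK : ∀ k c, τK.toRingHom (k ⊗ₜ c) = k ⊗ₜ τA c := fun k c => by
    show τK (k ⊗ₜ c) = _
    rw [Algebra.TensorProduct.map_tmul]
    rfl
  have hpo1 := po_tensor (K := K) τA τK.toRingHom hτK
  have hτA : τA.toRingHom = algebraMap C B := rfl
  have ht1 : Tower p n τK.toRingHom := tower_po p n _ _ _ _ hpo1 (by rw [hτA]; exact hτ)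
  haveI : (Ideal.comap τK.toRingHom q).IsPrime := Ideal.comap_isPrime _ _
  obtain ⟨f, hfq, hstd⟩ :=
    Algebra.IsEtaleAt.exists_isStandardEtale (R := K) (Ideal.comap τK.toRingHom q)
  refine ⟨τK.toRingHom f, fun hmem => hfq hmem, ?_⟩
  haveI := hstd
  have hpo2 := po_away τK.toRingHom f
  have ht2 : Tower p n (Localization.awayMap τK.toRingHom f) := tower_po p n _ _ _ _ hpo2 ht1
  have P₀ : StandardEtalePresentation K (Localization.Away f) :=
    Algebra.IsStandardEtale.nonempty_standardEtalePresentation.some
  have hci0 : HasCI (algebraMap K (Localization.Away f)) 2 :=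
    hasCI_of_presentation P₀.toPresentation
  have hci := hasCI_tower p n (algebraMap K (Localization.Away f))
    (Localization.awayMap τK.toRingHom f) 2 hci0 ht2
  have hcomp : (Localization.awayMap τK.toRingHom f).comp (algebraMap K (Localization.Away f)) =
      algebraMap K (Localization.Away (τK.toRingHom f)) := by
    rw [IsScalarTower.algebraMap_eq K (K ⊗[A] C) (Localization.Away f), ← RingHom.comp_assoc,
      hpo2.comm, RingHom.comp_assoc,
      IsScalarTower.algebraMap_eq K (K ⊗[A] B) (Localization.Away (τK.toRingHom f))]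
    congr 1
    exact τK.comp_algebraMap
  rw [hcomp] at hci
  haveI : Algebra.Etale K (Localization.Away f) := inferInstance
  haveI : Module.Finite K (Localization.Away f) :=
    Algebra.FormallyUnramified.finite_of_free K (Localization.Away f)
  have hfin := (tower_good p hp n (Localization.awayMap τK.toRingHom f) ht2).1
  letI : Algebra (Localization.Away f) (Localization.Away (τK.toRingHom f)) :=
    (Localization.awayMap τK.toRingHom f).toAlgebra
  haveI : IsScalarTower K (Localization.Away f) (Localization.Away (τK.toRingHom f)) :=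
    IsScalarTower.of_algebraMap_eq' hcomp.symm
  haveI : Module.Finite (Localization.Away f) (Localization.Away (τK.toRingHom f)) := hfin
  haveI : Module.Finite K (Localization.Away (τK.toRingHom f)) :=
    Module.Finite.trans (Localization.Away f) (Localization.Away (τK.toRingHom f))
  exact isGlobalCI_of_hasCI (2 + n) hci

theorem isSyntomic_of_etale_tower (p : ℕ) (hp : p ≠ 0) (n : ℕ) {A C B : Type u} [CommRing A]
    [CommRing C] [CommRing B] (α : A →+* C) (τ : C →+* B) (hα : α.Etale) (hτ : Tower p n τ)
    (ψ : A →+* B) (hψ : ψ = τ.comp α) : @Synt.IsSyntomic A _ B _ ψ.toAlgebra := by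
  subst hψ
  letI iAC : Algebra A C := α.toAlgebra
  letI iCB : Algebra C B := τ.toAlgebra
  letI iAB : Algebra A B := (τ.comp α).toAlgebra
  haveI : IsScalarTower A C B := IsScalarTower.of_algebraMap_eq (fun x => rfl)
  haveI : Algebra.Etale A C := hα
  have hgood := tower_good p hp n τ hτ
  haveI : Module.Finite C B := hgood.1
  haveI : Module.Flat C B := hgood.2.1
  haveI : Algebra.FinitePresentation C B := hgood.2.2
  haveI : Algebra.FinitePresentation A B := Algebra.FinitePresentation.trans A C B
  refine ⟨Module.Flat.trans A C B, inferInstance, ?_⟩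
  intro P
  refine ⟨inferInstance, ?_⟩
  intro q
  exact fibre_isLCI p hp n (A := A) (C := C) (B := B) (K := P.asIdeal.ResidueField) hτ q.asIdeal

end Groth.Agent.Helper17.SYN
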