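import Mathlib
import Groth.Prelude.Def_W4c2gaugesfzipsQuiet
import Groth.Prelude.Def_RegImm
import Groth.Agent.Lib.Helper17.SYN3
import Groth.Agent.Lib.Helper17.QT2

/-!
# Quasi-étale morphisms are syntomic
-/

set_option autoImplicit false
universe u
open CategoryTheory CategoryTheory.Limits AlgebraicGeometry

namespace Groth.Agent.Helper17.SYN

open Groth.Agent.Helper17.QT (Tower tower_of_isRootTower isPthRoot_baseChange)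

theorem ι_mem {X : Scheme.{u}} (U : X.Opens) (w : U) : U.ι w ∈ U := by
  have h := Set.mem_range_self (f := U.ι) w
  rw [Scheme.Opens.range_ι] at h
  exact h

theorem exists_ι_eq {X : Scheme.{u}} (U : X.Opens) (x : X) (hx : x ∈ U) : ∃ w : U, U.ι w = x := by
  have h : x ∈ Set.range U.ι := by
    rw [Scheme.Opens.range_ι]
    exact hx
  exact h

theorem main15044 (p : ℕ) [Fact p.Prime] {X Y : Scheme.{u}} (f : Y ⟶ X)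
    (hf : Quiet.IsQuiet p f) : Synt.IsSyntomicMor f := by
  intro y
  have hp : p ≠ 0 := (Fact.out : p.Prime).ne_zero
  obtain ⟨V₀, Y', r, e, hyV, hr, he, hre⟩ := hf y
  haveI := he
  obtain ⟨_, ⟨Vx, hVx, rfl⟩, hxVx, -⟩ :=
    X.isBasis_affineOpens.exists_subset_of_mem_open (Set.mem_univ (f y)) isOpen_univ
  obtain ⟨W', hW'⟩ : ∃ W' : Y'.Opens, W' = e ⁻¹ᵁ Vx := ⟨_, rfl⟩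
  have hW'le : W' ≤ e ⁻¹ᵁ Vx := hW'.le
  have hr' : Quiet.IsPthRoot p (r ∣_ W') :=
    isPthRoot_baseChange p (isPullback_morphismRestrict r W').flip hr
  have hgen : ∀ z : V₀, f (V₀.ι z) = e (r z) := by
    intro z
    rw [← Scheme.Hom.comp_apply, ← Scheme.Hom.comp_apply, hre]
  obtain ⟨y₀, rfl⟩ := exists_ι_eq V₀ y hyV
  have hy₀ : y₀ ∈ r ⁻¹ᵁ W' := by
    show r y₀ ∈ W'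
    rw [hW']
    show e (r y₀) ∈ Vx
    rw [← hgen]
    exact hxVx
  obtain ⟨y₁, rfl⟩ := exists_ι_eq (r ⁻¹ᵁ W') y₀ hy₀
  obtain ⟨W'', hW''mem, hW''aff, htower⟩ := hr' ((r ∣_ W') y₁)
  obtain ⟨n, hn⟩ := htower
  -- affineness
  have hU₀aff : IsAffineOpen ((r ⁻¹ᵁ W').ι ''ᵁ ((r ∣_ W') ⁻¹ᵁ W''.1)) :=
    hW''aff.image_of_isOpenImmersion _
  have hUaff : IsAffineOpen (V₀.ι ''ᵁ ((r ⁻¹ᵁ W').ι ''ᵁ ((r ∣_ W') ⁻¹ᵁ W''.1))) :=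
    hU₀aff.image_of_isOpenImmersion _
  have hW₁aff : IsAffineOpen (W'.ι ''ᵁ W''.1) := W''.2.image_of_isOpenImmersion _
  -- inclusions
  have e₄ : W'.ι ''ᵁ W''.1 ≤ e ⁻¹ᵁ Vx := by
    rintro _ ⟨w, -, rfl⟩
    exact hW'le (ι_mem W' w)
  have e₅ : (r ⁻¹ᵁ W').ι ''ᵁ ((r ∣_ W') ⁻¹ᵁ W''.1) ≤ r ⁻¹ᵁ (W'.ι ''ᵁ W''.1) := by
    rintro _ ⟨z, hz, rfl⟩
    refine ⟨(r ∣_ W') z, hz, ?_⟩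
    show W'.ι ((r ∣_ W') z) = r ((r ⁻¹ᵁ W').ι z)
    rw [← Scheme.Hom.comp_apply, morphismRestrict_ι, Scheme.Hom.comp_apply]
  have e₂ : (r ⁻¹ᵁ W').ι ''ᵁ ((r ∣_ W') ⁻¹ᵁ W''.1) ≤
      V₀.ι ⁻¹ᵁ (V₀.ι ''ᵁ ((r ⁻¹ᵁ W').ι ''ᵁ ((r ∣_ W') ⁻¹ᵁ W''.1))) :=
    fun z hz => ⟨z, hz, rfl⟩
  have e₁ : V₀.ι ''ᵁ ((r ⁻¹ᵁ W').ι ''ᵁ ((r ∣_ W') ⁻¹ᵁ W''.1)) ≤ f ⁻¹ᵁ Vx := by
    rintro _ ⟨_, ⟨z₁, -, rfl⟩, rfl⟩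
    show f (V₀.ι ((r ⁻¹ᵁ W').ι z₁)) ∈ Vx
    rw [hgen]
    exact hW'le (ι_mem (r ⁻¹ᵁ W') z₁)
  -- ring maps
  have h1 := Scheme.Hom.appLE_comp_appLE V₀.ι f Vx
    (V₀.ι ''ᵁ ((r ⁻¹ᵁ W').ι ''ᵁ ((r ∣_ W') ⁻¹ᵁ W''.1)))
    ((r ⁻¹ᵁ W').ι ''ᵁ ((r ∣_ W') ⁻¹ᵁ W''.1)) e₁ e₂
  have h2 : V₀.ι.appLE (V₀.ι ''ᵁ ((r ⁻¹ᵁ W').ι ''ᵁ ((r ∣_ W') ⁻¹ᵁ W''.1)))
      ((r ⁻¹ᵁ W').ι ''ᵁ ((r ∣_ W') ⁻¹ᵁ W''.1)) e₂ = 𝟙 _ := by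
    rw [Scheme.Opens.ι_appLE]
    exact Y.presheaf.map_id _
  have h1' : f.appLE Vx (V₀.ι ''ᵁ ((r ⁻¹ᵁ W').ι ''ᵁ ((r ∣_ W') ⁻¹ᵁ W''.1))) e₁ =
      f.appLE Vx (V₀.ι ''ᵁ ((r ⁻¹ᵁ W').ι ''ᵁ ((r ∣_ W') ⁻¹ᵁ W''.1))) e₁ ≫
        V₀.ι.appLE (V₀.ι ''ᵁ ((r ⁻¹ᵁ W').ι ''ᵁ ((r ∣_ W') ⁻¹ᵁ W''.1)))
          ((r ⁻¹ᵁ W').ι ''ᵁ ((r ∣_ W') ⁻¹ᵁ W''.1)) e₂ := by
    rw [h2]
    exact (Category.comp_id _).symm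
  have h3 := Scheme.Hom.appLE_comp_appLE r e Vx (W'.ι ''ᵁ W''.1)
    ((r ⁻¹ᵁ W').ι ''ᵁ ((r ∣_ W') ⁻¹ᵁ W''.1)) e₄ e₅
  have key : ∀ (g₁ g₂ : (V₀ : Scheme.{u}) ⟶ X) (_ : g₁ = g₂)
      (h₁ : (r ⁻¹ᵁ W').ι ''ᵁ ((r ∣_ W') ⁻¹ᵁ W''.1) ≤ g₁ ⁻¹ᵁ Vx)
      (h₂ : (r ⁻¹ᵁ W').ι ''ᵁ ((r ∣_ W') ⁻¹ᵁ W''.1) ≤ g₂ ⁻¹ᵁ Vx),
      g₁.appLE Vx _ h₁ = g₂.appLE Vx _ h₂ := by
    intro g₁ g₂ hg h₁ h₂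
    subst hg
    rfl
  have hfac : f.appLE Vx (V₀.ι ''ᵁ ((r ⁻¹ᵁ W').ι ''ᵁ ((r ∣_ W') ⁻¹ᵁ W''.1))) e₁ =
      e.appLE Vx (W'.ι ''ᵁ W''.1) e₄ ≫
        r.appLE (W'.ι ''ᵁ W''.1) ((r ⁻¹ᵁ W').ι ''ᵁ ((r ∣_ W') ⁻¹ᵁ W''.1)) e₅ :=
    h1'.trans (h1.trans ((key _ _ hre.symm _ _).trans h3.symm))
  -- the tower
  have t1 : Tower p n ((r ∣_ W').app W''.1).hom :=
    @tower_of_isRootTower p n _ _ _ _ ((r ∣_ W').app W''.1).hom.toAlgebra hn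
  have e6 : (r ∣_ W').appLE W''.1 ((r ∣_ W') ⁻¹ᵁ W''.1) le_rfl = (r ∣_ W').app W''.1 :=
    Scheme.Hom.appLE_eq_app _
  have e7 := morphismRestrict_appLE r W' W''.1 ((r ∣_ W') ⁻¹ᵁ W''.1) le_rfl
  have e8 : (r ∣_ W').app W''.1 =
      r.appLE (W'.ι ''ᵁ W''.1) ((r ⁻¹ᵁ W').ι ''ᵁ ((r ∣_ W') ⁻¹ᵁ W''.1)) e₅ :=
    e6.symm.trans e7
  have t2 : Tower p n
      (r.appLE (W'.ι ''ᵁ W''.1) ((r ⁻¹ᵁ W').ι ''ᵁ ((r ∣_ W') ⁻¹ᵁ W''.1)) e₅).hom := by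
    rw [← e8]
    exact t1
  have hα : (e.appLE Vx (W'.ι ''ᵁ W''.1) e₄).hom.Etale :=
    HasRingHomProperty.appLE (P := @Etale) e he ⟨Vx, hVx⟩ ⟨W'.ι ''ᵁ W''.1, hW₁aff⟩ e₄
  have hψ : (f.appLE Vx (V₀.ι ''ᵁ ((r ⁻¹ᵁ W').ι ''ᵁ ((r ∣_ W') ⁻¹ᵁ W''.1))) e₁).hom =
      (r.appLE (W'.ι ''ᵁ W''.1) ((r ⁻¹ᵁ W').ι ''ᵁ ((r ∣_ W') ⁻¹ᵁ W''.1)) e₅).hom.comp
        (e.appLE Vx (W'.ι ''ᵁ W''.1) e₄).hom := by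
    exact congrArg CommRingCat.Hom.hom hfac
  refine ⟨⟨V₀.ι ''ᵁ ((r ⁻¹ᵁ W').ι ''ᵁ ((r ∣_ W') ⁻¹ᵁ W''.1)), hUaff⟩, ⟨Vx, hVx⟩, e₁,
    ⟨_, ⟨y₁, hW''mem, rfl⟩, rfl⟩, ?_⟩
  exact isSyntomic_of_etale_tower p hp n _ _ hα t2 _ hψ

end Groth.Agent.Helper17.SYN
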