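import Mathlib

/-!
Helper17: the second cotangent module `T²` of a presentation does not depend on the presentation.
-/

namespace Groth.Agent.Helper17.T2

universe u

theorem exists_equiv_of_maps {P : Type*} [CommRing P] {X X' : Type*} [AddCommGroup X] [Module P X]
    [AddCommGroup X'] [Module P X']
    (S V : Submodule P X) (S' V' : Submodule P X') (A : X' →ₗ[P] X) (B : X →ₗ[P] X')
    (hAS : ∀ x ∈ S', A x ∈ S) (hBS : ∀ x ∈ S, B x ∈ S')
    (hAV : ∀ x ∈ V', A x ∈ V) (hBV : ∀ x ∈ V, B x ∈ V')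
    (hAB : ∀ x ∈ V, A (B x) - x ∈ S) (hBA : ∀ x ∈ V', B (A x) - x ∈ S') :
    Nonempty (↥(Submodule.map S.mkQ V) ≃ₗ[P] ↥(Submodule.map S'.mkQ V')) := by
  have hAS' : S' ≤ S.comap A := fun x hx => hAS x hx
  have hBS' : S ≤ S'.comap B := fun x hx => hBS x hx
  let Abar : (X' ⧸ S') →ₗ[P] (X ⧸ S) := S'.mapQ S A hAS'
  let Bbar : (X ⧸ S) →ₗ[P] (X' ⧸ S') := S.mapQ S' B hBS'
  have hAbar : ∀ t ∈ Submodule.map S'.mkQ V', Abar t ∈ Submodule.map S.mkQ V := by
    rintro t ⟨x, hx, rfl⟩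
    exact ⟨A x, hAV x hx, rfl⟩
  have hBbar : ∀ t ∈ Submodule.map S.mkQ V, Bbar t ∈ Submodule.map S'.mkQ V' := by
    rintro t ⟨x, hx, rfl⟩
    exact ⟨B x, hBV x hx, rfl⟩
  let f : ↥(Submodule.map S.mkQ V) →ₗ[P] ↥(Submodule.map S'.mkQ V') := Bbar.restrict hBbar
  let g : ↥(Submodule.map S'.mkQ V') →ₗ[P] ↥(Submodule.map S.mkQ V) := Abar.restrict hAbar
  refine ⟨LinearEquiv.ofLinear f g ?_ ?_⟩
  · apply LinearMap.ext
    rintro ⟨t, x, hx, rfl⟩
    apply Subtype.ext
    change S'.mkQ (B (A x)) = S'.mkQ x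
    rw [← sub_eq_zero, ← map_sub, Submodule.mkQ_apply, Submodule.Quotient.mk_eq_zero]
    exact hBA x hx
  · apply LinearMap.ext
    rintro ⟨t, x, hx, rfl⟩
    apply Subtype.ext
    change S.mkQ (A (B x)) = S.mkQ x
    rw [← sub_eq_zero, ← map_sub, Submodule.mkQ_apply, Submodule.Quotient.mk_eq_zero]
    exact hAB x hx

section

variable {P : Type*} [CommRing P]

theorem exists_lift {F F' : Type*} [AddCommGroup F] [Module P F] [Module.Projective P F]
    [AddCommGroup F'] [Module P F'] (j : F →ₗ[P] P) (j' : F' →ₗ[P] P)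
    (h : LinearMap.range j ≤ LinearMap.range j') :
    ∃ α : F →ₗ[P] F', ∀ u, j' (α u) = j u := by
  let jr : F →ₗ[P] LinearMap.range j' :=
    LinearMap.codRestrict (LinearMap.range j') j (fun u => h (LinearMap.mem_range_self j u))
  obtain ⟨α, hα⟩ := Module.projective_lifting_property j'.rangeRestrict jr
    j'.surjective_rangeRestrict
  refine ⟨α, fun u => ?_⟩
  have h1 := congrArg Subtype.val (LinearMap.congr_fun hα u)
  exact h1

variable {F F' : Type*} [AddCommGroup F] [Module P F] [AddCommGroup F'] [Module P F']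

/-- the trivial (Koszul) relations -/
abbrev triv (j : F →ₗ[P] P) : Submodule P F :=
  Submodule.span P {y : F | ∃ u v : F, y = j u • v - j v • u}

theorem triv_le_comap (j : F →ₗ[P] P) (j' : F' →ₗ[P] P) (α : F →ₗ[P] F')
    (hα : ∀ u, j' (α u) = j u) : triv j ≤ (triv j').comap α := by
  apply Submodule.span_le.2
  rintro _ ⟨u, v, rfl⟩
  change α (j u • v - j v • u) ∈ triv j'
  rw [map_sub, map_smul, map_smul, ← hα u, ← hα v]
  exact Submodule.subset_span ⟨α u, α v, rfl⟩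

/-- the induced map on relation modules -/
def kerMap (j : F →ₗ[P] P) (j' : F' →ₗ[P] P) (α : F →ₗ[P] F') (hα : ∀ u, j' (α u) = j u) :
    LinearMap.ker j →ₗ[P] LinearMap.ker j' :=
  α.restrict (fun x hx => by
    rw [LinearMap.mem_ker] at hx ⊢
    rw [hα, hx])

variable (Q : Type*) [AddCommGroup Q] [Module P Q]

theorem lcomp_mem_range (j : F →ₗ[P] P) (j' : F' →ₗ[P] P) (α : F →ₗ[P] F')
    (hα : ∀ u, j' (α u) = j u) :
    ∀ φ' ∈ LinearMap.range (LinearMap.lcomp P Q (LinearMap.ker j').subtype),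
      LinearMap.lcomp P Q (kerMap j j' α hα) φ' ∈
        LinearMap.range (LinearMap.lcomp P Q (LinearMap.ker j).subtype) := by
  rintro _ ⟨ψ', rfl⟩
  exact ⟨ψ' ∘ₗ α, LinearMap.ext fun r => rfl⟩

theorem lcomp_mem_ker (j : F →ₗ[P] P) (j' : F' →ₗ[P] P) (α : F →ₗ[P] F')
    (hα : ∀ u, j' (α u) = j u) :
    ∀ φ' ∈ LinearMap.ker (LinearMap.lcomp P Q
        (Submodule.comap (LinearMap.ker j').subtype (triv j')).subtype),
      LinearMap.lcomp P Q (kerMap j j' α hα) φ' ∈ LinearMap.ker (LinearMap.lcomp P Q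
        (Submodule.comap (LinearMap.ker j).subtype (triv j)).subtype) := by
  intro φ' hφ'
  rw [LinearMap.mem_ker] at hφ' ⊢
  apply LinearMap.ext
  rintro ⟨r, hr⟩
  have h : kerMap j j' α hα r ∈ Submodule.comap (LinearMap.ker j').subtype (triv j') :=
    triv_le_comap j j' α hα hr
  exact LinearMap.congr_fun hφ' ⟨kerMap j j' α hα r, h⟩

theorem comp_sub_mem_range (j : F →ₗ[P] P) (j' : F' →ₗ[P] P) (α : F →ₗ[P] F')
    (hα : ∀ u, j' (α u) = j u) (β : F' →ₗ[P] F) (hβ : ∀ u, j (β u) = j' u)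
    (φ : LinearMap.ker j →ₗ[P] Q) :
    LinearMap.lcomp P Q (kerMap j j' α hα) (LinearMap.lcomp P Q (kerMap j' j β hβ) φ) - φ ∈
      LinearMap.range (LinearMap.lcomp P Q (LinearMap.ker j).subtype) := by
  let δ : F →ₗ[P] LinearMap.ker j :=
    LinearMap.codRestrict (LinearMap.ker j) (β ∘ₗ α - LinearMap.id) (fun u => by
      rw [LinearMap.mem_ker, LinearMap.sub_apply, LinearMap.comp_apply, LinearMap.id_apply,
        map_sub, hβ, hα, sub_self])
  refine ⟨φ ∘ₗ δ, LinearMap.ext fun r => ?_⟩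
  change φ (δ ↑r) = φ (kerMap j' j β hβ (kerMap j j' α hα r)) - φ r
  rw [← map_sub]
  exact congrArg φ (Subtype.ext rfl)

end

theorem main (P : Type u) [CommRing P] (J : Ideal P)
    (F : Type u) [AddCommGroup F] [Module P F] [Module.Free P F] [Module.Finite P F]
    (F' : Type u) [AddCommGroup F'] [Module P F'] [Module.Free P F'] [Module.Finite P F']
    (j : F →ₗ[P] P) (j' : F' →ₗ[P] P) (hj : LinearMap.range j = J) (hj' : LinearMap.range j' = J) :
    Nonempty (↥(Submodule.map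
          (LinearMap.range (LinearMap.lcomp P (P ⧸ J) (LinearMap.ker j).subtype)).mkQ
          (LinearMap.ker (LinearMap.lcomp P (P ⧸ J)
            (Submodule.comap (LinearMap.ker j).subtype
              (Submodule.span P {y : F | ∃ u v : F, y = j u • v - j v • u})).subtype))) ≃ₗ[P]
      ↥(Submodule.map
          (LinearMap.range (LinearMap.lcomp P (P ⧸ J) (LinearMap.ker j').subtype)).mkQ
          (LinearMap.ker (LinearMap.lcomp P (P ⧸ J)
            (Submodule.comap (LinearMap.ker j').subtype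
              (Submodule.span P {y : F' | ∃ u v : F', y = j' u • v - j' v • u})).subtype)))) := by
  obtain ⟨α, hα⟩ := exists_lift j j' (le_of_eq (hj.trans hj'.symm))
  obtain ⟨β, hβ⟩ := exists_lift j' j (le_of_eq (hj'.trans hj.symm))
  exact exists_equiv_of_maps _ _ _ _
    (LinearMap.lcomp P (P ⧸ J) (kerMap j j' α hα)) (LinearMap.lcomp P (P ⧸ J) (kerMap j' j β hβ))
    (lcomp_mem_range (P ⧸ J) j j' α hα) (lcomp_mem_range (P ⧸ J) j' j β hβ)
    (lcomp_mem_ker (P ⧸ J) j j' α hα) (lcomp_mem_ker (P ⧸ J) j' j β hβ)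
    (fun φ _ => comp_sub_mem_range (P ⧸ J) j j' α hα β hβ φ)
    (fun φ _ => comp_sub_mem_range (P ⧸ J) j' j β hβ α hα φ)

end Groth.Agent.Helper17.T2
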