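import Mathlib
import Groth.Agent.Lib.Helper14.SepClosedIn

/-!
# Tensor products of fields: `F₀ ⊗ K` is a field when `K₀` is perfect, `K/K₀` is algebraic and
`K₀` is algebraically closed in `F₀` (helper17)
-/

set_option autoImplicit false

namespace Groth.Agent.Helper17.TF

open scoped TensorProduct

universe u

theorem isField_tensor (K₀ F₀ K : Type u)
    [Field K₀] [PerfectField K₀] [Field F₀] [Algebra K₀ F₀] [Field K] [Algebra K₀ K]
    [Algebra.IsAlgebraic K₀ K] (h : algebraicClosure K₀ F₀ = ⊥) :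
    IsField (F₀ ⊗[K₀] K) := by
  classical
  have hK : ∀ α : F₀, IsSeparable K₀ α → α ∈ Set.range (algebraMap K₀ F₀) := by
    intro α hα
    have h1 : α ∈ algebraicClosure K₀ F₀ := mem_algebraicClosure_iff'.mpr hα.isIntegral
    rw [h] at h1
    exact IntermediateField.mem_bot.mp h1
  have hinjL : Function.Injective
      (Algebra.TensorProduct.includeLeft : F₀ →ₐ[K₀] F₀ ⊗[K₀] K) :=
    Algebra.TensorProduct.includeLeft_injective (algebraMap K₀ K).injective
  have key : ∀ x : F₀ ⊗[K₀] K, ∃ (L : IntermediateField K₀ K), FiniteDimensional K₀ L ∧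
      x ∈ (Algebra.TensorProduct.map (AlgHom.id F₀ F₀) L.val).range := by
    intro x
    obtain ⟨S, rfl⟩ := TensorProduct.exists_finset x
    refine ⟨IntermediateField.adjoin K₀ ((S.image Prod.snd : Finset K) : Set K), ?_, ?_⟩
    · exact IntermediateField.finiteDimensional_adjoin
        (fun x _ => Algebra.IsIntegral.isIntegral x)
    · refine Subalgebra.sum_mem _ (fun i hi => ?_)
      have hmem : i.2 ∈ IntermediateField.adjoin K₀ ((S.image Prod.snd : Finset K) : Set K) := by
        apply IntermediateField.subset_adjoin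
        simp only [Finset.coe_image, Set.mem_image, Finset.mem_coe]
        exact ⟨i, hi, rfl⟩
      exact ⟨i.1 ⊗ₜ ⟨i.2, hmem⟩, by simp⟩
  refine ⟨⟨0, 1, fun h01 => ?_⟩, mul_comm, fun {x} hx => ?_⟩
  · have := hinjL (a₁ := 0) (a₂ := 1) (by simp at h01)
    exact zero_ne_one this
  · obtain ⟨L, hL, y, rfl⟩ := key x
    have : IsDomain (F₀ ⊗[K₀] L) :=
      Groth.Agent.Helper14.SepClosedIn.isDomain_tensor_of_sepClosedIn hK L
    have hfield := isField_of_isIntegral_of_isField' (R := F₀) (S := F₀ ⊗[K₀] L)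
      (Field.toIsField F₀)
    have hy : y ≠ 0 := fun h0 => hx (by rw [h0, map_zero])
    obtain ⟨y', hy'⟩ := hfield.mul_inv_cancel hy
    refine ⟨Algebra.TensorProduct.map (AlgHom.id F₀ F₀) L.val y', ?_⟩
    change (Algebra.TensorProduct.map (AlgHom.id F₀ F₀) L.val) y *
      (Algebra.TensorProduct.map (AlgHom.id F₀ F₀) L.val) y' = 1
    rw [← map_mul]
    exact (congrArg _ hy').trans (map_one _)

end Groth.Agent.Helper17.TF
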