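import Mathlib
import Groth.Agent.Lib.Helper17.TR1
set_option autoImplicit false
universe u v w
open Module

namespace Groth.Agent.Helper17.TR

variable (k : Type u) [Field k] (C : Type v) [CommRing C] [Algebra k C] [IsLocalRing C]
  [Module.Finite k C]

include k in
theorem length_self_ne_top : Module.length C C ≠ ⊤ := by
  have hArt : IsArtinian C C := isArtinian_of_tower k inferInstance
  have hNoe : IsNoetherian C C := isNoetherian_of_tower k inferInstance
  exact Module.length_ne_top

theorem trace_eq_length_mul (x : C) :
    Algebra.trace k C x = ((Module.length C C).toNat : k) *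
      Algebra.trace k (IsLocalRing.ResidueField C) (IsLocalRing.residue C x) := by
  have h := trace_act_eq k C x (Module.length C C).toNat C
    (ENat.natCast_toNat (length_self_ne_top k C)).symm
  rw [← h, Algebra.trace_apply]
  rfl

theorem trace_surjective_iff :
    Function.Surjective (Algebra.trace k C) ↔
      (Algebra.IsSeparable k (IsLocalRing.ResidueField C) ∧
        ((Module.length C C).toNat : k) ≠ 0) := by
  constructor
  · intro hs
    obtain ⟨x, hx⟩ := hs 1
    rw [trace_eq_length_mul] at hx
    have h1 : ((Module.length C C).toNat : k) ≠ 0 := left_ne_zero_of_mul_eq_one hx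
    have h2 : Algebra.trace k (IsLocalRing.ResidueField C) (IsLocalRing.residue C x) ≠ 0 :=
      right_ne_zero_of_mul_eq_one hx
    refine ⟨?_, h1⟩
    by_contra hsep
    rw [Algebra.trace_eq_zero_of_not_isSeparable hsep] at h2
    exact h2 rfl
  · rintro ⟨hsep, hl⟩ a
    obtain ⟨y, hy⟩ := Algebra.trace_surjective k (IsLocalRing.ResidueField C)
      (a / ((Module.length C C).toNat : k))
    obtain ⟨x, rfl⟩ := IsLocalRing.residue_surjective y
    refine ⟨x, ?_⟩
    rw [trace_eq_length_mul, hy]
    field_simp

end Groth.Agent.Helper17.TR
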