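import Mathlib
import Groth.Agent.Lib.Helper17.TR2
set_option autoImplicit false
universe u v w
open Module nonZeroDivisors

attribute [local instance] FractionRing.liftAlgebra FractionRing.isScalarTower_liftAlgebra

namespace Groth.Agent.Helper17.TR

section different
variable (A : Type*) {B : Type*} [CommRing A] [CommRing B] [Algebra A B]
  [IsDedekindDomain A] [IsDedekindDomain B] [Module.IsTorsionFree A B] [Module.Finite A B]

set_option linter.overlappingInstances false

lemma dvd_differentIdeal_of_forall_intTrace_mem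
    [Algebra.IsSeparable (FractionRing A) (FractionRing B)]
    {p : Ideal A} [p.IsMaximal] (hp : p ≠ ⊥) (I a : Ideal B)
    (ha : p.map (algebraMap A B) = I * a)
    (h : ∀ x ∈ a, Algebra.intTrace A B x ∈ p) : I ∣ differentIdeal A B := by
  let K := FractionRing A
  let L := FractionRing B
  have hp' := (Ideal.map_eq_bot_iff_of_injective
    (FaithfulSMul.algebraMap_injective A B)).not.mpr hp
  have habot : a ≠ ⊥ := fun ha' ↦ hp' (by simpa [ha'] using ha)
  have hIbot : I ≠ ⊥ := by
    rintro rfl; apply hp'
    rwa [Ideal.bot_mul] at ha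
  have hI : ((I :)⁻¹ : FractionalIdeal B⁰ L) = a / p.map (algebraMap A B) := by
    apply inv_involutive.injective
    simp only [ha, FractionalIdeal.coeIdeal_mul, inv_div, mul_div_assoc]
    rw [div_self (by simpa), mul_one, inv_inv]
  rw [Ideal.dvd_iff_le, differentialIdeal_le_iff (K := K) (L := L) hIbot, hI,
    Submodule.map_le_iff_le_comap]
  intro x hx
  rw [Submodule.restrictScalars_mem, FractionalIdeal.mem_coe,
    FractionalIdeal.mem_div_iff_of_ne_zero (by simpa using hp')] at hx
  rw [Submodule.mem_comap, LinearMap.coe_restrictScalars, ← FractionalIdeal.coe_one,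
    ← div_self (G₀ := FractionalIdeal A⁰ K) (a := p) (by simpa using hp),
    FractionalIdeal.mem_coe, FractionalIdeal.mem_div_iff_of_ne_zero (by simpa using hp)]
  simp only [FractionalIdeal.mem_coeIdeal, forall_exists_index, and_imp,
    forall_apply_eq_imp_iff₂] at hx
  intro y hy'
  obtain ⟨y, hy, rfl : algebraMap A K _ = _⟩ := (FractionalIdeal.mem_coeIdeal _).mp hy'
  obtain ⟨z, hz, hz'⟩ := hx _ (Ideal.mem_map_of_mem _ hy)
  have : Algebra.trace K L (algebraMap B L z) ∈ (p : FractionalIdeal A⁰ K) := by
    rw [← Algebra.algebraMap_intTrace (A := A)]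
    exact ⟨Algebra.intTrace A B z, h z hz, rfl⟩
  rwa [mul_comm, ← smul_eq_mul, ← map_smul, Algebra.smul_def, mul_comm,
    ← IsScalarTower.algebraMap_apply, IsScalarTower.algebraMap_apply A B L, ← hz']

end different

section dvr
open IsLocalRing

lemma exists_eq_pow (B : Type*) [CommRing B] [IsDomain B] [IsDiscreteValuationRing B]
    (I : Ideal B) (hI : I ≠ ⊥) : ∃ n : ℕ, I = maximalIdeal B ^ n := by
  obtain ⟨ϖ, hϖ⟩ := IsDiscreteValuationRing.exists_irreducible B
  obtain ⟨n, hn⟩ := IsDiscreteValuationRing.ideal_eq_span_pow_irreducible hI hϖ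
  exact ⟨n, by rw [hn, hϖ.maximalIdeal_eq, Ideal.span_singleton_pow]⟩

variable (A B : Type u) [CommRing A] [IsDomain A] [IsDiscreteValuationRing A]
    [CommRing B] [IsDomain B] [IsDiscreteValuationRing B] [Algebra A B] [Module.Finite A B]
    [Module.IsTorsionFree A B] [IsLocalHom (algebraMap A B)]

lemma map_eq_pow_ramificationIdx :
    (maximalIdeal A).map (algebraMap A B) =
      maximalIdeal B ^ (Ideal.ramificationIdx (maximalIdeal B) A) := by
  have hp : maximalIdeal A ≠ ⊥ := IsDiscreteValuationRing.not_a_field A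
  have hpB : (maximalIdeal A).map (algebraMap A B) ≠ ⊥ := Ideal.map_ne_bot_of_ne_bot hp
  obtain ⟨n, hn⟩ := exists_eq_pow B _ hpB
  have hP0 : maximalIdeal B ≠ ⊥ := IsDiscreteValuationRing.not_a_field B
  have hirr : Irreducible (maximalIdeal B) := (Ideal.prime_of_isPrime hP0 inferInstance).irreducible
  have h := Ideal.IsDedekindDomain.ramificationIdx_eq_normalizedFactors_count (maximalIdeal A)
    (maximalIdeal B) hpB
  rw [hn, UniqueFactorizationMonoid.normalizedFactors_pow,
    UniqueFactorizationMonoid.normalizedFactors_irreducible hirr, normalize_eq,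
    Multiset.count_nsmul, Multiset.count_singleton_self, mul_one] at h
  rw [h]
  exact hn

lemma surjective_of_ne_zero {k M : Type*} [Field k] [AddCommGroup M] [Module k M]
    (f : M →ₗ[k] k) {c : M} (hc : f c ≠ 0) : Function.Surjective f := by
  intro a
  refine ⟨(a / f c) • c, ?_⟩
  rw [map_smul, smul_eq_mul, div_mul_cancel₀ _ hc]

/-- the algebra structure of `B ⧸ m_A B` over the residue field of `A` -/
@[instance_reducible] noncomputable def algQuot :
    Algebra (ResidueField A) (B ⧸ (maximalIdeal A).map (algebraMap A B)) :=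
  inferInstanceAs (Algebra (A ⧸ maximalIdeal A) (B ⧸ (maximalIdeal A).map (algebraMap A B)))

set_option linter.overlappingInstances false in
theorem main [Algebra.IsSeparable (FractionRing A) (FractionRing B)] :
    differentIdeal A B = maximalIdeal B ^ (Ideal.ramificationIdx (maximalIdeal B) A - 1) ↔
      (Algebra.IsSeparable (ResidueField A) (ResidueField B) ∧
        ((Ideal.ramificationIdx (maximalIdeal B) A : ℕ) : ResidueField A) ≠ 0) := by
  have hmap := map_eq_pow_ramificationIdx A B
  have he1 : 0 < Ideal.ramificationIdx (maximalIdeal B) A :=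
    Ideal.ramificationIdx_pos (maximalIdeal B) A
  generalize Ideal.ramificationIdx (maximalIdeal B) A = e at hmap he1 ⊢
  have hp : maximalIdeal A ≠ ⊥ := IsDiscreteValuationRing.not_a_field A
  have hP0 : maximalIdeal B ≠ ⊥ := IsDiscreteValuationRing.not_a_field B
  have hP1 : maximalIdeal B ≠ ⊤ := Ideal.IsPrime.ne_top'
  have hanti : StrictAnti (fun n : ℕ => maximalIdeal B ^ n) :=
    Ideal.pow_right_strictAnti (maximalIdeal B) hP0 hP1
  have hdvd : maximalIdeal B ^ (e - 1) ∣ differentIdeal A B :=
    pow_sub_one_dvd_differentIdeal A (maximalIdeal B) e hp (by rw [hmap])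
  have step2 : differentIdeal A B = maximalIdeal B ^ (e - 1) ↔
      ¬ (maximalIdeal B ^ e ∣ differentIdeal A B) := by
    obtain ⟨d, hd⟩ := exists_eq_pow B (differentIdeal A B) differentIdeal_ne_bot
    rw [hd, Ideal.dvd_iff_le] at hdvd
    have h1 : e - 1 ≤ d := hanti.le_iff_ge.mp hdvd
    rw [hd, Ideal.dvd_iff_le]
    constructor
    · intro h hle
      have h2 : d = e - 1 := hanti.injective h
      have h3 : e ≤ d := hanti.le_iff_ge.mp hle
      omega
    · intro h
      have h3 : ¬ e ≤ d := fun h' => h (hanti.le_iff_ge.mpr h')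
      have h4 : d = e - 1 := by omega
      rw [h4]
  have step3 : (maximalIdeal B ^ e ∣ differentIdeal A B) ↔
      ∀ x : B, Algebra.intTrace A B x ∈ maximalIdeal A := by
    constructor
    · intro h x
      by_contra hx
      exact not_dvd_differentIdeal_of_intTrace_not_mem A (maximalIdeal B ^ e) ⊤
        (by rw [Ideal.mul_top, hmap]) x trivial hx h
    · intro h
      exact dvd_differentIdeal_of_forall_intTrace_mem A hp _ ⊤
        (by rw [Ideal.mul_top, hmap]) (fun x _ => h x)
  rw [step2, step3]
  -- the quotient algebra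
  let _ := algQuot A B
  have : IsScalarTower A (ResidueField A) (B ⧸ ((maximalIdeal A).map (algebraMap A B))) :=
    inferInstanceAs (IsScalarTower A (A ⧸ maximalIdeal A) (B ⧸ ((maximalIdeal A).map (algebraMap A B))))
  have : Module.Finite (ResidueField A) (B ⧸ ((maximalIdeal A).map (algebraMap A B))) :=
    Module.Finite.of_restrictScalars_finite A _ _
  have hpBtop : ((maximalIdeal A).map (algebraMap A B)) ≠ ⊤ := by
    rw [hmap]
    intro h
    have h0 : maximalIdeal B ^ 0 = ⊤ := by rw [pow_zero, Ideal.one_eq_top]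
    have := hanti.injective (h.trans h0.symm)
    omega
  have : Nontrivial (B ⧸ ((maximalIdeal A).map (algebraMap A B))) := Ideal.Quotient.nontrivial_iff.mpr hpBtop
  have : IsLocalRing (B ⧸ ((maximalIdeal A).map (algebraMap A B))) :=
    .of_surjective' (Ideal.Quotient.mk ((maximalIdeal A).map (algebraMap A B))) Ideal.Quotient.mk_surjective
  have hloc : IsLocalHom (Ideal.Quotient.mk ((maximalIdeal A).map (algebraMap A B))) :=
    IsLocalHom.of_surjective (Ideal.Quotient.mk ((maximalIdeal A).map (algebraMap A B))) Ideal.Quotient.mk_surjective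
  have htr : ∀ x : B, Algebra.trace (ResidueField A) (B ⧸ ((maximalIdeal A).map (algebraMap A B))) (Ideal.Quotient.mk ((maximalIdeal A).map (algebraMap A B)) x) =
      Ideal.Quotient.mk (maximalIdeal A) (Algebra.intTrace A B x) :=
    fun x => Algebra.trace_quotient_eq_of_isDedekindDomain B (maximalIdeal A) x
  -- length
  have hlen : (Module.length (B ⧸ ((maximalIdeal A).map (algebraMap A B))) (B ⧸ ((maximalIdeal A).map (algebraMap A B)))).toNat = e := by
    rw [← Module.length_eq_of_surjective (S := B) (R := B ⧸ ((maximalIdeal A).map (algebraMap A B))) Ideal.Quotient.mk_surjective,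
      (Submodule.quotEquivOfEq ((maximalIdeal A).map (algebraMap A B)) (maximalIdeal B ^ e) hmap).length_eq,
      IsDiscreteValuationRing.length_quotient_pow_maximalIdeal, ENat.toNat_natCast]
  -- residue fields
  let φ : ResidueField B →+* ResidueField (B ⧸ ((maximalIdeal A).map (algebraMap A B))) := ResidueField.map (Ideal.Quotient.mk ((maximalIdeal A).map (algebraMap A B)))
  have hφ : Function.Bijective φ := by
    refine ⟨φ.injective, fun y => ?_⟩
    obtain ⟨c, rfl⟩ := residue_surjective y
    obtain ⟨b, rfl⟩ := Ideal.Quotient.mk_surjective c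
    exact ⟨residue B b, ResidueField.map_residue _ b⟩
  let _ : Algebra (ResidueField A)
      (ResidueField (B ⧸ ((maximalIdeal A).map (algebraMap A B)))) :=
    ResidueField.algebra (B ⧸ ((maximalIdeal A).map (algebraMap A B)))
  let ψ : ResidueField B →ₐ[ResidueField A] ResidueField (B ⧸ ((maximalIdeal A).map (algebraMap A B))) :=
    { φ with
      commutes' := fun r => by
        obtain ⟨a, rfl⟩ := residue_surjective r
        rfl }
  let Ψ : ResidueField B ≃ₐ[ResidueField A] ResidueField (B ⧸ ((maximalIdeal A).map (algebraMap A B))) := AlgEquiv.ofBijective ψ hφ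
  rw [AlgEquiv.Algebra.isSeparable_iff Ψ, ← hlen]
  refine Iff.trans ?_ (trace_surjective_iff (ResidueField A)
    (B ⧸ ((maximalIdeal A).map (algebraMap A B))))
  constructor
  · intro h
    have : ∃ x : B, Algebra.intTrace A B x ∉ maximalIdeal A := by
      by_contra hcon
      exact h (fun x => by
        by_contra hx
        exact hcon ⟨x, hx⟩)
    obtain ⟨x, hx⟩ := this
    refine surjective_of_ne_zero _ (c := Ideal.Quotient.mk ((maximalIdeal A).map (algebraMap A B)) x) ?_
    rw [htr x]
    intro h0
    exact hx (Ideal.Quotient.eq_zero_iff_mem.mp h0)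
  · intro hs hall
    obtain ⟨c, hc⟩ := hs 1
    obtain ⟨x, rfl⟩ := Ideal.Quotient.mk_surjective c
    rw [htr x, Ideal.Quotient.eq_zero_iff_mem.mpr (hall x)] at hc
    exact (zero_ne_one (α := ResidueField A)) hc

end dvr

end Groth.Agent.Helper17.TR
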