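import Mathlib

/-!
# Domains in which every nonzero ideal is a product of primes are Dedekind (Matusita)
-/

set_option autoImplicit false

universe u

open scoped nonZeroDivisors

namespace Groth.Agent.Helper17.UF

section Generic

variable {D : Type*} [CommRing D] [IsDomain D]

/-- the ideal is invertible as a fractional ideal -/
def Inv (I : Ideal D) : Prop := IsUnit (I : FractionalIdeal D⁰ (FractionRing D))

lemma Inv.cancel {I J J' : Ideal D} (hI : Inv I) (h : I * J = I * J') : J = J' := by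
  apply FractionalIdeal.coeIdeal_injective (K := FractionRing D)
  have h1 := congrArg (fun X : Ideal D => (X : FractionalIdeal D⁰ (FractionRing D))) h
  simp only [FractionalIdeal.coeIdeal_mul] at h1
  exact hI.mul_left_cancel h1

omit [IsDomain D] in
lemma Inv.of_mul_left {I J : Ideal D} (h : Inv (I * J)) : Inv I := by
  unfold Inv at h ⊢
  rw [FractionalIdeal.coeIdeal_mul] at h
  exact isUnit_of_mul_isUnit_left h

omit [IsDomain D] in
lemma Inv.mul {I J : Ideal D} (hI : Inv I) (hJ : Inv J) : Inv (I * J) := by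
  unfold Inv at hI hJ ⊢
  rw [FractionalIdeal.coeIdeal_mul]
  exact hI.mul hJ

omit [IsDomain D] in
lemma inv_top : Inv (⊤ : Ideal D) := by
  unfold Inv
  rw [FractionalIdeal.coeIdeal_top]
  exact isUnit_one

lemma Inv.ne_bot {I : Ideal D} (hI : Inv I) : I ≠ ⊥ := by
  rintro rfl
  unfold Inv at hI
  rw [FractionalIdeal.coeIdeal_bot] at hI
  exact not_isUnit_zero hI

lemma isUnit_spanSingleton {x : FractionRing D} (hx : x ≠ 0) :
    IsUnit (FractionalIdeal.spanSingleton D⁰ x) := by
  refine IsUnit.of_mul_eq_one (FractionalIdeal.spanSingleton D⁰ x⁻¹) ?_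
  rw [FractionalIdeal.spanSingleton_mul_spanSingleton, mul_inv_cancel₀ hx,
    FractionalIdeal.spanSingleton_one]

lemma inv_span_singleton {a : D} (ha : a ≠ 0) : Inv (Ideal.span {a} : Ideal D) := by
  unfold Inv
  rw [FractionalIdeal.coeIdeal_span_singleton]
  apply isUnit_spanSingleton
  rwa [Ne, IsFractionRing.to_map_eq_zero_iff]

omit [IsDomain D] in
lemma inv_of_mem_of_inv_prod {s : Multiset (Ideal D)} (h : Inv s.prod) {p : Ideal D}
    (hp : p ∈ s) : Inv p := by
  obtain ⟨s', rfl⟩ := Multiset.exists_cons_of_mem hp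
  rw [Multiset.prod_cons] at h
  exact h.of_mul_left

omit [IsDomain D] in
lemma inv_prod {s : Multiset (Ideal D)} (h : ∀ p ∈ s, Inv p) : Inv s.prod := by
  induction s using Multiset.induction_on with
  | empty => rw [Multiset.prod_zero, Ideal.one_eq_top]; exact inv_top
  | cons a s ih =>
    rw [Multiset.prod_cons]
    exact (h a (Multiset.mem_cons_self _ _)).mul (ih (fun p hp => h p (Multiset.mem_cons_of_mem hp)))

omit [IsDomain D] in
lemma prod_le_of_mem {s : Multiset (Ideal D)} {p : Ideal D} (hp : p ∈ s) : s.prod ≤ p :=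
  Ideal.multiset_prod_le_inf.trans (Multiset.inf_le hp)

/-- Factorizations into invertible primes are unique. -/
theorem multiset_eq_of_prod_eq :
    ∀ (n : ℕ) (s t : Multiset (Ideal D)), s.card = n →
      (∀ p ∈ s, p.IsPrime ∧ Inv p) → (∀ p ∈ t, p.IsPrime ∧ Inv p) →
      s.prod = t.prod → s = t := by
  intro n
  induction n with
  | zero =>
    intro s t hs _ ht h
    rw [Multiset.card_eq_zero] at hs
    subst hs
    rw [Multiset.prod_zero] at h
    by_contra hne
    obtain ⟨q, hq⟩ := Multiset.exists_mem_of_ne_zero (Ne.symm hne)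
    have h1 : t.prod ≤ q := prod_le_of_mem hq
    rw [← h, Ideal.one_eq_top] at h1
    exact (ht q hq).1.ne_top (top_le_iff.1 h1)
  | succ n ih =>
    intro s t hs hS hT h
    classical
    have hne : s.toFinset.Nonempty := by
      rw [Multiset.toFinset_nonempty]
      intro h0
      rw [h0] at hs
      simp at hs
    obtain ⟨p, hp⟩ := s.toFinset.exists_minimal hne
    have hps : p ∈ s := Multiset.mem_toFinset.1 hp.1
    have hpP := (hS p hps).1
    have h1 : t.prod ≤ p := by rw [← h]; exact prod_le_of_mem hps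
    obtain ⟨q, hqt, hqp⟩ := hpP.multiset_prod_le.1 h1
    have hqP := (hT q hqt).1
    have h2 : s.prod ≤ q := by rw [h]; exact prod_le_of_mem hqt
    obtain ⟨p', hp's, hp'q⟩ := hqP.multiset_prod_le.1 h2
    have h3 : p ≤ p' := hp.2 (Multiset.mem_toFinset.2 hp's) (hp'q.trans hqp)
    have hqp' : q = p := le_antisymm hqp (h3.trans hp'q)
    rw [hqp'] at hqt
    obtain ⟨s', rfl⟩ := Multiset.exists_cons_of_mem hps
    obtain ⟨t', rfl⟩ := Multiset.exists_cons_of_mem hqt
    rw [Multiset.prod_cons, Multiset.prod_cons] at h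
    have hu := (hS p (Multiset.mem_cons_self _ _)).2
    have h4 : s'.prod = t'.prod := hu.cancel h
    have h5 := ih s' t' (by simpa using hs) (fun x hx => hS x (Multiset.mem_cons_of_mem hx))
      (fun x hx => hT x (Multiset.mem_cons_of_mem hx)) h4
    rw [h5]

end Generic

section Main

variable {R : Type u} [CommRing R] [IsDomain R]

/-- An invertible prime is maximal, provided every nonzero ideal is a product of primes. -/
theorem isMaximal_of_inv
    (hfac : ∀ I : Ideal R, I ≠ ⊥ →
      ∃ s : Multiset (Ideal R), (∀ p ∈ s, p.IsPrime ∧ p ≠ ⊥) ∧ s.prod = I)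
    (P : Ideal R) [hP : P.IsPrime] (hPu : Inv P) : P.IsMaximal := by
  have hPne : P ≠ ⊥ := hPu.ne_bot
  have key : ∀ a : R, a ∉ P → P ⊔ Ideal.span {a} = ⊤ := by
    intro a ha
    have hπ : Function.Surjective (Ideal.Quotient.mk P) := Ideal.Quotient.mk_surjective
    have hker : RingHom.ker (Ideal.Quotient.mk P) = P := Ideal.mk_ker
    have ha' : Ideal.Quotient.mk P a ≠ 0 := fun h => ha (Ideal.Quotient.eq_zero_iff_mem.1 h)
    have hI₁ : P ⊔ Ideal.span {a} ≠ ⊥ := fun h => hPne (le_bot_iff.1 (h ▸ le_sup_left))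
    have hI₂ : P ⊔ Ideal.span {a ^ 2} ≠ ⊥ := fun h => hPne (le_bot_iff.1 (h ▸ le_sup_left))
    obtain ⟨s₁, hs₁, hs₁'⟩ := hfac _ hI₁
    obtain ⟨s₂, hs₂, hs₂'⟩ := hfac _ hI₂
    have hle₁ : ∀ p ∈ s₁, P ≤ p := fun p hp =>
      le_sup_left.trans (hs₁'.symm.le.trans (prod_le_of_mem hp))
    have hle₂ : ∀ p ∈ s₂, P ≤ p := fun p hp =>
      le_sup_left.trans (hs₂'.symm.le.trans (prod_le_of_mem hp))
    have hmap : ∀ s : Multiset (Ideal R),
        (s.map (Ideal.map (Ideal.Quotient.mk P))).prod = Ideal.map (Ideal.Quotient.mk P) s.prod :=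
      fun s => (map_multiset_prod (Ideal.mapHom (Ideal.Quotient.mk P)) s).symm
    have hm₁ : (s₁.map (Ideal.map (Ideal.Quotient.mk P))).prod =
        Ideal.span {Ideal.Quotient.mk P a} := by
      rw [hmap, hs₁', Ideal.map_sup, Ideal.map_quotient_self, Ideal.map_span,
        Set.image_singleton, bot_sup_eq]
    have hm₂ : (s₂.map (Ideal.map (Ideal.Quotient.mk P))).prod =
        Ideal.span {Ideal.Quotient.mk P a ^ 2} := by
      rw [hmap, hs₂', Ideal.map_sup, Ideal.map_quotient_self, Ideal.map_span,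
        Set.image_singleton, bot_sup_eq, map_pow]
    have hm : ((s₁ + s₁).map (Ideal.map (Ideal.Quotient.mk P))).prod =
        (s₂.map (Ideal.map (Ideal.Quotient.mk P))).prod := by
      rw [Multiset.map_add, Multiset.prod_add, hm₁, hm₂, Ideal.span_singleton_mul_span_singleton,
        pow_two]
    have hprime : ∀ p : Ideal R, p.IsPrime → P ≤ p →
        (Ideal.map (Ideal.Quotient.mk P) p).IsPrime := by
      intro p hp hle
      exact Ideal.map_isPrime_of_surjective hπ (hker.le.trans hle)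
    have hu₁ : ∀ q ∈ (s₁ + s₁).map (Ideal.map (Ideal.Quotient.mk P)), q.IsPrime ∧ Inv q := by
      intro q hq
      obtain ⟨p, hp, rfl⟩ := Multiset.mem_map.1 hq
      have hp' : p ∈ s₁ := by
        rcases Multiset.mem_add.1 hp with h | h <;> exact h
      refine ⟨hprime p (hs₁ p hp').1 (hle₁ p hp'), ?_⟩
      have h1 : Inv (s₁.map (Ideal.map (Ideal.Quotient.mk P))).prod := by
        rw [hm₁]; exact inv_span_singleton ha'
      exact inv_of_mem_of_inv_prod h1 (Multiset.mem_map_of_mem _ hp')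
    have hu₂ : ∀ q ∈ s₂.map (Ideal.map (Ideal.Quotient.mk P)), q.IsPrime ∧ Inv q := by
      intro q hq
      obtain ⟨p, hp, rfl⟩ := Multiset.mem_map.1 hq
      refine ⟨hprime p (hs₂ p hp).1 (hle₂ p hp), ?_⟩
      have h1 : Inv (s₂.map (Ideal.map (Ideal.Quotient.mk P))).prod := by
        rw [hm₂]; exact inv_span_singleton (pow_ne_zero 2 ha')
      exact inv_of_mem_of_inv_prod h1 (Multiset.mem_map_of_mem _ hp)
    have heq := multiset_eq_of_prod_eq _ _ _ rfl hu₁ hu₂ hm
    have hcm : ∀ p : Ideal R, P ≤ p →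
        Ideal.comap (Ideal.Quotient.mk P) (Ideal.map (Ideal.Quotient.mk P) p) = p := by
      intro p hle
      rw [Ideal.comap_map_of_surjective _ hπ, ← RingHom.ker_eq_comap_bot, hker]
      exact sup_eq_left.2 hle
    have hback : ∀ s : Multiset (Ideal R), (∀ p ∈ s, P ≤ p) →
        (s.map (Ideal.map (Ideal.Quotient.mk P))).map (Ideal.comap (Ideal.Quotient.mk P)) = s := by
      intro s hs
      rw [Multiset.map_map]
      conv_rhs => rw [← Multiset.map_id s]
      exact Multiset.map_congr rfl (fun p hp => hcm p (hs p hp))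
    have hs12 : s₁ + s₁ = s₂ := by
      have h1 := congrArg (Multiset.map (Ideal.comap (Ideal.Quotient.mk P))) heq
      rwa [hback _ (fun p hp => by
        rcases Multiset.mem_add.1 hp with h | h <;> exact hle₁ p h), hback _ hle₂] at h1
    have hsq : P ⊔ Ideal.span {a ^ 2} = (P ⊔ Ideal.span {a}) * (P ⊔ Ideal.span {a}) := by
      rw [← hs₂', ← hs12, Multiset.prod_add, hs₁']
    have hP1 : P ≤ P * (P ⊔ Ideal.span {a}) := by
      intro x hx
      have hx2 : x ∈ (P ⊔ Ideal.span {a}) * (P ⊔ Ideal.span {a}) := by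
        rw [← hsq]; exact Ideal.mem_sup_left hx
      have hx3 : x ∈ Ideal.span {a} ⊔ P * P := by
        refine (Ideal.mul_le.2 ?_) hx2
        intro r hr s hs
        rw [sup_comm] at hr hs
        obtain ⟨c, b, hb, rfl⟩ := Ideal.mem_span_singleton_sup.1 hr
        obtain ⟨c', b', hb', rfl⟩ := Ideal.mem_span_singleton_sup.1 hs
        rw [Ideal.mem_span_singleton_sup]
        exact ⟨c * c' * a + c * b' + c' * b, b * b', Ideal.mul_mem_mul hb hb', by ring⟩
      obtain ⟨z, y, hy, rfl⟩ := Ideal.mem_span_singleton_sup.1 hx3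
      have hyP : y ∈ P := Ideal.mul_le_right hy
      have hza : z * a ∈ P := by
        have h1 := P.sub_mem hx hyP
        simpa using h1
      have hz : z ∈ P := (hP.mem_or_mem hza).resolve_right ha
      rw [Ideal.mul_sup]
      exact Ideal.add_mem _
        (Ideal.mem_sup_right (Ideal.mul_mem_mul hz (Ideal.mem_span_singleton_self a)))
        (Ideal.mem_sup_left hy)
    have hP2 : P * (P ⊔ Ideal.span {a}) = P * ⊤ := by
      rw [Ideal.mul_top]; exact le_antisymm Ideal.mul_le_left hP1
    exact hPu.cancel hP2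
  refine Ideal.isMaximal_iff.2 ⟨(Ideal.ne_top_iff_one P).1 hP.ne_top, fun J x hIJ hxI hxJ => ?_⟩
  have h1 := key x hxI
  have h2 : (⊤ : Ideal R) ≤ J := by
    rw [← h1]
    exact sup_le hIJ ((Ideal.span_singleton_le_iff_mem _).2 hxJ)
  exact h2 Submodule.mem_top

theorem main6369 (R : Type u) [CommRing R] [IsDomain R]
    (h : ∀ I : Ideal R, I ≠ ⊥ →
      ∃! s : Multiset (Ideal R), (∀ p ∈ s, p.IsPrime ∧ p ≠ ⊥) ∧ s.prod = I) :
    IsDedekindDomain R := by
  have hfac : ∀ I : Ideal R, I ≠ ⊥ →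
      ∃ s : Multiset (Ideal R), (∀ p ∈ s, p.IsPrime ∧ p ≠ ⊥) ∧ s.prod = I :=
    fun I hI => (h I hI).exists
  have hprime : ∀ P : Ideal R, P.IsPrime → P ≠ ⊥ → Inv P := by
    intro P hP hPne
    obtain ⟨a, haP, ha0⟩ := Submodule.exists_mem_ne_zero_of_ne_bot hPne
    have hne : Ideal.span {a} ≠ ⊥ := by rwa [Ne, Ideal.span_singleton_eq_bot]
    obtain ⟨s, hs, hs'⟩ := hfac _ hne
    have hu : Inv s.prod := by rw [hs']; exact inv_span_singleton ha0
    have hle : s.prod ≤ P := by rw [hs']; exact (Ideal.span_singleton_le_iff_mem _).2 haP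
    obtain ⟨p, hp, hpP⟩ := hP.multiset_prod_le.1 hle
    have hpu := inv_of_mem_of_inv_prod hu hp
    have := (hs p hp).1
    have hmax := isMaximal_of_inv hfac p hpu
    have h1 : p = P := hmax.eq_of_le hP.ne_top hpP
    rw [← h1]; exact hpu
  have hall : ∀ I : Ideal R, I ≠ ⊥ → Inv I := by
    intro I hI
    obtain ⟨s, hs, hs'⟩ := hfac I hI
    rw [← hs']
    exact inv_prod (fun p hp => hprime p (hs p hp).1 (hs p hp).2)
  rw [isDedekindDomain_iff_mul_inv_cancel (K := FractionRing R)]
  intro J hJ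
  rw [FractionalIdeal.mul_inv_cancel_iff_isUnit]
  obtain ⟨a, aI, ha, rfl⟩ := FractionalIdeal.exists_eq_spanSingleton_mul J
  have haI : aI ≠ ⊥ := by
    rintro rfl
    apply hJ
    simp
  refine IsUnit.mul ?_ (hall aI haI)
  apply isUnit_spanSingleton
  apply inv_ne_zero
  rwa [Ne, IsFractionRing.to_map_eq_zero_iff]

end Main

end Groth.Agent.Helper17.UF
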