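import Mathlib
import Groth.Agent.Lib.Helper17.AR4
import Groth.Agent.Lib.Helper17.AR6

/-!
# Complete valuation rings of height one: the fraction field as a complete normed field (helper17)
-/

set_option autoImplicit false

universe u

namespace Groth.Agent.Helper17.VR

open Groth.Agent.Helper17.AR

section Arch

variable (R : Type u) [CommRing R] [IsDomain R] [ValuationRing R] [Ring.KrullDimLE 1 R]
  (K : Type u) [Field K] [Algebra R K] [IsFractionRing R K]

/-- `v x ≤ 1` iff `x` comes from `R` -/
theorem val_le_one_iff (x : K) :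
    ValuationRing.valuation R K x ≤ 1 ↔ ∃ a : R, algebraMap R K a = x :=
  ValuationRing.mem_integer_iff R K x

theorem mulArchimedean_valueGroup : MulArchimedean (ValuationRing.ValueGroup R K) := by
  constructor
  intro x y hy
  induction x using Quotient.inductionOn' with | _ a => ?_
  induction y using Quotient.inductionOn' with | _ b => ?_
  change 1 < ValuationRing.valuation R K b at hy
  change ∃ n : ℕ, ValuationRing.valuation R K a ≤ (ValuationRing.valuation R K b) ^ n
  set v := ValuationRing.valuation R K with hv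
  have hb0 : b ≠ 0 := by
    intro h
    rw [h, map_zero] at hy
    exact absurd hy (by simp)
  -- `b⁻¹` comes from a nonunit `c`
  have hbinv : v b⁻¹ < 1 := by
    rw [map_inv₀]
    exact inv_lt_one_of_one_lt₀ hy
  obtain ⟨c, hc⟩ := (val_le_one_iff R K b⁻¹).mp hbinv.le
  have hc0 : c ≠ 0 := by
    intro h
    rw [h, map_zero] at hc
    exact inv_ne_zero hb0 hc.symm
  have hcu : ¬ IsUnit c := by
    intro hu
    obtain ⟨d, hd⟩ := hu.exists_left_inv
    have : b = algebraMap R K d := by
      have h1 : algebraMap R K d * algebraMap R K c = 1 := by rw [← map_mul, hd, map_one]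
      rw [hc] at h1
      field_simp at h1
      exact h1.symm
    have h2 : v b ≤ 1 := (val_le_one_iff R K b).mpr ⟨d, this.symm⟩
    exact absurd hy (not_lt.mpr h2)
  obtain ⟨p, q, hq, rfl⟩ := IsFractionRing.div_surjective (A := R) a
  have hq0 : q ≠ 0 := nonZeroDivisors.ne_zero hq
  obtain ⟨e, s, hes⟩ := exists_pow_eq_mul R q c hq0 hcu
  refine ⟨e, ?_⟩
  have hqK : algebraMap R K q ≠ 0 := IsFractionRing.to_map_ne_zero_of_mem_nonZeroDivisors hq
  have hkey : algebraMap R K p / algebraMap R K q * (b⁻¹) ^ e = algebraMap R K (p * s) := by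
    rw [← hc, ← map_pow, hes, map_mul, map_mul]
    field_simp
  have h3 : v (algebraMap R K p / algebraMap R K q * (b⁻¹) ^ e) ≤ 1 :=
    (val_le_one_iff R K _).mpr ⟨p * s, hkey.symm⟩
  rw [map_mul, map_pow, map_inv₀] at h3
  have hvb : v b ≠ 0 := (Valuation.ne_zero_iff v).mpr hb0
  have hvbe : 0 < (v b) ^ e := pow_pos (zero_lt_iff.mpr hvb) e
  rw [inv_pow, ← div_eq_mul_inv, div_le_one₀ hvbe] at h3
  exact h3

theorem valuation_isNontrivial (t : R) (ht : t ≠ 0) (htu : ¬ IsUnit t) :
    (ValuationRing.valuation R K).IsNontrivial := by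
  refine ⟨⟨algebraMap R K t, ?_, ?_⟩⟩
  · rw [Valuation.ne_zero_iff]
    exact (map_ne_zero_iff _ (IsFractionRing.injective R K)).mpr ht
  · intro h
    apply htu
    have htK : algebraMap R K t ≠ 0 := (map_ne_zero_iff _ (IsFractionRing.injective R K)).mpr ht
    have h1 : ValuationRing.valuation R K (algebraMap R K t)⁻¹ ≤ 1 := by
      rw [map_inv₀, h, inv_one]
    obtain ⟨d, hd⟩ := (val_le_one_iff R K _).mp h1
    refine IsUnit.of_mul_eq_one d ?_
    apply IsFractionRing.injective R K
    rw [map_mul, hd, map_one, mul_inv_cancel₀ htK]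

theorem nonempty_rankOne (t : R) (ht : t ≠ 0) (htu : ¬ IsUnit t) :
    Nonempty (ValuationRing.valuation R K).RankOne := by
  have := valuation_isNontrivial R K t ht htu
  rw [Valuation.nonempty_rankOne_iff_mulArchimedean]
  have := mulArchimedean_valueGroup R K
  exact MulArchimedean.comap MonoidWithZeroHom.ValueGroup₀.embedding.toMonoidHom
    MonoidWithZeroHom.ValueGroup₀.embedding_strictMono

end Arch

end Groth.Agent.Helper17.VR
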