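import Mathlib
import Groth.Agent.Lib.Helper17.VR1
import Groth.Agent.Lib.Helper17.AR9

/-!
# Complete valuation rings of height one: completeness of the fraction field (helper17)
-/

set_option autoImplicit false

universe u

namespace Groth.Agent.Helper17.VR

open Groth.Agent.Helper17.AR

section Norm

variable (R : Type u) [CommRing R] [IsDomain R] [ValuationRing R] [Ring.KrullDimLE 1 R]
  (K : Type u) [Field K] [Algebra R K] [IsFractionRing R K]

/-- the valued structure on the fraction field -/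
@[reducible] noncomputable def valuedInst : Valued K (ValuationRing.ValueGroup R K) :=
  Valued.mk' (ValuationRing.valuation R K)

/-- a rank one structure -/
noncomputable def rankOneInst (t : R) (ht : t ≠ 0) (htu : ¬ IsUnit t) :
    (ValuationRing.valuation R K).RankOne :=
  (nonempty_rankOne R K t ht htu).some

/-- the normed field structure -/
@[reducible] noncomputable def nnfInst (t : R) (ht : t ≠ 0) (htu : ¬ IsUnit t) :
    NontriviallyNormedField K :=
  letI := valuedInst R K
  letI : (Valued.v (R := K)).RankOne := rankOneInst R K t ht htu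
  Valued.toNontriviallyNormedField K (ValuationRing.ValueGroup R K)

variable (t : R) (ht : t ≠ 0) (htu : ¬ IsUnit t)

theorem norm_le_one_iff (x : K) :
    letI := nnfInst R K t ht htu
    ‖x‖ ≤ 1 ↔ ∃ a : R, algebraMap R K a = x := by
  letI := valuedInst R K
  letI : (Valued.v (R := K)).RankOne := rankOneInst R K t ht htu
  rw [← val_le_one_iff]
  exact Valued.toNormedField.norm_le_one_iff

include ht htu in
theorem val_lt_one_of_not_isUnit : ValuationRing.valuation R K (algebraMap R K t) < 1 := by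
  refine lt_of_le_of_ne ((val_le_one_iff R K _).mpr ⟨t, rfl⟩) ?_
  intro h
  apply htu
  have htK : algebraMap R K t ≠ 0 := (map_ne_zero_iff _ (IsFractionRing.injective R K)).mpr ht
  have h1 : ValuationRing.valuation R K (algebraMap R K t)⁻¹ ≤ 1 := by
    rw [map_inv₀, h, inv_one]
  obtain ⟨d, hd⟩ := (val_le_one_iff R K _).mp h1
  refine IsUnit.of_mul_eq_one d ?_
  apply IsFractionRing.injective R K
  rw [map_mul, hd, map_one, mul_inv_cancel₀ htK]

theorem norm_t_lt_one :
    letI := nnfInst R K t ht htu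
    ‖algebraMap R K t‖ < 1 := by
  letI := valuedInst R K
  letI : (Valued.v (R := K)).RankOne := rankOneInst R K t ht htu
  rw [Valued.toNormedField.norm_lt_one_iff]
  exact val_lt_one_of_not_isUnit R K t ht htu

theorem norm_le_pow_iff (k : ℕ) (x : K) :
    letI := nnfInst R K t ht htu
    ‖x‖ ≤ ‖algebraMap R K t‖ ^ k ↔ ∃ a : R, algebraMap R K (t ^ k * a) = x := by
  letI := nnfInst R K t ht htu
  have htK : algebraMap R K t ≠ 0 := (map_ne_zero_iff _ (IsFractionRing.injective R K)).mpr ht
  have hpos : 0 < ‖algebraMap R K t‖ ^ k := pow_pos (norm_pos_iff.mpr htK) k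
  have h1 : ‖x‖ ≤ ‖algebraMap R K t‖ ^ k ↔ ‖x / (algebraMap R K t) ^ k‖ ≤ 1 := by
    rw [norm_div, norm_pow, div_le_one hpos]
  rw [h1, norm_le_one_iff R K t ht htu]
  constructor
  · rintro ⟨a, ha⟩
    refine ⟨a, ?_⟩
    rw [map_mul, map_pow, ha]
    field_simp
  · rintro ⟨a, ha⟩
    refine ⟨a, ?_⟩
    rw [← ha, map_mul, map_pow]
    field_simp

theorem completeSpace [IsAdicComplete (Ideal.span {t}) R] :
    letI := nnfInst R K t ht htu
    CompleteSpace K := by
  letI := nnfInst R K t ht htu
  apply Metric.complete_of_cauchySeq_tendsto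
  intro u hu
  rw [Metric.cauchySeq_iff] at hu
  have htK : algebraMap R K t ≠ 0 := (map_ne_zero_iff _ (IsFractionRing.injective R K)).mpr ht
  have hTpos : 0 < ‖algebraMap R K t‖ := norm_pos_iff.mpr htK
  have hN : ∀ k : ℕ, ∃ N, ∀ m ≥ N, ∀ n ≥ N, dist (u m) (u n) < ‖algebraMap R K t‖ ^ k :=
    fun k => hu _ (pow_pos hTpos k)
  choose N hN using hN
  let N' : ℕ → ℕ := fun k => (Finset.range (k + 1)).sup N
  have hN'mono : Monotone N' := by
    intro a b hab
    exact Finset.sup_mono (Finset.range_mono (Nat.succ_le_succ hab))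
  have hN'ge : ∀ k, N k ≤ N' k := fun k =>
    Finset.le_sup (f := N) (Finset.mem_range.mpr (Nat.lt_succ_self k))
  have hw : ∀ k, ∃ a : R, algebraMap R K a = u (N' k) - u (N' 0) := by
    intro k
    rw [← norm_le_one_iff R K t ht htu]
    have := hN 0 (N' k) ((hN'ge 0).trans (hN'mono (Nat.zero_le k))) (N' 0) (hN'ge 0)
    rw [dist_eq_norm, pow_zero] at this
    exact this.le
  choose r hr using hw
  have hcong : ∀ {m n : ℕ}, m ≤ n →
      r m ≡ r n [SMOD (Ideal.span {t} ^ m • ⊤ : Submodule R R)] := by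
    intro m n hmn
    have h1 : ‖u (N' m) - u (N' n)‖ ≤ ‖algebraMap R K t‖ ^ m := by
      have := hN m (N' m) (hN'ge m) (N' n) ((hN'ge m).trans (hN'mono hmn))
      rw [dist_eq_norm] at this
      exact this.le
    obtain ⟨a, ha⟩ := (norm_le_pow_iff R K t ht htu m _).mp h1
    rw [SModEq.sub_mem, mem_span_pow_smul_top_iff]
    refine ⟨a, ?_⟩
    apply IsFractionRing.injective R K
    rw [map_sub, hr, hr, smul_eq_mul, ha]
    ring
  obtain ⟨L, hL⟩ := IsPrecomplete.prec' (I := Ideal.span {t}) r hcong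
  refine ⟨u (N' 0) + algebraMap R K L, ?_⟩
  rw [Metric.tendsto_atTop]
  intro ε hε
  obtain ⟨k, hk⟩ := exists_pow_lt_of_lt_one hε (norm_t_lt_one R K t ht htu)
  refine ⟨N' k, fun n hn => ?_⟩
  have h1 : dist (u n) (u (N' k)) < ‖algebraMap R K t‖ ^ k :=
    hN k n ((hN'ge k).trans hn) (N' k) (hN'ge k)
  have h2 : dist (u (N' k)) (u (N' 0) + algebraMap R K L) ≤ ‖algebraMap R K t‖ ^ k := by
    rw [dist_eq_norm]
    have hL' := hL k
    rw [SModEq.sub_mem, mem_span_pow_smul_top_iff] at hL'
    obtain ⟨a, ha⟩ := hL'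
    rw [norm_le_pow_iff R K t ht htu]
    refine ⟨a, ?_⟩
    have : algebraMap R K (r k - L) = u (N' k) - (u (N' 0) + algebraMap R K L) := by
      rw [map_sub, hr]; ring
    rw [← this, ha, smul_eq_mul]
  calc dist (u n) (u (N' 0) + algebraMap R K L)
      ≤ max (dist (u n) (u (N' k))) (dist (u (N' k)) (u (N' 0) + algebraMap R K L)) :=
        dist_triangle_max _ _ _
    _ < ε := max_lt (h1.trans hk) (lt_of_le_of_lt h2 hk)

end Norm

end Groth.Agent.Helper17.VR
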