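import Mathlib
import Groth.Agent.Lib.Helper17.VR2

/-!
# Complete valuation rings of height one: integral closure in algebraic extensions (helper17)
-/

set_option autoImplicit false

universe u

namespace Groth.Agent.Helper17.VR

open Groth.Agent.Helper17.AR Polynomial

section Ext

variable (R : Type u) [CommRing R] [IsDomain R] [ValuationRing R] [Ring.KrullDimLE 1 R]
  (K : Type u) [Field K] [Algebra R K] [IsFractionRing R K]
  (t : R) (ht : t ≠ 0) (htu : ¬ IsUnit t)
  (L : Type u) [Field L] [Algebra K L] [Algebra R L] [IsScalarTower R K L]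
  [Algebra.IsAlgebraic K L]

theorem isIntegral_iff_spectralNorm_le_one (x : L) :
    letI := nnfInst R K t ht htu
    IsIntegral R x ↔ spectralNorm K L x ≤ 1 := by
  letI := nnfInst R K t ht htu
  have hxK : IsIntegral K x := (Algebra.IsAlgebraic.isAlgebraic x).isIntegral
  unfold spectralNorm
  rw [spectralValue_le_one_iff (minpoly.monic hxK)]
  constructor
  · intro hx n
    rw [minpoly.isIntegrallyClosed_eq_field_fractions' K hx, Polynomial.coeff_map,
      norm_le_one_iff R K t ht htu]
    exact ⟨_, rfl⟩
  · intro h
    have hl : minpoly K x ∈ Polynomial.lifts (algebraMap R K) := by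
      rw [Polynomial.lifts_iff_coeff_lifts]
      intro n
      obtain ⟨a, ha⟩ := (norm_le_one_iff R K t ht htu _).mp (h n)
      exact ⟨a, ha⟩
    obtain ⟨q, hq, -, hqm⟩ := Polynomial.lifts_and_degree_eq_and_monic hl (minpoly.monic hxK)
    refine ⟨q, hqm, ?_⟩
    have h0 : Polynomial.aeval x (q.map (algebraMap R K)) = 0 := by
      rw [hq]; exact minpoly.aeval K x
    rw [Polynomial.aeval_map_algebraMap] at h0
    exact h0

include K ht htu in
theorem isIntegral_or_isIntegral_inv [IsAdicComplete (Ideal.span {t}) R] (x : L) :
    IsIntegral R x ∨ IsIntegral R x⁻¹ := by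
  letI := nnfInst R K t ht htu
  have : CompleteSpace K := completeSpace R K t ht htu
  rw [isIntegral_iff_spectralNorm_le_one R K t ht htu L, isIntegral_iff_spectralNorm_le_one R K t ht htu L]
  by_cases hx : x = 0
  · left
    rw [hx, spectralNorm_zero]
    exact zero_le_one
  · have hmul : spectralMulAlgNorm K L (x * x⁻¹) =
        spectralMulAlgNorm K L x * spectralMulAlgNorm K L x⁻¹ := map_mul _ _ _
    rw [mul_inv_cancel₀ hx, map_one] at hmul
    simp only [spectralMulAlgNorm_def] at hmul
    by_contra hcon
    push Not at hcon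
    have h1 := hcon.1
    have h2 := hcon.2
    have : 1 < spectralNorm K L x * spectralNorm K L x⁻¹ := by
      calc (1 : ℝ) = 1 * 1 := (one_mul 1).symm
        _ < spectralNorm K L x * spectralNorm K L x⁻¹ :=
          mul_lt_mul'' h1 h2 zero_le_one zero_le_one
    rw [← hmul] at this
    exact lt_irrefl _ this

include K ht htu in
/-- a subalgebra of `L` consisting of the elements integral over `R` is a valuation ring -/
theorem valuationRing_of_forall_mem_iff [IsAdicComplete (Ideal.span {t}) R]
    {B : Type u} [CommRing B] [Algebra B L] (S : Subalgebra B L)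
    (hS : ∀ x : L, x ∈ S ↔ IsIntegral R x) : ValuationRing S := by
  have : PreValuationRing S := by
    constructor
    intro a b
    by_cases ha : a = 0
    · exact ⟨0, Or.inr (by rw [ha, mul_zero])⟩
    have haL : (a : L) ≠ 0 := fun h => ha (Subtype.ext h)
    rcases isIntegral_or_isIntegral_inv R K t ht htu L ((b : L) / (a : L)) with h | h
    · refine ⟨⟨(b : L) / (a : L), (hS _).mpr h⟩, Or.inl ?_⟩
      apply Subtype.ext
      change (a : L) * ((b : L) / (a : L)) = b
      field_simp
    · by_cases hb : b = 0
      · exact ⟨0, Or.inl (by rw [hb, mul_zero])⟩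
      have hbL : (b : L) ≠ 0 := fun h => hb (Subtype.ext h)
      refine ⟨⟨((b : L) / (a : L))⁻¹, (hS _).mpr h⟩, Or.inr ?_⟩
      apply Subtype.ext
      change (b : L) * ((b : L) / (a : L))⁻¹ = a
      field_simp
  exact { }

end Ext

end Groth.Agent.Helper17.VR
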