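import Mathlib
import Groth.Agent.Lib.Helper17.VR3
import Groth.Agent.Lib.Helper17.AR21
import Groth.Agent.Lib.Helper1.AdicLib

/-!
# S11541: admissible local domains of dimension one over a complete valuation ring of height one
are finite (helper17)
-/

set_option autoImplicit false

universe u

namespace Groth.Agent.Helper17.VR

open Groth.Agent.Helper17.AR Polynomial AdicRing

/-- a finite type algebra over a Jacobson ring with a maximal ideal consisting of nilpotents is
integral -/
theorem isIntegral_of_maximal_le_nilradical (R₀ : Type u) [CommRing R₀] [IsJacobsonRing R₀]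
    (D : Type u) [CommRing D] [Algebra R₀ D] [Algebra.FiniteType R₀ D] (P : Ideal D)
    [hP : P.IsMaximal] (hPn : P ≤ nilradical D) : Algebra.IsIntegral R₀ D := by
  letI : Field (D ⧸ P) := Ideal.Quotient.field P
  have hft : Algebra.FiniteType R₀ (D ⧸ P) :=
    Algebra.FiniteType.of_surjective (Ideal.Quotient.mkₐ R₀ P) (Ideal.Quotient.mkₐ_surjective R₀ P)
  have hfin : Module.Finite R₀ (D ⧸ P) := finite_of_finite_type_of_isJacobsonRing R₀ (D ⧸ P)
  have hint : Algebra.IsIntegral R₀ (D ⧸ P) := inferInstance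
  constructor
  intro x
  obtain ⟨p, hp, hpx⟩ := hint.isIntegral (Ideal.Quotient.mk P x)
  have h1 : Polynomial.aeval x p ∈ P := by
    rw [← Ideal.Quotient.eq_zero_iff_mem]
    have : Ideal.Quotient.mk P (Polynomial.aeval x p) =
        Polynomial.aeval (Ideal.Quotient.mk P x) p := by
      change (Ideal.Quotient.mkₐ R₀ P) (Polynomial.aeval x p) = _
      rw [← Polynomial.aeval_algHom_apply]
      rfl
    rw [this]
    exact hpx
  obtain ⟨N, hN⟩ := hPn h1
  refine ⟨p ^ N, hp.pow N, ?_⟩
  change Polynomial.aeval x (p ^ N) = 0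
  rw [map_pow, hN]

section Fin

variable (R : Type u) [CommRing R] [IsDomain R] [ValuationRing R] [Ring.KrullDimLE 1 R]
  (t : R) (ht : t ≠ 0)

include ht in
theorem krullDimLE_zero_quot : Ring.KrullDimLE 0 (R ⧸ Ideal.span {t}) := by
  rw [Ring.krullDimLE_zero_iff]
  intro P hP
  have hcomap : (P.comap (Ideal.Quotient.mk (Ideal.span {t}))).IsPrime := Ideal.comap_isPrime _ _
  have htP : t ∈ P.comap (Ideal.Quotient.mk (Ideal.span {t})) := by
    rw [Ideal.mem_comap, Ideal.Quotient.eq_zero_iff_mem.mpr (Ideal.mem_span_singleton_self t)]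
    exact P.zero_mem
  have hne : P.comap (Ideal.Quotient.mk (Ideal.span {t})) ≠ ⊥ := by
    intro e
    rw [e] at htP
    exact ht (by simpa using htP)
  have hmax := hcomap.isMaximal_of_ne_bot hne
  have := Ideal.map_eq_top_or_isMaximal_of_surjective (Ideal.Quotient.mk (Ideal.span {t}))
    Ideal.Quotient.mk_surjective hmax
  rw [Ideal.map_comap_of_surjective _ Ideal.Quotient.mk_surjective] at this
  exact this.resolve_left hP.ne_top

include ht in
theorem finite_of_admissible_local_dim_one [IsAdicComplete (Ideal.span {t}) R]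
    (B : Type u) [CommRing B] [Algebra R B] [IsDomain B] [IsLocalRing B]
    (hB : AdicRing.Admissible R (Ideal.span {t}) B) (hdim : ringKrullDim B = 1) :
    Module.Finite R B := by
  set I := Ideal.span {t} with hIdef
  have hbase : IsBase R I := isBase_of_valuationRing R t ht
  have hI : I.FG := IsBase.fg hbase
  have htft : TopFiniteType R I B := tft_of_tfp hB.1
  have hc : IsAdicComplete I B := main11529 R I hbase B htft B
  set J := I.map (algebraMap R B) with hJdef
  have hcJ : IsAdicComplete J B := (IsAdicComplete.map_algebraMap_iff _ _).mpr hc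
  have hft : Algebra.FiniteType R (B ⧸ J) := finiteType_quot_of_tft I hI htft
  have hdim0 : Ring.KrullDimLE 0 (R ⧸ I) := krullDimLE_zero_quot R t ht
  set t' := algebraMap R B t with ht'def
  have hJspan : J = Ideal.span {t'} := by
    rw [hJdef, hIdef, Ideal.map_span, Set.image_singleton]
  have ht'0 : t' ≠ 0 := by
    intro h0
    have h1 : (1 : B) = 0 := by
      apply hB.2 1 1
      intro a ha
      rw [pow_one] at ha
      obtain ⟨c, rfl⟩ := Ideal.mem_span_singleton'.mp ha
      rw [Algebra.smul_def, mul_one, map_mul]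
      change _ * t' = 0
      rw [h0, mul_zero]
    exact one_ne_zero h1
  have hJm : J ≤ IsLocalRing.maximalIdeal B := by
    have := IsAdicComplete.le_jacobson_bot J
    rwa [IsLocalRing.jacobson_eq_maximalIdeal ⊥ bot_ne_top] at this
  have hdimB : Ring.KrullDimLE 1 B := by
    rw [Ring.krullDimLE_iff, hdim]
    rfl
  have hrad : IsLocalRing.maximalIdeal B ≤ J.radical := by
    rw [Ideal.radical_eq_sInf]
    refine le_sInf ?_
    rintro P ⟨hJP, hP⟩
    have hPne : P ≠ ⊥ := by
      intro e
      apply ht'0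
      have : t' ∈ P := hJP (by rw [hJspan]; exact Ideal.mem_span_singleton_self t')
      rw [e] at this
      simpa using this
    have hPmax : P.IsMaximal := hP.isMaximal_of_ne_bot hPne
    rw [IsLocalRing.eq_maximalIdeal hPmax]
  set P := (IsLocalRing.maximalIdeal B).map (Ideal.Quotient.mk J) with hPdef
  have hPmax : P.IsMaximal := by
    apply Ideal.IsMaximal.map_of_surjective_of_ker_le Ideal.Quotient.mk_surjective
    rw [Ideal.mk_ker]
    exact hJm
  have hPnil : P ≤ nilradical (B ⧸ J) := by
    intro y hy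
    obtain ⟨b, hb, rfl⟩ := (Ideal.mem_map_iff_of_surjective _ Ideal.Quotient.mk_surjective).mp hy
    obtain ⟨n, hn⟩ := hrad hb
    rw [mem_nilradical]
    refine ⟨n, ?_⟩
    rw [← map_pow, Ideal.Quotient.eq_zero_iff_mem]
    exact hn
  have hft0 : Algebra.FiniteType (R ⧸ I) (B ⧸ J) :=
    Algebra.FiniteType.of_restrictScalars_finiteType R (R ⧸ I) (B ⧸ J)
  have hint : Algebra.IsIntegral (R ⧸ I) (B ⧸ J) :=
    isIntegral_of_maximal_le_nilradical (R ⧸ I) (B ⧸ J) P hPnil
  have hfin0 : Module.Finite (R ⧸ I) (B ⧸ J) := Algebra.IsIntegral.finite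
  have hfinR : Module.Finite R (B ⧸ J) := Module.Finite.trans (R ⧸ I) (B ⧸ J)
  have heq : (I • ⊤ : Submodule R B) = J.restrictScalars R := Ideal.smul_top_eq_map I
  have hfinq : Module.Finite R (B ⧸ (I • ⊤ : Submodule R B)) := by
    have e1 : (B ⧸ (I • ⊤ : Submodule R B)) ≃ₗ[R] (B ⧸ J.restrictScalars R) :=
      Submodule.quotEquivOfEq _ _ heq
    have e2 : (B ⧸ J.restrictScalars R) ≃ₗ[R] (B ⧸ J) :=
      Submodule.Quotient.restrictScalarsEquiv R J
    exact Module.Finite.equiv (e1.trans e2).symm
  have hH : IsHausdorff I B := hc.toIsHausdorff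
  exact Groth.Agent.Helper1.finite_of_isAdicComplete_of_finite_quotient I hfinq

end Fin

end Groth.Agent.Helper17.VR
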