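import Mathlib
import Groth.Agent.Lib.Helper17.VR5

/-!
# S11541 (helper17)
-/

set_option autoImplicit false

universe u

namespace Groth.Agent.Helper17.VR

open Groth.Agent.Helper17.AR Polynomial AdicRing

section

variable (R : Type u) [CommRing R] [IsDomain R] [ValuationRing R] [Ring.KrullDimLE 1 R]
  (t : R) (ht : t ≠ 0)

include ht in
/-- the structure map of a nonzero algebra without `t`-torsion which is a domain is injective -/
theorem algebraMap_injective_of_noPowTorsion (htu : ¬ IsUnit t)
    (B : Type u) [CommRing B] [Algebra R B] [IsDomain B]
    (hnt : NoPowTorsion (Ideal.span {t}) B) : Function.Injective (algebraMap R B) := by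
  rw [injective_iff_map_eq_zero]
  intro r hr
  by_contra hr0
  obtain ⟨e, s, hes⟩ := exists_pow_eq_mul R r t hr0 htu
  have h1 : (algebraMap R B t) ^ e = 0 := by
    rw [← map_pow, hes, map_mul, hr, mul_zero]
  have h2 : algebraMap R B t = 0 := pow_eq_zero_iff (n := e) (by
    intro he
    rw [he, pow_zero] at h1
    exact one_ne_zero h1) |>.mp h1
  have h3 : (1 : B) = 0 := by
    apply hnt 1 1
    intro a ha
    rw [pow_one] at ha
    obtain ⟨c, rfl⟩ := Ideal.mem_span_singleton'.mp ha
    rw [Algebra.smul_def, mul_one, map_mul, h2, mul_zero]
  exact one_ne_zero h3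

include ht in
theorem main11541 [IsAdicComplete (Ideal.span {t}) R]
    (B : Type u) [CommRing B] [Algebra R B] [IsDomain B] [IsLocalRing B]
    (hB : AdicRing.Admissible R (Ideal.span {t}) B) (hdim : ringKrullDim B = 1) :
    Module.Finite R B ∧ ValuationRing (integralClosure B (FractionRing B)) := by
  have htu : ¬ IsUnit t := not_isUnit_of_complete t inferInstance
  have hfin : Module.Finite R B := finite_of_admissible_local_dim_one R t ht B hB hdim
  refine ⟨hfin, ?_⟩
  have hint : Algebra.IsIntegral R B := Algebra.IsIntegral.of_finite R B
  have hinjB : Function.Injective (algebraMap R B) :=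
    algebraMap_injective_of_noPowTorsion R t ht htu B hB.2
  set K := FractionRing R with hK
  set L := FractionRing B with hL
  have hinjL : Function.Injective (algebraMap R L) := by
    rw [IsScalarTower.algebraMap_eq R B L]
    exact (IsFractionRing.injective B L).comp hinjB
  letI : Algebra K L := (IsFractionRing.lift hinjL).toAlgebra
  have htower : IsScalarTower R K L := IsScalarTower.of_algebraMap_eq (fun x => by
    change algebraMap R L x = IsFractionRing.lift hinjL (algebraMap R K x)
    rw [IsFractionRing.lift_algebraMap])
  have halg : Algebra.IsAlgebraic K L := by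
    constructor
    intro x
    obtain ⟨b, s, hs, rfl⟩ := IsFractionRing.div_surjective (A := B) x
    have hb : IsAlgebraic K (algebraMap B L b) := by
      have h1 : IsIntegral R (algebraMap B L b) := (hint.isIntegral b).algebraMap
      exact (h1.tower_top (A := K)).isAlgebraic
    have hs' : IsAlgebraic K (algebraMap B L s) := by
      have h1 : IsIntegral R (algebraMap B L s) := (hint.isIntegral s).algebraMap
      exact (h1.tower_top (A := K)).isAlgebraic
    rw [div_eq_mul_inv]
    exact hb.mul hs'.inv
  refine valuationRing_of_forall_mem_iff R K t ht htu L (integralClosure B L) ?_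
  intro x
  rw [mem_integralClosure_iff]
  constructor
  · intro hx
    exact isIntegral_trans x hx
  · intro hx
    exact hx.tower_top

end

end Groth.Agent.Helper17.VR
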