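import Mathlib
import Groth.Agent.Lib.Helper17.VR6
import Groth.Agent.Lib.Helper17.AR2
import Groth.Agent.Lib.Helper7.IntDim

/-!
# S13354 (helper17)
-/

set_option autoImplicit false

universe u

namespace Groth.Agent.Helper17.VR

open Groth.Agent.Helper17.AR Polynomial AdicRing

/-- a ring with an injective integral map to a local ring is local -/
theorem isLocalRing_of_integral_injective (A C : Type u) [CommRing A] [CommRing C] [Algebra A C]
    [Algebra.IsIntegral A C] (hinj : Function.Injective (algebraMap A C)) [IsLocalRing C] :
    IsLocalRing A := by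
  have : Nontrivial A := ⟨⟨0, 1, fun h => by
    have := congrArg (algebraMap A C) h
    rw [map_zero, map_one] at this
    exact zero_ne_one this⟩⟩
  apply IsLocalRing.of_unique_max_ideal
  obtain ⟨M, hM⟩ := Ideal.exists_maximal A
  have hker : ∀ M' : Ideal A, RingHom.ker (algebraMap A C) ≤ M' := by
    intro M'
    rw [(RingHom.injective_iff_ker_eq_bot _).mp hinj]
    exact bot_le
  refine ⟨M, hM, fun M' hM' => ?_⟩
  obtain ⟨Q, hQ, hQM⟩ := Ideal.exists_ideal_over_maximal_of_isIntegral (S := C) M (hker M)
  obtain ⟨Q', hQ', hQM'⟩ := Ideal.exists_ideal_over_maximal_of_isIntegral (S := C) M' (hker M')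
  rw [← hQM, ← hQM', IsLocalRing.eq_maximalIdeal hQ, IsLocalRing.eq_maximalIdeal hQ']

section

variable (R : Type u) [CommRing R] [IsDomain R] [ValuationRing R] [Ring.KrullDimLE 1 R]
  (t : R) (ht : t ≠ 0)

include ht in
theorem valuationRing_subalgebra_fractionRing [IsAdicComplete (Ideal.span {t}) R]
    (B : Type u) [CommRing B] [Algebra R B] [IsDomain B] (hfin : Module.Finite R B)
    (hinjB : Function.Injective (algebraMap R B))
    {B₁ : Type u} [CommRing B₁] [Algebra B₁ (FractionRing B)]
    (S : Subalgebra B₁ (FractionRing B)) (hS : ∀ x, x ∈ S ↔ IsIntegral R x) :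
    ValuationRing S := by
  have htu : ¬ IsUnit t := not_isUnit_of_complete t inferInstance
  have hint : Algebra.IsIntegral R B := Algebra.IsIntegral.of_finite R B
  set K := FractionRing R with hK
  set L := FractionRing B with hL
  have hinjL : Function.Injective (algebraMap R L) := by
    rw [IsScalarTower.algebraMap_eq R B L]
    exact (IsFractionRing.injective B L).comp hinjB
  letI : Algebra K L := (IsFractionRing.lift hinjL).toAlgebra
  have htower : IsScalarTower R K L := IsScalarTower.of_algebraMap_eq (fun x => by
    change algebraMap R L x = IsFractionRing.lift hinjL (algebraMap R K x)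
    rw [IsFractionRing.lift_algebraMap])
  have halg : Algebra.IsAlgebraic K L := by
    constructor
    intro x
    obtain ⟨b, s, hs, rfl⟩ := IsFractionRing.div_surjective (A := B) x
    have hb : IsAlgebraic K (algebraMap B L b) := by
      have h1 : IsIntegral R (algebraMap B L b) := (hint.isIntegral b).algebraMap
      exact (h1.tower_top (A := K)).isAlgebraic
    have hs' : IsAlgebraic K (algebraMap B L s) := by
      have h1 : IsIntegral R (algebraMap B L s) := (hint.isIntegral s).algebraMap
      exact (h1.tower_top (A := K)).isAlgebraic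
    rw [div_eq_mul_inv]
    exact hb.mul hs'.inv
  exact valuationRing_of_forall_mem_iff R K t ht htu L S hS

end

end Groth.Agent.Helper17.VR
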