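import Mathlib
import Groth.Agent.Lib.Helper17.VR7

/-!
# S13354 (helper17)
-/

set_option autoImplicit false

universe u

namespace Groth.Agent.Helper17.VR

open Groth.Agent.Helper17.AR Polynomial AdicRing

section

variable (R : Type u) [CommRing R] [IsDomain R] [ValuationRing R] [Ring.KrullDimLE 1 R]
  (t : R) (ht : t ≠ 0)

include ht in
theorem main13354 [IsAdicComplete (Ideal.span {t}) R]
    (B : Type u) [CommRing B] [Algebra R B] [IsDomain B] [IsLocalRing B]
    (hB : AdicRing.Admissible R (Ideal.span {t}) B) (hdim : ringKrullDim B = 1)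
    (n : ℕ) (b : Fin n → B) (hb : ∃ i, b i ≠ 0) :
    ∃ B' : Subalgebra B (FractionRing B), Module.Finite B ↥B' ∧ IsLocalRing ↥B' ∧
      ringKrullDim ↥B' = 1 ∧
      ∃ i, Ideal.span (Set.range (fun j => algebraMap B ↥B' (b j))) =
        Ideal.span {algebraMap B ↥B' (b i)} := by
  classical
  have htu : ¬ IsUnit t := not_isUnit_of_complete t inferInstance
  have hfin : Module.Finite R B := finite_of_admissible_local_dim_one R t ht B hB hdim
  have hint : Algebra.IsIntegral R B := Algebra.IsIntegral.of_finite R B
  have hinjB : Function.Injective (algebraMap R B) :=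
    algebraMap_injective_of_noPowTorsion R t ht htu B hB.2
  set L := FractionRing B with hL
  have hC : ValuationRing (integralClosure B L) := (main11541 R t ht B hB hdim).2
  obtain ⟨i0, hi0⟩ := hb
  let S : Finset (integralClosure B L) :=
    Finset.univ.image (fun j => algebraMap B (integralClosure B L) (b j))
  have hSne : S.Nonempty := ⟨_, Finset.mem_image_of_mem _ (Finset.mem_univ i0)⟩
  obtain ⟨c, hc, hcS⟩ := exists_dvd_all S hSne
  obtain ⟨i, -, rfl⟩ := Finset.mem_image.mp hc
  have hinjBL : Function.Injective (algebraMap B L) := IsFractionRing.injective B L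
  have hbi : b i ≠ 0 := by
    intro h0
    have h1 := hcS _ (Finset.mem_image_of_mem _ (Finset.mem_univ i0))
    rw [h0, map_zero, zero_dvd_iff] at h1
    have h2 : algebraMap B L (b i0) = 0 := congrArg Subtype.val h1
    exact hi0 (hinjBL (by rw [h2, map_zero]))
  have hbiL : algebraMap B L (b i) ≠ 0 := fun h => hbi (hinjBL (by rw [h, map_zero]))
  let x : Fin n → L := fun j => algebraMap B L (b j) / algebraMap B L (b i)
  have hxint : ∀ j, IsIntegral B (x j) := by
    intro j
    obtain ⟨d, hd⟩ := hcS _ (Finset.mem_image_of_mem _ (Finset.mem_univ j))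
    have h1 : algebraMap B L (b j) = algebraMap B L (b i) * (d : L) := congrArg Subtype.val hd
    have h2 : x j = (d : L) := by
      change algebraMap B L (b j) / algebraMap B L (b i) = d
      rw [h1]
      exact mul_div_cancel_left₀ _ hbiL
    rw [h2]
    exact d.2
  let B' : Subalgebra B L := Algebra.adjoin B (Set.range x)
  have hfinB' : Module.Finite B ↥B' :=
    Algebra.finite_adjoin_of_finite_of_isIntegral (Set.finite_range x)
      (by rintro _ ⟨j, rfl⟩; exact hxint j)
  have hintB' : Algebra.IsIntegral B ↥B' := Algebra.IsIntegral.of_finite B ↥B'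
  have hinjB' : Function.Injective (algebraMap B ↥B') := by
    intro u v huv
    apply hinjBL
    exact congrArg Subtype.val huv
  refine ⟨B', hfinB', ?_, ?_, i, ?_⟩
  · have hval : ValuationRing (integralClosure ↥B' L) := by
      refine valuationRing_subalgebra_fractionRing R t ht B hfin hinjB (integralClosure ↥B' L) ?_
      intro y
      rw [mem_integralClosure_iff]
      constructor
      · intro hy
        have h1 : IsIntegral B y := isIntegral_trans y hy
        exact isIntegral_trans y h1
      · intro hy
        have h1 : IsIntegral B y := hy.tower_top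
        exact h1.tower_top
    have hpre : PreValuationRing (integralClosure ↥B' L) := hval.toPreValuationRing
    have hloc : IsLocalRing (integralClosure ↥B' L) :=
      ValuationRing.isLocalRing ↥(integralClosure ↥B' L)
    refine isLocalRing_of_integral_injective ↥B' ↥(integralClosure ↥B' L) ?_
    intro u v huv
    apply Subtype.ext
    have h3 : ((algebraMap ↥B' ↥(integralClosure ↥B' L) u : ↥(integralClosure ↥B' L)) : L) =
        ((algebraMap ↥B' ↥(integralClosure ↥B' L) v : ↥(integralClosure ↥B' L)) : L) :=
      congrArg Subtype.val huv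
    exact h3
  · rw [Groth.Agent.Helper7.IntDim.ringKrullDim_eq_of_isIntegral_of_injective hinjB', hdim]
  · apply le_antisymm
    · rw [Ideal.span_le]
      rintro _ ⟨j, rfl⟩
      rw [SetLike.mem_coe, Ideal.mem_span_singleton']
      refine ⟨⟨x j, Algebra.subset_adjoin ⟨j, rfl⟩⟩, ?_⟩
      apply Subtype.ext
      change x j * algebraMap B L (b i) = algebraMap B L (b j)
      change algebraMap B L (b j) / algebraMap B L (b i) * algebraMap B L (b i) = _
      exact div_mul_cancel₀ _ hbiL
    · rw [Ideal.span_le, Set.singleton_subset_iff]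
      exact Ideal.subset_span ⟨i, rfl⟩

end

end Groth.Agent.Helper17.VR
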