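import Mathlib
import Groth.Agent.Lib.Helper17.VR8

/-!
# S11547 (helper17)
-/

set_option autoImplicit false

universe u

namespace Groth.Agent.Helper17.VR

open Groth.Agent.Helper17.AR Polynomial AdicRing

theorem main11547
    (R : Type u) [CommRing R] [IsDomain R] [ValuationRing R] [Ring.KrullDimLE 1 R]
    (t : R) (ht : t ≠ 0) [IsAdicComplete (Ideal.span {t}) R]
    (A : Type u) [CommRing A] [Algebra R A] (hA : AdicRing.Admissible R (Ideal.span {t}) A)
    (A' : Type u) [CommRing A'] [Algebra R A'] (hA' : AdicRing.Admissible R (Ideal.span {t}) A')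
    (φ : A →ₐ[R] A')
    (B' : Type u) [CommRing B'] [Algebra R B'] [IsDomain B'] [IsLocalRing B']
    (hB' : AdicRing.Admissible R (Ideal.span {t}) B') (hdim : ringKrullDim B' = 1)
    (u' : A' →ₐ[R] B') (hu' : Function.Surjective u') :
    AdicRing.Admissible R (Ideal.span {t}) ((u'.comp φ).range) ∧
      IsLocalRing ((u'.comp φ).range) ∧ ringKrullDim ((u'.comp φ).range) = 1 := by
  have hbase : IsBase R (Ideal.span {t}) := isBase_of_valuationRing R t ht
  have hfin : Module.Finite R B' := finite_of_admissible_local_dim_one R t ht B' hB' hdim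
  have hint : Algebra.IsIntegral R B' := Algebra.IsIntegral.of_finite R B'
  set C := (u'.comp φ).range with hC
  have hintC : Algebra.IsIntegral ↥C B' := by
    constructor
    intro x
    exact (hint.isIntegral x).tower_top
  have hinjC : Function.Injective (algebraMap ↥C B') := Subtype.val_injective
  refine ⟨?_, isLocalRing_of_integral_injective ↥C B' hinjC, ?_⟩
  · letI : Algebra A ↥C := ((u'.comp φ).rangeRestrict).toRingHom.toAlgebra
    have htower : IsScalarTower R A ↥C := IsScalarTower.of_algebraMap_eq (fun r => by
      change algebraMap R ↥C r = (u'.comp φ).rangeRestrict (algebraMap R A r)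
      rw [AlgHom.commutes])
    have hsurj : Function.Surjective (algebraMap A ↥C) := (u'.comp φ).rangeRestrict_surjective
    have hfinC : Module.Finite A ↥C :=
      Module.Finite.of_surjective (Algebra.linearMap A ↥C) hsurj
    refine admissible_of_finite hbase (tft_of_tfp hA.1) ?_
    intro x n hx
    apply Subtype.ext
    apply hB'.2 (x : B') n
    intro a ha
    have := hx a ha
    exact congrArg Subtype.val this
  · rw [← Groth.Agent.Helper7.IntDim.ringKrullDim_eq_of_isIntegral_of_injective hinjC, hdim]

end Groth.Agent.Helper17.VR
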