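import Mathlib
import Groth.Agent.Lib.Helper17.VR8

/-!
# The integral closure of a complete valuation ring of height one in an algebraic closure
(helper17)
-/

set_option autoImplicit false

universe u

namespace Groth.Agent.Helper17.VR

open Groth.Agent.Helper17.AR Polynomial AdicRing

section

variable (R : Type u) [CommRing R] [IsDomain R] [ValuationRing R] [Ring.KrullDimLE 1 R]
  (t : R) (ht : t ≠ 0)

/-- the integral closure of `R` in an algebraic closure of its fraction field -/
noncomputable abbrev Rbar : Subalgebra R (AlgebraicClosure (FractionRing R)) :=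
  integralClosure R (AlgebraicClosure (FractionRing R))

include ht in
theorem valuationRing_Rbar [IsAdicComplete (Ideal.span {t}) R] : ValuationRing (Rbar R) := by
  have htu : ¬ IsUnit t := not_isUnit_of_complete t inferInstance
  exact valuationRing_of_forall_mem_iff R (FractionRing R) t ht htu
    (AlgebraicClosure (FractionRing R)) (Rbar R) (fun x => mem_integralClosure_iff _ _)

include ht in
theorem isLocalRing_Rbar [IsAdicComplete (Ideal.span {t}) R] : IsLocalRing (Rbar R) := by
  have hval := valuationRing_Rbar R t ht
  have hpre : PreValuationRing (Rbar R) := hval.toPreValuationRing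
  exact ValuationRing.isLocalRing ↥(Rbar R)

/-- every monic polynomial of positive degree over `Rbar` has a root in `Rbar` -/
theorem exists_root_Rbar (p : Polynomial (Rbar R)) (hp : p.Monic) (hdeg : p.natDegree ≠ 0) :
    ∃ z : Rbar R, p.eval z = 0 := by
  set Ω := AlgebraicClosure (FractionRing R) with hΩ
  have hdeg' : (p.map (algebraMap (Rbar R) Ω)).degree ≠ 0 := by
    rw [Polynomial.degree_map_eq_of_injective (Subtype.val_injective),
      Polynomial.degree_eq_natDegree hp.ne_zero]
    exact_mod_cast hdeg
  obtain ⟨z, hz⟩ := IsAlgClosed.exists_root (p.map (algebraMap (Rbar R) Ω)) hdeg'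
  have hz' : Polynomial.eval₂ (algebraMap (Rbar R) Ω) z p = 0 := by
    rwa [Polynomial.IsRoot, Polynomial.eval_map] at hz
  have hint1 : IsIntegral (Rbar R) z := ⟨p, hp, hz'⟩
  have hint2 : IsIntegral R z := isIntegral_trans z hint1
  refine ⟨⟨z, hint2⟩, ?_⟩
  apply Subtype.val_injective
  change algebraMap (Rbar R) Ω (p.eval ⟨z, hint2⟩) = algebraMap (Rbar R) Ω 0
  rw [map_zero, ← Polynomial.eval₂_hom]
  exact hz'

include ht in
theorem ringKrullDim_eq_one_of_not_isUnit (htu : ¬ IsUnit t) : ringKrullDim R = 1 := by
  apply eq_of_le_of_not_lt ?_ fun h' => ?_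
  · rw [← Nat.cast_one, ← Ring.krullDimLE_iff]
    infer_instance
  · have h'' : ringKrullDim R ≤ 0 := Order.le_of_lt_succ h'
    rw [← Nat.cast_zero, ← Ring.krullDimLE_iff] at h''
    have hf : IsField R := Ring.KrullDimLE.isField_of_isDomain
    obtain ⟨y, hy⟩ := hf.mul_inv_cancel ht
    exact htu (IsUnit.of_mul_eq_one y hy)

end

end Groth.Agent.Helper17.VR
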