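import Mathlib
import Groth.Agent.Lib.Helper17.VR11
import Groth.Agent.Lib.Helper17.AR12

/-!
# S11548: closed points of the special fibre of the formal affine space lift to rig-points
(helper17)
-/

set_option autoImplicit false

universe u

namespace Groth.Agent.Helper17.VR

open Groth.Agent.Helper17.AR AdicRing

section

variable (R : Type u) [CommRing R] [IsDomain R] [ValuationRing R] [Ring.KrullDimLE 1 R]
  (t : R) (ht : t ≠ 0) (n : ℕ)

/-- polynomials surject onto the residue field of a closed point of the special fibre -/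
theorem mk_ιR_surjective (m : Ideal (RPow R (Ideal.span {t}) n))
    (hm : algebraMap R (RPow R (Ideal.span {t}) n) t ∈ m) :
    Function.Surjective ((Ideal.Quotient.mkₐ R m).comp (ιR (Ideal.span {t}) n)) := by
  intro y
  obtain ⟨x, rfl⟩ := Ideal.Quotient.mk_surjective y
  have hI : (Ideal.span {t}).FG := ⟨{t}, by simp⟩
  obtain ⟨p, hp⟩ := exists_poly_sub_mem (Ideal.span {t}) n hI 1 x
  refine ⟨p, ?_⟩
  change Ideal.Quotient.mk m (ιR (Ideal.span {t}) n p) = Ideal.Quotient.mk m x
  rw [eq_comm, Ideal.Quotient.eq]
  have hle : (Ideal.span {t} ^ 1).map (algebraMap R (RPow R (Ideal.span {t}) n)) ≤ m := by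
    rw [pow_one, Ideal.map_le_iff_le_comap, Ideal.span_le, Set.singleton_subset_iff]
    exact hm
  exact hle hp

include ht in
theorem isIntegral_quot_maximal (m : Ideal (RPow R (Ideal.span {t}) n)) [hmax : m.IsMaximal]
    (hm : algebraMap R (RPow R (Ideal.span {t}) n) t ∈ m) :
    Algebra.IsIntegral R (RPow R (Ideal.span {t}) n ⧸ m) := by
  set T := RPow R (Ideal.span {t}) n with hT
  letI : Field (T ⧸ m) := Ideal.Quotient.field m
  have hft : Algebra.FiniteType R (T ⧸ m) :=
    Algebra.FiniteType.of_surjective _ (mk_ιR_surjective R t n m hm)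
  have hle : Ideal.span {t} ≤ m.comap (algebraMap R T) := by
    rw [Ideal.span_le, Set.singleton_subset_iff]
    exact hm
  letI : Algebra (R ⧸ Ideal.span {t}) (T ⧸ m) := Ideal.Quotient.algebraQuotientOfLEComap hle
  have htower : IsScalarTower R (R ⧸ Ideal.span {t}) (T ⧸ m) :=
    IsScalarTower.of_algebraMap_eq (fun r => rfl)
  have hdim0 : Ring.KrullDimLE 0 (R ⧸ Ideal.span {t}) := krullDimLE_zero_quot R t ht
  have hft0 : Algebra.FiniteType (R ⧸ Ideal.span {t}) (T ⧸ m) :=
    Algebra.FiniteType.of_restrictScalars_finiteType R (R ⧸ Ideal.span {t}) (T ⧸ m)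
  have hfin0 : Module.Finite (R ⧸ Ideal.span {t}) (T ⧸ m) :=
    finite_of_finite_type_of_isJacobsonRing (R ⧸ Ideal.span {t}) (T ⧸ m)
  have hint0 : Algebra.IsIntegral (R ⧸ Ideal.span {t}) (T ⧸ m) := inferInstance
  have hint1 : Algebra.IsIntegral R (R ⧸ Ideal.span {t}) :=
    Algebra.isIntegral_of_surjective Ideal.Quotient.mk_surjective
  exact Algebra.IsIntegral.trans (R ⧸ Ideal.span {t})

include ht in
theorem isAlgClosed_residueField_Rbar [IsAdicComplete (Ideal.span {t}) R] :
    haveI := isLocalRing_Rbar R t ht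
    IsAlgClosed (IsLocalRing.ResidueField (Rbar R)) := by
  haveI := isLocalRing_Rbar R t ht
  apply IsAlgClosed.of_exists_root
  intro p hp hirr
  have hsurj : Function.Surjective (IsLocalRing.residue (Rbar R)) :=
    IsLocalRing.residue_surjective
  have hlift : p ∈ Polynomial.lifts (IsLocalRing.residue (Rbar R)) :=
    (Polynomial.mem_lifts p).mpr (Polynomial.map_surjective _ hsurj p)
  obtain ⟨q, hq, hqdeg, hqm⟩ := Polynomial.lifts_and_natDegree_eq_and_monic hlift hp
  have hdeg : q.natDegree ≠ 0 := by
    rw [hqdeg]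
    exact (Polynomial.natDegree_pos_iff_degree_pos.mpr
      (Polynomial.degree_pos_of_irreducible hirr)).ne'
  obtain ⟨z, hz⟩ := exists_root_Rbar R q hqm hdeg
  refine ⟨IsLocalRing.residue _ z, ?_⟩
  rw [← hq, Polynomial.eval_map, Polynomial.eval₂_hom, hz, map_zero]

include ht in
theorem exists_residue_embedding [IsAdicComplete (Ideal.span {t}) R]
    (m : Ideal (RPow R (Ideal.span {t}) n)) [hmax : m.IsMaximal]
    (hm : algebraMap R (RPow R (Ideal.span {t}) n) t ∈ m) :
    haveI := isLocalRing_Rbar R t ht
    ∃ (σ : (RPow R (Ideal.span {t}) n ⧸ m) →+* IsLocalRing.ResidueField (Rbar R)),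
      ∀ r : R, σ (algebraMap R (RPow R (Ideal.span {t}) n ⧸ m) r) =
        IsLocalRing.residue (Rbar R) (algebraMap R (Rbar R) r) := by
  haveI := isLocalRing_Rbar R t ht
  set T := RPow R (Ideal.span {t}) n with hT
  letI : Field (T ⧸ m) := Ideal.Quotient.field m
  have hint : Algebra.IsIntegral R (T ⧸ m) := isIntegral_quot_maximal R t ht n m hm
  have hclosed : IsAlgClosed (IsLocalRing.ResidueField (Rbar R)) :=
    isAlgClosed_residueField_Rbar R t ht
  have hinj : Function.Injective (algebraMap R (Rbar R)) := by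
    intro a b hab
    have h1 : algebraMap R (AlgebraicClosure (FractionRing R)) a =
        algebraMap R (AlgebraicClosure (FractionRing R)) b := congrArg Subtype.val hab
    rw [IsScalarTower.algebraMap_apply R (FractionRing R) (AlgebraicClosure (FractionRing R)),
      IsScalarTower.algebraMap_apply R (FractionRing R) (AlgebraicClosure (FractionRing R))] at h1
    exact IsFractionRing.injective R (FractionRing R) ((algebraMap (FractionRing R)
      (AlgebraicClosure (FractionRing R))).injective h1)
  have hfaith : FaithfulSMul R (Rbar R) := (faithfulSMul_iff_algebraMap_injective R _).mpr hinj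
  have halg : Algebra.IsAlgebraic (IsLocalRing.ResidueField R) (T ⧸ m) := by
    constructor
    intro y
    exact ((hint.isIntegral y).tower_top (A := IsLocalRing.ResidueField R)).isAlgebraic
  let σ₀ : (T ⧸ m) →ₐ[IsLocalRing.ResidueField R] IsLocalRing.ResidueField (Rbar R) :=
    IsAlgClosed.lift
  refine ⟨σ₀.toRingHom, fun r => ?_⟩
  change σ₀ (algebraMap R (T ⧸ m) r) = _
  rw [IsScalarTower.algebraMap_apply R (IsLocalRing.ResidueField R) (T ⧸ m), σ₀.commutes]
  rfl

include ht in
theorem main11548 [IsAdicComplete (Ideal.span {t}) R]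
    (m : Ideal (AdicRing.RPow R (Ideal.span {t}) n)) [hmax : m.IsMaximal]
    (hm : algebraMap R (AdicRing.RPow R (Ideal.span {t}) n) t ∈ m) :
    ∃ p : Ideal (AdicRing.RPow R (Ideal.span {t}) n), p.IsPrime ∧ p ≤ m ∧
      algebraMap R (AdicRing.RPow R (Ideal.span {t}) n) t ∉ p ∧
      ringKrullDim (AdicRing.RPow R (Ideal.span {t}) n ⧸ p) = 1 := by
  classical
  have htu : ¬ IsUnit t := not_isUnit_of_complete t inferInstance
  haveI := isLocalRing_Rbar R t ht
  have hI : (Ideal.span {t}).FG := ⟨{t}, by simp⟩
  have hbase : IsBase R (Ideal.span {t}) := isBase_of_valuationRing R t ht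
  set T := RPow R (Ideal.span {t}) n with hT
  set Ω := AlgebraicClosure (FractionRing R) with hΩ
  obtain ⟨σ, hσ⟩ := exists_residue_embedding R t ht n m hm
  letI : Field (T ⧸ m) := Ideal.Quotient.field m
  -- lifts of the coordinates
  have hz : ∀ i : Fin n, ∃ z : Rbar R, IsLocalRing.residue (Rbar R) z =
      σ (Ideal.Quotient.mk m (ιR (Ideal.span {t}) n (MvPolynomial.X i))) :=
    fun i => IsLocalRing.residue_surjective _
  choose z hz using hz
  -- the finite `R`-algebra generated by them
  let D : Subalgebra R Ω := Algebra.adjoin R (Set.range fun i => ((z i : Rbar R) : Ω))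
  have hDle : D ≤ Rbar R := by
    apply Algebra.adjoin_le
    rintro _ ⟨i, rfl⟩
    exact (z i).2
  have hDfin : Module.Finite R ↥D :=
    Algebra.finite_adjoin_of_finite_of_isIntegral (Set.finite_range _)
      (by rintro _ ⟨i, rfl⟩; exact (z i).2)
  have hDint : Algebra.IsIntegral R ↥D := Algebra.IsIntegral.of_finite R ↥D
  have hinjΩ : Function.Injective (algebraMap R Ω) := by
    rw [IsScalarTower.algebraMap_eq R (FractionRing R) Ω]
    exact (algebraMap (FractionRing R) Ω).injective.comp (IsFractionRing.injective R _)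
  have hinjD : Function.Injective (algebraMap R ↥D) := by
    intro a b hab
    exact hinjΩ (congrArg Subtype.val hab)
  -- completeness of `D`
  have htftR : TopFiniteType R (Ideal.span {t}) R := by
    have hc : IsAdicComplete ((Ideal.span {t}).map (algebraMap R R)) R := by
      rw [Algebra.algebraMap_self, Ideal.map_id]
      infer_instance
    refine tft_of_finiteType_quot (Ideal.span {t}) hI ?_
    exact Algebra.FiniteType.of_surjective (Algebra.ofId R _) Ideal.Quotient.mk_surjective
  have hDc : IsAdicComplete (Ideal.span {t}) ↥D := main11529 R _ hbase R htftR ↥D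
  have hDc' : IsAdicComplete ((Ideal.span {t}).map (algebraMap R ↥D)) ↥D :=
    (IsAdicComplete.map_algebraMap_iff _ _).mpr hDc
  let c : Fin n → ↥D := fun i => ⟨(z i : Ω), Algebra.subset_adjoin ⟨i, rfl⟩⟩
  let ev : T →ₐ[R] ↥D := rpowLift (Ideal.span {t}) c
  have hev : ∀ q : MvPolynomial (Fin n) R, ev (ιR (Ideal.span {t}) n q) = MvPolynomial.aeval c q :=
    rpowLift_ι (Ideal.span {t}) c
  -- surjectivity of `ev`
  have hevsurj : Function.Surjective ev := by
    refine rpowLift_surjective (Ideal.span {t}) c hI ?_
    intro x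
    have hx : (x : Ω) ∈ (MvPolynomial.aeval (R := R) fun i => ((z i : Rbar R) : Ω)).range := by
      rw [← Algebra.adjoin_range_eq_range_aeval]
      exact x.2
    obtain ⟨q, hq⟩ := hx
    refine ⟨q, ?_⟩
    have : x = MvPolynomial.aeval c q := by
      apply Subtype.ext
      rw [← hq]
      have h9 := MvPolynomial.comp_aeval_apply (f := c) D.val q
      exact h9.symm
    rw [this, sub_self]
    exact Ideal.zero_mem _
  refine ⟨RingHom.ker ev.toRingHom, RingHom.ker_isPrime _, ?_, ?_, ?_⟩
  · -- `ker ev ≤ m`
    let ρ : ↥D →+* IsLocalRing.ResidueField (Rbar R) :=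
      (IsLocalRing.residue (Rbar R)).comp (Subalgebra.inclusion hDle).toRingHom
    have hρt : ρ (algebraMap R ↥D t) = 0 := by
      change IsLocalRing.residue (Rbar R) (algebraMap R (Rbar R) t) = 0
      rw [← hσ t]
      have : algebraMap R (T ⧸ m) t = 0 := by
        rw [IsScalarTower.algebraMap_apply R T (T ⧸ m), Ideal.Quotient.algebraMap_eq,
          Ideal.Quotient.eq_zero_iff_mem]
        exact hm
      rw [this, map_zero]
    have hpoly : ∀ q : MvPolynomial (Fin n) R,
        ρ (MvPolynomial.aeval c q) = σ (Ideal.Quotient.mk m (ιR (Ideal.span {t}) n q)) := by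
      intro q
      have : ρ.comp (MvPolynomial.aeval c : MvPolynomial (Fin n) R →ₐ[R] ↥D).toRingHom =
          σ.comp ((Ideal.Quotient.mk m).comp (ιR (Ideal.span {t}) n).toRingHom) := by
        apply MvPolynomial.ringHom_ext
        · intro r
          change ρ (MvPolynomial.aeval c (MvPolynomial.C r)) =
            σ (Ideal.Quotient.mk m (ιR (Ideal.span {t}) n (MvPolynomial.C r)))
          have h1 : MvPolynomial.aeval c (MvPolynomial.C r : MvPolynomial (Fin n) R) =
              algebraMap R ↥D r := by simp
          have h2 : ιR (Ideal.span {t}) n (MvPolynomial.C r) = algebraMap R T r := by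
            have := (ιR (Ideal.span {t}) n).commutes r
            rwa [MvPolynomial.algebraMap_eq] at this
          rw [h1, h2]
          have : Ideal.Quotient.mk m (algebraMap R T r) = algebraMap R (T ⧸ m) r := rfl
          rw [this, hσ r]
          rfl
        · intro i
          change ρ (MvPolynomial.aeval c (MvPolynomial.X i)) =
            σ (Ideal.Quotient.mk m (ιR (Ideal.span {t}) n (MvPolynomial.X i)))
          rw [MvPolynomial.aeval_X, ← hz i]
          rfl
      exact congrFun (congrArg DFunLike.coe this) q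
    intro x hx
    have hx0 : ev x = 0 := hx
    obtain ⟨q, hq⟩ := exists_poly_sub_mem (Ideal.span {t}) n hI 1 x
    rw [pow_one] at hq
    have hmem : x - ιR (Ideal.span {t}) n q ∈ m := by
      have hle : (Ideal.span {t}).map (algebraMap R T) ≤ m := by
        rw [Ideal.map_le_iff_le_comap, Ideal.span_le, Set.singleton_subset_iff]
        exact hm
      exact hle hq
    -- `ρ (ev (x - ι q)) = 0`
    have h1 : ρ (ev (x - ιR (Ideal.span {t}) n q)) = 0 := by
      have h2 := Ideal.mem_map_of_mem ev.toRingHom hq
      rw [Ideal.map_map] at h2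
      have h3 : ev.toRingHom.comp (algebraMap R T) = algebraMap R ↥D :=
        RingHom.ext fun r => ev.commutes r
      rw [h3, Ideal.map_span, Set.image_singleton, Ideal.mem_span_singleton'] at h2
      obtain ⟨w, hw⟩ := h2
      change ρ (ev.toRingHom (x - ιR (Ideal.span {t}) n q)) = 0
      rw [← hw, map_mul, hρt, mul_zero]
    rw [map_sub, hx0, zero_sub, map_neg, neg_eq_zero, hev, hpoly] at h1
    have h4 : Ideal.Quotient.mk m (ιR (Ideal.span {t}) n q) = 0 :=
      (map_eq_zero_iff σ σ.injective).mp h1
    rw [Ideal.Quotient.eq_zero_iff_mem] at h4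
    have : x = (x - ιR (Ideal.span {t}) n q) + ιR (Ideal.span {t}) n q := by ring
    rw [this]
    exact m.add_mem hmem h4
  · intro h
    have h1 : ev (algebraMap R T t) = 0 := h
    rw [ev.commutes] at h1
    exact ht (hinjD (by rw [h1, map_zero]))
  · have e : (T ⧸ RingHom.ker ev.toRingHom) ≃+* ↥D :=
      RingHom.quotientKerEquivOfSurjective hevsurj
    rw [ringKrullDim_eq_of_ringEquiv e,
      Groth.Agent.Helper7.IntDim.ringKrullDim_eq_of_isIntegral_of_injective hinjD]
    exact ringKrullDim_eq_one_of_not_isUnit R t ht htu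

end

end Groth.Agent.Helper17.VR
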