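import Mathlib
import Groth.Agent.Lib.Helper17.VR3

/-!
# S11544: integrality via the norm over a complete valuation ring of height one (helper17)
-/

set_option autoImplicit false

universe u

namespace Groth.Agent.Helper17.VR

open Groth.Agent.Helper17.AR Polynomial

theorem main11544
    (R : Type u) [CommRing R] [IsDomain R] [ValuationRing R] [Ring.KrullDimLE 1 R]
    (t : R) (ht : t ≠ 0) [IsAdicComplete (Ideal.span {t}) R]
    (L : Type u) [Field L] [Algebra R L] [Algebra (FractionRing R) L]
    [IsScalarTower R (FractionRing R) L] [Algebra.IsAlgebraic (FractionRing R) L] (α : L) :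
    IsIntegral R α ↔
      Algebra.norm (FractionRing R) (IntermediateField.AdjoinSimple.gen (FractionRing R) α) ∈
        (algebraMap R (FractionRing R)).range := by
  have htu : ¬ IsUnit t := not_isUnit_of_complete t inferInstance
  set K := FractionRing R with hK
  letI := nnfInst R K t ht htu
  have : CompleteSpace K := completeSpace R K t ht htu
  have hαK : IsIntegral K α := (Algebra.IsAlgebraic.isAlgebraic α).isIntegral
  rw [isIntegral_iff_spectralNorm_le_one R K t ht htu L,
    spectralNorm.spectralNorm_eq_norm_coeff_zero_rpow K L α]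
  have hd : 0 < (minpoly K α).natDegree := minpoly.natDegree_pos hαK
  have hdR : (0 : ℝ) < 1 / ((minpoly K α).natDegree : ℝ) := by positivity
  have h1 : ‖(minpoly K α).coeff 0‖ ^ (1 / ((minpoly K α).natDegree : ℝ)) ≤ 1 ↔
      ‖(minpoly K α).coeff 0‖ ≤ 1 := by
    constructor
    · intro h
      by_contra hcon
      push Not at hcon
      exact absurd h (not_le.mpr (Real.one_lt_rpow hcon hdR))
    · intro h
      exact Real.rpow_le_one (norm_nonneg _) h hdR.le
  rw [h1, norm_le_one_iff R K t ht htu]
  have hnorm : Algebra.norm K (IntermediateField.AdjoinSimple.gen K α) =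
      (-1) ^ (minpoly K α).natDegree * (minpoly K α).coeff 0 := by
    have h2 := Algebra.PowerBasis.norm_gen_eq_coeff_zero_minpoly
      (IntermediateField.adjoin.powerBasis hαK)
    rw [IntermediateField.adjoin.powerBasis_gen, IntermediateField.adjoin.powerBasis_dim,
      IntermediateField.minpoly_gen] at h2
    exact h2
  rw [hnorm]
  constructor
  · rintro ⟨a, ha⟩
    refine ⟨(-1) ^ (minpoly K α).natDegree * a, ?_⟩
    rw [map_mul, map_pow, map_neg, map_one, ha]
  · rintro ⟨a, ha⟩
    refine ⟨(-1) ^ (minpoly K α).natDegree * a, ?_⟩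
    rw [map_mul, map_pow, map_neg, map_one, ha, ← mul_assoc, ← mul_pow]
    simp

end Groth.Agent.Helper17.VR
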