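import Mathlib
import Groth.Agent.Lib.Helper17.VR6
import Groth.Agent.Lib.Helper17.AR17

/-!
# S11542 (helper17)
-/

set_option autoImplicit false

universe u

namespace Groth.Agent.Helper17.VR

open Groth.Agent.Helper17.AR Polynomial AdicRing

/-- the inverse of a unit which is integral over `R` is a polynomial in the unit -/
theorem exists_aeval_eq_of_isIntegral_inv {R B : Type u} [CommRing R] [CommRing B] [Algebra R B]
    (x v : B) (hxv : x * v = 1) (hv : IsIntegral R v) :
    ∃ r : Polynomial R, v = Polynomial.aeval x r := by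
  obtain ⟨p, hp, hpv⟩ := hv
  have hinv : Invertible v := ⟨x, hxv, by rw [mul_comm]; exact hxv⟩
  have hx : ⅟v = x := invOf_eq_right_inv (by rw [mul_comm]; exact hxv)
  have h1 := Polynomial.eval₂_reverse_mul_pow (algebraMap R B) v p
  rw [hpv, hx] at h1
  have hunit : IsUnit (v ^ p.natDegree) := (isUnit_of_invertible v).pow _
  have h2 : Polynomial.eval₂ (algebraMap R B) x p.reverse = 0 :=
    hunit.mul_left_eq_zero.mp h1
  have h3 : p.reverse = p.reverse.divX * Polynomial.X + Polynomial.C 1 := by
    have := Polynomial.divX_mul_X_add p.reverse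
    rw [Polynomial.coeff_zero_reverse, hp.leadingCoeff] at this
    exact this.symm
  rw [h3, Polynomial.eval₂_add, Polynomial.eval₂_mul, Polynomial.eval₂_X, Polynomial.eval₂_C,
    map_one] at h2
  refine ⟨-p.reverse.divX, ?_⟩
  rw [map_neg, Polynomial.aeval_def]
  have h4 : Polynomial.eval₂ (algebraMap R B) x p.reverse.divX * x = -1 :=
    eq_neg_of_add_eq_zero_left h2
  calc v = -(-1 * v) := by ring
    _ = -(Polynomial.eval₂ (algebraMap R B) x p.reverse.divX * x * v) := by rw [h4]
    _ = -(Polynomial.eval₂ (algebraMap R B) x p.reverse.divX) := by rw [mul_assoc, hxv, mul_one]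

theorem main11542_aux
    (R : Type u) [CommRing R] [IsDomain R] [ValuationRing R] [Ring.KrullDimLE 1 R]
    (t : R) (htu : ¬ IsUnit t) (I : Ideal R) (hIdef : I = Ideal.span {t})
    (A : Type u) [CommRing A] [Algebra R A] (f : A)
    (B : Type u) [CommRing B] [Algebra R B] [IsDomain B] [IsLocalRing B]
    (hfin : Module.Finite R B)
    (u : AdicRing.CLoc I f →ₐ[R] B) (hu : Function.Surjective u) :
    Function.Surjective
      (u.toRingHom.comp (algebraMap A (AdicRing.CLoc I f))) := by
  have hint : Algebra.IsIntegral R B := Algebra.IsIntegral.of_finite R B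
  have hI : I.FG := ⟨{t}, by simp [hIdef]⟩
  set φ : A →+* B := u.toRingHom.comp (algebraMap A (CLoc I f)) with hφ
  have hφR : ∀ r : R, φ (algebraMap R A r) = algebraMap R B r := by
    intro r
    change u (algebraMap A (CLoc I f) (algebraMap R A r)) = _
    rw [← IsScalarTower.algebraMap_apply R A (CLoc I f), u.commutes]
  have hof' : ∀ q : Localization.Away f, (AdicCompletion.of _ _ q : CLoc I f) =
      algebraMap (Localization.Away f) (CLoc I f) q := fun q => rfl
  have hof : ∀ a : A, algebraMap A (CLoc I f) a =
      algebraMap (Localization.Away f) (CLoc I f) (algebraMap A (Localization.Away f) a) :=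
    fun a => IsScalarTower.algebraMap_apply A (Localization.Away f) (CLoc I f) a
  have hunit : IsUnit (φ f) := by
    have h1 : IsUnit (algebraMap A (Localization.Away f) f) :=
      IsLocalization.Away.algebraMap_isUnit f
    have h2 : IsUnit (algebraMap A (CLoc I f) f) := by
      rw [hof]
      exact h1.map (algebraMap (Localization.Away f) (CLoc I f))
    exact h2.map u
  obtain ⟨v, hv⟩ := hunit.exists_right_inv
  -- `v` lies in the range of `φ`
  have hvC : ∃ a : A, φ a = v := by
    obtain ⟨r, hr⟩ := exists_aeval_eq_of_isIntegral_inv (φ f) v hv (hint.isIntegral v)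
    refine ⟨Polynomial.aeval f r, ?_⟩
    rw [hr, Polynomial.aeval_def, Polynomial.aeval_def, Polynomial.hom_eval₂]
    congr 1
    ext r'
    exact hφR r'
  obtain ⟨av, hav⟩ := hvC
  -- the range of `φ` as an `R`-submodule
  let C' : Submodule R B :=
    { carrier := Set.range φ
      add_mem' := by
        rintro _ _ ⟨a, rfl⟩ ⟨b, rfl⟩
        exact ⟨a + b, map_add φ a b⟩
      zero_mem' := ⟨0, map_zero φ⟩
      smul_mem' := by
        rintro r _ ⟨a, rfl⟩
        refine ⟨algebraMap R A r * a, ?_⟩
        rw [map_mul, hφR, Algebra.smul_def] }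
  have hle : (⊤ : Submodule R B) ≤ C' ⊔ I • (⊤ : Submodule R B) := by
    intro b _
    obtain ⟨z, rfl⟩ := hu b
    obtain ⟨q, hq⟩ := cpl_exists_sub_mem hI 1 z
    have hz : u z = u (AdicCompletion.of _ _ q) + u (z - AdicCompletion.of _ _ q) := by
      rw [← map_add]
      congr 1
      ring
    rw [hz]
    apply Submodule.add_mem_sup
    · -- `q = a / f ^ k`
      obtain ⟨⟨a, s⟩, hqs⟩ := IsLocalization.surj (Submonoid.powers f) q
      obtain ⟨k, hk⟩ := s.2
      change q * algebraMap A (Localization.Away f) s = algebraMap A (Localization.Away f) a at hqs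
      rw [← hk, map_pow] at hqs
      have h1 : u (AdicCompletion.of _ _ q) * (φ f) ^ k = φ a := by
        change u (AdicCompletion.of _ _ q) * (u (algebraMap A (CLoc I f) f)) ^ k =
          u (algebraMap A (CLoc I f) a)
        rw [hof, hof, hof', ← map_pow, ← map_pow, ← map_mul, ← map_mul, hqs]
      have h2 : u (AdicCompletion.of _ _ q) = φ (a * av ^ k) := by
        rw [map_mul, map_pow, hav, ← h1, mul_assoc, ← mul_pow, hv, one_pow, mul_one]
      exact ⟨a * av ^ k, h2.symm⟩
    · rw [pow_one] at hq
      rw [mem_smul_top_iff_mem_map]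
      have h1 := Ideal.mem_map_of_mem u.toRingHom hq
      rw [Ideal.map_map] at h1
      have h2 : u.toRingHom.comp (algebraMap R (CLoc I f)) = algebraMap R B := by
        ext r
        exact u.commutes r
      rw [h2] at h1
      exact h1
  have hJ : I ≤ Ideal.jacobson (⊥ : Ideal R) := by
    rw [IsLocalRing.jacobson_eq_maximalIdeal ⊥ bot_ne_top, hIdef, Ideal.span_le,
      Set.singleton_subset_iff]
    exact htu
  have htop := Submodule.le_of_le_smul_of_le_jacobson_bot (N := C') hfin.fg_top hJ hle
  intro b
  exact htop (Submodule.mem_top : b ∈ (⊤ : Submodule R B))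

theorem main11542
    (R : Type u) [CommRing R] [IsDomain R] [ValuationRing R] [Ring.KrullDimLE 1 R]
    (t : R) (ht : t ≠ 0) [IsAdicComplete (Ideal.span {t}) R]
    (A : Type u) [CommRing A] [Algebra R A] (hA : AdicRing.Admissible R (Ideal.span {t}) A) (f : A)
    (B : Type u) [CommRing B] [Algebra R B] [IsDomain B] [IsLocalRing B]
    (hB : AdicRing.Admissible R (Ideal.span {t}) B) (hdim : ringKrullDim B = 1)
    (u : AdicRing.CLoc (Ideal.span {t}) f →ₐ[R] B) (hu : Function.Surjective u) :
    Function.Surjective
      (u.toRingHom.comp (algebraMap A (AdicRing.CLoc (Ideal.span {t}) f))) := by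
  have htu : ¬ IsUnit t := not_isUnit_of_complete t inferInstance
  have hfin : Module.Finite R B := finite_of_admissible_local_dim_one R t ht B hB hdim
  exact main11542_aux R t htu (Ideal.span {t}) rfl A f B hfin u hu

end Groth.Agent.Helper17.VR
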